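import Mathlib
import Cfsg.Agent.H11.A16N

/-!
# The model: the centraliser of a fixed point free involution of the symmetric group of degree 16
-/

set_option autoImplicit false
set_option maxRecDepth 100000
set_option synthInstance.maxSize 2000

namespace Cfsg.Agent.H17.Kn

open Equiv Finset Cfsg.Agent.H11.A16

/-- Signed permutations of the eight pairs. -/
@[ext] structure N2 where
  σ : Perm P
  f : P → ZMod 2

instance : Group N2 where
  mul a b := ⟨a.σ * b.σ, fun p => b.f p + a.f (b.σ p)⟩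
  one := ⟨1, fun _ => 0⟩
  inv a := ⟨a.σ⁻¹, fun p => a.f (a.σ⁻¹ p)⟩
  mul_assoc a b c := N2.ext (mul_assoc a.σ b.σ c.σ) (funext fun p => (add_assoc _ _ _).symm)
  one_mul a := N2.ext (one_mul a.σ) (funext fun p => add_zero _)
  mul_one a := N2.ext (mul_one a.σ) (funext fun p => zero_add _)
  inv_mul_cancel a := N2.ext (inv_mul_cancel a.σ) (funext fun p => by
    change a.f p + a.f (a.σ⁻¹ (a.σ p)) = 0
    rw [inv_app, z2add])

namespace N2
@[simp] theorem mul_σ (a b : N2) : (a * b).σ = a.σ * b.σ := rfl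
@[simp] theorem mul_f (a b : N2) (p : P) : (a * b).f p = b.f p + a.f (b.σ p) := rfl
@[simp] theorem one_σ : (1 : N2).σ = 1 := rfl
@[simp] theorem one_f (p : P) : (1 : N2).f p = 0 := rfl
@[simp] theorem inv_σ (a : N2) : a⁻¹.σ = a.σ⁻¹ := rfl
@[simp] theorem inv_f (a : N2) (p : P) : a⁻¹.f p = a.f (a.σ⁻¹ p) := rfl
end N2

instance : DecidableEq N2 := fun a b =>
  decidable_of_iff (∀ p, a.σ p = b.σ p ∧ a.f p = b.f p)
    ⟨fun h => N2.ext (Equiv.ext fun p => (h p).1) (funext fun p => (h p).2),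
      fun h _ => h ▸ ⟨rfl, rfl⟩⟩

instance : Finite N2 := Finite.of_injective (fun a : N2 => (a.σ, a.f)) fun _ _ h =>
  N2.ext (congrArg Prod.fst h) (congrArg Prod.snd h)

instance (a b : N2) : Decidable (Commute a b) := inferInstanceAs (Decidable (a * b = b * a))

/-- The permutation of the pairs. -/
def π2 : N2 →* Perm P := MonoidHom.mk' N2.σ fun _ _ => rfl

/-- The section without signs. -/
def sec2 : Perm P →* N2 :=
  MonoidHom.mk' (fun σ => ⟨σ, fun _ => 0⟩) fun _ _ => N2.ext rfl (funext fun _ => rfl)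

/-- The even signed permutations as signed permutations. -/
def em : M →* N2 := MonoidHom.mk' (fun u => ⟨u.σ, u.f⟩) fun _ _ => rfl

/-- The action on the sixteen points. -/
def pm2 : N2 →* Perm Ω :=
  MonoidHom.mk' (fun u => H19.Kd.sp u.σ u.f) fun _ _ => (H19.Kd.sp_mul ..).symm

theorem pm2_apply (u : N2) (p : P) (e : ZMod 2) : pm2 u (p, e) = (u.σ p, e + u.f p) := rfl

theorem pm2_inj : Function.Injective pm2 := fun _ _ h =>
  N2.ext (H19.Kd.sp_inj h).1 (H19.Kd.sp_inj h).2

/-- The parity of the number of signs. -/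
def par (u : N2) : ZMod 2 := ∑ p, u.f p

theorem par_mul (a b : N2) : par (a * b) = par a + par b := by
  simp only [par, N2.mul_f]
  rw [sum_add_distrib, Equiv.sum_comp b.σ a.f, add_comm]

/-- The number of pairs that are not fixed pointwise. -/
def ty (u : N2) : ℕ := (univ.filter fun p => u.σ p ≠ p ∨ u.f p ≠ 0).card

/-! ### Elements -/

/-- A constant sign change. -/
def zp (c : ZMod 2) : N2 := ⟨1, fun _ => c⟩
/-- The central involution. -/
def z2 : N2 := zp 1
/-- One sign change. -/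
def dl (p : P) : N2 := ⟨1, fun r => if r = p then 1 else 0⟩
/-- The exchange of two pairs. -/
def tp (p q : P) : N2 := sec2 (swap p q)
/-- The exchange of the last two pairs. -/
def f0 : N2 := tp 6 7
/-- The sign change of the last two pairs. -/
def e34 : N2 := dl 6 * dl 7
/-- The elements of the four-group of a block. -/
def wb (i k : Fin 4) : N2 := em (w i k)
/-- A binary digit. -/
def bit (p : P) (i : Fin 3) : ZMod 2 := if p.1.testBit i.1 then 1 else 0
/-- A power of two. -/
def pw (i : Fin 3) : P := ![1, 2, 4] i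
/-- Digit `j` is added to digit `i`. -/
def lf (i j : Fin 3) (p : P) : P := if i ≠ j ∧ p.1.testBit j.1 then p ^^^ pw i else p
/-- Digit `j` is added to digit `i`. -/
def lx (i j : Fin 3) : Perm P := Function.Involutive.toPerm (lf i j) fun p => by
  revert i j p; decide
/-- The digit that belongs to a coordinate. -/
def d3 (i : Fin 5) : Fin 3 := ![0, 0, 1, 2, 0] i
/-- The elementary matrix that adds coordinate `j` to coordinate `i`: coordinate 0 is the sign,
coordinates 1, 2, 3 are the digits of the pair, coordinate 4 is the constant 1. -/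
def xe (i j : Fin 5) : N2 :=
  if i = 4 ∨ j = 0 then 1 else if i = 0 then (if j = 4 then z2 else ⟨1, fun p => bit p (d3 j)⟩)
  else if j = 4 then sec2 (x (pw (d3 i))) else sec2 (lx (d3 i) (d3 j))
/-- The involution of rank two in the centre of `UU`. -/
def v0 : N2 := xe 0 3 * xe 1 4
/-- The coefficient of the quadratic monomial without digit `a`. -/
def cf (a : Fin 3) (e : N2) : ZMod 2 := ∑ p, if p.1.testBit a.1 then 0 else e.f p
/-- A linear combination of the three coefficients. -/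
def ch (l : Fin 3 → ZMod 2) (e : N2) : ZMod 2 := l 0 * cf 0 e + l 1 * cf 1 e + l 2 * cf 2 e
/-- A coordinate of a point. -/
def co (y : Ω) (i : Fin 5) : ZMod 2 := if i = 0 then y.2 else if i = 4 then 1 else bit y.1 (d3 i)
/-- A matrix entry of an affine map. -/
def en (u : N2) (i j : Fin 5) : ZMod 2 :=
  if j = 4 then co (pm2 u (0, 0)) i
  else co (pm2 u (if j = 0 then (0, 1) else (pw (d3 j), 0))) i + co (pm2 u (0, 0)) i
/-- An elementary matrix or the identity. -/
def xc (c : ZMod 2) (i j : Fin 5) : N2 := if c = 0 then 1 else xe i j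
/-- The unitriangular matrix with given entries. -/
def ut (c : Fin 5 → Fin 5 → ZMod 2) : N2 :=
  xc (c 0 4) 0 4 * xc (c 1 4) 1 4 * xc (c 2 4) 2 4 * xc (c 3 4) 3 4 * xc (c 0 3) 0 3 *
    xc (c 1 3) 1 3 * xc (c 2 3) 2 3 * xc (c 0 2) 0 2 * xc (c 1 2) 1 2 * xc (c 0 1) 0 1
/-- The graph automorphism of `T0`. -/
def gm (u : N2) : N2 := ut fun i j => en u⁻¹ (4 - j) (4 - i)

/-! ### Subgroups of the symmetric group on the pairs -/

/-- The translations. -/
def TR : Subgroup (Perm P) where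
  carrier := {σ | ∀ p, σ p = p ^^^ σ 0}
  one_mem' := by intro p; revert p; decide
  mul_mem' := fun {a b} ha hb p => by
    rw [Perm.mul_apply, Perm.mul_apply, ha (b p), ha (b 0), hb p]
    generalize a 0 = s; generalize b 0 = t; revert p s t; decide
  inv_mem' := fun {a} ha p => by
    have h1 := ha (a⁻¹ p); have h2 := ha (a⁻¹ 0)
    rw [app_inv] at h1 h2
    revert h1 h2; generalize a 0 = s; generalize a⁻¹ p = t; generalize a⁻¹ 0 = r
    revert p s t r; decide

/-- The affine permutations. -/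
def AG : Subgroup (Perm P) where
  carrier := {σ | ∀ p q r, σ (p ^^^ q ^^^ r) = σ p ^^^ σ q ^^^ σ r}
  one_mem' := fun _ _ _ => rfl
  mul_mem' := fun {a b} ha hb p q r => by simp only [Perm.mul_apply]; rw [hb, ha]
  inv_mem' := fun {a} ha p q r => a.injective (by rw [ha]; simp only [app_inv])

/-- The permutations that fix all blocks. -/
def BL : Subgroup (Perm P) := B.comap sec

/-- The permutations that act on the blocks as translations. -/
def TV : Subgroup (Perm P) where
  carrier := {σ | ∀ p, (σ p).1 / 2 = (p.1 / 2) ^^^ ((σ 0).1 / 2)}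
  one_mem' := by intro p; revert p; decide
  mul_mem' := fun {a b} ha hb p => by
    rw [Perm.mul_apply, Perm.mul_apply, ha (b p), ha (b 0), hb p, Nat.xor_assoc]
  inv_mem' := fun {a} ha p => by
    have h1 := ha (a⁻¹ p); have h2 := ha (a⁻¹ 0)
    rw [app_inv] at h1 h2
    revert h1 h2; generalize a 0 = s; generalize a⁻¹ p = t; generalize a⁻¹ 0 = r
    revert p s t r; decide +kernel

/-- The permutations that fix the two halves. -/
def HH : Subgroup (Perm P) where
  carrier := {σ | ∀ p, (σ p).1 / 4 = p.1 / 4}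
  one_mem' := fun _ => rfl
  mul_mem' := fun {a b} ha hb p => (ha (b p)).trans (hb p)
  inv_mem' := fun {a} ha p => by have := ha (a⁻¹ p); rw [app_inv] at this; exact this.symm

/-- The permutations that keep the last digit. -/
def EO : Subgroup (Perm P) where
  carrier := {σ | ∀ p, (σ p).1 % 2 = p.1 % 2}
  one_mem' := fun _ => rfl
  mul_mem' := fun {a b} ha hb p => (ha (b p)).trans (hb p)
  inv_mem' := fun {a} ha p => by have := ha (a⁻¹ p); rw [app_inv] at this; exact this.symm

/-! ### Subgroups of the model -/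

/-- All sign changes, of order `2 ^ 8`. -/
def PP : Subgroup N2 := π2.ker

/-- The even elements. -/
def EV : Subgroup N2 where
  carrier := {u | par u = 0}
  one_mem' := by simp [par]
  mul_mem' := fun {a b} ha hb => by
    rw [Set.mem_ofPred_eq, par_mul, show par a = 0 from ha, show par b = 0 from hb, add_zero]
  inv_mem' := fun {a} ha => (Equiv.sum_comp a.σ⁻¹ a.f).trans ha

/-- The elements with a constant sign. -/
def CF : Subgroup N2 where
  carrier := {u | ∀ p, u.f p = u.f 0}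
  one_mem' := fun _ => rfl
  mul_mem' := fun {a b} ha hb p => by
    rw [N2.mul_f, N2.mul_f, hb p, ha (b.σ p), ha (b.σ 0)]
  inv_mem' := fun {a} ha p => by rw [N2.inv_f, N2.inv_f, ha, ha (a.σ⁻¹ 0)]

/-- The elements without signs. -/
def SC : Subgroup N2 where
  carrier := {u | ∀ p, u.f p = 0}
  one_mem' := fun _ => rfl
  mul_mem' := fun {a b} ha hb p => by rw [N2.mul_f, hb, ha, add_zero]
  inv_mem' := fun {a} ha p => ha _

/-- The centraliser of the translation `xe 1 4`. -/
def FI : Subgroup N2 where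
  carrier := {u | (∀ p, u.σ (x 1 p) = x 1 (u.σ p)) ∧ ∀ p, u.f (x 1 p) = u.f p}
  one_mem' := ⟨fun _ => rfl, fun _ => rfl⟩
  mul_mem' := fun {a b} ha hb => ⟨fun p => by
    rw [N2.mul_σ, Perm.mul_apply, Perm.mul_apply, hb.1, ha.1], fun p => by
    rw [N2.mul_f, N2.mul_f, hb.2, hb.1, ha.2]⟩
  inv_mem' := fun {a} ha => by
    have k : ∀ p, a.σ⁻¹ (x 1 p) = x 1 (a.σ⁻¹ p) := fun p =>
      a.σ.injective (by rw [ha.1, app_inv, app_inv])
    exact ⟨k, fun p => by rw [N2.inv_f, N2.inv_f, k, ha.2]⟩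

/-- The stabiliser of the two points of a pair. -/
def FX (p : P) : Subgroup N2 where
  carrier := {u | u.σ p = p ∧ u.f p = 0}
  one_mem' := ⟨rfl, rfl⟩
  mul_mem' := fun {a b} ha hb => ⟨by rw [N2.mul_σ, Perm.mul_apply, hb.1, ha.1], by
    rw [N2.mul_f, hb.1, hb.2, ha.2, add_zero]⟩
  inv_mem' := fun {a} ha => by
    have k : a.σ⁻¹ p = p := by rw [Perm.inv_eq_iff_eq, ha.1]
    exact ⟨k, by rw [N2.inv_f, k, ha.2]⟩

/-- The centraliser of `z2` in the affine group, of order `2 ^ 7 * 168`. -/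
def QK : Subgroup N2 where
  carrier := {u | u.σ ∈ AG ∧ ∀ p q r, u.f (p ^^^ q ^^^ r) = u.f p + u.f q + u.f r}
  one_mem' := ⟨one_mem _, fun _ _ _ => rfl⟩
  mul_mem' := fun {a b} ha hb => ⟨mul_mem ha.1 hb.1, fun p q r => by
    simp only [N2.mul_f]; rw [hb.2, hb.1, ha.2]; ring⟩
  inv_mem' := fun {a} ha => ⟨inv_mem ha.1, fun p q r => by
    simp only [N2.inv_f]; rw [inv_mem ha.1, ha.2]⟩

/-- The product of the four dihedral groups of the blocks, of order `2 ^ 12`. -/
def JJ : Subgroup N2 := BL.comap π2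

theorem mem_JJ {u : N2} : u ∈ JJ ↔ ∀ p, u.σ p = p ∨ u.σ p = x 1 p := Iff.rfl

theorem JJ_x {u : N2} (h : u ∈ JJ) (p : P) : u.σ (x 1 p) = x 1 (u.σ p) :=
  B_x (u := sec u.σ) h p

/-- The elements of `JJ` whose component in block `i` lies in the four-group. -/
def JI (i : Fin 4) : Subgroup N2 where
  carrier := {u | u ∈ JJ ∧ u.f (x 1 (pa i)) = u.f (pa i)}
  one_mem' := ⟨one_mem _, rfl⟩
  mul_mem' := fun {a b} ha hb => ⟨mul_mem ha.1 hb.1, by
    rw [N2.mul_f, N2.mul_f, hb.2, JJ_x hb.1]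
    rcases mem_JJ.1 hb.1 (pa i) with e | e <;> rw [e]
    · rw [ha.2]
    · rw [xx, ha.2]⟩
  inv_mem' := fun {a} ha => ⟨inv_mem ha.1, by
    rw [N2.inv_f, N2.inv_f, ← N2.inv_σ, JJ_x (inv_mem ha.1)]
    rcases mem_JJ.1 (inv_mem ha.1) (pa i) with e | e <;> rw [e]
    · rw [ha.2]
    · rw [xx, ha.2]⟩

/-- The even sign changes, of order `2 ^ 7`. -/
def EE : Subgroup N2 := PP ⊓ EV
/-- The product of the four-groups of the blocks, of order `2 ^ 8`. -/
def FF : Subgroup N2 := JJ ⊓ FI
/-- A Sylow 2-subgroup, of order `2 ^ 15`. -/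
def S2 : Subgroup N2 := T'.comap π2
/-- Its even part, of order `2 ^ 14`. -/
def SE : Subgroup N2 := S2 ⊓ EV
/-- The translations of the sixteen points. -/
def AA : Subgroup N2 := TR.comap π2 ⊓ CF
/-- The affine sign changes, of order 16. -/
def AP : Subgroup N2 := QK ⊓ PP
/-- The product of `AA` and `EE`, of order `2 ^ 10`. -/
def AE : Subgroup N2 := TR.comap π2 ⊓ EV
/-- The extraspecial product of `AA` and `AP`. -/
def QQ : Subgroup N2 := TR.comap π2 ⊓ QK
/-- The product of `QK` and `EE`. -/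
def QE : Subgroup N2 := AG.comap π2 ⊓ EV
/-- The unitriangular group, of order `2 ^ 10`. -/
def T0 : Subgroup N2 := QK ⊓ S2
/-- The product of `T0` and `EE`, of order `2 ^ 13`. -/
def T1 : Subgroup N2 := QE ⊓ S2
/-- Generated by `xe i j`, `i ≤ 1`, `2 ≤ j`; of order 64. -/
def U1 : Subgroup N2 := T0 ⊓ FF
/-- The centre of `JJ`, of order 16. -/
def E1 : Subgroup N2 := EE ⊓ FF
/-- The product of `U1` and `E1`, of order 128. -/
def F1 : Subgroup N2 := T1 ⊓ FF
/-- Generated by `xe 0 4` and `xe 1 4`. -/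
def PI : Subgroup N2 := AA ⊓ FF
/-- Generated by `xe 2 4` and `xe 3 4`. -/
def VV : Subgroup N2 := (TR ⊓ EO).comap π2 ⊓ SC
/-- Generated by all `xe i j`, `i < j`, but `xe 0 1`; of order `2 ^ 9`. -/
def XX : Subgroup N2 := T0 ⊓ FI
/-- The product of `U1` and `VV`, of order `2 ^ 8`. -/
def DD : Subgroup N2 := XX ⊓ TV.comap π2
/-- The product of `FF` and `XX`, of order `2 ^ 11`. -/
def YY : Subgroup N2 := S2 ⊓ FI
/-- Generated by all `xe i j`, `i < j`, but `xe 0 1` and `xe 3 4`; of order `2 ^ 8`. -/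
def UU : Subgroup N2 := XX ⊓ HH.comap π2
/-- The product of the four-groups of the blocks 0, 1, 2; of order 64. -/
def DP : Subgroup N2 := FF ⊓ FX 6

instance (σ : Perm P) : Decidable (σ ∈ TR) := inferInstanceAs (Decidable (∀ _, _))
instance (σ : Perm P) : Decidable (σ ∈ AG) := inferInstanceAs (Decidable (∀ _ _ _, _))
instance (σ : Perm P) : Decidable (σ ∈ TV) := inferInstanceAs (Decidable (∀ _, _))
instance (σ : Perm P) : Decidable (σ ∈ HH) := inferInstanceAs (Decidable (∀ _, _))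
instance (σ : Perm P) : Decidable (σ ∈ EO) := inferInstanceAs (Decidable (∀ _, _))
instance (σ : Perm P) : Decidable (σ ∈ T') := inferInstanceAs (Decidable (_ ∧ _))
instance (u : N2) : Decidable (u ∈ PP) := inferInstanceAs (Decidable (u.σ = 1))
instance (u : N2) : Decidable (u ∈ EV) := inferInstanceAs (Decidable (par u = 0))
instance (u : N2) : Decidable (u ∈ CF) := inferInstanceAs (Decidable (∀ _, _))
instance (u : N2) : Decidable (u ∈ SC) := inferInstanceAs (Decidable (∀ _, _))
instance (u : N2) : Decidable (u ∈ FI) := inferInstanceAs (Decidable (_ ∧ _))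
instance (p : P) (u : N2) : Decidable (u ∈ FX p) := inferInstanceAs (Decidable (_ ∧ _))
instance (u : N2) : Decidable (u ∈ QK) := inferInstanceAs (Decidable (_ ∧ _))
instance (u : N2) : Decidable (u ∈ JJ) := decidable_of_iff _ mem_JJ.symm
instance (i : Fin 4) (u : N2) : Decidable (u ∈ JI i) := inferInstanceAs (Decidable (_ ∧ _))
instance (u : N2) : Decidable (u ∈ EE) := inferInstanceAs (Decidable (u ∈ PP ∧ u ∈ EV))
instance (u : N2) : Decidable (u ∈ FF) := inferInstanceAs (Decidable (u ∈ JJ ∧ u ∈ FI))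
instance (u : N2) : Decidable (u ∈ S2) := inferInstanceAs (Decidable (u.σ ∈ T'))
instance (u : N2) : Decidable (u ∈ SE) := inferInstanceAs (Decidable (u ∈ S2 ∧ u ∈ EV))
instance (u : N2) : Decidable (u ∈ AA) := inferInstanceAs (Decidable (u.σ ∈ TR ∧ u ∈ CF))
instance (u : N2) : Decidable (u ∈ AP) := inferInstanceAs (Decidable (u ∈ QK ∧ u ∈ PP))
instance (u : N2) : Decidable (u ∈ AE) := inferInstanceAs (Decidable (u.σ ∈ TR ∧ u ∈ EV))
instance (u : N2) : Decidable (u ∈ QQ) := inferInstanceAs (Decidable (u.σ ∈ TR ∧ u ∈ QK))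
instance (u : N2) : Decidable (u ∈ QE) := inferInstanceAs (Decidable (u.σ ∈ AG ∧ u ∈ EV))
instance (u : N2) : Decidable (u ∈ T0) := inferInstanceAs (Decidable (u ∈ QK ∧ u ∈ S2))
instance (u : N2) : Decidable (u ∈ T1) := inferInstanceAs (Decidable (u ∈ QE ∧ u ∈ S2))
instance (u : N2) : Decidable (u ∈ U1) := inferInstanceAs (Decidable (u ∈ T0 ∧ u ∈ FF))
instance (u : N2) : Decidable (u ∈ E1) := inferInstanceAs (Decidable (u ∈ EE ∧ u ∈ FF))
instance (u : N2) : Decidable (u ∈ F1) := inferInstanceAs (Decidable (u ∈ T1 ∧ u ∈ FF))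
instance (u : N2) : Decidable (u ∈ PI) := inferInstanceAs (Decidable (u ∈ AA ∧ u ∈ FF))
instance (u : N2) : Decidable (u ∈ VV) :=
  inferInstanceAs (Decidable ((u.σ ∈ TR ∧ u.σ ∈ EO) ∧ u ∈ SC))
instance (u : N2) : Decidable (u ∈ XX) := inferInstanceAs (Decidable (u ∈ T0 ∧ u ∈ FI))
instance (u : N2) : Decidable (u ∈ DD) := inferInstanceAs (Decidable (u ∈ XX ∧ u.σ ∈ TV))
instance (u : N2) : Decidable (u ∈ YY) := inferInstanceAs (Decidable (u ∈ S2 ∧ u ∈ FI))
instance (u : N2) : Decidable (u ∈ UU) := inferInstanceAs (Decidable (u ∈ XX ∧ u.σ ∈ HH))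
instance (u : N2) : Decidable (u ∈ DP) := inferInstanceAs (Decidable (u ∈ FF ∧ u ∈ FX 6))

/-- The elements of rank one of `T0`. -/
def tv (u : N2) : Prop := u ≠ 1 ∧ (u ∈ AA ∨ ty u = 4)

instance (u : N2) : Decidable (tv u) := inferInstanceAs (Decidable (_ ∧ _))

/-- The class number of a type, in the standard pattern (`false`) and its mirror image. -/
def cs (ε : Bool) (t : ℕ) : ℕ := if ε = true ∧ t % 2 = 1 then (9 - t) / 2 else (t + 1) / 2

/-! ### Permutations of the sixteen points -/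

/-- The point of a block with given last digit and sign. -/
def pt (p : P) (b e : ZMod 2) : Ω := (if b = bit p 0 then p else x 1 p, e)

/-- The exchange of the coordinates 0 and 1. -/
def s12 : Perm Ω := Function.Involutive.toPerm (fun y => pt y.1 y.2 (bit y.1 0))
  fun y => by revert y; decide

/-- A three-cycle in block `i`. -/
def tf (i : Fin 4) (y : Ω) : Ω := if y.1.1 / 2 = i.1 then pt y.1 y.2 (y.2 + bit y.1 0) else y

/-- A three-cycle in block `i`. -/
def th (i : Fin 4) : Perm Ω :=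
  ⟨tf i, fun y => tf i (tf i y), fun y => by revert i y; decide, fun y => by revert i y; decide⟩

/-- The affine group of the sixteen points. -/
def Aff : Subgroup (Perm Ω) := Subgroup.normalizer (AA.map pm2 : Set (Perm Ω))

example : xe 0 4 = z2 ∧ xe 1 3 * xe 2 3 * f0 * xe 2 3 = f0 ∧ gm (xe 0 1) = xe 3 4 ∧
    gm (xe 1 2) = xe 2 3 ∧ xe 1 2 ∈ U1 ∧ xe 2 3 ∈ UU ∧ xe 2 4 ∈ VV ∧ xe 3 4 ∈ DD ∧ f0 ∈ SE ∧
    cf 0 e34 = 1 ∧ ty v0 = 8 ∧ ¬ tv v0 ∧ tv (xe 1 2) ∧ wb 3 1 = f0 ∧ wb 2 2 ∈ DP ∧
    s12 * pm2 e34 * s12⁻¹ = pm2 f0 ∧ s12 * pm2 (xe 0 3) * s12⁻¹ = pm2 (xe 1 3) ∧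
    ∀ i k, th i * pm2 (wb i k) * (th i)⁻¹ = pm2 (wb i (ω k)) := by decide +kernel

end Cfsg.Agent.H17.Kn
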