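import Mathlib
import Cfsg.Prelude.Def_CaseTheorems
import Cfsg.Prelude.Def_Transfer
import Cfsg.Prelude.Def_Spor_Mathieu
import Cfsg.Agent.H8.GoldDefs
import Cfsg.Agent.H17.KnMod

/-!
# Groups with a 2-local subgroup of type `E16 : GL(4, 2)`: definitions and base statements
-/

set_option autoImplicit false

namespace Cfsg.Agent.H17.Kn

open Equiv Subgroup Cfsg.Agent.H11.A16 Cfsg.Agent.H63 Cfsg.Agent.H8.GD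
open Cfsg.Agent.H89.Rec (Syl)

universe u

section Defs

variable {G : Type u} [Group G]

/-- The image of a subgroup of the model. -/
def im (J : N2 → G) (X : Subgroup N2) : Subgroup G := closure (J '' X)

/-- `J` is an injective homomorphism on `X`. -/
structure Em (J : N2 → G) (X : Subgroup N2) : Prop where
  mul : ∀ u ∈ X, ∀ v ∈ X, J (u * v) = J u * J v
  inj : ∀ u ∈ X, ∀ v ∈ X, J u = J v → u = v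

/-- `g` conjugates `J u` to `J v`. -/
def R (J : N2 → G) (g : G) (u v : N2) : Prop := g * J u * g⁻¹ = J v

/-- `g` acts on the image of `X` as `m` does on `X`. -/
def Ex (J : N2 → G) (g : G) (m : N2) (X : Subgroup N2) : Prop := ∀ u ∈ X, R J g u (m * u * m⁻¹)

/-- `g` maps the image of `X` to the image of `Y` as the permutation `m` does. -/
def Ey (J : N2 → G) (g : G) (m : Perm Ω) (X Y : Subgroup N2) : Prop :=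
  ∀ u ∈ X, ∀ v ∈ Y, m * pm2 u * m⁻¹ = pm2 v → R J g u v

/-- The normaliser of the group of order 16. -/
abbrev NA (J : N2 → G) : Subgroup G := N[im J AA]

/-- `α` is an automorphism of `X`. -/
structure Au (α : N2 → N2) (X : Subgroup N2) : Prop where
  mem : ∀ u ∈ X, α u ∈ X
  mul : ∀ u ∈ X, ∀ v ∈ X, α (u * v) = α u * α v
  inj : ∀ u ∈ X, ∀ v ∈ X, α u = α v → u = v

/-- The hypothesis of the theorem in coordinates. -/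
structure Ki (J : N2 → G) (φ : G → Perm Ω) : Prop where
  em : Em J T0
  mul : ∀ g ∈ NA J, ∀ h ∈ NA J, φ (g * h) = φ g * φ h
  res : ∀ t ∈ T0, φ (J t) = pm2 t
  aff : ∀ g ∈ NA J, φ g ∈ Aff
  sur : ∀ m ∈ Aff, ∃ g ∈ NA J, φ g = m
  ker : ∀ g ∈ NA J, φ g = 1 → Odd (orderOf g)

variable {J J' : N2 → G} {X Y : Subgroup N2} {φ : G → Perm Ω}

theorem mem_im {u : N2} (h : u ∈ X) : J u ∈ im J X := subset_closure ⟨u, h, rfl⟩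

theorem im_le {K : Subgroup G} (h : ∀ u ∈ X, J u ∈ K) : im J X ≤ K :=
  (closure_le _).2 (by rintro _ ⟨u, hu, rfl⟩; exact h u hu)

theorem im_mono (h : X ≤ Y) : im J X ≤ im J Y := im_le fun _ hu => mem_im (h hu)

theorem im_congr (h : ∀ u ∈ X, J' u = J u) : im J' X = im J X :=
  le_antisymm (im_le fun u hu => h u hu ▸ mem_im hu) (im_le fun u hu => h u hu ▸ mem_im hu)

theorem Em.mono (h : Em J Y) (hX : X ≤ Y) : Em J X :=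
  ⟨fun u hu v hv => h.mul u (hX hu) v (hX hv), fun u hu v hv => h.inj u (hX hu) v (hX hv)⟩

theorem Em.congr (h : Em J X) (e : ∀ u ∈ X, J' u = J u) : Em J' X :=
  ⟨fun u hu v hv => by rw [e u hu, e v hv, e _ (mul_mem hu hv), h.mul u hu v hv],
    fun u hu v hv a => h.inj u hu v hv (by rw [← e u hu, ← e v hv, a])⟩

/-- The homomorphism on `X`. -/
def Em.hom (h : Em J X) : X →* G := MonoidHom.mk' (fun u => J u) fun u v => h.mul u u.2 v v.2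

theorem Em.hom_inj (h : Em J X) : Function.Injective h.hom := fun u v e =>
  Subtype.ext (h.inj u u.2 v v.2 e)

theorem Em.one (h : Em J X) : J 1 = 1 := map_one h.hom

theorem Em.inv (h : Em J X) {u : N2} (hu : u ∈ X) : J u⁻¹ = (J u)⁻¹ := map_inv h.hom ⟨u, hu⟩

theorem Em.pow (h : Em J X) {u : N2} (hu : u ∈ X) (n : ℕ) : J (u ^ n) = J u ^ n :=
  map_pow h.hom ⟨u, hu⟩ n

theorem Em.range (h : Em J X) : h.hom.range = im J X :=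
  le_antisymm (by rintro _ ⟨u, rfl⟩; exact mem_im u.2) (im_le fun u hu => ⟨⟨u, hu⟩, rfl⟩)

theorem Em.mem (h : Em J X) {a : G} : a ∈ im J X ↔ ∃ u ∈ X, J u = a := by
  rw [← h.range]
  exact ⟨fun ⟨u, e⟩ => ⟨u, u.2, e⟩, fun ⟨u, hu, e⟩ => ⟨⟨u, hu⟩, e⟩⟩

theorem Em.mem_iff (h : Em J Y) (hX : X ≤ Y) {u : N2} (hu : u ∈ Y) : J u ∈ im J X ↔ u ∈ X :=
  ⟨fun a => let ⟨v, hv, e⟩ := (h.mono hX).mem.1 a; h.inj v (hX hv) u hu e ▸ hv, mem_im⟩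

theorem Em.card (h : Em J X) : Nat.card (im J X) = Nat.card X := by
  rw [← h.range]; exact (Nat.card_congr (MonoidHom.ofInjective h.hom_inj).toEquiv).symm

theorem Em.two (h : Em J X) (h2 : IsPGroup 2 X) : IsPGroup 2 (im J X) := by
  rw [← h.range]; exact h2.of_equiv (MonoidHom.ofInjective h.hom_inj)

theorem Em.self (h : Em J X) {t u : N2} (ht : t ∈ X) (hu : u ∈ X) : R J (J t) u (t * u * t⁻¹) := by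
  rw [R, h.mul _ (mul_mem ht hu) _ (inv_mem ht), h.mul _ ht _ hu, h.inv ht]

theorem Em.au (h : Em J X) {g : G} (hg : g ∈ N[im J X]) :
    ∃ α, Au α X ∧ ∀ u ∈ X, R J g u (α u) := by
  classical
  have k : ∀ u, ∃ v, u ∈ X → v ∈ X ∧ R J g u v := fun u => by
    by_cases hu : u ∈ X
    · obtain ⟨v, a, b⟩ := h.mem.1 ((mem_normalizer_iff.1 hg _).1 (mem_im hu))
      exact ⟨v, fun _ => ⟨a, b.symm⟩⟩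
    · exact ⟨1, fun a => absurd a hu⟩
  choose α hα using k
  refine ⟨α, ⟨fun u hu => (hα u hu).1, fun u hu v hv => ?_, fun u hu v hv e => ?_⟩,
    fun u hu => (hα u hu).2⟩
  · refine h.inj _ (hα _ (mul_mem hu hv)).1 _ (mul_mem (hα u hu).1 (hα v hv).1) ?_
    rw [h.mul _ (hα u hu).1 _ (hα v hv).1, ← (hα u hu).2, ← (hα v hv).2,
      ← (hα _ (mul_mem hu hv)).2, h.mul u hu v hv]
    group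
  · have := (hα u hu).2
    rw [R, e, ← (hα v hv).2] at this
    exact h.inj u hu v hv (by simpa using this)

theorem R.trans {g g' : G} {u v w : N2} (h : R J g u v) (h' : R J g' v w) : R J (g' * g) u w := by
  unfold R at *; rw [← h', ← h]; group

theorem R.symm {g : G} {u v : N2} (h : R J g u v) : R J g⁻¹ v u := by
  unfold R at *; rw [← h]; group

theorem AA_le_T0 : AA ≤ T0 := fun u hu => by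
  have h : u = ⟨x (u.σ 0), fun _ => u.f 0⟩ := N2.ext (Equiv.ext hu.1) (funext hu.2)
  rw [h]; generalize u.σ 0 = m; generalize u.f 0 = c; revert m c; decide +kernel

theorem Ki.congr (h : Ki J φ) (e : ∀ u ∈ T0, J' u = J u) : Ki J' φ := by
  have k : NA J' = NA J := by
    rw [NA, im_congr fun u hu => e u (AA_le_T0 hu)]
  exact ⟨h.em.congr e, k ▸ h.mul, fun t ht => e t ht ▸ h.res t ht, k ▸ h.aff, k ▸ h.sur, k ▸ h.ker⟩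

end Defs

/-! ### General lemmas -/

/-- General lemmas on finite groups. -/
structure Gen (G : Type u) [Group G] : Prop where
  lift : ∀ {Γ : Type} [Group Γ] (H : Subgroup G) (ρ : G → Γ),
    (∀ g ∈ H, ∀ h ∈ H, ρ (g * h) = ρ g * ρ h) → (∀ g ∈ H, ρ g = 1 → Odd (orderOf g)) →
    ∀ X Y : Subgroup G, X ≤ H → Y ≤ H → IsPGroup 2 X → IsPGroup 2 Y →
    (∀ a ∈ X, ∃ b ∈ Y, ρ a = ρ b) → ∃ k ∈ H, ρ k = 1 ∧ ∀ a ∈ X, k * a * k⁻¹ ∈ Y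
  ext : ∀ (J : N2 → G) (X Y : Subgroup N2) (m : N2) (g : G), Em J X → X ≤ Y → m ∈ Y → m ∉ X →
    (∀ u ∈ Y, u ∈ X ∨ m⁻¹ * u ∈ X) → Ex J g m X → g * g = J (m * m) → g ∉ im J X →
    ∃ J' : N2 → G, Em J' Y ∧ (∀ u ∈ X, J' u = J u) ∧ J' m = g
  csq : ∀ (C Z : Subgroup G) (t c : G), Syl Z C → (∀ a ∈ Z, ∀ b ∈ C, Commute a b) → t ∈ N[C] →
    t * c * t⁻¹ * c ∈ Z → c ∈ C → ∃ c0 ∈ Z, t * c0 * t⁻¹ * c0 = t * c * t⁻¹ * c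
  dec : ∀ C Z : Subgroup G, Syl Z C → (∀ a ∈ Z, ∀ b ∈ C, Commute a b) → ∃ O : Subgroup G, O ≤ C ∧
    (∀ c ∈ C, c ∈ O ↔ Odd (orderOf c)) ∧ N[C] ≤ N[O] ∧ ∀ c ∈ C, ∃ a ∈ Z, ∃ o ∈ O, c = a * o
  odd1 : ∀ (g y c : G) (k : ℕ), Odd (orderOf g) → Commute g c → g * y * g⁻¹ = y * c →
    c ^ 2 ^ k = 1 → c = 1
  one : ∀ (Y : Subgroup G) (g : G), IsPGroup 2 Y → g ∈ Y → Odd (orderOf g) → g = 1
  ovs : ∀ K T : Subgroup G, IsPGroup 2 T → T ≤ N[K] → ∃ S : Subgroup G, IsPGroup 2 S ∧ T ≤ S ∧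
    S ≤ K ⊔ T ∧ Syl S (K ⊔ T) ∧ Syl (S ⊓ K) K
  up : ∀ Y K : Subgroup G, IsPGroup 2 Y → Y ≤ K → ¬ Syl Y K → ∃ S : Subgroup G, IsPGroup 2 S ∧
    Y ≤ S ∧ S ≤ K ∧ ∃ n ∈ S, n ∉ Y ∧ n ∈ N[Y]
  grow : ∀ Y S : Subgroup G, IsPGroup 2 S → Y ≤ S → (∀ n ∈ S, n ∈ N[Y] → n ∈ Y) → S = Y
  frat : ∀ (Y K : Subgroup G) (g : G), Syl Y K → g ∈ N[K] → ∃ k ∈ K, k * g ∈ N[Y]
  frO : ∀ (Y O : Subgroup G) (g : G), IsPGroup 2 Y → (∀ o ∈ O, Odd (orderOf o)) → Y ≤ N[O] →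
    (∀ y ∈ Y, ∃ y' ∈ Y, ∃ o ∈ O, g * y * g⁻¹ = y' * o) → ∃ o ∈ O, o * g ∈ N[Y]
  dih : ∀ a b : G, a * a = 1 → b * b = 1 → Odd (orderOf (a * b)) →
    ∃ n : ℕ, (a * b) ^ n * b * ((a * b) ^ n)⁻¹ = a
  extr : ∀ (S : Subgroup G) (a b g : G), Syl S ⊤ → b ∈ S → Syl (S ⊓ C1[b]) C1[b] → a ∈ S →
    g * a * g⁻¹ = b → ∃ h, h * a * h⁻¹ = b ∧ ∀ c ∈ S, Commute c a → h * c * h⁻¹ ∈ S
  tho : ∀ (S Q : Subgroup G) (t : G), (∀ H : Subgroup G, H.index ≠ 2) → Syl S ⊤ → Q ≤ S → t ∈ S →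
    t ∉ Q → (∀ s ∈ S, s ∈ Q ∨ t⁻¹ * s ∈ Q) → t * t = 1 → ∃ g, g * t * g⁻¹ ∈ Q

/-- Piece GEN. -/
def GenStmt : Prop := ∀ {G : Type u} [Group G] [Finite G], Gen G

/-! ### Facts on the model -/

/-- Piece MOD1: orders and normal forms. -/
structure Mod1 : Prop where
  two : IsPGroup 2 S2
  syl : Syl S2 ⊤
  cN : Nat.card N2 = 2 ^ 15 * 315
  cS2 : Nat.card S2 = 2 ^ 15
  cSE : Nat.card SE = 2 ^ 14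
  cJJ : Nat.card JJ = 2 ^ 12
  cT0 : Nat.card T0 = 1024
  cPP : Nat.card PP = 256
  cFF : Nat.card FF = 256
  cEE : Nat.card EE = 128
  cF1 : Nat.card F1 = 128
  cQQ : Nat.card QQ = 128
  cU1 : Nat.card U1 = 64
  cDP : Nat.card DP = 64
  cAA : Nat.card AA = 16
  cAP : Nat.card AP = 16
  cE1 : Nat.card E1 = 16
  nf : ∀ u ∈ T0, u = ut (en u)
  utm : ∀ c, ut c ∈ T0
  enu : ∀ c i j, i < j → en (ut c) i j = c i j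
  nfF : ∀ u ∈ FF, ∃ a b c e, u = wb 0 a * wb 1 b * wb 2 c * wb 3 e
  t8 : T8 = T'

/-- Piece MOD2: inclusions, generators and products. -/
structure Mod2 : Prop where
  le : AP ≤ EE ∧ QQ ≤ T0 ∧ QQ ≤ AE ∧ AA ≤ QQ ∧ AP ≤ QQ ∧ EE ≤ AE ∧ AE ≤ T1 ∧ T0 ≤ T1 ∧ T1 ≤ SE ∧
    QK ≤ QE ∧ PP ≤ JJ ∧ JJ ≤ S2 ∧ FF ≤ SE ∧ E1 ≤ F1 ∧ U1 ≤ F1 ∧ U1 ≤ DD ∧ VV ≤ AA ∧ VV ≤ DD ∧
    AA ≤ DD ∧ U1 ≤ UU ∧ FF ≤ YY ∧ XX ≤ YY ∧ YY ≤ SE ∧ PI ≤ U1 ∧ ∀ i, FF ≤ JI i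
  nrm : ∀ m, (∀ u ∈ PP, m * u * m⁻¹ ∈ PP) ∧ (∀ u ∈ EE, m * u * m⁻¹ ∈ EE) ∧
    (m ∈ S2 → (∀ u ∈ FF, m * u * m⁻¹ ∈ FF) ∧ ∀ u ∈ JJ, m * u * m⁻¹ ∈ JJ) ∧
    (m ∈ QK → (∀ u ∈ AA, m * u * m⁻¹ ∈ AA) ∧ ∀ u ∈ AP, m * u * m⁻¹ ∈ AP) ∧
    (m ∈ QE → (∀ u ∈ QQ, m * u * m⁻¹ ∈ QQ) ∧ ∀ u ∈ AE, m * u * m⁻¹ ∈ AE) ∧
    (m ∈ T0 → (∀ u ∈ U1, m * u * m⁻¹ ∈ U1) ∧ (∀ u ∈ DD, m * u * m⁻¹ ∈ DD) ∧
      ∀ u ∈ UU, m * u * m⁻¹ ∈ UU)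
  ab : (∀ u ∈ PP, ∀ v ∈ PP, Commute u v) ∧ (∀ u ∈ FF, ∀ v ∈ FF, Commute u v) ∧
    (∀ u ∈ AA, ∀ v ∈ AA, Commute u v) ∧ (∀ u ∈ PP, u * u = 1) ∧ (∀ u ∈ FF, u * u = 1) ∧
    (∀ u ∈ AA, u * u = 1) ∧ ∀ u, Commute u z2
  gT0 : ∀ K : Subgroup N2, xe 0 1 ∈ K → xe 1 2 ∈ K → xe 2 3 ∈ K → xe 3 4 ∈ K → T0 ≤ K
  gQK : ∀ K : Subgroup N2, T0 ≤ K → xe 2 1 ∈ K → xe 3 2 ∈ K → QK ≤ K
  gPP : ∀ K : Subgroup N2, (∀ p, dl p ∈ K) → PP ≤ K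
  gEE : ∀ K : Subgroup N2, (∀ p q, dl p * dl q ∈ K) → EE ≤ K
  gFF : ∀ K : Subgroup N2, (∀ i k, wb i k ∈ K) → FF ≤ K
  gAA : ∀ K : Subgroup N2, (∀ i, xe i 4 ∈ K) → AA ≤ K
  gAP : ∀ K : Subgroup N2, (∀ j, xe 0 j ∈ K) → AP ≤ K
  gU1 : ∀ K : Subgroup N2, (∀ j, 2 ≤ j → xe 0 j ∈ K ∧ xe 1 j ∈ K) → U1 ≤ K
  gN : ∀ K : Subgroup N2, S2 ≤ K → QK ≤ K → K = ⊤
  gN7 : ∀ K : Subgroup N2, (∀ m, m.σ 7 = 7 → m ∈ K) → f0 ∈ K → K = ⊤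
  pQQ : ∀ m ∈ QQ, ∃ a ∈ AA, ∃ b ∈ AP, m = a * b
  pAE : ∀ m ∈ AE, ∃ a ∈ AA, ∃ e ∈ EE, m = a * e
  pQE : ∀ m ∈ QE, ∃ k ∈ QK, ∃ e ∈ EE, m = k * e
  pT1 : ∀ m ∈ T1, ∃ t ∈ T0, ∃ e ∈ EE, m = t * e
  pDD : ∀ m ∈ DD, ∃ v ∈ VV, ∃ u ∈ U1, m = v * u
  pJJ : ∀ m ∈ JJ, ∃ u ∈ FF, ∃ e ∈ PP, m = u * e
  pYY : ∀ m ∈ YY, ∃ t ∈ XX, ∃ u ∈ FF, m = t * u
  iSE : ∀ u ∈ SE, u ∈ T1 ∨ f0⁻¹ * u ∈ T1
  iS2 : ∀ u ∈ S2, u ∈ SE ∨ (dl 0)⁻¹ * u ∈ SE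
  iPP : ∀ u ∈ PP, u ∈ EE ∨ (dl 0)⁻¹ * u ∈ EE
  iFF : ∀ u ∈ FF, u ∈ F1 ∨ f0⁻¹ * u ∈ F1
  iF1 : ∀ u ∈ F1, u ∈ U1 ∨ e34⁻¹ * u ∈ U1
  iXX : ∀ u ∈ XX, u ∈ DD ∨ (xe 2 3)⁻¹ * u ∈ DD
  iT0 : ∀ u ∈ T0, u ∈ XX ∨ (xe 0 1)⁻¹ * u ∈ XX
  lVV : ∀ u ∈ VV, u = 1 ∨ u = xe 2 4 ∨ u = xe 3 4 ∨ u = xe 2 4 * xe 3 4
  lPI : ∀ u ∈ PI, u = 1 ∨ u = z2 ∨ u = xe 1 4 ∨ u = xe 1 4 * z2
  s12m : (∀ u ∈ YY, ∃ v ∈ YY, s12 * pm2 u * s12⁻¹ = pm2 v) ∧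
    (∀ u ∈ XX, ∃ v ∈ XX, s12 * pm2 u * s12⁻¹ = pm2 v) ∧
    (∀ u ∈ FF, ∃ v ∈ FF, s12 * pm2 u * s12⁻¹ = pm2 v) ∧
    (∀ u ∈ U1, ∃ v ∈ U1, s12 * pm2 u * s12⁻¹ = pm2 v) ∧
    (∀ u ∈ UU, ∃ v ∈ UU, s12 * pm2 u * s12⁻¹ = pm2 v)
  thm : ∀ i, (∀ u ∈ FF, ∃ v ∈ FF, th i * pm2 u * (th i)⁻¹ = pm2 v) ∧
    ∀ u ∈ JI i, ∃ v ∈ JI i, th i * pm2 u * (th i)⁻¹ = pm2 v

/-- Piece MOD3: centralisers, complements, the graph automorphism. -/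
structure Mod3 : Prop where
  cEE : ∀ m, (∀ e ∈ EE, Commute m e) → m ∈ PP
  cFF : ∀ m, (∀ e ∈ FF, Commute m e) → m ∈ FF
  cAA : ∀ m, (∀ a ∈ AA, Commute m a) → m ∈ AA
  cQQ : ∀ m, (∀ a ∈ QQ, Commute m a) → m = 1 ∨ m = z2
  cAP : ∀ m ∈ QE, (∀ a ∈ AP, Commute m a) → m ∈ EE
  cPA : ∀ m ∈ PP, (∀ a ∈ AA, Commute m a) → m = 1 ∨ m = z2
  cFV : ∀ m ∈ FF, (∀ a ∈ VV, Commute m a) → m ∈ PI
  cDP : ∀ m, (∀ e ∈ DP, Commute m e) → m ∈ JJ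
  nPA : ∀ m ∈ PP, (∀ a ∈ AA, m * a * m⁻¹ ∈ AA) → m ∈ AP
  qk : ∀ m ∈ QK, m ∈ PP → m ∈ AP
  homA : ∀ c : Fin 3 → ZMod 2, ∃ b ∈ AP, b * xe 1 4 * b⁻¹ = xe 1 4 * zp (c 0) ∧
    b * xe 2 4 * b⁻¹ = xe 2 4 * zp (c 1) ∧ b * xe 3 4 * b⁻¹ = xe 3 4 * zp (c 2)
  cpl : ∀ a ∈ PP, ∀ b ∈ PP, ∀ c ∈ PP, (xe 1 4 * a) ^ 2 = 1 → (xe 2 4 * b) ^ 2 = 1 →
    (xe 3 4 * c) ^ 2 = 1 → Commute (xe 1 4 * a) (xe 2 4 * b) → Commute (xe 1 4 * a) (xe 3 4 * c) →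
    Commute (xe 2 4 * b) (xe 3 4 * c) → ∃ e ∈ PP, e * xe 1 4 * e⁻¹ = xe 1 4 * a ∧
      e * xe 2 4 * e⁻¹ = xe 2 4 * b ∧ e * xe 3 4 * e⁻¹ = xe 3 4 * c
  cplF : ∀ b ∈ FF, ∀ c ∈ FF, (xe 2 4 * b) ^ 2 = 1 → (xe 3 4 * c) ^ 2 = 1 →
    Commute (xe 2 4 * b) (xe 3 4 * c) → ∃ e ∈ FF, e * xe 2 4 * e⁻¹ = xe 2 4 * b ∧
      e * xe 3 4 * e⁻¹ = xe 3 4 * c
  fvU : ∀ e ∈ FF, ∀ v ∈ VV, e * v * e⁻¹ * v⁻¹ ∈ U1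
  odd : ∀ a ∈ AA, a ≠ 1 → a ≠ z2 → ∀ e ∈ PP, (a * e * a⁻¹ * e = 1 ∨ a * e * a⁻¹ * e = z2) → e ∈ EE
  chm : ∀ l, (∀ e ∈ EE, ∀ e' ∈ EE, ch l (e * e') = ch l e + ch l e') ∧ ∀ b ∈ AP, ch l b = 0
  chs : ∀ χ : N2 → ZMod 2, (∀ e ∈ EE, ∀ e' ∈ EE, χ (e * e') = χ e + χ e') → (∀ b ∈ AP, χ b = 0) →
    ∃ l, ∀ e ∈ EE, χ e = ch l e
  gma : Au gm T0
  gm2 : ∀ u ∈ T0, gm (gm u) = u
  gmx : ∀ i j, i < j → gm (xe i j) = xe (4 - j) (4 - i)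
  gmA : (∀ a ∈ AA, gm a ∈ AP) ∧ ∀ a ∈ AP, gm a ∈ AA
  gmc : ∀ y ∈ T0, y * gm y = 1 → ∃ c ∈ T0, y = c * (gm c)⁻¹
  gmz : ∀ y ∈ T0, y * gm y ≠ z2
  gmf : ∀ u ∈ T0, gm u = u ↔ ∃ a b c e : ZMod 2,
    u = zp a * xc b 1 3 * (xc c 0 3 * xc c 1 4) * (xc e 0 1 * xc e 3 4)

/-- Piece AFF: the affine group. -/
structure Af : Prop where
  card : Nat.card Aff = 322560
  qk : ∀ k ∈ QK, pm2 k ∈ Aff
  cz : ∀ m ∈ Aff, Commute m (pm2 z2) → ∃ k ∈ QK, pm2 k = m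
  cA : ∀ m : Perm Ω, (∀ a ∈ AA, Commute m (pm2 a)) → ∃ a ∈ AA, pm2 a = m
  syl : Syl (T0.map pm2) Aff
  s : s12 ∈ Aff
  tr : ∀ a ∈ AA, a ≠ 1 → ∃ m ∈ Aff, m * pm2 z2 * m⁻¹ = pm2 a
  cpl : ∃ K : Subgroup (Perm Ω), K ≤ Aff ∧ AA.map pm2 ⊓ K = ⊥ ∧ AA.map pm2 ⊔ K = Aff ∧
    Nonempty (K ≃* GL (Fin 4) (ZMod 2))
  nsub : ∀ H : Subgroup (Perm Ω), AA.map pm2 ≤ H → H ≤ Aff → Aff ≤ N[H] → H = AA.map pm2 ∨ H = Aff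

/-- Consequences of the hypothesis. -/
structure Kit {G : Type u} [Group G] (J : N2 → G) (φ : G → Perm Ω) : Prop where
  le : ∀ t ∈ T0, J t ∈ NA J
  one : φ 1 = 1
  inv : ∀ g ∈ NA J, φ g⁻¹ = (φ g)⁻¹
  down : ∀ g ∈ NA J, ∀ u ∈ T0, ∀ v ∈ T0, R J g u v → φ g * pm2 u * (φ g)⁻¹ = pm2 v
  real : ∀ X Y : Subgroup N2, X ≤ T0 → Y ≤ T0 → ∀ m ∈ Aff,
    (∀ u ∈ X, ∃ v ∈ Y, m * pm2 u * m⁻¹ = pm2 v) → ∃ g ∈ NA J, φ g = m ∧ Ey J g m X Y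
  onA : ∀ g ∈ NA J, Ey J g (φ g) AA AA
  syl : Syl (im J T0) (NA J)
  cenA : Syl (im J AA) C[im J AA]
  dec : ∀ g ∈ C[im J AA], ∃ a ∈ AA, ∃ k ∈ NA J, φ k = 1 ∧ g = J a * k
  kerC : ∀ k ∈ NA J, φ k = 1 → k ∈ C[im J AA]
  two : ∀ S : Subgroup G, IsPGroup 2 S → ∀ g ∈ S, g ∈ NA J → ∀ t ∈ T0, J t ∈ S → φ g = pm2 t →
    g = J t
  cA2 : ∀ S : Subgroup G, IsPGroup 2 S → im J AA ≤ S → ∀ g ∈ S, g ∈ C[im J AA] → g ∈ im J AA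
  nT2 : ∀ S : Subgroup G, IsPGroup 2 S → im J T0 ≤ S → ∀ g ∈ S, g ∈ NA J → g ∈ im J T0
  fus : ∀ a ∈ AA, a ≠ 1 → ∃ g ∈ NA J, R J g z2 a
  nz : ∀ g ∈ NA J, Commute g (J z2) → ∃ k ∈ QK, φ g = pm2 k
  nq : ∀ g ∈ NA J, g ∈ N[im J QQ] → ∃ k ∈ QK, φ g = pm2 k ∧ Ex J g k QQ
  rq : ∀ k ∈ QK, ∃ g ∈ NA J, φ g = pm2 k ∧ Ex J g k QQ
  mna : ∀ g : G, (∀ a ∈ AA, ∃ b ∈ AA, R J g a b) → g ∈ NA J
  ind : IsSimpleGroup G → ∀ H : Subgroup G, H.index ≠ 2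

/-- Piece KIT. -/
def KitStmt : Prop := ∀ {G : Type u} [Group G] [Finite G] (J : N2 → G) (φ : G → Perm Ω),
  Ki J φ → Kit J φ

/-- The base that every piece may assume. -/
structure Base : Prop where
  gen : GenStmt.{u}
  m1 : Mod1
  m2 : Mod2
  m3 : Mod3
  af : Af
  kit : KitStmt.{u}

/-! ### The reduction to simple groups -/

/-- The first case of the conclusion. -/
def Con1 (H : Type u) [Group H] : Prop :=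
  ∃ E' K' : Subgroup H, E'.Normal ∧ Cfsg.IsElementaryAbelian 2 E' ∧ Nat.card E' = 16 ∧
    Subgroup.centralizer (E' : Set H) = E' ∧ E' ⊓ K' = ⊥ ∧ E' ⊔ K' = ⊤ ∧
    Nonempty (K' ≃* GL (Fin 4) (ZMod 2))

/-- The linear and the sporadic case. -/
def ConL (H : Type u) [Group H] : Prop :=
  Nonempty (H ≃* GL (Fin 5) (ZMod 2)) ∨ Cfsg.Spor.IsoM24 H

/-- The alternating case. -/
def ConA (H : Type u) [Group H] (n : ℕ) : Prop := Nonempty (H ≃* alternatingGroup (Fin n))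

/-- Piece SET. -/
def SetStmt : Prop := ∀ {G : Type u} [Group G] [Finite G] (A : Subgroup G),
  Cfsg.IsElementaryAbelian 2 A → Nat.card A = 16 → (¬ 2 ∣ A.relIndex C[A]) →
  (∃ E K : Subgroup (N[A] ⧸ Cfsg.oddCore N[A]), E.Normal ∧ Cfsg.IsElementaryAbelian 2 E ∧
    Nat.card E = 16 ∧ Subgroup.centralizer (E : Set (N[A] ⧸ Cfsg.oddCore N[A])) = E ∧
    E ⊓ K = ⊥ ∧ E ⊔ K = ⊤ ∧ Nonempty (K ≃* GL (Fin 4) (ZMod 2))) →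
  ∃ (J : N2 → G) (φ : G → Perm Ω), Ki J φ

/-- Piece RQ. -/
def RqStmt : Prop := ∀ {G : Type u} [Group G] [Finite G] (J : N2 → G) (φ : G → Perm Ω), Ki J φ →
  ∃ (J' : N2 → G ⧸ Cfsg.oddCore G) (φ' : G ⧸ Cfsg.oddCore G → Perm Ω), Ki J' φ'

/-- Piece R2. -/
def R2Stmt : Prop := ∀ {G : Type u} [Group G] [Finite G] (J : N2 → G) (φ : G → Perm Ω), Ki J φ →
  Cfsg.oddCore G = ⊥ → Cfsg.pCore 2 G ≠ ⊥ → Con1 G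

/-- Piece R3. -/
def R3Stmt : Prop := ∀ {G : Type u} [Group G] [Finite G] (J : N2 → G) (φ : G → Perm Ω), Ki J φ →
  Cfsg.oddCore G = ⊥ → Cfsg.pCore 2 G = ⊥ → ∃ X : Subgroup G, X.Normal ∧ IsSimpleGroup X ∧
    C[X] = ⊥ ∧ im J AA ≤ X ∧ ∃ (J' : N2 → X) (φ' : X → Perm Ω), Ki J' φ'

/-- Piece R4L. -/
def R4lStmt : Prop := ∀ {G : Type u} [Group G] [Finite G] (X : Subgroup G), X.Normal → C[X] = ⊥ →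
  ConL X → ConL G ∨ Nonempty (G ≃* MulAut (GL (Fin 5) (ZMod 2)))

/-- Piece R4A. -/
def R4aStmt : Prop := ∀ {G : Type u} [Group G] [Finite G] (X A : Subgroup G) (n : ℕ), X.Normal →
  C[X] = ⊥ → A ≤ X → Syl A C[A] → 16 ≤ n → n ≤ 19 → ConA X n →
  ConA G n ∨ ((n = 16 ∨ n = 17) ∧ Nonempty (G ≃* Perm (Fin n)))

end Cfsg.Agent.H17.Kn
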