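import Mathlib
import Cfsg.Agent.H17.KnDefs

/-!
# Groups with a 2-local subgroup of type `E16 : GL(4, 2)`: the simple case
-/

set_option autoImplicit false

namespace Cfsg.Agent.H17.Kn

open Equiv Subgroup Cfsg.Agent.H11.A16 Cfsg.Agent.H63 Cfsg.Agent.H8.GD
open Cfsg.Agent.H89.Rec (Syl)

universe u

/-! ### Finite statements on the model -/

/-- Piece QCH. -/
def QchStmt : Prop := ∀ α, Au α T0 → ∀ u ∈ QQ, α u ∈ QQ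

/-- Piece TRF. -/
def TrfStmt : Prop := ∀ α, Au α QQ → (∀ u ∈ AP, α u ∈ AP) ∨ (∀ u ∈ AP, α u ∈ AA) ∨
  ∃ k ∈ QK, (∀ a ∈ AA, ∃ a' ∈ AA, k * α a * k⁻¹ = α a') ∧
    ∃ b ∈ AP, ∀ b' ∈ AP, k * α b * k⁻¹ ≠ α b'

/-- Piece AUQ. -/
def AuqStmt : Prop := ∀ α, Au α QQ → (∀ u ∈ AP, α u ∈ AP) → ∃ m ∈ QE, ∀ u ∈ QQ, α u = m * u * m⁻¹

/-- Piece AUT. -/
def AutStmt : Prop := ∀ α, Au α T0 → (∀ u ∈ AA, α u ∈ AA) → (∀ u ∈ AP, α u ∈ AP) →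
  ∃ c ∈ T0, ∃ a b : ZMod 2, ∀ u ∈ T0, c * α u * c⁻¹ = u * zp (a * en u 1 2 + b * en u 2 3)

/-- Piece E16. -/
def E16Stmt : Prop :=
  (∀ X : Subgroup N2, X ≤ T0 → (∀ u ∈ X, u * u = 1) → Nat.card X = 16 →
    ∃ u ∈ X, ∃ v ∈ X, u ≠ v ∧ tv u ∧ tv v) ∧
  ∀ (H : Subgroup N2) (y : N2), H ≤ T0 → y ∈ T0 → (∀ u ∈ H, u * u = 1) → Nat.card H = 8 → z2 ∈ H →
    (∀ u ∈ H, Commute y u) → (∀ u ∈ H, tv u → u = z2) → ∃ u ∈ H, ¬ (tv (y * u) ∧ y * u ∉ H)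

/-- Piece LA2. -/
def La2Stmt : Prop := ∀ lam : N2 → Fin 3 → ZMod 2,
  (∀ k ∈ QK, ∀ k' ∈ QK, ∀ e ∈ EE,
    ch (lam (k * k')) e = ch (lam k') e + ch (lam k) (k' * e * k'⁻¹)) →
  (∀ q ∈ QQ, ∀ e ∈ EE, ch (lam q) e = 0) →
  (∀ u ∈ U1, ∀ e ∈ E1, ch (lam u) e = 0) ∧
  ∃ l, (∀ k ∈ QK, ∀ e ∈ EE, ch (lam k) e = ch l e + ch l (k * e * k⁻¹)) ∨
    ∀ e ∈ EE,
      ch (lam (xe 1 2)) e = ch l e + ch l (xe 1 2 * e * (xe 1 2)⁻¹) + cf 2 e ∧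
      ch (lam (xe 1 3)) e = ch l e + ch l (xe 1 3 * e * (xe 1 3)⁻¹) + (cf 1 e + cf 2 e) ∧
      ch (lam (xe 2 3)) e = ch l e + ch l (xe 2 3 * e * (xe 2 3)⁻¹) + cf 0 e ∧
      ch (lam (xe 2 1)) e = ch l e + ch l (xe 2 1 * e * (xe 2 1)⁻¹) + (cf 0 e + cf 2 e)

/-- Piece AU1. -/
def Au1Stmt : Prop := ∀ α, Au α SE → ∃ c ∈ SE, (∀ e ∈ EE, c * α e * c⁻¹ ∈ EE) ∧
  (∀ b ∈ AP, c * α b * c⁻¹ = b) ∧
  ((∀ a ∈ AA, c * α a * c⁻¹ = a) ∨ ∀ a ∈ AA, c * α a * c⁻¹ = dl 0 * a * (dl 0)⁻¹)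

/-- Piece AU2. -/
def Au2Stmt : Prop := ∀ α, Au α S2 → (∃ c ∈ S2, ∀ a ∈ AA, c * α a * c⁻¹ ∈ AA) ∨
  ∃ c ∈ S2, (∀ u ∈ FF, c * α u * c⁻¹ ∈ PP) ∧ (∀ u ∈ PP, c * α u * c⁻¹ ∈ FF) ∧
    ∀ v ∈ VV, ∃ v' ∈ VV, ∃ e ∈ PP, c * α v * c⁻¹ = v' * e

/-- Membership in one of the sixteen elementary abelian subgroups of order 256 of `JJ`. -/
def XI (I : Fin 4 → Bool) (u : N2) : Prop :=
  u ∈ JJ ∧ ∀ i, if I i = true then u.σ (pa i) = pa i else u ∈ JI i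

/-- Piece E256. -/
def E256Stmt : Prop := ∀ X : Subgroup N2, X ≤ S2 → (∀ u ∈ X, u * u = 1) → 256 ≤ Nat.card X →
  ∃ I, ∀ u, u ∈ X ↔ XI I u

/-! ### The configurations -/

section Conf

variable {G : Type u} [Group G]

/-- Case II. -/
structure Sw (J : N2 → G) (φ : G → Perm Ω) : Prop extends Ki J φ where
  nq : ∀ g ∈ N[im J QQ], g ∈ NA J ∨ ∀ a ∈ AA, ∃ b ∈ AP, R J g a b
  ex : ∃ g ∈ N[im J QQ], g ∉ NA J

/-- Case II with a graph automorphism. -/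
structure Tg (J : N2 → G) (φ : G → Perm Ω) (t : G) : Prop extends Sw J φ where
  act : ∀ u ∈ T0, R J t u (gm u)
  sq : t * t = 1 ∨ t * t = J z2

/-- The Sylow subgroup in case II. -/
def TT (J : N2 → G) (t : G) : Subgroup G := im J T0 ⊔ zpowers t

/-- The classes of the involutions of `T0` in case II. -/
structure Cc (J : N2 → G) : Prop where
  one : ∀ u ∈ T0, u * u = 1 → tv u → ∃ g, R J g u z2
  two : ∀ u ∈ T0, u * u = 1 → u ≠ 1 → ¬ tv u → ∃ g, R J g u v0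
  ne : ∀ g, ¬ R J g z2 v0

/-- Case III. -/
structure Q3 (J : N2 → G) (φ : G → Perm Ω) : Prop extends Ki J φ where
  nq : ∀ g ∈ N[im J QQ], ∃ m ∈ QE, Ex J g m QQ
  ee : ∀ e ∈ EE, ∃ g, Ex J g e QQ

/-- The group `E` of order 128 without coordinates. -/
structure Eb (J : N2 → G) (φ : G → Perm Ω) (E : Subgroup G) : Prop extends Q3 J φ where
  two : IsPGroup 2 E
  ap : im J AP ≤ E
  act : ∀ g ∈ E, ∃ e ∈ EE, Ex J g e QQ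
  onto : ∀ e ∈ EE, ∃ g ∈ E, Ex J g e QQ
  nT : ∀ t ∈ T0, J t ∈ N[E]
  rk : ∀ k ∈ QK, ∃ g ∈ NA J, φ g = pm2 k ∧ g ∈ N[E]

/-- The group `E` in coordinates. -/
structure E0 (J : N2 → G) (φ : G → Perm Ω) : Prop extends Q3 J φ where
  emE : Em J AE
  nE : ∀ t ∈ T0, J t ∈ N[im J EE]
  rk : ∀ k ∈ QK, ∃ g ∈ NA J, φ g = pm2 k ∧ g ∈ N[im J EE]

/-- The centraliser of `E` in the 2-group `S` is `E ⟨p⟩`. -/
structure Pb (J : N2 → G) (S : Subgroup G) (p : G) : Prop where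
  mem : p ∈ S
  cen : p ∈ C[im J EE]
  nm : p ∉ im J EE
  ex : Ex J p (dl 0) AA
  sq : p * p = 1 ∨ p * p = J z2
  idx : ∀ g ∈ S, g ∈ C[im J EE] → g ∈ im J EE ∨ p⁻¹ * g ∈ im J EE
  ninv : ∀ a ∈ AA, a ≠ 1 → a ≠ z2 → ∀ g ∈ S, g ∈ C[im J EE] → (J a * g) ^ 2 = 1 → g ∈ im J EE

/-- What the two actions on `E` have in common. -/
structure Eu (J : N2 → G) (φ : G → Perm Ω) : Prop extends E0 J φ where
  act : ∀ t ∈ T0, ∀ e ∈ EE, R J (J t) e (t * e * t⁻¹) ∨ R J (J t) e (t * e * t⁻¹ * z2)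
  cm : ∀ u ∈ U1, ∀ e ∈ E1, Commute (J u) (J e)

/-- The standard action on `E`. -/
structure Sd (J : N2 → G) (φ : G → Perm Ω) : Prop extends Eu J φ where
  em1 : Em J T1
  exK : ∀ k ∈ QK, ∃ g ∈ NA J, φ g = pm2 k ∧ Ex J g k AE

/-- The twisted action on `E`. -/
structure Tw (J : N2 → G) (φ : G → Perm Ω) : Prop extends Eu J φ where
  a12 : ∀ e ∈ EE, R J (J (xe 1 2)) e (xe 1 2 * e * (xe 1 2)⁻¹ * zp (cf 2 e))
  a13 : ∀ e ∈ EE, R J (J (xe 1 3)) e (xe 1 3 * e * (xe 1 3)⁻¹ * zp (cf 1 e + cf 2 e))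
  a23 : ∀ e ∈ EE, R J (J (xe 2 3)) e (xe 2 3 * e * (xe 2 3)⁻¹ * zp (cf 0 e))
  a21 : ∃ g, ∀ e ∈ EE, R J g e (xe 2 1 * e * (xe 2 1)⁻¹ * zp (cf 0 e + cf 2 e))

/-- The group `F` of order 256 without coordinates. -/
structure Fp (J : N2 → G) (F : Subgroup G) : Prop where
  two : IsPGroup 2 F
  le1 : im J U1 ≤ F
  le2 : im J E1 ≤ F
  cen : F ≤ C[im J U1]
  nD : F ≤ N[im J DD]
  nT : ∀ t ∈ T0, J t ∈ N[F]
  card : Nat.card F = 256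

/-- The structure of `F`. -/
structure Fd (J : N2 → G) (φ : G → Perm Ω) (F : Subgroup G) (f s : G) : Prop extends Fp J F where
  fF : f ∈ F
  sq : ∀ a ∈ F, a * a = 1
  ab : ∀ a ∈ F, ∀ b ∈ F, Commute a b
  nf : f ∉ im J U1 ⊔ im J E1
  idx : ∀ a ∈ F, a ∈ im J U1 ⊔ im J E1 ∨ f⁻¹ * a ∈ im J U1 ⊔ im J E1
  sN : s ∈ NA J
  sφ : φ s = s12
  sX : Ey J s s12 XX XX
  fs : s * J e34 * s⁻¹ = f
  sf : s * f * s⁻¹ = J e34
  fD : Ex J f f0 DD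
  syl : Syl F C[im J U1]
  x01 : f * J (xe 0 1) * f⁻¹ * (J (xe 0 1))⁻¹ ∉ im J U1

/-- The 2-group of type `A16`. -/
structure St (J : N2 → G) (φ : G → Perm Ω) (s : G) : Prop extends Sd J φ where
  emS : Em J SE
  sN : s ∈ NA J
  sφ : φ s = s12
  sY : Ey J s s12 YY YY
  sylF : Syl (im J FF) C[im J U1]

/-- The element that plays the part of a sign change. -/
structure Pa (J : N2 → G) (φ : G → Perm Ω) (s p : G) : Prop extends St J φ s where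
  pc : p ∈ C[im J EE]
  pn : p ∉ im J EE
  psq : p * p = 1 ∨ p * p = J z2
  pT : Ex J p (dl 0) T1
  pf : R J p f0 f0 ∨ R J p f0 (f0 * z2)
  syl : Syl (im J EE ⊔ zpowers p) C[im J EE]
  exP : ∀ k ∈ QK, ∃ g ∈ NA J, φ g = pm2 k ∧ Ex J g k AE ∧
    g * p * g⁻¹ = p * J (dl 0 * (k * dl 0 * k⁻¹))

/-- The 2-group of type `S16`. -/
structure S2a (J : N2 → G) (φ : G → Perm Ω) (s : G) : Prop extends St J φ s where
  em2 : Em J S2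
  sylP : Syl (im J PP) C[im J EE]
  exP : ∀ k ∈ QK, ∃ g ∈ NA J, φ g = pm2 k ∧ Ex J g k PP

/-- The elements of order three of the blocks lie in `L`. -/
def Th (J : N2 → G) (L : Subgroup G) : Prop := ∀ i, ∃ θ ∈ L, Ey J θ (th i) (JI i) (JI i)

/-- The 2-group of type `S16` in good coordinates. -/
structure S2t (J : N2 → G) (φ : G → Perm Ω) (s : G) : Prop extends S2a J φ s where
  sg : ∃ g, Ex J g (xe 3 2) JJ
  tht : Th J ⊤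

/-- `H` modulo a normal subgroup of odd order is the model, identical on `X`. -/
structure Mo (J : N2 → G) (X : Subgroup N2) (H : Subgroup G) (ρ : G → N2) : Prop where
  mul : ∀ g ∈ H, ∀ h ∈ H, ρ (g * h) = ρ g * ρ h
  le : ∀ u ∈ S2, J u ∈ H
  res : ∀ u ∈ X, ρ (J u) = u
  sur : ∀ m, ∃ g ∈ H, ρ g = m
  ker : ∀ g ∈ H, ρ g = 1 → Odd (orderOf g)

/-- Elements of the model lift to `H`. -/
def Lf (J : N2 → G) (H : Subgroup G) (ρ : G → N2) : Prop := ∀ (m : N2) (X : Subgroup N2), X ≤ S2 →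
  (∀ u ∈ X, m * u * m⁻¹ ∈ S2) → ∃ g ∈ H, ρ g = m ∧ Ex J g m X

/-- The Sylow subgroup and the model group `H`. -/
structure S3 (J : N2 → G) (φ : G → Perm Ω) (s : G) (H : Subgroup G) (ρ : G → N2) : Prop
    extends S2t J φ s where
  syl2 : Syl (im J S2) ⊤
  mo : Mo J S2 H ρ
  hP : ∀ g, g ∈ H ↔ ∃ m, Ex J g m PP
  lift : Lf J H ρ

/-- Control of fusion in `PP`. -/
structure Wp (J : N2 → G) : Prop where
  ctl : ∀ g, ∀ e ∈ PP, ∀ e' ∈ PP, R J g e e' → ∃ h ∈ N[im J PP], R J h e e'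
  wt : ∀ g, ∀ u ∈ E1, ∀ v ∈ E1, R J g u v → ty u = ty v

/-- Every involution is conjugate in `L` to a sign change of the same type. -/
def Rd (J : N2 → G) (L : Subgroup G) : Prop :=
  ∀ u ∈ S2, u * u = 1 → ∃ g ∈ L, ∃ e ∈ PP, ty e = ty u ∧ R J g u e

/-- The fusion of involutions. -/
def Cl (J : N2 → G) (ε : Bool) : Prop := ∀ u ∈ S2, ∀ v ∈ S2, u * u = 1 → v * v = 1 →
  ((∃ g, R J g u v) ↔ cs ε (ty u) = cs ε (ty v))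

/-- The basis of `PP` that belongs to the pattern. -/
def db (ε : Bool) (p : P) : N2 := if ε = true then dl p * z2 else dl p

/-- `n` acts on `PP` as the exchange of the pair 7 and a ninth pair. -/
def Nx (J : N2 → G) (ε : Bool) (n : G) : Prop :=
  R J n (db ε 7) (db ε 7) ∧ ∀ p, p ≠ 7 → R J n (db ε p) (db ε p * db ε 7)

/-- The final configuration. -/
structure Fe (J : N2 → G) (φ : G → Perm Ω) (s : G) (ρ : G → N2) (n : G) : Prop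
    extends S2t J φ s where
  simple : IsSimpleGroup G
  syl2 : Syl (im J S2) ⊤
  mo : Mo J S2 C1[J z2] ρ
  kerO : ∀ g ∈ C1[J z2], ρ g = 1 ↔ g ∈ Oc C1[J z2]
  lift : Lf J C1[J z2] ρ
  cl : Cl J false
  red : ∀ L : Subgroup G, C1[J z2] ≤ L → Th J L → Rd J L
  n7 : R J n (dl 7) (dl 7)
  np : ∀ p, p ≠ 7 → R J n (dl p) (dl p * dl 7)
  nD : n ∈ C[im J DP]

/-- The group generated by the cores of the centralisers in a four-group. -/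
def W4 (a b : G) : Subgroup G := Oc C1[a] ⊔ Oc C1[b] ⊔ Oc C1[a * b]

/-- The signalizer group. -/
structure Wd (J : N2 → G) (W : Subgroup G) : Prop where
  odd : IsOdd W
  full : ∀ y ∈ FF, ty y = 8 → Oc C1[J y] ≤ W
  nC : C1[J z2] ≤ N[W]
  nF : N[im J FF] ≤ N[W]

/-- Balance. -/
structure Bl (J : N2 → G) : Prop where
  bal : ∀ (g : G) (D : Subgroup G), IsPGroup 2 D → D ≤ C1[g * J z2 * g⁻¹] →
    Oc C[D] ⊓ C1[g * J z2 * g⁻¹] ≤ Oc C1[g * J z2 * g⁻¹]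
  loc : ∀ Y : Subgroup G, IsOdd Y → Y ≤ C1[J z2] → im J PP ≤ N[Y] → Y ≤ Oc C1[J z2]

/-- The intersection of `W` with its conjugate under `n` is large. -/
structure Ix (J : N2 → G) (W : Subgroup G) (n : G) : Prop where
  cen : ∀ u ∈ DP, ty u = 6 → W ⊓ C1[J (u * dl 6)] ≤ cj n W
  dec : ∀ a ∈ W, ∃ b ∈ W ⊓ cj n W, ∃ c ∈ W ⊓ C[im J DP], a = b * c

end Conf

/-- A statement on all finite groups with coordinates. -/
def All (p : ∀ {G : Type u} [Group G] [Finite G], (N2 → G) → (G → Perm Ω) → Prop) : Prop :=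
  ∀ {G : Type u} [Group G] [Finite G] (J : N2 → G) (φ : G → Perm Ω), p J φ

/-! ### Cases I and II -/

/-- Piece TRI. -/
def TriStmt : Prop := All.{u} fun J φ => Ki J φ →
  (∀ g ∈ N[im J QQ], g ∈ NA J) ∨ Sw J φ ∨ Q3 J φ

/-- Piece C1E. -/
def C1eStmt : Prop := All.{u} fun {G} _ _ J φ => Ki J φ → IsSimpleGroup G → Syl (im J T0) ⊤ → ConL G

/-- Piece C2A. -/
def C2aStmt : Prop := All.{u} fun J φ => Sw J φ → ∃ t, Tg J φ t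

/-- Piece C2B. -/
def C2bStmt : Prop := All.{u} fun J φ => ∀ t, Tg J φ t → Syl (TT J t) ⊤

/-- Piece C2S. -/
def C2sStmt : Prop := All.{u} fun J φ => ∀ t, Tg J φ t → Syl (TT J t) ⊤ → t * t = 1

/-- Piece C2C. -/
def C2cStmt : Prop := All.{u} fun J φ => ∀ t, Tg J φ t → Syl (TT J t) ⊤ → t * t = 1 → Cc J

/-- Piece C2E. -/
def C2eStmt : Prop := All.{u} fun J φ => ∀ t, Tg J φ t → Syl (TT J t) ⊤ → t * t = 1 → Cc J →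
  ∀ h ∈ C1[J z2], h * t * h⁻¹ ∈ im J T0 → (∀ c ∈ TT J t, Commute c t → h * c * h⁻¹ ∈ TT J t) → False

/-- Piece C2D. -/
def C2dStmt : Prop := All.{u} fun {G} _ _ J φ => ∀ t, Tg J φ t → Syl (TT J t) ⊤ → t * t = 1 →
  Cc J → IsSimpleGroup G → False

/-! ### Case III: the climb to the Sylow subgroup -/

/-- Piece EEA. -/
def EeaStmt : Prop := All.{u} fun J φ => Q3 J φ → ∃ E, Eb J φ E

/-- Piece EEB. -/
def EebStmt : Prop := All.{u} fun {G} _ _ J φ => ∀ E, Eb J φ E → ∃ J' : N2 → G, E0 J' φ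

/-- Piece PB2. -/
def Pb2Stmt : Prop := All.{u} fun {G} _ _ J φ => E0 J φ → ∀ S : Subgroup G, IsPGroup 2 S →
  im J AE ≤ S → S ≤ N[im J EE] → (∀ g ∈ S, g ∈ C[im J EE] → g ∈ im J EE) ∨ ∃ p, Pb J S p

/-- Piece PB1. -/
def Pb1Stmt : Prop := All.{u} fun J φ => E0 J φ → ∀ g l,
  (∀ e ∈ EE, R J g e (e * zp (ch l e))) → ∀ e ∈ EE, ch l e = 0

/-- Piece LA1. -/
def La1Stmt : Prop := All.{u} fun J φ => E0 J φ → ∃ lam : N2 → Fin 3 → ZMod 2,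
  ∀ k ∈ QK, ∀ g ∈ NA J, φ g = pm2 k → g ∈ N[im J EE] →
    ∀ e ∈ EE, R J g e (k * e * k⁻¹ * zp (ch (lam k) e))

/-- Piece LAM. -/
def LamStmt : Prop := All.{u} fun {G} _ _ J φ => E0 J φ → ∃ J' : N2 → G, Sd J' φ ∨ Tw J' φ

/-- Piece HV. -/
def HvStmt : Prop := All.{u} fun {G} _ _ J φ => Ki J φ →
  (∀ g ∈ C[im J U1], g ∈ N[im J DD] → ∃ c ∈ FF, Ex J g c DD) ∧
  (∀ g ∈ C[im J DD], ∃ a ∈ PI, ∃ k ∈ NA J, φ k = 1 ∧ k ∈ C[im J DD] ∧ g = J a * k) ∧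
  (∀ F : Subgroup G, IsPGroup 2 F → F ≤ N[im J DD] → ∀ g ∈ F, g ∈ C[im J DD] → g ∈ im J PI) ∧
  ∀ F : Subgroup G, IsPGroup 2 F → F ≤ C[im J U1] → F ≤ N[im J DD] → Nat.card F ≤ 256

/-- Piece FFA. -/
def FfaStmt : Prop := All.{u} fun J φ => Eu J φ → ∀ F, Fp J F → ∃ f s, Fd J φ F f s

/-- Piece FFB. -/
def FfbStmt : Prop := All.{u} fun J φ => Eu J φ → ∃ F, Fp J F ∧ ∀ e ∈ EE, J e ∈ N[F]

/-- Piece FFC. -/
def FfcStmt : Prop := All.{u} fun J φ => Eu J φ → ∀ F f s, Fd J φ F f s →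
  (∀ e ∈ EE, J e ∈ N[F]) → ∀ e ∈ EE, ∃ c ∈ E1, R J f e (e * c)

/-- Piece TWK. -/
def TwkStmt : Prop := All.{u} fun J φ => Tw J φ → ∀ F f s, Fd J φ F f s →
  (∀ e ∈ EE, ∃ c ∈ E1, R J f e (e * c)) → False

/-- Piece STD. -/
def StdStmt : Prop := All.{u} fun {G} _ _ J φ => Sd J φ → ∀ F f s, Fd J φ F f s →
  (∀ e ∈ EE, ∃ c ∈ E1, R J f e (e * c)) → ∃ J' : N2 → G, St J' φ s

/-- Piece FB. -/
def FbStmt : Prop := All.{u} fun J φ => ∀ s, St J φ s → ∀ g ∈ N[im J FF],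
  (∀ v ∈ VV, g * J v * g⁻¹ * (J v)⁻¹ ∈ C[im J FF]) → (∀ u ∈ PI, Commute g (J u)) →
  ∃ v ∈ VV, Ex J g v FF

/-- Piece TH. -/
def ThStmt : Prop := All.{u} fun J φ => ∀ s, St J φ s → ∀ i, ∃ θ, Ey J θ (th i) FF FF

/-- Piece SY1. -/
def Sy1Stmt : Prop := All.{u} fun J φ => ∀ s, St J φ s → Syl (im J EE) C[im J EE] →
  Syl (im J SE) ⊤

/-- Piece A16. -/
def A16Stmt : Prop := All.{u} fun {G} _ _ J φ => ∀ s, St J φ s → IsSimpleGroup G →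
  Syl (im J SE) ⊤ → ConA G 16 ∨ ConA G 17

/-- Piece PP1. -/
def Pp1Stmt : Prop := All.{u} fun J φ => ∀ s, St J φ s → ¬ Syl (im J EE) C[im J EE] →
  ∃ p, Pa J φ s p

/-- Piece PP2. -/
def Pp2Stmt : Prop := All.{u} fun {G} _ _ J φ => ∀ s p, Pa J φ s p → ∃ J' : N2 → G, S2a J' φ s

/-- Piece SG. -/
def SgStmt : Prop := All.{u} fun J φ => ∀ s, S2a J φ s → ∃ g, Ex J g (xe 3 2) JJ

/-- Piece TX1. -/
def Tx1Stmt : Prop := All.{u} fun J φ => ∀ s, S2a J φ s → ∀ i, ∃ θ, ∃ k : Fin 4 → Fin 4,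
  Ey J θ (th i) FF FF ∧ ∀ j, j ≠ i → Commute θ (J (dl (pa j) * wb i (k j)))

/-- Piece TX. -/
def TxStmt : Prop := All.{u} fun {G} _ _ J φ => ∀ s, S2a J φ s → (∃ g, Ex J g (xe 3 2) JJ) →
  ∃ J' : N2 → G, S2t J' φ s

/-- Piece SY2. -/
def Sy2Stmt : Prop := All.{u} fun J φ => ∀ s, S2a J φ s → Syl (im J S2) ⊤

/-! ### Case III: fusion and the centraliser -/

/-- Piece M1A. -/
def M1aStmt : Prop := All.{u} fun J φ => ∀ s, S2t J φ s →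
  ∃ H ρ, Mo J PP H ρ ∧ ∀ g, g ∈ H ↔ ∃ m, Ex J g m PP

/-- Piece M1B. -/
def M1bStmt : Prop := All.{u} fun J φ => ∀ s H ρ, S2t J φ s → Mo J PP H ρ →
  (∀ g, g ∈ H ↔ ∃ m, Ex J g m PP) → ∃ ρ', Mo J S2 H ρ'

/-- Piece CL1. -/
def Cl1Stmt : Prop := All.{u} fun J φ => ∀ s H ρ, S3 J φ s H ρ → Wp J

/-- Piece CL2. -/
def Cl2Stmt : Prop := All.{u} fun {G} _ _ J φ => ∀ s H ρ, S3 J φ s H ρ →
  (∀ L : Subgroup G, H ≤ L → Th J L → Rd J L) ∧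
  ∀ e ∈ PP, ∀ e' ∈ PP, ty e = ty e' → ∃ g ∈ H, R J g e e'

/-- Piece CL3. -/
def Cl3Stmt : Prop := All.{u} fun {G} _ _ J φ => ∀ s H ρ, S3 J φ s H ρ → IsSimpleGroup G → Wp J →
  ∃ ε, Cl J ε

/-- Piece N9A. -/
def N9aStmt : Prop := All.{u} fun J φ => ∀ s H ρ ε, S3 J φ s H ρ → Wp J → Cl J ε → ∃ n, Nx J ε n

/-- Piece N9B. -/
def N9bStmt : Prop := All.{u} fun J φ => ∀ s H ρ ε n, S3 J φ s H ρ → Cl J ε → Nx J ε n →
  ε = false ∧ ∃ n', Nx J false n' ∧ n' ∈ C[im J DP]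

/-- Piece CENA. -/
def CenaStmt : Prop := All.{u} fun J φ => ∀ s H ρ, S3 J φ s H ρ → Cl J false →
  C1[J z2] ≤ N[im J EE ⊔ Oc C1[J z2]]

/-- Piece CENB. -/
def CenbStmt : Prop := All.{u} fun J φ => ∀ s H ρ, S3 J φ s H ρ → Cl J false →
  C1[J z2] ≤ N[im J EE ⊔ Oc C1[J z2]] →
  ∃ ρ', Mo J S2 C1[J z2] ρ' ∧ ∀ g ∈ C1[J z2], ρ' g = 1 ↔ g ∈ Oc C1[J z2]

/-! ### Case III: the end -/

/-- Piece BAL. -/
def BalStmt : Prop := All.{u} fun J φ => ∀ s ρ n, Fe J φ s ρ n → Bl J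

/-- Piece W1A. -/
def W1aStmt : Prop := All.{u} fun J φ => ∀ s ρ n, Fe J φ s ρ n → Bl J → ∃ W, IsOdd W ∧
  ∀ a ∈ AA, ∀ b ∈ AA, a ≠ 1 → b ≠ 1 → a ≠ b → W = W4 (J a) (J b)

/-- Piece W1B. -/
def W1bStmt : Prop := All.{u} fun J φ => ∀ s ρ n W, Fe J φ s ρ n → IsOdd W →
  (∀ a ∈ AA, ∀ b ∈ AA, a ≠ 1 → b ≠ 1 → a ≠ b → W = W4 (J a) (J b)) → Wd J W

/-- Piece HO. -/
def HoStmt : Prop := All.{u} fun {G} _ _ J φ => ∀ s ρ n, Fe J φ s ρ n → ∀ L : Subgroup G, L ≠ ⊤ →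
  C1[J z2] ≤ L → Th J L → n ∈ L → ConA G 19

/-- Piece BW. -/
def BwStmt : Prop := ∀ {G : Type u} [Group G] [Finite G] (B D W W0 : Subgroup G),
  (∀ b ∈ B, b * b = 1) → IsOdd W → W0 ≤ W → B ≤ N[W] → B ≤ N[W0] → D ≤ B → D.relIndex B = 2 →
  (∀ H : Subgroup G, H ≤ B → H.relIndex B = 2 → H ≠ D → W ⊓ C[H] ≤ W0) →
  ∀ a ∈ W, ∃ b ∈ W0, ∃ c ∈ W ⊓ C[D], a = b * c

/-- Piece IX. -/
def IxStmt : Prop := All.{u} fun J φ => ∀ s ρ n W, Fe J φ s ρ n → Bl J → Wd J W → Ix J W n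

/-- Piece G7B. -/
def G7bStmt : Prop := ∀ {X : Type u} [Group X] [Finite X] (D V Y : Subgroup X) (t θ : X),
  Syl D ⊤ → Nonempty (D ≃* DihedralGroup 4) → Cfsg.oddCore X = ⊥ →
  (∀ a b : X, orderOf a = 2 → orderOf b = 2 → IsConj a b) → V ≤ D → Nat.card V = 4 →
  (∀ v ∈ V, v * v = 1) → t ∈ V → t ≠ 1 → (∀ a ∈ D, Commute a t) → θ ∈ N[V] → ¬ Commute θ t →
  Odd (Nat.card Y) → D ≤ N[Y] → θ ∈ N[Y] → C1[t] ≤ D ⊔ Y → Nat.card Y ∣ 3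

/-- Piece G7. -/
def G7Stmt : Prop := All.{u} fun J φ => ∀ s ρ n W, Fe J φ s ρ n → Wd J W →
  (Oc C[im J DP]).relIndex (W ⊓ C[im J DP]) ∣ 3

/-- Piece W3. -/
def W3Stmt : Prop := All.{u} fun {G} _ _ J φ => ∀ s ρ n W, Fe J φ s ρ n → Bl J → Wd J W →
  Ix J W n → ConA G 19 ∨ W = ⊥ ∨ (Nat.card W = 3 ∧ W ⊓ cj n W = ⊥)

/-- Piece K18. -/
def K18Stmt : Prop := ∀ {G : Type u} [Group G] [Finite G] (j : N2 →* G), Function.Injective j →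
  (∀ H : Subgroup G, H.index ≠ 2) → C1[j z2] = j.range → ConA G 18

/-- Piece K19B. -/
def K19bStmt : Prop := ∀ {G : Type u} [Group G] [Finite G] (j : N2 →* G) (c : G),
  Function.Injective j → (∀ H : Subgroup G, H.index ≠ 2) → orderOf c = 3 →
  (∀ m, j m * c * (j m)⁻¹ = if par m = 0 then c else c⁻¹) → C1[j z2] = zpowers c ⊔ j.range →
  ConA G 19

/-- Piece K19. -/
def K19Stmt : Prop := All.{u} fun {G} _ _ J φ => ∀ s ρ n W, Fe J φ s ρ n → Wd J W → Ix J W n →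
  Nat.card W = 3 → W ⊓ cj n W = ⊥ → Oc C1[J z2] = W → ConA G 19

end Cfsg.Agent.H17.Kn
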