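import Mathlib
import Cfsg.Agent.H43.Cent
import Cfsg.Agent.H17.EvQ
import Cfsg.Agent.H43.MpJ2
import Cfsg.Agent.S0495
import Cfsg.Agent.H92.X5B
import Cfsg.Agent.S2066
import Cfsg.Agent.S2040

set_option autoImplicit false
set_option maxRecDepth 200000
set_option linter.style.longLine false

namespace Cfsg.Agent.H17.EvJ2

open Cfsg.Agent.H43
open scoped Pointwise

theorem p_hn : NOk 100 := by decide

theorem p_hk : 100 ≤ 2 ^ 7 := by decide

noncomputable def EG : List Net := [MpJ2.a, H47.J2P.h_g1, H47.J2P.h_a19, H47.J2P.h_a27, H47.J2P.h_g7, H47.J2P.h_a0, H47.J2P.h_g4, H47.J2P.h_a8, H47.J2P.h_g14, H47.J2P.h_g10, H47.J2P.h_g11, H47.J2P.h_g21, H47.J2P.h_g22, H47.J2P.h_g17, H47.J2P.h_g18]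

theorem EG_ok : okE 100 EG = true := (okE_cons.2 ⟨MpJ2.a_ok, (okE_cons.2 ⟨H47.J2P.h_g1_ok, (okE_cons.2 ⟨H47.J2P.h_a19_ok, (okE_cons.2 ⟨H47.J2P.h_a27_ok, (okE_cons.2 ⟨H47.J2P.h_g7_ok, (okE_cons.2 ⟨H47.J2P.h_a0_ok, (okE_cons.2 ⟨H47.J2P.h_g4_ok, (okE_cons.2 ⟨H47.J2P.h_a8_ok, (okE_cons.2 ⟨H47.J2P.h_g14_ok, (okE_cons.2 ⟨H47.J2P.h_g10_ok, (okE_cons.2 ⟨H47.J2P.h_g11_ok, (okE_cons.2 ⟨H47.J2P.h_g21_ok, (okE_cons.2 ⟨H47.J2P.h_g22_ok, (okE_cons.2 ⟨H47.J2P.h_g17_ok, (okE_cons.2 ⟨H47.J2P.h_g18_ok, (okE_nil 100)⟩)⟩)⟩)⟩)⟩)⟩)⟩)⟩)⟩)⟩)⟩)⟩)⟩)⟩)⟩)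

noncomputable def p_g1 : Net := (Net.cons (nat_lit 1) (nat_lit 0x4450545105110511041040510) (Net.cons (nat_lit 2) (nat_lit 0x1131211020110132031003310) (Net.cons (nat_lit 4) (nat_lit 0x80a040402020808040b0401) (Net.cons (nat_lit 8) (nat_lit 0x5400500064007500160000) (Net.cons (nat_lit 16) (nat_lit 0x4574000008b100000006) (Net.cons (nat_lit 32) (nat_lit 0x60000000080c42140) (Net.cons (nat_lit 64) (nat_lit 0xbfcfcb7c4) (Net.cons (nat_lit 32) (nat_lit 0x4000000007a726488) (Net.cons (nat_lit 16) (nat_lit 0x9144000014fd0000754b) (Net.cons (nat_lit 8) (nat_lit 0x90000f005e00d40050004d) (Net.cons (nat_lit 4) (nat_lit 0xe070d0a0a000e0301080d0d) (Net.cons (nat_lit 2) (nat_lit 0x3330322213321132313223230) (Net.cons (nat_lit 1) (nat_lit 0x1540444055440444515414040) Net.nil)))))))))))))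

theorem p_g1_ok : Net.ok 100 p_g1 = true := by decide +kernel

noncomputable def p_g2 : Net := (Net.cons (nat_lit 1) (nat_lit 0x1004014414554100450440004) (Net.cons (nat_lit 2) (nat_lit 0x1232121011321320301222310) (Net.cons (nat_lit 4) (nat_lit 0x1040c0b09080d09030a0906) (Net.cons (nat_lit 8) (nat_lit 0x660058008b000200bf0001) (Net.cons (nat_lit 16) (nat_lit 0x4a90000020010000000f) (Net.cons (nat_lit 32) (nat_lit 0x600000000652f4a80) (Net.cons (nat_lit 64) (nat_lit 0x9f56f6ade) (Net.cons (nat_lit 32) (nat_lit 0xc0000000025af4a81) (Net.cons (nat_lit 16) (nat_lit 0x95b40000a9cc00008432) (Net.cons (nat_lit 8) (nat_lit 0xdc00c80014005e00db005d) (Net.cons (nat_lit 4) (nat_lit 0x4090200000c0a0602030e06) (Net.cons (nat_lit 2) (nat_lit 0x2020330010312233231323010) (Net.cons (nat_lit 1) (nat_lit 0x114445044451151004540410) Net.nil)))))))))))))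

theorem p_g2_ok : Net.ok 100 p_g2 = true := by decide +kernel

noncomputable def p_V3 : List Net := [p_g1, p_g2]

theorem p_V3_ok : okE 100 p_V3 = true := (okE_cons.2 ⟨p_g1_ok, (okE_cons.2 ⟨p_g2_ok, (okE_nil 100)⟩)⟩)

noncomputable def p_g5 : Net := (Net.cons (nat_lit 1) (nat_lit 0x5054401545004411050150100) (Net.cons (nat_lit 2) (nat_lit 0x13002202133112020210220) (Net.cons (nat_lit 4) (nat_lit 0xe060a00000c0d0902010108) (Net.cons (nat_lit 8) (nat_lit 0xc9005f0018002500180008) (Net.cons (nat_lit 16) (nat_lit 0x3240000c26c00000000) (Net.cons (nat_lit 32) (nat_lit 0x5000000009cc23fa0) (Net.cons (nat_lit 64) (nat_lit 0xd9fe2bfa0) (Net.cons (nat_lit 32) (nat_lit 0x500000000dccebf60) (Net.cons (nat_lit 16) (nat_lit 0x6b3e00006acc00001802) (Net.cons (nat_lit 8) (nat_lit 0x6b00df00ba0087009800b0) (Net.cons (nat_lit 4) (nat_lit 0xc060c00000e0d0902010508) (Net.cons (nat_lit 2) (nat_lit 0x1013002202133112020310220)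 (Net.cons (nat_lit 1) (nat_lit 0x5054401545004411050110010) Net.nil)))))))))))))

theorem p_g5_ok : Net.ok 100 p_g5 = true := by decide +kernel

noncomputable def p_g6 : Net := (Net.cons (nat_lit 1) (nat_lit 0x4011451114151551401104100) (Net.cons (nat_lit 2) (nat_lit 0x2121003010211301031003020) (Net.cons (nat_lit 4) (nat_lit 0x40104080904030c090f0b0e) (Net.cons (nat_lit 8) (nat_lit 0x4c006800bb004d00d20002) (Net.cons (nat_lit 16) (nat_lit 0xc10500000e0800000003) (Net.cons (nat_lit 32) (nat_lit 0x9002dd20) (Net.cons (nat_lit 64) (nat_lit 0xfbefadd25) (Net.cons (nat_lit 32) (nat_lit 0x400000000800e020f) (Net.cons (nat_lit 16) (nat_lit 0x4e540000359a0000010f) (Net.cons (nat_lit 8) (nat_lit 0x900024008b009000dd0022) (Net.cons (nat_lit 4) (nat_lit 0x609050d0c0a0b000f050206) (Net.cons (nat_lit 2) (nat_lit 0x2101322123331100033230302) (Net.cons (nat_lit 1) (nat_lit 0x1544010445414551515000550)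 Net.nil)))))))))))))

theorem p_g6_ok : Net.ok 100 p_g6 = true := by decide +kernel

noncomputable def p_V7 : List Net := [p_g5, p_g6]

theorem p_V7_ok : okE 100 p_V7 = true := (okE_cons.2 ⟨p_g5_ok, (okE_cons.2 ⟨p_g6_ok, (okE_nil 100)⟩)⟩)

noncomputable def p_V9 : List Net := [H47.J2P.h_g45, H47.J2P.h_a0]

theorem p_V9_ok : okE 100 p_V9 = true := (okE_cons.2 ⟨H47.J2P.h_g45_ok, (okE_cons.2 ⟨H47.J2P.h_a0_ok, (okE_nil 100)⟩)⟩)

noncomputable def p_g11 : Net := (Net.cons (nat_lit 1) (nat_lit 0x5545151150541554410444110) (Net.cons (nat_lit 2) (nat_lit 0x1222130300333310012302200) (Net.cons (nat_lit 4) (nat_lit 0xf000605080c0300020c0101) (Net.cons (nat_lit 8) (nat_lit 0x200016005b009800030009) (Net.cons (nat_lit 16) (nat_lit 0x33060000ab150000000c) (Net.cons (nat_lit 32) (nat_lit 0x200000000020d74f0) (Net.cons (nat_lit 64) (nat_lit 0x6430df4f9) (Net.cons (nat_lit 32) (nat_lit 0xb000000005e9fc3d5)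 (Net.cons (nat_lit 16) (nat_lit 0xf4f50000e1260000b3c6) (Net.cons (nat_lit 8) (nat_lit 0xa2009500fb00d30007002a) (Net.cons (nat_lit 4) (nat_lit 0x5030a0c0b020d0c0c0d0203) (Net.cons (nat_lit 2) (nat_lit 0x333320112200112022322120) (Net.cons (nat_lit 1) (nat_lit 0x4010504001100440140445510) Net.nil)))))))))))))

theorem p_g11_ok : Net.ok 100 p_g11 = true := by decide +kernel

noncomputable def p_V12 : List Net := [H47.J2P.h_a0, p_g11]

theorem p_V12_ok : okE 100 p_V12 = true := (okE_cons.2 ⟨H47.J2P.h_a0_ok, (okE_cons.2 ⟨p_g11_ok, (okE_nil 100)⟩)⟩)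

noncomputable def p_V14 : List Net := [H47.J2P.h_a0, H47.J2P.h_g53]

theorem p_V14_ok : okE 100 p_V14 = true := (okE_cons.2 ⟨H47.J2P.h_a0_ok, (okE_cons.2 ⟨H47.J2P.h_g53_ok, (okE_nil 100)⟩)⟩)

noncomputable def p_V16 : List Net := [H47.J2P.h_a0, H47.J2P.h_a0]

theorem p_V16_ok : okE 100 p_V16 = true := (okE_cons.2 ⟨H47.J2P.h_a0_ok, (okE_cons.2 ⟨H47.J2P.h_a0_ok, (okE_nil 100)⟩)⟩)

noncomputable def lb_E : List Net := [MpJ2.a, H47.J2P.h_g1, H47.J2P.h_a19, H47.J2P.h_a27, H47.J2P.h_g7, H47.J2P.h_a0, H47.J2P.h_g4, H47.J2P.h_a8, H47.J2P.h_g14, H47.J2P.h_g10, H47.J2P.h_g11, H47.J2P.h_g21, H47.J2P.h_g22, H47.J2P.h_g17, H47.J2P.h_g18, p_g1, p_g2, p_g5, p_g6, H47.J2P.h_g45, H47.J2P.h_a0, H47.J2P.h_a0, p_g11, H47.J2P.h_a0, H47.J2P.h_g53, H47.J2P.h_a0, H47.J2P.h_a0]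

theorem lb_E_ok : okE 100 lb_E = true := (okE_cons.2 ⟨MpJ2.a_ok, (okE_cons.2 ⟨H47.J2P.h_g1_ok, (okE_cons.2 ⟨H47.J2P.h_a19_ok, (okE_cons.2 ⟨H47.J2P.h_a27_ok, (okE_cons.2 ⟨H47.J2P.h_g7_ok, (okE_cons.2 ⟨H47.J2P.h_a0_ok, (okE_cons.2 ⟨H47.J2P.h_g4_ok, (okE_cons.2 ⟨H47.J2P.h_a8_ok, (okE_cons.2 ⟨H47.J2P.h_g14_ok, (okE_cons.2 ⟨H47.J2P.h_g10_ok, (okE_cons.2 ⟨H47.J2P.h_g11_ok, (okE_cons.2 ⟨H47.J2P.h_g21_ok, (okE_cons.2 ⟨H47.J2P.h_g22_ok, (okE_cons.2 ⟨H47.J2P.h_g17_ok, (okE_cons.2 ⟨H47.J2P.h_g18_ok, (okE_cons.2 ⟨p_g1_ok, (okE_cons.2 ⟨p_g2_ok, (okE_cons.2 ⟨p_g5_ok, (okE_cons.2 ⟨p_g6_ok, (okE_cons.2 ⟨H47.J2P.h_g45_ok, (okE_cons.2 ⟨H47.J2P.h_a0_ok, (okE_cons.2 ⟨H47.J2P.h_a0_ok, (okE_cons.2 ⟨p_g11_ok, (okE_cons.2 ⟨H47.J2P.h_a0_ok, (okE_cons.2 ⟨H47.J2P.h_g53_ok, (okE_cons.2 ⟨H47.J2P.h_a0_ok, (okE_cons.2 ⟨H47.J2P.h_a0_ok, (okE_nil 100)⟩)⟩)⟩)⟩)⟩)⟩)⟩)⟩)⟩)⟩)⟩)⟩)⟩)⟩)⟩)⟩)⟩)⟩)⟩)⟩)⟩)⟩)⟩)⟩)⟩)⟩)⟩)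

noncomputable def p_g18 : Net := (Net.cons (nat_lit 1) (nat_lit 0x5444504000554044405100004) (Net.cons (nat_lit 2) (nat_lit 0x1232131332103321200100100) (Net.cons (nat_lit 4) (nat_lit 0xa03060a01000209000e0804) (Net.cons (nat_lit 8) (nat_lit 0xfb00f400d9004100050008) (Net.cons (nat_lit 16) (nat_lit 0x2140000a04300000002) (Net.cons (nat_lit 32) (nat_lit 0xc0000000009d29da0) (Net.cons (nat_lit 64) (nat_lit 0x19bfe9dee) (Net.cons (nat_lit 32) (nat_lit 0x60000000029d29da0) (Net.cons (nat_lit 16) (nat_lit 0x6a1d0000fa5f00000c1b) (Net.cons (nat_lit 8) (nat_lit 0xfb00e400e9005100050008) (Net.cons (nat_lit 4) (nat_lit 0xa03060a05000209000e0804) (Net.cons (nat_lit 2) (nat_lit 0x3232131132103321200300100) (Net.cons (nat_lit 1) (nat_lit 0x5444504000554044405100004) Net.nil)))))))))))))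

theorem p_g18_ok : Net.ok 100 p_g18 = true := by decide +kernel

noncomputable def p_g19 : Net := (Net.cons (nat_lit 1) (nat_lit 0x1414555111540044011105104) (Net.cons (nat_lit 2) (nat_lit 0x1223320022320031010010100) (Net.cons (nat_lit 4) (nat_lit 0x70e09080d010c06010c0408) (Net.cons (nat_lit 8) (nat_lit 0x48007a00cf00a3004a0000) (Net.cons (nat_lit 16) (nat_lit 0x7db2000020020000000e) (Net.cons (nat_lit 32) (nat_lit 0x30000000070a4c710) (Net.cons (nat_lit 64) (nat_lit 0x370edcf1c) (Net.cons (nat_lit 32) (nat_lit 0xd000000004cb184bb) (Net.cons (nat_lit 16) (nat_lit 0x59a00000ec8c000044c6) (Net.cons (nat_lit 8) (nat_lit 0xb400ef00dc0034004900a8) (Net.cons (nat_lit 4) (nat_lit 0x3010e010b0403070d0c0706) (Net.cons (nat_lit 2) (nat_lit 0x1333330233032212200023231) (Net.cons (nat_lit 1) (nat_lit 0x1450405051450110044540504) Net.nil)))))))))))))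

theorem p_g19_ok : Net.ok 100 p_g19 = true := by decide +kernel

noncomputable def p_g20 : Net := (Net.cons (nat_lit 1) (nat_lit 0x5451510540100444544000100) (Net.cons (nat_lit 2) (nat_lit 0x3312313221210323002110200) (Net.cons (nat_lit 4) (nat_lit 0x10b0a02050d0f0c0c050204) (Net.cons (nat_lit 8) (nat_lit 0x700b40087001c00010001) (Net.cons (nat_lit 16) (nat_lit 0x4de900003ca300000004) (Net.cons (nat_lit 32) (nat_lit 0x90000000000140280) (Net.cons (nat_lit 64) (nat_lit 0x7527e0fdc) (Net.cons (nat_lit 32) (nat_lit 0x200000000e6ec5b9c) (Net.cons (nat_lit 16) (nat_lit 0x6d20000022a900004108) (Net.cons (nat_lit 8) (nat_lit 0x1e001c000f000300940079) (Net.cons (nat_lit 4) (nat_lit 0x203050a07050b0c08050002) (Net.cons (nat_lit 2) (nat_lit 0x322320132111322003320211) (Net.cons (nat_lit 1) (nat_lit 0x5051500010050545041510104) Net.nil)))))))))))))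

theorem p_g20_ok : Net.ok 100 p_g20 = true := by decide +kernel

noncomputable def p_g21 : Net := (Net.cons (nat_lit 1) (nat_lit 0x4041515110551005411101040) (Net.cons (nat_lit 2) (nat_lit 0x1321022321110210020101000) (Net.cons (nat_lit 4) (nat_lit 0x602020e0a040f000d0c0401) (Net.cons (nat_lit 8) (nat_lit 0x1f009e0003001d00d50000) (Net.cons (nat_lit 16) (nat_lit 0xb8020000215300000000) (Net.cons (nat_lit 32) (nat_lit 0x500000000090076f0) (Net.cons (nat_lit 64) (nat_lit 0xd0dfbf6f8) (Net.cons (nat_lit 32) (nat_lit 0xa000000003ffbf7e5) (Net.cons (nat_lit 16) (nat_lit 0xfcd8000064a50000f100) (Net.cons (nat_lit 8) (nat_lit 0xa400930029002900f40010) (Net.cons (nat_lit 4) (nat_lit 0xd0e0d04020e08020e070508) (Net.cons (nat_lit 2) (nat_lit 0x2331111033003223221023001) (Net.cons (nat_lit 1) (nat_lit 0x4045515110510105105001040) Net.nil)))))))))))))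

theorem p_g21_ok : Net.ok 100 p_g21 = true := by decide +kernel

noncomputable def p_g22 : Net := (Net.cons (nat_lit 1) (nat_lit 0x4001500450145100105500004) (Net.cons (nat_lit 2) (nat_lit 0x2321121222230111200111200) (Net.cons (nat_lit 4) (nat_lit 0x7060205080005040c0208) (Net.cons (nat_lit 8) (nat_lit 0x5a00cf0054009900030000) (Net.cons (nat_lit 16) (nat_lit 0x80220000123000000008) (Net.cons (nat_lit 32) (nat_lit 0x90000000014010a70) (Net.cons (nat_lit 64) (nat_lit 0x15733da78) (Net.cons (nat_lit 32) (nat_lit 0xf000000001cc45ff5) (Net.cons (nat_lit 16) (nat_lit 0xf0ab0000936e0000400d) (Net.cons (nat_lit 8) (nat_lit 0x5a009f005500e800430021) (Net.cons (nat_lit 4) (nat_lit 0x6070204090105040c0308) (Net.cons (nat_lit 2) (nat_lit 0x2321120232330111201111210) (Net.cons (nat_lit 1) (nat_lit 0x4001500450145100115500004) Net.nil)))))))))))))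

theorem p_g22_ok : Net.ok 100 p_g22 = true := by decide +kernel

noncomputable def p_g23 : Net := (Net.cons (nat_lit 1) (nat_lit 0x4551501055110550505004100) (Net.cons (nat_lit 2) (nat_lit 0x1333312203000021010032300) (Net.cons (nat_lit 4) (nat_lit 0x10d030c0603060304060304) (Net.cons (nat_lit 8) (nat_lit 0x4400bf0028005600410001) (Net.cons (nat_lit 16) (nat_lit 0xa00e0000507100000004) (Net.cons (nat_lit 32) (nat_lit 0x900000000ea2130c0) (Net.cons (nat_lit 64) (nat_lit 0xaebfd72c5) (Net.cons (nat_lit 32) (nat_lit 0xe0000000085562b81) (Net.cons (nat_lit 16) (nat_lit 0xe2750000a8fe00004901) (Net.cons (nat_lit 8) (nat_lit 0x1e002900640065004b0021) (Net.cons (nat_lit 4) (nat_lit 0xd00020607090b00010300) (Net.cons (nat_lit 2) (nat_lit 0x3203111212130122211012031) (Net.cons (nat_lit 1) (nat_lit 0x5541055551450044415440404) Net.nil)))))))))))))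

theorem p_g23_ok : Net.ok 100 p_g23 = true := by decide +kernel

noncomputable def nt_c1_K : List Net := [p_g19, p_g20, p_g21, p_g22, p_g23]

theorem nt_c1_K_ok : okE 100 nt_c1_K = true := (okE_cons.2 ⟨p_g19_ok, (okE_cons.2 ⟨p_g20_ok, (okE_cons.2 ⟨p_g21_ok, (okE_cons.2 ⟨p_g22_ok, (okE_cons.2 ⟨p_g23_ok, (okE_nil 100)⟩)⟩)⟩)⟩)⟩)

noncomputable def p_V25 : List Net := [p_g1, p_g2, p_g5, p_g6, H47.J2P.h_g45, H47.J2P.h_a0, H47.J2P.h_a0, p_g11, H47.J2P.h_a0, H47.J2P.h_g53, H47.J2P.h_a0, H47.J2P.h_a0]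

theorem p_V25_ok : okE 100 p_V25 = true := (okE_cons.2 ⟨p_g1_ok, (okE_cons.2 ⟨p_g2_ok, (okE_cons.2 ⟨p_g5_ok, (okE_cons.2 ⟨p_g6_ok, (okE_cons.2 ⟨H47.J2P.h_g45_ok, (okE_cons.2 ⟨H47.J2P.h_a0_ok, (okE_cons.2 ⟨H47.J2P.h_a0_ok, (okE_cons.2 ⟨p_g11_ok, (okE_cons.2 ⟨H47.J2P.h_a0_ok, (okE_cons.2 ⟨H47.J2P.h_g53_ok, (okE_cons.2 ⟨H47.J2P.h_a0_ok, (okE_cons.2 ⟨H47.J2P.h_a0_ok, (okE_nil 100)⟩)⟩)⟩)⟩)⟩)⟩)⟩)⟩)⟩)⟩)⟩)⟩)

noncomputable def p_g26 : Net := (Net.cons (nat_lit 1) (nat_lit 0x5545404001101000440005110) (Net.cons (nat_lit 2) (nat_lit 0x3000003303132030302201000) (Net.cons (nat_lit 4) (nat_lit 0x9020a0c0e090a0a050f0c08) (Net.cons (nat_lit 8) (nat_lit 0x92008900a200e500ad0004) (Net.cons (nat_lit 16) (nat_lit 0x1d940000cb0600000001) (Net.cons (nat_lit 32) (nat_lit 0xd00000000540608b0) (Net.cons (nat_lit 64) (nat_lit 0xb5c0629b4) (Net.cons (nat_lit 32) (nat_lit 0x54b2cbb5) (Net.cons (nat_lit 16)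 (nat_lit 0xf39f0000c3ee0000f4b9) (Net.cons (nat_lit 8) (nat_lit 0xb900ab003c006c00d500fc) (Net.cons (nat_lit 4) (nat_lit 0x702080c02090a050d070a0c) (Net.cons (nat_lit 2) (nat_lit 0x332030021300312210210300) (Net.cons (nat_lit 1) (nat_lit 0x545454004540111114001154) Net.nil)))))))))))))

theorem p_g26_ok : Net.ok 100 p_g26 = true := by decide +kernel

noncomputable def p_g27 : Net := (Net.cons (nat_lit 1) (nat_lit 0x1040041000000000500004510) (Net.cons (nat_lit 2) (nat_lit 0x213331200330020301000200) (Net.cons (nat_lit 4) (nat_lit 0x2020d000a0d000004070409) (Net.cons (nat_lit 8) (nat_lit 0x400ef005a000d00570000) (Net.cons (nat_lit 16) (nat_lit 0x91790000001400000000) (Net.cons (nat_lit 32) (nat_lit 0x900000000f79402e0) (Net.cons (nat_lit 64) (nat_lit 0x9f79402e0) (Net.cons (nat_lit 32) (nat_lit 0x200000000578002e0) (Net.cons (nat_lit 16) (nat_lit 0x9e180000f25c000016e9) (Net.cons (nat_lit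 8) (nat_lit 0x6d00b700c4007b005e0084) (Net.cons (nat_lit 4) (nat_lit 0x4010c09030e090d040f070d) (Net.cons (nat_lit 2) (nat_lit 0x331212212121203111120130) (Net.cons (nat_lit 1) (nat_lit 0x4400011114411554000554) Net.nil)))))))))))))

theorem p_g27_ok : Net.ok 100 p_g27 = true := by decide +kernel

noncomputable def p_g28 : Net := (Net.cons (nat_lit 1) (nat_lit 0x4515510400550050000510000) (Net.cons (nat_lit 2) (nat_lit 0x1333300000330003001333000) (Net.cons (nat_lit 4) (nat_lit 0x1080e0103020a0005040000) (Net.cons (nat_lit 8) (nat_lit 0x4b005f00c20004000d0000) (Net.cons (nat_lit 16) (nat_lit 0x24010000000a00000005) (Net.cons (nat_lit 32) (nat_lit 0x18aa5f0) (Net.cons (nat_lit 64) (nat_lit 0x5a18aa5f5) (Net.cons (nat_lit 32) (nat_lit 0xe00000000018aa5f1) (Net.cons (nat_lit 16) (nat_lit 0xbc5b0000420a00001c05) (Net.cons (nat_lit 8) (nat_lit 0x5b008f00e60021004d0000) (Net.cons (nat_lit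 4) (nat_lit 0xc08090103020a0905060c0c) (Net.cons (nat_lit 2) (nat_lit 0x3330310030300303331333300) (Net.cons (nat_lit 1) (nat_lit 0x4455040405055050140511154) Net.nil)))))))))))))

theorem p_g28_ok : Net.ok 100 p_g28 = true := by decide +kernel

noncomputable def p_g29 : Net := (Net.cons (nat_lit 1) (nat_lit 0x5115101000150050441115000) (Net.cons (nat_lit 2) (nat_lit 0x101210000110010103030200) (Net.cons (nat_lit 4) (nat_lit 0xe050b00040e05010b0200) (Net.cons (nat_lit 8) (nat_lit 0x9f00040004002000390000) (Net.cons (nat_lit 16) (nat_lit 0x9a950000c02100000000) (Net.cons (nat_lit 32) (nat_lit 0x4909e20) (Net.cons (nat_lit 64) (nat_lit 0x4909e20) (Net.cons (nat_lit 32) (nat_lit 0xf00000000c4b19e20) (Net.cons (nat_lit 16) (nat_lit 0x8e850000c021000021dc) (Net.cons (nat_lit 8) (nat_lit 0x8f0055000f0061003900a0) (Net.cons (nat_lit 4) (nat_lit 0xa0e0f0b00040e0a010f0804) (Net.cons (nat_lit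 2) (nat_lit 0x1112232030322323233212020) (Net.cons (nat_lit 1) (nat_lit 0x5115501001150050441115000) Net.nil)))))))))))))

theorem p_g29_ok : Net.ok 100 p_g29 = true := by decide +kernel

noncomputable def p_V30 : List Net := [p_g26, p_g27, p_g28, p_g29]

theorem p_V30_ok : okE 100 p_V30 = true := (okE_cons.2 ⟨p_g26_ok, (okE_cons.2 ⟨p_g27_ok, (okE_cons.2 ⟨p_g28_ok, (okE_cons.2 ⟨p_g29_ok, (okE_nil 100)⟩)⟩)⟩)⟩)

noncomputable def p_V32 : List Net := [p_g27, p_g28, p_g29]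

theorem p_V32_ok : okE 100 p_V32 = true := (okE_cons.2 ⟨p_g27_ok, (okE_cons.2 ⟨p_g28_ok, (okE_cons.2 ⟨p_g29_ok, (okE_nil 100)⟩)⟩)⟩)

noncomputable def p_V33 : List Net := [p_g28, p_g29]

theorem p_V33_ok : okE 100 p_V33 = true := (okE_cons.2 ⟨p_g28_ok, (okE_cons.2 ⟨p_g29_ok, (okE_nil 100)⟩)⟩)

noncomputable def p_V34 : List Net := [p_g29]

theorem p_V34_ok : okE 100 p_V34 = true := (okE_cons.2 ⟨p_g29_ok, (okE_nil 100)⟩)

noncomputable def p_V35 : List Net := []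

theorem p_V35_ok : okE 100 p_V35 = true := (okE_nil 100)

noncomputable def nt_c1_cnt_EG : List Net := [MpJ2.a, H47.J2P.h_g1, H47.J2P.h_a19, H47.J2P.h_a27, H47.J2P.h_g7, H47.J2P.h_a0, H47.J2P.h_g4, H47.J2P.h_a8, H47.J2P.h_g14, H47.J2P.h_g10, H47.J2P.h_g11, H47.J2P.h_g21, H47.J2P.h_g22, H47.J2P.h_g17, H47.J2P.h_g18, p_g1, p_g2, p_g5, p_g6, H47.J2P.h_g45, p_g11, H47.J2P.h_g53, p_g26, p_g27, p_g28, p_g29]

theorem nt_c1_cnt_EG_ok : okE 100 nt_c1_cnt_EG = true := (okE_cons.2 ⟨MpJ2.a_ok, (okE_cons.2 ⟨H47.J2P.h_g1_ok, (okE_cons.2 ⟨H47.J2P.h_a19_ok, (okE_cons.2 ⟨H47.J2P.h_a27_ok, (okE_cons.2 ⟨H47.J2P.h_g7_ok, (okE_cons.2 ⟨H47.J2P.h_a0_ok, (okE_cons.2 ⟨H47.J2P.h_g4_ok, (okE_cons.2 ⟨H47.J2P.h_a8_ok, (okE_cons.2 ⟨H47.J2P.h_g14_ok, (okE_cons.2 ⟨H47.J2P.h_g10_ok, (okE_cons.2 ⟨H47.J2P.h_g11_ok, (okE_cons.2 ⟨H47.J2P.h_g21_ok, (okE_cons.2 ⟨H47.J2P.h_g22_ok, (okE_cons.2 ⟨H47.J2P.h_g17_ok, (okE_cons.2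 ⟨H47.J2P.h_g18_ok, (okE_cons.2 ⟨p_g1_ok, (okE_cons.2 ⟨p_g2_ok, (okE_cons.2 ⟨p_g5_ok, (okE_cons.2 ⟨p_g6_ok, (okE_cons.2 ⟨H47.J2P.h_g45_ok, (okE_cons.2 ⟨p_g11_ok, (okE_cons.2 ⟨H47.J2P.h_g53_ok, (okE_cons.2 ⟨p_g26_ok, (okE_cons.2 ⟨p_g27_ok, (okE_cons.2 ⟨p_g28_ok, (okE_cons.2 ⟨p_g29_ok, (okE_nil 100)⟩)⟩)⟩)⟩)⟩)⟩)⟩)⟩)⟩)⟩)⟩)⟩)⟩)⟩)⟩)⟩)⟩)⟩)⟩)⟩)⟩)⟩)⟩)⟩)⟩)⟩)

noncomputable def p_g36 : Net := (Net.cons (nat_lit 1) (nat_lit 0x4444041550011005541551410) (Net.cons (nat_lit 2) (nat_lit 0x21033131330100200123000) (Net.cons (nat_lit 4) (nat_lit 0xe090c070b0a0d0600060c00) (Net.cons (nat_lit 8) (nat_lit 0x9c00390048008b00330002) (Net.cons (nat_lit 16) (nat_lit 0x36510000210600000004) (Net.cons (nat_lit 32) (nat_lit 0x16488010) (Net.cons (nat_lit 64) (nat_lit 0xd16eee2fd) (Net.cons (nat_lit 32) (nat_lit 0xe000000003d080ade) (Net.cons (nat_lit 16) (nat_lit 0x3d1100006b6600001e44) (Net.cons (nat_lit 8) (nat_lit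 0x9c00bd00cc000f00330082) (Net.cons (nat_lit 4) (nat_lit 0xe0b0d070b0a0d0602060c00) (Net.cons (nat_lit 2) (nat_lit 0x21133131330100210123000) (Net.cons (nat_lit 1) (nat_lit 0x4444041550011005541551410) Net.nil)))))))))))))

theorem p_g36_ok : Net.ok 100 p_g36 = true := by decide +kernel

noncomputable def p_g37 : Net := (Net.cons (nat_lit 1) (nat_lit 0x4451100100000000505110400) (Net.cons (nat_lit 2) (nat_lit 0x2201011100300221023232020) (Net.cons (nat_lit 4) (nat_lit 0xe0c0f0b0208020e07010800) (Net.cons (nat_lit 8) (nat_lit 0x72005e008a0010002a0000) (Net.cons (nat_lit 16) (nat_lit 0x67040000968100000000) (Net.cons (nat_lit 32) (nat_lit 0x8000000001ee10040) (Net.cons (nat_lit 64) (nat_lit 0xc3ef35bc0) (Net.cons (nat_lit 32) (nat_lit 0x600000000d24219d0) (Net.cons (nat_lit 16) (nat_lit 0xdaa600009e1300000fb8) (Net.cons (nat_lit 8) (nat_lit 0x65004f00b90001000a0032) (Net.cons (nat_lit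 4) (nat_lit 0xc0f0c0a000a030e05060a06) (Net.cons (nat_lit 2) (nat_lit 0x200031110300230033232120) (Net.cons (nat_lit 1) (nat_lit 0x50140110010005505110400) Net.nil)))))))))))))

theorem p_g37_ok : Net.ok 100 p_g37 = true := by decide +kernel

noncomputable def p_g38 : Net := (Net.cons (nat_lit 1) (nat_lit 0x151101501444111504111000) (Net.cons (nat_lit 2) (nat_lit 0x3132011303123301201102000) (Net.cons (nat_lit 4) (nat_lit 0x904020c030c060c02020301) (Net.cons (nat_lit 8) (nat_lit 0x4004500080008000d0001) (Net.cons (nat_lit 16) (nat_lit 0x900700000c4500000000) (Net.cons (nat_lit 32) (nat_lit 0x10000000068050460) (Net.cons (nat_lit 64) (nat_lit 0xf8452c61) (Net.cons (nat_lit 32) (nat_lit 0xf000000005634bee4) (Net.cons (nat_lit 16) (nat_lit 0xba87000015760000390a) (Net.cons (nat_lit 8) (nat_lit 0x50065002800f8003d0081) (Net.cons (nat_lit 4) (nat_lit 0x904030c0b0d060d03020301) (Net.cons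 (nat_lit 2) (nat_lit 0x3332013303123303201102200) (Net.cons (nat_lit 1) (nat_lit 0x151101501444111504111000) Net.nil)))))))))))))

theorem p_g38_ok : Net.ok 100 p_g38 = true := by decide +kernel

noncomputable def p_g39 : Net := (Net.cons (nat_lit 1) (nat_lit 0x1054155511540451004101444) (Net.cons (nat_lit 2) (nat_lit 0x1232232000002133001230030) (Net.cons (nat_lit 4) (nat_lit 0x10f02090f0e050c050a090a) (Net.cons (nat_lit 8) (nat_lit 0xb7000f002e00370080000c) (Net.cons (nat_lit 16) (nat_lit 0xa6dd000076430000000b) (Net.cons (nat_lit 32) (nat_lit 0x4000000000c223900) (Net.cons (nat_lit 64) (nat_lit 0x9bd7a3f87) (Net.cons (nat_lit 32) (nat_lit 0xa0000000058453680) (Net.cons (nat_lit 16) (nat_lit 0x747000006025000040f0) (Net.cons (nat_lit 8) (nat_lit 0x7800aa0021001700fd0017) (Net.cons (nat_lit 4) (nat_lit 0x7030a000306030f0c0a0e0c) (Net.cons (nat_lit 2) (nat_lit 0x3133113112210030100330120)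 (Net.cons (nat_lit 1) (nat_lit 0x1541141041454044500504415) Net.nil)))))))))))))

theorem p_g39_ok : Net.ok 100 p_g39 = true := by decide +kernel

noncomputable def p_g40 : Net := (Net.cons (nat_lit 1) (nat_lit 0x1515115415140445440144440) (Net.cons (nat_lit 2) (nat_lit 0x3212112123012312132213120) (Net.cons (nat_lit 4) (nat_lit 0x30e0d0008020c0103050801) (Net.cons (nat_lit 8) (nat_lit 0x8100080026002300c20003) (Net.cons (nat_lit 16) (nat_lit 0x72a10000126300000007) (Net.cons (nat_lit 32) (nat_lit 0x4000c180) (Net.cons (nat_lit 64) (nat_lit 0x762efd18d) (Net.cons (nat_lit 32) (nat_lit 0x500000000505123be) (Net.cons (nat_lit 16) (nat_lit 0x377000001c3300008177) (Net.cons (nat_lit 8) (nat_lit 0xe400d500470067006100c7) (Net.cons (nat_lit 4) (nat_lit 0x70f060d0a0c080101070807) (Net.cons (nat_lit 2) (nat_lit 0x3213103323013312322013332) (Net.cons (nat_lit 1) (nat_lit 0x5411154405044404550044150)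 Net.nil)))))))))))))

theorem p_g40_ok : Net.ok 100 p_g40 = true := by decide +kernel

noncomputable def p_g41 : Net := (Net.cons (nat_lit 1) (nat_lit 0x1511551111515400414540100) (Net.cons (nat_lit 2) (nat_lit 0x1013200030230200122220000) (Net.cons (nat_lit 4) (nat_lit 0x10c030304040f0104000301) (Net.cons (nat_lit 8) (nat_lit 0xc003c000e000200ce0000) (Net.cons (nat_lit 16) (nat_lit 0xa96e0000c82c00000006) (Net.cons (nat_lit 32) (nat_lit 0xc0e9620) (Net.cons (nat_lit 64) (nat_lit 0x2ad6ede20) (Net.cons (nat_lit 32) (nat_lit 0x500000000760c9f6d) (Net.cons (nat_lit 16) (nat_lit 0xa5fe0000c4ac00004ac4) (Net.cons (nat_lit 8) (nat_lit 0xf005c000c004200ac0072) (Net.cons (nat_lit 4) (nat_lit 0x10c030106050f0104020301) (Net.cons (nat_lit 2) (nat_lit 0x1013200030230200122220000) (Net.cons (nat_lit 1) (nat_lit 0x1511551111515400414540100) Net.nil)))))))))))))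

theorem p_g41_ok : Net.ok 100 p_g41 = true := by decide +kernel

noncomputable def nt_c2_K : List Net := [p_g37, p_g38, p_g39, p_g40, p_g41]

theorem nt_c2_K_ok : okE 100 nt_c2_K = true := (okE_cons.2 ⟨p_g37_ok, (okE_cons.2 ⟨p_g38_ok, (okE_cons.2 ⟨p_g39_ok, (okE_cons.2 ⟨p_g40_ok, (okE_cons.2 ⟨p_g41_ok, (okE_nil 100)⟩)⟩)⟩)⟩)⟩)

noncomputable def p_V43 : List Net := [p_g5, p_g6, H47.J2P.h_g45, H47.J2P.h_a0, H47.J2P.h_a0, p_g11, H47.J2P.h_a0, H47.J2P.h_g53, H47.J2P.h_a0, H47.J2P.h_a0]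

theorem p_V43_ok : okE 100 p_V43 = true := (okE_cons.2 ⟨p_g5_ok, (okE_cons.2 ⟨p_g6_ok, (okE_cons.2 ⟨H47.J2P.h_g45_ok, (okE_cons.2 ⟨H47.J2P.h_a0_ok, (okE_cons.2 ⟨H47.J2P.h_a0_ok, (okE_cons.2 ⟨p_g11_ok, (okE_cons.2 ⟨H47.J2P.h_a0_ok, (okE_cons.2 ⟨H47.J2P.h_g53_ok, (okE_cons.2 ⟨H47.J2P.h_a0_ok, (okE_cons.2 ⟨H47.J2P.h_a0_ok, (okE_nil 100)⟩)⟩)⟩)⟩)⟩)⟩)⟩)⟩)⟩)⟩)

noncomputable def p_g44 : Net := (Net.cons (nat_lit 1) (nat_lit 0x405545000510144441045114) (Net.cons (nat_lit 2) (nat_lit 0x22133231132022102221000) (Net.cons (nat_lit 4) (nat_lit 0x106000705040e0c0d0a0600) (Net.cons (nat_lit 8) (nat_lit 0x18008c0026008100110003) (Net.cons (nat_lit 16) (nat_lit 0x2e8f0000214c00000001) (Net.cons (nat_lit 32) (nat_lit 0x5a986480) (Net.cons (nat_lit 64) (nat_lit 0x7fe9a7485) (Net.cons (nat_lit 32) (nat_lit 0x9000000006d1108c6) (Net.cons (nat_lit 16) (nat_lit 0x1f440000ec4600003ce2) (Net.cons (nat_lit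 8) (nat_lit 0xb9007a00c1000d00d00081) (Net.cons (nat_lit 4) (nat_lit 0x509000202040f0a0b0f0a06) (Net.cons (nat_lit 2) (nat_lit 0x301002123203000133232010) (Net.cons (nat_lit 1) (nat_lit 0x141400550045554055111014) Net.nil)))))))))))))

theorem p_g44_ok : Net.ok 100 p_g44 = true := by decide +kernel

noncomputable def p_g45 : Net := (Net.cons (nat_lit 1) (nat_lit 0x150545055540114440000100) (Net.cons (nat_lit 2) (nat_lit 0x2220132110331001200110200) (Net.cons (nat_lit 4) (nat_lit 0xb04010f05030f0002020000) (Net.cons (nat_lit 8) (nat_lit 0x400110001002000320001) (Net.cons (nat_lit 16) (nat_lit 0xe0000809000000003) (Net.cons (nat_lit 32) (nat_lit 0x60000000000008130) (Net.cons (nat_lit 64) (nat_lit 0xd800ef3b3) (Net.cons (nat_lit 32) (nat_lit 0x600000000fdf12510) (Net.cons (nat_lit 16) (nat_lit 0x8c4e000004b20000a403) (Net.cons (nat_lit 8) (nat_lit 0x1600310021000000120029) (Net.cons (nat_lit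 4) (nat_lit 0xb0c010f05030f0002020000) (Net.cons (nat_lit 2) (nat_lit 0x2220132111331001200110300) (Net.cons (nat_lit 1) (nat_lit 0x150545055540114440000100) Net.nil)))))))))))))

theorem p_g45_ok : Net.ok 100 p_g45 = true := by decide +kernel

noncomputable def p_g46 : Net := (Net.cons (nat_lit 1) (nat_lit 0x4114454004414515404140400) (Net.cons (nat_lit 2) (nat_lit 0x2021303103200120201013000) (Net.cons (nat_lit 4) (nat_lit 0x40107080602040e08030900) (Net.cons (nat_lit 8) (nat_lit 0xe9002d00f8004a00b0000c) (Net.cons (nat_lit 16) (nat_lit 0xcdea0000480000000008) (Net.cons (nat_lit 32) (nat_lit 0x400000000180840e0) (Net.cons (nat_lit 64) (nat_lit 0x9dc3a69fc) (Net.cons (nat_lit 32) (nat_lit 0x400000000f1480862) (Net.cons (nat_lit 16) (nat_lit 0x877d000080900000da98) (Net.cons (nat_lit 8) (nat_lit 0xeb00af007a00ce0030008c) (Net.cons (nat_lit 4) (nat_lit 0xc0107080602050e080b0900) (Net.cons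 (nat_lit 2) (nat_lit 0x2001303123200120201213000) (Net.cons (nat_lit 1) (nat_lit 0x4114454004414515404140400) Net.nil)))))))))))))

theorem p_g46_ok : Net.ok 100 p_g46 = true := by decide +kernel

noncomputable def p_V47 : List Net := [p_g44, p_g45, p_g46]

theorem p_V47_ok : okE 100 p_V47 = true := (okE_cons.2 ⟨p_g44_ok, (okE_cons.2 ⟨p_g45_ok, (okE_cons.2 ⟨p_g46_ok, (okE_nil 100)⟩)⟩)⟩)

noncomputable def p_V49 : List Net := [p_g45, p_g46]

theorem p_V49_ok : okE 100 p_V49 = true := (okE_cons.2 ⟨p_g45_ok, (okE_cons.2 ⟨p_g46_ok, (okE_nil 100)⟩)⟩)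

noncomputable def p_V50 : List Net := [p_g46]

theorem p_V50_ok : okE 100 p_V50 = true := (okE_cons.2 ⟨p_g46_ok, (okE_nil 100)⟩)

noncomputable def p_V51 : List Net := []

theorem p_V51_ok : okE 100 p_V51 = true := (okE_nil 100)

noncomputable def nt_c2_cnt_EG : List Net := [MpJ2.a, H47.J2P.h_g1, H47.J2P.h_a19, H47.J2P.h_a27, H47.J2P.h_g7, H47.J2P.h_a0, H47.J2P.h_g4, H47.J2P.h_a8, H47.J2P.h_g14, H47.J2P.h_g10, H47.J2P.h_g11, H47.J2P.h_g21, H47.J2P.h_g22, H47.J2P.h_g17, H47.J2P.h_g18, p_g1, p_g2, p_g5, p_g6, H47.J2P.h_g45, p_g11, H47.J2P.h_g53, p_g44, p_g45, p_g46]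

theorem nt_c2_cnt_EG_ok : okE 100 nt_c2_cnt_EG = true := (okE_cons.2 ⟨MpJ2.a_ok, (okE_cons.2 ⟨H47.J2P.h_g1_ok, (okE_cons.2 ⟨H47.J2P.h_a19_ok, (okE_cons.2 ⟨H47.J2P.h_a27_ok, (okE_cons.2 ⟨H47.J2P.h_g7_ok, (okE_cons.2 ⟨H47.J2P.h_a0_ok, (okE_cons.2 ⟨H47.J2P.h_g4_ok, (okE_cons.2 ⟨H47.J2P.h_a8_ok, (okE_cons.2 ⟨H47.J2P.h_g14_ok, (okE_cons.2 ⟨H47.J2P.h_g10_ok, (okE_cons.2 ⟨H47.J2P.h_g11_ok, (okE_cons.2 ⟨H47.J2P.h_g21_ok, (okE_cons.2 ⟨H47.J2P.h_g22_ok, (okE_cons.2 ⟨H47.J2P.h_g17_ok, (okE_cons.2 ⟨H47.J2P.h_g18_ok, (okE_cons.2 ⟨p_g1_ok, (okE_cons.2 ⟨p_g2_ok, (okE_cons.2 ⟨p_g5_ok, (okE_cons.2 ⟨p_g6_ok, (okE_cons.2 ⟨H47.J2P.h_g45_ok, (okE_cons.2 ⟨p_g11_ok, (okE_cons.2 ⟨H47.J2P.h_g53_ok, (okE_cons.2 ⟨p_g44_ok, (okE_cons.2 ⟨p_g45_ok, (okE_cons.2 ⟨p_g46_ok, (okE_nil 100)⟩)⟩)⟩)⟩)⟩)⟩)⟩)⟩)⟩)⟩)⟩)⟩)⟩)⟩)⟩)⟩)⟩)⟩)⟩)⟩)⟩)⟩)⟩)⟩)⟩)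

noncomputable def p_g52 : Net := (Net.cons (nat_lit 1) (nat_lit 0x5555104101000044441554400) (Net.cons (nat_lit 2) (nat_lit 0x223231000200000002102110) (Net.cons (nat_lit 4) (nat_lit 0x704050c040603000c09030a) (Net.cons (nat_lit 8) (nat_lit 0x3c000a0043001000100001) (Net.cons (nat_lit 16) (nat_lit 0x40070000901b00000002) (Net.cons (nat_lit 32) (nat_lit 0x20000000049600000) (Net.cons (nat_lit 64) (nat_lit 0xb49602c01) (Net.cons (nat_lit 32) (nat_lit 0xc000000006530bc02) (Net.cons (nat_lit 16) (nat_lit 0x2f530000bc1b0000fccc) (Net.cons (nat_lit 8) (nat_lit 0x3e0064004b001000d000d3) (Net.cons (nat_lit 4) (nat_lit 0xb020a0a0206030f0c050606) (Net.cons (nat_lit 2) (nat_lit 0x1330320130301022221201320) (Net.cons (nat_lit 1) (nat_lit 0x150450154550544444001155) Net.nil)))))))))))))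

theorem p_g52_ok : Net.ok 100 p_g52 = true := by decide +kernel

noncomputable def p_g53 : Net := (Net.cons (nat_lit 1) (nat_lit 0x1040514455004010511440554) (Net.cons (nat_lit 2) (nat_lit 0x220003123333131312021020) (Net.cons (nat_lit 4) (nat_lit 0x7040e0d0609090904020904) (Net.cons (nat_lit 8) (nat_lit 0x6100d5008500900021000e) (Net.cons (nat_lit 16) (nat_lit 0x883c0000013400000000) (Net.cons (nat_lit 32) (nat_lit 0x300000000ce227810) (Net.cons (nat_lit 64) (nat_lit 0xfefa67c1c) (Net.cons (nat_lit 32) (nat_lit 0x400000000a4785fb4) (Net.cons (nat_lit 16) (nat_lit 0x70f0000ae5100006742) (Net.cons (nat_lit 8) (nat_lit 0x740080009c000900150055) (Net.cons (nat_lit 4) (nat_lit 0xc0c0b080a02000c0d060201) (Net.cons (nat_lit 2) (nat_lit 0x202233101201323031310332) (Net.cons (nat_lit 1) (nat_lit 0x1111111015540004550445504) Net.nil)))))))))))))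

theorem p_g53_ok : Net.ok 100 p_g53 = true := by decide +kernel

noncomputable def p_g54 : Net := (Net.cons (nat_lit 1) (nat_lit 0x5555100000150050444001100) (Net.cons (nat_lit 2) (nat_lit 0x3011203200110032011112130) (Net.cons (nat_lit 4) (nat_lit 0x10f0d000001010809020800) (Net.cons (nat_lit 8) (nat_lit 0x4d00fb004b00a60049000f) (Net.cons (nat_lit 16) (nat_lit 0x20420000900000000000) (Net.cons (nat_lit 32) (nat_lit 0xdfb06ff0) (Net.cons (nat_lit 64) (nat_lit 0xfffffffff) (Net.cons (nat_lit 32) (nat_lit 0x900000000dfb06ff6) (Net.cons (nat_lit 16) (nat_lit 0x210200009b000000bc78) (Net.cons (nat_lit 8) (nat_lit 0x4f0057003f00a6004600cf) (Net.cons (nat_lit 4) (nat_lit 0xa010e0e0f0f0f0d06010200) (Net.cons (nat_lit 2) (nat_lit 0x3020303112220320132221230) (Net.cons (nat_lit 1) (nat_lit 0x5455505054005111554454) Net.nil)))))))))))))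

theorem p_g54_ok : Net.ok 100 p_g54 = true := by decide +kernel

noncomputable def p_g55 : Net := (Net.cons (nat_lit 1) (nat_lit 0x5115101000150050441115000) (Net.cons (nat_lit 2) (nat_lit 0x331220000110010103031000) (Net.cons (nat_lit 4) (nat_lit 0x100020f03040004050a0000) (Net.cons (nat_lit 8) (nat_lit 0x6300760020008400380000) (Net.cons (nat_lit 16) (nat_lit 0x1010000852000000000) (Net.cons (nat_lit 32) (nat_lit 0x62947180) (Net.cons (nat_lit 64) (nat_lit 0x62947180) (Net.cons (nat_lit 32) (nat_lit 0x700000000e7b47180) (Net.cons (nat_lit 16) (nat_lit 0x9d720000c520000020dc) (Net.cons (nat_lit 8) (nat_lit 0x7300650064008b003800a0) (Net.cons (nat_lit 4) (nat_lit 0xa04090f07000001050e0404) (Net.cons (nat_lit 2) (nat_lit 0x230330011100101013213220) (Net.cons (nat_lit 1) (nat_lit 0x4555140100551050441115000) Net.nil)))))))))))))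

theorem p_g55_ok : Net.ok 100 p_g55 = true := by decide +kernel

noncomputable def nt_c3_K : List Net := [p_g53, p_g54, p_g55, H47.J2P.h_a0]

theorem nt_c3_K_ok : okE 100 nt_c3_K = true := (okE_cons.2 ⟨p_g53_ok, (okE_cons.2 ⟨p_g54_ok, (okE_cons.2 ⟨p_g55_ok, (okE_cons.2 ⟨H47.J2P.h_a0_ok, (okE_nil 100)⟩)⟩)⟩)⟩)

noncomputable def p_V57 : List Net := [p_g28, H47.J2P.h_a0]

theorem p_V57_ok : okE 100 p_V57 = true := (okE_cons.2 ⟨p_g28_ok, (okE_cons.2 ⟨H47.J2P.h_a0_ok, (okE_nil 100)⟩)⟩)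

noncomputable def p_V59 : List Net := [H47.J2P.h_a0]

theorem p_V59_ok : okE 100 p_V59 = true := (okE_cons.2 ⟨H47.J2P.h_a0_ok, (okE_nil 100)⟩)

noncomputable def p_V60 : List Net := []

theorem p_V60_ok : okE 100 p_V60 = true := (okE_nil 100)

noncomputable def nt_c3_cnt_EG : List Net := [MpJ2.a, H47.J2P.h_g1, H47.J2P.h_a19, H47.J2P.h_a27, H47.J2P.h_g7, H47.J2P.h_a0, H47.J2P.h_g4, H47.J2P.h_a8, H47.J2P.h_g14, H47.J2P.h_g10, H47.J2P.h_g11, H47.J2P.h_g21, H47.J2P.h_g22, H47.J2P.h_g17, H47.J2P.h_g18, p_g1, p_g2, p_g5, p_g6, H47.J2P.h_g45, p_g11, H47.J2P.h_g53, p_g26, p_g27, p_g28, p_g29]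

theorem nt_c3_cnt_EG_ok : okE 100 nt_c3_cnt_EG = true := (okE_cons.2 ⟨MpJ2.a_ok, (okE_cons.2 ⟨H47.J2P.h_g1_ok, (okE_cons.2 ⟨H47.J2P.h_a19_ok, (okE_cons.2 ⟨H47.J2P.h_a27_ok, (okE_cons.2 ⟨H47.J2P.h_g7_ok, (okE_cons.2 ⟨H47.J2P.h_a0_ok, (okE_cons.2 ⟨H47.J2P.h_g4_ok, (okE_cons.2 ⟨H47.J2P.h_a8_ok, (okE_cons.2 ⟨H47.J2P.h_g14_ok, (okE_cons.2 ⟨H47.J2P.h_g10_ok, (okE_cons.2 ⟨H47.J2P.h_g11_ok, (okE_cons.2 ⟨H47.J2P.h_g21_ok, (okE_cons.2 ⟨H47.J2P.h_g22_ok, (okE_cons.2 ⟨H47.J2P.h_g17_ok, (okE_cons.2 ⟨H47.J2P.h_g18_ok, (okE_cons.2 ⟨p_g1_ok, (okE_cons.2 ⟨p_g2_ok, (okE_cons.2 ⟨p_g5_ok, (okE_cons.2 ⟨p_g6_ok, (okE_cons.2 ⟨H47.J2P.h_g45_ok, (okE_cons.2 ⟨p_g11_ok, (okE_cons.2 ⟨H47.J2P.h_g53_ok, (okE_cons.2 ⟨p_g26_ok, (okE_cons.2 ⟨p_g27_ok, (okE_cons.2 ⟨p_g28_ok, (okE_cons.2 ⟨p_g29_ok, (okE_nil 100)⟩)⟩)⟩)⟩)⟩)⟩)⟩)⟩)⟩)⟩)⟩)⟩)⟩)⟩)⟩)⟩)⟩)⟩)⟩)⟩)⟩)⟩)⟩)⟩)⟩)⟩)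

noncomputable def p_g61 : Net := (Net.cons (nat_lit 1) (nat_lit 0x4450001454450510510401450) (Net.cons (nat_lit 2) (nat_lit 0x33312133101011322003200) (Net.cons (nat_lit 4) (nat_lit 0xf0b010a0108070600020408) (Net.cons (nat_lit 8) (nat_lit 0x1c002c0055003100b80002) (Net.cons (nat_lit 16) (nat_lit 0xe04b000035c100000003) (Net.cons (nat_lit 32) (nat_lit 0x20000000001002810) (Net.cons (nat_lit 64) (nat_lit 0x945daa933) (Net.cons (nat_lit 32) (nat_lit 0xe000000007f4f29b4) (Net.cons (nat_lit 16) (nat_lit 0xa6c90000c58400005286) (Net.cons (nat_lit 8) (nat_lit 0xcf002d00bc00f4006a00b1) (Net.cons (nat_lit 4) (nat_lit 0xd09050509020b03080c0702) (Net.cons (nat_lit 2) (nat_lit 0x1002200211220030330123322) (Net.cons (nat_lit 1) (nat_lit 0x5410415145415140110500041) Net.nil)))))))))))))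

theorem p_g61_ok : Net.ok 100 p_g61 = true := by decide +kernel

noncomputable def p_g62 : Net := (Net.cons (nat_lit 1) (nat_lit 0x1541401050500104041014444) (Net.cons (nat_lit 2) (nat_lit 0x10033322201103302112100) (Net.cons (nat_lit 4) (nat_lit 0x9090c0d07030a0104000203) (Net.cons (nat_lit 8) (nat_lit 0xc1004e0081008f00000006) (Net.cons (nat_lit 16) (nat_lit 0x9b140000824e0000000b) (Net.cons (nat_lit 32) (nat_lit 0x90000000088c30000) (Net.cons (nat_lit 64) (nat_lit 0x4d9ffeb1f) (Net.cons (nat_lit 32) (nat_lit 0xa000000007321ac1c) (Net.cons (nat_lit 16) (nat_lit 0xae940000c91c0000883b) (Net.cons (nat_lit 8) (nat_lit 0xbb004f00a300a1004900c7) (Net.cons (nat_lit 4) (nat_lit 0x30c0900020b0e0405000e09) (Net.cons (nat_lit 2) (nat_lit 0x3200222230231210203020110) (Net.cons (nat_lit 1) (nat_lit 0x1000050054455510550405544) Net.nil)))))))))))))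

theorem p_g62_ok : Net.ok 100 p_g62 = true := by decide +kernel

noncomputable def p_g63 : Net := (Net.cons (nat_lit 1) (nat_lit 0x4554050441145510115115510) (Net.cons (nat_lit 2) (nat_lit 0x1003123300002120021000) (Net.cons (nat_lit 4) (nat_lit 0x60909040e0a0a070d040506) (Net.cons (nat_lit 8) (nat_lit 0x4000190025000400000000) (Net.cons (nat_lit 16) (nat_lit 0x7c91000078da00000004) (Net.cons (nat_lit 32) (nat_lit 0x10000000000582020) (Net.cons (nat_lit 64) (nat_lit 0x67edba36f) (Net.cons (nat_lit 32) (nat_lit 0x8000000008dbaf77e) (Net.cons (nat_lit 16) (nat_lit 0x7edb00002c890000fbf8) (Net.cons (nat_lit 8) (nat_lit 0xd000d8006c00af00ac000a) (Net.cons (nat_lit 4) (nat_lit 0x60d060a01000401040f0d00) (Net.cons (nat_lit 2) (nat_lit 0x3031031003010013301211112) (Net.cons (nat_lit 1) (nat_lit 0x500010501145450115540500) Net.nil)))))))))))))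

theorem p_g63_ok : Net.ok 100 p_g63 = true := by decide +kernel

noncomputable def p_g64 : Net := (Net.cons (nat_lit 1) (nat_lit 0x4504555040014005500111000) (Net.cons (nat_lit 2) (nat_lit 0x3003203121233032102331100) (Net.cons (nat_lit 4) (nat_lit 0x3050d060e04050100040901) (Net.cons (nat_lit 8) (nat_lit 0xae009f002e002c00900008) (Net.cons (nat_lit 16) (nat_lit 0xab630000a40700000001) (Net.cons (nat_lit 32) (nat_lit 0x423c980) (Net.cons (nat_lit 64) (nat_lit 0xda43fdbed) (Net.cons (nat_lit 32) (nat_lit 0xe00000000bafd58c8) (Net.cons (nat_lit 16) (nat_lit 0x2d77000092d100003c06) (Net.cons (nat_lit 8) (nat_lit 0x39002d0036001500a60037) (Net.cons (nat_lit 4) (nat_lit 0xb0f0d09010b0102010a0e02) (Net.cons (nat_lit 2) (nat_lit 0x2002131201203103013332210) (Net.cons (nat_lit 1) (nat_lit 0x4541154005454404550541400) Net.nil)))))))))))))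

theorem p_g64_ok : Net.ok 100 p_g64 = true := by decide +kernel

noncomputable def p_g65 : Net := (Net.cons (nat_lit 1) (nat_lit 0x4004514011005100100104050) (Net.cons (nat_lit 2) (nat_lit 0x3012022012232100030320330) (Net.cons (nat_lit 4) (nat_lit 0x20a0b0805060609070c05) (Net.cons (nat_lit 8) (nat_lit 0x48002000da00cc00000003) (Net.cons (nat_lit 16) (nat_lit 0x527f000022820000000a) (Net.cons (nat_lit 32) (nat_lit 0x40000000060020b80) (Net.cons (nat_lit 64) (nat_lit 0xa7ebe8fc5) (Net.cons (nat_lit 32) (nat_lit 0x1000000007a14e198) (Net.cons (nat_lit 16) (nat_lit 0x1cc9000077d200002073) (Net.cons (nat_lit 8) (nat_lit 0x69002c00b4008100b0001d) (Net.cons (nat_lit 4) (nat_lit 0x10e010307030a020a0a0601) (Net.cons (nat_lit 2) (nat_lit 0x2010100202313112233312112) (Net.cons (nat_lit 1) (nat_lit 0x5010401415005104401051445) Net.nil)))))))))))))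

theorem p_g65_ok : Net.ok 100 p_g65 = true := by decide +kernel

noncomputable def p_g66 : Net := (Net.cons (nat_lit 1) (nat_lit 0x5401441451000041144000100) (Net.cons (nat_lit 2) (nat_lit 0x2002100200122013000010000) (Net.cons (nat_lit 4) (nat_lit 0xa09000909030c0f01080300) (Net.cons (nat_lit 8) (nat_lit 0x50038006d003800120004) (Net.cons (nat_lit 16) (nat_lit 0xe4840000929600000002) (Net.cons (nat_lit 32) (nat_lit 0x20881430) (Net.cons (nat_lit 64) (nat_lit 0xae0ac1630) (Net.cons (nat_lit 32) (nat_lit 0x4000000008a7e6d31) (Net.cons (nat_lit 16) (nat_lit 0xede400008bf200001c53) (Net.cons (nat_lit 8) (nat_lit 0x17008800d800a900b60054) (Net.cons (nat_lit 4) (nat_lit 0xa0900090d020c0a010d0305) (Net.cons (nat_lit 2) (nat_lit 0x2002100211123022001121011) (Net.cons (nat_lit 1) (nat_lit 0x5401441451000041144000100) Net.nil)))))))))))))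

theorem p_g66_ok : Net.ok 100 p_g66 = true := by decide +kernel

noncomputable def nt_c4_K : List Net := [p_g62, p_g63, p_g64, p_g65, p_g66]

theorem nt_c4_K_ok : okE 100 nt_c4_K = true := (okE_cons.2 ⟨p_g62_ok, (okE_cons.2 ⟨p_g63_ok, (okE_cons.2 ⟨p_g64_ok, (okE_cons.2 ⟨p_g65_ok, (okE_cons.2 ⟨p_g66_ok, (okE_nil 100)⟩)⟩)⟩)⟩)⟩)

noncomputable def p_V68 : List Net := []

theorem p_V68_ok : okE 100 p_V68 = true := (okE_nil 100)

noncomputable def nt_c4_cnt_EG : List Net := [p_g1, p_g2, p_g5, p_g6, H47.J2P.h_g45, H47.J2P.h_a0, p_g11, H47.J2P.h_g53, MpJ2.a, H47.J2P.h_g1, H47.J2P.h_a19, H47.J2P.h_a27, H47.J2P.h_g7, H47.J2P.h_g4, H47.J2P.h_a8, H47.J2P.h_g14, H47.J2P.h_g10, H47.J2P.h_g11, H47.J2P.h_g21, H47.J2P.h_g22, H47.J2P.h_g17, H47.J2P.h_g18, p_g26, p_g27, p_g28, p_g29]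

theorem nt_c4_cnt_EG_ok : okE 100 nt_c4_cnt_EG = true := (okE_cons.2 ⟨p_g1_ok, (okE_cons.2 ⟨p_g2_ok, (okE_cons.2 ⟨p_g5_ok, (okE_cons.2 ⟨p_g6_ok, (okE_cons.2 ⟨H47.J2P.h_g45_ok, (okE_cons.2 ⟨H47.J2P.h_a0_ok, (okE_cons.2 ⟨p_g11_ok, (okE_cons.2 ⟨H47.J2P.h_g53_ok, (okE_cons.2 ⟨MpJ2.a_ok, (okE_cons.2 ⟨H47.J2P.h_g1_ok, (okE_cons.2 ⟨H47.J2P.h_a19_ok, (okE_cons.2 ⟨H47.J2P.h_a27_ok, (okE_cons.2 ⟨H47.J2P.h_g7_ok, (okE_cons.2 ⟨H47.J2P.h_g4_ok, (okE_cons.2 ⟨H47.J2P.h_a8_ok, (okE_cons.2 ⟨H47.J2P.h_g14_ok, (okE_cons.2 ⟨H47.J2P.h_g10_ok, (okE_cons.2 ⟨H47.J2P.h_g11_ok, (okE_cons.2 ⟨H47.J2P.h_g21_ok, (okE_cons.2 ⟨H47.J2P.h_g22_ok, (okE_cons.2 ⟨H47.J2P.h_g17_ok, (okE_cons.2 ⟨H47.J2P.h_g18_ok, (okE_cons.2 ⟨p_g26_ok, (okE_cons.2 ⟨p_g27_ok, (okE_cons.2 ⟨p_g28_ok, (okE_cons.2 ⟨p_g29_ok, (okE_nil 100)⟩)⟩)⟩)⟩)⟩)⟩)⟩)⟩)⟩)⟩)⟩)⟩)⟩)⟩)⟩)⟩)⟩)⟩)⟩)⟩)⟩)⟩)⟩)⟩)⟩)⟩)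

noncomputable def p_g70 : Net := (Net.cons (nat_lit 1) (nat_lit 0x4010100440100000141140110) (Net.cons (nat_lit 2) (nat_lit 0x33321010300023002102320) (Net.cons (nat_lit 4) (nat_lit 0x7090c020404090505030700) (Net.cons (nat_lit 8) (nat_lit 0xf500e4000b000400290002) (Net.cons (nat_lit 16) (nat_lit 0x1060000800300000004) (Net.cons (nat_lit 32) (nat_lit 0xb00000000000b16f0) (Net.cons (nat_lit 64) (nat_lit 0xb1f7ffef0) (Net.cons (nat_lit 32) (nat_lit 0xc00000000cb050025) (Net.cons (nat_lit 16) (nat_lit 0x749100008038000011e1) (Net.cons (nat_lit 8) (nat_lit 0xdb009e00be0006002200cf) (Net.cons (nat_lit 4) (nat_lit 0xb070501020b090d05060805) (Net.cons (nat_lit 2) (nat_lit 0x2132202030320021221112100) (Net.cons (nat_lit 1) (nat_lit 0x1144544101045055015550154) Net.nil)))))))))))))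

theorem p_g70_ok : Net.ok 100 p_g70 = true := by decide +kernel

noncomputable def p_g71 : Net := (Net.cons (nat_lit 1) (nat_lit 0x4411014015400000554004514) (Net.cons (nat_lit 2) (nat_lit 0x303210130203013031023000) (Net.cons (nat_lit 4) (nat_lit 0x7070c07080900080304000a) (Net.cons (nat_lit 8) (nat_lit 0xc600a900b2004e001e000f) (Net.cons (nat_lit 16) (nat_lit 0x60d30000068100000002) (Net.cons (nat_lit 32) (nat_lit 0x90000600) (Net.cons (nat_lit 64) (nat_lit 0xef7505e8b) (Net.cons (nat_lit 32) (nat_lit 0xb000000001023468e) (Net.cons (nat_lit 16) (nat_lit 0x6d2100004b810000ccb7) (Net.cons (nat_lit 8) (nat_lit 0xe003e0032004a00de002f) (Net.cons (nat_lit 4) (nat_lit 0x80a080b0c09000e07080708) (Net.cons (nat_lit 2) (nat_lit 0x3012123113120120303130312) (Net.cons (nat_lit 1) (nat_lit 0x4445515010454555001511041) Net.nil)))))))))))))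

theorem p_g71_ok : Net.ok 100 p_g71 = true := by decide +kernel

noncomputable def p_g72 : Net := (Net.cons (nat_lit 1) (nat_lit 0x545504041440041051554400) (Net.cons (nat_lit 2) (nat_lit 0x3211331213120023212112030) (Net.cons (nat_lit 4) (nat_lit 0x2040f0c0205080105010100) (Net.cons (nat_lit 8) (nat_lit 0x5600a300df00da008d0003) (Net.cons (nat_lit 16) (nat_lit 0xa70600008e8c00000000) (Net.cons (nat_lit 32) (nat_lit 0x80000000021808400) (Net.cons (nat_lit 64) (nat_lit 0xcf9bce7f4) (Net.cons (nat_lit 32) (nat_lit 0x3000000002e54c5a9) (Net.cons (nat_lit 16) (nat_lit 0xdc120000508c00007f45) (Net.cons (nat_lit 8) (nat_lit 0x7a004f009500db00f0009a) (Net.cons (nat_lit 4) (nat_lit 0x30807030802080a0b070407) (Net.cons (nat_lit 2) (nat_lit 0x3211131301003121322110033) (Net.cons (nat_lit 1) (nat_lit 0x41555514445144540515040) Net.nil)))))))))))))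

theorem p_g72_ok : Net.ok 100 p_g72 = true := by decide +kernel

noncomputable def p_g73 : Net := (Net.cons (nat_lit 1) (nat_lit 0x1105444514540440405141014) (Net.cons (nat_lit 2) (nat_lit 0x200311102301001332122000) (Net.cons (nat_lit 4) (nat_lit 0x600090709080d0e05060900) (Net.cons (nat_lit 8) (nat_lit 0x3000c8002d004200820004) (Net.cons (nat_lit 16) (nat_lit 0xc13f0000860400000008) (Net.cons (nat_lit 32) (nat_lit 0x80820440) (Net.cons (nat_lit 64) (nat_lit 0x6f5fa3cc4) (Net.cons (nat_lit 32) (nat_lit 0xd00000000800786c4) (Net.cons (nat_lit 16) (nat_lit 0xe1bf0000162c0000a86a) (Net.cons (nat_lit 8) (nat_lit 0x32004600ad00c20042008c) (Net.cons (nat_lit 4) (nat_lit 0x700090709080d0f050c0903) (Net.cons (nat_lit 2) (nat_lit 0x200311122321201330302022) (Net.cons (nat_lit 1) (nat_lit 0x1141445454541440401101054) Net.nil)))))))))))))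

theorem p_g73_ok : Net.ok 100 p_g73 = true := by decide +kernel

noncomputable def nt_c5_K : List Net := [p_g71, p_g72, p_g73, p_g70]

theorem nt_c5_K_ok : okE 100 nt_c5_K = true := (okE_cons.2 ⟨p_g71_ok, (okE_cons.2 ⟨p_g72_ok, (okE_cons.2 ⟨p_g73_ok, (okE_cons.2 ⟨p_g70_ok, (okE_nil 100)⟩)⟩)⟩)⟩)

noncomputable def p_V75 : List Net := [H47.J2P.h_g45, H47.J2P.h_a0, H47.J2P.h_a0, p_g11, H47.J2P.h_a0, H47.J2P.h_g53, H47.J2P.h_a0, H47.J2P.h_a0]

theorem p_V75_ok : okE 100 p_V75 = true := (okE_cons.2 ⟨H47.J2P.h_g45_ok, (okE_cons.2 ⟨H47.J2P.h_a0_ok, (okE_cons.2 ⟨H47.J2P.h_a0_ok, (okE_cons.2 ⟨p_g11_ok, (okE_cons.2 ⟨H47.J2P.h_a0_ok, (okE_cons.2 ⟨H47.J2P.h_g53_ok, (okE_cons.2 ⟨H47.J2P.h_a0_ok, (okE_cons.2 ⟨H47.J2P.h_a0_ok, (okE_nil 100)⟩)⟩)⟩)⟩)⟩)⟩)⟩)⟩)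

noncomputable def p_g76 : Net := (Net.cons (nat_lit 1) (nat_lit 0x1450004141010015004550440) (Net.cons (nat_lit 2) (nat_lit 0x1021003123021112100320000) (Net.cons (nat_lit 4) (nat_lit 0x903010e0f040402070d0809) (Net.cons (nat_lit 8) (nat_lit 0x280097000200ad00510005) (Net.cons (nat_lit 16) (nat_lit 0x122d0000c83000000000) (Net.cons (nat_lit 32) (nat_lit 0x8000000003b096580) (Net.cons (nat_lit 64) (nat_lit 0x23b396dce) (Net.cons (nat_lit 32) (nat_lit 0xd00000000ac733cc6) (Net.cons (nat_lit 16) (nat_lit 0x49c60000e5c600007a4b) (Net.cons (nat_lit 8) (nat_lit 0x8e005a00f40076009a0007) (Net.cons (nat_lit 4) (nat_lit 0x2030f0b0e08040f0b090609) (Net.cons (nat_lit 2) (nat_lit 0x310310133302122333002110) (Net.cons (nat_lit 1) (nat_lit 0x5144110455555101554550440) Net.nil)))))))))))))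

theorem p_g76_ok : Net.ok 100 p_g76 = true := by decide +kernel

noncomputable def p_g77 : Net := (Net.cons (nat_lit 1) (nat_lit 0x5044110454544404454540440) (Net.cons (nat_lit 2) (nat_lit 0x1211231010202112021210000) (Net.cons (nat_lit 4) (nat_lit 0xb0203030d07040508010508) (Net.cons (nat_lit 8) (nat_lit 0x1b000000f4004a00040001) (Net.cons (nat_lit 16) (nat_lit 0xa0da0000e51800000000) (Net.cons (nat_lit 32) (nat_lit 0x10000000002816010) (Net.cons (nat_lit 64) (nat_lit 0xa7aa5e05b) (Net.cons (nat_lit 32) (nat_lit 0xd00000000434ba448) (Net.cons (nat_lit 16) (nat_lit 0xed5a0000ad580000da50) (Net.cons (nat_lit 8) (nat_lit 0x8b009a0074005a00940011) (Net.cons (nat_lit 4) (nat_lit 0xb0a0b0b0d07040700010d08) (Net.cons (nat_lit 2) (nat_lit 0x1210231010302112021210010) (Net.cons (nat_lit 1) (nat_lit 0x5044110454544404454540440) Net.nil)))))))))))))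

theorem p_g77_ok : Net.ok 100 p_g77 = true := by decide +kernel

noncomputable def p_V78 : List Net := [p_g76, p_g77]

theorem p_V78_ok : okE 100 p_V78 = true := (okE_cons.2 ⟨p_g76_ok, (okE_cons.2 ⟨p_g77_ok, (okE_nil 100)⟩)⟩)

noncomputable def p_V80 : List Net := [p_g77]

theorem p_V80_ok : okE 100 p_V80 = true := (okE_cons.2 ⟨p_g77_ok, (okE_nil 100)⟩)

noncomputable def p_V81 : List Net := []

theorem p_V81_ok : okE 100 p_V81 = true := (okE_nil 100)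

noncomputable def nt_c5_cnt_EG : List Net := [p_g1, p_g2, p_g5, p_g6, H47.J2P.h_g45, H47.J2P.h_a0, p_g11, H47.J2P.h_g53, MpJ2.a, H47.J2P.h_g1, H47.J2P.h_a19, H47.J2P.h_a27, H47.J2P.h_g7, H47.J2P.h_g4, H47.J2P.h_a8, H47.J2P.h_g14, H47.J2P.h_g10, H47.J2P.h_g11, H47.J2P.h_g21, H47.J2P.h_g22, H47.J2P.h_g17, H47.J2P.h_g18, p_g76, p_g77]

theorem nt_c5_cnt_EG_ok : okE 100 nt_c5_cnt_EG = true := (okE_cons.2 ⟨p_g1_ok, (okE_cons.2 ⟨p_g2_ok, (okE_cons.2 ⟨p_g5_ok, (okE_cons.2 ⟨p_g6_ok, (okE_cons.2 ⟨H47.J2P.h_g45_ok, (okE_cons.2 ⟨H47.J2P.h_a0_ok, (okE_cons.2 ⟨p_g11_ok, (okE_cons.2 ⟨H47.J2P.h_g53_ok, (okE_cons.2 ⟨MpJ2.a_ok, (okE_cons.2 ⟨H47.J2P.h_g1_ok, (okE_cons.2 ⟨H47.J2P.h_a19_ok, (okE_cons.2 ⟨H47.J2P.h_a27_ok, (okE_cons.2 ⟨H47.J2P.h_g7_ok, (okE_cons.2 ⟨H47.J2P.h_g4_ok, (okE_cons.2 ⟨H47.J2P.h_a8_ok, (okE_cons.2 ⟨H47.J2P.h_g14_ok, (okE_cons.2 ⟨H47.J2P.h_g10_ok, (okE_cons.2 ⟨H47.J2P.h_g11_ok,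 (okE_cons.2 ⟨H47.J2P.h_g21_ok, (okE_cons.2 ⟨H47.J2P.h_g22_ok, (okE_cons.2 ⟨H47.J2P.h_g17_ok, (okE_cons.2 ⟨H47.J2P.h_g18_ok, (okE_cons.2 ⟨p_g76_ok, (okE_cons.2 ⟨p_g77_ok, (okE_nil 100)⟩)⟩)⟩)⟩)⟩)⟩)⟩)⟩)⟩)⟩)⟩)⟩)⟩)⟩)⟩)⟩)⟩)⟩)⟩)⟩)⟩)⟩)⟩)⟩)

noncomputable def p_g82 : Net := (Net.cons (nat_lit 1) (nat_lit 0x4400415400100001501151010) (Net.cons (nat_lit 2) (nat_lit 0x1222021111201102230221200) (Net.cons (nat_lit 4) (nat_lit 0x304020200010d010b0c0e03) (Net.cons (nat_lit 8) (nat_lit 0xb200780006002a005d000a) (Net.cons (nat_lit 16) (nat_lit 0x650a0000010e00000000) (Net.cons (nat_lit 32) (nat_lit 0xc000000003072d400) (Net.cons (nat_lit 64) (nat_lit 0xebb72d400) (Net.cons (nat_lit 32) (nat_lit 0x1000000003312dc48) (Net.cons (nat_lit 16) (nat_lit 0xfb690000a85000004816) (Net.cons (nat_lit 8) (nat_lit 0x6a004800c200f90049002f) (Net.cons (nat_lit 4) (nat_lit 0x70f0b050c0c050b090c0800) (Net.cons (nat_lit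 2) (nat_lit 0x1000031202212023033121301) (Net.cons (nat_lit 1) (nat_lit 0x1400515054104005011110401) Net.nil)))))))))))))

theorem p_g82_ok : Net.ok 100 p_g82 = true := by decide +kernel

noncomputable def p_g83 : Net := (Net.cons (nat_lit 1) (nat_lit 0x1401101100141411044000450) (Net.cons (nat_lit 2) (nat_lit 0x303112302102102301223110) (Net.cons (nat_lit 4) (nat_lit 0x90507040d070e0905060704) (Net.cons (nat_lit 8) (nat_lit 0x800034006000a9001c0000) (Net.cons (nat_lit 16) (nat_lit 0xdaf0000ad3200000002) (Net.cons (nat_lit 32) (nat_lit 0x20000000018480030) (Net.cons (nat_lit 64) (nat_lit 0x2def80971) (Net.cons (nat_lit 32) (nat_lit 0xd00000000e0300f92) (Net.cons (nat_lit 16) (nat_lit 0x3f900000f9b70000dfea) (Net.cons (nat_lit 8) (nat_lit 0xa800c6002400a100930037) (Net.cons (nat_lit 4) (nat_lit 0xf05040e07050a0c050d0501) (Net.cons (nat_lit 2) (nat_lit 0x2000220003212332310311232) (Net.cons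 (nat_lit 1) (nat_lit 0x455411054140144504450515) Net.nil)))))))))))))

theorem p_g83_ok : Net.ok 100 p_g83 = true := by decide +kernel

noncomputable def p_g84 : Net := (Net.cons (nat_lit 1) (nat_lit 0x5455514401414001445101510) (Net.cons (nat_lit 2) (nat_lit 0x2113132210120231312301030) (Net.cons (nat_lit 4) (nat_lit 0x808060c050c060e050c0501) (Net.cons (nat_lit 8) (nat_lit 0x6700310019008b00d50000) (Net.cons (nat_lit 16) (nat_lit 0xda10000a0a100000006) (Net.cons (nat_lit 32) (nat_lit 0x800000000cc803340) (Net.cons (nat_lit 64) (nat_lit 0xdeca0b347) (Net.cons (nat_lit 32) (nat_lit 0xa00000000c469b34f) (Net.cons (nat_lit 16) (nat_lit 0xb61d00001f8a0000c115) (Net.cons (nat_lit 8) (nat_lit 0xa60058003e00be00cd0072) (Net.cons (nat_lit 4) (nat_lit 0x1000f0d030907040d0c070a) (Net.cons (nat_lit 2) (nat_lit 0x2310311112100312121223011) (Net.cons (nat_lit 1) (nat_lit 0x150511115145005040100054)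 Net.nil)))))))))))))

theorem p_g84_ok : Net.ok 100 p_g84 = true := by decide +kernel

noncomputable def p_g85 : Net := (Net.cons (nat_lit 1) (nat_lit 0x450454541105541000015004) (Net.cons (nat_lit 2) (nat_lit 0x311020331301033300000000) (Net.cons (nat_lit 4) (nat_lit 0x2040c000c050b000b0a0104) (Net.cons (nat_lit 8) (nat_lit 0x7d0023001d009a00a90004) (Net.cons (nat_lit 16) (nat_lit 0x4049000048aa00000009) (Net.cons (nat_lit 32) (nat_lit 0x20000000020042020) (Net.cons (nat_lit 64) (nat_lit 0xb600d3069) (Net.cons (nat_lit 32) (nat_lit 0xf000000003ff66039) (Net.cons (nat_lit 16) (nat_lit 0x8f99000048ba0000e05d) (Net.cons (nat_lit 8) (nat_lit 0x3d0063005d009000e90044) (Net.cons (nat_lit 4) (nat_lit 0x2040e000c070b040b0a0104) (Net.cons (nat_lit 2) (nat_lit 0x311021331301233100222001) (Net.cons (nat_lit 1) (nat_lit 0x450454541105541000015004) Net.nil)))))))))))))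

theorem p_g85_ok : Net.ok 100 p_g85 = true := by decide +kernel

noncomputable def nt_c6_K : List Net := [p_g82, p_g83, p_g84, p_g85, p_g18]

theorem nt_c6_K_ok : okE 100 nt_c6_K = true := (okE_cons.2 ⟨p_g82_ok, (okE_cons.2 ⟨p_g83_ok, (okE_cons.2 ⟨p_g84_ok, (okE_cons.2 ⟨p_g85_ok, (okE_cons.2 ⟨p_g18_ok, (okE_nil 100)⟩)⟩)⟩)⟩)⟩)

noncomputable def nt_c6_cnt_EG : List Net := [p_g1, p_g2, p_g5, p_g6, H47.J2P.h_g45, H47.J2P.h_a0, p_g11, H47.J2P.h_g53, MpJ2.a, H47.J2P.h_g1, H47.J2P.h_a19, H47.J2P.h_a27, H47.J2P.h_g7, H47.J2P.h_g4, H47.J2P.h_a8, H47.J2P.h_g14, H47.J2P.h_g10, H47.J2P.h_g11, H47.J2P.h_g21, H47.J2P.h_g22, H47.J2P.h_g17, H47.J2P.h_g18, p_g26, p_g27, p_g28, p_g29]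

theorem nt_c6_cnt_EG_ok : okE 100 nt_c6_cnt_EG = true := (okE_cons.2 ⟨p_g1_ok, (okE_cons.2 ⟨p_g2_ok, (okE_cons.2 ⟨p_g5_ok, (okE_cons.2 ⟨p_g6_ok, (okE_cons.2 ⟨H47.J2P.h_g45_ok, (okE_cons.2 ⟨H47.J2P.h_a0_ok, (okE_cons.2 ⟨p_g11_ok, (okE_cons.2 ⟨H47.J2P.h_g53_ok, (okE_cons.2 ⟨MpJ2.a_ok, (okE_cons.2 ⟨H47.J2P.h_g1_ok, (okE_cons.2 ⟨H47.J2P.h_a19_ok, (okE_cons.2 ⟨H47.J2P.h_a27_ok, (okE_cons.2 ⟨H47.J2P.h_g7_ok, (okE_cons.2 ⟨H47.J2P.h_g4_ok, (okE_cons.2 ⟨H47.J2P.h_a8_ok, (okE_cons.2 ⟨H47.J2P.h_g14_ok, (okE_cons.2 ⟨H47.J2P.h_g10_ok, (okE_cons.2 ⟨H47.J2P.h_g11_ok, (okE_cons.2 ⟨H47.J2P.h_g21_ok, (okE_cons.2 ⟨H47.J2P.h_g22_ok, (okE_cons.2 ⟨H47.J2P.h_g17_ok, (okE_cons.2 ⟨H47.J2P.h_g18_ok, (okE_cons.2 ⟨p_g26_ok, (okE_cons.2 ⟨p_g27_ok, (okE_cons.2 ⟨p_g28_ok, (okE_cons.2 ⟨p_g29_ok, (okE_nil 100)⟩)⟩)⟩)⟩)⟩)⟩)⟩)⟩)⟩)⟩)⟩)⟩)⟩)⟩)⟩)⟩)⟩)⟩)⟩)⟩)⟩)⟩)⟩)⟩)⟩)⟩)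

noncomputable def p_g87 : Net := (Net.cons (nat_lit 1) (nat_lit 0x4511001401445444010550554) (Net.cons (nat_lit 2) (nat_lit 0x21303301303232022202200) (Net.cons (nat_lit 4) (nat_lit 0xa0001060f0b000b08020702) (Net.cons (nat_lit 8) (nat_lit 0x80007400280008008d000a) (Net.cons (nat_lit 16) (nat_lit 0x616e000002870000000b) (Net.cons (nat_lit 32) (nat_lit 0x5efff70) (Net.cons (nat_lit 64) (nat_lit 0xbf7effff1) (Net.cons (nat_lit 32) (nat_lit 0x400000000ff5218a2) (Net.cons (nat_lit 16) (nat_lit 0x58f0000d88d0000773e) (Net.cons (nat_lit 8) (nat_lit 0x900610032002200960003) (Net.cons (nat_lit 4) (nat_lit 0xc030e0c000b0f0f02010b03) (Net.cons (nat_lit 2) (nat_lit 0x13301210003201301003200) (Net.cons (nat_lit 1) (nat_lit 0x4444444544001401445444404) Net.nil)))))))))))))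

theorem p_g87_ok : Net.ok 100 p_g87 = true := by decide +kernel

noncomputable def p_g88 : Net := (Net.cons (nat_lit 1) (nat_lit 0x14414145501040045145140) (Net.cons (nat_lit 2) (nat_lit 0x302322102303030300231300) (Net.cons (nat_lit 4) (nat_lit 0x1040609000a0107010a0008) (Net.cons (nat_lit 8) (nat_lit 0x1c003a0000000800800000) (Net.cons (nat_lit 16) (nat_lit 0x400d0000430800000001) (Net.cons (nat_lit 32) (nat_lit 0x700000000a01a5000) (Net.cons (nat_lit 64) (nat_lit 0xf69ef91f) (Net.cons (nat_lit 32) (nat_lit 0xe0000000031844698) (Net.cons (nat_lit 16) (nat_lit 0x500b0000cc0100006868) (Net.cons (nat_lit 8) (nat_lit 0x83005c0009007800910088) (Net.cons (nat_lit 4) (nat_lit 0x9020e000804010e000c0101) (Net.cons (nat_lit 2) (nat_lit 0x3032022132030303033201033) (Net.cons (nat_lit 1) (nat_lit 0x5541141410054515510410415) Net.nil)))))))))))))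

theorem p_g88_ok : Net.ok 100 p_g88 = true := by decide +kernel

noncomputable def p_g89 : Net := (Net.cons (nat_lit 1) (nat_lit 0x1500441040415541411510000) (Net.cons (nat_lit 2) (nat_lit 0x2002011230012131331110120) (Net.cons (nat_lit 4) (nat_lit 0x10d01060f0e010a02020000) (Net.cons (nat_lit 8) (nat_lit 0x400e00064006d00290000) (Net.cons (nat_lit 16) (nat_lit 0x906f0000411500000002) (Net.cons (nat_lit 32) (nat_lit 0x10600490) (Net.cons (nat_lit 64) (nat_lit 0x90664f90) (Net.cons (nat_lit 32) (nat_lit 0xf00000000dee59be2) (Net.cons (nat_lit 16) (nat_lit 0x906f0000755f00006342) (Net.cons (nat_lit 8) (nat_lit 0x81000f0024003b006b0079) (Net.cons (nat_lit 4) (nat_lit 0x50c0f0d0d0a040b05040f02) (Net.cons (nat_lit 2) (nat_lit 0x3221322231310232023100133) (Net.cons (nat_lit 1) (nat_lit 0x1110110110405404145404515) Net.nil)))))))))))))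

theorem p_g89_ok : Net.ok 100 p_g89 = true := by decide +kernel

noncomputable def p_g90 : Net := (Net.cons (nat_lit 1) (nat_lit 0x5540011454414451105500454) (Net.cons (nat_lit 2) (nat_lit 0x210032100130201133123020) (Net.cons (nat_lit 4) (nat_lit 0x10a0d0604050e0009000800) (Net.cons (nat_lit 8) (nat_lit 0xb00230054000f00040000) (Net.cons (nat_lit 16) (nat_lit 0x500f000000c100000000) (Net.cons (nat_lit 32) (nat_lit 0x10088070) (Net.cons (nat_lit 64) (nat_lit 0x500eab70) (Net.cons (nat_lit 32) (nat_lit 0xb00000000e02c7bbd) (Net.cons (nat_lit 16) (nat_lit 0x500f0000c5680000e0c8) (Net.cons (nat_lit 8) (nat_lit 0x3300a700fd0028008000d0) (Net.cons (nat_lit 4) (nat_lit 0x1060e0b0c0c0b070d000a0c) (Net.cons (nat_lit 2) (nat_lit 0x311022123301113311111333) (Net.cons (nat_lit 1) (nat_lit 0x5404401151004101100545154) Net.nil)))))))))))))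

theorem p_g90_ok : Net.ok 100 p_g90 = true := by decide +kernel

noncomputable def p_g91 : Net := (Net.cons (nat_lit 1) (nat_lit 0x4505000515554054015110010) (Net.cons (nat_lit 2) (nat_lit 0x130222131322103011000200) (Net.cons (nat_lit 4) (nat_lit 0xc000a040c050f0d0c000602) (Net.cons (nat_lit 8) (nat_lit 0x50006000b70012004d0000) (Net.cons (nat_lit 16) (nat_lit 0x98350000d8ba0000000b) (Net.cons (nat_lit 32) (nat_lit 0xd000000004510b420) (Net.cons (nat_lit 64) (nat_lit 0x6ff75f77b) (Net.cons (nat_lit 32) (nat_lit 0xd00000000550eacb4) (Net.cons (nat_lit 16) (nat_lit 0xa8410000eacf0000105f) (Net.cons (nat_lit 8) (nat_lit 0x780044009700b6006d0020) (Net.cons (nat_lit 4) (nat_lit 0xc000a050c070f0f0c000603) (Net.cons (nat_lit 2) (nat_lit 0x130222131322103011010200) (Net.cons (nat_lit 1) (nat_lit 0x4505000515554054015110010) Net.nil)))))))))))))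

theorem p_g91_ok : Net.ok 100 p_g91 = true := by decide +kernel

noncomputable def nt_c7_K : List Net := [p_g88, p_g87, p_g89, p_g90, p_g91]

theorem nt_c7_K_ok : okE 100 nt_c7_K = true := (okE_cons.2 ⟨p_g88_ok, (okE_cons.2 ⟨p_g87_ok, (okE_cons.2 ⟨p_g89_ok, (okE_cons.2 ⟨p_g90_ok, (okE_cons.2 ⟨p_g91_ok, (okE_nil 100)⟩)⟩)⟩)⟩)⟩)

noncomputable def p_g93 : Net := (Net.cons (nat_lit 1) (nat_lit 0x4515400000450010444101400) (Net.cons (nat_lit 2) (nat_lit 0x222230000120021200030020) (Net.cons (nat_lit 4) (nat_lit 0x208020502080a010d030400) (Net.cons (nat_lit 8) (nat_lit 0x5200f60053000c00150004) (Net.cons (nat_lit 16) (nat_lit 0xa1400000000200000005) (Net.cons (nat_lit 32) (nat_lit 0x287adf0) (Net.cons (nat_lit 64) (nat_lit 0x52a87adf5) (Net.cons (nat_lit 32) (nat_lit 0x2000000000287adf0) (Net.cons (nat_lit 16) (nat_lit 0xa4180000500a0000c57d) (Net.cons (nat_lit 8) (nat_lit 0x5200f30050000900550080)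 (Net.cons (nat_lit 4) (nat_lit 0x20802050d080a040d070204) (Net.cons (nat_lit 2) (nat_lit 0x1333321112321030311030030) (Net.cons (nat_lit 1) (nat_lit 0x4515100005155010440105410) Net.nil)))))))))))))

theorem p_g93_ok : Net.ok 100 p_g93 = true := by decide +kernel

noncomputable def p_V94 : List Net := [p_g27, p_g93]

theorem p_V94_ok : okE 100 p_V94 = true := (okE_cons.2 ⟨p_g27_ok, (okE_cons.2 ⟨p_g93_ok, (okE_nil 100)⟩)⟩)

noncomputable def p_V96 : List Net := [p_g93]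

theorem p_V96_ok : okE 100 p_V96 = true := (okE_cons.2 ⟨p_g93_ok, (okE_nil 100)⟩)

noncomputable def p_V97 : List Net := []

theorem p_V97_ok : okE 100 p_V97 = true := (okE_nil 100)

noncomputable def nt_c7_cnt_EG : List Net := [p_g1, p_g2, p_g5, p_g6, H47.J2P.h_g45, H47.J2P.h_a0, p_g11, H47.J2P.h_g53, MpJ2.a, H47.J2P.h_g1, H47.J2P.h_a19, H47.J2P.h_a27, H47.J2P.h_g7, H47.J2P.h_g4, H47.J2P.h_a8, H47.J2P.h_g14, H47.J2P.h_g10, H47.J2P.h_g11, H47.J2P.h_g21, H47.J2P.h_g22, H47.J2P.h_g17, H47.J2P.h_g18, p_g26, p_g27, p_g28, p_g29, p_g93]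

theorem nt_c7_cnt_EG_ok : okE 100 nt_c7_cnt_EG = true := (okE_cons.2 ⟨p_g1_ok, (okE_cons.2 ⟨p_g2_ok, (okE_cons.2 ⟨p_g5_ok, (okE_cons.2 ⟨p_g6_ok, (okE_cons.2 ⟨H47.J2P.h_g45_ok, (okE_cons.2 ⟨H47.J2P.h_a0_ok, (okE_cons.2 ⟨p_g11_ok, (okE_cons.2 ⟨H47.J2P.h_g53_ok, (okE_cons.2 ⟨MpJ2.a_ok, (okE_cons.2 ⟨H47.J2P.h_g1_ok, (okE_cons.2 ⟨H47.J2P.h_a19_ok, (okE_cons.2 ⟨H47.J2P.h_a27_ok, (okE_cons.2 ⟨H47.J2P.h_g7_ok, (okE_cons.2 ⟨H47.J2P.h_g4_ok, (okE_cons.2 ⟨H47.J2P.h_a8_ok, (okE_cons.2 ⟨H47.J2P.h_g14_ok, (okE_cons.2 ⟨H47.J2P.h_g10_ok, (okE_cons.2 ⟨H47.J2P.h_g11_ok, (okE_cons.2 ⟨H47.J2P.h_g21_ok, (okE_cons.2 ⟨H47.J2P.h_g22_ok, (okE_cons.2 ⟨H47.J2P.h_g17_ok, (okE_cons.2 ⟨H47.J2P.h_g18_ok, (okE_cons.2 ⟨p_g26_ok, (okE_cons.2 ⟨p_g27_ok, (okE_cons.2 ⟨p_g28_ok, (okE_cons.2 ⟨p_g29_ok, (okE_cons.2 ⟨p_g93_ok, (okE_nil 100)⟩)⟩)⟩)⟩)⟩)⟩)⟩)⟩)⟩)⟩)⟩)⟩)⟩)⟩)⟩)⟩)⟩)⟩)⟩)⟩)⟩)⟩)⟩)⟩)⟩)⟩)⟩)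

noncomputable def p_g98 : Net := (Net.cons (nat_lit 1) (nat_lit 0x1441511105400000454441040) (Net.cons (nat_lit 2) (nat_lit 0x32033131000031302331230) (Net.cons (nat_lit 4) (nat_lit 0x90300030504040d0e040000) (Net.cons (nat_lit 8) (nat_lit 0xab001d001c0049000f0001) (Net.cons (nat_lit 16) (nat_lit 0x10240000208c0000000a) (Net.cons (nat_lit 32) (nat_lit 0xe0000000000530240) (Net.cons (nat_lit 64) (nat_lit 0x1d3738e5f) (Net.cons (nat_lit 32) (nat_lit 0xa0000000040972048) (Net.cons (nat_lit 16) (nat_lit 0xe8a6000063c000008443) (Net.cons (nat_lit 8) (nat_lit 0xe300c1001c00090033001c) (Net.cons (nat_lit 4) (nat_lit 0xc070f0f0304040b030d0503) (Net.cons (nat_lit 2) (nat_lit 0x2111102212133322303131020) (Net.cons (nat_lit 1) (nat_lit 0x541450005140110101150555) Net.nil)))))))))))))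

theorem p_g98_ok : Net.ok 100 p_g98 = true := by decide +kernel

noncomputable def p_g99 : Net := (Net.cons (nat_lit 1) (nat_lit 0x1014114441010014050151040) (Net.cons (nat_lit 2) (nat_lit 0x200131033010011121112020) (Net.cons (nat_lit 4) (nat_lit 0x3080e030908000102000800) (Net.cons (nat_lit 8) (nat_lit 0x8600b4000b00480006000d) (Net.cons (nat_lit 16) (nat_lit 0xe070000518800000002) (Net.cons (nat_lit 32) (nat_lit 0xa0000000021834e30) (Net.cons (nat_lit 64) (nat_lit 0x533cbee7e) (Net.cons (nat_lit 32) (nat_lit 0xf00000000a7a81580) (Net.cons (nat_lit 16) (nat_lit 0x98e00001e1a000031c1) (Net.cons (nat_lit 8) (nat_lit 0x4500d80071004d000800fa) (Net.cons (nat_lit 4) (nat_lit 0x40d0b010805000204010409) (Net.cons (nat_lit 2) (nat_lit 0x3132232112030300322112132) (Net.cons (nat_lit 1) (nat_lit 0x1101401115501404114004404) Net.nil)))))))))))))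

theorem p_g99_ok : Net.ok 100 p_g99 = true := by decide +kernel

noncomputable def nt_c8_K : List Net := [p_g98, p_g99, H47.J2P.h_g130]

theorem nt_c8_K_ok : okE 100 nt_c8_K = true := (okE_cons.2 ⟨p_g98_ok, (okE_cons.2 ⟨p_g99_ok, (okE_cons.2 ⟨H47.J2P.h_g130_ok, (okE_nil 100)⟩)⟩)⟩)

noncomputable def nt_c8_cnt_EG : List Net := [MpJ2.a, H47.J2P.h_g1, H47.J2P.h_a19, H47.J2P.h_a27, H47.J2P.h_g7, H47.J2P.h_a0, H47.J2P.h_g4, H47.J2P.h_a8, H47.J2P.h_g14, H47.J2P.h_g10, H47.J2P.h_g11, H47.J2P.h_g21, H47.J2P.h_g22, H47.J2P.h_g17, H47.J2P.h_g18, p_g1, p_g2, p_g5, p_g6, H47.J2P.h_g45, p_g11, H47.J2P.h_g53, p_g44, p_g45, p_g46]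

theorem nt_c8_cnt_EG_ok : okE 100 nt_c8_cnt_EG = true := (okE_cons.2 ⟨MpJ2.a_ok, (okE_cons.2 ⟨H47.J2P.h_g1_ok, (okE_cons.2 ⟨H47.J2P.h_a19_ok, (okE_cons.2 ⟨H47.J2P.h_a27_ok, (okE_cons.2 ⟨H47.J2P.h_g7_ok, (okE_cons.2 ⟨H47.J2P.h_a0_ok, (okE_cons.2 ⟨H47.J2P.h_g4_ok, (okE_cons.2 ⟨H47.J2P.h_a8_ok, (okE_cons.2 ⟨H47.J2P.h_g14_ok, (okE_cons.2 ⟨H47.J2P.h_g10_ok, (okE_cons.2 ⟨H47.J2P.h_g11_ok, (okE_cons.2 ⟨H47.J2P.h_g21_ok, (okE_cons.2 ⟨H47.J2P.h_g22_ok, (okE_cons.2 ⟨H47.J2P.h_g17_ok, (okE_cons.2 ⟨H47.J2P.h_g18_ok, (okE_cons.2 ⟨p_g1_ok, (okE_cons.2 ⟨p_g2_ok, (okE_cons.2 ⟨p_g5_ok, (okE_cons.2 ⟨p_g6_ok, (okE_cons.2 ⟨H47.J2P.h_g45_ok, (okE_cons.2 ⟨p_g11_ok, (okE_cons.2 ⟨H47.J2P.h_g53_ok, (okE_cons.2 ⟨p_g44_ok, (okE_cons.2 ⟨p_g45_ok, (okE_cons.2 ⟨p_g46_ok, (okE_nil 100)⟩)⟩)⟩)⟩)⟩)⟩)⟩)⟩)⟩)⟩)⟩)⟩)⟩)⟩)⟩)⟩)⟩)⟩)⟩)⟩)⟩)⟩)⟩)⟩)⟩)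

noncomputable def p_g101 : Net := (Net.cons (nat_lit 1) (nat_lit 0x4111400150514505015540150) (Net.cons (nat_lit 2) (nat_lit 0x3101231102000012220021300) (Net.cons (nat_lit 4) (nat_lit 0x10c030c0a0403090d010e00) (Net.cons (nat_lit 8) (nat_lit 0xf500a60069006c00310004) (Net.cons (nat_lit 16) (nat_lit 0x500a0000c0800000000d) (Net.cons (nat_lit 32) (nat_lit 0x8000000002011c5c0) (Net.cons (nat_lit 64) (nat_lit 0xfb6f3e5d3) (Net.cons (nat_lit 32) (nat_lit 0x500000000c923f84c) (Net.cons (nat_lit 16) (nat_lit 0xbb500007c6300004519) (Net.cons (nat_lit 8) (nat_lit 0x900a400ae00870081007f) (Net.cons (nat_lit 4) (nat_lit 0xd05010f060c0e0a06080605) (Net.cons (nat_lit 2) (nat_lit 0x1110230211211021201120300) (Net.cons (nat_lit 1) (nat_lit 0x4504000500115514104554540) Net.nil)))))))))))))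

theorem p_g101_ok : Net.ok 100 p_g101 = true := by decide +kernel

noncomputable def p_g102 : Net := (Net.cons (nat_lit 1) (nat_lit 0x4400455155501101001001014) (Net.cons (nat_lit 2) (nat_lit 0x2331010111320233331202100) (Net.cons (nat_lit 4) (nat_lit 0xf050e0a0a0f020101000100) (Net.cons (nat_lit 8) (nat_lit 0xf008d0086008e00180005) (Net.cons (nat_lit 16) (nat_lit 0x35410000421e00000002) (Net.cons (nat_lit 32) (nat_lit 0xc0000000000edd140) (Net.cons (nat_lit 64) (nat_lit 0x34cefffed) (Net.cons (nat_lit 32) (nat_lit 0xc0000000070c2d791) (Net.cons (nat_lit 16) (nat_lit 0xa31f0000b75c0000b79b) (Net.cons (nat_lit 8) (nat_lit 0xcb00f3004c00ad00b7009f) (Net.cons (nat_lit 4) (nat_lit 0x40308000e0f030807070206) (Net.cons (nat_lit 2) (nat_lit 0x1131023002213221211120221) (Net.cons (nat_lit 1) (nat_lit 0x4454540450104414405014114) Net.nil)))))))))))))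

theorem p_g102_ok : Net.ok 100 p_g102 = true := by decide +kernel

noncomputable def p_g103 : Net := (Net.cons (nat_lit 1) (nat_lit 0x10501415544040054544140) (Net.cons (nat_lit 2) (nat_lit 0x3032301033211002230120220) (Net.cons (nat_lit 4) (nat_lit 0xc0c000a05030809070a0c06) (Net.cons (nat_lit 8) (nat_lit 0xb300ef0005000b000e0001) (Net.cons (nat_lit 16) (nat_lit 0x45b00000288a00000004) (Net.cons (nat_lit 32) (nat_lit 0x500000000ab404600) (Net.cons (nat_lit 64) (nat_lit 0x9bf7b6f84) (Net.cons (nat_lit 32) (nat_lit 0xe00000000274c30a3) (Net.cons (nat_lit 16) (nat_lit 0x96840000942800007f81) (Net.cons (nat_lit 8) (nat_lit 0x6f007d0084004e00da0057) (Net.cons (nat_lit 4) (nat_lit 0x4010b060106040c0b000f06) (Net.cons (nat_lit 2) (nat_lit 0x1221133131220130113112112) (Net.cons (nat_lit 1) (nat_lit 0x1050414500544104141554041) Net.nil)))))))))))))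

theorem p_g103_ok : Net.ok 100 p_g103 = true := by decide +kernel

noncomputable def p_g104 : Net := (Net.cons (nat_lit 1) (nat_lit 0x1511010445000405445105550) (Net.cons (nat_lit 2) (nat_lit 0x2320011310103123012121200) (Net.cons (nat_lit 4) (nat_lit 0x20004090d0401070b040500) (Net.cons (nat_lit 8) (nat_lit 0x940037001000c00000) (Net.cons (nat_lit 16) (nat_lit 0x43260000078200000000) (Net.cons (nat_lit 32) (nat_lit 1152) (Net.cons (nat_lit 64) (nat_lit 0x4320b490) (Net.cons (nat_lit 32) (nat_lit 0x600000000a2590916) (Net.cons (nat_lit 16) (nat_lit 0x432600008fa7000020d4) (Net.cons (nat_lit 8) (nat_lit 0x650080003b003900880024) (Net.cons (nat_lit 4) (nat_lit 0x50c04080508090502090f04) (Net.cons (nat_lit 2) (nat_lit 0x313023103123001232013010) (Net.cons (nat_lit 1) (nat_lit 0x1104051445104110555105554) Net.nil)))))))))))))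

theorem p_g104_ok : Net.ok 100 p_g104 = true := by decide +kernel

noncomputable def nt_c9_K : List Net := [p_g102, p_g103, p_g104]

theorem nt_c9_K_ok : okE 100 nt_c9_K = true := (okE_cons.2 ⟨p_g102_ok, (okE_cons.2 ⟨p_g103_ok, (okE_cons.2 ⟨p_g104_ok, (okE_nil 100)⟩)⟩)⟩)

noncomputable def p_g106 : Net := (Net.cons (nat_lit 1) (nat_lit 0x5514501040540450400151010) (Net.cons (nat_lit 2) (nat_lit 0x3132120000210010202201010) (Net.cons (nat_lit 4) (nat_lit 0x30a070e0708040a0f050100) (Net.cons (nat_lit 8) (nat_lit 0x9e00e700870004008f0000) (Net.cons (nat_lit 16) (nat_lit 0x4121000000000000000d) (Net.cons (nat_lit 32) (nat_lit 0x800000000ff40b4a0) (Net.cons (nat_lit 64) (nat_lit 0x1ff42b4ad) (Net.cons (nat_lit 32) (nat_lit 0x700000000ff40b4a1) (Net.cons (nat_lit 16) (nat_lit 0xf0110000a0040000870d) (Net.cons (nat_lit 8) (nat_lit 0xbf00fd003c003f00ff0000) (Net.cons (nat_lit 4) (nat_lit 0xa0f0d0f0c07050b0f050404)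 (Net.cons (nat_lit 2) (nat_lit 0x1131102230113010002300130) (Net.cons (nat_lit 1) (nat_lit 0x4554540040540450540151010) Net.nil)))))))))))))

theorem p_g106_ok : Net.ok 100 p_g106 = true := by decide +kernel

noncomputable def p_g107 : Net := (Net.cons (nat_lit 1) (nat_lit 0x4504014440101000000150010) (Net.cons (nat_lit 2) (nat_lit 0x1220100000102000003031020) (Net.cons (nat_lit 4) (nat_lit 0x4070d0a0d030a050c000d00) (Net.cons (nat_lit 8) (nat_lit 0x300ce0039001200310004) (Net.cons (nat_lit 16) (nat_lit 0x6280000e20900000004) (Net.cons (nat_lit 32) (nat_lit 0x10000000045a00000) (Net.cons (nat_lit 64) (nat_lit 0xb55acf200) (Net.cons (nat_lit 32) (nat_lit 0x6000000005dbcf200) (Net.cons (nat_lit 16) (nat_lit 0x34630000fa1100003904) (Net.cons (nat_lit 8) (nat_lit 0x7100f20073002e00e90004) (Net.cons (nat_lit 4) (nat_lit 0x20c0d0d0a080a050c020d0c) (Net.cons (nat_lit 2) (nat_lit 0x3231001000101300000003010)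 (Net.cons (nat_lit 1) (nat_lit 0x144054100141114140150410) Net.nil)))))))))))))

theorem p_g107_ok : Net.ok 100 p_g107 = true := by decide +kernel

noncomputable def p_V108 : List Net := [p_g106, p_g107]

theorem p_V108_ok : okE 100 p_V108 = true := (okE_cons.2 ⟨p_g106_ok, (okE_cons.2 ⟨p_g107_ok, (okE_nil 100)⟩)⟩)

noncomputable def p_V110 : List Net := [p_g107]

theorem p_V110_ok : okE 100 p_V110 = true := (okE_cons.2 ⟨p_g107_ok, (okE_nil 100)⟩)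

noncomputable def p_V111 : List Net := []

theorem p_V111_ok : okE 100 p_V111 = true := (okE_nil 100)

noncomputable def nt_c9_cnt_EG : List Net := [p_g106, p_g107, p_g26, p_g27, p_g28, p_g29, p_g1, p_g2, p_g5, p_g6, H47.J2P.h_g45, H47.J2P.h_a0, p_g11, H47.J2P.h_g53, MpJ2.a, H47.J2P.h_g1, H47.J2P.h_a19, H47.J2P.h_a27, H47.J2P.h_g7, H47.J2P.h_g4, H47.J2P.h_a8, H47.J2P.h_g14, H47.J2P.h_g10, H47.J2P.h_g11, H47.J2P.h_g21, H47.J2P.h_g22, H47.J2P.h_g17, H47.J2P.h_g18]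

theorem nt_c9_cnt_EG_ok : okE 100 nt_c9_cnt_EG = true := (okE_cons.2 ⟨p_g106_ok, (okE_cons.2 ⟨p_g107_ok, (okE_cons.2 ⟨p_g26_ok, (okE_cons.2 ⟨p_g27_ok, (okE_cons.2 ⟨p_g28_ok, (okE_cons.2 ⟨p_g29_ok, (okE_cons.2 ⟨p_g1_ok, (okE_cons.2 ⟨p_g2_ok, (okE_cons.2 ⟨p_g5_ok, (okE_cons.2 ⟨p_g6_ok, (okE_cons.2 ⟨H47.J2P.h_g45_ok, (okE_cons.2 ⟨H47.J2P.h_a0_ok, (okE_cons.2 ⟨p_g11_ok, (okE_cons.2 ⟨H47.J2P.h_g53_ok, (okE_cons.2 ⟨MpJ2.a_ok, (okE_cons.2 ⟨H47.J2P.h_g1_ok, (okE_cons.2 ⟨H47.J2P.h_a19_ok, (okE_cons.2 ⟨H47.J2P.h_a27_ok, (okE_cons.2 ⟨H47.J2P.h_g7_ok, (okE_cons.2 ⟨H47.J2P.h_g4_ok, (okE_cons.2 ⟨H47.J2P.h_a8_ok, (okE_cons.2 ⟨H47.J2P.h_g14_ok, (okE_cons.2 ⟨H47.J2P.h_g10_ok, (okE_cons.2 ⟨H47.J2P.h_g11_ok, (okE_cons.2 ⟨H47.J2P.h_g21_ok, (okE_cons.2 ⟨H47.J2P.h_g22_ok, (okE_cons.2 ⟨H47.J2P.h_g17_ok, (okE_cons.2 ⟨H47.J2P.h_g18_ok, (okE_nil 100)⟩)⟩)⟩)⟩)⟩)⟩)⟩)⟩)⟩)⟩)⟩)⟩)⟩)⟩)⟩)⟩)⟩)⟩)⟩)⟩)⟩)⟩)⟩)⟩)⟩)⟩)⟩)⟩)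

noncomputable def p_g112 : Net := (Net.cons (nat_lit 1) (nat_lit 0x5401405105001500041444100) (Net.cons (nat_lit 2) (nat_lit 0x2111311000113323321030120) (Net.cons (nat_lit 4) (nat_lit 0x20b09060b040b020c050d00) (Net.cons (nat_lit 8) (nat_lit 0x210089004900c000060002) (Net.cons (nat_lit 16) (nat_lit 0x6c3e00004a0d00000001) (Net.cons (nat_lit 32) (nat_lit 0x290200) (Net.cons (nat_lit 64) (nat_lit 0x5362deb12) (Net.cons (nat_lit 32) (nat_lit 0xe00000000e78e9a70) (Net.cons (nat_lit 16) (nat_lit 0xe660000046600000ab9e) (Net.cons (nat_lit 8) (nat_lit 0x7900bf009b00a800a600c5) (Net.cons (nat_lit 4) (nat_lit 0x3050d060c0f0f0c01090000) (Net.cons (nat_lit 2) (nat_lit 0x3322132010133202302102212) (Net.cons (nat_lit 1) (nat_lit 0x514555445140150415440001) Net.nil)))))))))))))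

theorem p_g112_ok : Net.ok 100 p_g112 = true := by decide +kernel

noncomputable def p_g113 : Net := (Net.cons (nat_lit 1) (nat_lit 0x4105014504540405015454140) (Net.cons (nat_lit 2) (nat_lit 0x221101133321002322123000) (Net.cons (nat_lit 4) (nat_lit 0x50e0a060609050e00020b09) (Net.cons (nat_lit 8) (nat_lit 0x8900a600fc0002001a000f) (Net.cons (nat_lit 16) (nat_lit 0x10e20000138f00000009) (Net.cons (nat_lit 32) (nat_lit 0x10000000080401930) (Net.cons (nat_lit 64) (nat_lit 0xb9dc73f38) (Net.cons (nat_lit 32) (nat_lit 0xc00000000921941cf) (Net.cons (nat_lit 16) (nat_lit 0xe845000079cd0000a9d8) (Net.cons (nat_lit 8) (nat_lit 0x96006d009b00b900620081) (Net.cons (nat_lit 4) (nat_lit 0x203020d05090805050a0a07) (Net.cons (nat_lit 2) (nat_lit 0x331123111223102230311) (Net.cons (nat_lit 1) (nat_lit 0x5410004041041415544114110) Net.nil)))))))))))))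

theorem p_g113_ok : Net.ok 100 p_g113 = true := by decide +kernel

noncomputable def nt_c10_K : List Net := [p_g112, p_g113, H47.J2P.h_g50]

theorem nt_c10_K_ok : okE 100 nt_c10_K = true := (okE_cons.2 ⟨p_g112_ok, (okE_cons.2 ⟨p_g113_ok, (okE_cons.2 ⟨H47.J2P.h_g50_ok, (okE_nil 100)⟩)⟩)⟩)

noncomputable def p_g115 : Net := (Net.cons (nat_lit 1) (nat_lit 0x5155000514150140105110010) (Net.cons (nat_lit 2) (nat_lit 0x1131001130130020221012000) (Net.cons (nat_lit 4) (nat_lit 0x10e060b020c040c08020000) (Net.cons (nat_lit 8) (nat_lit 0xda00170066000400400004) (Net.cons (nat_lit 16) (nat_lit 0xe0920000601000000000) (Net.cons (nat_lit 32) (nat_lit 0xa0000000044082650) (Net.cons (nat_lit 64) (nat_lit 0xa64e9f770) (Net.cons (nat_lit 32) (nat_lit 0xf00000000d04a3464) (Net.cons (nat_lit 16) (nat_lit 0x7a200000701000001a88) (Net.cons (nat_lit 8) (nat_lit 0x4800c50032004700c200b6) (Net.cons (nat_lit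 4) (nat_lit 0x50e060906080c0e0c000202) (Net.cons (nat_lit 2) (nat_lit 0x1131201132130020223212020) (Net.cons (nat_lit 1) (nat_lit 0x5155000514150140105110010) Net.nil)))))))))))))

theorem p_g115_ok : Net.ok 100 p_g115 = true := by decide +kernel

noncomputable def p_V116 : List Net := [p_g115]

theorem p_V116_ok : okE 100 p_V116 = true := (okE_cons.2 ⟨p_g115_ok, (okE_nil 100)⟩)

noncomputable def p_V118 : List Net := []

theorem p_V118_ok : okE 100 p_V118 = true := (okE_nil 100)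

noncomputable def nt_c10_cnt_EG : List Net := [MpJ2.a, H47.J2P.h_g1, H47.J2P.h_a19, H47.J2P.h_a27, H47.J2P.h_g7, H47.J2P.h_a0, H47.J2P.h_g4, H47.J2P.h_a8, H47.J2P.h_g14, H47.J2P.h_g10, H47.J2P.h_g11, H47.J2P.h_g21, H47.J2P.h_g22, H47.J2P.h_g17, H47.J2P.h_g18, p_g1, p_g2, p_g5, p_g6, H47.J2P.h_g45, p_g11, H47.J2P.h_g53, p_g45, p_g46, p_g44, p_g115]

theorem nt_c10_cnt_EG_ok : okE 100 nt_c10_cnt_EG = true := (okE_cons.2 ⟨MpJ2.a_ok, (okE_cons.2 ⟨H47.J2P.h_g1_ok, (okE_cons.2 ⟨H47.J2P.h_a19_ok, (okE_cons.2 ⟨H47.J2P.h_a27_ok, (okE_cons.2 ⟨H47.J2P.h_g7_ok, (okE_cons.2 ⟨H47.J2P.h_a0_ok, (okE_cons.2 ⟨H47.J2P.h_g4_ok, (okE_cons.2 ⟨H47.J2P.h_a8_ok, (okE_cons.2 ⟨H47.J2P.h_g14_ok, (okE_cons.2 ⟨H47.J2P.h_g10_ok, (okE_cons.2 ⟨H47.J2P.h_g11_ok, (okE_cons.2 ⟨H47.J2P.h_g21_ok, (okE_cons.2 ⟨H47.J2P.h_g22_ok, (okE_cons.2 ⟨H47.J2P.h_g17_ok, (okE_cons.2 ⟨H47.J2P.h_g18_ok, (okE_cons.2 ⟨p_g1_ok, (okE_cons.2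 ⟨p_g2_ok, (okE_cons.2 ⟨p_g5_ok, (okE_cons.2 ⟨p_g6_ok, (okE_cons.2 ⟨H47.J2P.h_g45_ok, (okE_cons.2 ⟨p_g11_ok, (okE_cons.2 ⟨H47.J2P.h_g53_ok, (okE_cons.2 ⟨p_g45_ok, (okE_cons.2 ⟨p_g46_ok, (okE_cons.2 ⟨p_g44_ok, (okE_cons.2 ⟨p_g115_ok, (okE_nil 100)⟩)⟩)⟩)⟩)⟩)⟩)⟩)⟩)⟩)⟩)⟩)⟩)⟩)⟩)⟩)⟩)⟩)⟩)⟩)⟩)⟩)⟩)⟩)⟩)⟩)⟩)

noncomputable def p_g119 : Net := (Net.cons (nat_lit 1) (nat_lit 0x5054011040005411441501514) (Net.cons (nat_lit 2) (nat_lit 0x223321300032221022210120) (Net.cons (nat_lit 4) (nat_lit 0x70909050704040207090401) (Net.cons (nat_lit 8) (nat_lit 0x6d007000e0004700800003) (Net.cons (nat_lit 16) (nat_lit 0x35340000032500000005) (Net.cons (nat_lit 32) (nat_lit 0xc01953e0) (Net.cons (nat_lit 64) (nat_lit 0xfcfb9fbff) (Net.cons (nat_lit 32) (nat_lit 0x2000000003647dbf1) (Net.cons (nat_lit 16) (nat_lit 0x38e600002f7b000086de) (Net.cons (nat_lit 8) (nat_lit 0x2700300095007500e20080) (Net.cons (nat_lit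 4) (nat_lit 0x40f0d0b040b0f040f0c0408) (Net.cons (nat_lit 2) (nat_lit 0x123113012030023301132130) (Net.cons (nat_lit 1) (nat_lit 0x5415411511405145111014100) Net.nil)))))))))))))

theorem p_g119_ok : Net.ok 100 p_g119 = true := by decide +kernel

noncomputable def p_g120 : Net := (Net.cons (nat_lit 1) (nat_lit 0x550550111441105104010) (Net.cons (nat_lit 2) (nat_lit 0x1303030002203102012022030) (Net.cons (nat_lit 4) (nat_lit 0xa07020901030c040103070b) (Net.cons (nat_lit 8) (nat_lit 0xd700d40008002800a10002) (Net.cons (nat_lit 16) (nat_lit 0x3a6e0000503c00000002) (Net.cons (nat_lit 32) (nat_lit 0xe00000000a1192200) (Net.cons (nat_lit 64) (nat_lit 0x1a9ff379e) (Net.cons (nat_lit 32) (nat_lit 0xb0000000094fe6798) (Net.cons (nat_lit 16) (nat_lit 0xeb410000e24100004461) (Net.cons (nat_lit 8) (nat_lit 0xaa00a7006d004f00910070) (Net.cons (nat_lit 4) (nat_lit 0x6020708030c0706080e090c) (Net.cons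 (nat_lit 2) (nat_lit 0x2002333322120212233322122) (Net.cons (nat_lit 1) (nat_lit 0x1101100144441515510145415) Net.nil)))))))))))))

theorem p_g120_ok : Net.ok 100 p_g120 = true := by decide +kernel

noncomputable def p_g121 : Net := (Net.cons (nat_lit 1) (nat_lit 0x454110440144111455000004) (Net.cons (nat_lit 2) (nat_lit 0x133101302121020032032000) (Net.cons (nat_lit 4) (nat_lit 0xb000e0e0f0800030b030b05) (Net.cons (nat_lit 8) (nat_lit 0xb8000200e5006d00460000) (Net.cons (nat_lit 16) (nat_lit 0x683f0000084d00000005) (Net.cons (nat_lit 32) (nat_lit 0xf0000000001b04f20) (Net.cons (nat_lit 64) (nat_lit 0x527bddf3a) (Net.cons (nat_lit 32) (nat_lit 0xc03d9745) (Net.cons (nat_lit 16) (nat_lit 0xf38a000097780000983d) (Net.cons (nat_lit 8) (nat_lit 0xd70037001600230000001e) (Net.cons (nat_lit 4) (nat_lit 0xc0f0d080a0e010500090a01) (Net.cons (nat_lit 2) (nat_lit 0x1100222133033320330302101)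 (Net.cons (nat_lit 1) (nat_lit 0x1151010105555155414111405) Net.nil)))))))))))))

theorem p_g121_ok : Net.ok 100 p_g121 = true := by decide +kernel

noncomputable def p_g122 : Net := (Net.cons (nat_lit 1) (nat_lit 0x4114045444045000051541010) (Net.cons (nat_lit 2) (nat_lit 0x2023213001012223212110120) (Net.cons (nat_lit 4) (nat_lit 0x10d09090a0404050c0b0b01) (Net.cons (nat_lit 8) (nat_lit 0x8300d20008004e001b0000) (Net.cons (nat_lit 16) (nat_lit 0xa5060000890000000000) (Net.cons (nat_lit 32) (nat_lit 0x8000000006903c090) (Net.cons (nat_lit 64) (nat_lit 0x5ef03c898) (Net.cons (nat_lit 32) (nat_lit 0x6000000006e21c0d8) (Net.cons (nat_lit 16) (nat_lit 0x388d0000cfbd00001ec0) (Net.cons (nat_lit 8) (nat_lit 0xcc00c900f9003100da008f) (Net.cons (nat_lit 4) (nat_lit 0xf040209040809010a04) (Net.cons (nat_lit 2) (nat_lit 0x2123002333130320212330122) (Net.cons (nat_lit 1) (nat_lit 0x5104400440454451440100401)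 Net.nil)))))))))))))

theorem p_g122_ok : Net.ok 100 p_g122 = true := by decide +kernel

noncomputable def nt_c11_K : List Net := [p_g120, p_g119, p_g121, p_g122, p_g18]

theorem nt_c11_K_ok : okE 100 nt_c11_K = true := (okE_cons.2 ⟨p_g120_ok, (okE_cons.2 ⟨p_g119_ok, (okE_cons.2 ⟨p_g121_ok, (okE_cons.2 ⟨p_g122_ok, (okE_cons.2 ⟨p_g18_ok, (okE_nil 100)⟩)⟩)⟩)⟩)⟩)

noncomputable def nt_c11_cnt_EG : List Net := [p_g1, p_g2, p_g5, p_g6, H47.J2P.h_g45, H47.J2P.h_a0, p_g11, H47.J2P.h_g53, MpJ2.a, H47.J2P.h_g1, H47.J2P.h_a19, H47.J2P.h_a27, H47.J2P.h_g7, H47.J2P.h_g4, H47.J2P.h_a8, H47.J2P.h_g14, H47.J2P.h_g10, H47.J2P.h_g11, H47.J2P.h_g21, H47.J2P.h_g22, H47.J2P.h_g17, H47.J2P.h_g18, p_g28, p_g29, p_g27, p_g26]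

theorem nt_c11_cnt_EG_ok : okE 100 nt_c11_cnt_EG = true := (okE_cons.2 ⟨p_g1_ok, (okE_cons.2 ⟨p_g2_ok, (okE_cons.2 ⟨p_g5_ok, (okE_cons.2 ⟨p_g6_ok, (okE_cons.2 ⟨H47.J2P.h_g45_ok, (okE_cons.2 ⟨H47.J2P.h_a0_ok, (okE_cons.2 ⟨p_g11_ok, (okE_cons.2 ⟨H47.J2P.h_g53_ok, (okE_cons.2 ⟨MpJ2.a_ok, (okE_cons.2 ⟨H47.J2P.h_g1_ok, (okE_cons.2 ⟨H47.J2P.h_a19_ok, (okE_cons.2 ⟨H47.J2P.h_a27_ok, (okE_cons.2 ⟨H47.J2P.h_g7_ok, (okE_cons.2 ⟨H47.J2P.h_g4_ok, (okE_cons.2 ⟨H47.J2P.h_a8_ok, (okE_cons.2 ⟨H47.J2P.h_g14_ok, (okE_cons.2 ⟨H47.J2P.h_g10_ok, (okE_cons.2 ⟨H47.J2P.h_g11_ok, (okE_cons.2 ⟨H47.J2P.h_g21_ok, (okE_cons.2 ⟨H47.J2P.h_g22_ok, (okE_cons.2 ⟨H47.J2P.h_g17_ok, (okE_cons.2 ⟨H47.J2P.h_g18_ok, (okE_cons.2 ⟨p_g28_ok, (okE_cons.2 ⟨p_g29_ok, (okE_cons.2 ⟨p_g27_ok, (okE_cons.2 ⟨p_g26_ok, (okE_nil 100)⟩)⟩)⟩)⟩)⟩)⟩)⟩)⟩)⟩)⟩)⟩)⟩)⟩)⟩)⟩)⟩)⟩)⟩)⟩)⟩)⟩)⟩)⟩)⟩)⟩)⟩)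

noncomputable def p_g124 : Net := (Net.cons (nat_lit 1) (nat_lit 0x540504004410015001404000) (Net.cons (nat_lit 2) (nat_lit 0x2131222021033021310201220) (Net.cons (nat_lit 4) (nat_lit 0xb0805010100010f01070104) (Net.cons (nat_lit 8) (nat_lit 0xad008c00a80010006a0008) (Net.cons (nat_lit 16) (nat_lit 0x85d100001a1800000004) (Net.cons (nat_lit 32) (nat_lit 0x900000000a0501200) (Net.cons (nat_lit 64) (nat_lit 0x8fe7793f3) (Net.cons (nat_lit 32) (nat_lit 0x400000000d2ff1ea5) (Net.cons (nat_lit 16) (nat_lit 0x5f0000001a570000339a) (Net.cons (nat_lit 8) (nat_lit 0x4f00cd0029001200da0002) (Net.cons (nat_lit 4) (nat_lit 0x8030e060003010a0b0b060e) (Net.cons (nat_lit 2) (nat_lit 0x1132202030211031122011120) (Net.cons (nat_lit 1) (nat_lit 0x15105515011541405500111) Net.nil)))))))))))))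

theorem p_g124_ok : Net.ok 100 p_g124 = true := by decide +kernel

noncomputable def p_g125 : Net := (Net.cons (nat_lit 1) (nat_lit 0x4000515405500004141001100) (Net.cons (nat_lit 2) (nat_lit 0x1203212010331020001302230) (Net.cons (nat_lit 4) (nat_lit 0xc020e07060600090a01030e) (Net.cons (nat_lit 8) (nat_lit 0xf0003600200024001a0004) (Net.cons (nat_lit 16) (nat_lit 0xe0950000f86b0000000f) (Net.cons (nat_lit 32) (nat_lit 0x80000000008840320) (Net.cons (nat_lit 64) (nat_lit 0x6ebf50fba) (Net.cons (nat_lit 32) (nat_lit 0xf000000002b48d791) (Net.cons (nat_lit 16) (nat_lit 0x3330000d160000006df) (Net.cons (nat_lit 8) (nat_lit 0xd6005c0044002700fc00b1) (Net.cons (nat_lit 4) (nat_lit 0xf0a00050b070005090d0b0c) (Net.cons (nat_lit 2) (nat_lit 0x3130330301103030000022122) (Net.cons (nat_lit 1) (nat_lit 0x1015111551011144054555054) Net.nil)))))))))))))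

theorem p_g125_ok : Net.ok 100 p_g125 = true := by decide +kernel

noncomputable def nt_c12_K : List Net := [p_g124, p_g99, p_g125, p_g70]

theorem nt_c12_K_ok : okE 100 nt_c12_K = true := (okE_cons.2 ⟨p_g124_ok, (okE_cons.2 ⟨p_g99_ok, (okE_cons.2 ⟨p_g125_ok, (okE_cons.2 ⟨p_g70_ok, (okE_nil 100)⟩)⟩)⟩)⟩)

noncomputable def nt_c12_cnt_EG : List Net := [MpJ2.a, H47.J2P.h_g1, H47.J2P.h_a19, H47.J2P.h_a27, H47.J2P.h_g7, H47.J2P.h_a0, H47.J2P.h_g4, H47.J2P.h_a8, H47.J2P.h_g14, H47.J2P.h_g10, H47.J2P.h_g11, H47.J2P.h_g21, H47.J2P.h_g22, H47.J2P.h_g17, H47.J2P.h_g18, p_g1, p_g2, p_g5, p_g6, H47.J2P.h_g45, p_g11, H47.J2P.h_g53, p_g76, p_g77]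

theorem nt_c12_cnt_EG_ok : okE 100 nt_c12_cnt_EG = true := (okE_cons.2 ⟨MpJ2.a_ok, (okE_cons.2 ⟨H47.J2P.h_g1_ok, (okE_cons.2 ⟨H47.J2P.h_a19_ok, (okE_cons.2 ⟨H47.J2P.h_a27_ok, (okE_cons.2 ⟨H47.J2P.h_g7_ok, (okE_cons.2 ⟨H47.J2P.h_a0_ok, (okE_cons.2 ⟨H47.J2P.h_g4_ok, (okE_cons.2 ⟨H47.J2P.h_a8_ok, (okE_cons.2 ⟨H47.J2P.h_g14_ok, (okE_cons.2 ⟨H47.J2P.h_g10_ok, (okE_cons.2 ⟨H47.J2P.h_g11_ok, (okE_cons.2 ⟨H47.J2P.h_g21_ok, (okE_cons.2 ⟨H47.J2P.h_g22_ok, (okE_cons.2 ⟨H47.J2P.h_g17_ok, (okE_cons.2 ⟨H47.J2P.h_g18_ok, (okE_cons.2 ⟨p_g1_ok, (okE_cons.2 ⟨p_g2_ok, (okE_cons.2 ⟨p_g5_ok, (okE_cons.2 ⟨p_g6_ok, (okE_cons.2 ⟨H47.J2P.h_g45_ok, (okE_cons.2 ⟨p_g11_ok, (okE_cons.2 ⟨H47.J2P.h_g53_ok, (okE_cons.2 ⟨p_g76_ok, (okE_cons.2 ⟨p_g77_ok, (okE_nil 100)⟩)⟩)⟩)⟩)⟩)⟩)⟩)⟩)⟩)⟩)⟩)⟩)⟩)⟩)⟩)⟩)⟩)⟩)⟩)⟩)⟩)⟩)⟩)⟩)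

noncomputable def p_g127 : Net := (Net.cons (nat_lit 1) (nat_lit 0x4545555150110145010005000) (Net.cons (nat_lit 2) (nat_lit 0x1012202200001000001231210) (Net.cons (nat_lit 4) (nat_lit 0xb04090b040a08080c080408) (Net.cons (nat_lit 8) (nat_lit 0x7d00070092002c00220009) (Net.cons (nat_lit 16) (nat_lit 0x26590000402a00000001) (Net.cons (nat_lit 32) (nat_lit 0xb00000000060b4020) (Net.cons (nat_lit 64) (nat_lit 0xf70b6a7b) (Net.cons (nat_lit 32) (nat_lit 0x500000000f1661a6c) (Net.cons (nat_lit 16) (nat_lit 0x5bd1000008b200004280) (Net.cons (nat_lit 8) (nat_lit 0x5a00cc00c30094004800d7) (Net.cons (nat_lit 4) (nat_lit 0x10d040a0b0c040b07010309) (Net.cons (nat_lit 2) (nat_lit 0x3220123131223122331310011) (Net.cons (nat_lit 1) (nat_lit 0x1145105550411445155110005) Net.nil)))))))))))))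

theorem p_g127_ok : Net.ok 100 p_g127 = true := by decide +kernel

noncomputable def p_g128 : Net := (Net.cons (nat_lit 1) (nat_lit 0x5101154044504004454404100) (Net.cons (nat_lit 2) (nat_lit 0x222201103112210031230000) (Net.cons (nat_lit 4) (nat_lit 0x60c090207000d010505040a) (Net.cons (nat_lit 8) (nat_lit 0x60006d0090005b00440009) (Net.cons (nat_lit 16) (nat_lit 0x20810000a15700000009) (Net.cons (nat_lit 32) (nat_lit 0x260d8480) (Net.cons (nat_lit 64) (nat_lit 0xf260fadc8) (Net.cons (nat_lit 32) (nat_lit 0x4b4f323b) (Net.cons (nat_lit 16) (nat_lit 0x4616000096700000a05d) (Net.cons (nat_lit 8) (nat_lit 0x5b005f00ab006300750002) (Net.cons (nat_lit 4) (nat_lit 0x10e0c050705090003080603) (Net.cons (nat_lit 2) (nat_lit 0x2303132220003020313213) (Net.cons (nat_lit 1) (nat_lit 0x4000155155544515555511155) Net.nil)))))))))))))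

theorem p_g128_ok : Net.ok 100 p_g128 = true := by decide +kernel

noncomputable def p_g129 : Net := (Net.cons (nat_lit 1) (nat_lit 0x440545515500411445550100) (Net.cons (nat_lit 2) (nat_lit 0x1230132222220210023312010) (Net.cons (nat_lit 4) (nat_lit 0xc0a09000f0b080100080008) (Net.cons (nat_lit 8) (nat_lit 0x4b0021009d000800e40008) (Net.cons (nat_lit 16) (nat_lit 0xd9e200008f3600000000) (Net.cons (nat_lit 32) (nat_lit 0x10000000000992360) (Net.cons (nat_lit 64) (nat_lit 0xe2499fb7b) (Net.cons (nat_lit 32) (nat_lit 0x2000000002d72d1b6) (Net.cons (nat_lit 16) (nat_lit 0x420c0000f7580000c293) (Net.cons (nat_lit 8) (nat_lit 0xb0004e00710019005a008b) (Net.cons (nat_lit 4) (nat_lit 0x10d06020a0c050403020d) (Net.cons (nat_lit 2) (nat_lit 0x1220031122220312203033211) (Net.cons (nat_lit 1) (nat_lit 0x4405441455155415505040040) Net.nil)))))))))))))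

theorem p_g129_ok : Net.ok 100 p_g129 = true := by decide +kernel

noncomputable def nt_c13_K : List Net := [p_g127, p_g128, p_g129]

theorem nt_c13_K_ok : okE 100 nt_c13_K = true := (okE_cons.2 ⟨p_g127_ok, (okE_cons.2 ⟨p_g128_ok, (okE_cons.2 ⟨p_g129_ok, (okE_nil 100)⟩)⟩)⟩)

noncomputable def p_V131 : List Net := [H47.J2P.h_a0]

theorem p_V131_ok : okE 100 p_V131 = true := (okE_cons.2 ⟨H47.J2P.h_a0_ok, (okE_nil 100)⟩)

noncomputable def p_V133 : List Net := []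

theorem p_V133_ok : okE 100 p_V133 = true := (okE_nil 100)

noncomputable def nt_c13_cnt_EG : List Net := [p_g5, p_g6, H47.J2P.h_g45, H47.J2P.h_a0, p_g11, H47.J2P.h_g53, p_g1, p_g2, MpJ2.a, H47.J2P.h_g1, H47.J2P.h_a19, H47.J2P.h_a27, H47.J2P.h_g7, H47.J2P.h_g4, H47.J2P.h_a8, H47.J2P.h_g14, H47.J2P.h_g10, H47.J2P.h_g11, H47.J2P.h_g21, H47.J2P.h_g22, H47.J2P.h_g17, H47.J2P.h_g18, p_g76, p_g77]

theorem nt_c13_cnt_EG_ok : okE 100 nt_c13_cnt_EG = true := (okE_cons.2 ⟨p_g5_ok, (okE_cons.2 ⟨p_g6_ok, (okE_cons.2 ⟨H47.J2P.h_g45_ok, (okE_cons.2 ⟨H47.J2P.h_a0_ok, (okE_cons.2 ⟨p_g11_ok, (okE_cons.2 ⟨H47.J2P.h_g53_ok, (okE_cons.2 ⟨p_g1_ok, (okE_cons.2 ⟨p_g2_ok, (okE_cons.2 ⟨MpJ2.a_ok, (okE_cons.2 ⟨H47.J2P.h_g1_ok, (okE_cons.2 ⟨H47.J2P.h_a19_ok, (okE_cons.2 ⟨H47.J2P.h_a27_ok, (okE_cons.2 ⟨H47.J2P.h_g7_ok, (okE_cons.2 ⟨H47.J2P.h_g4_ok, (okE_cons.2 ⟨H47.J2P.h_a8_ok, (okE_cons.2 ⟨H47.J2P.h_g14_ok,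 (okE_cons.2 ⟨H47.J2P.h_g10_ok, (okE_cons.2 ⟨H47.J2P.h_g11_ok, (okE_cons.2 ⟨H47.J2P.h_g21_ok, (okE_cons.2 ⟨H47.J2P.h_g22_ok, (okE_cons.2 ⟨H47.J2P.h_g17_ok, (okE_cons.2 ⟨H47.J2P.h_g18_ok, (okE_cons.2 ⟨p_g76_ok, (okE_cons.2 ⟨p_g77_ok, (okE_nil 100)⟩)⟩)⟩)⟩)⟩)⟩)⟩)⟩)⟩)⟩)⟩)⟩)⟩)⟩)⟩)⟩)⟩)⟩)⟩)⟩)⟩)⟩)⟩)⟩)

noncomputable def p_g134 : Net := (Net.cons (nat_lit 1) (nat_lit 0x4514550440400104050415000) (Net.cons (nat_lit 2) (nat_lit 0x1110112100013003031200030) (Net.cons (nat_lit 4) (nat_lit 0xe0601090300070d0c06000a) (Net.cons (nat_lit 8) (nat_lit 0xa6009400c500c300740002) (Net.cons (nat_lit 16) (nat_lit 0xe85400006a1d00000002) (Net.cons (nat_lit 32) (nat_lit 0x80000000055962800) (Net.cons (nat_lit 64) (nat_lit 0xdddff6ab7) (Net.cons (nat_lit 32) (nat_lit 0x300000000761d2d80) (Net.cons (nat_lit 16) (nat_lit 0x6ab40000da670000b72b) (Net.cons (nat_lit 8) (nat_lit 0x7f009800ee00c5004d00a1) (Net.cons (nat_lit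 4) (nat_lit 0x70c08010806090d0a060a01) (Net.cons (nat_lit 2) (nat_lit 0x2301012320021313033223023) (Net.cons (nat_lit 1) (nat_lit 0x1544414500505504450054045) Net.nil)))))))))))))

theorem p_g134_ok : Net.ok 100 p_g134 = true := by decide +kernel

noncomputable def p_g135 : Net := (Net.cons (nat_lit 1) (nat_lit 0x4011404044411054545054440) (Net.cons (nat_lit 2) (nat_lit 0x213201023202000012032000) (Net.cons (nat_lit 4) (nat_lit 0x300050706060e0301010202) (Net.cons (nat_lit 8) (nat_lit 0x2900320021009700030000) (Net.cons (nat_lit 16) (nat_lit 0x8b210000011800000000) (Net.cons (nat_lit 32) (nat_lit 0x100000000e0500f00) (Net.cons (nat_lit 64) (nat_lit 0xee0760f19) (Net.cons (nat_lit 32) (nat_lit 0x600000000a0eaf63f) (Net.cons (nat_lit 16) (nat_lit 0xc9a6000009250000e84f) (Net.cons (nat_lit 8) (nat_lit 0x55008f00d90085004600e9) (Net.cons (nat_lit 4) (nat_lit 0x20408010b040c0207030c) (Net.cons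 (nat_lit 2) (nat_lit 0x1133303023112330332031102) (Net.cons (nat_lit 1) (nat_lit 0x5510005004115115055050511) Net.nil)))))))))))))

theorem p_g135_ok : Net.ok 100 p_g135 = true := by decide +kernel

noncomputable def nt_c14_K : List Net := [p_g135, p_g134]

theorem nt_c14_K_ok : okE 100 nt_c14_K = true := (okE_cons.2 ⟨p_g135_ok, (okE_cons.2 ⟨p_g134_ok, (okE_nil 100)⟩)⟩)

noncomputable def p_V137 : List Net := [H47.J2P.h_a0, p_g11, H47.J2P.h_a0, H47.J2P.h_g53, H47.J2P.h_a0, H47.J2P.h_a0]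

theorem p_V137_ok : okE 100 p_V137 = true := (okE_cons.2 ⟨H47.J2P.h_a0_ok, (okE_cons.2 ⟨p_g11_ok, (okE_cons.2 ⟨H47.J2P.h_a0_ok, (okE_cons.2 ⟨H47.J2P.h_g53_ok, (okE_cons.2 ⟨H47.J2P.h_a0_ok, (okE_cons.2 ⟨H47.J2P.h_a0_ok, (okE_nil 100)⟩)⟩)⟩)⟩)⟩)⟩)

noncomputable def p_V138 : List Net := [H47.J2P.h_a0, H47.J2P.h_g53, H47.J2P.h_a0, H47.J2P.h_a0]

theorem p_V138_ok : okE 100 p_V138 = true := (okE_cons.2 ⟨H47.J2P.h_a0_ok, (okE_cons.2 ⟨H47.J2P.h_g53_ok, (okE_cons.2 ⟨H47.J2P.h_a0_ok, (okE_cons.2 ⟨H47.J2P.h_a0_ok, (okE_nil 100)⟩)⟩)⟩)⟩)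

noncomputable def p_V139 : List Net := [H47.J2P.h_a0, H47.J2P.h_a0]

theorem p_V139_ok : okE 100 p_V139 = true := (okE_cons.2 ⟨H47.J2P.h_a0_ok, (okE_cons.2 ⟨H47.J2P.h_a0_ok, (okE_nil 100)⟩)⟩)

noncomputable def p_V140 : List Net := []

theorem p_V140_ok : okE 100 p_V140 = true := (okE_nil 100)

noncomputable def nt_c14_cnt_EG : List Net := [p_g1, p_g2, p_g5, p_g6, H47.J2P.h_g45, H47.J2P.h_a0, p_g11, H47.J2P.h_g53, MpJ2.a, H47.J2P.h_g1, H47.J2P.h_a19, H47.J2P.h_a27, H47.J2P.h_g7, H47.J2P.h_g4, H47.J2P.h_a8, H47.J2P.h_g14, H47.J2P.h_g10, H47.J2P.h_g11, H47.J2P.h_g21, H47.J2P.h_g22, H47.J2P.h_g17, H47.J2P.h_g18]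

theorem nt_c14_cnt_EG_ok : okE 100 nt_c14_cnt_EG = true := (okE_cons.2 ⟨p_g1_ok, (okE_cons.2 ⟨p_g2_ok, (okE_cons.2 ⟨p_g5_ok, (okE_cons.2 ⟨p_g6_ok, (okE_cons.2 ⟨H47.J2P.h_g45_ok, (okE_cons.2 ⟨H47.J2P.h_a0_ok, (okE_cons.2 ⟨p_g11_ok, (okE_cons.2 ⟨H47.J2P.h_g53_ok, (okE_cons.2 ⟨MpJ2.a_ok, (okE_cons.2 ⟨H47.J2P.h_g1_ok, (okE_cons.2 ⟨H47.J2P.h_a19_ok, (okE_cons.2 ⟨H47.J2P.h_a27_ok, (okE_cons.2 ⟨H47.J2P.h_g7_ok, (okE_cons.2 ⟨H47.J2P.h_g4_ok, (okE_cons.2 ⟨H47.J2P.h_a8_ok, (okE_cons.2 ⟨H47.J2P.h_g14_ok, (okE_cons.2 ⟨H47.J2P.h_g10_ok, (okE_cons.2 ⟨H47.J2P.h_g11_ok, (okE_cons.2 ⟨H47.J2P.h_g21_ok, (okE_cons.2 ⟨H47.J2P.h_g22_ok, (okE_cons.2 ⟨H47.J2P.h_g17_ok, (okE_cons.2 ⟨H47.J2P.h_g18_ok, (okE_nil 100)⟩)⟩)⟩)⟩)⟩)⟩)⟩)⟩)⟩)⟩)⟩)⟩)⟩)⟩)⟩)⟩)⟩)⟩)⟩)⟩)⟩)⟩)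

noncomputable def p_g141 : Net := (Net.cons (nat_lit 1) (nat_lit 0x4400044444404514504014010) (Net.cons (nat_lit 2) (nat_lit 0x313301313202320201303100) (Net.cons (nat_lit 4) (nat_lit 0xb050b02010f020107080002) (Net.cons (nat_lit 8) (nat_lit 0x89002300d0001800140000) (Net.cons (nat_lit 16) (nat_lit 0x1a2e0000902b00000000) (Net.cons (nat_lit 32) (nat_lit 0x4000000001daae340) (Net.cons (nat_lit 64) (nat_lit 0xfdfbee348) (Net.cons (nat_lit 32) (nat_lit 0x1000000009dcbf300) (Net.cons (nat_lit 16) (nat_lit 0x7d130000a91b0000350b) (Net.cons (nat_lit 8) (nat_lit 0x4700a300560060003900a2) (Net.cons (nat_lit 4) (nat_lit 0x6000f04090a0302080a0f07) (Net.cons (nat_lit 2) (nat_lit 0x2130331012132213123013232) (Net.cons (nat_lit 1) (nat_lit 0x50445515111511001454005) Net.nil)))))))))))))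

theorem p_g141_ok : Net.ok 100 p_g141 = true := by decide +kernel

noncomputable def p_g142 : Net := (Net.cons (nat_lit 1) (nat_lit 0x4515041155105441054410410) (Net.cons (nat_lit 2) (nat_lit 0x2103100303321230000013310) (Net.cons (nat_lit 4) (nat_lit 0xd0b060c0701060809060804) (Net.cons (nat_lit 8) (nat_lit 0x830014004a005100350000) (Net.cons (nat_lit 16) (nat_lit 0x4ecc0000a91a00000005) (Net.cons (nat_lit 32) (nat_lit 0xd11d080) (Net.cons (nat_lit 64) (nat_lit 0xfff33d5f3) (Net.cons (nat_lit 32) (nat_lit 0xc000000009bd5ede1) (Net.cons (nat_lit 16) (nat_lit 0xdf7a00006e3500001d6f) (Net.cons (nat_lit 8) (nat_lit 0xa4008100da00ed00280022) (Net.cons (nat_lit 4) (nat_lit 0x205010b0001020a05070802) (Net.cons (nat_lit 2) (nat_lit 0x1102100102110231111001303) (Net.cons (nat_lit 1) (nat_lit 0x105011504545144041115404) Net.nil)))))))))))))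

theorem p_g142_ok : Net.ok 100 p_g142 = true := by decide +kernel

noncomputable def p_g143 : Net := (Net.cons (nat_lit 1) (nat_lit 0x411154154504115550400000) (Net.cons (nat_lit 2) (nat_lit 0x3313013032010230120110300) (Net.cons (nat_lit 4) (nat_lit 0x40d0c0f0b000b0300000409) (Net.cons (nat_lit 8) (nat_lit 0xbd009f005d00d000840000) (Net.cons (nat_lit 16) (nat_lit 0x5160000808800000002) (Net.cons (nat_lit 32) (nat_lit 0xe0291f80) (Net.cons (nat_lit 64) (nat_lit 0xbe0fddfc3) (Net.cons (nat_lit 32) (nat_lit 0x2000000003359df16) (Net.cons (nat_lit 16) (nat_lit 0x8d6e000094d800004492) (Net.cons (nat_lit 8) (nat_lit 0x750047009d00e8005400e2) (Net.cons (nat_lit 4) (nat_lit 0x4090c0f0b040f030000060b) (Net.cons (nat_lit 2) (nat_lit 0x3313013012030230120210300) (Net.cons (nat_lit 1) (nat_lit 0x11155114544111550100000) Net.nil)))))))))))))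

theorem p_g143_ok : Net.ok 100 p_g143 = true := by decide +kernel

noncomputable def p_g144 : Net := (Net.cons (nat_lit 1) (nat_lit 0x5041044501514015105001000) (Net.cons (nat_lit 2) (nat_lit 0x1110201020030300020021000) (Net.cons (nat_lit 4) (nat_lit 0x10f010b0b000303020104) (Net.cons (nat_lit 8) (nat_lit 0x48004600a5002900ec0000) (Net.cons (nat_lit 16) (nat_lit 0x15930000100100000009) (Net.cons (nat_lit 32) (nat_lit 0x24096800) (Net.cons (nat_lit 64) (nat_lit 0xcb5ffe80c) (Net.cons (nat_lit 32) (nat_lit 0x7000000006f087854) (Net.cons (nat_lit 16) (nat_lit 0x1593000005f700002508) (Net.cons (nat_lit 8) (nat_lit 0x48004300b1003c00ed0011) (Net.cons (nat_lit 4) (nat_lit 0x1010f010b0b000303020104) (Net.cons (nat_lit 2) (nat_lit 0x1110201020020301020021001) (Net.cons (nat_lit 1) (nat_lit 0x5041044501514015105001000) Net.nil)))))))))))))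

theorem p_g144_ok : Net.ok 100 p_g144 = true := by decide +kernel

noncomputable def nt_c15_K : List Net := [p_g141, p_g142, p_g143, p_g85, p_g144]

theorem nt_c15_K_ok : okE 100 nt_c15_K = true := (okE_cons.2 ⟨p_g141_ok, (okE_cons.2 ⟨p_g142_ok, (okE_cons.2 ⟨p_g143_ok, (okE_cons.2 ⟨p_g85_ok, (okE_cons.2 ⟨p_g144_ok, (okE_nil 100)⟩)⟩)⟩)⟩)⟩)

noncomputable def nt_c15_cnt_EG : List Net := [p_g5, p_g6, H47.J2P.h_g45, H47.J2P.h_a0, p_g11, H47.J2P.h_g53, p_g1, p_g2, MpJ2.a, H47.J2P.h_g1, H47.J2P.h_a19, H47.J2P.h_a27, H47.J2P.h_g7, H47.J2P.h_g4, H47.J2P.h_a8, H47.J2P.h_g14, H47.J2P.h_g10, H47.J2P.h_g11, H47.J2P.h_g21, H47.J2P.h_g22, H47.J2P.h_g17, H47.J2P.h_g18, p_g44, p_g45, p_g46, p_g115]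

theorem nt_c15_cnt_EG_ok : okE 100 nt_c15_cnt_EG = true := (okE_cons.2 ⟨p_g5_ok, (okE_cons.2 ⟨p_g6_ok, (okE_cons.2 ⟨H47.J2P.h_g45_ok, (okE_cons.2 ⟨H47.J2P.h_a0_ok, (okE_cons.2 ⟨p_g11_ok, (okE_cons.2 ⟨H47.J2P.h_g53_ok, (okE_cons.2 ⟨p_g1_ok, (okE_cons.2 ⟨p_g2_ok, (okE_cons.2 ⟨MpJ2.a_ok, (okE_cons.2 ⟨H47.J2P.h_g1_ok, (okE_cons.2 ⟨H47.J2P.h_a19_ok, (okE_cons.2 ⟨H47.J2P.h_a27_ok, (okE_cons.2 ⟨H47.J2P.h_g7_ok, (okE_cons.2 ⟨H47.J2P.h_g4_ok, (okE_cons.2 ⟨H47.J2P.h_a8_ok, (okE_cons.2 ⟨H47.J2P.h_g14_ok, (okE_cons.2 ⟨H47.J2P.h_g10_ok, (okE_cons.2 ⟨H47.J2P.h_g11_ok, (okE_cons.2 ⟨H47.J2P.h_g21_ok, (okE_cons.2 ⟨H47.J2P.h_g22_ok, (okE_cons.2 ⟨H47.J2P.h_g17_ok, (okE_cons.2 ⟨H47.J2P.h_g18_ok, (okE_cons.2 ⟨p_g44_ok, (okE_cons.2 ⟨p_g45_ok, (okE_cons.2 ⟨p_g46_ok, (okE_cons.2 ⟨p_g115_ok, (okE_nil 100)⟩)⟩)⟩)⟩)⟩)⟩)⟩)⟩)⟩)⟩)⟩)⟩)⟩)⟩)⟩)⟩)⟩)⟩)⟩)⟩)⟩)⟩)⟩)⟩)⟩)⟩)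

noncomputable def p_g146 : Net := (Net.cons (nat_lit 1) (nat_lit 0x104405544055504041110400) (Net.cons (nat_lit 2) (nat_lit 0x123020202021210002100310) (Net.cons (nat_lit 4) (nat_lit 0x40d0e0c00060c08000a0a00) (Net.cons (nat_lit 8) (nat_lit 0x580000001b0024000a0000) (Net.cons (nat_lit 16) (nat_lit 0x42a10000141800000006) (Net.cons (nat_lit 32) (nat_lit 0x80000000010144080) (Net.cons (nat_lit 64) (nat_lit 0xa1f95c2a6) (Net.cons (nat_lit 32) (nat_lit 0x600000000b8291e8e) (Net.cons (nat_lit 16) (nat_lit 0xd9580000e55b0000a40a) (Net.cons (nat_lit 8) (nat_lit 0x1e0037000700a200290021) (Net.cons (nat_lit 4) (nat_lit 0x40f0e0b0b000a080a0d06) (Net.cons (nat_lit 2) (nat_lit 0x11223003203220131312231) (Net.cons (nat_lit 1) (nat_lit 0x515510104010414505111440) Net.nil)))))))))))))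

theorem p_g146_ok : Net.ok 100 p_g146 = true := by decide +kernel

noncomputable def p_g147 : Net := (Net.cons (nat_lit 1) (nat_lit 0x1045500444415144440444444) (Net.cons (nat_lit 2) (nat_lit 0x2131021001113023022031200) (Net.cons (nat_lit 4) (nat_lit 0xf020d020c0b080d04020101) (Net.cons (nat_lit 8) (nat_lit 0x7c0018000d00d500250009) (Net.cons (nat_lit 16) (nat_lit 0xb7de0000002700000001) (Net.cons (nat_lit 32) (nat_lit 0x100000000c0824430) (Net.cons (nat_lit 64) (nat_lit 0x1dbce6430) (Net.cons (nat_lit 32) (nat_lit 0xe000000004c61ae76) (Net.cons (nat_lit 16) (nat_lit 0x1bef000099ce00004068) (Net.cons (nat_lit 8) (nat_lit 0x3b00bc002d008e0027009f) (Net.cons (nat_lit 4) (nat_lit 0x80a090d000e020e000a080a) (Net.cons (nat_lit 2) (nat_lit 0x3231301123003302223310322) (Net.cons (nat_lit 1) (nat_lit 0x4500150114004451514141554) Net.nil)))))))))))))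

theorem p_g147_ok : Net.ok 100 p_g147 = true := by decide +kernel

noncomputable def p_g148 : Net := (Net.cons (nat_lit 1) (nat_lit 0x4015111101554504515411450) (Net.cons (nat_lit 2) (nat_lit 0x1333300220021100030302000) (Net.cons (nat_lit 4) (nat_lit 0x20b0d0d0d080c0504040e04) (Net.cons (nat_lit 8) (nat_lit 0x9500530000008800000000) (Net.cons (nat_lit 16) (nat_lit 0x16000013d400000006) (Net.cons (nat_lit 32) (nat_lit 0x4000000001c108000) (Net.cons (nat_lit 64) (nat_lit 0xa5f9af464) (Net.cons (nat_lit 32) (nat_lit 0x8f0140ce) (Net.cons (nat_lit 16) (nat_lit 0xde3f000098d900000167) (Net.cons (nat_lit 8) (nat_lit 0x9d00b0008900c600de00a1) (Net.cons (nat_lit 4) (nat_lit 0x60d0a04050f0d0c0d080c02) (Net.cons (nat_lit 2) (nat_lit 0x3221201100230011030303313) (Net.cons (nat_lit 1) (nat_lit 0x5111140004540100445115001) Net.nil)))))))))))))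

theorem p_g148_ok : Net.ok 100 p_g148 = true := by decide +kernel

noncomputable def p_g149 : Net := (Net.cons (nat_lit 1) (nat_lit 0x4005450000140101001550014) (Net.cons (nat_lit 2) (nat_lit 0x3102330320001200223112010) (Net.cons (nat_lit 4) (nat_lit 0x3090c060b0407030c0b0000) (Net.cons (nat_lit 8) (nat_lit 0x80000c00c00006005e0003) (Net.cons (nat_lit 16) (nat_lit 0x17000000073000000001) (Net.cons (nat_lit 32) (nat_lit 0x23b51440) (Net.cons (nat_lit 64) (nat_lit 0xfffffffff) (Net.cons (nat_lit 32) (nat_lit 0x28751700) (Net.cons (nat_lit 16) (nat_lit 0x9c4200000470000003cb) (Net.cons (nat_lit 8) (nat_lit 0x90003d00c00016005e00ab) (Net.cons (nat_lit 4) (nat_lit 0xb01050f0304070304020809) (Net.cons (nat_lit 2) (nat_lit 0x3102332320001200223112012) (Net.cons (nat_lit 1) (nat_lit 0x4005450000140101001550014) Net.nil)))))))))))))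

theorem p_g149_ok : Net.ok 100 p_g149 = true := by decide +kernel

noncomputable def nt_c16_K : List Net := [p_g146, p_g147, p_g148, p_g149]

theorem nt_c16_K_ok : okE 100 nt_c16_K = true := (okE_cons.2 ⟨p_g146_ok, (okE_cons.2 ⟨p_g147_ok, (okE_cons.2 ⟨p_g148_ok, (okE_cons.2 ⟨p_g149_ok, (okE_nil 100)⟩)⟩)⟩)⟩)

noncomputable def p_g151 : Net := (Net.cons (nat_lit 1) (nat_lit 0x4515510400550050000110040) (Net.cons (nat_lit 2) (nat_lit 0x123302100330022202003000) (Net.cons (nat_lit 4) (nat_lit 0xe09030008080007010000) (Net.cons (nat_lit 8) (nat_lit 0x2600210020000200070000) (Net.cons (nat_lit 16) (nat_lit 0x99200000000000000005) (Net.cons (nat_lit 32) (nat_lit 0xa0000000026d9fff0) (Net.cons (nat_lit 64) (nat_lit 0xfa6dbfff5) (Net.cons (nat_lit 32) (nat_lit 0xb0000000026d9fff4) (Net.cons (nat_lit 16) (nat_lit 0x193a0000001800002305) (Net.cons (nat_lit 8) (nat_lit 0x3e00670046005c00170000)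 (Net.cons (nat_lit 4) (nat_lit 0xa080d070f0e0c0e07010c08) (Net.cons (nat_lit 2) (nat_lit 0x1303310300330000132203000) (Net.cons (nat_lit 1) (nat_lit 0x4515510400550050000111440) Net.nil)))))))))))))

theorem p_g151_ok : Net.ok 100 p_g151 = true := by decide +kernel

noncomputable def p_V152 : List Net := [p_g151]

theorem p_V152_ok : okE 100 p_V152 = true := (okE_cons.2 ⟨p_g151_ok, (okE_nil 100)⟩)

noncomputable def p_V154 : List Net := []

theorem p_V154_ok : okE 100 p_V154 = true := (okE_nil 100)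

noncomputable def nt_c16_cnt_EG : List Net := [MpJ2.a, H47.J2P.h_g1, H47.J2P.h_a19, H47.J2P.h_a27, H47.J2P.h_g7, H47.J2P.h_a0, H47.J2P.h_g4, H47.J2P.h_a8, H47.J2P.h_g14, H47.J2P.h_g10, H47.J2P.h_g11, H47.J2P.h_g21, H47.J2P.h_g22, H47.J2P.h_g17, H47.J2P.h_g18, p_g1, p_g2, p_g5, p_g6, H47.J2P.h_g45, p_g11, H47.J2P.h_g53, p_g26, p_g27, p_g28, p_g29, p_g93, p_g151]

theorem nt_c16_cnt_EG_ok : okE 100 nt_c16_cnt_EG = true := (okE_cons.2 ⟨MpJ2.a_ok, (okE_cons.2 ⟨H47.J2P.h_g1_ok, (okE_cons.2 ⟨H47.J2P.h_a19_ok, (okE_cons.2 ⟨H47.J2P.h_a27_ok, (okE_cons.2 ⟨H47.J2P.h_g7_ok, (okE_cons.2 ⟨H47.J2P.h_a0_ok, (okE_cons.2 ⟨H47.J2P.h_g4_ok, (okE_cons.2 ⟨H47.J2P.h_a8_ok, (okE_cons.2 ⟨H47.J2P.h_g14_ok, (okE_cons.2 ⟨H47.J2P.h_g10_ok, (okE_cons.2 ⟨H47.J2P.h_g11_ok, (okE_cons.2 ⟨H47.J2P.h_g21_ok, (okE_cons.2 ⟨H47.J2P.h_g22_ok, (okE_cons.2 ⟨H47.J2P.h_g17_ok, (okE_cons.2 ⟨H47.J2P.h_g18_ok, (okE_cons.2 ⟨p_g1_ok,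 (okE_cons.2 ⟨p_g2_ok, (okE_cons.2 ⟨p_g5_ok, (okE_cons.2 ⟨p_g6_ok, (okE_cons.2 ⟨H47.J2P.h_g45_ok, (okE_cons.2 ⟨p_g11_ok, (okE_cons.2 ⟨H47.J2P.h_g53_ok, (okE_cons.2 ⟨p_g26_ok, (okE_cons.2 ⟨p_g27_ok, (okE_cons.2 ⟨p_g28_ok, (okE_cons.2 ⟨p_g29_ok, (okE_cons.2 ⟨p_g93_ok, (okE_cons.2 ⟨p_g151_ok, (okE_nil 100)⟩)⟩)⟩)⟩)⟩)⟩)⟩)⟩)⟩)⟩)⟩)⟩)⟩)⟩)⟩)⟩)⟩)⟩)⟩)⟩)⟩)⟩)⟩)⟩)⟩)⟩)⟩)⟩)

noncomputable def p_g155 : Net := (Net.cons (nat_lit 1) (nat_lit 0x1450151514051010101505140) (Net.cons (nat_lit 2) (nat_lit 0x2301030330130230012000310) (Net.cons (nat_lit 4) (nat_lit 0xd090401050c070c0d050002) (Net.cons (nat_lit 8) (nat_lit 0xf5008b0061002000950000) (Net.cons (nat_lit 16) (nat_lit 0x42810000502300000003) (Net.cons (nat_lit 32) (nat_lit 0x600000000065cb610) (Net.cons (nat_lit 64) (nat_lit 0xa77dfb67c) (Net.cons (nat_lit 32) (nat_lit 0xd00000000af7bec9e) (Net.cons (nat_lit 16) (nat_lit 0xe9bd00000b84000091c0) (Net.cons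 (nat_lit 8) (nat_lit 0xa1006700b200c800130049) (Net.cons (nat_lit 4) (nat_lit 0x2010503010c030105020302) (Net.cons (nat_lit 2) (nat_lit 0x3000020112113222301311332) (Net.cons (nat_lit 1) (nat_lit 0x4455440140104105555540554) Net.nil)))))))))))))

theorem p_g155_ok : Net.ok 100 p_g155 = true := by decide +kernel

noncomputable def p_g156 : Net := (Net.cons (nat_lit 1) (nat_lit 0x5454500450404410114001004) (Net.cons (nat_lit 2) (nat_lit 0x3310310310023030310011320) (Net.cons (nat_lit 4) (nat_lit 0x70603070105030008010600) (Net.cons (nat_lit 8) (nat_lit 0xd2007a004d005000000008) (Net.cons (nat_lit 16) (nat_lit 0x62d30000008100000000) (Net.cons (nat_lit 32) (nat_lit 0x5f987120) (Net.cons (nat_lit 64) (nat_lit 0x15fbc7de1) (Net.cons (nat_lit 32) (nat_lit 0xe000000005b9b1d76) (Net.cons (nat_lit 16) (nat_lit 0x1fc30000858300009006) (Net.cons (nat_lit 8) (nat_lit 0x86006a007d001400440020) (Net.cons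 (nat_lit 4) (nat_lit 0xf020307050507000a01020c) (Net.cons (nat_lit 2) (nat_lit 0x3320310320023011310011100) (Net.cons (nat_lit 1) (nat_lit 0x5414510440405410114001004) Net.nil)))))))))))))

theorem p_g156_ok : Net.ok 100 p_g156 = true := by decide +kernel

noncomputable def nt_c17_K : List Net := [p_g156, p_g155]

theorem nt_c17_K_ok : okE 100 nt_c17_K = true := (okE_cons.2 ⟨p_g156_ok, (okE_cons.2 ⟨p_g155_ok, (okE_nil 100)⟩)⟩)

noncomputable def nt_c17_cnt_EG : List Net := [MpJ2.a, H47.J2P.h_g1, H47.J2P.h_a19, H47.J2P.h_a27, H47.J2P.h_g7, H47.J2P.h_a0, H47.J2P.h_g4, H47.J2P.h_a8, H47.J2P.h_g14, H47.J2P.h_g10, H47.J2P.h_g11, H47.J2P.h_g21, H47.J2P.h_g22, H47.J2P.h_g17, H47.J2P.h_g18, p_g1, p_g2, p_g5, p_g6, H47.J2P.h_g45, p_g11, H47.J2P.h_g53, p_g26, p_g27, p_g28, p_g29, p_g107, p_g106]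

theorem nt_c17_cnt_EG_ok : okE 100 nt_c17_cnt_EG = true := (okE_cons.2 ⟨MpJ2.a_ok, (okE_cons.2 ⟨H47.J2P.h_g1_ok, (okE_cons.2 ⟨H47.J2P.h_a19_ok, (okE_cons.2 ⟨H47.J2P.h_a27_ok, (okE_cons.2 ⟨H47.J2P.h_g7_ok, (okE_cons.2 ⟨H47.J2P.h_a0_ok, (okE_cons.2 ⟨H47.J2P.h_g4_ok, (okE_cons.2 ⟨H47.J2P.h_a8_ok, (okE_cons.2 ⟨H47.J2P.h_g14_ok, (okE_cons.2 ⟨H47.J2P.h_g10_ok, (okE_cons.2 ⟨H47.J2P.h_g11_ok, (okE_cons.2 ⟨H47.J2P.h_g21_ok, (okE_cons.2 ⟨H47.J2P.h_g22_ok, (okE_cons.2 ⟨H47.J2P.h_g17_ok, (okE_cons.2 ⟨H47.J2P.h_g18_ok, (okE_cons.2 ⟨p_g1_ok, (okE_cons.2 ⟨p_g2_ok, (okE_cons.2 ⟨p_g5_ok, (okE_cons.2 ⟨p_g6_ok, (okE_cons.2 ⟨H47.J2P.h_g45_ok, (okE_cons.2 ⟨p_g11_ok, (okE_cons.2 ⟨H47.J2P.h_g53_ok, (okE_cons.2 ⟨p_g26_ok, (okE_cons.2 ⟨p_g27_ok, (okE_cons.2 ⟨p_g28_ok, (okE_cons.2 ⟨p_g29_ok, (okE_cons.2 ⟨p_g107_ok, (okE_cons.2 ⟨p_g106_ok, (okE_nil 100)⟩)⟩)⟩)⟩)⟩)⟩)⟩)⟩)⟩)⟩)⟩)⟩)⟩)⟩)⟩)⟩)⟩)⟩)⟩)⟩)⟩)⟩)⟩)⟩)⟩)⟩)⟩)⟩)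

noncomputable def p_g158 : Net := (Net.cons (nat_lit 1) (nat_lit 0x540411450145140105145504) (Net.cons (nat_lit 2) (nat_lit 0x301001313331221201102110) (Net.cons (nat_lit 4) (nat_lit 0x50900020306090905020300) (Net.cons (nat_lit 8) (nat_lit 0xe00064002c002600430004) (Net.cons (nat_lit 16) (nat_lit 0xa8240000812100000000) (Net.cons (nat_lit 32) (nat_lit 0x80000000002220400) (Net.cons (nat_lit 64) (nat_lit 0x74fbabe6e) (Net.cons (nat_lit 32) (nat_lit 0xf0000000096ff0b81) (Net.cons (nat_lit 16) (nat_lit 0xb4c30000762600003d93) (Net.cons (nat_lit 8) (nat_lit 0xef003f0063003100e300eb) (Net.cons (nat_lit 4) (nat_lit 0x3030102030e0e070b0d0d0e) (Net.cons (nat_lit 2) (nat_lit 0x1312202331212303012133130) (Net.cons (nat_lit 1) (nat_lit 0x5051454414511500151514450) Net.nil)))))))))))))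

theorem p_g158_ok : Net.ok 100 p_g158 = true := by decide +kernel

noncomputable def p_g159 : Net := (Net.cons (nat_lit 1) (nat_lit 0x1110404401041411400014) (Net.cons (nat_lit 2) (nat_lit 0x2303102223203321303023030) (Net.cons (nat_lit 4) (nat_lit 0x2030a0904030f0303050508) (Net.cons (nat_lit 8) (nat_lit 0x3a007f005c007500d3000c) (Net.cons (nat_lit 16) (nat_lit 0x840c000001370000000b) (Net.cons (nat_lit 32) (nat_lit 0x2dbc100) (Net.cons (nat_lit 64) (nat_lit 0xd2bdfe51b) (Net.cons (nat_lit 32) (nat_lit 0x2000000003b33130c) (Net.cons (nat_lit 16) (nat_lit 0xf1f100009f7c00009596) (Net.cons (nat_lit 8) (nat_lit 0x2900e7009200a900740084) (Net.cons (nat_lit 4) (nat_lit 0x90c0d020e06080508090b08) (Net.cons (nat_lit 2) (nat_lit 0x1300131222230023022120001) (Net.cons (nat_lit 1) (nat_lit 0x441001115015400014444411) Net.nil)))))))))))))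

theorem p_g159_ok : Net.ok 100 p_g159 = true := by decide +kernel

noncomputable def nt_c18_K : List Net := [p_g158, p_g159]

theorem nt_c18_K_ok : okE 100 nt_c18_K = true := (okE_cons.2 ⟨p_g158_ok, (okE_cons.2 ⟨p_g159_ok, (okE_nil 100)⟩)⟩)

noncomputable def nt_c18_cnt_EG : List Net := [MpJ2.a, H47.J2P.h_g1, H47.J2P.h_a19, H47.J2P.h_a27, H47.J2P.h_g7, H47.J2P.h_a0, H47.J2P.h_g4, H47.J2P.h_a8, H47.J2P.h_g14, H47.J2P.h_g10, H47.J2P.h_g11, H47.J2P.h_g21, H47.J2P.h_g22, H47.J2P.h_g17, H47.J2P.h_g18, p_g1, p_g2, p_g5, p_g6, H47.J2P.h_g45, p_g11, H47.J2P.h_g53]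

theorem nt_c18_cnt_EG_ok : okE 100 nt_c18_cnt_EG = true := (okE_cons.2 ⟨MpJ2.a_ok, (okE_cons.2 ⟨H47.J2P.h_g1_ok, (okE_cons.2 ⟨H47.J2P.h_a19_ok, (okE_cons.2 ⟨H47.J2P.h_a27_ok, (okE_cons.2 ⟨H47.J2P.h_g7_ok, (okE_cons.2 ⟨H47.J2P.h_a0_ok, (okE_cons.2 ⟨H47.J2P.h_g4_ok, (okE_cons.2 ⟨H47.J2P.h_a8_ok, (okE_cons.2 ⟨H47.J2P.h_g14_ok, (okE_cons.2 ⟨H47.J2P.h_g10_ok, (okE_cons.2 ⟨H47.J2P.h_g11_ok, (okE_cons.2 ⟨H47.J2P.h_g21_ok, (okE_cons.2 ⟨H47.J2P.h_g22_ok, (okE_cons.2 ⟨H47.J2P.h_g17_ok, (okE_cons.2 ⟨H47.J2P.h_g18_ok, (okE_cons.2 ⟨p_g1_ok, (okE_cons.2 ⟨p_g2_ok, (okE_cons.2 ⟨p_g5_ok, (okE_cons.2 ⟨p_g6_ok, (okE_cons.2 ⟨H47.J2P.h_g45_ok, (okE_cons.2 ⟨p_g11_ok, (okE_cons.2 ⟨H47.J2P.h_g53_ok, (okE_nil 100)⟩)⟩)⟩)⟩)⟩)⟩)⟩)⟩)⟩)⟩)⟩)⟩)⟩)⟩)⟩)⟩)⟩)⟩)⟩)⟩)⟩)⟩)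

noncomputable def p_g161 : Net := (Net.cons (nat_lit 1) (nat_lit 0x4415545005011451155500440) (Net.cons (nat_lit 2) (nat_lit 0x2211120231231312301103100) (Net.cons (nat_lit 4) (nat_lit 0x60909060607080604090202) (Net.cons (nat_lit 8) (nat_lit 0xf500590048008b0025000b) (Net.cons (nat_lit 16) (nat_lit 0x274a00000a3800000006) (Net.cons (nat_lit 32) (nat_lit 0x3000000000a1485c0) (Net.cons (nat_lit 64) (nat_lit 0x6be3495d5) (Net.cons (nat_lit 32) (nat_lit 0x80000000088bbdc85) (Net.cons (nat_lit 16) (nat_lit 0x13b3000066af0000af8d) (Net.cons (nat_lit 8) (nat_lit 0x2001f00780029004d0027) (Net.cons (nat_lit 4) (nat_lit 0x300080a090f0b0a08030c0b) (Net.cons (nat_lit 2) (nat_lit 0x1222201332221311221230202) (Net.cons (nat_lit 1) (nat_lit 0x15145545110444410454001) Net.nil)))))))))))))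

theorem p_g161_ok : Net.ok 100 p_g161 = true := by decide +kernel

noncomputable def p_g162 : Net := (Net.cons (nat_lit 1) (nat_lit 0x5551444451115450155501100) (Net.cons (nat_lit 2) (nat_lit 0x300230003201110211020000) (Net.cons (nat_lit 4) (nat_lit 0x30a0609000d000b0000) (Net.cons (nat_lit 8) (nat_lit 0x3600800008004f00010004) (Net.cons (nat_lit 16) (nat_lit 0x49a2000023c100000003) (Net.cons (nat_lit 32) (nat_lit 0x29e48000) (Net.cons (nat_lit 64) (nat_lit 0x72de5e0f6) (Net.cons (nat_lit 32) (nat_lit 0x400000000386f9a8c) (Net.cons (nat_lit 16) (nat_lit 0x5a2f0000374d0000118a) (Net.cons (nat_lit 8) (nat_lit 0x3700810048004e00400005) (Net.cons (nat_lit 4) (nat_lit 0x30a0609000d0a0b0000) (Net.cons (nat_lit 2) (nat_lit 0x300230103201110211020010) (Net.cons (nat_lit 1) (nat_lit 0x5551444451115450155501100) Net.nil)))))))))))))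

theorem p_g162_ok : Net.ok 100 p_g162 = true := by decide +kernel

noncomputable def nt_c19_K : List Net := [p_g161, p_g162]

theorem nt_c19_K_ok : okE 100 nt_c19_K = true := (okE_cons.2 ⟨p_g161_ok, (okE_cons.2 ⟨p_g162_ok, (okE_nil 100)⟩)⟩)

noncomputable def p_V164 : List Net := [p_g45]

theorem p_V164_ok : okE 100 p_V164 = true := (okE_cons.2 ⟨p_g45_ok, (okE_nil 100)⟩)

noncomputable def p_V166 : List Net := []

theorem p_V166_ok : okE 100 p_V166 = true := (okE_nil 100)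

noncomputable def nt_c19_cnt_EG : List Net := [MpJ2.a, H47.J2P.h_g1, H47.J2P.h_a19, H47.J2P.h_a27, H47.J2P.h_g7, H47.J2P.h_a0, H47.J2P.h_g4, H47.J2P.h_a8, H47.J2P.h_g14, H47.J2P.h_g10, H47.J2P.h_g11, H47.J2P.h_g21, H47.J2P.h_g22, H47.J2P.h_g17, H47.J2P.h_g18, p_g1, p_g2, p_g5, p_g6, H47.J2P.h_g45, p_g11, H47.J2P.h_g53, p_g45, p_g46, p_g44]

theorem nt_c19_cnt_EG_ok : okE 100 nt_c19_cnt_EG = true := (okE_cons.2 ⟨MpJ2.a_ok, (okE_cons.2 ⟨H47.J2P.h_g1_ok, (okE_cons.2 ⟨H47.J2P.h_a19_ok, (okE_cons.2 ⟨H47.J2P.h_a27_ok, (okE_cons.2 ⟨H47.J2P.h_g7_ok, (okE_cons.2 ⟨H47.J2P.h_a0_ok, (okE_cons.2 ⟨H47.J2P.h_g4_ok, (okE_cons.2 ⟨H47.J2P.h_a8_ok, (okE_cons.2 ⟨H47.J2P.h_g14_ok, (okE_cons.2 ⟨H47.J2P.h_g10_ok, (okE_cons.2 ⟨H47.J2P.h_g11_ok, (okE_cons.2 ⟨H47.J2P.h_g21_ok, (okE_cons.2 ⟨H47.J2P.h_g22_ok, (okE_cons.2 ⟨H47.J2P.h_g17_ok, (okE_cons.2 ⟨H47.J2P.h_g18_ok, (okE_cons.2 ⟨p_g1_ok, (okE_cons.2 ⟨p_g2_ok,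 (okE_cons.2 ⟨p_g5_ok, (okE_cons.2 ⟨p_g6_ok, (okE_cons.2 ⟨H47.J2P.h_g45_ok, (okE_cons.2 ⟨p_g11_ok, (okE_cons.2 ⟨H47.J2P.h_g53_ok, (okE_cons.2 ⟨p_g45_ok, (okE_cons.2 ⟨p_g46_ok, (okE_cons.2 ⟨p_g44_ok, (okE_nil 100)⟩)⟩)⟩)⟩)⟩)⟩)⟩)⟩)⟩)⟩)⟩)⟩)⟩)⟩)⟩)⟩)⟩)⟩)⟩)⟩)⟩)⟩)⟩)⟩)⟩)

noncomputable def p_g167 : Net := (Net.cons (nat_lit 1) (nat_lit 0x1001014011100155141004100) (Net.cons (nat_lit 2) (nat_lit 0x1100111230230332310030200) (Net.cons (nat_lit 4) (nat_lit 0x90a060e060b0e0c09080e0b) (Net.cons (nat_lit 8) (nat_lit 0x3c005500d0008e00020000) (Net.cons (nat_lit 16) (nat_lit 0x3176000014680000000a) (Net.cons (nat_lit 32) (nat_lit 0x10000000059638210) (Net.cons (nat_lit 64) (nat_lit 0xe7973aefb) (Net.cons (nat_lit 32) (nat_lit 0xd000000002dd500a7) (Net.cons (nat_lit 16) (nat_lit 0x28be00006f4e0000ae5d) (Net.cons (nat_lit 8) (nat_lit 0x1c00e900a30047006c0094) (Net.cons (nat_lit 4) (nat_lit 0x60a020f0705040c000f0e09)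 (Net.cons (nat_lit 2) (nat_lit 0x100032303123113300131002) (Net.cons (nat_lit 1) (nat_lit 0x5414444441155150114504515) Net.nil)))))))))))))

theorem p_g167_ok : Net.ok 100 p_g167 = true := by decide +kernel

noncomputable def p_g168 : Net := (Net.cons (nat_lit 1) (nat_lit 0x414100054044115404540510) (Net.cons (nat_lit 2) (nat_lit 0x3210023102003330201101000) (Net.cons (nat_lit 4) (nat_lit 0x704040700080e060c000100) (Net.cons (nat_lit 8) (nat_lit 0xbc009c00e000450006000f) (Net.cons (nat_lit 16) (nat_lit 0x64380000129c00000003) (Net.cons (nat_lit 32) (nat_lit 0x80000000020000240) (Net.cons (nat_lit 64) (nat_lit 0x5e6338b6a) (Net.cons (nat_lit 32) (nat_lit 0x7000000007fbecf42) (Net.cons (nat_lit 16) (nat_lit 0x92da00002c5500006d0f) (Net.cons (nat_lit 8) (nat_lit 0x93001b00e6001d00f100fd) (Net.cons (nat_lit 4) (nat_lit 0x3050a050800040f0d0a0c0a) (Net.cons (nat_lit 2) (nat_lit 0x231310222001132310220312)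 (Net.cons (nat_lit 1) (nat_lit 0x1441014541015544014450440) Net.nil)))))))))))))

theorem p_g168_ok : Net.ok 100 p_g168 = true := by decide +kernel

noncomputable def nt_c20_K : List Net := [p_g167, p_g168, p_g18]

theorem nt_c20_K_ok : okE 100 nt_c20_K = true := (okE_cons.2 ⟨p_g167_ok, (okE_cons.2 ⟨p_g168_ok, (okE_cons.2 ⟨p_g18_ok, (okE_nil 100)⟩)⟩)⟩)

noncomputable def p_V170 : List Net := [H47.J2P.h_g50]

theorem p_V170_ok : okE 100 p_V170 = true := (okE_cons.2 ⟨H47.J2P.h_g50_ok, (okE_nil 100)⟩)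

noncomputable def p_V172 : List Net := []

theorem p_V172_ok : okE 100 p_V172 = true := (okE_nil 100)

noncomputable def nt_c20_cnt_EG : List Net := [MpJ2.a, H47.J2P.h_g1, H47.J2P.h_a19, H47.J2P.h_a27, H47.J2P.h_g7, H47.J2P.h_a0, H47.J2P.h_g4, H47.J2P.h_a8, H47.J2P.h_g14, H47.J2P.h_g10, H47.J2P.h_g11, H47.J2P.h_g21, H47.J2P.h_g22, H47.J2P.h_g17, H47.J2P.h_g18, p_g1, p_g2, p_g5, p_g6, H47.J2P.h_g45, p_g11, H47.J2P.h_g53, H47.J2P.h_g50]

theorem nt_c20_cnt_EG_ok : okE 100 nt_c20_cnt_EG = true := (okE_cons.2 ⟨MpJ2.a_ok, (okE_cons.2 ⟨H47.J2P.h_g1_ok, (okE_cons.2 ⟨H47.J2P.h_a19_ok, (okE_cons.2 ⟨H47.J2P.h_a27_ok, (okE_cons.2 ⟨H47.J2P.h_g7_ok, (okE_cons.2 ⟨H47.J2P.h_a0_ok, (okE_cons.2 ⟨H47.J2P.h_g4_ok, (okE_cons.2 ⟨H47.J2P.h_a8_ok, (okE_cons.2 ⟨H47.J2P.h_g14_ok, (okE_cons.2 ⟨H47.J2P.h_g10_ok, (okE_cons.2 ⟨H47.J2P.h_g11_ok, (okE_cons.2 ⟨H47.J2P.h_g21_ok, (okE_cons.2 ⟨H47.J2P.h_g22_ok, (okE_cons.2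 ⟨H47.J2P.h_g17_ok, (okE_cons.2 ⟨H47.J2P.h_g18_ok, (okE_cons.2 ⟨p_g1_ok, (okE_cons.2 ⟨p_g2_ok, (okE_cons.2 ⟨p_g5_ok, (okE_cons.2 ⟨p_g6_ok, (okE_cons.2 ⟨H47.J2P.h_g45_ok, (okE_cons.2 ⟨p_g11_ok, (okE_cons.2 ⟨H47.J2P.h_g53_ok, (okE_cons.2 ⟨H47.J2P.h_g50_ok, (okE_nil 100)⟩)⟩)⟩)⟩)⟩)⟩)⟩)⟩)⟩)⟩)⟩)⟩)⟩)⟩)⟩)⟩)⟩)⟩)⟩)⟩)⟩)⟩)⟩)

noncomputable def nt_c21_K : List Net := [p_g99, p_g70]

theorem nt_c21_K_ok : okE 100 nt_c21_K = true := (okE_cons.2 ⟨p_g99_ok, (okE_cons.2 ⟨p_g70_ok, (okE_nil 100)⟩)⟩)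

noncomputable def nt_c21_cnt_EG : List Net := [p_g5, p_g6, H47.J2P.h_g45, H47.J2P.h_a0, p_g11, H47.J2P.h_g53, p_g1, p_g2, MpJ2.a, H47.J2P.h_g1, H47.J2P.h_a19, H47.J2P.h_a27, H47.J2P.h_g7, H47.J2P.h_g4, H47.J2P.h_a8, H47.J2P.h_g14, H47.J2P.h_g10, H47.J2P.h_g11, H47.J2P.h_g21, H47.J2P.h_g22, H47.J2P.h_g17, H47.J2P.h_g18, p_g77, p_g76]

theorem nt_c21_cnt_EG_ok : okE 100 nt_c21_cnt_EG = true := (okE_cons.2 ⟨p_g5_ok, (okE_cons.2 ⟨p_g6_ok, (okE_cons.2 ⟨H47.J2P.h_g45_ok, (okE_cons.2 ⟨H47.J2P.h_a0_ok, (okE_cons.2 ⟨p_g11_ok, (okE_cons.2 ⟨H47.J2P.h_g53_ok, (okE_cons.2 ⟨p_g1_ok, (okE_cons.2 ⟨p_g2_ok, (okE_cons.2 ⟨MpJ2.a_ok, (okE_cons.2 ⟨H47.J2P.h_g1_ok, (okE_cons.2 ⟨H47.J2P.h_a19_ok, (okE_cons.2 ⟨H47.J2P.h_a27_ok, (okE_cons.2 ⟨H47.J2P.h_g7_ok, (okE_cons.2 ⟨H47.J2P.h_g4_ok, (okE_cons.2 ⟨H47.J2P.h_a8_ok, (okE_cons.2 ⟨H47.J2P.h_g14_ok, (okE_cons.2 ⟨H47.J2P.h_g10_ok, (okE_cons.2 ⟨H47.J2P.h_g11_ok,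 (okE_cons.2 ⟨H47.J2P.h_g21_ok, (okE_cons.2 ⟨H47.J2P.h_g22_ok, (okE_cons.2 ⟨H47.J2P.h_g17_ok, (okE_cons.2 ⟨H47.J2P.h_g18_ok, (okE_cons.2 ⟨p_g77_ok, (okE_cons.2 ⟨p_g76_ok, (okE_nil 100)⟩)⟩)⟩)⟩)⟩)⟩)⟩)⟩)⟩)⟩)⟩)⟩)⟩)⟩)⟩)⟩)⟩)⟩)⟩)⟩)⟩)⟩)⟩)⟩)

noncomputable def p_g174 : Net := (Net.cons (nat_lit 1) (nat_lit 0x1501401044541014504040140) (Net.cons (nat_lit 2) (nat_lit 0x1110102133323203002003020) (Net.cons (nat_lit 4) (nat_lit 0x7040804000c010d00090d09) (Net.cons (nat_lit 8) (nat_lit 0x90006200560010000f000a) (Net.cons (nat_lit 16) (nat_lit 0xc0ac00002a0e00000001) (Net.cons (nat_lit 32) (nat_lit 0x8000000001e203010) (Net.cons (nat_lit 64) (nat_lit 0xfffb4ff71) (Net.cons (nat_lit 32) (nat_lit 0x5000000008b78405a) (Net.cons (nat_lit 16) (nat_lit 0xb80000138d000083b9) (Net.cons (nat_lit 8) (nat_lit 0x74002400e9003c00080095) (Net.cons (nat_lit 4) (nat_lit 0x30007090c0c0c090d080b0f) (Net.cons (nat_lit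 2) (nat_lit 0x30213011123201120113230) (Net.cons (nat_lit 1) (nat_lit 0x4005000551055444540140554) Net.nil)))))))))))))

theorem p_g174_ok : Net.ok 100 p_g174 = true := by decide +kernel

noncomputable def p_g175 : Net := (Net.cons (nat_lit 1) (nat_lit 0x4004000001111040040514010) (Net.cons (nat_lit 2) (nat_lit 0x3020033223202202011021010) (Net.cons (nat_lit 4) (nat_lit 0x1020b0000080f0a070d0c00) (Net.cons (nat_lit 8) (nat_lit 0x70073002a002a00680000) (Net.cons (nat_lit 16) (nat_lit 0x84af00009c2200000000) (Net.cons (nat_lit 32) (nat_lit 0x808c0050) (Net.cons (nat_lit 64) (nat_lit 0x84ae3350) (Net.cons (nat_lit 32) (nat_lit 0xf0000000062ce7dfd) (Net.cons (nat_lit 16) (nat_lit 0x84af0000de8400007cb0) (Net.cons (nat_lit 8) (nat_lit 0x510027002e0029009a0035) (Net.cons (nat_lit 4) (nat_lit 0x50c0a0106080d090d0f080c) (Net.cons (nat_lit 2) (nat_lit 0x1133233022210302112213320) (Net.cons (nat_lit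 1) (nat_lit 0x1015504105445001554551044) Net.nil)))))))))))))

theorem p_g175_ok : Net.ok 100 p_g175 = true := by decide +kernel

noncomputable def nt_c22_K : List Net := [p_g174, p_g175]

theorem nt_c22_K_ok : okE 100 nt_c22_K = true := (okE_cons.2 ⟨p_g174_ok, (okE_cons.2 ⟨p_g175_ok, (okE_nil 100)⟩)⟩)

noncomputable def nt_c22_cnt_EG : List Net := [p_g26, p_g27, p_g28, p_g29, p_g1, p_g2, p_g5, p_g6, H47.J2P.h_g45, H47.J2P.h_a0, p_g11, H47.J2P.h_g53, MpJ2.a, H47.J2P.h_g1, H47.J2P.h_a19, H47.J2P.h_a27, H47.J2P.h_g7, H47.J2P.h_g4, H47.J2P.h_a8, H47.J2P.h_g14, H47.J2P.h_g10, H47.J2P.h_g11, H47.J2P.h_g21, H47.J2P.h_g22, H47.J2P.h_g17, H47.J2P.h_g18, p_g107, p_g106]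

theorem nt_c22_cnt_EG_ok : okE 100 nt_c22_cnt_EG = true := (okE_cons.2 ⟨p_g26_ok, (okE_cons.2 ⟨p_g27_ok, (okE_cons.2 ⟨p_g28_ok, (okE_cons.2 ⟨p_g29_ok, (okE_cons.2 ⟨p_g1_ok, (okE_cons.2 ⟨p_g2_ok, (okE_cons.2 ⟨p_g5_ok, (okE_cons.2 ⟨p_g6_ok, (okE_cons.2 ⟨H47.J2P.h_g45_ok, (okE_cons.2 ⟨H47.J2P.h_a0_ok, (okE_cons.2 ⟨p_g11_ok, (okE_cons.2 ⟨H47.J2P.h_g53_ok, (okE_cons.2 ⟨MpJ2.a_ok, (okE_cons.2 ⟨H47.J2P.h_g1_ok, (okE_cons.2 ⟨H47.J2P.h_a19_ok, (okE_cons.2 ⟨H47.J2P.h_a27_ok, (okE_cons.2 ⟨H47.J2P.h_g7_ok, (okE_cons.2 ⟨H47.J2P.h_g4_ok, (okE_cons.2 ⟨H47.J2P.h_a8_ok, (okE_cons.2 ⟨H47.J2P.h_g14_ok, (okE_cons.2 ⟨H47.J2P.h_g10_ok, (okE_cons.2 ⟨H47.J2P.h_g11_ok, (okE_cons.2 ⟨H47.J2P.h_g21_ok, (okE_cons.2 ⟨H47.J2P.h_g22_ok, (okE_cons.2 ⟨H47.J2P.h_g17_ok, (okE_cons.2 ⟨H47.J2P.h_g18_ok, (okE_cons.2 ⟨p_g107_ok, (okE_cons.2 ⟨p_g106_ok, (okE_nil 100)⟩)⟩)⟩)⟩)⟩)⟩)⟩)⟩)⟩)⟩)⟩)⟩)⟩)⟩)⟩)⟩)⟩)⟩)⟩)⟩)⟩)⟩)⟩)⟩)⟩)⟩)⟩)⟩)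

noncomputable def p_g177 : Net := (Net.cons (nat_lit 1) (nat_lit 0x4401100540410040105401440) (Net.cons (nat_lit 2) (nat_lit 0x2333120133022022200012000) (Net.cons (nat_lit 4) (nat_lit 0x10a0509030b09070004000a) (Net.cons (nat_lit 8) (nat_lit 0x5c00cb0044008f00940000) (Net.cons (nat_lit 16) (nat_lit 0xc62c00006d020000000f) (Net.cons (nat_lit 32) (nat_lit 0xe0000000060900400) (Net.cons (nat_lit 64) (nat_lit 0x1ff9f64ff) (Net.cons (nat_lit 32) (nat_lit 0xf000000006f5a10c4) (Net.cons (nat_lit 16) (nat_lit 0x60f00000138d00009f65) (Net.cons (nat_lit 8) (nat_lit 0xc2005700bd0068002c00cb) (Net.cons (nat_lit 4) (nat_lit 0xc03020c0809090c0d0d030d) (Net.cons (nat_lit 2) (nat_lit 0x3100121030130021132031031) (Net.cons (nat_lit 1) (nat_lit 0x5545505055001544501100040) Net.nil)))))))))))))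

theorem p_g177_ok : Net.ok 100 p_g177 = true := by decide +kernel

noncomputable def p_g178 : Net := (Net.cons (nat_lit 1) (nat_lit 0x1004045054440454440141450) (Net.cons (nat_lit 2) (nat_lit 0x2113021100312310201320) (Net.cons (nat_lit 4) (nat_lit 0x20506070c0c0e0701080408) (Net.cons (nat_lit 8) (nat_lit 0xb800e60045004200fb000c) (Net.cons (nat_lit 16) (nat_lit 0xe7710000490a0000000a) (Net.cons (nat_lit 32) (nat_lit 0x481801d0) (Net.cons (nat_lit 64) (nat_lit 0x5fffd39de) (Net.cons (nat_lit 32) (nat_lit 0xe000000000569a09e) (Net.cons (nat_lit 16) (nat_lit 0x9530000004dd0000bcf4) (Net.cons (nat_lit 8) (nat_lit 0xdf004e007300760082005e) (Net.cons (nat_lit 4) (nat_lit 0xf050e040e00040e0a000e0a) (Net.cons (nat_lit 2) (nat_lit 0x333302021003120102110332) (Net.cons (nat_lit 1) (nat_lit 0x504100451044045101050510) Net.nil)))))))))))))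

theorem p_g178_ok : Net.ok 100 p_g178 = true := by decide +kernel

noncomputable def nt_c23_K : List Net := [p_g177, p_g178]

theorem nt_c23_K_ok : okE 100 nt_c23_K = true := (okE_cons.2 ⟨p_g177_ok, (okE_cons.2 ⟨p_g178_ok, (okE_nil 100)⟩)⟩)

noncomputable def nt_c23_cnt_EG : List Net := [MpJ2.a, H47.J2P.h_g1, H47.J2P.h_a19, H47.J2P.h_a27, H47.J2P.h_g7, H47.J2P.h_a0, H47.J2P.h_g4, H47.J2P.h_a8, H47.J2P.h_g14, H47.J2P.h_g10, H47.J2P.h_g11, H47.J2P.h_g21, H47.J2P.h_g22, H47.J2P.h_g17, H47.J2P.h_g18, p_g1, p_g2, p_g5, p_g6, H47.J2P.h_g45, p_g11, H47.J2P.h_g53, p_g115, p_g45, p_g46, p_g44]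

theorem nt_c23_cnt_EG_ok : okE 100 nt_c23_cnt_EG = true := (okE_cons.2 ⟨MpJ2.a_ok, (okE_cons.2 ⟨H47.J2P.h_g1_ok, (okE_cons.2 ⟨H47.J2P.h_a19_ok, (okE_cons.2 ⟨H47.J2P.h_a27_ok, (okE_cons.2 ⟨H47.J2P.h_g7_ok, (okE_cons.2 ⟨H47.J2P.h_a0_ok, (okE_cons.2 ⟨H47.J2P.h_g4_ok, (okE_cons.2 ⟨H47.J2P.h_a8_ok, (okE_cons.2 ⟨H47.J2P.h_g14_ok, (okE_cons.2 ⟨H47.J2P.h_g10_ok, (okE_cons.2 ⟨H47.J2P.h_g11_ok, (okE_cons.2 ⟨H47.J2P.h_g21_ok, (okE_cons.2 ⟨H47.J2P.h_g22_ok, (okE_cons.2 ⟨H47.J2P.h_g17_ok, (okE_cons.2 ⟨H47.J2P.h_g18_ok, (okE_cons.2 ⟨p_g1_ok, (okE_cons.2 ⟨p_g2_ok, (okE_cons.2 ⟨p_g5_ok, (okE_cons.2 ⟨p_g6_ok, (okE_cons.2 ⟨H47.J2P.h_g45_ok, (okE_cons.2 ⟨p_g11_ok, (okE_cons.2 ⟨H47.J2P.h_g53_ok, (okE_cons.2 ⟨p_g115_ok, (okE_cons.2 ⟨p_g45_ok, (okE_cons.2 ⟨p_g46_ok, (okE_cons.2 ⟨p_g44_ok, (okE_nil 100)⟩)⟩)⟩)⟩)⟩)⟩)⟩)⟩)⟩)⟩)⟩)⟩)⟩)⟩)⟩)⟩)⟩)⟩)⟩)⟩)⟩)⟩)⟩)⟩)⟩)⟩)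

noncomputable def p_g180 : Net := (Net.cons (nat_lit 1) (nat_lit 0x4045145410005104451445010) (Net.cons (nat_lit 2) (nat_lit 0x1122021101200031020021010) (Net.cons (nat_lit 4) (nat_lit 0xa000d000906070906010906) (Net.cons (nat_lit 8) (nat_lit 0xa10025003400070000000b) (Net.cons (nat_lit 16) (nat_lit 0x61700000004e00000001) (Net.cons (nat_lit 32) (nat_lit 0x16978000) (Net.cons (nat_lit 64) (nat_lit 0xb76dfbf3f) (Net.cons (nat_lit 32) (nat_lit 0xc00000000a11f8765) (Net.cons (nat_lit 16) (nat_lit 0x8b310000ce380000ffa0) (Net.cons (nat_lit 8) (nat_lit 0xab00a20019004a00bb007a) (Net.cons (nat_lit 4) (nat_lit 0x70d0d040509070e0d050709) (Net.cons (nat_lit 2) (nat_lit 0x2331100323022301232011003) (Net.cons (nat_lit 1) (nat_lit 0x5014510555040445501444140) Net.nil)))))))))))))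

theorem p_g180_ok : Net.ok 100 p_g180 = true := by decide +kernel

noncomputable def p_g181 : Net := (Net.cons (nat_lit 1) (nat_lit 0x145150011400051045455114) (Net.cons (nat_lit 2) (nat_lit 0x2310010333200310332332010) (Net.cons (nat_lit 4) (nat_lit 0xf03090b0405080200090200) (Net.cons (nat_lit 8) (nat_lit 0xd8007d002e004000410002) (Net.cons (nat_lit 16) (nat_lit 0x31c00000a01800000007) (Net.cons (nat_lit 32) (nat_lit 0x500000000b4a84920) (Net.cons (nat_lit 64) (nat_lit 0x6b5aa5961) (Net.cons (nat_lit 32) (nat_lit 0x9000000007642231c) (Net.cons (nat_lit 16) (nat_lit 0xbcf40000f29f00006215) (Net.cons (nat_lit 8) (nat_lit 0x74002d00aa00c500260046) (Net.cons (nat_lit 4) (nat_lit 0xe0701050601030c00050405) (Net.cons (nat_lit 2) (nat_lit 0x232230322322332213022210) (Net.cons (nat_lit 1) (nat_lit 0x1145544440515055041154111) Net.nil)))))))))))))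

theorem p_g181_ok : Net.ok 100 p_g181 = true := by decide +kernel

noncomputable def nt_c24_K : List Net := [p_g180, p_g181]

theorem nt_c24_K_ok : okE 100 nt_c24_K = true := (okE_cons.2 ⟨p_g180_ok, (okE_cons.2 ⟨p_g181_ok, (okE_nil 100)⟩)⟩)

noncomputable def nt_c24_cnt_EG : List Net := [p_g106, p_g107, p_g26, p_g27, p_g28, p_g29, p_g1, p_g2, p_g5, p_g6, H47.J2P.h_g45, H47.J2P.h_a0, p_g11, H47.J2P.h_g53, MpJ2.a, H47.J2P.h_g1, H47.J2P.h_a19, H47.J2P.h_a27, H47.J2P.h_g7, H47.J2P.h_g4, H47.J2P.h_a8, H47.J2P.h_g14, H47.J2P.h_g10, H47.J2P.h_g11, H47.J2P.h_g21, H47.J2P.h_g22, H47.J2P.h_g17, H47.J2P.h_g18]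

theorem nt_c24_cnt_EG_ok : okE 100 nt_c24_cnt_EG = true := (okE_cons.2 ⟨p_g106_ok, (okE_cons.2 ⟨p_g107_ok, (okE_cons.2 ⟨p_g26_ok, (okE_cons.2 ⟨p_g27_ok, (okE_cons.2 ⟨p_g28_ok, (okE_cons.2 ⟨p_g29_ok, (okE_cons.2 ⟨p_g1_ok, (okE_cons.2 ⟨p_g2_ok, (okE_cons.2 ⟨p_g5_ok, (okE_cons.2 ⟨p_g6_ok, (okE_cons.2 ⟨H47.J2P.h_g45_ok, (okE_cons.2 ⟨H47.J2P.h_a0_ok, (okE_cons.2 ⟨p_g11_ok, (okE_cons.2 ⟨H47.J2P.h_g53_ok, (okE_cons.2 ⟨MpJ2.a_ok, (okE_cons.2 ⟨H47.J2P.h_g1_ok, (okE_cons.2 ⟨H47.J2P.h_a19_ok, (okE_cons.2 ⟨H47.J2P.h_a27_ok, (okE_cons.2 ⟨H47.J2P.h_g7_ok, (okE_cons.2 ⟨H47.J2P.h_g4_ok, (okE_cons.2 ⟨H47.J2P.h_a8_ok, (okE_cons.2 ⟨H47.J2P.h_g14_ok, (okE_cons.2 ⟨H47.J2P.h_g10_ok, (okE_cons.2 ⟨H47.J2P.h_g11_ok, (okE_cons.2 ⟨H47.J2P.h_g21_ok, (okE_cons.2 ⟨H47.J2P.h_g22_ok, (okE_cons.2 ⟨H47.J2P.h_g17_ok, (okE_cons.2 ⟨H47.J2P.h_g18_ok, (okE_nil 100)⟩)⟩)⟩)⟩)⟩)⟩)⟩)⟩)⟩)⟩)⟩)⟩)⟩)⟩)⟩)⟩)⟩)⟩)⟩)⟩)⟩)⟩)⟩)⟩)⟩)⟩)⟩)⟩)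

noncomputable def nt_c25_K : List Net := [p_g168, p_g18]

theorem nt_c25_K_ok : okE 100 nt_c25_K = true := (okE_cons.2 ⟨p_g168_ok, (okE_cons.2 ⟨p_g18_ok, (okE_nil 100)⟩)⟩)

noncomputable def p_V184 : List Net := [H47.J2P.h_a0]

theorem p_V184_ok : okE 100 p_V184 = true := (okE_cons.2 ⟨H47.J2P.h_a0_ok, (okE_nil 100)⟩)

noncomputable def p_V186 : List Net := []

theorem p_V186_ok : okE 100 p_V186 = true := (okE_nil 100)

noncomputable def nt_c25_cnt_EG : List Net := [MpJ2.a, H47.J2P.h_g1, H47.J2P.h_a19, H47.J2P.h_a27, H47.J2P.h_g7, H47.J2P.h_a0, H47.J2P.h_g4, H47.J2P.h_a8, H47.J2P.h_g14, H47.J2P.h_g10, H47.J2P.h_g11, H47.J2P.h_g21, H47.J2P.h_g22, H47.J2P.h_g17, H47.J2P.h_g18, p_g1, p_g2, p_g5, p_g6, H47.J2P.h_g45, p_g11, H47.J2P.h_g53]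

theorem nt_c25_cnt_EG_ok : okE 100 nt_c25_cnt_EG = true := (okE_cons.2 ⟨MpJ2.a_ok, (okE_cons.2 ⟨H47.J2P.h_g1_ok, (okE_cons.2 ⟨H47.J2P.h_a19_ok, (okE_cons.2 ⟨H47.J2P.h_a27_ok, (okE_cons.2 ⟨H47.J2P.h_g7_ok, (okE_cons.2 ⟨H47.J2P.h_a0_ok, (okE_cons.2 ⟨H47.J2P.h_g4_ok, (okE_cons.2 ⟨H47.J2P.h_a8_ok, (okE_cons.2 ⟨H47.J2P.h_g14_ok, (okE_cons.2 ⟨H47.J2P.h_g10_ok, (okE_cons.2 ⟨H47.J2P.h_g11_ok, (okE_cons.2 ⟨H47.J2P.h_g21_ok, (okE_cons.2 ⟨H47.J2P.h_g22_ok, (okE_cons.2 ⟨H47.J2P.h_g17_ok, (okE_cons.2 ⟨H47.J2P.h_g18_ok, (okE_cons.2 ⟨p_g1_ok, (okE_cons.2 ⟨p_g2_ok, (okE_cons.2 ⟨p_g5_ok, (okE_cons.2 ⟨p_g6_ok, (okE_cons.2 ⟨H47.J2P.h_g45_ok, (okE_cons.2 ⟨p_g11_ok, (okE_cons.2 ⟨H47.J2P.h_g53_ok, (okE_nil 100)⟩)⟩)⟩)⟩)⟩)⟩)⟩)⟩)⟩)⟩)⟩)⟩)⟩)⟩)⟩)⟩)⟩)⟩)⟩)⟩)⟩)⟩)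

noncomputable def p_g187 : Net := (Net.cons (nat_lit 1) (nat_lit 0x154044514154410115501410) (Net.cons (nat_lit 2) (nat_lit 0x100113202111200313100220) (Net.cons (nat_lit 4) (nat_lit 0xe0900080c0d0f050d090602) (Net.cons (nat_lit 8) (nat_lit 0x5600c000c1003b00100000) (Net.cons (nat_lit 16) (nat_lit 0xc6d4000008a40000000a) (Net.cons (nat_lit 32) (nat_lit 0x10000000008184030) (Net.cons (nat_lit 64) (nat_lit 0x36a5dc6ba) (Net.cons (nat_lit 32) (nat_lit 0xb0000000087e5653b) (Net.cons (nat_lit 16) (nat_lit 0xef400000fb990000a136) (Net.cons (nat_lit 8) (nat_lit 0xb9004100bb00c400c6002f) (Net.cons (nat_lit 4) (nat_lit 0xc0a0f000c0a0f040007090e) (Net.cons (nat_lit 2) (nat_lit 0x2313310221102232332231110) (Net.cons (nat_lit 1) (nat_lit 0x5014551055545154015554000) Net.nil)))))))))))))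

theorem p_g187_ok : Net.ok 100 p_g187 = true := by decide +kernel

noncomputable def nt_c26_K : List Net := [p_g187, p_g18]

theorem nt_c26_K_ok : okE 100 nt_c26_K = true := (okE_cons.2 ⟨p_g187_ok, (okE_cons.2 ⟨p_g18_ok, (okE_nil 100)⟩)⟩)

noncomputable def nt_c26_cnt_EG : List Net := [MpJ2.a, H47.J2P.h_g1, H47.J2P.h_a19, H47.J2P.h_a27, H47.J2P.h_g7, H47.J2P.h_a0, H47.J2P.h_g4, H47.J2P.h_a8, H47.J2P.h_g14, H47.J2P.h_g10, H47.J2P.h_g11, H47.J2P.h_g21, H47.J2P.h_g22, H47.J2P.h_g17, H47.J2P.h_g18, p_g1, p_g2, p_g5, p_g6, H47.J2P.h_g45, p_g11, H47.J2P.h_g53]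

theorem nt_c26_cnt_EG_ok : okE 100 nt_c26_cnt_EG = true := (okE_cons.2 ⟨MpJ2.a_ok, (okE_cons.2 ⟨H47.J2P.h_g1_ok, (okE_cons.2 ⟨H47.J2P.h_a19_ok, (okE_cons.2 ⟨H47.J2P.h_a27_ok, (okE_cons.2 ⟨H47.J2P.h_g7_ok, (okE_cons.2 ⟨H47.J2P.h_a0_ok, (okE_cons.2 ⟨H47.J2P.h_g4_ok, (okE_cons.2 ⟨H47.J2P.h_a8_ok, (okE_cons.2 ⟨H47.J2P.h_g14_ok, (okE_cons.2 ⟨H47.J2P.h_g10_ok, (okE_cons.2 ⟨H47.J2P.h_g11_ok, (okE_cons.2 ⟨H47.J2P.h_g21_ok, (okE_cons.2 ⟨H47.J2P.h_g22_ok, (okE_cons.2 ⟨H47.J2P.h_g17_ok, (okE_cons.2 ⟨H47.J2P.h_g18_ok, (okE_cons.2 ⟨p_g1_ok, (okE_cons.2 ⟨p_g2_ok, (okE_cons.2 ⟨p_g5_ok, (okE_cons.2 ⟨p_g6_ok, (okE_cons.2 ⟨H47.J2P.h_g45_ok, (okE_cons.2 ⟨p_g11_ok, (okE_cons.2 ⟨H47.J2P.h_g53_ok, (okE_nil 100)⟩)⟩)⟩)⟩)⟩)⟩)⟩)⟩)⟩)⟩)⟩)⟩)⟩)⟩)⟩)⟩)⟩)⟩)⟩)⟩)⟩)⟩)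

noncomputable def nt_nc26_25_cnt_EG : List Net := [MpJ2.a, H47.J2P.h_g1, H47.J2P.h_a19, H47.J2P.h_a27, H47.J2P.h_g7, H47.J2P.h_a0, H47.J2P.h_g4, H47.J2P.h_a8, H47.J2P.h_g14, H47.J2P.h_g10, H47.J2P.h_g11, H47.J2P.h_g21, H47.J2P.h_g22, H47.J2P.h_g17, H47.J2P.h_g18, p_g1, p_g2, p_g5, p_g6, H47.J2P.h_g45, p_g11, H47.J2P.h_g53]

theorem nt_nc26_25_cnt_EG_ok : okE 100 nt_nc26_25_cnt_EG = true := (okE_cons.2 ⟨MpJ2.a_ok, (okE_cons.2 ⟨H47.J2P.h_g1_ok, (okE_cons.2 ⟨H47.J2P.h_a19_ok, (okE_cons.2 ⟨H47.J2P.h_a27_ok, (okE_cons.2 ⟨H47.J2P.h_g7_ok, (okE_cons.2 ⟨H47.J2P.h_a0_ok, (okE_cons.2 ⟨H47.J2P.h_g4_ok, (okE_cons.2 ⟨H47.J2P.h_a8_ok, (okE_cons.2 ⟨H47.J2P.h_g14_ok, (okE_cons.2 ⟨H47.J2P.h_g10_ok, (okE_cons.2 ⟨H47.J2P.h_g11_ok, (okE_cons.2 ⟨H47.J2P.h_g21_ok, (okE_cons.2 ⟨H47.J2P.h_g22_ok, (okE_cons.2 ⟨H47.J2P.h_g17_ok, (okE_cons.2 ⟨H47.J2P.h_g18_ok, (okE_cons.2 ⟨p_g1_ok, (okE_cons.2 ⟨p_g2_ok, (okE_cons.2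 ⟨p_g5_ok, (okE_cons.2 ⟨p_g6_ok, (okE_cons.2 ⟨H47.J2P.h_g45_ok, (okE_cons.2 ⟨p_g11_ok, (okE_cons.2 ⟨H47.J2P.h_g53_ok, (okE_nil 100)⟩)⟩)⟩)⟩)⟩)⟩)⟩)⟩)⟩)⟩)⟩)⟩)⟩)⟩)⟩)⟩)⟩)⟩)⟩)⟩)⟩)⟩)

noncomputable def p_g189 : Net := (Net.cons (nat_lit 1) (nat_lit 0x141154005511454540040000) (Net.cons (nat_lit 2) (nat_lit 0x31020311231200130012200) (Net.cons (nat_lit 4) (nat_lit 0x90b0a0b0a070005020b0200) (Net.cons (nat_lit 8) (nat_lit 0xe500140088005000140002) (Net.cons (nat_lit 16) (nat_lit 0x12b0000612f00000002) (Net.cons (nat_lit 32) (nat_lit 0x5b12c80) (Net.cons (nat_lit 64) (nat_lit 0x25bb2cd4) (Net.cons (nat_lit 32) (nat_lit 0xb0000000065d52d8b) (Net.cons (nat_lit 16) (nat_lit 0xf32b0000116f00001008) (Net.cons (nat_lit 8) (nat_lit 0xe5003500c2003100740088) (Net.cons (nat_lit 4) (nat_lit 0x90b0a0b0a0d00050b0b0a08) (Net.cons (nat_lit 2) (nat_lit 0x2033020113213200130210202) (Net.cons (nat_lit 1) (nat_lit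 0x141154005511454540040000) Net.nil)))))))))))))

theorem p_g189_ok : Net.ok 100 p_g189 = true := by decide +kernel

noncomputable def p_g190 : Net := (Net.cons (nat_lit 1) (nat_lit 0x5044404051004140504004000) (Net.cons (nat_lit 2) (nat_lit 0x2132102330211030001211100) (Net.cons (nat_lit 4) (nat_lit 0xb0903040807020708020208) (Net.cons (nat_lit 8) (nat_lit 0x29000800e400d800910001) (Net.cons (nat_lit 16) (nat_lit 0x82040000861000000000) (Net.cons (nat_lit 32) (nat_lit 0x4000000000504ab30) (Net.cons (nat_lit 64) (nat_lit 0xc1f75bf70) (Net.cons (nat_lit 32) (nat_lit 0x700000000a5c7baa4) (Net.cons (nat_lit 16) (nat_lit 0x83d80000d61500000141) (Net.cons (nat_lit 8) (nat_lit 0x28001800e500db00900038) (Net.cons (nat_lit 4) (nat_lit 0xb0c02040d0602060902020d) (Net.cons (nat_lit 2) (nat_lit 0x2132102330211030001211320) (Net.cons (nat_lit 1) (nat_lit 0x5044404051004140504004000) Net.nil)))))))))))))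

theorem p_g190_ok : Net.ok 100 p_g190 = true := by decide +kernel

noncomputable def p_g191 : Net := (Net.cons (nat_lit 1) (nat_lit 0x4515510400550050001400040) (Net.cons (nat_lit 2) (nat_lit 0x133322000330031100000000) (Net.cons (nat_lit 4) (nat_lit 0x70b000d000404020b020000) (Net.cons (nat_lit 8) (nat_lit 0x33002b003a000100030000) (Net.cons (nat_lit 16) (nat_lit 0xc8220000000300000003) (Net.cons (nat_lit 32) (nat_lit 0x90000000033cffff0) (Net.cons (nat_lit 64) (nat_lit 0xc7bcffff3) (Net.cons (nat_lit 32) (nat_lit 0x60000000033cffff0) (Net.cons (nat_lit 16) (nat_lit 0x2c140000024300008003) (Net.cons (nat_lit 8) (nat_lit 0x3700b200a300d100230000) (Net.cons (nat_lit 4) (nat_lit 0x3040c0b0f0b02030b020008) (Net.cons (nat_lit 2) (nat_lit 0x323310100330032020100000) (Net.cons (nat_lit 1) (nat_lit 0x1455541000550050551400040) Net.nil)))))))))))))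

theorem p_g191_ok : Net.ok 100 p_g191 = true := by decide +kernel

noncomputable def ch1_Q : List Net := [p_g18, p_g189, p_g190, p_g143, p_g191]

theorem ch1_Q_ok : okE 100 ch1_Q = true := (okE_cons.2 ⟨p_g18_ok, (okE_cons.2 ⟨p_g189_ok, (okE_cons.2 ⟨p_g190_ok, (okE_cons.2 ⟨p_g143_ok, (okE_cons.2 ⟨p_g191_ok, (okE_nil 100)⟩)⟩)⟩)⟩)⟩)

noncomputable def p_V192 : List Net := [p_g189]

theorem p_V192_ok : okE 100 p_V192 = true := (okE_cons.2 ⟨p_g189_ok, (okE_nil 100)⟩)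

noncomputable def p_g194 : Net := (Net.cons (nat_lit 1) (nat_lit 0x5545514000550044445100004) (Net.cons (nat_lit 2) (nat_lit 0x1133323320102032120100100) (Net.cons (nat_lit 4) (nat_lit 0x90d04060a040407010f0001) (Net.cons (nat_lit 8) (nat_lit 0xc6006300d8006600d40008) (Net.cons (nat_lit 16) (nat_lit 0x2a00000a0c500000008) (Net.cons (nat_lit 32) (nat_lit 0x800000000d04960a0) (Net.cons (nat_lit 64) (nat_lit 0x7f2efe0ec) (Net.cons (nat_lit 32) (nat_lit 0xc00000000d10d60a4) (Net.cons (nat_lit 16) (nat_lit 0xdb20000aad500000c19) (Net.cons (nat_lit 8) (nat_lit 0xc4006100d8006600d60008) (Net.cons (nat_lit 4) (nat_lit 0xd0d04060a06010f050f0001) (Net.cons (nat_lit 2) (nat_lit 0x1133323320102032120100100) (Net.cons (nat_lit 1) (nat_lit 0x5545514000550044445100004) Net.nil)))))))))))))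

theorem p_g194_ok : Net.ok 100 p_g194 = true := by decide +kernel

noncomputable def p_g195 : Net := (Net.cons (nat_lit 1) (nat_lit 0x1455410540010010541540000) (Net.cons (nat_lit 2) (nat_lit 0x1132010103312021100102000) (Net.cons (nat_lit 4) (nat_lit 0x905060b08060000030c0a04) (Net.cons (nat_lit 8) (nat_lit 0xc2008b004200d000420006) (Net.cons (nat_lit 16) (nat_lit 0x40810000052500000000) (Net.cons (nat_lit 32) (nat_lit 0x34475ba0) (Net.cons (nat_lit 64) (nat_lit 0xabd575fa0) (Net.cons (nat_lit 32) (nat_lit 0x70000000017275faa) (Net.cons (nat_lit 16) (nat_lit 0x5817000018200000501b) (Net.cons (nat_lit 8) (nat_lit 0x1300ff00fd008f005e00a7) (Net.cons (nat_lit 4) (nat_lit 0x700090902070d0f090d0b00) (Net.cons (nat_lit 2) (nat_lit 0x1333132223002132203213230) (Net.cons (nat_lit 1) (nat_lit 0x5155005050050055401140004) Net.nil)))))))))))))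

theorem p_g195_ok : Net.ok 100 p_g195 = true := by decide +kernel

noncomputable def p_V196 : List Net := [p_g190, p_g194, p_g195]

theorem p_V196_ok : okE 100 p_V196 = true := (okE_cons.2 ⟨p_g190_ok, (okE_cons.2 ⟨p_g194_ok, (okE_cons.2 ⟨p_g195_ok, (okE_nil 100)⟩)⟩)⟩)

noncomputable def p_g198 : Net := (Net.cons (nat_lit 1) (nat_lit 0x1455551000000444111504040) (Net.cons (nat_lit 2) (nat_lit 0x1231200213223110132030100) (Net.cons (nat_lit 4) (nat_lit 0x409030b02020f0004010701) (Net.cons (nat_lit 8) (nat_lit 0x7900180043004500890000) (Net.cons (nat_lit 16) (nat_lit 0xa173000027ad00000004) (Net.cons (nat_lit 32) (nat_lit 0x20000000082342900) (Net.cons (nat_lit 64) (nat_lit 0xf9ff42919) (Net.cons (nat_lit 32) (nat_lit 0x7c116980) (Net.cons (nat_lit 16) (nat_lit 0xc96000002db100005495) (Net.cons (nat_lit 8) (nat_lit 0xaf0096009c00560050007c) (Net.cons (nat_lit 4) (nat_lit 0x40a080609050d0204010709)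 (Net.cons (nat_lit 2) (nat_lit 0x2222003302303232010330331) (Net.cons (nat_lit 1) (nat_lit 0x5014115511150445105504100) Net.nil)))))))))))))

theorem p_g198_ok : Net.ok 100 p_g198 = true := by decide +kernel

noncomputable def p_V199 : List Net := [p_g198, p_g191, p_g144]

theorem p_V199_ok : okE 100 p_V199 = true := (okE_cons.2 ⟨p_g198_ok, (okE_cons.2 ⟨p_g191_ok, (okE_cons.2 ⟨p_g144_ok, (okE_nil 100)⟩)⟩)⟩)

noncomputable def ch1_o_E2 : List Net := []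

theorem ch1_o_E2_ok : okE 100 ch1_o_E2 = true := (okE_nil 100)

noncomputable def ch1_o_G1 : List Net := [p_g198, p_g191, p_g144]

theorem ch1_o_G1_ok : okE 100 ch1_o_G1 = true := (okE_cons.2 ⟨p_g198_ok, (okE_cons.2 ⟨p_g191_ok, (okE_cons.2 ⟨p_g144_ok, (okE_nil 100)⟩)⟩)⟩)

noncomputable def ch1_o_E1 : List Net := [p_g198, p_g191, p_g144, p_g190, p_g194, p_g195]

theorem ch1_o_E1_ok : okE 100 ch1_o_E1 = true := (okE_cons.2 ⟨p_g198_ok, (okE_cons.2 ⟨p_g191_ok, (okE_cons.2 ⟨p_g144_ok, (okE_cons.2 ⟨p_g190_ok, (okE_cons.2 ⟨p_g194_ok, (okE_cons.2 ⟨p_g195_ok, (okE_nil 100)⟩)⟩)⟩)⟩)⟩)⟩)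

noncomputable def ch1_o_G0 : List Net := [p_g189, p_g198, p_g191, p_g144, p_g190, p_g194, p_g195]

theorem ch1_o_G0_ok : okE 100 ch1_o_G0 = true := (okE_cons.2 ⟨p_g189_ok, (okE_cons.2 ⟨p_g198_ok, (okE_cons.2 ⟨p_g191_ok, (okE_cons.2 ⟨p_g144_ok, (okE_cons.2 ⟨p_g190_ok, (okE_cons.2 ⟨p_g194_ok, (okE_cons.2 ⟨p_g195_ok, (okE_nil 100)⟩)⟩)⟩)⟩)⟩)⟩)⟩)

noncomputable def ch1_o_E0 : List Net := [p_g189, p_g18, p_g143, p_g198, p_g191, p_g144, p_g190, p_g194, p_g195]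

theorem ch1_o_E0_ok : okE 100 ch1_o_E0 = true := (okE_cons.2 ⟨p_g189_ok, (okE_cons.2 ⟨p_g18_ok, (okE_cons.2 ⟨p_g143_ok, (okE_cons.2 ⟨p_g198_ok, (okE_cons.2 ⟨p_g191_ok, (okE_cons.2 ⟨p_g144_ok, (okE_cons.2 ⟨p_g190_ok, (okE_cons.2 ⟨p_g194_ok, (okE_cons.2 ⟨p_g195_ok, (okE_nil 100)⟩)⟩)⟩)⟩)⟩)⟩)⟩)⟩)⟩)

noncomputable def p_g206 : Net := (Net.cons (nat_lit 1) (nat_lit 0x540450114045501440010544) (Net.cons (nat_lit 2) (nat_lit 0x2112021000131211302210010) (Net.cons (nat_lit 4) (nat_lit 0x5080501020802030d030804) (Net.cons (nat_lit 8) (nat_lit 0x430010008f006800ce0000) (Net.cons (nat_lit 16) (nat_lit 0x4e20000324100000006) (Net.cons (nat_lit 32) (nat_lit 0x40000000008921460) (Net.cons (nat_lit 64) (nat_lit 0x9389b14e6) (Net.cons (nat_lit 32) (nat_lit 0x6000000002e931424) (Net.cons (nat_lit 16) (nat_lit 0x4e20000981500008a7e) (Net.cons (nat_lit 8) (nat_lit 0xf0009500aa002200c000f2) (Net.cons (nat_lit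 4) (nat_lit 0x4030602020a0a02090b040c) (Net.cons (nat_lit 2) (nat_lit 0x1112221201112021120210313) (Net.cons (nat_lit 1) (nat_lit 0x1450441051055111404010041) Net.nil)))))))))))))

theorem p_g206_ok : Net.ok 100 p_g206 = true := by decide +kernel

noncomputable def p_g207 : Net := (Net.cons (nat_lit 1) (nat_lit 0x1101554154001105054440450) (Net.cons (nat_lit 2) (nat_lit 0x3020132111003230012130310) (Net.cons (nat_lit 4) (nat_lit 0xd080f040c080b020305040e) (Net.cons (nat_lit 8) (nat_lit 0x5008600d50051000c0004) (Net.cons (nat_lit 16) (nat_lit 0xd0d70000994d00000005) (Net.cons (nat_lit 32) (nat_lit 0xd00000000a2344a60) (Net.cons (nat_lit 64) (nat_lit 0xb6364bff) (Net.cons (nat_lit 32) (nat_lit 0xa00000000d01f8520) (Net.cons (nat_lit 16) (nat_lit 0xbf7d000092180000cfdf) (Net.cons (nat_lit 8) (nat_lit 0x68006a0077000100a10059) (Net.cons (nat_lit 4) (nat_lit 0xa0c070f06080b090e060605) (Net.cons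 (nat_lit 2) (nat_lit 0x1201113123132231103322302) (Net.cons (nat_lit 1) (nat_lit 0x4001004555105444505001145) Net.nil)))))))))))))

theorem p_g207_ok : Net.ok 100 p_g207 = true := by decide +kernel

noncomputable def p_g208 : Net := (Net.cons (nat_lit 1) (nat_lit 0x1451115014040441051040504) (Net.cons (nat_lit 2) (nat_lit 0x3211003221320202132030300) (Net.cons (nat_lit 4) (nat_lit 0x907010c08090006010200) (Net.cons (nat_lit 8) (nat_lit 0xc003c008300e00013000b) (Net.cons (nat_lit 16) (nat_lit 0xc6840000310000000004) (Net.cons (nat_lit 32) (nat_lit 0x400000000a2044df0) (Net.cons (nat_lit 64) (nat_lit 0xba2165dff) (Net.cons (nat_lit 32) (nat_lit 0x60000000050fb024b) (Net.cons (nat_lit 16) (nat_lit 0x55880000f05d0000ec35) (Net.cons (nat_lit 8) (nat_lit 0x1800f700900053008100e1) (Net.cons (nat_lit 4) (nat_lit 0x80d0b090204090a0c060d02) (Net.cons (nat_lit 2) (nat_lit 0x3211133023233022212303211)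 (Net.cons (nat_lit 1) (nat_lit 0x5001050400144004510000440) Net.nil)))))))))))))

theorem p_g208_ok : Net.ok 100 p_g208 = true := by decide +kernel

noncomputable def p_g209 : Net := (Net.cons (nat_lit 1) (nat_lit 0x4100010550145110111500000) (Net.cons (nat_lit 2) (nat_lit 0x112100000102221102211000) (Net.cons (nat_lit 4) (nat_lit 0x1010a0201020604080b0303) (Net.cons (nat_lit 8) (nat_lit 0xe00096000800e000000002) (Net.cons (nat_lit 16) (nat_lit 0x88d80000126000000004) (Net.cons (nat_lit 32) (nat_lit 0x12b2e450) (Net.cons (nat_lit 64) (nat_lit 0x99ffaff7f) (Net.cons (nat_lit 32) (nat_lit 0x60000000012d9ef21) (Net.cons (nat_lit 16) (nat_lit 0x92d6000008d60000822a) (Net.cons (nat_lit 8) (nat_lit 0x1900000080002b0014004d) (Net.cons (nat_lit 4) (nat_lit 0x80a090e0705050f020808) (Net.cons (nat_lit 2) (nat_lit 0x3121202220311232020122131) (Net.cons (nat_lit 1) (nat_lit 0x5141004005014105441445115)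 Net.nil)))))))))))))

theorem p_g209_ok : Net.ok 100 p_g209 = true := by decide +kernel

noncomputable def L3 : List Net := [p_g208, p_g209]

theorem L3_ok : okE 100 L3 = true := (okE_cons.2 ⟨p_g208_ok, (okE_cons.2 ⟨p_g209_ok, (okE_nil 100)⟩)⟩)

noncomputable def p_V210 : List Net := [p_g209]

theorem p_V210_ok : okE 100 p_V210 = true := (okE_cons.2 ⟨p_g209_ok, (okE_nil 100)⟩)

noncomputable def p_g212 : Net := (Net.cons (nat_lit 1) (nat_lit 0x40111055145144150554440) (Net.cons (nat_lit 2) (nat_lit 0x2101332023031230300011300) (Net.cons (nat_lit 4) (nat_lit 0x8060f0c0304040d06070804) (Net.cons (nat_lit 8) (nat_lit 0x4600f5009000020093000c) (Net.cons (nat_lit 16) (nat_lit 0x91850000120200000005) (Net.cons (nat_lit 32) (nat_lit 0x912ea400) (Net.cons (nat_lit 64) (nat_lit 0xd3aeec3f) (Net.cons (nat_lit 32) (nat_lit 0xf00000000c34549a2) (Net.cons (nat_lit 16) (nat_lit 0x6e5000005096000057b5)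 (Net.cons (nat_lit 8) (nat_lit 0x7500b900ff0037009500b4) (Net.cons (nat_lit 4) (nat_lit 0xc0c000e0c030c0003060606) (Net.cons (nat_lit 2) (nat_lit 0x2133222210033212100010022) (Net.cons (nat_lit 1) (nat_lit 0x4450005541011444010554440) Net.nil)))))))))))))

theorem p_g212_ok : Net.ok 100 p_g212 = true := by decide +kernel

noncomputable def p_V213 : List Net := [H47.J2P.h_a0, p_g212]

theorem p_V213_ok : okE 100 p_V213 = true := (okE_cons.2 ⟨H47.J2P.h_a0_ok, (okE_cons.2 ⟨p_g212_ok, (okE_nil 100)⟩)⟩)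

noncomputable def p_V215 : List Net := [H47.J2P.h_a0]

theorem p_V215_ok : okE 100 p_V215 = true := (okE_cons.2 ⟨H47.J2P.h_a0_ok, (okE_nil 100)⟩)

noncomputable def p_g217 : Net := (Net.cons (nat_lit 1) (nat_lit 0x4410104041410404110544400) (Net.cons (nat_lit 2) (nat_lit 0x2120022022021002210021200) (Net.cons (nat_lit 4) (nat_lit 0xe060d060005070b00060c04) (Net.cons (nat_lit 8) (nat_lit 0x5600220038001300110009) (Net.cons (nat_lit 16) (nat_lit 0x781e0000c04400000005) (Net.cons (nat_lit 32) (nat_lit 0x100000000a2811400) (Net.cons (nat_lit 64) (nat_lit 0xea6835c3f) (Net.cons (nat_lit 32) (nat_lit 0xf00000000e7fd938e) (Net.cons (nat_lit 16) (nat_lit 0x7c1e0000915100003505) (Net.cons (nat_lit 8) (nat_lit 0x52006b003c00260051000d) (Net.cons (nat_lit 4) (nat_lit 0xe070d060004060a00060c04) (Net.cons (nat_lit 2) (nat_lit 0x2120022023021013200031200) (Net.cons (nat_lit 1) (nat_lit 0x4410114051410404110544400)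 Net.nil)))))))))))))

theorem p_g217_ok : Net.ok 100 p_g217 = true := by decide +kernel

noncomputable def p_V218 : List Net := [p_g217, p_g217]

theorem p_V218_ok : okE 100 p_V218 = true := (okE_cons.2 ⟨p_g217_ok, (okE_cons.2 ⟨p_g217_ok, (okE_nil 100)⟩)⟩)

noncomputable def p_V220 : List Net := [p_g217]

theorem p_V220_ok : okE 100 p_V220 = true := (okE_cons.2 ⟨p_g217_ok, (okE_nil 100)⟩)

noncomputable def L3o_E3 : List Net := []

theorem L3o_E3_ok : okE 100 L3o_E3 = true := (okE_nil 100)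

noncomputable def L3o_G2 : List Net := [p_g217]

theorem L3o_G2_ok : okE 100 L3o_G2 = true := (okE_cons.2 ⟨p_g217_ok, (okE_nil 100)⟩)

noncomputable def L3o_E2 : List Net := [p_g217]

theorem L3o_E2_ok : okE 100 L3o_E2 = true := (okE_cons.2 ⟨p_g217_ok, (okE_nil 100)⟩)

noncomputable def L3o_G1 : List Net := [H47.J2P.h_a0, p_g217]

theorem L3o_G1_ok : okE 100 L3o_G1 = true := (okE_cons.2 ⟨H47.J2P.h_a0_ok, (okE_cons.2 ⟨p_g217_ok, (okE_nil 100)⟩)⟩)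

noncomputable def L3o_E1 : List Net := [H47.J2P.h_a0, p_g212, p_g217]

theorem L3o_E1_ok : okE 100 L3o_E1 = true := (okE_cons.2 ⟨H47.J2P.h_a0_ok, (okE_cons.2 ⟨p_g212_ok, (okE_cons.2 ⟨p_g217_ok, (okE_nil 100)⟩)⟩)⟩)

noncomputable def L3o_G0 : List Net := [p_g209, H47.J2P.h_a0, p_g212, p_g217]

theorem L3o_G0_ok : okE 100 L3o_G0 = true := (okE_cons.2 ⟨p_g209_ok, (okE_cons.2 ⟨H47.J2P.h_a0_ok, (okE_cons.2 ⟨p_g212_ok, (okE_cons.2 ⟨p_g217_ok, (okE_nil 100)⟩)⟩)⟩)⟩)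

noncomputable def L3o_E0 : List Net := [p_g209, p_g208, H47.J2P.h_a0, p_g212, p_g217]

theorem L3o_E0_ok : okE 100 L3o_E0 = true := (okE_cons.2 ⟨p_g209_ok, (okE_cons.2 ⟨p_g208_ok, (okE_cons.2 ⟨H47.J2P.h_a0_ok, (okE_cons.2 ⟨p_g212_ok, (okE_cons.2 ⟨p_g217_ok, (okE_nil 100)⟩)⟩)⟩)⟩)⟩)

theorem a3_hn : NOk 5 := by decide

theorem a3_hk : 5 ≤ 2 ^ 3 := by decide

noncomputable def a3_g1 : Net := (Net.cons (nat_lit 4) (nat_lit 1) (Net.cons (nat_lit 2) (nat_lit 1) Net.nil))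

theorem a3_g1_ok : Net.ok 5 a3_g1 = true := by decide +kernel

noncomputable def a3_g2 : Net := (Net.cons (nat_lit 1) (nat_lit 4) (Net.cons (nat_lit 2) (nat_lit 3) (Net.cons (nat_lit 4) (nat_lit 1) (Net.cons (nat_lit 1) (nat_lit 5) Net.nil))))

theorem a3_g2_ok : Net.ok 5 a3_g2 = true := by decide +kernel

noncomputable def A3_E : List Net := [a3_g1, a3_g2]

theorem A3_E_ok : okE 5 A3_E = true := (okE_cons.2 ⟨a3_g1_ok, (okE_cons.2 ⟨a3_g2_ok, (okE_nil 5)⟩)⟩)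

noncomputable def a3_g3 : Net := (Net.cons (nat_lit 1) (nat_lit 5) (Net.cons (nat_lit 2) (nat_lit 1) (Net.cons (nat_lit 4) (nat_lit 1) (Net.cons (nat_lit 1) (nat_lit 5) Net.nil))))

theorem a3_g3_ok : Net.ok 5 a3_g3 = true := by decide +kernel

noncomputable def a3_g4 : Net := (Net.cons (nat_lit 1) (nat_lit 4) (Net.cons (nat_lit 2) (nat_lit 3) (Net.cons (nat_lit 4) (nat_lit 1) (Net.cons (nat_lit 2) (nat_lit 1) (Net.cons (nat_lit 1) (nat_lit 4) Net.nil)))))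

theorem a3_g4_ok : Net.ok 5 a3_g4 = true := by decide +kernel

noncomputable def a3_V5 : List Net := [a3_g3, a3_g4]

theorem a3_V5_ok : okE 5 a3_V5 = true := (okE_cons.2 ⟨a3_g3_ok, (okE_cons.2 ⟨a3_g4_ok, (okE_nil 5)⟩)⟩)

noncomputable def a3_g7 : Net := (Net.cons (nat_lit 2) (nat_lit 1) (Net.cons (nat_lit 4) (nat_lit 1) (Net.cons (nat_lit 2) (nat_lit 1) (Net.cons (nat_lit 1) (nat_lit 4) Net.nil))))

theorem a3_g7_ok : Net.ok 5 a3_g7 = true := by decide +kernel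

noncomputable def a3_V8 : List Net := [a3_g7, a3_g7]

theorem a3_V8_ok : okE 5 a3_V8 = true := (okE_cons.2 ⟨a3_g7_ok, (okE_cons.2 ⟨a3_g7_ok, (okE_nil 5)⟩)⟩)

noncomputable def A3_lb_E : List Net := [a3_g1, a3_g2, a3_g3, a3_g4, a3_g7, a3_g7]

theorem A3_lb_E_ok : okE 5 A3_lb_E = true := (okE_cons.2 ⟨a3_g1_ok, (okE_cons.2 ⟨a3_g2_ok, (okE_cons.2 ⟨a3_g3_ok, (okE_cons.2 ⟨a3_g4_ok, (okE_cons.2 ⟨a3_g7_ok, (okE_cons.2 ⟨a3_g7_ok, (okE_nil 5)⟩)⟩)⟩)⟩)⟩)⟩)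

noncomputable def X3 : List Net := [p_g52, p_g208, p_g209]

theorem X3_ok : okE 100 X3 = true := (okE_cons.2 ⟨p_g52_ok, (okE_cons.2 ⟨p_g208_ok, (okE_cons.2 ⟨p_g209_ok, (okE_nil 100)⟩)⟩)⟩)

noncomputable def p_g230 : Net := (Net.cons (nat_lit 1) (nat_lit 0x5555404104000044440041140) (Net.cons (nat_lit 2) (nat_lit 0x330030000000001000103000) (Net.cons (nat_lit 4) (nat_lit 0xf0c02080807060602020e0b) (Net.cons (nat_lit 8) (nat_lit 0x72000b007f00c400f00002) (Net.cons (nat_lit 16) (nat_lit 0xf0430000405700000001) (Net.cons (nat_lit 32) (nat_lit 0x100000000b8004000) (Net.cons (nat_lit 64) (nat_lit 0x7bad04000) (Net.cons (nat_lit 32) (nat_lit 0xa00000000b852ad01) (Net.cons (nat_lit 16) (nat_lit 0xe9250000002e0000c47f) (Net.cons (nat_lit 8) (nat_lit 0x23001a002f0084008d00d6) (Net.cons (nat_lit 4) (nat_lit 0x30d070909070607030c070f) (Net.cons (nat_lit 2) (nat_lit 0x1332110021330321111120103)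 (Net.cons (nat_lit 1) (nat_lit 0x4045444504454511445514415) Net.nil)))))))))))))

theorem p_g230_ok : Net.ok 100 p_g230 = true := by decide +kernel

noncomputable def Y3 : List Net := [p_g230, p_g52]

theorem Y3_ok : okE 100 Y3 = true := (okE_cons.2 ⟨p_g230_ok, (okE_cons.2 ⟨p_g52_ok, (okE_nil 100)⟩)⟩)

noncomputable def Y3_cnt_EG : List Net := [p_g107, p_g106, p_g26, p_g27, p_g28, p_g29, p_g1, p_g2, p_g5, p_g6, H47.J2P.h_g45, H47.J2P.h_a0, p_g11, H47.J2P.h_g53, MpJ2.a, H47.J2P.h_g1, H47.J2P.h_a19, H47.J2P.h_a27, H47.J2P.h_g7, H47.J2P.h_g4, H47.J2P.h_a8, H47.J2P.h_g14, H47.J2P.h_g10, H47.J2P.h_g11, H47.J2P.h_g21, H47.J2P.h_g22, H47.J2P.h_g17, H47.J2P.h_g18]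

theorem Y3_cnt_EG_ok : okE 100 Y3_cnt_EG = true := (okE_cons.2 ⟨p_g107_ok, (okE_cons.2 ⟨p_g106_ok, (okE_cons.2 ⟨p_g26_ok, (okE_cons.2 ⟨p_g27_ok, (okE_cons.2 ⟨p_g28_ok, (okE_cons.2 ⟨p_g29_ok, (okE_cons.2 ⟨p_g1_ok, (okE_cons.2 ⟨p_g2_ok, (okE_cons.2 ⟨p_g5_ok, (okE_cons.2 ⟨p_g6_ok, (okE_cons.2 ⟨H47.J2P.h_g45_ok, (okE_cons.2 ⟨H47.J2P.h_a0_ok, (okE_cons.2 ⟨p_g11_ok, (okE_cons.2 ⟨H47.J2P.h_g53_ok, (okE_cons.2 ⟨MpJ2.a_ok, (okE_cons.2 ⟨H47.J2P.h_g1_ok, (okE_cons.2 ⟨H47.J2P.h_a19_ok, (okE_cons.2 ⟨H47.J2P.h_a27_ok, (okE_cons.2 ⟨H47.J2P.h_g7_ok, (okE_cons.2 ⟨H47.J2P.h_g4_ok, (okE_cons.2 ⟨H47.J2P.h_a8_ok, (okE_cons.2 ⟨H47.J2P.h_g14_ok, (okE_cons.2 ⟨H47.J2P.h_g10_ok, (okE_cons.2 ⟨H47.J2P.h_g11_ok, (okE_cons.2 ⟨H47.J2P.h_g21_ok, (okE_cons.2 ⟨H47.J2P.h_g22_ok, (okE_cons.2 ⟨H47.J2P.h_g17_ok, (okE_cons.2 ⟨H47.J2P.h_g18_ok, (okE_nil 100)⟩)⟩)⟩)⟩)⟩)⟩)⟩)⟩)⟩)⟩)⟩)⟩)⟩)⟩)⟩)⟩)⟩)⟩)⟩)⟩)⟩)⟩)⟩)⟩)⟩)⟩)⟩)⟩)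

noncomputable def p_g232 : Net := (Net.cons (nat_lit 1) (nat_lit 0x40411050144110400505000) (Net.cons (nat_lit 2) (nat_lit 0x122022000101213000201200) (Net.cons (nat_lit 4) (nat_lit 0x30a0a0a000c0d0802080000) (Net.cons (nat_lit 8) (nat_lit 0x200038003d00880000) (Net.cons (nat_lit 16) (nat_lit 0x29410000986800000000) (Net.cons (nat_lit 32) (nat_lit 0x50000000020a83880) (Net.cons (nat_lit 64) (nat_lit 0x52dedb8ba) (Net.cons (nat_lit 32) (nat_lit 0x500000000f8ab54e1) (Net.cons (nat_lit 16) (nat_lit 0x21e00000b0f900000a81) (Net.cons (nat_lit 8) (nat_lit 0x720000001c001f00880020) (Net.cons (nat_lit 4) (nat_lit 0x30a0a0a000c0d0802080100) (Net.cons (nat_lit 2) (nat_lit 0x122122200101213000211202) (Net.cons (nat_lit 1) (nat_lit 0x144411050144110400505000) Net.nil)))))))))))))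

theorem p_g232_ok : Net.ok 100 p_g232 = true := by decide +kernel

noncomputable def p_g233 : Net := (Net.cons (nat_lit 1) (nat_lit 0x50101140000011145014000) (Net.cons (nat_lit 2) (nat_lit 0x201201201003032100120200) (Net.cons (nat_lit 4) (nat_lit 0x50006080909000206010500) (Net.cons (nat_lit 8) (nat_lit 0x420064002f000600210000) (Net.cons (nat_lit 16) (nat_lit 0x52520000090000000000) (Net.cons (nat_lit 32) (nat_lit 0x90000000040311240) (Net.cons (nat_lit 64) (nat_lit 0x9487f36e0) (Net.cons (nat_lit 32) (nat_lit 0x9000000004d18a0e5) (Net.cons (nat_lit 16) (nat_lit 0x523300000fb800009fd6) (Net.cons (nat_lit 8) (nat_lit 0x990004002f002b005f00da) (Net.cons (nat_lit 4) (nat_lit 0x407060909090e0102030307) (Net.cons (nat_lit 2) (nat_lit 0x231201231000202113123032) (Net.cons (nat_lit 1) (nat_lit 0x105400415005544410541555) Net.nil)))))))))))))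

theorem p_g233_ok : Net.ok 100 p_g233 = true := by decide +kernel

noncomputable def lt3_c1_K : List Net := [p_g233, p_g232]

theorem lt3_c1_K_ok : okE 100 lt3_c1_K = true := (okE_cons.2 ⟨p_g233_ok, (okE_cons.2 ⟨p_g232_ok, (okE_nil 100)⟩)⟩)

noncomputable def p_V235 : List Net := [H47.J2P.h_a0, p_g212, p_g217]

theorem p_V235_ok : okE 100 p_V235 = true := (okE_cons.2 ⟨H47.J2P.h_a0_ok, (okE_cons.2 ⟨p_g212_ok, (okE_cons.2 ⟨p_g217_ok, (okE_nil 100)⟩)⟩)⟩)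

noncomputable def p_V236 : List Net := [p_g217]

theorem p_V236_ok : okE 100 p_V236 = true := (okE_cons.2 ⟨p_g217_ok, (okE_nil 100)⟩)

noncomputable def p_V237 : List Net := []

theorem p_V237_ok : okE 100 p_V237 = true := (okE_nil 100)

noncomputable def lt3_c1_cnt_EG : List Net := [p_g209, p_g208, H47.J2P.h_a0, p_g212, p_g217]

theorem lt3_c1_cnt_EG_ok : okE 100 lt3_c1_cnt_EG = true := (okE_cons.2 ⟨p_g209_ok, (okE_cons.2 ⟨p_g208_ok, (okE_cons.2 ⟨H47.J2P.h_a0_ok, (okE_cons.2 ⟨p_g212_ok, (okE_cons.2 ⟨p_g217_ok, (okE_nil 100)⟩)⟩)⟩)⟩)⟩)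

noncomputable def p_g238 : Net := (Net.cons (nat_lit 1) (nat_lit 0x5555545405440405550041150) (Net.cons (nat_lit 2) (nat_lit 0x3301030202010131023112120) (Net.cons (nat_lit 4) (nat_lit 0x6000a0f0600020e0800000d) (Net.cons (nat_lit 8) (nat_lit 0x8006100f8005600220000) (Net.cons (nat_lit 16) (nat_lit 0x7410000343300000001) (Net.cons (nat_lit 32) (nat_lit 0x4000000003a804590) (Net.cons (nat_lit 64) (nat_lit 0xbfabef7d5) (Net.cons (nat_lit 32) (nat_lit 0x800000000f2baf9d5) (Net.cons (nat_lit 16) (nat_lit 0x87c00000b9f00000f5d4) (Net.cons (nat_lit 8) (nat_lit 0x8500e2002c00b100f60045) (Net.cons (nat_lit 4) (nat_lit 0xb0a0b0a0600000d0d070201) (Net.cons (nat_lit 2) (nat_lit 0x1112132112123321223130103) (Net.cons (nat_lit 1) (nat_lit 0x4054405145045405101510541) Net.nil)))))))))))))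

theorem p_g238_ok : Net.ok 100 p_g238 = true := by decide +kernel

noncomputable def lt3_c2_K : List Net := [p_g238]

theorem lt3_c2_K_ok : okE 100 lt3_c2_K = true := (okE_cons.2 ⟨p_g238_ok, (okE_nil 100)⟩)

noncomputable def lt3_c2_cnt_EG : List Net := [p_g209, p_g208, H47.J2P.h_a0, p_g212, p_g217]

theorem lt3_c2_cnt_EG_ok : okE 100 lt3_c2_cnt_EG = true := (okE_cons.2 ⟨p_g209_ok, (okE_cons.2 ⟨p_g208_ok, (okE_cons.2 ⟨H47.J2P.h_a0_ok, (okE_cons.2 ⟨p_g212_ok, (okE_cons.2 ⟨p_g217_ok, (okE_nil 100)⟩)⟩)⟩)⟩)⟩)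

noncomputable def p_g240 : Net := (Net.cons (nat_lit 1) (nat_lit 0x5001050400144004510000440) (Net.cons (nat_lit 2) (nat_lit 0x1211311321031200030021030) (Net.cons (nat_lit 4) (nat_lit 0x30c0c0d09090207000b0100) (Net.cons (nat_lit 8) (nat_lit 0x7100c200a9008b00820008) (Net.cons (nat_lit 16) (nat_lit 0x29260000150600000000) (Net.cons (nat_lit 32) (nat_lit 0x10000000002900500) (Net.cons (nat_lit 64) (nat_lit 0xeafd11da7) (Net.cons (nat_lit 32) (nat_lit 0x80000000077ffcefe) (Net.cons (nat_lit 16) (nat_lit 0x552d00001fe500006283) (Net.cons (nat_lit 8) (nat_lit 0x7700750035007400c7008c) (Net.cons (nat_lit 4) (nat_lit 0xe0804070304040e0b00020d) (Net.cons (nat_lit 2) (nat_lit 0x333022121332311200212122) (Net.cons (nat_lit 1) (nat_lit 0x4441410411545414051040504) Net.nil)))))))))))))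

theorem p_g240_ok : Net.ok 100 p_g240 = true := by decide +kernel

noncomputable def lt3_c3_K : List Net := [p_g240]

theorem lt3_c3_K_ok : okE 100 lt3_c3_K = true := (okE_cons.2 ⟨p_g240_ok, (okE_nil 100)⟩)

noncomputable def lt3_c3_cnt_EG : List Net := [p_g209, p_g208, H47.J2P.h_a0, p_g212, p_g217]

theorem lt3_c3_cnt_EG_ok : okE 100 lt3_c3_cnt_EG = true := (okE_cons.2 ⟨p_g209_ok, (okE_cons.2 ⟨p_g208_ok, (okE_cons.2 ⟨H47.J2P.h_a0_ok, (okE_cons.2 ⟨p_g212_ok, (okE_cons.2 ⟨p_g217_ok, (okE_nil 100)⟩)⟩)⟩)⟩)⟩)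

noncomputable def p_g242 : Net := (Net.cons (nat_lit 1) (nat_lit 0x4100010550145110111500000) (Net.cons (nat_lit 2) (nat_lit 0x2303210300010312132102320) (Net.cons (nat_lit 4) (nat_lit 0x80b090e0e09050701010400) (Net.cons (nat_lit 8) (nat_lit 0x1f00410008004100180004) (Net.cons (nat_lit 16) (nat_lit 0x71500000d0b000000009) (Net.cons (nat_lit 32) (nat_lit 0x49d12c20) (Net.cons (nat_lit 64) (nat_lit 0xf7df9eebf) (Net.cons (nat_lit 32) (nat_lit 0xf000000005902aaf1) (Net.cons (nat_lit 16) (nat_lit 0x3631000030ec00002488) (Net.cons (nat_lit 8) (nat_lit 0x9900e800df006c005e0017) (Net.cons (nat_lit 4) (nat_lit 0xc0807060c0909030a0a0b0e) (Net.cons (nat_lit 2) (nat_lit 0x3120202113210313103010002) (Net.cons (nat_lit 1) (nat_lit 0x5545004115415105441445115) Net.nil)))))))))))))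

theorem p_g242_ok : Net.ok 100 p_g242 = true := by decide +kernel

noncomputable def lt3_c4_K : List Net := [p_g242]

theorem lt3_c4_K_ok : okE 100 lt3_c4_K = true := (okE_cons.2 ⟨p_g242_ok, (okE_nil 100)⟩)

noncomputable def lt3_c4_cnt_EG : List Net := [p_g209, p_g208, H47.J2P.h_a0, p_g212, p_g217]

theorem lt3_c4_cnt_EG_ok : okE 100 lt3_c4_cnt_EG = true := (okE_cons.2 ⟨p_g209_ok, (okE_cons.2 ⟨p_g208_ok, (okE_cons.2 ⟨H47.J2P.h_a0_ok, (okE_cons.2 ⟨p_g212_ok, (okE_cons.2 ⟨p_g217_ok, (okE_nil 100)⟩)⟩)⟩)⟩)⟩)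

noncomputable def lt3_nc4_3_cnt_EG : List Net := [p_g209, p_g208, H47.J2P.h_a0, p_g212, p_g217]

theorem lt3_nc4_3_cnt_EG_ok : okE 100 lt3_nc4_3_cnt_EG = true := (okE_cons.2 ⟨p_g209_ok, (okE_cons.2 ⟨p_g208_ok, (okE_cons.2 ⟨H47.J2P.h_a0_ok, (okE_cons.2 ⟨p_g212_ok, (okE_cons.2 ⟨p_g217_ok, (okE_nil 100)⟩)⟩)⟩)⟩)⟩)

noncomputable def p_g244 : Net := (Net.cons (nat_lit 1) (nat_lit 0x5441044505045551445515400) (Net.cons (nat_lit 2) (nat_lit 0x222210021032020120021000) (Net.cons (nat_lit 4) (nat_lit 0xd06010c0f06030d06000401) (Net.cons (nat_lit 8) (nat_lit 0xe400b900ee006e00a6000f) (Net.cons (nat_lit 16) (nat_lit 0xd1870000382900000001) (Net.cons (nat_lit 32) (nat_lit 0x6000000005f878020) (Net.cons (nat_lit 64) (nat_lit 0xfdfbfbef8) (Net.cons (nat_lit 32) (nat_lit 0x8000000008d7d34d5) (Net.cons (nat_lit 16) (nat_lit 0xa1260000347300007e02) (Net.cons (nat_lit 8) (nat_lit 0x6100df003d00e900c9007d)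 (Net.cons (nat_lit 4) (nat_lit 0xe0808080b0a020200090803) (Net.cons (nat_lit 2) (nat_lit 0x2100200220332023021012322) (Net.cons (nat_lit 1) (nat_lit 0x5151445054101050501541145) Net.nil)))))))))))))

theorem p_g244_ok : Net.ok 100 p_g244 = true := by decide +kernel

noncomputable def p_g245 : Net := (Net.cons (nat_lit 1) (nat_lit 0x4440411040011015450440000) (Net.cons (nat_lit 2) (nat_lit 0x2233123020231203203233200) (Net.cons (nat_lit 4) (nat_lit 0x60a05030f0d000a07080a0c) (Net.cons (nat_lit 8) (nat_lit 0x1400ce0053002c00140001) (Net.cons (nat_lit 16) (nat_lit 0x5be10000a4f30000000e) (Net.cons (nat_lit 32) (nat_lit 0xb00000000896c1b80) (Net.cons (nat_lit 64) (nat_lit 0x7896edbd8) (Net.cons (nat_lit 32) (nat_lit 0x400000000ed6b9230) (Net.cons (nat_lit 16) (nat_lit 0x1b230000e69300001206) (Net.cons (nat_lit 8) (nat_lit 0x8600c10082006800620000) (Net.cons (nat_lit 4) (nat_lit 0x20d0d0c0000030e020e0a0d)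 (Net.cons (nat_lit 2) (nat_lit 0x1010333033222012202233022) (Net.cons (nat_lit 1) (nat_lit 0x1444010404455401044444055) Net.nil)))))))))))))

theorem p_g245_ok : Net.ok 100 p_g245 = true := by decide +kernel

noncomputable def p_g246 : Net := (Net.cons (nat_lit 1) (nat_lit 0x1044015055105441545000040) (Net.cons (nat_lit 2) (nat_lit 0x1320020210330333033202130) (Net.cons (nat_lit 4) (nat_lit 0xe0c0c0602030a070107090c) (Net.cons (nat_lit 8) (nat_lit 0x1100c600e9002300040000) (Net.cons (nat_lit 16) (nat_lit 0x6f5b0000072b00000004) (Net.cons (nat_lit 32) (nat_lit 0xb00000000d00c6d60) (Net.cons (nat_lit 64) (nat_lit 0xbd6bced60) (Net.cons (nat_lit 32) (nat_lit 0x400000000cf2ea10f) (Net.cons (nat_lit 16) (nat_lit 0x17bf00005c030000626c) (Net.cons (nat_lit 8) (nat_lit 0x61006200c3001f003a008b) (Net.cons (nat_lit 4) (nat_lit 0x20a0d0d020b0000080f0702) (Net.cons (nat_lit 2) (nat_lit 0x2130111231010133101020132)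 (Net.cons (nat_lit 1) (nat_lit 0x1104545414555441415450144) Net.nil)))))))))))))

theorem p_g246_ok : Net.ok 100 p_g246 = true := by decide +kernel

noncomputable def L2 : List Net := [p_g245, p_g246]

theorem L2_ok : okE 100 L2 = true := (okE_cons.2 ⟨p_g245_ok, (okE_cons.2 ⟨p_g246_ok, (okE_nil 100)⟩)⟩)

noncomputable def p_V247 : List Net := [p_g245]

theorem p_V247_ok : okE 100 p_V247 = true := (okE_cons.2 ⟨p_g245_ok, (okE_nil 100)⟩)

noncomputable def p_g249 : Net := (Net.cons (nat_lit 1) (nat_lit 0x1041441110451540404555000) (Net.cons (nat_lit 2) (nat_lit 0x1022323231021220200011300) (Net.cons (nat_lit 4) (nat_lit 0x60c0d000f0405000b0b040c) (Net.cons (nat_lit 8) (nat_lit 0x500c9008c0005000a0006) (Net.cons (nat_lit 16) (nat_lit 0x50110000301200000008) (Net.cons (nat_lit 32) (nat_lit 0xc0000000006811410) (Net.cons (nat_lit 64) (nat_lit 0x39e97de1f) (Net.cons (nat_lit 32) (nat_lit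 0xc0000000046a13410) (Net.cons (nat_lit 16) (nat_lit 0xf17b0000301e000080ca) (Net.cons (nat_lit 8) (nat_lit 0x1500d9009c0027001b0016) (Net.cons (nat_lit 4) (nat_lit 0x60c0d000f0c07020b0b040c) (Net.cons (nat_lit 2) (nat_lit 0x1022323231021220200011300) (Net.cons (nat_lit 1) (nat_lit 0x1041441110451540404555000) Net.nil)))))))))))))

theorem p_g249_ok : Net.ok 100 p_g249 = true := by decide +kernel

noncomputable def p_g250 : Net := (Net.cons (nat_lit 1) (nat_lit 0x41045001455044415550440) (Net.cons (nat_lit 2) (nat_lit 0x1313031122230320113212200) (Net.cons (nat_lit 4) (nat_lit 0x60d040007010e0a090a00) (Net.cons (nat_lit 8) (nat_lit 0xb004200f200c600010000) (Net.cons (nat_lit 16) (nat_lit 0xf9320000844000000005) (Net.cons (nat_lit 32) (nat_lit 0x790a0400) (Net.cons (nat_lit 64) (nat_lit 0xf93f06cf) (Net.cons (nat_lit 32) (nat_lit 0xf00000000e14d5812) (Net.cons (nat_lit 16) (nat_lit 0x6c00000104200005342)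 (Net.cons (nat_lit 8) (nat_lit 0x7b00fe007f0026006e0050) (Net.cons (nat_lit 4) (nat_lit 0x705030f0e090307030601) (Net.cons (nat_lit 2) (nat_lit 0x3200132213221302130330313) (Net.cons (nat_lit 1) (nat_lit 0x4441450051455455005545545) Net.nil)))))))))))))

theorem p_g250_ok : Net.ok 100 p_g250 = true := by decide +kernel

noncomputable def p_V251 : List Net := [p_g249, p_g250]

theorem p_V251_ok : okE 100 p_V251 = true := (okE_cons.2 ⟨p_g249_ok, (okE_cons.2 ⟨p_g250_ok, (okE_nil 100)⟩)⟩)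

noncomputable def p_g253 : Net := (Net.cons (nat_lit 1) (nat_lit 0x1504110445000554110015004) (Net.cons (nat_lit 2) (nat_lit 0x3100200023101001210102000) (Net.cons (nat_lit 4) (nat_lit 0x40d03010104080e05050000) (Net.cons (nat_lit 8) (nat_lit 0x29007000e8009900400008) (Net.cons (nat_lit 16) (nat_lit 0x885000000a9500000001) (Net.cons (nat_lit 32) (nat_lit 0x400000000014881a0) (Net.cons (nat_lit 64) (nat_lit 0xa056989b4) (Net.cons (nat_lit 32) (nat_lit 0x500000000bf9cc1a1) (Net.cons (nat_lit 16) (nat_lit 0x7e960000ca5500005109) (Net.cons (nat_lit 8) (nat_lit 0xed00f00028005900d00008) (Net.cons (nat_lit 4) (nat_lit 0x907050504080e01050200) (Net.cons (nat_lit 2) (nat_lit 0x3100200023001101211113000) (Net.cons (nat_lit 1) (nat_lit 0x1504110445000554110015004) Net.nil)))))))))))))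

theorem p_g253_ok : Net.ok 100 p_g253 = true := by decide +kernel

noncomputable def p_g254 : Net := (Net.cons (nat_lit 1) (nat_lit 0x500504050115040051511400) (Net.cons (nat_lit 2) (nat_lit 0x2112230000210021122233010) (Net.cons (nat_lit 4) (nat_lit 0x7050a0e0202060e0201080c) (Net.cons (nat_lit 8) (nat_lit 0xa600040013001000940004) (Net.cons (nat_lit 16) (nat_lit 0xfc590000000200000004) (Net.cons (nat_lit 32) (nat_lit 0xe00000000430880a0) (Net.cons (nat_lit 64) (nat_lit 0x7b5a8ebe) (Net.cons (nat_lit 32) (nat_lit 0x70000000070e58ffa) (Net.cons (nat_lit 16) (nat_lit 0xb3e0000081d00000298a) (Net.cons (nat_lit 8) (nat_lit 0x3100c10034003600870056) (Net.cons (nat_lit 4) (nat_lit 0xe0d0706020b040e0d0e0e0c) (Net.cons (nat_lit 2) (nat_lit 0x303231133303122200001010) (Net.cons (nat_lit 1) (nat_lit 0x41504414550145145041544) Net.nil)))))))))))))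

theorem p_g254_ok : Net.ok 100 p_g254 = true := by decide +kernel

noncomputable def p_V255 : List Net := [p_g253, H47.J2P.h_g70, p_g254]

theorem p_V255_ok : okE 100 p_V255 = true := (okE_cons.2 ⟨p_g253_ok, (okE_cons.2 ⟨H47.J2P.h_g70_ok, (okE_cons.2 ⟨p_g254_ok, (okE_nil 100)⟩)⟩)⟩)

noncomputable def L2o_E2 : List Net := []

theorem L2o_E2_ok : okE 100 L2o_E2 = true := (okE_nil 100)

noncomputable def L2o_G1 : List Net := [p_g253, H47.J2P.h_g70, p_g254]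

theorem L2o_G1_ok : okE 100 L2o_G1 = true := (okE_cons.2 ⟨p_g253_ok, (okE_cons.2 ⟨H47.J2P.h_g70_ok, (okE_cons.2 ⟨p_g254_ok, (okE_nil 100)⟩)⟩)⟩)

noncomputable def L2o_E1 : List Net := [p_g253, H47.J2P.h_g70, p_g254, p_g249, p_g250]

theorem L2o_E1_ok : okE 100 L2o_E1 = true := (okE_cons.2 ⟨p_g253_ok, (okE_cons.2 ⟨H47.J2P.h_g70_ok, (okE_cons.2 ⟨p_g254_ok, (okE_cons.2 ⟨p_g249_ok, (okE_cons.2 ⟨p_g250_ok, (okE_nil 100)⟩)⟩)⟩)⟩)⟩)

noncomputable def L2o_G0 : List Net := [p_g245, p_g253, H47.J2P.h_g70, p_g254, p_g249, p_g250]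

theorem L2o_G0_ok : okE 100 L2o_G0 = true := (okE_cons.2 ⟨p_g245_ok, (okE_cons.2 ⟨p_g253_ok, (okE_cons.2 ⟨H47.J2P.h_g70_ok, (okE_cons.2 ⟨p_g254_ok, (okE_cons.2 ⟨p_g249_ok, (okE_cons.2 ⟨p_g250_ok, (okE_nil 100)⟩)⟩)⟩)⟩)⟩)⟩)

noncomputable def L2o_E0 : List Net := [p_g245, p_g246, p_g253, H47.J2P.h_g70, p_g254, p_g249, p_g250]

theorem L2o_E0_ok : okE 100 L2o_E0 = true := (okE_cons.2 ⟨p_g245_ok, (okE_cons.2 ⟨p_g246_ok, (okE_cons.2 ⟨p_g253_ok, (okE_cons.2 ⟨H47.J2P.h_g70_ok, (okE_cons.2 ⟨p_g254_ok, (okE_cons.2 ⟨p_g249_ok, (okE_cons.2 ⟨p_g250_ok, (okE_nil 100)⟩)⟩)⟩)⟩)⟩)⟩)⟩)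

theorem b2_hn : NOk 8 := by decide

theorem b2_hk : 8 ≤ 2 ^ 3 := by decide

noncomputable def b2_g1 : Net := (Net.cons (nat_lit 1) (nat_lit 16) (Net.cons (nat_lit 4) (nat_lit 7) (Net.cons (nat_lit 2) (nat_lit 50) (Net.cons (nat_lit 1) (nat_lit 81) Net.nil))))

theorem b2_g1_ok : Net.ok 8 b2_g1 = true := by decide +kernel

noncomputable def b2_g2 : Net := (Net.cons (nat_lit 1) (nat_lit 4) (Net.cons (nat_lit 2) (nat_lit 16) (Net.cons (nat_lit 4) (nat_lit 6) (Net.cons (nat_lit 2) (nat_lit 35) (Net.cons (nat_lit 1) (nat_lit 4) Net.nil)))))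

theorem b2_g2_ok : Net.ok 8 b2_g2 = true := by decide +kernel

noncomputable def B2_E : List Net := [b2_g1, b2_g2]

theorem B2_E_ok : okE 8 B2_E = true := (okE_cons.2 ⟨b2_g1_ok, (okE_cons.2 ⟨b2_g2_ok, (okE_nil 8)⟩)⟩)

noncomputable def b2_g3 : Net := (Net.cons (nat_lit 4) (nat_lit 14) (Net.cons (nat_lit 2) (nat_lit 48) (Net.cons (nat_lit 1) (nat_lit 4) Net.nil)))

theorem b2_g3_ok : Net.ok 8 b2_g3 = true := by decide +kernel

noncomputable def b2_g4 : Net := (Net.cons (nat_lit 1) (nat_lit 16) (Net.cons (nat_lit 2) (nat_lit 32) (Net.cons (nat_lit 4) (nat_lit 12) (Net.cons (nat_lit 2) (nat_lit 32) (Net.cons (nat_lit 1) (nat_lit 64) Net.nil)))))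

theorem b2_g4_ok : Net.ok 8 b2_g4 = true := by decide +kernel

noncomputable def b2_V5 : List Net := [b2_g3, b2_g4]

theorem b2_V5_ok : okE 8 b2_V5 = true := (okE_cons.2 ⟨b2_g3_ok, (okE_cons.2 ⟨b2_g4_ok, (okE_nil 8)⟩)⟩)

noncomputable def b2_g7 : Net := (Net.cons (nat_lit 1) (nat_lit 64) (Net.cons (nat_lit 2) (nat_lit 32) (Net.cons (nat_lit 4) (nat_lit 12) (Net.cons (nat_lit 2) (nat_lit 32) (Net.cons (nat_lit 1) (nat_lit 16) Net.nil)))))

theorem b2_g7_ok : Net.ok 8 b2_g7 = true := by decide +kernel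

noncomputable def b2_V8 : List Net := [b2_g7, b2_g7]

theorem b2_V8_ok : okE 8 b2_V8 = true := (okE_cons.2 ⟨b2_g7_ok, (okE_cons.2 ⟨b2_g7_ok, (okE_nil 8)⟩)⟩)

noncomputable def B2_lb_E : List Net := [b2_g1, b2_g2, b2_g3, b2_g4, b2_g7, b2_g7]

theorem B2_lb_E_ok : okE 8 B2_lb_E = true := (okE_cons.2 ⟨b2_g1_ok, (okE_cons.2 ⟨b2_g2_ok, (okE_cons.2 ⟨b2_g3_ok, (okE_cons.2 ⟨b2_g4_ok, (okE_cons.2 ⟨b2_g7_ok, (okE_cons.2 ⟨b2_g7_ok, (okE_nil 8)⟩)⟩)⟩)⟩)⟩)⟩)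

noncomputable def b2_V10 : List Net := [b2_g3, b2_g4, b2_g7, b2_g7]

theorem b2_V10_ok : okE 8 b2_V10 = true := (okE_cons.2 ⟨b2_g3_ok, (okE_cons.2 ⟨b2_g4_ok, (okE_cons.2 ⟨b2_g7_ok, (okE_cons.2 ⟨b2_g7_ok, (okE_nil 8)⟩)⟩)⟩)⟩)

noncomputable def Y2 : List Net := [p_g36]

theorem Y2_ok : okE 100 Y2 = true := (okE_cons.2 ⟨p_g36_ok, (okE_nil 100)⟩)

noncomputable def Y2_cnt_EG : List Net := [p_g1, p_g2, p_g5, p_g6, H47.J2P.h_g45, H47.J2P.h_a0, p_g11, H47.J2P.h_g53, MpJ2.a, H47.J2P.h_g1, H47.J2P.h_a19, H47.J2P.h_a27, H47.J2P.h_g7, H47.J2P.h_g4, H47.J2P.h_a8, H47.J2P.h_g14, H47.J2P.h_g10, H47.J2P.h_g11, H47.J2P.h_g21, H47.J2P.h_g22, H47.J2P.h_g17, H47.J2P.h_g18, p_g26, p_g27, p_g28, p_g29]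

theorem Y2_cnt_EG_ok : okE 100 Y2_cnt_EG = true := (okE_cons.2 ⟨p_g1_ok, (okE_cons.2 ⟨p_g2_ok, (okE_cons.2 ⟨p_g5_ok, (okE_cons.2 ⟨p_g6_ok, (okE_cons.2 ⟨H47.J2P.h_g45_ok, (okE_cons.2 ⟨H47.J2P.h_a0_ok, (okE_cons.2 ⟨p_g11_ok, (okE_cons.2 ⟨H47.J2P.h_g53_ok, (okE_cons.2 ⟨MpJ2.a_ok, (okE_cons.2 ⟨H47.J2P.h_g1_ok, (okE_cons.2 ⟨H47.J2P.h_a19_ok, (okE_cons.2 ⟨H47.J2P.h_a27_ok, (okE_cons.2 ⟨H47.J2P.h_g7_ok, (okE_cons.2 ⟨H47.J2P.h_g4_ok, (okE_cons.2 ⟨H47.J2P.h_a8_ok, (okE_cons.2 ⟨H47.J2P.h_g14_ok, (okE_cons.2 ⟨H47.J2P.h_g10_ok, (okE_cons.2 ⟨H47.J2P.h_g11_ok, (okE_cons.2 ⟨H47.J2P.h_g21_ok, (okE_cons.2 ⟨H47.J2P.h_g22_ok, (okE_cons.2 ⟨H47.J2P.h_g17_ok, (okE_cons.2 ⟨H47.J2P.h_g18_ok, (okE_cons.2 ⟨p_g26_ok, (okE_cons.2 ⟨p_g27_ok, (okE_cons.2 ⟨p_g28_ok, (okE_cons.2 ⟨p_g29_ok, (okE_nil 100)⟩)⟩)⟩)⟩)⟩)⟩)⟩)⟩)⟩)⟩)⟩)⟩)⟩)⟩)⟩)⟩)⟩)⟩)⟩)⟩)⟩)⟩)⟩)⟩)⟩)⟩)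

noncomputable def p_g264 : Net := (Net.cons (nat_lit 1) (nat_lit 0x5414005540110110000010040) (Net.cons (nat_lit 2) (nat_lit 0x1110022110321012000012000) (Net.cons (nat_lit 4) (nat_lit 0x90d0f070d0a040f0b070102) (Net.cons (nat_lit 8) (nat_lit 0x280040002f000f00050001) (Net.cons (nat_lit 16) (nat_lit 0x88580000a42a00000000) (Net.cons (nat_lit 32) (nat_lit 0x20010e20) (Net.cons (nat_lit 64) (nat_lit 0xcb77f2f2c) (Net.cons (nat_lit 32) (nat_lit 0xb0000000048a1eeda) (Net.cons (nat_lit 16) (nat_lit 0xe97c0000d50a00006125) (Net.cons (nat_lit 8) (nat_lit 0x2a0040002f000f00070001) (Net.cons (nat_lit 4) (nat_lit 0x90d0f070d0a040f0b070102) (Net.cons (nat_lit 2) (nat_lit 0x1310022132321012100032010) (Net.cons (nat_lit 1) (nat_lit 0x5414005540110110000010040) Net.nil)))))))))))))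

theorem p_g264_ok : Net.ok 100 p_g264 = true := by decide +kernel

noncomputable def p_g265 : Net := (Net.cons (nat_lit 1) (nat_lit 0x111040551051015550451150) (Net.cons (nat_lit 2) (nat_lit 0x1022010201230211003002330) (Net.cons (nat_lit 4) (nat_lit 0x70c0e040f0c080704050106) (Net.cons (nat_lit 8) (nat_lit 0x11009600ad00ee00100008) (Net.cons (nat_lit 16) (nat_lit 0xd4120000910e00000001) (Net.cons (nat_lit 32) (nat_lit 0xc00000000a0012000) (Net.cons (nat_lit 64) (nat_lit 0xdbea1ebb1) (Net.cons (nat_lit 32) (nat_lit 0x200000000bea16d17) (Net.cons (nat_lit 16) (nat_lit 0x883600001e5b0000ed55) (Net.cons (nat_lit 8) (nat_lit 0x3f006e005500f7007300eb) (Net.cons (nat_lit 4) (nat_lit 0x6060b060005090d010a0307) (Net.cons (nat_lit 2) (nat_lit 0x3032213312212312120200321) (Net.cons (nat_lit 1) (nat_lit 0x4045004454550115154500105) Net.nil)))))))))))))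

theorem p_g265_ok : Net.ok 100 p_g265 = true := by decide +kernel

noncomputable def p_g266 : Net := (Net.cons (nat_lit 1) (nat_lit 0x5505044015404105101554410) (Net.cons (nat_lit 2) (nat_lit 0x1300020101000002101210110) (Net.cons (nat_lit 4) (nat_lit 0x20c09030c000f0600000201) (Net.cons (nat_lit 8) (nat_lit 0x94006700cd007500010004) (Net.cons (nat_lit 16) (nat_lit 0x4040000040c000000004) (Net.cons (nat_lit 32) (nat_lit 0x708c3800) (Net.cons (nat_lit 64) (nat_lit 0xf7ffcffbf) (Net.cons (nat_lit 32) (nat_lit 0xf00000000780738cf) (Net.cons (nat_lit 16) (nat_lit 0x44d00000474000000494) (Net.cons (nat_lit 8) (nat_lit 0x9c006700c5007500090004) (Net.cons (nat_lit 4) (nat_lit 0x20c090b0c000f0e00000201) (Net.cons (nat_lit 2) (nat_lit 0x1300020101000002101210110) (Net.cons (nat_lit 1) (nat_lit 0x5505044015404105101554410) Net.nil)))))))))))))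

theorem p_g266_ok : Net.ok 100 p_g266 = true := by decide +kernel

noncomputable def lt2_c1_K : List Net := [p_g264, p_g265, p_g266]

theorem lt2_c1_K_ok : okE 100 lt2_c1_K = true := (okE_cons.2 ⟨p_g264_ok, (okE_cons.2 ⟨p_g265_ok, (okE_cons.2 ⟨p_g266_ok, (okE_nil 100)⟩)⟩)⟩)

noncomputable def p_V268 : List Net := [p_g253, H47.J2P.h_g70, p_g254, p_g249, p_g250]

theorem p_V268_ok : okE 100 p_V268 = true := (okE_cons.2 ⟨p_g253_ok, (okE_cons.2 ⟨H47.J2P.h_g70_ok, (okE_cons.2 ⟨p_g254_ok, (okE_cons.2 ⟨p_g249_ok, (okE_cons.2 ⟨p_g250_ok, (okE_nil 100)⟩)⟩)⟩)⟩)⟩)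

noncomputable def p_g269 : Net := (Net.cons (nat_lit 1) (nat_lit 0x4411041444104510511045104) (Net.cons (nat_lit 2) (nat_lit 0x3313021012002300332102100) (Net.cons (nat_lit 4) (nat_lit 0x60f0700040c010e050b08) (Net.cons (nat_lit 8) (nat_lit 0x800ed00cc001200200004) (Net.cons (nat_lit 16) (nat_lit 0xb490000083c40000000d) (Net.cons (nat_lit 32) (nat_lit 0xc0000000012ac6160) (Net.cons (nat_lit 64) (nat_lit 0x92ed67fc) (Net.cons (nat_lit 32) (nat_lit 0x9000000000494ae71) (Net.cons (nat_lit 16) (nat_lit 0xaab20000e69a0000a28e) (Net.cons (nat_lit 8) (nat_lit 0x5d00bd008c005e00d9000e) (Net.cons (nat_lit 4) (nat_lit 0x2070a0703020f0001060708) (Net.cons (nat_lit 2) (nat_lit 0x300002303333202331002300) (Net.cons (nat_lit 1) (nat_lit 0x4004155040440501145101105) Net.nil)))))))))))))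

theorem p_g269_ok : Net.ok 100 p_g269 = true := by decide +kernel

noncomputable def p_g270 : Net := (Net.cons (nat_lit 1) (nat_lit 0x1445441000144154400010500) (Net.cons (nat_lit 2) (nat_lit 0x1113032220323000331203000) (Net.cons (nat_lit 4) (nat_lit 0x10e000f050c0100080a0800) (Net.cons (nat_lit 8) (nat_lit 0xac0051001a006800090002) (Net.cons (nat_lit 16) (nat_lit 0x2a4b000061800000000f) (Net.cons (nat_lit 32) (nat_lit 0x83088800) (Net.cons (nat_lit 64) (nat_lit 0xfd7c8bf0f) (Net.cons (nat_lit 32) (nat_lit 0x50000000028becb15) (Net.cons (nat_lit 16) (nat_lit 0xa94b0000e2d00000031f) (Net.cons (nat_lit 8) (nat_lit 0x2c0071001a00e80089000a) (Net.cons (nat_lit 4) (nat_lit 0x10e010f050d0100080a0800) (Net.cons (nat_lit 2) (nat_lit 0x1113032220323000331203000) (Net.cons (nat_lit 1) (nat_lit 0x1445441000144154400010500) Net.nil)))))))))))))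

theorem p_g270_ok : Net.ok 100 p_g270 = true := by decide +kernel

noncomputable def p_V271 : List Net := [p_g269, p_g270, p_g249]

theorem p_V271_ok : okE 100 p_V271 = true := (okE_cons.2 ⟨p_g269_ok, (okE_cons.2 ⟨p_g270_ok, (okE_cons.2 ⟨p_g249_ok, (okE_nil 100)⟩)⟩)⟩)

noncomputable def p_V273 : List Net := [p_g270, p_g249]

theorem p_V273_ok : okE 100 p_V273 = true := (okE_cons.2 ⟨p_g270_ok, (okE_cons.2 ⟨p_g249_ok, (okE_nil 100)⟩)⟩)

noncomputable def p_V274 : List Net := []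

theorem p_V274_ok : okE 100 p_V274 = true := (okE_nil 100)

noncomputable def lt2_c1_cnt_EG : List Net := [p_g245, p_g246, p_g253, H47.J2P.h_g70, p_g254, p_g249, p_g250, p_g270, p_g269]

theorem lt2_c1_cnt_EG_ok : okE 100 lt2_c1_cnt_EG = true := (okE_cons.2 ⟨p_g245_ok, (okE_cons.2 ⟨p_g246_ok, (okE_cons.2 ⟨p_g253_ok, (okE_cons.2 ⟨H47.J2P.h_g70_ok, (okE_cons.2 ⟨p_g254_ok, (okE_cons.2 ⟨p_g249_ok, (okE_cons.2 ⟨p_g250_ok, (okE_cons.2 ⟨p_g270_ok, (okE_cons.2 ⟨p_g269_ok, (okE_nil 100)⟩)⟩)⟩)⟩)⟩)⟩)⟩)⟩)⟩)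

noncomputable def p_g275 : Net := (Net.cons (nat_lit 1) (nat_lit 0x1104554140041415415100140) (Net.cons (nat_lit 2) (nat_lit 0x3020222220031102220321130) (Net.cons (nat_lit 4) (nat_lit 0x40e0b070b040a0901050d06) (Net.cons (nat_lit 8) (nat_lit 0x4200bc005a005c00030009) (Net.cons (nat_lit 16) (nat_lit 0x68400001c1c00000003) (Net.cons (nat_lit 32) (nat_lit 0x800000000350000b0) (Net.cons (nat_lit 64) (nat_lit 0x7fff380bf) (Net.cons (nat_lit 32) (nat_lit 0xb00000000c2390ac0) (Net.cons (nat_lit 16) (nat_lit 0x108b000035230000a7d6) (Net.cons (nat_lit 8) (nat_lit 0xe00b200f8006d009c002c) (Net.cons (nat_lit 4) (nat_lit 0x501060a08020d05050f0b07) (Net.cons (nat_lit 2) (nat_lit 0x223331122320100001303300) (Net.cons (nat_lit 1) (nat_lit 0x4145415141404100445150145) Net.nil)))))))))))))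

theorem p_g275_ok : Net.ok 100 p_g275 = true := by decide +kernel

noncomputable def lt2_c2_K : List Net := [p_g275]

theorem lt2_c2_K_ok : okE 100 lt2_c2_K = true := (okE_cons.2 ⟨p_g275_ok, (okE_nil 100)⟩)

noncomputable def p_V277 : List Net := [p_g129, H47.J2P.h_g83]

theorem p_V277_ok : okE 100 p_V277 = true := (okE_cons.2 ⟨p_g129_ok, (okE_cons.2 ⟨H47.J2P.h_g83_ok, (okE_nil 100)⟩)⟩)

noncomputable def p_V279 : List Net := [H47.J2P.h_g83]

theorem p_V279_ok : okE 100 p_V279 = true := (okE_cons.2 ⟨H47.J2P.h_g83_ok, (okE_nil 100)⟩)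

noncomputable def p_V280 : List Net := []

theorem p_V280_ok : okE 100 p_V280 = true := (okE_nil 100)

noncomputable def lt2_c2_cnt_EG : List Net := [p_g245, p_g246, p_g253, H47.J2P.h_g70, p_g254, p_g249, p_g250, H47.J2P.h_g83, p_g129]

theorem lt2_c2_cnt_EG_ok : okE 100 lt2_c2_cnt_EG = true := (okE_cons.2 ⟨p_g245_ok, (okE_cons.2 ⟨p_g246_ok, (okE_cons.2 ⟨p_g253_ok, (okE_cons.2 ⟨H47.J2P.h_g70_ok, (okE_cons.2 ⟨p_g254_ok, (okE_cons.2 ⟨p_g249_ok, (okE_cons.2 ⟨p_g250_ok, (okE_cons.2 ⟨H47.J2P.h_g83_ok, (okE_cons.2 ⟨p_g129_ok, (okE_nil 100)⟩)⟩)⟩)⟩)⟩)⟩)⟩)⟩)⟩)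

noncomputable def lt2_c3_K : List Net := [p_g265]

theorem lt2_c3_K_ok : okE 100 lt2_c3_K = true := (okE_cons.2 ⟨p_g265_ok, (okE_nil 100)⟩)

noncomputable def p_g282 : Net := (Net.cons (nat_lit 1) (nat_lit 0x5445150100154555414150000) (Net.cons (nat_lit 2) (nat_lit 0x1102200110132311322320000) (Net.cons (nat_lit 4) (nat_lit 0x60403060a01070209080200) (Net.cons (nat_lit 8) (nat_lit 0x100d8009100ac00140000) (Net.cons (nat_lit 16) (nat_lit 0xa1180000000200000002) (Net.cons (nat_lit 32) (nat_lit 0xa402b50) (Net.cons (nat_lit 64) (nat_lit 0xf6b78fb5a) (Net.cons (nat_lit 32) (nat_lit 0x8000000001a572bc8) (Net.cons (nat_lit 16) (nat_lit 0xa5880000c43200000a12) (Net.cons (nat_lit 8) (nat_lit 0x100d8009100ac00940000) (Net.cons (nat_lit 4) (nat_lit 0x60403060a010702090c0200) (Net.cons (nat_lit 2) (nat_lit 0x1102200110132311322320000) (Net.cons (nat_lit 1) (nat_lit 0x5445150100154555414150000)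 Net.nil)))))))))))))

theorem p_g282_ok : Net.ok 100 p_g282 = true := by decide +kernel

noncomputable def p_V283 : List Net := [p_g282]

theorem p_V283_ok : okE 100 p_V283 = true := (okE_cons.2 ⟨p_g282_ok, (okE_nil 100)⟩)

noncomputable def p_V285 : List Net := []

theorem p_V285_ok : okE 100 p_V285 = true := (okE_nil 100)

noncomputable def lt2_c3_cnt_EG : List Net := [p_g253, H47.J2P.h_g70, p_g254, p_g249, p_g250, p_g245, p_g246, p_g282, p_g269, p_g270]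

theorem lt2_c3_cnt_EG_ok : okE 100 lt2_c3_cnt_EG = true := (okE_cons.2 ⟨p_g253_ok, (okE_cons.2 ⟨H47.J2P.h_g70_ok, (okE_cons.2 ⟨p_g254_ok, (okE_cons.2 ⟨p_g249_ok, (okE_cons.2 ⟨p_g250_ok, (okE_cons.2 ⟨p_g245_ok, (okE_cons.2 ⟨p_g246_ok, (okE_cons.2 ⟨p_g282_ok, (okE_cons.2 ⟨p_g269_ok, (okE_cons.2 ⟨p_g270_ok, (okE_nil 100)⟩)⟩)⟩)⟩)⟩)⟩)⟩)⟩)⟩)⟩)

noncomputable def p_g286 : Net := (Net.cons (nat_lit 1) (nat_lit 0x404414140550014451054540) (Net.cons (nat_lit 2) (nat_lit 0x121223023210320111011000) (Net.cons (nat_lit 4) (nat_lit 0x1090804060b070407010b01) (Net.cons (nat_lit 8) (nat_lit 0x5f0049002c0082006c000a) (Net.cons (nat_lit 16) (nat_lit 0x558f0000a90e00000008) (Net.cons (nat_lit 32) (nat_lit 0x700000000087101a0) (Net.cons (nat_lit 64) (nat_lit 0xa58772ff5) (Net.cons (nat_lit 32) (nat_lit 0x900000000d7ab2dc6) (Net.cons (nat_lit 16) (nat_lit 0x7fad0000b0ac00006cdc) (Net.cons (nat_lit 8) (nat_lit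 0xd800cb00a5004b00cc000d) (Net.cons (nat_lit 4) (nat_lit 0x3080c000d080a010a000f0e) (Net.cons (nat_lit 2) (nat_lit 0x2333302103101231211120111) (Net.cons (nat_lit 1) (nat_lit 0x401051054414101500151444) Net.nil)))))))))))))

theorem p_g286_ok : Net.ok 100 p_g286 = true := by decide +kernel

noncomputable def lt2_c4_K : List Net := [p_g286]

theorem lt2_c4_K_ok : okE 100 lt2_c4_K = true := (okE_cons.2 ⟨p_g286_ok, (okE_nil 100)⟩)

noncomputable def p_V288 : List Net := [p_g249]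

theorem p_V288_ok : okE 100 p_V288 = true := (okE_cons.2 ⟨p_g249_ok, (okE_nil 100)⟩)

noncomputable def p_V290 : List Net := []

theorem p_V290_ok : okE 100 p_V290 = true := (okE_nil 100)

noncomputable def lt2_c4_cnt_EG : List Net := [p_g245, p_g246, p_g253, H47.J2P.h_g70, p_g254, p_g249, p_g250]

theorem lt2_c4_cnt_EG_ok : okE 100 lt2_c4_cnt_EG = true := (okE_cons.2 ⟨p_g245_ok, (okE_cons.2 ⟨p_g246_ok, (okE_cons.2 ⟨p_g253_ok, (okE_cons.2 ⟨H47.J2P.h_g70_ok, (okE_cons.2 ⟨p_g254_ok, (okE_cons.2 ⟨p_g249_ok, (okE_cons.2 ⟨p_g250_ok, (okE_nil 100)⟩)⟩)⟩)⟩)⟩)⟩)⟩)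

noncomputable def p_g291 : Net := (Net.cons (nat_lit 1) (nat_lit 0x5001055050504415004550440) (Net.cons (nat_lit 2) (nat_lit 0x122003020103123233101030) (Net.cons (nat_lit 4) (nat_lit 0x6070601070d0b04040c0000) (Net.cons (nat_lit 8) (nat_lit 0xd100480016001500800002) (Net.cons (nat_lit 16) (nat_lit 0xd8c00000392a00000003) (Net.cons (nat_lit 32) (nat_lit 0x10000000041037a70) (Net.cons (nat_lit 64) (nat_lit 0xa6faffe73) (Net.cons (nat_lit 32) (nat_lit 0xd00000000039acd9a) (Net.cons (nat_lit 16) (nat_lit 0xd05100003f330000975b) (Net.cons (nat_lit 8) (nat_lit 0xbc0049005400d100450081) (Net.cons (nat_lit 4) (nat_lit 0xb02020c09060b0e0d0c0706) (Net.cons (nat_lit 2) (nat_lit 0x1133022231223232323220021) (Net.cons (nat_lit 1) (nat_lit 0x1440141540550401054550410) Net.nil)))))))))))))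

theorem p_g291_ok : Net.ok 100 p_g291 = true := by decide +kernel

noncomputable def lt2_c5_K : List Net := [p_g291]

theorem lt2_c5_K_ok : okE 100 lt2_c5_K = true := (okE_cons.2 ⟨p_g291_ok, (okE_nil 100)⟩)

noncomputable def lt2_c5_cnt_EG : List Net := [p_g245, p_g246, p_g253, H47.J2P.h_g70, p_g254, p_g249, p_g250]

theorem lt2_c5_cnt_EG_ok : okE 100 lt2_c5_cnt_EG = true := (okE_cons.2 ⟨p_g245_ok, (okE_cons.2 ⟨p_g246_ok, (okE_cons.2 ⟨p_g253_ok, (okE_cons.2 ⟨H47.J2P.h_g70_ok, (okE_cons.2 ⟨p_g254_ok, (okE_cons.2 ⟨p_g249_ok, (okE_cons.2 ⟨p_g250_ok, (okE_nil 100)⟩)⟩)⟩)⟩)⟩)⟩)⟩)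

noncomputable def lt2_nc5_4_cnt_EG : List Net := [p_g245, p_g246, p_g253, H47.J2P.h_g70, p_g254, p_g249, p_g250]

theorem lt2_nc5_4_cnt_EG_ok : okE 100 lt2_nc5_4_cnt_EG = true := (okE_cons.2 ⟨p_g245_ok, (okE_cons.2 ⟨p_g246_ok, (okE_cons.2 ⟨p_g253_ok, (okE_cons.2 ⟨H47.J2P.h_g70_ok, (okE_cons.2 ⟨p_g254_ok, (okE_cons.2 ⟨p_g249_ok, (okE_cons.2 ⟨p_g250_ok, (okE_nil 100)⟩)⟩)⟩)⟩)⟩)⟩)⟩)

noncomputable def p_g293 : Net := (Net.cons (nat_lit 1) (nat_lit 0x1401401111504041055010010) (Net.cons (nat_lit 2) (nat_lit 0x2233310220003231023212020) (Net.cons (nat_lit 4) (nat_lit 0xf0901050704040f0c020c08) (Net.cons (nat_lit 8) (nat_lit 0x9800c1008c00cc00610002) (Net.cons (nat_lit 16) (nat_lit 0x60c00000b01d00000000) (Net.cons (nat_lit 32) (nat_lit 0x33e84220) (Net.cons (nat_lit 64) (nat_lit 0xfbfff62e0) (Net.cons (nat_lit 32) (nat_lit 0x500000000abdd4220) (Net.cons (nat_lit 16) (nat_lit 0x1d7c00005ac400006916)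 (Net.cons (nat_lit 8) (nat_lit 0x88006900c200e5006a00d7) (Net.cons (nat_lit 4) (nat_lit 0xc03080b0c0e010c040f090a) (Net.cons (nat_lit 2) (nat_lit 0x321023112223021332003231) (Net.cons (nat_lit 1) (nat_lit 0x5515514450504041501550555) Net.nil)))))))))))))

theorem p_g293_ok : Net.ok 100 p_g293 = true := by decide +kernel

noncomputable def p_g294 : Net := (Net.cons (nat_lit 1) (nat_lit 0x501515010) (Net.cons (nat_lit 2) (nat_lit 0x3333000000300000211102000) (Net.cons (nat_lit 4) (nat_lit 0x2000e0f0d00000d0c000c00) (Net.cons (nat_lit 8) (nat_lit 0x2000f002200d000440000) (Net.cons (nat_lit 16) (nat_lit 0x8c020000400200000000) (Net.cons (nat_lit 32) (nat_lit 0x200000000920d4f00) (Net.cons (nat_lit 64) (nat_lit 0x2920d4f00) (Net.cons (nat_lit 32) (nat_lit 0xe00000000d20fdf00) (Net.cons (nat_lit 16) (nat_lit 0xafc300004f2f0000fb37) (Net.cons (nat_lit 8) (nat_lit 0xf000e002f00dd00940086) (Net.cons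 (nat_lit 4) (nat_lit 0x2000e0f0d00000d0b03070f) (Net.cons (nat_lit 2) (nat_lit 0x3333300003330333132201200) (Net.cons (nat_lit 1) (nat_lit 0x5544551515401055054040545) Net.nil)))))))))))))

theorem p_g294_ok : Net.ok 100 p_g294 = true := by decide +kernel

noncomputable def ES3 : List Net := [p_g52, p_g294]

theorem ES3_ok : okE 100 ES3 = true := (okE_cons.2 ⟨p_g52_ok, (okE_cons.2 ⟨p_g294_ok, (okE_nil 100)⟩)⟩)

noncomputable def p_g295 : Net := (Net.cons (nat_lit 1) (nat_lit 0x5440004051415404551500500) (Net.cons (nat_lit 2) (nat_lit 0x2230311022202220211001330) (Net.cons (nat_lit 4) (nat_lit 0x60e0e0c0e0104040800030d) (Net.cons (nat_lit 8) (nat_lit 0x5900d000bc002000140005) (Net.cons (nat_lit 16) (nat_lit 0x94610000d02800000008) (Net.cons (nat_lit 32) (nat_lit 0x300000000d26e0590) (Net.cons (nat_lit 64) (nat_lit 0xffe6f77bc) (Net.cons (nat_lit 32) (nat_lit 0x8d07d333) (Net.cons (nat_lit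 16) (nat_lit 0x8c930000ab6300000dc6) (Net.cons (nat_lit 8) (nat_lit 0x9c00a9005f001f00a10036) (Net.cons (nat_lit 4) (nat_lit 0x6040f0d0f07030b070e0c00) (Net.cons (nat_lit 2) (nat_lit 0x23133012301023232100303) (Net.cons (nat_lit 1) (nat_lit 0x10040145041411444045115) Net.nil)))))))))))))

theorem p_g295_ok : Net.ok 100 p_g295 = true := by decide +kernel

noncomputable def p_g296 : Net := (Net.cons (nat_lit 1) (nat_lit 0x5055501110001000000044500) (Net.cons (nat_lit 2) (nat_lit 0x3220211303000000110033300) (Net.cons (nat_lit 4) (nat_lit 0x20d0a02010700010001) (Net.cons (nat_lit 8) (nat_lit 0x4100fa002800c000460009) (Net.cons (nat_lit 16) (nat_lit 0xc850000022800000004) (Net.cons (nat_lit 32) (nat_lit 0xc000000009109c230) (Net.cons (nat_lit 64) (nat_lit 0xedf3fd2b1) (Net.cons (nat_lit 32) (nat_lit 0x10000000029090430) (Net.cons (nat_lit 16) (nat_lit 0xbcfe0000abdf0000e5ca) (Net.cons (nat_lit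 8) (nat_lit 0x7e00a8002500f700e4004b) (Net.cons (nat_lit 4) (nat_lit 0x20208010e01020c0e0b0e0f) (Net.cons (nat_lit 2) (nat_lit 0x111312031021123211211232) (Net.cons (nat_lit 1) (nat_lit 0x4151510100155555550044500) Net.nil)))))))))))))

theorem p_g296_ok : Net.ok 100 p_g296 = true := by decide +kernel

noncomputable def p_g297 : Net := (Net.cons (nat_lit 1) (nat_lit 0x5155000110005041140144000) (Net.cons (nat_lit 2) (nat_lit 0x230033301003031230213020) (Net.cons (nat_lit 4) (nat_lit 0xc090203070b090501060400) (Net.cons (nat_lit 8) (nat_lit 0x8e00070098000100240004) (Net.cons (nat_lit 16) (nat_lit 0x72140000121e00000008) (Net.cons (nat_lit 32) (nat_lit 0x318e03d0) (Net.cons (nat_lit 64) (nat_lit 0x83fff5ff8) (Net.cons (nat_lit 32) (nat_lit 0x700000000b38e81d0) (Net.cons (nat_lit 16) (nat_lit 0x64040000802e0000f65e) (Net.cons (nat_lit 8) (nat_lit 0xde0017008c001100740010) (Net.cons (nat_lit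 4) (nat_lit 0xc0f0203070b09050706000c) (Net.cons (nat_lit 2) (nat_lit 0x230033301023131231213030) (Net.cons (nat_lit 1) (nat_lit 0x5155000110005041140144000) Net.nil)))))))))))))

theorem p_g297_ok : Net.ok 100 p_g297 = true := by decide +kernel

noncomputable def cv3_K : List Net := [p_g295, p_g296, p_g297, H47.J2P.h_g130]

theorem cv3_K_ok : okE 100 cv3_K = true := (okE_cons.2 ⟨p_g295_ok, (okE_cons.2 ⟨p_g296_ok, (okE_cons.2 ⟨p_g297_ok, (okE_cons.2 ⟨H47.J2P.h_g130_ok, (okE_nil 100)⟩)⟩)⟩)⟩)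

noncomputable def cv3_cnt_EG : List Net := [MpJ2.a, H47.J2P.h_g1, H47.J2P.h_a19, H47.J2P.h_a27, H47.J2P.h_g7, H47.J2P.h_a0, H47.J2P.h_g4, H47.J2P.h_a8, H47.J2P.h_g14, H47.J2P.h_g10, H47.J2P.h_g11, H47.J2P.h_g21, H47.J2P.h_g22, H47.J2P.h_g17, H47.J2P.h_g18, p_g1, p_g2, p_g5, p_g6, H47.J2P.h_g45, p_g11, H47.J2P.h_g53, p_g26, p_g27, p_g28, p_g29]

theorem cv3_cnt_EG_ok : okE 100 cv3_cnt_EG = true := (okE_cons.2 ⟨MpJ2.a_ok, (okE_cons.2 ⟨H47.J2P.h_g1_ok, (okE_cons.2 ⟨H47.J2P.h_a19_ok, (okE_cons.2 ⟨H47.J2P.h_a27_ok, (okE_cons.2 ⟨H47.J2P.h_g7_ok, (okE_cons.2 ⟨H47.J2P.h_a0_ok, (okE_cons.2 ⟨H47.J2P.h_g4_ok, (okE_cons.2 ⟨H47.J2P.h_a8_ok, (okE_cons.2 ⟨H47.J2P.h_g14_ok, (okE_cons.2 ⟨H47.J2P.h_g10_ok, (okE_cons.2 ⟨H47.J2P.h_g11_ok, (okE_cons.2 ⟨H47.J2P.h_g21_ok, (okE_cons.2 ⟨H47.J2P.h_g22_ok, (okE_cons.2 ⟨H47.J2P.h_g17_ok, (okE_cons.2 ⟨H47.J2P.h_g18_ok, (okE_cons.2 ⟨p_g1_ok, (okE_cons.2 ⟨p_g2_ok,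 (okE_cons.2 ⟨p_g5_ok, (okE_cons.2 ⟨p_g6_ok, (okE_cons.2 ⟨H47.J2P.h_g45_ok, (okE_cons.2 ⟨p_g11_ok, (okE_cons.2 ⟨H47.J2P.h_g53_ok, (okE_cons.2 ⟨p_g26_ok, (okE_cons.2 ⟨p_g27_ok, (okE_cons.2 ⟨p_g28_ok, (okE_cons.2 ⟨p_g29_ok, (okE_nil 100)⟩)⟩)⟩)⟩)⟩)⟩)⟩)⟩)⟩)⟩)⟩)⟩)⟩)⟩)⟩)⟩)⟩)⟩)⟩)⟩)⟩)⟩)⟩)⟩)⟩)⟩)

noncomputable def p_g299 : Net := (Net.cons (nat_lit 1) (nat_lit 0x101010145500441545555104) (Net.cons (nat_lit 2) (nat_lit 0x231133010002113102222020) (Net.cons (nat_lit 4) (nat_lit 0xb06000e0d0c0107000e0b02) (Net.cons (nat_lit 8) (nat_lit 0xc00da0085001100f10000) (Net.cons (nat_lit 16) (nat_lit 0x2c0000040010000000a) (Net.cons (nat_lit 32) (nat_lit 0x5c393f00) (Net.cons (nat_lit 64) (nat_lit 0xfff3ffffc) (Net.cons (nat_lit 32) (nat_lit 0x2c05c0f) (Net.cons (nat_lit 16) (nat_lit 0xcf1d000087f90000ddf1) (Net.cons (nat_lit 8) (nat_lit 0x1e0005005a00bb00230061) (Net.cons (nat_lit 4) (nat_lit 0x10000010e040f0b0c030a03)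 (Net.cons (nat_lit 2) (nat_lit 0x101011131200001021102113) (Net.cons (nat_lit 1) (nat_lit 0x4450405145001540510515040) Net.nil)))))))))))))

theorem p_g299_ok : Net.ok 100 p_g299 = true := by decide +kernel

noncomputable def p_g300 : Net := (Net.cons (nat_lit 1) (nat_lit 0x1515511000104500505515014) (Net.cons (nat_lit 2) (nat_lit 0x1000130300220010200230300) (Net.cons (nat_lit 4) (nat_lit 0x4070f05050e0004020800) (Net.cons (nat_lit 8) (nat_lit 0x2500000004005100130008) (Net.cons (nat_lit 16) (nat_lit 0x92270000109a00000008) (Net.cons (nat_lit 32) (nat_lit 0x800000000034ed120) (Net.cons (nat_lit 64) (nat_lit 0x6034ed728) (Net.cons (nat_lit 32) (nat_lit 0x500000000c47f2ea0) (Net.cons (nat_lit 16) (nat_lit 0x398500001d7000007da6) (Net.cons (nat_lit 8) (nat_lit 0x460023007e00a60038000a) (Net.cons (nat_lit 4) (nat_lit 0x40f0f090b0102030a0f08) (Net.cons (nat_lit 2) (nat_lit 0x2233311332300330313012232)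 (Net.cons (nat_lit 1) (nat_lit 0x4455540400401555505515014) Net.nil)))))))))))))

theorem p_g300_ok : Net.ok 100 p_g300 = true := by decide +kernel

noncomputable def p_g301 : Net := (Net.cons (nat_lit 1) (nat_lit 0x1115555004144000000101040) (Net.cons (nat_lit 2) (nat_lit 0x1030013300300100311130000) (Net.cons (nat_lit 4) (nat_lit 0x705070e0104030e0b030000) (Net.cons (nat_lit 8) (nat_lit 0xdc00a000d50049000c000c) (Net.cons (nat_lit 16) (nat_lit 0x50e0000310100000000) (Net.cons (nat_lit 32) (nat_lit 0x518600a0) (Net.cons (nat_lit 64) (nat_lit 0xf558601ac) (Net.cons (nat_lit 32) (nat_lit 0x800000000b5bf96e8) (Net.cons (nat_lit 16) (nat_lit 0x415f0000f9410000fe16) (Net.cons (nat_lit 8) (nat_lit 0x9a00ec008100090018001c) (Net.cons (nat_lit 4) (nat_lit 0x701070a0300050e0d030604) (Net.cons (nat_lit 2) (nat_lit 0x1030013300300300313130020) (Net.cons (nat_lit 1) (nat_lit 0x1115555004144000000101040)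 Net.nil)))))))))))))

theorem p_g301_ok : Net.ok 100 p_g301 = true := by decide +kernel

noncomputable def p_g302 : Net := (Net.cons (nat_lit 1) (nat_lit 0x140001400000000501511040) (Net.cons (nat_lit 2) (nat_lit 0x1210011200000022013102000) (Net.cons (nat_lit 4) (nat_lit 0xa020c0f000202020f000100) (Net.cons (nat_lit 8) (nat_lit 0x4200fe00d200000004000b) (Net.cons (nat_lit 16) (nat_lit 0xb2420000040000000006) (Net.cons (nat_lit 32) (nat_lit 0x42d29f0) (Net.cons (nat_lit 64) (nat_lit 0xf0f6fbdff) (Net.cons (nat_lit 32) (nat_lit 0x300000000042d29f3) (Net.cons (nat_lit 16) (nat_lit 0xb2420000d60000002006) (Net.cons (nat_lit 8) (nat_lit 0x4200ff00d200010040000b) (Net.cons (nat_lit 4) (nat_lit 0xa02090f0f0202030b0c0104) (Net.cons (nat_lit 2) (nat_lit 0x1210311203333322013102000) (Net.cons (nat_lit 1) (nat_lit 0x150005400050541501511040) Net.nil)))))))))))))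

theorem p_g302_ok : Net.ok 100 p_g302 = true := by decide +kernel

noncomputable def cw3_K : List Net := [p_g299, p_g300, p_g301, p_g302]

theorem cw3_K_ok : okE 100 cw3_K = true := (okE_cons.2 ⟨p_g299_ok, (okE_cons.2 ⟨p_g300_ok, (okE_cons.2 ⟨p_g301_ok, (okE_cons.2 ⟨p_g302_ok, (okE_nil 100)⟩)⟩)⟩)⟩)

noncomputable def cw3_cnt_EG : List Net := [MpJ2.a, H47.J2P.h_g1, H47.J2P.h_a19, H47.J2P.h_a27, H47.J2P.h_g7, H47.J2P.h_a0, H47.J2P.h_g4, H47.J2P.h_a8, H47.J2P.h_g14, H47.J2P.h_g10, H47.J2P.h_g11, H47.J2P.h_g21, H47.J2P.h_g22, H47.J2P.h_g17, H47.J2P.h_g18, p_g1, p_g2, p_g5, p_g6, H47.J2P.h_g45, p_g11, H47.J2P.h_g53, p_g26, p_g27, p_g28, p_g29]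

theorem cw3_cnt_EG_ok : okE 100 cw3_cnt_EG = true := (okE_cons.2 ⟨MpJ2.a_ok, (okE_cons.2 ⟨H47.J2P.h_g1_ok, (okE_cons.2 ⟨H47.J2P.h_a19_ok, (okE_cons.2 ⟨H47.J2P.h_a27_ok, (okE_cons.2 ⟨H47.J2P.h_g7_ok, (okE_cons.2 ⟨H47.J2P.h_a0_ok, (okE_cons.2 ⟨H47.J2P.h_g4_ok, (okE_cons.2 ⟨H47.J2P.h_a8_ok, (okE_cons.2 ⟨H47.J2P.h_g14_ok, (okE_cons.2 ⟨H47.J2P.h_g10_ok, (okE_cons.2 ⟨H47.J2P.h_g11_ok, (okE_cons.2 ⟨H47.J2P.h_g21_ok, (okE_cons.2 ⟨H47.J2P.h_g22_ok, (okE_cons.2 ⟨H47.J2P.h_g17_ok, (okE_cons.2 ⟨H47.J2P.h_g18_ok, (okE_cons.2 ⟨p_g1_ok, (okE_cons.2 ⟨p_g2_ok, (okE_cons.2 ⟨p_g5_ok, (okE_cons.2 ⟨p_g6_ok, (okE_cons.2 ⟨H47.J2P.h_g45_ok, (okE_cons.2 ⟨p_g11_ok, (okE_cons.2 ⟨H47.J2P.h_g53_ok, (okE_cons.2 ⟨p_g26_ok, (okE_cons.2 ⟨p_g27_ok, (okE_cons.2 ⟨p_g28_ok, (okE_cons.2 ⟨p_g29_ok, (okE_nil 100)⟩)⟩)⟩)⟩)⟩)⟩)⟩)⟩)⟩)⟩)⟩)⟩)⟩)⟩)⟩)⟩)⟩)⟩)⟩)⟩)⟩)⟩)⟩)⟩)⟩)⟩)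

noncomputable def EU2 : List Net := [p_g36]

theorem EU2_ok : okE 100 EU2 = true := (okE_cons.2 ⟨p_g36_ok, (okE_nil 100)⟩)

noncomputable def u_G_X : List Net := [p_g36, H47.J2P.h_g1, H47.J2P.h_a19, H47.J2P.h_a27, H47.J2P.h_g7, H47.J2P.h_a0, H47.J2P.h_g4, H47.J2P.h_a8, H47.J2P.h_g14, H47.J2P.h_g10, H47.J2P.h_g11, H47.J2P.h_g21, H47.J2P.h_g22, H47.J2P.h_g17, H47.J2P.h_g18]

theorem u_G_X_ok : okE 100 u_G_X = true := (okE_cons.2 ⟨p_g36_ok, (okE_cons.2 ⟨H47.J2P.h_g1_ok, (okE_cons.2 ⟨H47.J2P.h_a19_ok, (okE_cons.2 ⟨H47.J2P.h_a27_ok, (okE_cons.2 ⟨H47.J2P.h_g7_ok, (okE_cons.2 ⟨H47.J2P.h_a0_ok, (okE_cons.2 ⟨H47.J2P.h_g4_ok, (okE_cons.2 ⟨H47.J2P.h_a8_ok, (okE_cons.2 ⟨H47.J2P.h_g14_ok, (okE_cons.2 ⟨H47.J2P.h_g10_ok, (okE_cons.2 ⟨H47.J2P.h_g11_ok, (okE_cons.2 ⟨H47.J2P.h_g21_ok, (okE_cons.2 ⟨H47.J2P.h_g22_ok, (okE_cons.2 ⟨H47.J2P.h_g17_ok, (okE_cons.2 ⟨H47.J2P.h_g18_ok, (okE_nil 100)⟩)⟩)⟩)⟩)⟩)⟩)⟩)⟩)⟩)⟩)⟩)⟩)⟩)⟩)⟩)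

noncomputable def p_g304 : Net := (Net.cons (nat_lit 1) (nat_lit 0x1040441004010000000150400) (Net.cons (nat_lit 2) (nat_lit 0x1022300000200002221020) (Net.cons (nat_lit 4) (nat_lit 0x30e060b0906090000080400) (Net.cons (nat_lit 8) (nat_lit 0x3003a009e000800980008) (Net.cons (nat_lit 16) (nat_lit 0x11d0000060d00000008) (Net.cons (nat_lit 32) (nat_lit 0x8f20000) (Net.cons (nat_lit 64) (nat_lit 0x508fa0700) (Net.cons (nat_lit 32) (nat_lit 0xd0000000098fa6700) (Net.cons (nat_lit 16) (nat_lit 0x6f020000670500009100) (Net.cons (nat_lit 8) (nat_lit 0x700980007000800970008) (Net.cons (nat_lit 4) (nat_lit 0x6000e000001090000070b08) (Net.cons (nat_lit 2) (nat_lit 0x1130112100210112123231330) (Net.cons (nat_lit 1) (nat_lit 0x5140151401411141410151144) Net.nil)))))))))))))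

theorem p_g304_ok : Net.ok 100 p_g304 = true := by decide +kernel

noncomputable def p_g305 : Net := (Net.cons (nat_lit 1) (nat_lit 0x1511011440451444540004104) (Net.cons (nat_lit 2) (nat_lit 0x3103312233222132213001000) (Net.cons (nat_lit 4) (nat_lit 0x906040c03090100060f0004) (Net.cons (nat_lit 8) (nat_lit 0xeb00ce002f008900240001) (Net.cons (nat_lit 16) (nat_lit 0x4b3d000060ac00000002) (Net.cons (nat_lit 32) (nat_lit 0x2206cf90) (Net.cons (nat_lit 64) (nat_lit 0xea2fedfd8) (Net.cons (nat_lit 32) (nat_lit 0x100000000c109cfb1) (Net.cons (nat_lit 16) (nat_lit 0xf12b00009f6200000e49) (Net.cons (nat_lit 8) (nat_lit 0x560063005400f000b60003) (Net.cons (nat_lit 4) (nat_lit 0xd0f0b090d030b06040f0f04) (Net.cons (nat_lit 2) (nat_lit 0x2113013220321112213003202) (Net.cons (nat_lit 1) (nat_lit 0x454540415144044400005504) Net.nil)))))))))))))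

theorem p_g305_ok : Net.ok 100 p_g305 = true := by decide +kernel

noncomputable def E3 : List Net := [p_g304, p_g305]

theorem E3_ok : okE 100 E3 = true := (okE_cons.2 ⟨p_g304_ok, (okE_cons.2 ⟨p_g305_ok, (okE_nil 100)⟩)⟩)

noncomputable def p_V306 : List Net := [p_g304, p_g304]

theorem p_V306_ok : okE 100 p_V306 = true := (okE_cons.2 ⟨p_g304_ok, (okE_cons.2 ⟨p_g304_ok, (okE_nil 100)⟩)⟩)

noncomputable def E3lb_E : List Net := [p_g304, p_g305, p_g304, p_g304]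

theorem E3lb_E_ok : okE 100 E3lb_E = true := (okE_cons.2 ⟨p_g304_ok, (okE_cons.2 ⟨p_g305_ok, (okE_cons.2 ⟨p_g304_ok, (okE_cons.2 ⟨p_g304_ok, (okE_nil 100)⟩)⟩)⟩)⟩)

noncomputable def p_g308 : Net := (Net.cons (nat_lit 1) (nat_lit 0x540550154044055551405410) (Net.cons (nat_lit 2) (nat_lit 0x10201103220131013023120) (Net.cons (nat_lit 4) (nat_lit 0xa0108020308040307050105) (Net.cons (nat_lit 8) (nat_lit 0x2800f900470028006c0000) (Net.cons (nat_lit 16) (nat_lit 0x567000000d1c00000005) (Net.cons (nat_lit 32) (nat_lit 0x80538000) (Net.cons (nat_lit 64) (nat_lit 0x6a47fd200) (Net.cons (nat_lit 32) (nat_lit 0x900000000f39c3cf0) (Net.cons (nat_lit 16) (nat_lit 0xa9800000c42300004f2a) (Net.cons (nat_lit 8) (nat_lit 0x31001900de00a100930070) (Net.cons (nat_lit 4) (nat_lit 0x50801040c01020c0e0a080a) (Net.cons (nat_lit 2) (nat_lit 0x3313231130223101310320123) (Net.cons (nat_lit 1) (nat_lit 0x5015005401511500004150145)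 Net.nil)))))))))))))

theorem p_g308_ok : Net.ok 100 p_g308 = true := by decide +kernel

theorem p_le4 : grp 100 p_V3 ≤ grp 100 EG :=
  grp_le_of_memB p_hn p_hk EG_ok p_V3_ok (ws := [nat_lit 0x91618080606031b0c02, nat_lit 0xa1d0e090c0502060204]) (by decide +kernel)

theorem p_le8 : grp 100 p_V7 ≤ grp 100 p_V3 :=
  grp_le_of_memB p_hn p_hk p_V3_ok p_V7_ok (ws := [nat_lit 0x3010103010302030103, nat_lit 0x3030202040101]) (by decide +kernel)

theorem p_le10 : grp 100 p_V9 ≤ grp 100 p_V7 :=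
  grp_le_of_memB p_hn p_hk p_V7_ok p_V9_ok (ws := [nat_lit 0x3010301030202, nat_lit 0x204040101040204]) (by decide +kernel)

theorem p_le13 : grp 100 p_V12 ≤ grp 100 p_V9 :=
  grp_le_of_memB p_hn p_hk p_V9_ok p_V12_ok (ws := [nat_lit 0x4040204020402, nat_lit 0x302040402]) (by decide +kernel)

theorem p_le15 : grp 100 p_V14 ≤ grp 100 p_V12 :=
  grp_le_of_memB p_hn p_hk p_V12_ok p_V14_ok (ws := [nat_lit 0x301040404, nat_lit 1028]) (by decide +kernel)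

theorem p_le17 : grp 100 p_V16 ≤ grp 100 p_V14 :=
  grp_le_of_memB p_hn p_hk p_V14_ok p_V16_ok (ws := [nat_lit 0x401010401, nat_lit 132100]) (by decide +kernel)

theorem lb_le : grp 100 lb_E ≤ grp 100 EG :=
  (grp_cons_le ((le_refl (grp 100 EG)) (toPerm_mem_grp (E := EG) (by simp [EG]))) (grp_cons_le ((le_refl (grp 100 EG)) (toPerm_mem_grp (E := EG) (by simp [EG]))) (grp_cons_le ((le_refl (grp 100 EG)) (toPerm_mem_grp (E := EG) (by simp [EG]))) (grp_cons_le ((le_refl (grp 100 EG)) (toPerm_mem_grp (E := EG) (by simp [EG]))) (grp_cons_le ((le_refl (grp 100 EG)) (toPerm_mem_grp (E := EG) (by simp [EG]))) (grp_cons_le ((le_refl (grp 100 EG)) (toPerm_mem_grp (E := EG) (by simp [EG]))) (grp_cons_le ((le_refl (grp 100 EG)) (toPerm_mem_grp (E := EG) (by simp [EG]))) (grp_cons_le ((le_refl (grp 100 EG)) (toPerm_mem_grp (E := EG) (by simp [EG]))) (grp_cons_le ((le_refl (grp 100 EG)) (toPerm_mem_grp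 (E := EG) (by simp [EG]))) (grp_cons_le ((le_refl (grp 100 EG)) (toPerm_mem_grp (E := EG) (by simp [EG]))) (grp_cons_le ((le_refl (grp 100 EG)) (toPerm_mem_grp (E := EG) (by simp [EG]))) (grp_cons_le ((le_refl (grp 100 EG)) (toPerm_mem_grp (E := EG) (by simp [EG]))) (grp_cons_le ((le_refl (grp 100 EG)) (toPerm_mem_grp (E := EG) (by simp [EG]))) (grp_cons_le ((le_refl (grp 100 EG)) (toPerm_mem_grp (E := EG) (by simp [EG]))) (grp_cons_le ((le_refl (grp 100 EG)) (toPerm_mem_grp (E := EG) (by simp [EG]))) (grp_cons_le ((p_le4.trans (le_refl (grp 100 EG))) (toPerm_mem_grp (E := p_V3) (by simp [p_V3]))) (grp_cons_le ((p_le4.trans (le_refl (grp 100 EG))) (toPerm_mem_grp (E := p_V3) (by simp [p_V3]))) (grp_cons_le ((p_le8.trans (p_le4.trans (le_refl (grp 100 EG)))) (toPerm_mem_grp (E := p_V7) (by simp [p_V7]))) (grp_cons_le ((p_le8.trans (p_le4.trans (le_refl (grp 100 EG)))) (toPerm_mem_grp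 (E := p_V7) (by simp [p_V7]))) (grp_cons_le ((p_le10.trans (p_le8.trans (p_le4.trans (le_refl (grp 100 EG))))) (toPerm_mem_grp (E := p_V9) (by simp [p_V9]))) (grp_cons_le ((p_le10.trans (p_le8.trans (p_le4.trans (le_refl (grp 100 EG))))) (toPerm_mem_grp (E := p_V9) (by simp [p_V9]))) (grp_cons_le ((p_le13.trans (p_le10.trans (p_le8.trans (p_le4.trans (le_refl (grp 100 EG)))))) (toPerm_mem_grp (E := p_V12) (by simp [p_V12]))) (grp_cons_le ((p_le13.trans (p_le10.trans (p_le8.trans (p_le4.trans (le_refl (grp 100 EG)))))) (toPerm_mem_grp (E := p_V12) (by simp [p_V12]))) (grp_cons_le ((p_le15.trans (p_le13.trans (p_le10.trans (p_le8.trans (p_le4.trans (le_refl (grp 100 EG))))))) (toPerm_mem_grp (E := p_V14) (by simp [p_V14]))) (grp_cons_le ((p_le15.trans (p_le13.trans (p_le10.trans (p_le8.trans (p_le4.trans (le_refl (grp 100 EG))))))) (toPerm_mem_grp (E := p_V14) (by simp [p_V14]))) (grp_cons_le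 ((p_le17.trans (p_le15.trans (p_le13.trans (p_le10.trans (p_le8.trans (p_le4.trans (le_refl (grp 100 EG)))))))) (toPerm_mem_grp (E := p_V16) (by simp [p_V16]))) (grp_cons_le ((p_le17.trans (p_le15.trans (p_le13.trans (p_le10.trans (p_le8.trans (p_le4.trans (le_refl (grp 100 EG)))))))) (toPerm_mem_grp (E := p_V16) (by simp [p_V16]))) (grp_nil_le _))))))))))))))))))))))))))))

noncomputable def lb_ch : Ch := (Ch.cons (nat_lit 0) [nat_lit 1, nat_lit 3, nat_lit 5, nat_lit 7, nat_lit 9, nat_lit 11, nat_lit 13, nat_lit 15, nat_lit 17, nat_lit 19, nat_lit 21, nat_lit 23, nat_lit 25, nat_lit 27, nat_lit 29] (Ch.cons (nat_lit 2) [nat_lit 31, nat_lit 33] (Ch.cons (nat_lit 3) [nat_lit 35, nat_lit 37] (Ch.cons (nat_lit 15) [nat_lit 39, nat_lit 41] (Ch.cons (nat_lit 1) [nat_lit 43, nat_lit 45] (Ch.cons (nat_lit 4) [nat_lit 47, nat_lit 49] (Ch.cons (nat_lit 8) [nat_lit 51, nat_lit 53] Ch.nil)))))))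

theorem lb_chk : Ch.chk 100 7 (lab 100 7) lb_E lb_ch 1209600 = true :=
  by decide +kernel

theorem lb_ge : 1209600 ≤ Nat.card (grp 100 EG) :=
  (Ch.le_card_grp p_hn lb_E_ok lb_chk).trans (Subgroup.card_le_of_le lb_le)

theorem eq_lb : grp 100 EG = grp 100 lb_E :=
  le_antisymm (grp_mono (List.subset_append_left EG [p_g1, p_g2, p_g5, p_g6, H47.J2P.h_g45, H47.J2P.h_a0, H47.J2P.h_a0, p_g11, H47.J2P.h_a0, H47.J2P.h_g53, H47.J2P.h_a0, H47.J2P.h_a0])) lb_le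

theorem G_le : (grp 100 H47.J2P.h_E0) ≤ grp 100 EG :=
  grp_mono (List.subset_cons_self MpJ2.a H47.J2P.h_E0)

theorem nrm : grp 100 EG ≤ Subgroup.normalizer ((grp 100 H47.J2P.h_E0) : Set (Equiv.Perm (Fin 100))) :=
  grp_cons_le MpJ2.a_norm Subgroup.le_normalizer

theorem card_aut : Nat.card (MulAut (grp 100 H47.J2P.h_E0)) = 1209600 :=
  by
  rw [card_aut_eq (EvG.center_eq_bot fun _ _ h => MpJ2.one.eq_one h),
    (H42.card_Out_congr H47.eH0).symm.trans S2066.result, H47.J2P.h_card0]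

theorem amb : EvG.Amb (grp 100 H47.J2P.h_E0) (grp 100 EG) :=
  EvG.Amb.of_card G_le nrm (fun _ _ h => MpJ2.one.eq_one h) (card_aut.le.trans lb_ge)

theorem card_N : Nat.card (grp 100 EG) = 1209600 :=
  amb.card.trans card_aut

theorem T_s0 : Stab 100 (grp 100 EG) [] lb_E 1209600 :=
  Stab.root' lb_E_ok eq_lb card_N

theorem p_le24 : grp 100 nt_c1_K ≤ grp 100 lb_E :=
  grp_le_of_memB p_hn p_hk lb_E_ok nt_c1_K_ok (ws := [nat_lit 0x31272022250525, nat_lit 0x3331272926231f220709, nat_lit 0x2729260503, nat_lit 0x33252d212d010418, nat_lit 0x33312629212d0525]) (by decide +kernel)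

theorem nt_c1_le : grp 100 nt_c1_K ≤ (grp 100 EG) :=
  (p_le24.trans T_s0.le)

theorem nt_c1_mem : Net.toPerm 100 p_g18 ∈ (grp 100 EG) :=
  nt_c1_le (mem_grp_of_memB p_hn p_hk nt_c1_K_ok p_g18_ok (w := (nat_lit 1285)) (by decide +kernel))

theorem nt_c1_sym : Sym 100 (grp 100 EG) [p_g18] nt_c1_K 0 :=
  Sym.of_lab p_hn p_hk (okE_cons.2 ⟨p_g18_ok, okE_nil _⟩) nt_c1_K_ok nt_c1_le (kT := 0) (by decide +kernel)

theorem T_s1 : Stab 100 (grp 100 EG) [nat_lit 0] p_V25 12096 :=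
  Stab.step (k := 7) (L := (lab 100 7)) p_hn T_s0 p_V25_ok (grp_mono (List.subset_append_right [MpJ2.a, H47.J2P.h_g1, H47.J2P.h_a19, H47.J2P.h_a27, H47.J2P.h_g7, H47.J2P.h_a0, H47.J2P.h_g4, H47.J2P.h_a8, H47.J2P.h_g14, H47.J2P.h_g10, H47.J2P.h_g11, H47.J2P.h_g21, H47.J2P.h_g22, H47.J2P.h_g17, H47.J2P.h_g18] _)) (c := (Ch.cons (nat_lit 2) [nat_lit 1, nat_lit 3] (Ch.cons (nat_lit 3) [nat_lit 5, nat_lit 7] (Ch.cons (nat_lit 15) [nat_lit 9, nat_lit 11] (Ch.cons (nat_lit 1) [nat_lit 13, nat_lit 15] (Ch.cons (nat_lit 4) [nat_lit 17, nat_lit 19] (Ch.cons (nat_lit 8) [nat_lit 21, nat_lit 23] Ch.nil))))))) (by decide +kernel)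

theorem p_le31 : grp 100 p_V30 ≤ grp 100 p_V25 :=
  grp_le_of_memB p_hn p_hk p_V25_ok p_V30_ok (ws := [nat_lit 0x1513090b0101, nat_lit 0x90b080804, nat_lit 0xf090b07050108, nat_lit 0x1505070101]) (by decide +kernel)

theorem T_s2 : Stab 100 (grp 100 EG) [nat_lit 1, nat_lit 0] p_V30 192 :=
  Stab.step (k := 7) (L := (lab 100 7)) p_hn T_s1 p_V30_ok p_le31 (c := (Ch.cons (nat_lit 25) [nat_lit 1] (Ch.cons (nat_lit 27) [nat_lit 3] (Ch.cons (nat_lit 93) [nat_lit 5] (Ch.cons (nat_lit 72) [nat_lit 7] Ch.nil))))) (by decide +kernel)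

theorem T_s3 : Stab 100 (grp 100 EG) [nat_lit 25, nat_lit 1, nat_lit 0] p_V32 32 :=
  Stab.step (k := 7) (L := (lab 100 7)) p_hn T_s2 p_V32_ok (grp_mono (List.subset_append_right [p_g26] _)) (c := (Ch.cons (nat_lit 27) [nat_lit 1] (Ch.cons (nat_lit 93) [nat_lit 3] (Ch.cons (nat_lit 72) [nat_lit 5] Ch.nil)))) (by decide +kernel)

theorem T_s4 : Stab 100 (grp 100 EG) [nat_lit 27, nat_lit 25, nat_lit 1, nat_lit 0] p_V33 8 :=
  Stab.step (k := 7) (L := (lab 100 7)) p_hn T_s3 p_V33_ok (grp_mono (List.subset_append_right [p_g27] _)) (c := (Ch.cons (nat_lit 93) [nat_lit 1] (Ch.cons (nat_lit 72) [nat_lit 3] Ch.nil))) (by decide +kernel)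

theorem T_s5 : Stab 100 (grp 100 EG) [nat_lit 93, nat_lit 27, nat_lit 25, nat_lit 1, nat_lit 0] p_V34 2 :=
  Stab.step (k := 7) (L := (lab 100 7)) p_hn T_s4 p_V34_ok (grp_mono (List.subset_append_right [p_g28] _)) (c := (Ch.cons (nat_lit 72) [nat_lit 1] Ch.nil)) (by decide +kernel)

theorem T_s6 : Stab 100 (grp 100 EG) [nat_lit 72, nat_lit 93, nat_lit 27, nat_lit 25, nat_lit 1, nat_lit 0] p_V35 1 :=
  Stab.step (k := 7) (L := (lab 100 7)) p_hn T_s5 p_V35_ok (grp_mono (List.subset_append_right [p_g29] _)) (c := Ch.nil) (by decide +kernel)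

theorem MpJ2.a_T : Net.toPerm 100 MpJ2.a ∈ (grp 100 EG) :=
  T_s0.le (toPerm_mem_grp (E := lb_E) (List.Mem.head _))

theorem H47.J2P.h_g1_T : Net.toPerm 100 H47.J2P.h_g1 ∈ (grp 100 EG) :=
  T_s0.le (toPerm_mem_grp (E := lb_E) (List.Mem.tail _ (List.Mem.head _)))

theorem H47.J2P.h_a19_T : Net.toPerm 100 H47.J2P.h_a19 ∈ (grp 100 EG) :=
  T_s0.le (toPerm_mem_grp (E := lb_E) (List.Mem.tail _ (List.Mem.tail _ (List.Mem.head _))))

theorem H47.J2P.h_a27_T : Net.toPerm 100 H47.J2P.h_a27 ∈ (grp 100 EG) :=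
  T_s0.le (toPerm_mem_grp (E := lb_E) (List.Mem.tail _ (List.Mem.tail _ (List.Mem.tail _ (List.Mem.head _)))))

theorem H47.J2P.h_g7_T : Net.toPerm 100 H47.J2P.h_g7 ∈ (grp 100 EG) :=
  T_s0.le (toPerm_mem_grp (E := lb_E) (List.Mem.tail _ (List.Mem.tail _ (List.Mem.tail _ (List.Mem.tail _ (List.Mem.head _))))))

theorem H47.J2P.h_a0_T : Net.toPerm 100 H47.J2P.h_a0 ∈ (grp 100 EG) :=
  T_s0.le (toPerm_mem_grp (E := lb_E) (List.Mem.tail _ (List.Mem.tail _ (List.Mem.tail _ (List.Mem.tail _ (List.Mem.tail _ (List.Mem.head _)))))))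

theorem H47.J2P.h_g4_T : Net.toPerm 100 H47.J2P.h_g4 ∈ (grp 100 EG) :=
  T_s0.le (toPerm_mem_grp (E := lb_E) (List.Mem.tail _ (List.Mem.tail _ (List.Mem.tail _ (List.Mem.tail _ (List.Mem.tail _ (List.Mem.tail _ (List.Mem.head _))))))))

theorem H47.J2P.h_a8_T : Net.toPerm 100 H47.J2P.h_a8 ∈ (grp 100 EG) :=
  T_s0.le (toPerm_mem_grp (E := lb_E) (List.Mem.tail _ (List.Mem.tail _ (List.Mem.tail _ (List.Mem.tail _ (List.Mem.tail _ (List.Mem.tail _ (List.Mem.tail _ (List.Mem.head _)))))))))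

theorem H47.J2P.h_g14_T : Net.toPerm 100 H47.J2P.h_g14 ∈ (grp 100 EG) :=
  T_s0.le (toPerm_mem_grp (E := lb_E) (List.Mem.tail _ (List.Mem.tail _ (List.Mem.tail _ (List.Mem.tail _ (List.Mem.tail _ (List.Mem.tail _ (List.Mem.tail _ (List.Mem.tail _ (List.Mem.head _))))))))))

theorem H47.J2P.h_g10_T : Net.toPerm 100 H47.J2P.h_g10 ∈ (grp 100 EG) :=
  T_s0.le (toPerm_mem_grp (E := lb_E) (List.Mem.tail _ (List.Mem.tail _ (List.Mem.tail _ (List.Mem.tail _ (List.Mem.tail _ (List.Mem.tail _ (List.Mem.tail _ (List.Mem.tail _ (List.Mem.tail _ (List.Mem.head _)))))))))))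

theorem H47.J2P.h_g11_T : Net.toPerm 100 H47.J2P.h_g11 ∈ (grp 100 EG) :=
  T_s0.le (toPerm_mem_grp (E := lb_E) (List.Mem.tail _ (List.Mem.tail _ (List.Mem.tail _ (List.Mem.tail _ (List.Mem.tail _ (List.Mem.tail _ (List.Mem.tail _ (List.Mem.tail _ (List.Mem.tail _ (List.Mem.tail _ (List.Mem.head _))))))))))))

theorem H47.J2P.h_g21_T : Net.toPerm 100 H47.J2P.h_g21 ∈ (grp 100 EG) :=
  T_s0.le (toPerm_mem_grp (E := lb_E) (List.Mem.tail _ (List.Mem.tail _ (List.Mem.tail _ (List.Mem.tail _ (List.Mem.tail _ (List.Mem.tail _ (List.Mem.tail _ (List.Mem.tail _ (List.Mem.tail _ (List.Mem.tail _ (List.Mem.tail _ (List.Mem.head _)))))))))))))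

theorem H47.J2P.h_g22_T : Net.toPerm 100 H47.J2P.h_g22 ∈ (grp 100 EG) :=
  T_s0.le (toPerm_mem_grp (E := lb_E) (List.Mem.tail _ (List.Mem.tail _ (List.Mem.tail _ (List.Mem.tail _ (List.Mem.tail _ (List.Mem.tail _ (List.Mem.tail _ (List.Mem.tail _ (List.Mem.tail _ (List.Mem.tail _ (List.Mem.tail _ (List.Mem.tail _ (List.Mem.head _))))))))))))))

theorem H47.J2P.h_g17_T : Net.toPerm 100 H47.J2P.h_g17 ∈ (grp 100 EG) :=
  T_s0.le (toPerm_mem_grp (E := lb_E) (List.Mem.tail _ (List.Mem.tail _ (List.Mem.tail _ (List.Mem.tail _ (List.Mem.tail _ (List.Mem.tail _ (List.Mem.tail _ (List.Mem.tail _ (List.Mem.tail _ (List.Mem.tail _ (List.Mem.tail _ (List.Mem.tail _ (List.Mem.tail _ (List.Mem.head _)))))))))))))))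

theorem H47.J2P.h_g18_T : Net.toPerm 100 H47.J2P.h_g18 ∈ (grp 100 EG) :=
  T_s0.le (toPerm_mem_grp (E := lb_E) (List.Mem.tail _ (List.Mem.tail _ (List.Mem.tail _ (List.Mem.tail _ (List.Mem.tail _ (List.Mem.tail _ (List.Mem.tail _ (List.Mem.tail _ (List.Mem.tail _ (List.Mem.tail _ (List.Mem.tail _ (List.Mem.tail _ (List.Mem.tail _ (List.Mem.tail _ (List.Mem.head _))))))))))))))))

theorem p_g1_T : Net.toPerm 100 p_g1 ∈ (grp 100 EG) :=
  T_s0.le (toPerm_mem_grp (E := lb_E) (List.Mem.tail _ (List.Mem.tail _ (List.Mem.tail _ (List.Mem.tail _ (List.Mem.tail _ (List.Mem.tail _ (List.Mem.tail _ (List.Mem.tail _ (List.Mem.tail _ (List.Mem.tail _ (List.Mem.tail _ (List.Mem.tail _ (List.Mem.tail _ (List.Mem.tail _ (List.Mem.tail _ (List.Mem.head _)))))))))))))))))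

theorem p_g2_T : Net.toPerm 100 p_g2 ∈ (grp 100 EG) :=
  T_s0.le (toPerm_mem_grp (E := lb_E) (List.Mem.tail _ (List.Mem.tail _ (List.Mem.tail _ (List.Mem.tail _ (List.Mem.tail _ (List.Mem.tail _ (List.Mem.tail _ (List.Mem.tail _ (List.Mem.tail _ (List.Mem.tail _ (List.Mem.tail _ (List.Mem.tail _ (List.Mem.tail _ (List.Mem.tail _ (List.Mem.tail _ (List.Mem.tail _ (List.Mem.head _))))))))))))))))))

theorem p_g5_T : Net.toPerm 100 p_g5 ∈ (grp 100 EG) :=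
  T_s0.le (toPerm_mem_grp (E := lb_E) (List.Mem.tail _ (List.Mem.tail _ (List.Mem.tail _ (List.Mem.tail _ (List.Mem.tail _ (List.Mem.tail _ (List.Mem.tail _ (List.Mem.tail _ (List.Mem.tail _ (List.Mem.tail _ (List.Mem.tail _ (List.Mem.tail _ (List.Mem.tail _ (List.Mem.tail _ (List.Mem.tail _ (List.Mem.tail _ (List.Mem.tail _ (List.Mem.head _)))))))))))))))))))

theorem p_g6_T : Net.toPerm 100 p_g6 ∈ (grp 100 EG) :=
  T_s0.le (toPerm_mem_grp (E := lb_E) (List.Mem.tail _ (List.Mem.tail _ (List.Mem.tail _ (List.Mem.tail _ (List.Mem.tail _ (List.Mem.tail _ (List.Mem.tail _ (List.Mem.tail _ (List.Mem.tail _ (List.Mem.tail _ (List.Mem.tail _ (List.Mem.tail _ (List.Mem.tail _ (List.Mem.tail _ (List.Mem.tail _ (List.Mem.tail _ (List.Mem.tail _ (List.Mem.tail _ (List.Mem.head _))))))))))))))))))))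

theorem H47.J2P.h_g45_T : Net.toPerm 100 H47.J2P.h_g45 ∈ (grp 100 EG) :=
  T_s0.le (toPerm_mem_grp (E := lb_E) (List.Mem.tail _ (List.Mem.tail _ (List.Mem.tail _ (List.Mem.tail _ (List.Mem.tail _ (List.Mem.tail _ (List.Mem.tail _ (List.Mem.tail _ (List.Mem.tail _ (List.Mem.tail _ (List.Mem.tail _ (List.Mem.tail _ (List.Mem.tail _ (List.Mem.tail _ (List.Mem.tail _ (List.Mem.tail _ (List.Mem.tail _ (List.Mem.tail _ (List.Mem.tail _ (List.Mem.head _)))))))))))))))))))))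

theorem p_g11_T : Net.toPerm 100 p_g11 ∈ (grp 100 EG) :=
  T_s0.le (toPerm_mem_grp (E := lb_E) (List.Mem.tail _ (List.Mem.tail _ (List.Mem.tail _ (List.Mem.tail _ (List.Mem.tail _ (List.Mem.tail _ (List.Mem.tail _ (List.Mem.tail _ (List.Mem.tail _ (List.Mem.tail _ (List.Mem.tail _ (List.Mem.tail _ (List.Mem.tail _ (List.Mem.tail _ (List.Mem.tail _ (List.Mem.tail _ (List.Mem.tail _ (List.Mem.tail _ (List.Mem.tail _ (List.Mem.tail _ (List.Mem.tail _ (List.Mem.tail _ (List.Mem.head _))))))))))))))))))))))))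

theorem H47.J2P.h_g53_T : Net.toPerm 100 H47.J2P.h_g53 ∈ (grp 100 EG) :=
  T_s0.le (toPerm_mem_grp (E := lb_E) (List.Mem.tail _ (List.Mem.tail _ (List.Mem.tail _ (List.Mem.tail _ (List.Mem.tail _ (List.Mem.tail _ (List.Mem.tail _ (List.Mem.tail _ (List.Mem.tail _ (List.Mem.tail _ (List.Mem.tail _ (List.Mem.tail _ (List.Mem.tail _ (List.Mem.tail _ (List.Mem.tail _ (List.Mem.tail _ (List.Mem.tail _ (List.Mem.tail _ (List.Mem.tail _ (List.Mem.tail _ (List.Mem.tail _ (List.Mem.tail _ (List.Mem.tail _ (List.Mem.tail _ (List.Mem.head _))))))))))))))))))))))))))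

theorem p_g26_T : Net.toPerm 100 p_g26 ∈ (grp 100 EG) :=
  T_s2.le (toPerm_mem_grp (E := p_V30) (List.Mem.head _))

theorem p_g27_T : Net.toPerm 100 p_g27 ∈ (grp 100 EG) :=
  T_s2.le (toPerm_mem_grp (E := p_V30) (List.Mem.tail _ (List.Mem.head _)))

theorem p_g28_T : Net.toPerm 100 p_g28 ∈ (grp 100 EG) :=
  T_s2.le (toPerm_mem_grp (E := p_V30) (List.Mem.tail _ (List.Mem.tail _ (List.Mem.head _))))

theorem p_g29_T : Net.toPerm 100 p_g29 ∈ (grp 100 EG) :=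
  T_s2.le (toPerm_mem_grp (E := p_V30) (List.Mem.tail _ (List.Mem.tail _ (List.Mem.tail _ (List.Mem.head _)))))

noncomputable def T_s6_O : ℕ := (nat_lit 0x3333266666ccccd99999333321f07c1f03e0f83e0f83e0f83ee63398c67319ce63398c673184db24d926c93649b64db26d92000000000000000000000000100000000000000000000000020000000000000000002000000000000000000000000800000002000000000000000000000000000001000000000000000000)

theorem T_s6_F : Frame 100 (grp 100 EG) 6 10 T_s6_O 1 1 :=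
  IsBase.frame T_s6.isBase (by decide +kernel)

noncomputable def T_s5_O : ℕ := (nat_lit 0x2000000000000000000000000010000000000000000000000000000400000000000000000000000002000000000000000000000000004000000000000000000000000000000004000000000000000000000000080000000000000000000000002000000000000000000000000040008800000000000000000000002040000000000000000000000802000000000000000000000001100000000000000000000000000c000000000000000000000000028000000000000000000040000200000000000000000000000810000000000000000004000000800000000000000000000000440000000000000000010000002000000000000000000000040100000000000000000000010000800000000000000000000000030000000000000000002000000080000000000000000000002004000000000000000000000100200000000000000000000080010000000000000000000000010800000000000000000000008020000000000000000000000401000000000000000100000000080000000000000080000000004000000000000004000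00000020000000000000000000400001000000000000000000000000004800000000000000000000000240000000000000000000000082000000000000000000000080100000000000000000000000108000000000000000000000100400000000000000000000040020000000000000000000002001000000000000000000000000009000000000000000000000000010800000000000000000000000120000000000000000000002001000000000000000000000080080000000000000000000002004000000000000000000000040200000000000000000004000010000000000000000000100000800000000000000000000000010000000000000000000000002000000000000000000200000000000000000000000080000000200000000000000000000000)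

theorem T_s5_F : Frame 100 (grp 100 EG) 5 56 T_s5_O 0 1 :=
  Stab.frame p_hn T_s5 (by decide +kernel)

noncomputable def T_s3_O : ℕ := (nat_lit 0x400002040081000000000000000000420001080000000000000000000000000000000000089080000000000000000000000011a000000000000000000000202500000000000000000000102004800000000000000000044840b400053000ac35ca00000000000000ac00053ca3500000000000151002a20000005a660000000000000000000000000000000100000000000000000000000020000000000000000002000000)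

theorem T_s3_F : Frame 100 (grp 100 EG) 3 14 T_s3_O 0 1 :=
  Stab.frame p_hn T_s3 (by decide +kernel)

noncomputable def T_s2_O : ℕ := (nat_lit 0xa94800000000000000000000054a40fc20453810ac35ca00000011a00420ac10853ca350000020250000000000000000000000000010000000000000000000000002)

theorem T_s2_F : Frame 100 (grp 100 EG) 2 6 T_s2_O 0 1 :=
  Stab.frame p_hn T_s2 (by decide +kernel)

noncomputable def T_s1_O : ℕ := (nat_lit 0x420ac10853ca35000056a65fc0000000000000000000000001)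

theorem T_s1_F : Frame 100 (grp 100 EG) 1 2 T_s1_O 0 1 :=
  Stab.frame p_hn T_s1 (by decide +kernel)

noncomputable def nt_c1_cnt_L : List ℕ := [1, 2, T_s1_O, 0, 0, 2, 6, T_s2_O, 0, 0, 3, 14, T_s3_O, 0, 0, 5, 56, T_s5_O, 0, 0, 6, 10, T_s6_O, 1, 0]

theorem nt_c1_cnt_P : Prob 100 7 (grp 100 EG) nt_c1_cnt_EG [p_g18] [p_g18] nt_c1_K nt_c1_cnt_L 0 0 :=
  Sym.prob p_hn p_hk nt_c1_sym nt_c1_cnt_EG_ok (grp_cons_le MpJ2.a_T (grp_cons_le H47.J2P.h_g1_T (grp_cons_le H47.J2P.h_a19_T (grp_cons_le H47.J2P.h_a27_T (grp_cons_le H47.J2P.h_g7_T (grp_cons_le H47.J2P.h_a0_T (grp_cons_le H47.J2P.h_g4_T (grp_cons_le H47.J2P.h_a8_T (grp_cons_le H47.J2P.h_g14_T (grp_cons_le H47.J2P.h_g10_T (grp_cons_le H47.J2P.h_g11_T (grp_cons_le H47.J2P.h_g21_T (grp_cons_le H47.J2P.h_g22_T (grp_cons_le H47.J2P.h_g17_T (grp_cons_le H47.J2P.h_g18_T (grp_cons_le p_g1_T (grp_cons_le p_g2_T (grp_cons_le p_g5_T (grp_cons_le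 p_g6_T (grp_cons_le H47.J2P.h_g45_T (grp_cons_le p_g11_T (grp_cons_le H47.J2P.h_g53_T (grp_cons_le p_g26_T (grp_cons_le p_g27_T (grp_cons_le p_g28_T (grp_cons_le p_g29_T (grp_nil_le _))))))))))))))))))))))))))) (Frames.cons T_s1_F (Frames.cons T_s2_F (Frames.cons T_s3_F (Frames.cons T_s5_F (Frames.cons T_s6_F Frames.nil))))) (okE_cons.2 ⟨p_g18_ok, okE_nil _⟩) _

noncomputable def nt_c1_cnt_t : BT := (BT.fix (nat_lit 1) (BT.br (nat_lit 0) (nat_lit 92) [nat_lit 1, nat_lit 3] (BT.kid (nat_lit 92) (nat_lit 192) (BT.frm (nat_lit 0) (nat_lit 66321) (nat_lit 66321) [nat_lit 0] (BT.pln (nat_lit 0) (nat_lit 1) (BT.dif (nat_lit 3) (nat_lit 0) (BT.dif (nat_lit 0) (nat_lit 3) (BT.br (nat_lit 0) (nat_lit 1) [nat_lit 3, nat_lit 9] (BT.dead (nat_lit 30) (BT.frm (nat_lit 1) (nat_lit 0x2820010311) (nat_lit 0x1f1f010311) [nat_lit 0, nat_lit 5] (BT.pln (nat_lit 0) (nat_lit 2) (BT.and (nat_lit 0) (nat_lit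 8) (BT.cnt (nat_lit 0))))) (BT.kid (nat_lit 1) (nat_lit 32) (BT.frm (nat_lit 1) (nat_lit 0x2820010311) (nat_lit 0x2820010311) [nat_lit 0, nat_lit 5] (BT.pln (nat_lit 0) (nat_lit 5) (BT.dif (nat_lit 0) (nat_lit 8) (BT.br (nat_lit 0) (nat_lit 85) [nat_lit 5] (BT.kid (nat_lit 85) (nat_lit 8) (BT.dif (nat_lit 1) (nat_lit 0) (BT.img (nat_lit 1) (nat_lit 1) (BT.dif (nat_lit 1) (nat_lit 0) (BT.br (nat_lit 0) (nat_lit 48) [nat_lit 7] (BT.kid (nat_lit 48) (nat_lit 4) (BT.frm (nat_lit 2) (nat_lit 0x2d2820010311) (nat_lit 0x2d2820010311) [nat_lit 4, nat_lit 8, nat_lit 13] (BT.pln (nat_lit 0) (nat_lit 11) (BT.and (nat_lit 13) (nat_lit 0) (BT.br (nat_lit 0) (nat_lit 20) [nat_lit 9] (BT.kid (nat_lit 20) (nat_lit 1) (BT.pln (nat_lit 3) (nat_lit 12) (BT.pln (nat_lit 4) (nat_lit 9) (BT.frm (nat_lit 3) (nat_lit 0x2d2820010311) (nat_lit 0x2d2820010311) [nat_lit 2, nat_lit 6, nat_lit 10, nat_lit 14, nat_lit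 19] (BT.pln (nat_lit 0) (nat_lit 11) (BT.dif (nat_lit 2) (nat_lit 0) (BT.pln (nat_lit 2) (nat_lit 39) (BT.and (nat_lit 5) (nat_lit 0) (BT.img (nat_lit 1) (nat_lit 0) (BT.and (nat_lit 3) (nat_lit 0) (BT.img (nat_lit 1) (nat_lit 0) (BT.and (nat_lit 9) (nat_lit 0) (BT.one (nat_lit 4) (nat_lit 0x2d2820010311) (nat_lit 0x2d2820010311) [nat_lit 0, nat_lit 11, nat_lit 15, nat_lit 19, nat_lit 23, nat_lit 28])))))))))))) BT.nil))))) BT.nil))))) BT.nil))))) BT.nil))))))) BT.nil)))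

theorem nt_c1_cnt : Cnt 100 (grp 100 EG) [p_g18] [p_g18] 0 0 0 0 3840 :=
  BT.sound nt_c1_cnt_P Known.nil (t := nt_c1_cnt_t) (d := 0) (by decide +kernel)

theorem nt_c1_ge : 3840 ≤ Nat.card (grp 100 nt_c1_K) :=
  Ch.le_card_grp (k := 7) (L := (lab 100 7)) p_hn nt_c1_K_ok (c := (Ch.cons (nat_lit 92) [nat_lit 1] (Ch.cons (nat_lit 1) [nat_lit 3] (Ch.cons (nat_lit 85) [nat_lit 5] (Ch.cons (nat_lit 48) [nat_lit 7] (Ch.cons (nat_lit 20) [nat_lit 9] Ch.nil)))))) (by decide +kernel)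

theorem nt_c1_eq : (grp 100 EG) ⊓ Subgroup.centralizer {Net.toPerm 100 p_g18} = grp 100 nt_c1_K :=
  cent_eq nt_c1_sym nt_c1_cnt nt_c1_ge

theorem nt_c1_card : Nat.card ↥((grp 100 EG) ⊓ Subgroup.centralizer {Net.toPerm 100 p_g18}) = 3840 :=
  card_cent nt_c1_sym nt_c1_cnt nt_c1_ge

theorem nt_c1_ord : orderOf (Net.toPerm 100 p_g18) = 2 :=
  orderOf_net p_hn p_hk p_g18_ok (by decide) (ps := [2]) (by set_option linter.unusedSimpArgs false in simp [Nat.primeFactorsList_ofNat]) (by decide +kernel)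

theorem p_le42 : grp 100 nt_c2_K ≤ grp 100 lb_E :=
  grp_le_of_memB p_hn p_hk lb_E_ok nt_c2_K_ok (ws := [nat_lit 0x312d27261f2320, nat_lit 0x3327231f29, nat_lit 0x33312325212d010f, nat_lit 0x312d252320260127, nat_lit 0x312d27252d20202501041f]) (by decide +kernel)

theorem nt_c2_le : grp 100 nt_c2_K ≤ (grp 100 EG) :=
  (p_le42.trans T_s0.le)

theorem nt_c2_mem : Net.toPerm 100 p_g36 ∈ (grp 100 EG) :=
  nt_c2_le (mem_grp_of_memB p_hn p_hk nt_c2_K_ok p_g36_ok (w := (nat_lit 2311)) (by decide +kernel))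

theorem nt_c2_sym : Sym 100 (grp 100 EG) [p_g36] nt_c2_K 0 :=
  Sym.of_lab p_hn p_hk (okE_cons.2 ⟨p_g36_ok, okE_nil _⟩) nt_c2_K_ok nt_c2_le (kT := 0) (by decide +kernel)

theorem T_s7 : Stab 100 (grp 100 EG) [nat_lit 2, nat_lit 0] p_V43 336 :=
  Stab.step (k := 7) (L := (lab 100 7)) p_hn T_s1 p_V43_ok (grp_mono (List.subset_append_right [p_g1, p_g2] _)) (c := (Ch.cons (nat_lit 3) [nat_lit 1, nat_lit 3] (Ch.cons (nat_lit 15) [nat_lit 5, nat_lit 7] (Ch.cons (nat_lit 1) [nat_lit 9, nat_lit 11] (Ch.cons (nat_lit 4) [nat_lit 13, nat_lit 15] (Ch.cons (nat_lit 8) [nat_lit 17, nat_lit 19] Ch.nil)))))) (by decide +kernel)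

theorem p_le48 : grp 100 p_V47 ≤ grp 100 p_V43 :=
  grp_le_of_memB p_hn p_hk p_V43_ok p_V47_ok (ws := [nat_lit 0x110b05070107, nat_lit 0x110b0504, nat_lit 0xf0b0404]) (by decide +kernel)

theorem T_s8 : Stab 100 (grp 100 EG) [nat_lit 36, nat_lit 2, nat_lit 0] p_V47 16 :=
  Stab.step (k := 7) (L := (lab 100 7)) p_hn T_s7 p_V47_ok p_le48 (c := (Ch.cons (nat_lit 85) [nat_lit 1] (Ch.cons (nat_lit 68) [nat_lit 3] (Ch.cons (nat_lit 47) [nat_lit 5] Ch.nil)))) (by decide +kernel)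

theorem T_s9 : Stab 100 (grp 100 EG) [nat_lit 85, nat_lit 36, nat_lit 2, nat_lit 0] p_V49 4 :=
  Stab.step (k := 7) (L := (lab 100 7)) p_hn T_s8 p_V49_ok (grp_mono (List.subset_append_right [p_g44] _)) (c := (Ch.cons (nat_lit 68) [nat_lit 1] (Ch.cons (nat_lit 47) [nat_lit 3] Ch.nil))) (by decide +kernel)

theorem T_s10 : Stab 100 (grp 100 EG) [nat_lit 68, nat_lit 85, nat_lit 36, nat_lit 2, nat_lit 0] p_V50 2 :=
  Stab.step (k := 7) (L := (lab 100 7)) p_hn T_s9 p_V50_ok (grp_mono (List.subset_append_right [p_g45] _)) (c := (Ch.cons (nat_lit 47) [nat_lit 1] Ch.nil)) (by decide +kernel)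

theorem T_s11 : Stab 100 (grp 100 EG) [nat_lit 47, nat_lit 68, nat_lit 85, nat_lit 36, nat_lit 2, nat_lit 0] p_V51 1 :=
  Stab.step (k := 7) (L := (lab 100 7)) p_hn T_s10 p_V51_ok (grp_mono (List.subset_append_right [p_g46] _)) (c := Ch.nil) (by decide +kernel)

theorem p_g44_T : Net.toPerm 100 p_g44 ∈ (grp 100 EG) :=
  T_s8.le (toPerm_mem_grp (E := p_V47) (List.Mem.head _))

theorem p_g45_T : Net.toPerm 100 p_g45 ∈ (grp 100 EG) :=
  T_s8.le (toPerm_mem_grp (E := p_V47) (List.Mem.tail _ (List.Mem.head _)))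

theorem p_g46_T : Net.toPerm 100 p_g46 ∈ (grp 100 EG) :=
  T_s8.le (toPerm_mem_grp (E := p_V47) (List.Mem.tail _ (List.Mem.tail _ (List.Mem.head _))))

noncomputable def T_s11_O : ℕ := (nat_lit 0x3333266666ccccd99999333321f07c1f03e0f83e0f83e0f83ee63398c67319ce63398c673184db24d926c93649b64db26d92000000000000000000000000100000000000000000000000040000000000000001000000000000200000000000000000000000000001000000000000000000000000000000800000000000)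

theorem T_s11_F : Frame 100 (grp 100 EG) 6 10 T_s11_O 1 1 :=
  IsBase.frame T_s11.isBase (by decide +kernel)

noncomputable def T_s9_O : ℕ := (nat_lit 0x400000000000000000000000004000000000000000000000000000000000400000000000000000000000000800000000000000000000000010000000000000000000000000100000000000000000000000000000020000000000000000000000000000400004008000000000000000000020000000002000000000000000400000000000400000000000000000000000820000000000100000000000000010000000000000000001000000080000000000000000800000000400000000000000000200000002000000000001000000000000100000000000010000000000002000000000000100000000000002000008000000000000000000100100001000040000400000000200004000000001020000000000000020002040000800000000021020000000000040000000000000040000020801000000000002000200000040008000000010000004010000000100000080018000000000000004000000084100000000000000040000080000080000000800001000800000400000000002000080000000000020004000040004000000000008000002002000200000000004008000000100008000000008000000000000801080000000000000000000000001000000000000000000000000400000000000000010000000000002000000000000000000000)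

theorem T_s9_F : Frame 100 (grp 100 EG) 4 39 T_s9_O 0 1 :=
  Stab.frame p_hn T_s9 (by decide +kernel)

noncomputable def T_s8_O : ℕ := (nat_lit 0x100000000000000400800000000000000000000000000000010000002000000400000100008000000010000000200001040000000000200040000000010000000000000601000000400000a28110000000200024002000001420080000001100010040500004001000000200000002022400004020400004000000810004200a000200000841004008000000100408000008008008000000004801180800180200000080000048002000000000000000000000000100000000000000000000000040000000000000001000000000)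

theorem T_s8_F : Frame 100 (grp 100 EG) 3 17 T_s8_O 0 1 :=
  Stab.frame p_hn T_s8 (by decide +kernel)

noncomputable def T_s7_O : ℕ := (nat_lit 0x4000800801801000000680178020a4100524a25000050264800c401803081080c300a05820200000000000000000000000010000000000000000000000004)

theorem T_s7_F : Frame 100 (grp 100 EG) 2 5 T_s7_O 0 1 :=
  Stab.frame p_hn T_s7 (by decide +kernel)

noncomputable def nt_c2_cnt_L : List ℕ := [1, 2, T_s1_O, 0, 0, 2, 5, T_s7_O, 0, 0, 3, 17, T_s8_O, 0, 0, 4, 39, T_s9_O, 0, 0, 6, 10, T_s11_O, 1, 0]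

theorem nt_c2_cnt_P : Prob 100 7 (grp 100 EG) nt_c2_cnt_EG [p_g36] [p_g36] nt_c2_K nt_c2_cnt_L 0 0 :=
  Sym.prob p_hn p_hk nt_c2_sym nt_c2_cnt_EG_ok (grp_cons_le MpJ2.a_T (grp_cons_le H47.J2P.h_g1_T (grp_cons_le H47.J2P.h_a19_T (grp_cons_le H47.J2P.h_a27_T (grp_cons_le H47.J2P.h_g7_T (grp_cons_le H47.J2P.h_a0_T (grp_cons_le H47.J2P.h_g4_T (grp_cons_le H47.J2P.h_a8_T (grp_cons_le H47.J2P.h_g14_T (grp_cons_le H47.J2P.h_g10_T (grp_cons_le H47.J2P.h_g11_T (grp_cons_le H47.J2P.h_g21_T (grp_cons_le H47.J2P.h_g22_T (grp_cons_le H47.J2P.h_g17_T (grp_cons_le H47.J2P.h_g18_T (grp_cons_le p_g1_T (grp_cons_le p_g2_T (grp_cons_le p_g5_T (grp_cons_le p_g6_T (grp_cons_le H47.J2P.h_g45_T (grp_cons_le p_g11_T (grp_cons_le H47.J2P.h_g53_T (grp_cons_le p_g44_T (grp_cons_le p_g45_T (grp_cons_le p_g46_T (grp_nil_le _)))))))))))))))))))))))))) (Frames.cons T_s1_F (Frames.cons T_s7_F (Frames.cons T_s8_F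 (Frames.cons T_s9_F (Frames.cons T_s11_F Frames.nil))))) (okE_cons.2 ⟨p_g36_ok, okE_nil _⟩) _

noncomputable def nt_c2_cnt_t : BT := (BT.fix (nat_lit 1) (BT.br (nat_lit 0) (nat_lit 91) [nat_lit 1, nat_lit 5] (BT.kid (nat_lit 91) (nat_lit 48) (BT.frm (nat_lit 0) (nat_lit 1290) (nat_lit 1290) [nat_lit 0] (BT.pln (nat_lit 0) (nat_lit 1) (BT.and (nat_lit 3) (nat_lit 0) (BT.br (nat_lit 0) (nat_lit 25) [nat_lit 3, nat_lit 5] (BT.kid (nat_lit 25) (nat_lit 12) (BT.frm (nat_lit 1) (nat_lit 0x20050a) (nat_lit 0x20050a) [nat_lit 0, nat_lit 4] (BT.pln (nat_lit 0) (nat_lit 2) (BT.and (nat_lit 7) (nat_lit 0) (BT.br (nat_lit 0) (nat_lit 41) [nat_lit 5] (BT.kid (nat_lit 41) (nat_lit 4) (BT.frm (nat_lit 2) (nat_lit 0x2920050a) (nat_lit 0x2920050a) [nat_lit 0, nat_lit 4, nat_lit 8] (BT.pln (nat_lit 0) (nat_lit 12) (BT.and (nat_lit 8) (nat_lit 0) (BT.br (nat_lit 0) (nat_lit 92) [nat_lit 7] (BT.dead (nat_lit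 57) (BT.frm (nat_lit 3) (nat_lit 0x2d2920050a) (nat_lit 0x2e2920050a) [nat_lit 0, nat_lit 4, nat_lit 8, nat_lit 12] (BT.pln (nat_lit 0) (nat_lit 5) (BT.and (nat_lit 0) (nat_lit 15) (BT.cnt (nat_lit 0))))) (BT.kid (nat_lit 92) (nat_lit 2) (BT.frm (nat_lit 3) (nat_lit 0x2d2920050a) (nat_lit 0x2d2920050a) [nat_lit 0, nat_lit 4, nat_lit 8, nat_lit 12] (BT.pln (nat_lit 0) (nat_lit 27) (BT.br (nat_lit 0) (nat_lit 65) [nat_lit 9] (BT.kid (nat_lit 65) (nat_lit 1) (BT.pln (nat_lit 2) (nat_lit 35) (BT.img (nat_lit 1) (nat_lit 0) (BT.one (nat_lit 4) (nat_lit 0x2d2920050a) (nat_lit 0x2d2920050a) [nat_lit 2, nat_lit 0, nat_lit 5, nat_lit 9, nat_lit 13, nat_lit 17]))) BT.nil)))) BT.nil)))))) BT.nil))))) BT.nil))))) BT.nil)))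

theorem nt_c2_cnt : Cnt 100 (grp 100 EG) [p_g36] [p_g36] 0 0 0 0 672 :=
  BT.sound nt_c2_cnt_P Known.nil (t := nt_c2_cnt_t) (d := 0) (by decide +kernel)

theorem nt_c2_ge : 672 ≤ Nat.card (grp 100 nt_c2_K) :=
  Ch.le_card_grp (k := 7) (L := (lab 100 7)) p_hn nt_c2_K_ok (c := (Ch.cons (nat_lit 91) [nat_lit 1] (Ch.cons (nat_lit 25) [nat_lit 3] (Ch.cons (nat_lit 41) [nat_lit 5] (Ch.cons (nat_lit 92) [nat_lit 7] (Ch.cons (nat_lit 65) [nat_lit 9] Ch.nil)))))) (by decide +kernel)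

theorem nt_c2_eq : (grp 100 EG) ⊓ Subgroup.centralizer {Net.toPerm 100 p_g36} = grp 100 nt_c2_K :=
  cent_eq nt_c2_sym nt_c2_cnt nt_c2_ge

theorem nt_c2_card : Nat.card ↥((grp 100 EG) ⊓ Subgroup.centralizer {Net.toPerm 100 p_g36}) = 672 :=
  card_cent nt_c2_sym nt_c2_cnt nt_c2_ge

theorem nt_c2_ord : orderOf (Net.toPerm 100 p_g36) = 2 :=
  orderOf_net p_hn p_hk p_g36_ok (by decide) (ps := [2]) (by set_option linter.unusedSimpArgs false in simp [Nat.primeFactorsList_ofNat]) (by decide +kernel)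

theorem p_le56 : grp 100 nt_c3_K ≤ grp 100 lb_E :=
  grp_le_of_memB p_hn p_hk lb_E_ok nt_c3_K_ok (ws := [nat_lit 0x33272325012101, nat_lit 0x31272926231f2d20, nat_lit 0x23251f1f, nat_lit 51]) (by decide +kernel)

theorem nt_c3_le : grp 100 nt_c3_K ≤ (grp 100 EG) :=
  (p_le56.trans T_s0.le)

theorem nt_c3_mem : Net.toPerm 100 p_g52 ∈ (grp 100 EG) :=
  nt_c3_le (mem_grp_of_memB p_hn p_hk nt_c3_K_ok p_g52_ok (w := (nat_lit 0x70503010103010401)) (by decide +kernel))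

theorem nt_c3_sym : Sym 100 (grp 100 EG) [p_g52] nt_c3_K 0 :=
  Sym.of_lab p_hn p_hk (okE_cons.2 ⟨p_g52_ok, okE_nil _⟩) nt_c3_K_ok nt_c3_le (kT := 0) (by decide +kernel)

theorem p_le58 : grp 100 p_V57 ≤ grp 100 p_V33 :=
  grp_le_of_memB p_hn p_hk p_V33_ok p_V57_ok (ws := [nat_lit 1, nat_lit 257]) (by decide +kernel)

theorem T_s12 : Stab 100 (grp 100 EG) [nat_lit 23, nat_lit 27, nat_lit 25, nat_lit 1, nat_lit 0] p_V57 4 :=
  Stab.step (k := 7) (L := (lab 100 7)) p_hn T_s4 p_V57_ok p_le58 (c := (Ch.cons (nat_lit 17) [nat_lit 1] (Ch.cons (nat_lit 89) [nat_lit 3] Ch.nil))) (by decide +kernel)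

theorem T_s13 : Stab 100 (grp 100 EG) [nat_lit 17, nat_lit 23, nat_lit 27, nat_lit 25, nat_lit 1, nat_lit 0] p_V59 2 :=
  Stab.step (k := 7) (L := (lab 100 7)) p_hn T_s12 p_V59_ok (grp_mono (List.subset_append_right [p_g28] _)) (c := (Ch.cons (nat_lit 89) [nat_lit 1] Ch.nil)) (by decide +kernel)

theorem T_s14 : Stab 100 (grp 100 EG) [nat_lit 89, nat_lit 17, nat_lit 23, nat_lit 27, nat_lit 25, nat_lit 1, nat_lit 0] p_V60 1 :=
  Stab.step (k := 7) (L := (lab 100 7)) p_hn T_s13 p_V60_ok (grp_mono (List.subset_append_right [H47.J2P.h_a0] _)) (c := Ch.nil) (by decide +kernel)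

noncomputable def T_s14_O : ℕ := (nat_lit 0x3333266666ccccd99999333321f07c1f03e0f83e0f83e0f83ee63398c67319ce63398c673184db24d926c93649b64db26d920000000000000000000000001000000000000000000000000200000000000000000020000000000000000000000008000000000000000000000000080000000000000000000000000200000020000000000000000000000)

theorem T_s14_F : Frame 100 (grp 100 EG) 7 11 T_s14_O 1 1 :=
  IsBase.frame T_s14.isBase (by decide +kernel)

noncomputable def T_s13_O : ℕ := (nat_lit 0x400000000000000000000000010000000000000000000000000400000000000000000000000010000000000000000000000000800000000000000000000000040000000000000000000000000800000000000000000000000040000000000000000000000000080000000000000000000000004000000000000000000000000200000000000000000000000010000000000000000000000000800000000000000000000000040040080000000000000000000008004000000000000000000001000200000000000000000000200010000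00000000000000000100080000000000000000000020004000000000000000000100000200000000000000000020000010000000000000000004000000800000000000000000800000040000000000000000004000002000000000000000000800000100000000000000000000100008000000000000000000020000400000000000000000004000020000000000000000000800001000000000000000000001000080000000000000000000200004000000000000000000040000200000000000000000008000010000000000000000000000000108000000000000000000000020400000000000000000000004020000000000000000000000801000000000000000000000001080000000000000000000000204000000000000000000000040200000000000000000000008010000000000000000000000000180000000000000000000000024000000000000000000000004200000000000000000000000810000000000000000000000000180000000000000000000000024000000000000000000000004200000000000000000000000810000000000000000000000000000180000000000000000000000024000000000000000000000010200000000000000000000000000100000000000000000000000020000000000000000002000000000000000000000000800000000000000000000000008000000000000000000000000020000)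

theorem T_s13_F : Frame 100 (grp 100 EG) 6 59 T_s13_O 0 1 :=
  Stab.frame p_hn T_s13 (by decide +kernel)

noncomputable def T_s12_O : ℕ := (nat_lit 0x100000000000000000000000004000000000000000000000000080000000000000000000000480000000000000000000000102000000000000000000000040040000000000000000000000000030000000000000000000000004800000000000000000000000842040081000000000000000000420001080000000000000000000050000a0000000000000000000a000050000000000000000000030000c0000000000000000000c00003000000000000000000000000030c0000000000000000000000c030000000000000000000000050a0000000000000000000000a0500000000000040000020000001800000000008000001000000240000000000010008000000042000000000002000400000008100000000080000004000000001800000001000002000000000240000000010002000000000042000000000800400000000008100000000000000000000000000011a0000000000000000000000000010000000000000000000000002000000000000000000200000000000000000000000080000000000000000000000000800000)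

theorem T_s12_F : Frame 100 (grp 100 EG) 5 33 T_s12_O 0 1 :=
  Stab.frame p_hn T_s12 (by decide +kernel)

noncomputable def T_s4_O : ℕ := (nat_lit 0x400000000000000000000000008000000000000000000000090000020400810000000000000000004200010800000000000000000000030000c0000000000000000000c00003000000000000000000000000030c0000000000000000000000c030000000000000000000000000000000011a00000000000000000000020250000000000000000000040040300000000000000000001020048000000000000000000048008400050000a0050a00000000000000a0000500a05000000000008020004400000081180000000140000220000001824000000001100280000000424200000000000000000000000000000001000000000000000000000000200000000000000000020000000000000000000000008000000)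

theorem T_s4_F : Frame 100 (grp 100 EG) 4 23 T_s4_O 0 1 :=
  Stab.frame p_hn T_s4 (by decide +kernel)

noncomputable def nt_c3_cnt_L : List ℕ := [1, 2, T_s1_O, 0, 0, 2, 6, T_s2_O, 0, 0, 3, 14, T_s3_O, 0, 0, 4, 23, T_s4_O, 0, 0, 5, 33, T_s12_O, 0, 0, 6, 59, T_s13_O, 0, 0, 7, 11, T_s14_O, 1, 0]

theorem nt_c3_cnt_P : Prob 100 7 (grp 100 EG) nt_c3_cnt_EG [p_g52] [p_g52] nt_c3_K nt_c3_cnt_L 0 0 :=
  Sym.prob p_hn p_hk nt_c3_sym nt_c3_cnt_EG_ok (grp_cons_le MpJ2.a_T (grp_cons_le H47.J2P.h_g1_T (grp_cons_le H47.J2P.h_a19_T (grp_cons_le H47.J2P.h_a27_T (grp_cons_le H47.J2P.h_g7_T (grp_cons_le H47.J2P.h_a0_T (grp_cons_le H47.J2P.h_g4_T (grp_cons_le H47.J2P.h_a8_T (grp_cons_le H47.J2P.h_g14_T (grp_cons_le H47.J2P.h_g10_T (grp_cons_le H47.J2P.h_g11_T (grp_cons_le H47.J2P.h_g21_T (grp_cons_le H47.J2P.h_g22_T (grp_cons_le H47.J2P.h_g17_T (grp_cons_le H47.J2P.h_g18_T (grp_cons_le p_g1_T (grp_cons_le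 p_g2_T (grp_cons_le p_g5_T (grp_cons_le p_g6_T (grp_cons_le H47.J2P.h_g45_T (grp_cons_le p_g11_T (grp_cons_le H47.J2P.h_g53_T (grp_cons_le p_g26_T (grp_cons_le p_g27_T (grp_cons_le p_g28_T (grp_cons_le p_g29_T (grp_nil_le _))))))))))))))))))))))))))) (Frames.cons T_s1_F (Frames.cons T_s2_F (Frames.cons T_s3_F (Frames.cons T_s4_F (Frames.cons T_s12_F (Frames.cons T_s13_F (Frames.cons T_s14_F Frames.nil))))))) (okE_cons.2 ⟨p_g52_ok, okE_nil _⟩) _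

noncomputable def nt_c3_cnt_t : BT := (BT.br (nat_lit 2) (nat_lit 0) [nat_lit 1, nat_lit 3] (BT.dead (nat_lit 2) (BT.frm (nat_lit 0) (nat_lit 0) (nat_lit 276) [nat_lit 0] (BT.pln (nat_lit 0) (nat_lit 1) (BT.img (nat_lit 1) (nat_lit 2) (BT.and (nat_lit 1) (nat_lit 0) (BT.cnt (nat_lit 0)))))) (BT.kid (nat_lit 0) (nat_lit 8) (BT.img (nat_lit 1) (nat_lit 0) (BT.frm (nat_lit 1) (nat_lit 0) (nat_lit 0) [nat_lit 0, nat_lit 1] (BT.pln (nat_lit 0) (nat_lit 5) (BT.br (nat_lit 0) (nat_lit 25) [nat_lit 3] (BT.dead (nat_lit 27) (BT.dif (nat_lit 1) (nat_lit 0) (BT.img (nat_lit 1) (nat_lit 1) (BT.frm (nat_lit 3) (nat_lit 0) (nat_lit 0x2f2f2e) [nat_lit 0, nat_lit 2, nat_lit 5, nat_lit 6] (BT.pln (nat_lit 0) (nat_lit 20) (BT.and (nat_lit 3) (nat_lit 0) (BT.br (nat_lit 0) (nat_lit 23) [nat_lit 5] (BT.dead (nat_lit 23) (BT.frm (nat_lit 2) (nat_lit 0) (nat_lit 46) [nat_lit 6, nat_lit 9, nat_lit 10] (BT.pln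 (nat_lit 0) (nat_lit 7) (BT.frm (nat_lit 4) (nat_lit 0) (nat_lit 0x332f2f2e) [nat_lit 2, nat_lit 6, nat_lit 8, nat_lit 11, nat_lit 12] (BT.pln (nat_lit 0) (nat_lit 25) (BT.dif (nat_lit 2) (nat_lit 0) (BT.br (nat_lit 0) (nat_lit 17) [] (BT.dead (nat_lit 14) (BT.frm (nat_lit 5) (nat_lit 0) (nat_lit 0x31332f2f2e) [nat_lit 0, nat_lit 6, nat_lit 10, nat_lit 12, nat_lit 15, nat_lit 16] (BT.pln (nat_lit 0) (nat_lit 47) (BT.img (nat_lit 1) (nat_lit 2) (BT.and (nat_lit 1) (nat_lit 0) (BT.cnt (nat_lit 0)))))) (BT.dead (nat_lit 26) (BT.frm (nat_lit 5) (nat_lit 0) (nat_lit 0x332f2f2e) [nat_lit 0, nat_lit 6, nat_lit 10, nat_lit 12, nat_lit 15, nat_lit 16] (BT.pln (nat_lit 0) (nat_lit 47) (BT.img (nat_lit 1) (nat_lit 2) (BT.and (nat_lit 1) (nat_lit 0) (BT.cnt (nat_lit 0)))))) BT.nil)))))))) BT.nil))))))) (BT.dead (nat_lit 20) (BT.frm (nat_lit 2) (nat_lit 0) (nat_lit 11567) [nat_lit 0, nat_lit 3,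 nat_lit 4] (BT.pln (nat_lit 0) (nat_lit 10) (BT.img (nat_lit 1) (nat_lit 2) (BT.and (nat_lit 1) (nat_lit 0) (BT.cnt (nat_lit 0)))))) (BT.kid (nat_lit 25) (nat_lit 4) (BT.dif (nat_lit 1) (nat_lit 0) (BT.img (nat_lit 1) (nat_lit 1) (BT.frm (nat_lit 3) (nat_lit 0) (nat_lit 0) [nat_lit 0, nat_lit 2, nat_lit 5, nat_lit 6] (BT.pln (nat_lit 0) (nat_lit 20) (BT.and (nat_lit 3) (nat_lit 0) (BT.br (nat_lit 0) (nat_lit 23) [nat_lit 5] (BT.kid (nat_lit 23) (nat_lit 2) (BT.frm (nat_lit 2) (nat_lit 0) (nat_lit 0) [nat_lit 6, nat_lit 9, nat_lit 10] (BT.pln (nat_lit 0) (nat_lit 7) (BT.frm (nat_lit 4) (nat_lit 0) (nat_lit 0) [nat_lit 2, nat_lit 6, nat_lit 8, nat_lit 11, nat_lit 12] (BT.pln (nat_lit 0) (nat_lit 25) (BT.dif (nat_lit 2) (nat_lit 0) (BT.br (nat_lit 0) (nat_lit 17) [] (BT.dead (nat_lit 24) (BT.frm (nat_lit 5) (nat_lit 0) (nat_lit 49) [nat_lit 0, nat_lit 6, nat_lit 10, nat_lit 12, nat_lit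 15, nat_lit 16] (BT.pln (nat_lit 0) (nat_lit 39) (BT.br (nat_lit 0) (nat_lit 89) [nat_lit 7] (BT.dead (nat_lit 43) (BT.frm (nat_lit 6) (nat_lit 0) (nat_lit 49) [nat_lit 0, nat_lit 3, nat_lit 9, nat_lit 13, nat_lit 15, nat_lit 18, nat_lit 19] (BT.pln (nat_lit 0) (nat_lit 10) (BT.img (nat_lit 1) (nat_lit 2) (BT.and (nat_lit 1) (nat_lit 0) (BT.cnt (nat_lit 0)))))) BT.nil)))) (BT.kid (nat_lit 17) (nat_lit 2) (BT.frm (nat_lit 5) (nat_lit 0) (nat_lit 0) [nat_lit 0, nat_lit 6, nat_lit 10, nat_lit 12, nat_lit 15, nat_lit 16] (BT.pln (nat_lit 0) (nat_lit 39) (BT.br (nat_lit 0) (nat_lit 89) [nat_lit 7] (BT.kid (nat_lit 89) (nat_lit 1) (BT.one (nat_lit 6) (nat_lit 0) (nat_lit 0) [nat_lit 0, nat_lit 3, nat_lit 9, nat_lit 13, nat_lit 15, nat_lit 18, nat_lit 19]) BT.nil)))) BT.nil)))))))) BT.nil))))))) BT.nil))))))) BT.nil)))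

theorem nt_c3_cnt : Cnt 100 (grp 100 EG) [p_g52] [p_g52] 0 0 0 0 480 :=
  BT.sound nt_c3_cnt_P Known.nil (t := nt_c3_cnt_t) (d := 0) (by decide +kernel)

theorem nt_c3_ge : 480 ≤ Nat.card (grp 100 nt_c3_K) :=
  Ch.le_card_grp (k := 7) (L := (lab 100 7)) p_hn nt_c3_K_ok (c := (Ch.cons (nat_lit 0) [nat_lit 1] (Ch.cons (nat_lit 25) [nat_lit 3] (Ch.cons (nat_lit 23) [nat_lit 5] (Ch.cons (nat_lit 89) [nat_lit 7] Ch.nil))))) (by decide +kernel)

theorem nt_c3_eq : (grp 100 EG) ⊓ Subgroup.centralizer {Net.toPerm 100 p_g52} = grp 100 nt_c3_K :=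
  cent_eq nt_c3_sym nt_c3_cnt nt_c3_ge

theorem nt_c3_card : Nat.card ↥((grp 100 EG) ⊓ Subgroup.centralizer {Net.toPerm 100 p_g52}) = 480 :=
  card_cent nt_c3_sym nt_c3_cnt nt_c3_ge

theorem nt_c3_ord : orderOf (Net.toPerm 100 p_g52) = 2 :=
  orderOf_net p_hn p_hk p_g52_ok (by decide) (ps := [2]) (by set_option linter.unusedSimpArgs false in simp [Nat.primeFactorsList_ofNat]) (by decide +kernel)

theorem p_le67 : grp 100 nt_c4_K ≤ grp 100 lb_E :=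
  grp_le_of_memB p_hn p_hk lb_E_ok nt_c4_K_ok (ws := [nat_lit 0x33312d23261f2d0509, nat_lit 0x3331272329220731, nat_lit 0x33312729252d212d0118, nat_lit 0x332623222601, nat_lit 0x333123251f220714]) (by decide +kernel)

theorem nt_c4_le : grp 100 nt_c4_K ≤ (grp 100 EG) :=
  (p_le67.trans T_s0.le)

theorem nt_c4_mem : Net.toPerm 100 p_g61 ∈ (grp 100 EG) :=
  nt_c4_le (mem_grp_of_memB p_hn p_hk nt_c4_K_ok p_g61_ok (w := (nat_lit 591109)) (by decide +kernel))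

theorem nt_c4_sym : Sym 100 (grp 100 EG) [p_g61] nt_c4_K 0 :=
  Sym.of_lab p_hn p_hk (okE_cons.2 ⟨p_g61_ok, okE_nil _⟩) nt_c4_K_ok nt_c4_le (kT := 0) (by decide +kernel)

theorem p_le69 : grp 100 p_V68 ≤ grp 100 p_V59 :=
  grp_le_of_memB p_hn p_hk p_V59_ok p_V68_ok (ws := []) (by decide +kernel)

theorem T_s15 : Stab 100 (grp 100 EG) [nat_lit 70, nat_lit 17, nat_lit 23, nat_lit 27, nat_lit 25, nat_lit 1, nat_lit 0] p_V68 1 :=
  Stab.step (k := 7) (L := (lab 100 7)) p_hn T_s13 p_V68_ok p_le69 (c := Ch.nil) (by decide +kernel)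

noncomputable def T_s15_O : ℕ := (nat_lit 0x3333266666ccccd99999333321f07c1f03e0f83e0f83e0f83ee63398c67319ce63398c673184db24d926c93649b64db26d920000000000000000000000001000000000000000000000000200000000000000000020000000000000000000000008000000000000000000000000080000000000000000000000000200000000000400000000000000000)

theorem T_s15_F : Frame 100 (grp 100 EG) 7 11 T_s15_O 1 1 :=
  IsBase.frame T_s15.isBase (by decide +kernel)

noncomputable def nt_c4_cnt_L : List ℕ := [2, 6, T_s2_O, 0, 0, 3, 14, T_s3_O, 0, 0, 5, 33, T_s12_O, 0, 0, 6, 59, T_s13_O, 0, 0, 7, 11, T_s15_O, 1, 0]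

theorem nt_c4_cnt_P : Prob 100 7 (grp 100 EG) nt_c4_cnt_EG [p_g61] [p_g61] nt_c4_K nt_c4_cnt_L 0 0 :=
  Sym.prob p_hn p_hk nt_c4_sym nt_c4_cnt_EG_ok (grp_cons_le p_g1_T (grp_cons_le p_g2_T (grp_cons_le p_g5_T (grp_cons_le p_g6_T (grp_cons_le H47.J2P.h_g45_T (grp_cons_le H47.J2P.h_a0_T (grp_cons_le p_g11_T (grp_cons_le H47.J2P.h_g53_T (grp_cons_le MpJ2.a_T (grp_cons_le H47.J2P.h_g1_T (grp_cons_le H47.J2P.h_a19_T (grp_cons_le H47.J2P.h_a27_T (grp_cons_le H47.J2P.h_g7_T (grp_cons_le H47.J2P.h_g4_T (grp_cons_le H47.J2P.h_a8_T (grp_cons_le H47.J2P.h_g14_T (grp_cons_le H47.J2P.h_g10_T (grp_cons_le H47.J2P.h_g11_T (grp_cons_le H47.J2P.h_g21_T (grp_cons_le H47.J2P.h_g22_T (grp_cons_le H47.J2P.h_g17_T (grp_cons_le H47.J2P.h_g18_T (grp_cons_le p_g26_T (grp_cons_le p_g27_T (grp_cons_le p_g28_T (grp_cons_le p_g29_T (grp_nil_le _))))))))))))))))))))))))))) (Frames.cons T_s2_F (Frames.cons T_s3_F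 (Frames.cons T_s12_F (Frames.cons T_s13_F (Frames.cons T_s15_F Frames.nil))))) (okE_cons.2 ⟨p_g61_ok, okE_nil _⟩) _

noncomputable def nt_c4_cnt_t : BT := (BT.fix (nat_lit 1) (BT.br (nat_lit 0) (nat_lit 95) [nat_lit 1, nat_lit 3] (BT.kid (nat_lit 95) (nat_lit 216) (BT.dif (nat_lit 1) (nat_lit 0) (BT.br (nat_lit 0) (nat_lit 7) [nat_lit 3, nat_lit 5] (BT.kid (nat_lit 7) (nat_lit 24) (BT.frm (nat_lit 0) (nat_lit 0x10908150a) (nat_lit 0x10908150a) [nat_lit 0, nat_lit 2] (BT.pln (nat_lit 0) (nat_lit 5) (BT.br (nat_lit 0) (nat_lit 28) [nat_lit 5] (BT.kid (nat_lit 28) (nat_lit 4) (BT.frm (nat_lit 1) (nat_lit 0x10908150a) (nat_lit 0x10908150a) [nat_lit 0, nat_lit 3, nat_lit 5] (BT.pln (nat_lit 0) (nat_lit 7) (BT.img (nat_lit 1) (nat_lit 2) (BT.img (nat_lit 1) (nat_lit 0) (BT.frm (nat_lit 2) (nat_lit 0x332f010908150a) (nat_lit 0x332f010908150a) [nat_lit 0, nat_lit 1, nat_lit 4, nat_lit 7, nat_lit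 9] (BT.pln (nat_lit 0) (nat_lit 25) (BT.dif (nat_lit 4) (nat_lit 0) (BT.br (nat_lit 0) (nat_lit 75) [nat_lit 7] (BT.kid (nat_lit 75) (nat_lit 2) (BT.frm (nat_lit 3) (nat_lit 0x31332f010908150a) (nat_lit 0x31332f010908150a) [nat_lit 0, nat_lit 4, nat_lit 5, nat_lit 8, nat_lit 11, nat_lit 13] (BT.pln (nat_lit 0) (nat_lit 35) (BT.br (nat_lit 0) (nat_lit 48) [nat_lit 9] (BT.kid (nat_lit 48) (nat_lit 1) (BT.one (nat_lit 4) (nat_lit 0x31332f010908150a) (nat_lit 0x31332f010908150a) [nat_lit 0, nat_lit 3, nat_lit 7, nat_lit 8, nat_lit 11, nat_lit 14, nat_lit 16]) BT.nil)))) BT.nil))))))))) BT.nil)))) BT.nil))) BT.nil)))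

theorem nt_c4_cnt : Cnt 100 (grp 100 EG) [p_g61] [p_g61] 0 0 0 0 2160 :=
  BT.sound nt_c4_cnt_P Known.nil (t := nt_c4_cnt_t) (d := 0) (by decide +kernel)

theorem nt_c4_ge : 2160 ≤ Nat.card (grp 100 nt_c4_K) :=
  Ch.le_card_grp (k := 7) (L := (lab 100 7)) p_hn nt_c4_K_ok (c := (Ch.cons (nat_lit 95) [nat_lit 1] (Ch.cons (nat_lit 7) [nat_lit 3] (Ch.cons (nat_lit 28) [nat_lit 5] (Ch.cons (nat_lit 75) [nat_lit 7] (Ch.cons (nat_lit 48) [nat_lit 9] Ch.nil)))))) (by decide +kernel)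

theorem nt_c4_eq : (grp 100 EG) ⊓ Subgroup.centralizer {Net.toPerm 100 p_g61} = grp 100 nt_c4_K :=
  cent_eq nt_c4_sym nt_c4_cnt nt_c4_ge

theorem nt_c4_card : Nat.card ↥((grp 100 EG) ⊓ Subgroup.centralizer {Net.toPerm 100 p_g61}) = 2160 :=
  card_cent nt_c4_sym nt_c4_cnt nt_c4_ge

theorem nt_c4_ord : orderOf (Net.toPerm 100 p_g61) = 3 :=
  orderOf_net p_hn p_hk p_g61_ok (by decide) (ps := [3]) (by set_option linter.unusedSimpArgs false in simp [Nat.primeFactorsList_ofNat]) (by decide +kernel)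

theorem p_le74 : grp 100 nt_c5_K ≤ grp 100 lb_E :=
  grp_le_of_memB p_hn p_hk lb_E_ok nt_c5_K_ok (ws := [nat_lit 0x312d2729251f2905, nat_lit 0x33312d271f1f250321, nat_lit 0x33312d262620200112, nat_lit 0x2d231f2d0503]) (by decide +kernel)

theorem nt_c5_le : grp 100 nt_c5_K ≤ (grp 100 EG) :=
  (p_le74.trans T_s0.le)

theorem nt_c5_mem : Net.toPerm 100 p_g70 ∈ (grp 100 EG) :=
  nt_c5_le (toPerm_mem_grp (E := nt_c5_K) (List.Mem.tail _ (List.Mem.tail _ (List.Mem.tail _ (List.Mem.head _)))))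

theorem nt_c5_sym : Sym 100 (grp 100 EG) [p_g70] nt_c5_K 0 :=
  Sym.of_lab p_hn p_hk (okE_cons.2 ⟨p_g70_ok, okE_nil _⟩) nt_c5_K_ok nt_c5_le (kT := 0) (by decide +kernel)

theorem T_s16 : Stab 100 (grp 100 EG) [nat_lit 3, nat_lit 2, nat_lit 0] p_V75 24 :=
  Stab.step (k := 7) (L := (lab 100 7)) p_hn T_s7 p_V75_ok (grp_mono (List.subset_append_right [p_g5, p_g6] _)) (c := (Ch.cons (nat_lit 15) [nat_lit 1, nat_lit 3] (Ch.cons (nat_lit 1) [nat_lit 5, nat_lit 7] (Ch.cons (nat_lit 4) [nat_lit 9, nat_lit 11] (Ch.cons (nat_lit 8) [nat_lit 13, nat_lit 15] Ch.nil))))) (by decide +kernel)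

theorem p_le79 : grp 100 p_V78 ≤ grp 100 p_V75 :=
  grp_le_of_memB p_hn p_hk p_V75_ok p_V78_ok (ws := [nat_lit 722689, nat_lit 0xd0b0701]) (by decide +kernel)

theorem T_s17 : Stab 100 (grp 100 EG) [nat_lit 5, nat_lit 3, nat_lit 2, nat_lit 0] p_V78 6 :=
  Stab.step (k := 7) (L := (lab 100 7)) p_hn T_s16 p_V78_ok p_le79 (c := (Ch.cons (nat_lit 60) [nat_lit 1] (Ch.cons (nat_lit 42) [nat_lit 3] Ch.nil))) (by decide +kernel)

theorem T_s18 : Stab 100 (grp 100 EG) [nat_lit 60, nat_lit 5, nat_lit 3, nat_lit 2, nat_lit 0] p_V80 2 :=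
  Stab.step (k := 7) (L := (lab 100 7)) p_hn T_s17 p_V80_ok (grp_mono (List.subset_append_right [p_g76] _)) (c := (Ch.cons (nat_lit 42) [nat_lit 1] Ch.nil)) (by decide +kernel)

theorem T_s19 : Stab 100 (grp 100 EG) [nat_lit 42, nat_lit 60, nat_lit 5, nat_lit 3, nat_lit 2, nat_lit 0] p_V81 1 :=
  Stab.step (k := 7) (L := (lab 100 7)) p_hn T_s18 p_V81_ok (grp_mono (List.subset_append_right [p_g77] _)) (c := Ch.nil) (by decide +kernel)

theorem p_g76_T : Net.toPerm 100 p_g76 ∈ (grp 100 EG) :=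
  T_s17.le (toPerm_mem_grp (E := p_V78) (List.Mem.head _))

theorem p_g77_T : Net.toPerm 100 p_g77 ∈ (grp 100 EG) :=
  T_s17.le (toPerm_mem_grp (E := p_V78) (List.Mem.tail _ (List.Mem.head _)))

noncomputable def T_s19_O : ℕ := (nat_lit 0x3333266666ccccd99999333321f07c1f03e0f83e0f83e0f83ee63398c67319ce63398c673184db24d926c93649b64db26d92000000000000000000000000100000000000000000000000040000000000000000000000008000000000000000000000002000000000010000000000000000000000000000040000000000)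

theorem T_s19_F : Frame 100 (grp 100 EG) 6 10 T_s19_O 1 1 :=
  IsBase.frame T_s19.isBase (by decide +kernel)

noncomputable def T_s18_O : ℕ := (nat_lit 0x8000000000000000000000000100000000000000000000000001000000000000000000000000080000000000000000000000002000000000000000000000000000100000000000000000000000004000000000000000000000000200000000000000000000000010000000000000000000000000080000000000000000000000002000000000000000000000000100000000000000000000000000002000000000000000000000000010000000000000000000000000200000002400000000000000000000004008000000000000000000001000100000000000000000000000802000000000000000000000004080000000000000000000001004000000000000000020000000200000000000000000002000000400000000000000000100000020000000000000000400000001000000000000000100000000010000000000000040000000000800000000000000200000000040000000000000200000000002000000000000100000000000002000000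000000000000040000004000000000000000000000004200000000000000000000080010000000000000200000000000800000000000002000000000040000000008000000000000002000000000000004000000000100000000000000000000040008000000000040000000000000100000000000000000000100008000000000800000000000000400000000000000004000000010000000000000000000800000400000000000000020000000020000000010000000000000000800000000000000800000000040008000000000000000000001000000000000000000080000080000000000000000000040004000000000000000000002000200000000000000000000008010000080000000000000000000804000000000000000000000040000000000080000000000001000000000000000000000000010000000000000000000000004000000000000000000000000800000000000000000000000200000000001000000000000000)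

theorem T_s18_F : Frame 100 (grp 100 EG) 5 59 T_s18_O 0 1 :=
  Stab.frame p_hn T_s18 (by decide +kernel)

noncomputable def T_s16_O : ℕ := (nat_lit 0x4000020000000010000000000800001000000000400000000010000800000000000800000000000008010000000000300080240004000000420000000000800001002040000002008040000008000000000002801400800000100000042008000002002100408024421800090000002020100404821000040064000440080200108081002050200000000000000000000000000100000000000000000000000040000000000000000000000008)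

theorem T_s16_F : Frame 100 (grp 100 EG) 3 14 T_s16_O 0 1 :=
  Stab.frame p_hn T_s16 (by decide +kernel)

noncomputable def nt_c5_cnt_L : List ℕ := [2, 5, T_s7_O, 0, 0, 3, 14, T_s16_O, 0, 0, 5, 59, T_s18_O, 0, 0, 6, 10, T_s19_O, 1, 0]

theorem nt_c5_cnt_P : Prob 100 7 (grp 100 EG) nt_c5_cnt_EG [p_g70] [p_g70] nt_c5_K nt_c5_cnt_L 0 0 :=
  Sym.prob p_hn p_hk nt_c5_sym nt_c5_cnt_EG_ok (grp_cons_le p_g1_T (grp_cons_le p_g2_T (grp_cons_le p_g5_T (grp_cons_le p_g6_T (grp_cons_le H47.J2P.h_g45_T (grp_cons_le H47.J2P.h_a0_T (grp_cons_le p_g11_T (grp_cons_le H47.J2P.h_g53_T (grp_cons_le MpJ2.a_T (grp_cons_le H47.J2P.h_g1_T (grp_cons_le H47.J2P.h_a19_T (grp_cons_le H47.J2P.h_a27_T (grp_cons_le H47.J2P.h_g7_T (grp_cons_le H47.J2P.h_g4_T (grp_cons_le H47.J2P.h_a8_T (grp_cons_le H47.J2P.h_g14_T (grp_cons_le H47.J2P.h_g10_T (grp_cons_le H47.J2P.h_g11_T (grp_cons_le H47.J2P.h_g21_T (grp_cons_le H47.J2P.h_g22_T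 (grp_cons_le H47.J2P.h_g17_T (grp_cons_le H47.J2P.h_g18_T (grp_cons_le p_g76_T (grp_cons_le p_g77_T (grp_nil_le _))))))))))))))))))))))))) (Frames.cons T_s7_F (Frames.cons T_s16_F (Frames.cons T_s18_F (Frames.cons T_s19_F Frames.nil)))) (okE_cons.2 ⟨p_g70_ok, okE_nil _⟩) _

noncomputable def nt_c5_cnt_t : BT := (BT.fix (nat_lit 1) (BT.br (nat_lit 0) (nat_lit 47) [nat_lit 1] (BT.kid (nat_lit 47) (nat_lit 18) (BT.dif (nat_lit 1) (nat_lit 0) (BT.br (nat_lit 0) (nat_lit 44) [nat_lit 3] (BT.kid (nat_lit 44) (nat_lit 6) (BT.frm (nat_lit 0) (nat_lit 0x10b170b) (nat_lit 0x10b170b) [nat_lit 0, nat_lit 2] (BT.pln (nat_lit 0) (nat_lit 4) (BT.and (nat_lit 5) (nat_lit 0) (BT.br (nat_lit 0) (nat_lit 45) [nat_lit 5] (BT.kid (nat_lit 45) (nat_lit 3) (BT.frm (nat_lit 1) (nat_lit 0x80b010b170b) (nat_lit 0x80b010b170b) [nat_lit 0, nat_lit 4, nat_lit 6] (BT.pln (nat_lit 0) (nat_lit 12) (BT.and (nat_lit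 4) (nat_lit 0) (BT.br (nat_lit 0) (nat_lit 62) [nat_lit 7] (BT.kid (nat_lit 62) (nat_lit 1) (BT.pln (nat_lit 3) (nat_lit 6) (BT.pln (nat_lit 4) (nat_lit 10) (BT.and (nat_lit 13) (nat_lit 0) (BT.frm (nat_lit 2) (nat_lit 0x2d09080b010b170b) (nat_lit 0x2d09080b010b170b) [nat_lit 3, nat_lit 0, nat_lit 7, nat_lit 11, nat_lit 13] (BT.pln (nat_lit 0) (nat_lit 48) (BT.and (nat_lit 4) (nat_lit 0) (BT.img (nat_lit 1) (nat_lit 0) (BT.and (nat_lit 6) (nat_lit 0) (BT.one (nat_lit 3) (nat_lit 0x2d09080b010b170b) (nat_lit 0x2d09080b010b170b) [nat_lit 0, nat_lit 8, nat_lit 5, nat_lit 12, nat_lit 16, nat_lit 18]))))))))) BT.nil))))) BT.nil))))) BT.nil))) BT.nil)))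

theorem nt_c5_cnt : Cnt 100 (grp 100 EG) [p_g70] [p_g70] 0 0 0 0 72 :=
  BT.sound nt_c5_cnt_P Known.nil (t := nt_c5_cnt_t) (d := 0) (by decide +kernel)

theorem nt_c5_ge : 72 ≤ Nat.card (grp 100 nt_c5_K) :=
  Ch.le_card_grp (k := 7) (L := (lab 100 7)) p_hn nt_c5_K_ok (c := (Ch.cons (nat_lit 47) [nat_lit 1] (Ch.cons (nat_lit 44) [nat_lit 3] (Ch.cons (nat_lit 45) [nat_lit 5] (Ch.cons (nat_lit 62) [nat_lit 7] Ch.nil))))) (by decide +kernel)

theorem nt_c5_eq : (grp 100 EG) ⊓ Subgroup.centralizer {Net.toPerm 100 p_g70} = grp 100 nt_c5_K :=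
  cent_eq nt_c5_sym nt_c5_cnt nt_c5_ge

theorem nt_c5_card : Nat.card ↥((grp 100 EG) ⊓ Subgroup.centralizer {Net.toPerm 100 p_g70}) = 72 :=
  card_cent nt_c5_sym nt_c5_cnt nt_c5_ge

theorem nt_c5_ord : orderOf (Net.toPerm 100 p_g70) = 3 :=
  orderOf_net p_hn p_hk p_g70_ok (by decide) (ps := [3]) (by set_option linter.unusedSimpArgs false in simp [Nat.primeFactorsList_ofNat]) (by decide +kernel)

theorem p_le86 : grp 100 nt_c6_K ≤ grp 100 lb_E :=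
  grp_le_of_memB p_hn p_hk lb_E_ok nt_c6_K_ok (ws := [nat_lit 0x33312d23292225010d09, nat_lit 0x332d2729251f231f050d, nat_lit 0x333127250301, nat_lit 0x3331231f210728, nat_lit 0x332d27292629050f]) (by decide +kernel)

theorem nt_c6_le : grp 100 nt_c6_K ≤ (grp 100 EG) :=
  (p_le86.trans T_s0.le)

theorem nt_c6_mem : Net.toPerm 100 p_g82 ∈ (grp 100 EG) :=
  nt_c6_le (toPerm_mem_grp (E := nt_c6_K) (List.Mem.head _))

theorem nt_c6_sym : Sym 100 (grp 100 EG) [p_g82] nt_c6_K 0 :=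
  Sym.of_lab p_hn p_hk (okE_cons.2 ⟨p_g82_ok, okE_nil _⟩) nt_c6_K_ok nt_c6_le (kT := 0) (by decide +kernel)

noncomputable def nt_c6_cnt_L : List ℕ := [2, 6, T_s2_O, 0, 0, 3, 14, T_s3_O, 0, 0, 5, 56, T_s5_O, 0, 0, 6, 10, T_s6_O, 1, 0]

theorem nt_c6_cnt_P : Prob 100 7 (grp 100 EG) nt_c6_cnt_EG [p_g82] [p_g82] nt_c6_K nt_c6_cnt_L 0 0 :=
  Sym.prob p_hn p_hk nt_c6_sym nt_c6_cnt_EG_ok (grp_cons_le p_g1_T (grp_cons_le p_g2_T (grp_cons_le p_g5_T (grp_cons_le p_g6_T (grp_cons_le H47.J2P.h_g45_T (grp_cons_le H47.J2P.h_a0_T (grp_cons_le p_g11_T (grp_cons_le H47.J2P.h_g53_T (grp_cons_le MpJ2.a_T (grp_cons_le H47.J2P.h_g1_T (grp_cons_le H47.J2P.h_a19_T (grp_cons_le H47.J2P.h_a27_T (grp_cons_le H47.J2P.h_g7_T (grp_cons_le H47.J2P.h_g4_T (grp_cons_le H47.J2P.h_a8_T (grp_cons_le H47.J2P.h_g14_T (grp_cons_le H47.J2P.h_g10_T (grp_cons_le H47.J2P.h_g11_T (grp_cons_le H47.J2P.h_g21_T (grp_cons_le H47.J2P.h_g22_T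 (grp_cons_le H47.J2P.h_g17_T (grp_cons_le H47.J2P.h_g18_T (grp_cons_le p_g26_T (grp_cons_le p_g27_T (grp_cons_le p_g28_T (grp_cons_le p_g29_T (grp_nil_le _))))))))))))))))))))))))))) (Frames.cons T_s2_F (Frames.cons T_s3_F (Frames.cons T_s5_F (Frames.cons T_s6_F Frames.nil)))) (okE_cons.2 ⟨p_g82_ok, okE_nil _⟩) _

noncomputable def nt_c6_cnt_t : BT := (BT.fix (nat_lit 257) (BT.fix (nat_lit 1) (BT.dif (nat_lit 1) (nat_lit 0) (BT.br (nat_lit 0) (nat_lit 88) [nat_lit 3] (BT.kid (nat_lit 88) (nat_lit 16) (BT.img (nat_lit 1) (nat_lit 0) (BT.frm (nat_lit 0) (nat_lit 0x20e1519) (nat_lit 0x20e1519) [nat_lit 0, nat_lit 1] (BT.pln (nat_lit 0) (nat_lit 5) (BT.and (nat_lit 4) (nat_lit 0) (BT.br (nat_lit 0) (nat_lit 1) [nat_lit 5] (BT.kid (nat_lit 1) (nat_lit 4) (BT.dif (nat_lit 2) (nat_lit 7) (BT.dif (nat_lit 0) (nat_lit 1) (BT.img (nat_lit 1) (nat_lit 2) (BT.dif (nat_lit 1) (nat_lit 0) (BT.br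 (nat_lit 0) (nat_lit 19) [nat_lit 7] (BT.kid (nat_lit 19) (nat_lit 2) (BT.frm (nat_lit 1) (nat_lit 0x20e1519) (nat_lit 0x20e1519) [nat_lit 5, nat_lit 9, nat_lit 10] (BT.pln (nat_lit 0) (nat_lit 11) (BT.br (nat_lit 0) (nat_lit 61) [nat_lit 9] (BT.dead (nat_lit 87) (BT.frm (nat_lit 2) (nat_lit 0x2f2f020e1519) (nat_lit 0x322f2f020e1519) [nat_lit 0, nat_lit 3, nat_lit 8, nat_lit 12, nat_lit 13] (BT.pln (nat_lit 0) (nat_lit 39) (BT.img (nat_lit 1) (nat_lit 2) (BT.and (nat_lit 1) (nat_lit 0) (BT.cnt (nat_lit 0)))))) (BT.kid (nat_lit 61) (nat_lit 1) (BT.img (nat_lit 1) (nat_lit 0) (BT.one (nat_lit 3) (nat_lit 0x332f2f020e1519) (nat_lit 0x332f2f020e1519) [nat_lit 0, nat_lit 1, nat_lit 4, nat_lit 9, nat_lit 13, nat_lit 14])) BT.nil))))) BT.nil)))))) BT.nil)))))) BT.nil)))))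

theorem nt_c6_cnt : Cnt 100 (grp 100 EG) [p_g82] [p_g82] 0 0 0 0 192 :=
  BT.sound nt_c6_cnt_P Known.nil (t := nt_c6_cnt_t) (d := 0) (by decide +kernel)

theorem nt_c6_ge : 192 ≤ Nat.card (grp 100 nt_c6_K) :=
  Ch.le_card_grp (k := 7) (L := (lab 100 7)) p_hn nt_c6_K_ok (c := (Ch.cons (nat_lit 88) [nat_lit 1, nat_lit 3] (Ch.cons (nat_lit 1) [nat_lit 5] (Ch.cons (nat_lit 19) [nat_lit 7] (Ch.cons (nat_lit 61) [nat_lit 9] Ch.nil))))) (by decide +kernel)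

theorem nt_c6_eq : (grp 100 EG) ⊓ Subgroup.centralizer {Net.toPerm 100 p_g82} = grp 100 nt_c6_K :=
  cent_eq nt_c6_sym nt_c6_cnt nt_c6_ge

theorem nt_c6_card : Nat.card ↥((grp 100 EG) ⊓ Subgroup.centralizer {Net.toPerm 100 p_g82}) = 192 :=
  card_cent nt_c6_sym nt_c6_cnt nt_c6_ge

theorem nt_c6_ord : orderOf (Net.toPerm 100 p_g82) = 4 :=
  orderOf_net p_hn p_hk p_g82_ok (by decide) (ps := [2]) (by set_option linter.unusedSimpArgs false in simp [Nat.primeFactorsList_ofNat]) (by decide +kernel)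

theorem p_le92 : grp 100 nt_c7_K ≤ grp 100 lb_E :=
  grp_le_of_memB p_hn p_hk lb_E_ok nt_c7_K_ok (ws := [nat_lit 0x2d272525202225012e, nat_lit 0x3327252d21010418, nat_lit 0x312d2729252d1f1f230501, nat_lit 0x332d272923202025010418, nat_lit 0x312723290321]) (by decide +kernel)

theorem nt_c7_le : grp 100 nt_c7_K ≤ (grp 100 EG) :=
  (p_le92.trans T_s0.le)

theorem nt_c7_mem : Net.toPerm 100 p_g87 ∈ (grp 100 EG) :=
  nt_c7_le (toPerm_mem_grp (E := nt_c7_K) (List.Mem.tail _ (List.Mem.head _)))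

theorem nt_c7_sym : Sym 100 (grp 100 EG) [p_g87] nt_c7_K 0 :=
  Sym.of_lab p_hn p_hk (okE_cons.2 ⟨p_g87_ok, okE_nil _⟩) nt_c7_K_ok nt_c7_le (kT := 0) (by decide +kernel)

theorem p_le95 : grp 100 p_V94 ≤ grp 100 p_V32 :=
  grp_le_of_memB p_hn p_hk p_V32_ok p_V94_ok (ws := [nat_lit 1, nat_lit 0x503030101]) (by decide +kernel)

theorem T_s20 : Stab 100 (grp 100 EG) [nat_lit 71, nat_lit 25, nat_lit 1, nat_lit 0] p_V94 8 :=
  Stab.step (k := 7) (L := (lab 100 7)) p_hn T_s3 p_V94_ok p_le95 (c := (Ch.cons (nat_lit 10) [nat_lit 1] (Ch.cons (nat_lit 38) [nat_lit 3] Ch.nil))) (by decide +kernel)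

theorem T_s21 : Stab 100 (grp 100 EG) [nat_lit 10, nat_lit 71, nat_lit 25, nat_lit 1, nat_lit 0] p_V96 2 :=
  Stab.step (k := 7) (L := (lab 100 7)) p_hn T_s20 p_V96_ok (grp_mono (List.subset_append_right [p_g27] _)) (c := (Ch.cons (nat_lit 38) [nat_lit 1] Ch.nil)) (by decide +kernel)

theorem T_s22 : Stab 100 (grp 100 EG) [nat_lit 38, nat_lit 10, nat_lit 71, nat_lit 25, nat_lit 1, nat_lit 0] p_V97 1 :=
  Stab.step (k := 7) (L := (lab 100 7)) p_hn T_s21 p_V97_ok (grp_mono (List.subset_append_right [p_g93] _)) (c := Ch.nil) (by decide +kernel)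

theorem p_g93_T : Net.toPerm 100 p_g93 ∈ (grp 100 EG) :=
  T_s20.le (toPerm_mem_grp (E := p_V94) (List.Mem.tail _ (List.Mem.head _)))

noncomputable def T_s22_O : ℕ := (nat_lit 0x3333266666ccccd99999333321f07c1f03e0f83e0f83e0f83ee63398c67319ce63398c673184db24d926c93649b64db26d92000000000000000000000000100000000000000000000000020000000000000000002000000000000080000000000000000000000000000000000000004000000000000000004000000000)

theorem T_s22_F : Frame 100 (grp 100 EG) 6 10 T_s22_O 1 1 :=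
  IsBase.frame T_s22.isBase (by decide +kernel)

noncomputable def T_s21_O : ℕ := (nat_lit 0x400000000000000000000000000040000000000000000000000000000020000000000000000000000000004000000000000000000000000002000000000000000000000000000000800000000000000000000000010000000000000000000000000400000000000000000000000002000000a00000000000000000000020000800000000000000000000200010000000000000000000004000100000000000000000000010000800000000000000000000000050000000000000000000040000080000000000000000000000014000000000000000000000004200000000000000000000000810000000000000000001000000080000000000000000200000004000000000000000080000000200000000000000000000020010000000000000000000000010800000000000000000000008040000000000000000000000201000000000000080000000000080000000000100000000000004000000000000000004000000200000000000100000000000010000000000000002000000000800000000080000000000000040000000000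00000200000000200000000000000400000000010000000000020000000000000800000000040000000000000040000000000000080000000002000000000800000000000000100000000000000010000000008000000000100000000000000400000000000000200000000020000000000000400000000001000000000000000000000000080080000000000000000000000010800000000000000000000000120000000000000000000002001000000000000000000000080080000000000000000000100004000000000000000000000040200000000000000000004000010000000000000000000002000800000000000000000000000010000000000000000000000002000000000000000000200000000000008000000000000000000000000000000000000000400)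

theorem T_s21_F : Frame 100 (grp 100 EG) 5 56 T_s21_O 0 1 :=
  Stab.frame p_hn T_s21 (by decide +kernel)

noncomputable def nt_c7_cnt_L : List ℕ := [2, 6, T_s2_O, 0, 0, 3, 14, T_s3_O, 0, 0, 5, 56, T_s21_O, 0, 0, 6, 10, T_s22_O, 1, 0]

theorem nt_c7_cnt_P : Prob 100 7 (grp 100 EG) nt_c7_cnt_EG [p_g87] [p_g87] nt_c7_K nt_c7_cnt_L 0 0 :=
  Sym.prob p_hn p_hk nt_c7_sym nt_c7_cnt_EG_ok (grp_cons_le p_g1_T (grp_cons_le p_g2_T (grp_cons_le p_g5_T (grp_cons_le p_g6_T (grp_cons_le H47.J2P.h_g45_T (grp_cons_le H47.J2P.h_a0_T (grp_cons_le p_g11_T (grp_cons_le H47.J2P.h_g53_T (grp_cons_le MpJ2.a_T (grp_cons_le H47.J2P.h_g1_T (grp_cons_le H47.J2P.h_a19_T (grp_cons_le H47.J2P.h_a27_T (grp_cons_le H47.J2P.h_g7_T (grp_cons_le H47.J2P.h_g4_T (grp_cons_le H47.J2P.h_a8_T (grp_cons_le H47.J2P.h_g14_T (grp_cons_le H47.J2P.h_g10_T (grp_cons_le H47.J2P.h_g11_T (grp_cons_le H47.J2P.h_g21_T (grp_cons_le H47.J2P.h_g22_T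 (grp_cons_le H47.J2P.h_g17_T (grp_cons_le H47.J2P.h_g18_T (grp_cons_le p_g26_T (grp_cons_le p_g27_T (grp_cons_le p_g28_T (grp_cons_le p_g29_T (grp_cons_le p_g93_T (grp_nil_le _)))))))))))))))))))))))))))) (Frames.cons T_s2_F (Frames.cons T_s3_F (Frames.cons T_s21_F (Frames.cons T_s22_F Frames.nil)))) (okE_cons.2 ⟨p_g87_ok, okE_nil _⟩) _

noncomputable def nt_c7_cnt_t : BT := (BT.fix (nat_lit 1) (BT.br (nat_lit 0) (nat_lit 49) [nat_lit 1] (BT.kid (nat_lit 49) (nat_lit 48) (BT.dif (nat_lit 1) (nat_lit 0) (BT.frm (nat_lit 0) (nat_lit 0x50a110b) (nat_lit 0x50a110b) [nat_lit 0, nat_lit 1] (BT.pln (nat_lit 0) (nat_lit 5) (BT.br (nat_lit 0) (nat_lit 99) [nat_lit 3, nat_lit 5] (BT.kid (nat_lit 99) (nat_lit 8) (BT.frm (nat_lit 1) (nat_lit 0x50a110b) (nat_lit 0x50a110b) [nat_lit 0, nat_lit 3, nat_lit 4] (BT.pln (nat_lit 0) (nat_lit 11) (BT.br (nat_lit 0) (nat_lit 22) [nat_lit 7] (BT.kid (nat_lit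 22) (nat_lit 2) (BT.img (nat_lit 1) (nat_lit 0) (BT.frm (nat_lit 2) (nat_lit 0x2f050a110b) (nat_lit 0x2f050a110b) [nat_lit 0, nat_lit 1, nat_lit 4, nat_lit 7, nat_lit 8] (BT.pln (nat_lit 0) (nat_lit 24) (BT.br (nat_lit 0) (nat_lit 67) [nat_lit 9] (BT.kid (nat_lit 67) (nat_lit 1) (BT.one (nat_lit 3) (nat_lit 0x352f050a110b) (nat_lit 0x352f050a110b) [nat_lit 0, nat_lit 3, nat_lit 4, nat_lit 7, nat_lit 10, nat_lit 11]) BT.nil))))) BT.nil)))) BT.nil))))) BT.nil)))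

theorem nt_c7_cnt : Cnt 100 (grp 100 EG) [p_g87] [p_g87] 0 0 0 0 96 :=
  BT.sound nt_c7_cnt_P Known.nil (t := nt_c7_cnt_t) (d := 0) (by decide +kernel)

theorem nt_c7_ge : 96 ≤ Nat.card (grp 100 nt_c7_K) :=
  Ch.le_card_grp (k := 7) (L := (lab 100 7)) p_hn nt_c7_K_ok (c := (Ch.cons (nat_lit 49) [nat_lit 1] (Ch.cons (nat_lit 99) [nat_lit 3, nat_lit 5] (Ch.cons (nat_lit 22) [nat_lit 7] (Ch.cons (nat_lit 67) [nat_lit 9] Ch.nil))))) (by decide +kernel)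

theorem nt_c7_eq : (grp 100 EG) ⊓ Subgroup.centralizer {Net.toPerm 100 p_g87} = grp 100 nt_c7_K :=
  cent_eq nt_c7_sym nt_c7_cnt nt_c7_ge

theorem nt_c7_card : Nat.card ↥((grp 100 EG) ⊓ Subgroup.centralizer {Net.toPerm 100 p_g87}) = 96 :=
  card_cent nt_c7_sym nt_c7_cnt nt_c7_ge

theorem nt_c7_ord : orderOf (Net.toPerm 100 p_g87) = 4 :=
  orderOf_net p_hn p_hk p_g87_ok (by decide) (ps := [2]) (by set_option linter.unusedSimpArgs false in simp [Nat.primeFactorsList_ofNat]) (by decide +kernel)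

theorem p_le100 : grp 100 nt_c8_K ≤ grp 100 lb_E :=
  grp_le_of_memB p_hn p_hk lb_E_ok nt_c8_K_ok (ws := [nat_lit 0x33272923291f2522012d, nat_lit 0x33312d27260302, nat_lit 0x2d2726231f26]) (by decide +kernel)

theorem nt_c8_le : grp 100 nt_c8_K ≤ (grp 100 EG) :=
  (p_le100.trans T_s0.le)

theorem nt_c8_mem : Net.toPerm 100 p_g98 ∈ (grp 100 EG) :=
  nt_c8_le (toPerm_mem_grp (E := nt_c8_K) (List.Mem.head _))

theorem nt_c8_sym : Sym 100 (grp 100 EG) [p_g98] nt_c8_K 0 :=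
  Sym.of_lab p_hn p_hk (okE_cons.2 ⟨p_g98_ok, okE_nil _⟩) nt_c8_K_ok nt_c8_le (kT := 0) (by decide +kernel)

noncomputable def T_s10_O : ℕ := (nat_lit 0x400000000000000000000000004000000000000000000000000004000000000000000000000000000800000000000000000000000000100000000000000000000000001000000000000000000000000040000000000000000000000000080000000000000000000000001000000000000000000000000010000000000000000000000000000002000000000000000000000000010000000000000000000000000200000000000000000000000000400000000000000000000000020000018000000000000000000000200200000000000000000000000410000000000000000000008000008000000000000000000000020002000000000000000000001000040000000000000020000000002000000000000000000000040100000000000000000000002000400000000000004000000000004000000000000000000000008200000000002000000000000010000000000000000000000020800000000000002000000000040000000000000000008000002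00000000001000000000000004000000000000040000000000200000000100000000000000010000000000000000000040000800000000001000000000000040000000000000400000000002000000000000004000000000100000000000000000100000008000000000000004000000000100000000000000200000000008000000000000000800000000400000001000000000000000010000008000000000000000000400000000000000002000000020000000000020000000000000800000080000000000000000040000000000000000000800001000800000000000000000000080000000000000000000040004000000000000000000002000200000000000000000000008010000000000000800000000000800000800000000000000000010000000080000000000000000800000000000000000000000010000000000000000000000004000000000000000100000000000020000000000000000000000000000100000000000000000)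

theorem T_s10_F : Frame 100 (grp 100 EG) 5 59 T_s10_O 0 1 :=
  Stab.frame p_hn T_s10 (by decide +kernel)

noncomputable def nt_c8_cnt_L : List ℕ := [1, 2, T_s1_O, 0, 0, 4, 39, T_s9_O, 0, 0, 5, 59, T_s10_O, 0, 0, 6, 10, T_s11_O, 1, 0]

theorem nt_c8_cnt_P : Prob 100 7 (grp 100 EG) nt_c8_cnt_EG [p_g98] [p_g98] nt_c8_K nt_c8_cnt_L 0 0 :=
  Sym.prob p_hn p_hk nt_c8_sym nt_c8_cnt_EG_ok (grp_cons_le MpJ2.a_T (grp_cons_le H47.J2P.h_g1_T (grp_cons_le H47.J2P.h_a19_T (grp_cons_le H47.J2P.h_a27_T (grp_cons_le H47.J2P.h_g7_T (grp_cons_le H47.J2P.h_a0_T (grp_cons_le H47.J2P.h_g4_T (grp_cons_le H47.J2P.h_a8_T (grp_cons_le H47.J2P.h_g14_T (grp_cons_le H47.J2P.h_g10_T (grp_cons_le H47.J2P.h_g11_T (grp_cons_le H47.J2P.h_g21_T (grp_cons_le H47.J2P.h_g22_T (grp_cons_le H47.J2P.h_g17_T (grp_cons_le H47.J2P.h_g18_T (grp_cons_le p_g1_T (grp_cons_le p_g2_T (grp_cons_le p_g5_T (grp_cons_le p_g6_T (grp_cons_le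 H47.J2P.h_g45_T (grp_cons_le p_g11_T (grp_cons_le H47.J2P.h_g53_T (grp_cons_le p_g44_T (grp_cons_le p_g45_T (grp_cons_le p_g46_T (grp_nil_le _)))))))))))))))))))))))))) (Frames.cons T_s1_F (Frames.cons T_s9_F (Frames.cons T_s10_F (Frames.cons T_s11_F Frames.nil)))) (okE_cons.2 ⟨p_g98_ok, okE_nil _⟩) _

noncomputable def nt_c8_cnt_t : BT := (BT.br (nat_lit 2) (nat_lit 0) [nat_lit 3, nat_lit 5] (BT.dead (nat_lit 3) (BT.img (nat_lit 1) (nat_lit 0) (BT.img (nat_lit 1) (nat_lit 0) (BT.img (nat_lit 1) (nat_lit 0) (BT.frm (nat_lit 1) (nat_lit 0x2d2a2322) (nat_lit 0x2d0b282026020a) [nat_lit 0, nat_lit 1, nat_lit 2, nat_lit 3] (BT.pln (nat_lit 0) (nat_lit 22) (BT.br (nat_lit 0) (nat_lit 18) [nat_lit 5] (BT.dead (nat_lit 85) (BT.frm (nat_lit 2) (nat_lit 0x2f2d2a2322) (nat_lit 0x2f2d0b282026020a) [nat_lit 0, nat_lit 3, nat_lit 4, nat_lit 5, nat_lit 6] (BT.pln (nat_lit 0) (nat_lit 55) (BT.img (nat_lit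 1) (nat_lit 2) (BT.img (nat_lit 1) (nat_lit 0) (BT.and (nat_lit 2) (nat_lit 0) (BT.cnt (nat_lit 0))))))) BT.nil))))))) (BT.dead (nat_lit 9) (BT.frm (nat_lit 0) (nat_lit 0) (nat_lit 66591) [nat_lit 0] (BT.pln (nat_lit 0) (nat_lit 1) (BT.img (nat_lit 1) (nat_lit 2) (BT.and (nat_lit 1) (nat_lit 0) (BT.cnt (nat_lit 0)))))) (BT.dead (nat_lit 44) (BT.frm (nat_lit 0) (nat_lit 0) (nat_lit 271) [nat_lit 0] (BT.pln (nat_lit 0) (nat_lit 1) (BT.img (nat_lit 1) (nat_lit 2) (BT.img (nat_lit 1) (nat_lit 0) (BT.and (nat_lit 2) (nat_lit 0) (BT.cnt (nat_lit 0))))))) (BT.dead (nat_lit 21) (BT.frm (nat_lit 0) (nat_lit 0) (nat_lit 769) [nat_lit 0] (BT.pln (nat_lit 0) (nat_lit 1) (BT.img (nat_lit 1) (nat_lit 2) (BT.img (nat_lit 1) (nat_lit 0) (BT.and (nat_lit 2) (nat_lit 0) (BT.cnt (nat_lit 0))))))) (BT.dead (nat_lit 4) (BT.frm (nat_lit 0) (nat_lit 0) (nat_lit 277) [nat_lit 0] (BT.pln (nat_lit 0) (nat_lit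 1) (BT.img (nat_lit 1) (nat_lit 2) (BT.and (nat_lit 1) (nat_lit 0) (BT.cnt (nat_lit 0)))))) (BT.dead (nat_lit 2) (BT.frm (nat_lit 0) (nat_lit 0) (nat_lit 276) [nat_lit 0] (BT.pln (nat_lit 0) (nat_lit 1) (BT.img (nat_lit 1) (nat_lit 2) (BT.and (nat_lit 1) (nat_lit 0) (BT.cnt (nat_lit 0)))))) (BT.kid (nat_lit 0) (nat_lit 2) (BT.img (nat_lit 1) (nat_lit 0) (BT.img (nat_lit 1) (nat_lit 0) (BT.img (nat_lit 1) (nat_lit 0) (BT.frm (nat_lit 1) (nat_lit 0x2d2a2322) (nat_lit 0x2d2a2322) [nat_lit 0, nat_lit 1, nat_lit 2, nat_lit 3] (BT.pln (nat_lit 0) (nat_lit 22) (BT.br (nat_lit 0) (nat_lit 18) [nat_lit 5] (BT.kid (nat_lit 18) (nat_lit 1) (BT.img (nat_lit 1) (nat_lit 0) (BT.one (nat_lit 3) (nat_lit 0x312f2d2a2322) (nat_lit 0x312f2d2a2322) [nat_lit 0, nat_lit 1, nat_lit 4, nat_lit 5, nat_lit 6, nat_lit 7])) BT.nil))))))) BT.nil))))))))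

theorem nt_c8_cnt : Cnt 100 (grp 100 EG) [p_g98] [p_g98] 0 0 0 0 24 :=
  BT.sound nt_c8_cnt_P Known.nil (t := nt_c8_cnt_t) (d := 0) (by decide +kernel)

theorem nt_c8_ge : 24 ≤ Nat.card (grp 100 nt_c8_K) :=
  Ch.le_card_grp (k := 7) (L := (lab 100 7)) p_hn nt_c8_K_ok (c := (Ch.cons (nat_lit 0) [nat_lit 1, nat_lit 3] (Ch.cons (nat_lit 18) [nat_lit 5] Ch.nil))) (by decide +kernel)

theorem nt_c8_eq : (grp 100 EG) ⊓ Subgroup.centralizer {Net.toPerm 100 p_g98} = grp 100 nt_c8_K :=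
  cent_eq nt_c8_sym nt_c8_cnt nt_c8_ge

theorem nt_c8_card : Nat.card ↥((grp 100 EG) ⊓ Subgroup.centralizer {Net.toPerm 100 p_g98}) = 24 :=
  card_cent nt_c8_sym nt_c8_cnt nt_c8_ge

theorem nt_c8_ord : orderOf (Net.toPerm 100 p_g98) = 4 :=
  orderOf_net p_hn p_hk p_g98_ok (by decide) (ps := [2]) (by set_option linter.unusedSimpArgs false in simp [Nat.primeFactorsList_ofNat]) (by decide +kernel)

theorem p_le105 : grp 100 nt_c9_K ≤ grp 100 lb_E :=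
  grp_le_of_memB p_hn p_hk lb_E_ok nt_c9_K_ok (ws := [nat_lit 0x2d252d1f010d09, nat_lit 0x31272320200401, nat_lit 0x3326261f1f25]) (by decide +kernel)

theorem nt_c9_le : grp 100 nt_c9_K ≤ (grp 100 EG) :=
  (p_le105.trans T_s0.le)

theorem nt_c9_mem : Net.toPerm 100 p_g101 ∈ (grp 100 EG) :=
  nt_c9_le (mem_grp_of_memB p_hn p_hk nt_c9_K_ok p_g101_ok (w := (nat_lit 0x5010501)) (by decide +kernel))

theorem nt_c9_sym : Sym 100 (grp 100 EG) [p_g101] nt_c9_K 0 :=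
  Sym.of_lab p_hn p_hk (okE_cons.2 ⟨p_g101_ok, okE_nil _⟩) nt_c9_K_ok nt_c9_le (kT := 0) (by decide +kernel)

theorem p_le109 : grp 100 p_V108 ≤ grp 100 p_V30 :=
  grp_le_of_memB p_hn p_hk p_V30_ok p_V108_ok (ws := [nat_lit 1795, nat_lit 0x5050104]) (by decide +kernel)

theorem T_s23 : Stab 100 (grp 100 EG) [nat_lit 89, nat_lit 1, nat_lit 0] p_V108 6 :=
  Stab.step (k := 7) (L := (lab 100 7)) p_hn T_s2 p_V108_ok p_le109 (c := (Ch.cons (nat_lit 77) [nat_lit 1] (Ch.cons (nat_lit 35) [nat_lit 3] Ch.nil))) (by decide +kernel)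

theorem T_s24 : Stab 100 (grp 100 EG) [nat_lit 77, nat_lit 89, nat_lit 1, nat_lit 0] p_V110 3 :=
  Stab.step (k := 7) (L := (lab 100 7)) p_hn T_s23 p_V110_ok (grp_mono (List.subset_append_right [p_g106] _)) (c := (Ch.cons (nat_lit 35) [nat_lit 1] Ch.nil)) (by decide +kernel)

theorem T_s25 : Stab 100 (grp 100 EG) [nat_lit 35, nat_lit 77, nat_lit 89, nat_lit 1, nat_lit 0] p_V111 1 :=
  Stab.step (k := 7) (L := (lab 100 7)) p_hn T_s24 p_V111_ok (grp_mono (List.subset_append_right [p_g107] _)) (c := Ch.nil) (by decide +kernel)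

theorem p_g106_T : Net.toPerm 100 p_g106 ∈ (grp 100 EG) :=
  T_s23.le (toPerm_mem_grp (E := p_V108) (List.Mem.head _))

theorem p_g107_T : Net.toPerm 100 p_g107 ∈ (grp 100 EG) :=
  T_s23.le (toPerm_mem_grp (E := p_V108) (List.Mem.tail _ (List.Mem.head _)))

noncomputable def T_s25_O : ℕ := (nat_lit 0x3333266666ccccd99999333321f07c1f03e0f83e0f83e0f83ee63398c67319ce63398c673184db24d926c93649b64db26d9200000000000000000000000010000000000000000000000002002000000000000000000000000000200000000000000000000000000000000000800000000)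

theorem T_s25_F : Frame 100 (grp 100 EG) 5 9 T_s25_O 1 1 :=
  IsBase.frame T_s25.isBase (by decide +kernel)

noncomputable def T_s24_O : ℕ := (nat_lit 0x10000000000000000000000000000040000000000000000000000000000000080000000000000000000000000100000000000000000000000004000000000000000000000000020000000808000200000000000000000010000404000000000000000000810000200000000000000000040000810000000000000000000008008000800000000000000000080004040000000000000000001000202000000000000000001010000100000000000002000000008000800000000000020040000000040000000000000402000000002000000000004000000001000100000000000000000000000004c000000000000000000000003200000000000000000000000008c00000000000000000000000310000000000000000000000000a800000000000000000000000540000000000000104000000002000000004000000008000000010000000000000000000000014800000000000000000000000a400000020000000010000000020000001000000004000000001000000000008020000000000080000000000408000000000004000000000020100000000000200000800000000200000000010000000000000000000000000980000000000000000000000001000000000000000000000000200200000000000000000000000000020000000000000000000)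

theorem T_s24_F : Frame 100 (grp 100 EG) 4 39 T_s24_O 0 1 :=
  Stab.frame p_hn T_s24 (by decide +kernel)

noncomputable def nt_c9_cnt_L : List ℕ := [4, 39, T_s24_O, 0, 0, 5, 9, T_s25_O, 1, 0]

theorem nt_c9_cnt_P : Prob 100 7 (grp 100 EG) nt_c9_cnt_EG [p_g101] [p_g101] nt_c9_K nt_c9_cnt_L 0 0 :=
  Sym.prob p_hn p_hk nt_c9_sym nt_c9_cnt_EG_ok (grp_cons_le p_g106_T (grp_cons_le p_g107_T (grp_cons_le p_g26_T (grp_cons_le p_g27_T (grp_cons_le p_g28_T (grp_cons_le p_g29_T (grp_cons_le p_g1_T (grp_cons_le p_g2_T (grp_cons_le p_g5_T (grp_cons_le p_g6_T (grp_cons_le H47.J2P.h_g45_T (grp_cons_le H47.J2P.h_a0_T (grp_cons_le p_g11_T (grp_cons_le H47.J2P.h_g53_T (grp_cons_le MpJ2.a_T (grp_cons_le H47.J2P.h_g1_T (grp_cons_le H47.J2P.h_a19_T (grp_cons_le H47.J2P.h_a27_T (grp_cons_le H47.J2P.h_g7_T (grp_cons_le H47.J2P.h_g4_T (grp_cons_le H47.J2P.h_a8_T (grp_cons_le H47.J2P.h_g14_T (grp_cons_le H47.J2P.h_g10_T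 (grp_cons_le H47.J2P.h_g11_T (grp_cons_le H47.J2P.h_g21_T (grp_cons_le H47.J2P.h_g22_T (grp_cons_le H47.J2P.h_g17_T (grp_cons_le H47.J2P.h_g18_T (grp_nil_le _))))))))))))))))))))))))))))) (Frames.cons T_s24_F (Frames.cons T_s25_F Frames.nil)) (okE_cons.2 ⟨p_g101_ok, okE_nil _⟩) _

noncomputable def nt_c9_cnt_t : BT := (BT.br (nat_lit 2) (nat_lit 0) [nat_lit 1, nat_lit 3] (BT.kid (nat_lit 0) (nat_lit 3) (BT.img (nat_lit 1) (nat_lit 0) (BT.img (nat_lit 1) (nat_lit 0) (BT.img (nat_lit 1) (nat_lit 0) (BT.frm (nat_lit 0) (nat_lit 0x80d0d19) (nat_lit 0x80d0d19) [nat_lit 0, nat_lit 1, nat_lit 2, nat_lit 3] (BT.pln (nat_lit 0) (nat_lit 18) (BT.br (nat_lit 0) (nat_lit 51) [nat_lit 5] (BT.kid (nat_lit 51) (nat_lit 1) (BT.one (nat_lit 1) (nat_lit 0x4080d0d19) (nat_lit 0x4080d0d19) [nat_lit 0, nat_lit 3, nat_lit 4, nat_lit 5, nat_lit 6]) BT.nil))))))) BT.nil))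

theorem nt_c9_cnt : Cnt 100 (grp 100 EG) [p_g101] [p_g101] 0 0 0 0 300 :=
  BT.sound nt_c9_cnt_P Known.nil (t := nt_c9_cnt_t) (d := 0) (by decide +kernel)

theorem nt_c9_ge : 300 ≤ Nat.card (grp 100 nt_c9_K) :=
  Ch.le_card_grp (k := 7) (L := (lab 100 7)) p_hn nt_c9_K_ok (c := (Ch.cons (nat_lit 0) [nat_lit 1, nat_lit 3] (Ch.cons (nat_lit 51) [nat_lit 5] Ch.nil))) (by decide +kernel)

theorem nt_c9_eq : (grp 100 EG) ⊓ Subgroup.centralizer {Net.toPerm 100 p_g101} = grp 100 nt_c9_K :=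
  cent_eq nt_c9_sym nt_c9_cnt nt_c9_ge

theorem nt_c9_card : Nat.card ↥((grp 100 EG) ⊓ Subgroup.centralizer {Net.toPerm 100 p_g101}) = 300 :=
  card_cent nt_c9_sym nt_c9_cnt nt_c9_ge

theorem nt_c9_ord : orderOf (Net.toPerm 100 p_g101) = 5 :=
  orderOf_net p_hn p_hk p_g101_ok (by decide) (ps := [5]) (by set_option linter.unusedSimpArgs false in simp [Nat.primeFactorsList_ofNat]) (by decide +kernel)

theorem p_le114 : grp 100 nt_c10_K ≤ grp 100 lb_E :=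
  grp_le_of_memB p_hn p_hk lb_E_ok nt_c10_K_ok (ws := [nat_lit 0x2525202601, nat_lit 0x31272923202029010f, nat_lit 13105]) (by decide +kernel)

theorem nt_c10_le : grp 100 nt_c10_K ≤ (grp 100 EG) :=
  (p_le114.trans T_s0.le)

theorem nt_c10_mem : Net.toPerm 100 p_g112 ∈ (grp 100 EG) :=
  nt_c10_le (toPerm_mem_grp (E := nt_c10_K) (List.Mem.head _))

theorem nt_c10_sym : Sym 100 (grp 100 EG) [p_g112] nt_c10_K 0 :=
  Sym.of_lab p_hn p_hk (okE_cons.2 ⟨p_g112_ok, okE_nil _⟩) nt_c10_K_ok nt_c10_le (kT := 0) (by decide +kernel)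

theorem p_le117 : grp 100 p_V116 ≤ grp 100 p_V49 :=
  grp_le_of_memB p_hn p_hk p_V49_ok p_V116_ok (ws := [nat_lit 769]) (by decide +kernel)

theorem T_s26 : Stab 100 (grp 100 EG) [nat_lit 22, nat_lit 85, nat_lit 36, nat_lit 2, nat_lit 0] p_V116 2 :=
  Stab.step (k := 7) (L := (lab 100 7)) p_hn T_s9 p_V116_ok p_le117 (c := (Ch.cons (nat_lit 57) [nat_lit 1] Ch.nil)) (by decide +kernel)

theorem T_s27 : Stab 100 (grp 100 EG) [nat_lit 57, nat_lit 22, nat_lit 85, nat_lit 36, nat_lit 2, nat_lit 0] p_V118 1 :=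
  Stab.step (k := 7) (L := (lab 100 7)) p_hn T_s26 p_V118_ok (grp_mono (List.subset_append_right [p_g115] _)) (c := Ch.nil) (by decide +kernel)

theorem p_g115_T : Net.toPerm 100 p_g115 ∈ (grp 100 EG) :=
  T_s26.le (toPerm_mem_grp (E := p_V116) (List.Mem.head _))

noncomputable def T_s27_O : ℕ := (nat_lit 0x3333266666ccccd99999333321f07c1f03e0f83e0f83e0f83ee63398c67319ce63398c673184db24d926c93649b64db26d92000000000000000000000000100000000000000000000000040000000000000001000000000000200000000000000000000000000000000000000004000000000000000200000000000000)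

theorem T_s27_F : Frame 100 (grp 100 EG) 6 10 T_s27_O 1 1 :=
  IsBase.frame T_s27.isBase (by decide +kernel)

noncomputable def T_s26_O : ℕ := (nat_lit 0x4000000000000000000000000100000000000000000000000004000000000000000000000000000000000800000000000000000000000040000000000000000000000001000000000000000000000000008000000000000000000000000200000000000000000000000010000000000000000000000000100000000000000000000000000010000000000000000000000000080000000000000000000000000200000000000000000000000002000000000000000000000000000400800080000000000000000000200004000000000000000000000010200000000000000000000008010000000000000000000000400800000000000000000080000040000000000000000000000000040080000000000000010000000004000000000000002000000000200000000000000010000000010000000000000000000000020400000000000000000002000000800000000000040000000000040000000000000000000000082000000000000000004000000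0800000000000000000200000040000000000000000080000000800000000000000100000000040000000000000000000000102000000000000002000000000080000000002000000000000004000000000000000000002000100000000000000002000000004000000000000000800000000200000000002000000000000008000000000000004000000000100000000010000000000000004000000000001000000000000100000000400000000000000004000000000001000000000000200000800000000000000000010000000000000000000020000800000000000000040000000040000000000000000020000002000000000800000000000000100000000000000000000100008000000000010000000000000200000800000000000000000010000000000000000000008000800000000000000000000000010000000000000000000000004000000000000000100000000000020000000000000000000000000000000000000000400000)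

theorem T_s26_F : Frame 100 (grp 100 EG) 5 59 T_s26_O 0 1 :=
  Stab.frame p_hn T_s26 (by decide +kernel)

noncomputable def nt_c10_cnt_L : List ℕ := [1, 2, T_s1_O, 0, 0, 2, 5, T_s7_O, 0, 0, 3, 17, T_s8_O, 0, 0, 5, 59, T_s26_O, 0, 0, 6, 10, T_s27_O, 1, 0]

theorem nt_c10_cnt_P : Prob 100 7 (grp 100 EG) nt_c10_cnt_EG [p_g112] [p_g112] nt_c10_K nt_c10_cnt_L 0 0 :=
  Sym.prob p_hn p_hk nt_c10_sym nt_c10_cnt_EG_ok (grp_cons_le MpJ2.a_T (grp_cons_le H47.J2P.h_g1_T (grp_cons_le H47.J2P.h_a19_T (grp_cons_le H47.J2P.h_a27_T (grp_cons_le H47.J2P.h_g7_T (grp_cons_le H47.J2P.h_a0_T (grp_cons_le H47.J2P.h_g4_T (grp_cons_le H47.J2P.h_a8_T (grp_cons_le H47.J2P.h_g14_T (grp_cons_le H47.J2P.h_g10_T (grp_cons_le H47.J2P.h_g11_T (grp_cons_le H47.J2P.h_g21_T (grp_cons_le H47.J2P.h_g22_T (grp_cons_le H47.J2P.h_g17_T (grp_cons_le H47.J2P.h_g18_T (grp_cons_le p_g1_T (grp_cons_le p_g2_T (grp_cons_le p_g5_T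 (grp_cons_le p_g6_T (grp_cons_le H47.J2P.h_g45_T (grp_cons_le p_g11_T (grp_cons_le H47.J2P.h_g53_T (grp_cons_le p_g45_T (grp_cons_le p_g46_T (grp_cons_le p_g44_T (grp_cons_le p_g115_T (grp_nil_le _))))))))))))))))))))))))))) (Frames.cons T_s1_F (Frames.cons T_s7_F (Frames.cons T_s8_F (Frames.cons T_s26_F (Frames.cons T_s27_F Frames.nil))))) (okE_cons.2 ⟨p_g112_ok, okE_nil _⟩) _

noncomputable def nt_c10_cnt_t : BT := (BT.br (nat_lit 2) (nat_lit 0) [nat_lit 1, nat_lit 3] (BT.dead (nat_lit 2) (BT.img (nat_lit 1) (nat_lit 0) (BT.img (nat_lit 1) (nat_lit 0) (BT.frm (nat_lit 2) (nat_lit 0x2a2129) (nat_lit 0xb2620200b0114) [nat_lit 0, nat_lit 1, nat_lit 2] (BT.pln (nat_lit 0) (nat_lit 5) (BT.frm (nat_lit 0) (nat_lit 0) (nat_lit 276) [nat_lit 4] (BT.pln (nat_lit 0) (nat_lit 1) (BT.dif (nat_lit 9) (nat_lit 0) (BT.dif (nat_lit 1) (nat_lit 6) (BT.img (nat_lit 1) (nat_lit 6) (BT.img (nat_lit 1)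 (nat_lit 0) (BT.dif (nat_lit 2) (nat_lit 0) (BT.img (nat_lit 1) (nat_lit 0) (BT.and (nat_lit 5) (nat_lit 0) (BT.and (nat_lit 7) (nat_lit 1) (BT.img (nat_lit 1) (nat_lit 0) (BT.and (nat_lit 2) (nat_lit 0) (BT.and (nat_lit 10) (nat_lit 1) (BT.img (nat_lit 1) (nat_lit 0) (BT.dif (nat_lit 2) (nat_lit 0) (BT.img (nat_lit 1) (nat_lit 0) (BT.and (nat_lit 13) (nat_lit 0) (BT.img (nat_lit 1) (nat_lit 0) (BT.and (nat_lit 15) (nat_lit 0) (BT.img (nat_lit 1) (nat_lit 0) (BT.and (nat_lit 20) (nat_lit 0) (BT.cnt (nat_lit 0))))))))))))))))))))))))))) (BT.dead (nat_lit 6) (BT.frm (nat_lit 0) (nat_lit 0) (nat_lit 536) [nat_lit 0] (BT.pln (nat_lit 0) (nat_lit 1) (BT.img (nat_lit 1) (nat_lit 2) (BT.and (nat_lit 1) (nat_lit 0) (BT.cnt (nat_lit 0)))))) (BT.dead (nat_lit 3) (BT.frm (nat_lit 0) (nat_lit 0) (nat_lit 522) [nat_lit 0] (BT.pln (nat_lit 0) (nat_lit 1) (BT.img (nat_lit 1) (nat_lit 2) (BT.and (nat_lit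 1) (nat_lit 0) (BT.cnt (nat_lit 0)))))) (BT.kid (nat_lit 0) (nat_lit 2) (BT.frm (nat_lit 0) (nat_lit 0) (nat_lit 0) [nat_lit 0] (BT.pln (nat_lit 0) (nat_lit 1) (BT.dif (nat_lit 5) (nat_lit 0) (BT.img (nat_lit 1) (nat_lit 3) (BT.frm (nat_lit 1) (nat_lit 8489) (nat_lit 8489) [nat_lit 0, nat_lit 4] (BT.pln (nat_lit 0) (nat_lit 2) (BT.dif (nat_lit 3) (nat_lit 0) (BT.img (nat_lit 1) (nat_lit 3) (BT.frm (nat_lit 2) (nat_lit 0x2a2129) (nat_lit 0x2a2129) [nat_lit 0, nat_lit 4, nat_lit 8] (BT.pln (nat_lit 0) (nat_lit 8) (BT.dif (nat_lit 3) (nat_lit 0) (BT.pln (nat_lit 2) (nat_lit 9) (BT.dif (nat_lit 1) (nat_lit 0) (BT.pln (nat_lit 4) (nat_lit 10) (BT.dif (nat_lit 1) (nat_lit 0) (BT.pln (nat_lit 6) (nat_lit 15) (BT.dif (nat_lit 1) (nat_lit 0) (BT.dif (nat_lit 0) (nat_lit 17) (BT.img (nat_lit 1) (nat_lit 2) (BT.dif (nat_lit 1) (nat_lit 0) (BT.img (nat_lit 1) (nat_lit 1) (BT.dif (nat_lit 1) (nat_lit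 0) (BT.pln (nat_lit 17) (nat_lit 4) (BT.pln (nat_lit 14) (nat_lit 4) (BT.and (nat_lit 1) (nat_lit 0) (BT.pln (nat_lit 16) (nat_lit 12) (BT.dif (nat_lit 24) (nat_lit 22) (BT.img (nat_lit 1) (nat_lit 19) (BT.img (nat_lit 1) (nat_lit 0) (BT.dif (nat_lit 2) (nat_lit 0) (BT.img (nat_lit 1) (nat_lit 0) (BT.and (nat_lit 28) (nat_lit 0) (BT.and (nat_lit 30) (nat_lit 1) (BT.img (nat_lit 1) (nat_lit 0) (BT.dif (nat_lit 2) (nat_lit 0) (BT.img (nat_lit 1) (nat_lit 0) (BT.dif (nat_lit 10) (nat_lit 0) (BT.img (nat_lit 1) (nat_lit 0) (BT.and (nat_lit 13) (nat_lit 0) (BT.frm (nat_lit 3) (nat_lit 0x2a2129) (nat_lit 0x2a2129) [nat_lit 0, nat_lit 2, nat_lit 31, nat_lit 35, nat_lit 39] (BT.pln (nat_lit 0) (nat_lit 33) (BT.and (nat_lit 19) (nat_lit 0) (BT.br (nat_lit 0) (nat_lit 69) [nat_lit 5] (BT.kid (nat_lit 69) (nat_lit 1) (BT.one (nat_lit 4) (nat_lit 0x2a2129) (nat_lit 0x2a2129) [nat_lit 0, nat_lit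 4, nat_lit 6, nat_lit 35, nat_lit 39, nat_lit 43]) BT.nil)))))))))))))))))))))))))))))))))))))))))))) BT.nil)))))

theorem nt_c10_cnt : Cnt 100 (grp 100 EG) [p_g112] [p_g112] 0 0 0 0 50 :=
  BT.sound nt_c10_cnt_P Known.nil (t := nt_c10_cnt_t) (d := 0) (by decide +kernel)

theorem nt_c10_ge : 50 ≤ Nat.card (grp 100 nt_c10_K) :=
  Ch.le_card_grp (k := 7) (L := (lab 100 7)) p_hn nt_c10_K_ok (c := (Ch.cons (nat_lit 0) [nat_lit 1, nat_lit 3] (Ch.cons (nat_lit 69) [nat_lit 5] Ch.nil))) (by decide +kernel)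

theorem nt_c10_eq : (grp 100 EG) ⊓ Subgroup.centralizer {Net.toPerm 100 p_g112} = grp 100 nt_c10_K :=
  cent_eq nt_c10_sym nt_c10_cnt nt_c10_ge

theorem nt_c10_card : Nat.card ↥((grp 100 EG) ⊓ Subgroup.centralizer {Net.toPerm 100 p_g112}) = 50 :=
  card_cent nt_c10_sym nt_c10_cnt nt_c10_ge

theorem nt_c10_ord : orderOf (Net.toPerm 100 p_g112) = 5 :=
  orderOf_net p_hn p_hk p_g112_ok (by decide) (ps := [5]) (by set_option linter.unusedSimpArgs false in simp [Nat.primeFactorsList_ofNat]) (by decide +kernel)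

theorem p_le123 : grp 100 nt_c11_K ≤ grp 100 lb_E :=
  grp_le_of_memB p_hn p_hk lb_E_ok nt_c11_K_ok (ws := [nat_lit 0x312d27232020250718, nat_lit 0x2d2726202029070f, nat_lit 0x312d27251f1f23010104, nat_lit 0x2d252322250115, nat_lit 0x332d27292629050f]) (by decide +kernel)

theorem nt_c11_le : grp 100 nt_c11_K ≤ (grp 100 EG) :=
  (p_le123.trans T_s0.le)

theorem nt_c11_mem : Net.toPerm 100 p_g119 ∈ (grp 100 EG) :=
  nt_c11_le (toPerm_mem_grp (E := nt_c11_K) (List.Mem.tail _ (List.Mem.head _)))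

theorem nt_c11_sym : Sym 100 (grp 100 EG) [p_g119] nt_c11_K 0 :=
  Sym.of_lab p_hn p_hk (okE_cons.2 ⟨p_g119_ok, okE_nil _⟩) nt_c11_K_ok nt_c11_le (kT := 0) (by decide +kernel)

noncomputable def nt_c11_cnt_L : List ℕ := [2, 6, T_s2_O, 0, 0, 5, 33, T_s12_O, 0, 0, 6, 59, T_s13_O, 0, 0, 7, 11, T_s15_O, 1, 0]

theorem nt_c11_cnt_P : Prob 100 7 (grp 100 EG) nt_c11_cnt_EG [p_g119] [p_g119] nt_c11_K nt_c11_cnt_L 0 0 :=
  Sym.prob p_hn p_hk nt_c11_sym nt_c11_cnt_EG_ok (grp_cons_le p_g1_T (grp_cons_le p_g2_T (grp_cons_le p_g5_T (grp_cons_le p_g6_T (grp_cons_le H47.J2P.h_g45_T (grp_cons_le H47.J2P.h_a0_T (grp_cons_le p_g11_T (grp_cons_le H47.J2P.h_g53_T (grp_cons_le MpJ2.a_T (grp_cons_le H47.J2P.h_g1_T (grp_cons_le H47.J2P.h_a19_T (grp_cons_le H47.J2P.h_a27_T (grp_cons_le H47.J2P.h_g7_T (grp_cons_le H47.J2P.h_g4_T (grp_cons_le H47.J2P.h_a8_T (grp_cons_le H47.J2P.h_g14_T (grp_cons_le H47.J2P.h_g10_T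 (grp_cons_le H47.J2P.h_g11_T (grp_cons_le H47.J2P.h_g21_T (grp_cons_le H47.J2P.h_g22_T (grp_cons_le H47.J2P.h_g17_T (grp_cons_le H47.J2P.h_g18_T (grp_cons_le p_g28_T (grp_cons_le p_g29_T (grp_cons_le p_g27_T (grp_cons_le p_g26_T (grp_nil_le _))))))))))))))))))))))))))) (Frames.cons T_s2_F (Frames.cons T_s12_F (Frames.cons T_s13_F (Frames.cons T_s15_F Frames.nil)))) (okE_cons.2 ⟨p_g119_ok, okE_nil _⟩) _

noncomputable def nt_c11_cnt_t : BT := (BT.fix (nat_lit 1) (BT.br (nat_lit 0) (nat_lit 9) [nat_lit 1] (BT.kid (nat_lit 9) (nat_lit 24) (BT.dif (nat_lit 1) (nat_lit 0) (BT.frm (nat_lit 0) (nat_lit 0x20f111401) (nat_lit 0x20f111401) [nat_lit 0, nat_lit 1] (BT.pln (nat_lit 0) (nat_lit 5) (BT.br (nat_lit 0) (nat_lit 92) [nat_lit 5] (BT.kid (nat_lit 92) (nat_lit 4) (BT.fix (nat_lit 65793) (BT.dif (nat_lit 0) (nat_lit 2) (BT.img (nat_lit 1) (nat_lit 2) (BT.img (nat_lit 1) (nat_lit 0) (BT.frm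 (nat_lit 1) (nat_lit 0x2f3133020f111401) (nat_lit 0x2f3133020f111401) [nat_lit 0, nat_lit 1, nat_lit 4, nat_lit 7, nat_lit 8] (BT.pln (nat_lit 0) (nat_lit 28) (BT.and (nat_lit 4) (nat_lit 0) (BT.br (nat_lit 0) (nat_lit 13) [nat_lit 7] (BT.kid (nat_lit 13) (nat_lit 2) (BT.frm (nat_lit 2) (nat_lit 0x2f3133020f111401) (nat_lit 0x2f3133020f111401) [nat_lit 0, nat_lit 4, nat_lit 5, nat_lit 8, nat_lit 11, nat_lit 12] (BT.pln (nat_lit 0) (nat_lit 35) (BT.br (nat_lit 0) (nat_lit 17) [nat_lit 9] (BT.kid (nat_lit 17) (nat_lit 1) (BT.one (nat_lit 3) (nat_lit 0x2f3133020f111401) (nat_lit 0x2f3133020f111401) [nat_lit 0, nat_lit 3, nat_lit 7, nat_lit 8, nat_lit 11, nat_lit 14, nat_lit 15]) BT.nil)))) BT.nil))))))))) BT.nil))))) BT.nil)))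

theorem nt_c11_cnt : Cnt 100 (grp 100 EG) [p_g119] [p_g119] 0 0 0 0 48 :=
  BT.sound nt_c11_cnt_P Known.nil (t := nt_c11_cnt_t) (d := 0) (by decide +kernel)

theorem nt_c11_ge : 48 ≤ Nat.card (grp 100 nt_c11_K) :=
  Ch.le_card_grp (k := 7) (L := (lab 100 7)) p_hn nt_c11_K_ok (c := (Ch.cons (nat_lit 9) [nat_lit 1] (Ch.cons (nat_lit 92) [nat_lit 3, nat_lit 5] (Ch.cons (nat_lit 13) [nat_lit 7] (Ch.cons (nat_lit 17) [nat_lit 9] Ch.nil))))) (by decide +kernel)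

theorem nt_c11_eq : (grp 100 EG) ⊓ Subgroup.centralizer {Net.toPerm 100 p_g119} = grp 100 nt_c11_K :=
  cent_eq nt_c11_sym nt_c11_cnt nt_c11_ge

theorem nt_c11_card : Nat.card ↥((grp 100 EG) ⊓ Subgroup.centralizer {Net.toPerm 100 p_g119}) = 48 :=
  card_cent nt_c11_sym nt_c11_cnt nt_c11_ge

theorem nt_c11_ord : orderOf (Net.toPerm 100 p_g119) = 6 :=
  orderOf_net p_hn p_hk p_g119_ok (by decide) (ps := [2, 3]) (by set_option linter.unusedSimpArgs false in simp [Nat.primeFactorsList_ofNat]) (by decide +kernel)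

theorem p_le126 : grp 100 nt_c12_K ≤ grp 100 lb_E :=
  grp_le_of_memB p_hn p_hk lb_E_ok nt_c12_K_ok (ws := [nat_lit 0x332729262920200518, nat_lit 0x33312d27260302, nat_lit 0x333126262021260321, nat_lit 0x2d231f2d0503]) (by decide +kernel)

theorem nt_c12_le : grp 100 nt_c12_K ≤ (grp 100 EG) :=
  (p_le126.trans T_s0.le)

theorem nt_c12_mem : Net.toPerm 100 p_g124 ∈ (grp 100 EG) :=
  nt_c12_le (toPerm_mem_grp (E := nt_c12_K) (List.Mem.head _))

theorem nt_c12_sym : Sym 100 (grp 100 EG) [p_g124] nt_c12_K 0 :=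
  Sym.of_lab p_hn p_hk (okE_cons.2 ⟨p_g124_ok, okE_nil _⟩) nt_c12_K_ok nt_c12_le (kT := 0) (by decide +kernel)

noncomputable def nt_c12_cnt_L : List ℕ := [1, 2, T_s1_O, 0, 0, 3, 14, T_s16_O, 0, 0, 5, 59, T_s18_O, 0, 0, 6, 10, T_s19_O, 1, 0]

theorem nt_c12_cnt_P : Prob 100 7 (grp 100 EG) nt_c12_cnt_EG [p_g124] [p_g124] nt_c12_K nt_c12_cnt_L 0 0 :=
  Sym.prob p_hn p_hk nt_c12_sym nt_c12_cnt_EG_ok (grp_cons_le MpJ2.a_T (grp_cons_le H47.J2P.h_g1_T (grp_cons_le H47.J2P.h_a19_T (grp_cons_le H47.J2P.h_a27_T (grp_cons_le H47.J2P.h_g7_T (grp_cons_le H47.J2P.h_a0_T (grp_cons_le H47.J2P.h_g4_T (grp_cons_le H47.J2P.h_a8_T (grp_cons_le H47.J2P.h_g14_T (grp_cons_le H47.J2P.h_g10_T (grp_cons_le H47.J2P.h_g11_T (grp_cons_le H47.J2P.h_g21_T (grp_cons_le H47.J2P.h_g22_T (grp_cons_le H47.J2P.h_g17_T (grp_cons_le H47.J2P.h_g18_T (grp_cons_le p_g1_T (grp_cons_le p_g2_T (grp_cons_le p_g5_T (grp_cons_le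 p_g6_T (grp_cons_le H47.J2P.h_g45_T (grp_cons_le p_g11_T (grp_cons_le H47.J2P.h_g53_T (grp_cons_le p_g76_T (grp_cons_le p_g77_T (grp_nil_le _))))))))))))))))))))))))) (Frames.cons T_s1_F (Frames.cons T_s16_F (Frames.cons T_s18_F (Frames.cons T_s19_F Frames.nil)))) (okE_cons.2 ⟨p_g124_ok, okE_nil _⟩) _

noncomputable def nt_c12_cnt_t : BT := (BT.fix (nat_lit 257) (BT.br (nat_lit 0) (nat_lit 47) [nat_lit 3] (BT.kid (nat_lit 47) (nat_lit 6) (BT.dif (nat_lit 1) (nat_lit 0) (BT.img (nat_lit 1) (nat_lit 1) (BT.dif (nat_lit 1) (nat_lit 0) (BT.br (nat_lit 0) (nat_lit 44) [nat_lit 5] (BT.kid (nat_lit 44) (nat_lit 3) (BT.frm (nat_lit 1) (nat_lit 0x20070b) (nat_lit 0x20070b) [nat_lit 0, nat_lit 2, nat_lit 4] (BT.pln (nat_lit 0) (nat_lit 12) (BT.br (nat_lit 0) (nat_lit 24) [nat_lit 7] (BT.kid (nat_lit 24) (nat_lit 1) (BT.pln (nat_lit 2) (nat_lit 6) (BT.frm (nat_lit 0) (nat_lit 1803) (nat_lit 1803)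 [nat_lit 8] (BT.pln (nat_lit 0) (nat_lit 1) (BT.dif (nat_lit 9) (nat_lit 6) (BT.dif (nat_lit 0) (nat_lit 9) (BT.frm (nat_lit 2) (nat_lit 0x2e2820070b) (nat_lit 0x2e2820070b) [nat_lit 5, nat_lit 0, nat_lit 8, nat_lit 10, nat_lit 12] (BT.pln (nat_lit 0) (nat_lit 13) (BT.and (nat_lit 4) (nat_lit 0) (BT.pln (nat_lit 2) (nat_lit 48) (BT.and (nat_lit 8) (nat_lit 0) (BT.img (nat_lit 1) (nat_lit 0) (BT.and (nat_lit 3) (nat_lit 0) (BT.img (nat_lit 1) (nat_lit 0) (BT.and (nat_lit 12) (nat_lit 0) (BT.one (nat_lit 3) (nat_lit 0x2e2820070b) (nat_lit 0x2e2820070b) [nat_lit 0, nat_lit 14, nat_lit 9, nat_lit 17, nat_lit 19, nat_lit 21]))))))))))))))) BT.nil)))) BT.nil))))) BT.nil)))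

theorem nt_c12_cnt : Cnt 100 (grp 100 EG) [p_g124] [p_g124] 0 0 0 0 24 :=
  BT.sound nt_c12_cnt_P Known.nil (t := nt_c12_cnt_t) (d := 0) (by decide +kernel)

theorem nt_c12_ge : 24 ≤ Nat.card (grp 100 nt_c12_K) :=
  Ch.le_card_grp (k := 7) (L := (lab 100 7)) p_hn nt_c12_K_ok (c := (Ch.cons (nat_lit 47) [nat_lit 1, nat_lit 3] (Ch.cons (nat_lit 44) [nat_lit 5] (Ch.cons (nat_lit 24) [nat_lit 7] Ch.nil)))) (by decide +kernel)

theorem nt_c12_eq : (grp 100 EG) ⊓ Subgroup.centralizer {Net.toPerm 100 p_g124} = grp 100 nt_c12_K :=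
  cent_eq nt_c12_sym nt_c12_cnt nt_c12_ge

theorem nt_c12_card : Nat.card ↥((grp 100 EG) ⊓ Subgroup.centralizer {Net.toPerm 100 p_g124}) = 24 :=
  card_cent nt_c12_sym nt_c12_cnt nt_c12_ge

theorem nt_c12_ord : orderOf (Net.toPerm 100 p_g124) = 6 :=
  orderOf_net p_hn p_hk p_g124_ok (by decide) (ps := [2, 3]) (by set_option linter.unusedSimpArgs false in simp [Nat.primeFactorsList_ofNat]) (by decide +kernel)

theorem p_le130 : grp 100 nt_c13_K ≤ grp 100 lb_E :=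
  grp_le_of_memB p_hn p_hk lb_E_ok nt_c13_K_ok (ws := [nat_lit 0x31231f22260218, nat_lit 0x33252320200718, nat_lit 0x312d272325222501041c]) (by decide +kernel)

theorem nt_c13_le : grp 100 nt_c13_K ≤ (grp 100 EG) :=
  (p_le130.trans T_s0.le)

theorem nt_c13_mem : Net.toPerm 100 p_g127 ∈ (grp 100 EG) :=
  nt_c13_le (toPerm_mem_grp (E := nt_c13_K) (List.Mem.head _))

theorem nt_c13_sym : Sym 100 (grp 100 EG) [p_g127] nt_c13_K 0 :=
  Sym.of_lab p_hn p_hk (okE_cons.2 ⟨p_g127_ok, okE_nil _⟩) nt_c13_K_ok nt_c13_le (kT := 0) (by decide +kernel)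

theorem p_le132 : grp 100 p_V131 ≤ grp 100 p_V78 :=
  grp_le_of_memB p_hn p_hk p_V78_ok p_V131_ok (ws := [nat_lit 770]) (by decide +kernel)

theorem T_s28 : Stab 100 (grp 100 EG) [nat_lit 24, nat_lit 5, nat_lit 3, nat_lit 2, nat_lit 0] p_V131 2 :=
  Stab.step (k := 7) (L := (lab 100 7)) p_hn T_s17 p_V131_ok p_le132 (c := (Ch.cons (nat_lit 63) [nat_lit 1] Ch.nil)) (by decide +kernel)

theorem T_s29 : Stab 100 (grp 100 EG) [nat_lit 63, nat_lit 24, nat_lit 5, nat_lit 3, nat_lit 2, nat_lit 0] p_V133 1 :=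
  Stab.step (k := 7) (L := (lab 100 7)) p_hn T_s28 p_V133_ok (grp_mono (List.subset_append_right [H47.J2P.h_a0] _)) (c := Ch.nil) (by decide +kernel)

noncomputable def T_s29_O : ℕ := (nat_lit 0x3333266666ccccd99999333321f07c1f03e0f83e0f83e0f83ee63398c67319ce63398c673184db24d926c93649b64db26d92000000000000000000000000100000000000000000000000040000000000000000000000008000000000000000000000002000000000000000000010000000000000008000000000000000)

theorem T_s29_F : Frame 100 (grp 100 EG) 6 10 T_s29_O 1 1 :=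
  IsBase.frame T_s29.isBase (by decide +kernel)

noncomputable def nt_c13_cnt_L : List ℕ := [3, 14, T_s16_O, 0, 0, 6, 10, T_s29_O, 1, 0]

theorem nt_c13_cnt_P : Prob 100 7 (grp 100 EG) nt_c13_cnt_EG [p_g127] [p_g127] nt_c13_K nt_c13_cnt_L 0 0 :=
  Sym.prob p_hn p_hk nt_c13_sym nt_c13_cnt_EG_ok (grp_cons_le p_g5_T (grp_cons_le p_g6_T (grp_cons_le H47.J2P.h_g45_T (grp_cons_le H47.J2P.h_a0_T (grp_cons_le p_g11_T (grp_cons_le H47.J2P.h_g53_T (grp_cons_le p_g1_T (grp_cons_le p_g2_T (grp_cons_le MpJ2.a_T (grp_cons_le H47.J2P.h_g1_T (grp_cons_le H47.J2P.h_a19_T (grp_cons_le H47.J2P.h_a27_T (grp_cons_le H47.J2P.h_g7_T (grp_cons_le H47.J2P.h_g4_T (grp_cons_le H47.J2P.h_a8_T (grp_cons_le H47.J2P.h_g14_T (grp_cons_le H47.J2P.h_g10_T (grp_cons_le H47.J2P.h_g11_T (grp_cons_le H47.J2P.h_g21_T (grp_cons_le H47.J2P.h_g22_T (grp_cons_le H47.J2P.h_g17_T (grp_cons_le H47.J2P.h_g18_T (grp_cons_le p_g76_T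 (grp_cons_le p_g77_T (grp_nil_le _))))))))))))))))))))))))) (Frames.cons T_s16_F (Frames.cons T_s29_F Frames.nil)) (okE_cons.2 ⟨p_g127_ok, okE_nil _⟩) _

noncomputable def nt_c13_cnt_t : BT := (BT.fix (nat_lit 257) (BT.fix (nat_lit 1) (BT.dif (nat_lit 1) (nat_lit 0) (BT.br (nat_lit 0) (nat_lit 43) [nat_lit 1] (BT.kid (nat_lit 43) (nat_lit 6) (BT.br (nat_lit 2) (nat_lit 40) [nat_lit 3] (BT.kid (nat_lit 40) (nat_lit 3) (BT.dif (nat_lit 4) (nat_lit 1) (BT.dif (nat_lit 0) (nat_lit 4) (BT.frm (nat_lit 0) (nat_lit 0x4010e0f171f) (nat_lit 0x4010e0f171f) [nat_lit 2, nat_lit 0, nat_lit 3] (BT.pln (nat_lit 0) (nat_lit 13) (BT.br (nat_lit 0) (nat_lit 38) [nat_lit 5] (BT.kid (nat_lit 38) (nat_lit 1) (BT.img (nat_lit 1) (nat_lit 0) (BT.dif (nat_lit 9) (nat_lit 6) (BT.one (nat_lit 1) (nat_lit 0x2e0904010e0f171f) (nat_lit 0x2e0904010e0f171f) [nat_lit 1, nat_lit 2, nat_lit 0, nat_lit 7, nat_lit 5,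 nat_lit 8]))) BT.nil)))))) BT.nil)) BT.nil)))))

theorem nt_c13_cnt : Cnt 100 (grp 100 EG) [p_g127] [p_g127] 0 0 0 0 12 :=
  BT.sound nt_c13_cnt_P Known.nil (t := nt_c13_cnt_t) (d := 0) (by decide +kernel)

theorem nt_c13_ge : 12 ≤ Nat.card (grp 100 nt_c13_K) :=
  Ch.le_card_grp (k := 7) (L := (lab 100 7)) p_hn nt_c13_K_ok (c := (Ch.cons (nat_lit 43) [nat_lit 1] (Ch.cons (nat_lit 40) [nat_lit 3] (Ch.cons (nat_lit 38) [nat_lit 5] Ch.nil)))) (by decide +kernel)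

theorem nt_c13_eq : (grp 100 EG) ⊓ Subgroup.centralizer {Net.toPerm 100 p_g127} = grp 100 nt_c13_K :=
  cent_eq nt_c13_sym nt_c13_cnt nt_c13_ge

theorem nt_c13_card : Nat.card ↥((grp 100 EG) ⊓ Subgroup.centralizer {Net.toPerm 100 p_g127}) = 12 :=
  card_cent nt_c13_sym nt_c13_cnt nt_c13_ge

theorem nt_c13_ord : orderOf (Net.toPerm 100 p_g127) = 6 :=
  orderOf_net p_hn p_hk p_g127_ok (by decide) (ps := [2, 3]) (by set_option linter.unusedSimpArgs false in simp [Nat.primeFactorsList_ofNat]) (by decide +kernel)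

theorem p_le136 : grp 100 nt_c14_K ≤ grp 100 lb_E :=
  grp_le_of_memB p_hn p_hk lb_E_ok nt_c14_K_ok (ws := [nat_lit 0x332d252322250728, nat_lit 0x33312723261f25220101]) (by decide +kernel)

theorem nt_c14_le : grp 100 nt_c14_K ≤ (grp 100 EG) :=
  (p_le136.trans T_s0.le)

theorem nt_c14_mem : Net.toPerm 100 p_g134 ∈ (grp 100 EG) :=
  nt_c14_le (toPerm_mem_grp (E := nt_c14_K) (List.Mem.tail _ (List.Mem.head _)))

theorem nt_c14_sym : Sym 100 (grp 100 EG) [p_g134] nt_c14_K 0 :=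
  Sym.of_lab p_hn p_hk (okE_cons.2 ⟨p_g134_ok, okE_nil _⟩) nt_c14_K_ok nt_c14_le (kT := 0) (by decide +kernel)

theorem T_s30 : Stab 100 (grp 100 EG) [nat_lit 15, nat_lit 3, nat_lit 2, nat_lit 0] p_V137 8 :=
  Stab.step (k := 7) (L := (lab 100 7)) p_hn T_s16 p_V137_ok (grp_mono (List.subset_append_right [H47.J2P.h_g45, H47.J2P.h_a0] _)) (c := (Ch.cons (nat_lit 1) [nat_lit 1, nat_lit 3] (Ch.cons (nat_lit 4) [nat_lit 5, nat_lit 7] (Ch.cons (nat_lit 8) [nat_lit 9, nat_lit 11] Ch.nil)))) (by decide +kernel)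

theorem T_s31 : Stab 100 (grp 100 EG) [nat_lit 1, nat_lit 15, nat_lit 3, nat_lit 2, nat_lit 0] p_V138 4 :=
  Stab.step (k := 7) (L := (lab 100 7)) p_hn T_s30 p_V138_ok (grp_mono (List.subset_append_right [H47.J2P.h_a0, p_g11] _)) (c := (Ch.cons (nat_lit 4) [nat_lit 1, nat_lit 3] (Ch.cons (nat_lit 8) [nat_lit 5, nat_lit 7] Ch.nil))) (by decide +kernel)

theorem T_s32 : Stab 100 (grp 100 EG) [nat_lit 4, nat_lit 1, nat_lit 15, nat_lit 3, nat_lit 2, nat_lit 0] p_V139 2 :=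
  Stab.step (k := 7) (L := (lab 100 7)) p_hn T_s31 p_V139_ok (grp_mono (List.subset_append_right [H47.J2P.h_a0, H47.J2P.h_g53] _)) (c := (Ch.cons (nat_lit 8) [nat_lit 1, nat_lit 3] Ch.nil)) (by decide +kernel)

theorem T_s33 : Stab 100 (grp 100 EG) [nat_lit 8, nat_lit 4, nat_lit 1, nat_lit 15, nat_lit 3, nat_lit 2, nat_lit 0] p_V140 1 :=
  Stab.step (k := 7) (L := (lab 100 7)) p_hn T_s32 p_V140_ok (grp_mono (List.subset_append_right [H47.J2P.h_a0, H47.J2P.h_a0] _)) (c := Ch.nil) (by decide +kernel)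

noncomputable def T_s33_O : ℕ := (nat_lit 0x3333266666ccccd99999333321f07c1f03e0f83e0f83e0f83ee63398c67319ce63398c673184db24d926c93649b64db26d920000000000000000000000001000000000000000000000000400000000000000000000000080000000000000000000008000000000000000000000000000200000000000000000000000100000000000000000000000100)

theorem T_s33_F : Frame 100 (grp 100 EG) 7 11 T_s33_O 1 1 :=
  IsBase.frame T_s33.isBase (by decide +kernel)

noncomputable def nt_c14_cnt_L : List ℕ := [2, 5, T_s7_O, 0, 0, 3, 14, T_s16_O, 0, 0, 7, 11, T_s33_O, 1, 0]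

theorem nt_c14_cnt_P : Prob 100 7 (grp 100 EG) nt_c14_cnt_EG [p_g134] [p_g134] nt_c14_K nt_c14_cnt_L 0 0 :=
  Sym.prob p_hn p_hk nt_c14_sym nt_c14_cnt_EG_ok (grp_cons_le p_g1_T (grp_cons_le p_g2_T (grp_cons_le p_g5_T (grp_cons_le p_g6_T (grp_cons_le H47.J2P.h_g45_T (grp_cons_le H47.J2P.h_a0_T (grp_cons_le p_g11_T (grp_cons_le H47.J2P.h_g53_T (grp_cons_le MpJ2.a_T (grp_cons_le H47.J2P.h_g1_T (grp_cons_le H47.J2P.h_a19_T (grp_cons_le H47.J2P.h_a27_T (grp_cons_le H47.J2P.h_g7_T (grp_cons_le H47.J2P.h_g4_T (grp_cons_le H47.J2P.h_a8_T (grp_cons_le H47.J2P.h_g14_T (grp_cons_le H47.J2P.h_g10_T (grp_cons_le H47.J2P.h_g11_T (grp_cons_le H47.J2P.h_g21_T (grp_cons_le H47.J2P.h_g22_T (grp_cons_le H47.J2P.h_g17_T (grp_cons_le H47.J2P.h_g18_T (grp_nil_le _))))))))))))))))))))))) (Frames.cons T_s7_F (Frames.cons T_s16_F (Frames.cons T_s33_F Frames.nil))) (okE_cons.2 ⟨p_g134_ok, okE_nil _⟩) _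

noncomputable def nt_c14_cnt_t : BT := (BT.fix (nat_lit 1) (BT.br (nat_lit 0) (nat_lit 76) [nat_lit 1] (BT.kid (nat_lit 76) (nat_lit 7) (BT.dif (nat_lit 1) (nat_lit 0) (BT.frm (nat_lit 0) (nat_lit 0x2021127) (nat_lit 0x2021127) [nat_lit 0, nat_lit 1] (BT.pln (nat_lit 0) (nat_lit 4) (BT.br (nat_lit 0) (nat_lit 60) [nat_lit 3] (BT.dead (nat_lit 97) (BT.frm (nat_lit 1) (nat_lit 0x70702021127) (nat_lit 0x80502021127) [nat_lit 0, nat_lit 3, nat_lit 4] (BT.pln (nat_lit 0) (nat_lit 10) (BT.pln (nat_lit 1) (nat_lit 12) (BT.img (nat_lit 1) (nat_lit 0) (BT.and (nat_lit 1) (nat_lit 0) (BT.img (nat_lit 1) (nat_lit 0) (BT.and (nat_lit 4) (nat_lit 0) (BT.img (nat_lit 1) (nat_lit 0) (BT.and (nat_lit 0) (nat_lit 6) (BT.cnt (nat_lit 0))))))))))) (BT.kid (nat_lit 60) (nat_lit 1) (BT.img (nat_lit 1) (nat_lit 0) (BT.img (nat_lit 1) (nat_lit 0) (BT.img (nat_lit 1) (nat_lit 0) (BT.img (nat_lit 1) (nat_lit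 0) (BT.frm (nat_lit 1) (nat_lit 0x70702021127) (nat_lit 0x70702021127) [nat_lit 4, nat_lit 7, nat_lit 8] (BT.pln (nat_lit 0) (nat_lit 10) (BT.pln (nat_lit 1) (nat_lit 12) (BT.img (nat_lit 1) (nat_lit 0) (BT.and (nat_lit 1) (nat_lit 0) (BT.img (nat_lit 1) (nat_lit 0) (BT.and (nat_lit 4) (nat_lit 0) (BT.pln (nat_lit 6) (nat_lit 6) (BT.pln (nat_lit 7) (nat_lit 3) (BT.pln (nat_lit 8) (nat_lit 11) (BT.img (nat_lit 1) (nat_lit 2) (BT.and (nat_lit 1) (nat_lit 0) (BT.img (nat_lit 1) (nat_lit 0) (BT.and (nat_lit 4) (nat_lit 0) (BT.img (nat_lit 1) (nat_lit 0) (BT.and (nat_lit 7) (nat_lit 0) (BT.and (nat_lit 8) (nat_lit 5) (BT.img (nat_lit 1) (nat_lit 0) (BT.img (nat_lit 1) (nat_lit 0) (BT.and (nat_lit 9) (nat_lit 0) (BT.one (nat_lit 2) (nat_lit 0xb0f0d09070702021127) (nat_lit 0xb0f0d09070702021127) [nat_lit 20, nat_lit 13, nat_lit 4, nat_lit 0, nat_lit 24, nat_lit 27, nat_lit 28])))))))))))))))))))))))))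 BT.nil)))))) BT.nil)))

theorem nt_c14_cnt : Cnt 100 (grp 100 EG) [p_g134] [p_g134] 0 0 0 0 14 :=
  BT.sound nt_c14_cnt_P Known.nil (t := nt_c14_cnt_t) (d := 0) (by decide +kernel)

theorem nt_c14_ge : 14 ≤ Nat.card (grp 100 nt_c14_K) :=
  Ch.le_card_grp (k := 7) (L := (lab 100 7)) p_hn nt_c14_K_ok (c := (Ch.cons (nat_lit 76) [nat_lit 1] (Ch.cons (nat_lit 60) [nat_lit 3] Ch.nil))) (by decide +kernel)

theorem nt_c14_eq : (grp 100 EG) ⊓ Subgroup.centralizer {Net.toPerm 100 p_g134} = grp 100 nt_c14_K :=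
  cent_eq nt_c14_sym nt_c14_cnt nt_c14_ge

theorem nt_c14_card : Nat.card ↥((grp 100 EG) ⊓ Subgroup.centralizer {Net.toPerm 100 p_g134}) = 14 :=
  card_cent nt_c14_sym nt_c14_cnt nt_c14_ge

theorem nt_c14_ord : orderOf (Net.toPerm 100 p_g134) = 7 :=
  orderOf_net p_hn p_hk p_g134_ok (by decide) (ps := [7]) (by set_option linter.unusedSimpArgs false in simp [Nat.primeFactorsList_ofNat]) (by decide +kernel)

theorem p_le145 : grp 100 nt_c15_K ≤ grp 100 lb_E :=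
  grp_le_of_memB p_hn p_hk lb_E_ok nt_c15_K_ok (ws := [nat_lit 0x33312d27292329251f012e, nat_lit 0x3327231f251f020a, nat_lit 0x2620202501011b, nat_lit 0x3331231f210728, nat_lit 0x2729252d0503]) (by decide +kernel)

theorem nt_c15_le : grp 100 nt_c15_K ≤ (grp 100 EG) :=
  (p_le145.trans T_s0.le)

theorem nt_c15_mem : Net.toPerm 100 p_g141 ∈ (grp 100 EG) :=
  nt_c15_le (toPerm_mem_grp (E := nt_c15_K) (List.Mem.head _))

theorem nt_c15_sym : Sym 100 (grp 100 EG) [p_g141] nt_c15_K 0 :=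
  Sym.of_lab p_hn p_hk (okE_cons.2 ⟨p_g141_ok, okE_nil _⟩) nt_c15_K_ok nt_c15_le (kT := 0) (by decide +kernel)

noncomputable def nt_c15_cnt_L : List ℕ := [3, 17, T_s8_O, 0, 0, 4, 39, T_s9_O, 0, 0, 5, 59, T_s26_O, 0, 0, 6, 10, T_s27_O, 1, 0]

theorem nt_c15_cnt_P : Prob 100 7 (grp 100 EG) nt_c15_cnt_EG [p_g141] [p_g141] nt_c15_K nt_c15_cnt_L 0 0 :=
  Sym.prob p_hn p_hk nt_c15_sym nt_c15_cnt_EG_ok (grp_cons_le p_g5_T (grp_cons_le p_g6_T (grp_cons_le H47.J2P.h_g45_T (grp_cons_le H47.J2P.h_a0_T (grp_cons_le p_g11_T (grp_cons_le H47.J2P.h_g53_T (grp_cons_le p_g1_T (grp_cons_le p_g2_T (grp_cons_le MpJ2.a_T (grp_cons_le H47.J2P.h_g1_T (grp_cons_le H47.J2P.h_a19_T (grp_cons_le H47.J2P.h_a27_T (grp_cons_le H47.J2P.h_g7_T (grp_cons_le H47.J2P.h_g4_T (grp_cons_le H47.J2P.h_a8_T (grp_cons_le H47.J2P.h_g14_T (grp_cons_le H47.J2P.h_g10_T (grp_cons_le H47.J2P.h_g11_T (grp_cons_le H47.J2P.h_g21_T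 (grp_cons_le H47.J2P.h_g22_T (grp_cons_le H47.J2P.h_g17_T (grp_cons_le H47.J2P.h_g18_T (grp_cons_le p_g44_T (grp_cons_le p_g45_T (grp_cons_le p_g46_T (grp_cons_le p_g115_T (grp_nil_le _))))))))))))))))))))))))))) (Frames.cons T_s8_F (Frames.cons T_s9_F (Frames.cons T_s26_F (Frames.cons T_s27_F Frames.nil)))) (okE_cons.2 ⟨p_g141_ok, okE_nil _⟩) _

noncomputable def nt_c15_cnt_t : BT := (BT.fix (nat_lit 0x1010101) (BT.fix (nat_lit 257) (BT.dif (nat_lit 1) (nat_lit 0) (BT.br (nat_lit 0) (nat_lit 88) [nat_lit 1, nat_lit 3] (BT.kid (nat_lit 88) (nat_lit 8) (BT.img (nat_lit 1) (nat_lit 0) (BT.img (nat_lit 1) (nat_lit 0) (BT.frm (nat_lit 0) (nat_lit 0x40e0a1519) (nat_lit 0x40e0a1519) [nat_lit 0, nat_lit 1, nat_lit 2] (BT.pln (nat_lit 0) (nat_lit 12) (BT.and (nat_lit 5) (nat_lit 0) (BT.br (nat_lit 0) (nat_lit 11) [nat_lit 5, nat_lit 7] (BT.dead (nat_lit 18) (BT.frm (nat_lit 1) (nat_lit 0x2e040e0a1519)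 (nat_lit 0x2d2d040e0a1519) [nat_lit 0, nat_lit 4, nat_lit 5, nat_lit 6] (BT.pln (nat_lit 0) (nat_lit 24) (BT.br (nat_lit 0) (nat_lit 87) [nat_lit 2311] (BT.dead (nat_lit 74) (BT.frm (nat_lit 2) (nat_lit 0x2e040e0a1519) (nat_lit 0x2f2d2d040e0a1519) [nat_lit 0, nat_lit 3, nat_lit 7, nat_lit 8, nat_lit 9] (BT.pln (nat_lit 0) (nat_lit 45) (BT.img (nat_lit 1) (nat_lit 2) (BT.img (nat_lit 1) (nat_lit 0) (BT.img (nat_lit 1) (nat_lit 0) (BT.and (nat_lit 3) (nat_lit 0) (BT.cnt (nat_lit 0)))))))) BT.nil)))) (BT.kid (nat_lit 11) (nat_lit 4) (BT.frm (nat_lit 1) (nat_lit 0x2e040e0a1519) (nat_lit 0x2e040e0a1519) [nat_lit 0, nat_lit 4, nat_lit 5, nat_lit 6] (BT.pln (nat_lit 0) (nat_lit 24) (BT.br (nat_lit 0) (nat_lit 87) [nat_lit 7] (BT.kid (nat_lit 87) (nat_lit 2) (BT.frm (nat_lit 2) (nat_lit 0x2e040e0a1519) (nat_lit 0x2e040e0a1519) [nat_lit 0, nat_lit 3, nat_lit 7, nat_lit 8, nat_lit 9] (BT.pln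 (nat_lit 0) (nat_lit 33) (BT.br (nat_lit 0) (nat_lit 25) [nat_lit 9] (BT.kid (nat_lit 25) (nat_lit 1) (BT.one (nat_lit 3) (nat_lit 0x332e040e0a1519) (nat_lit 0x332e040e0a1519) [nat_lit 0, nat_lit 3, nat_lit 6, nat_lit 10, nat_lit 11, nat_lit 12]) BT.nil)))) BT.nil)))) BT.nil)))))))) BT.nil)))))

theorem nt_c15_cnt : Cnt 100 (grp 100 EG) [p_g141] [p_g141] 0 0 0 0 96 :=
  BT.sound nt_c15_cnt_P Known.nil (t := nt_c15_cnt_t) (d := 0) (by decide +kernel)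

theorem nt_c15_ge : 96 ≤ Nat.card (grp 100 nt_c15_K) :=
  Ch.le_card_grp (k := 7) (L := (lab 100 7)) p_hn nt_c15_K_ok (c := (Ch.cons (nat_lit 88) [nat_lit 1, nat_lit 3] (Ch.cons (nat_lit 11) [nat_lit 5] (Ch.cons (nat_lit 87) [nat_lit 7] (Ch.cons (nat_lit 25) [nat_lit 9] Ch.nil))))) (by decide +kernel)

theorem nt_c15_eq : (grp 100 EG) ⊓ Subgroup.centralizer {Net.toPerm 100 p_g141} = grp 100 nt_c15_K :=
  cent_eq nt_c15_sym nt_c15_cnt nt_c15_ge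

theorem nt_c15_card : Nat.card ↥((grp 100 EG) ⊓ Subgroup.centralizer {Net.toPerm 100 p_g141}) = 96 :=
  card_cent nt_c15_sym nt_c15_cnt nt_c15_ge

theorem nt_c15_ord : orderOf (Net.toPerm 100 p_g141) = 8 :=
  orderOf_net p_hn p_hk p_g141_ok (by decide) (ps := [2]) (by set_option linter.unusedSimpArgs false in simp [Nat.primeFactorsList_ofNat]) (by decide +kernel)

theorem p_le150 : grp 100 nt_c16_K ≤ grp 100 lb_E :=
  grp_le_of_memB p_hn p_hk lb_E_ok nt_c16_K_ok (ws := [nat_lit 0x33312723291f260118, nat_lit 0x33312729231f1f0118, nat_lit 0x33272920202503, nat_lit 0x332d272923261f2d0718]) (by decide +kernel)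

theorem nt_c16_le : grp 100 nt_c16_K ≤ (grp 100 EG) :=
  (p_le150.trans T_s0.le)

theorem nt_c16_mem : Net.toPerm 100 p_g146 ∈ (grp 100 EG) :=
  nt_c16_le (toPerm_mem_grp (E := nt_c16_K) (List.Mem.head _))

theorem nt_c16_sym : Sym 100 (grp 100 EG) [p_g146] nt_c16_K 0 :=
  Sym.of_lab p_hn p_hk (okE_cons.2 ⟨p_g146_ok, okE_nil _⟩) nt_c16_K_ok nt_c16_le (kT := 0) (by decide +kernel)

theorem p_le153 : grp 100 p_V152 ≤ grp 100 p_V94 :=
  grp_le_of_memB p_hn p_hk p_V94_ok p_V152_ok (ws := [nat_lit 257]) (by decide +kernel)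

theorem T_s34 : Stab 100 (grp 100 EG) [nat_lit 90, nat_lit 71, nat_lit 25, nat_lit 1, nat_lit 0] p_V152 2 :=
  Stab.step (k := 7) (L := (lab 100 7)) p_hn T_s20 p_V152_ok p_le153 (c := (Ch.cons (nat_lit 38) [nat_lit 1] Ch.nil)) (by decide +kernel)

theorem T_s35 : Stab 100 (grp 100 EG) [nat_lit 38, nat_lit 90, nat_lit 71, nat_lit 25, nat_lit 1, nat_lit 0] p_V154 1 :=
  Stab.step (k := 7) (L := (lab 100 7)) p_hn T_s34 p_V154_ok (grp_mono (List.subset_append_right [p_g151] _)) (c := Ch.nil) (by decide +kernel)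

theorem p_g151_T : Net.toPerm 100 p_g151 ∈ (grp 100 EG) :=
  T_s34.le (toPerm_mem_grp (E := p_V152) (List.Mem.head _))

noncomputable def T_s35_O : ℕ := (nat_lit 0x3333266666ccccd99999333321f07c1f03e0f83e0f83e0f83ee63398c67319ce63398c673184db24d926c93649b64db26d92000000000000000000000000100000000000000000000000020000000000000000002000000000000080000000000000000000400000000000000000000000000000000000004000000000)

theorem T_s35_F : Frame 100 (grp 100 EG) 6 10 T_s35_O 1 1 :=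
  IsBase.frame T_s35.isBase (by decide +kernel)

noncomputable def T_s34_O : ℕ := (nat_lit 0x400000000000000000000000020000000000000000000000000200000000000000000000000000008000000000000000000000000100000000000000000000000001000000000000000000000000000000000000400000000000000000000000004000000000000000000000000080000000000000000000000004000000000000000000000000040000000000000000000000000080000000000000000000000002000000000000000000000000100000000000000000000000004000000000180000000000000000004000004000000000000000000200000200000000000000000000000810000000000000000000000100800000000000000004000000040000000000000000200000002000000000000000000000800100000000000000000100000008000000000000000000000400400000000000000000000020020000000000000000800000001000000000000000100000000080000000000000000000400004000000000000000000020000200000000000000800000000010000000000000000001000000800000000000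40000000000004000000000000200000000000200000000000000008000000010000000000001000000000000800000000000000040000000040000000000000000200000002000000000080000000000000100000000000000004000000008000000001000000000000000400000000010000000000000020000000000000400000000001000000000080000000000000080000000000002000000000004000000000000020000000000200000008000000000000000010000000000000000000000000090000000000000000000000010200000000000000000000008008000000000000000000000000180000000000000000000000024000000000000000000000010200000000000000000000020010000000000000000000000000010000000000000000000000002000000000000000000200000000000008000000000000000000040000000000000000000000)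

theorem T_s34_F : Frame 100 (grp 100 EG) 5 59 T_s34_O 0 1 :=
  Stab.frame p_hn T_s34 (by decide +kernel)

noncomputable def nt_c16_cnt_L : List ℕ := [1, 2, T_s1_O, 0, 0, 3, 14, T_s3_O, 0, 0, 5, 59, T_s34_O, 0, 0, 6, 10, T_s35_O, 1, 0]

theorem nt_c16_cnt_P : Prob 100 7 (grp 100 EG) nt_c16_cnt_EG [p_g146] [p_g146] nt_c16_K nt_c16_cnt_L 0 0 :=
  Sym.prob p_hn p_hk nt_c16_sym nt_c16_cnt_EG_ok (grp_cons_le MpJ2.a_T (grp_cons_le H47.J2P.h_g1_T (grp_cons_le H47.J2P.h_a19_T (grp_cons_le H47.J2P.h_a27_T (grp_cons_le H47.J2P.h_g7_T (grp_cons_le H47.J2P.h_a0_T (grp_cons_le H47.J2P.h_g4_T (grp_cons_le H47.J2P.h_a8_T (grp_cons_le H47.J2P.h_g14_T (grp_cons_le H47.J2P.h_g10_T (grp_cons_le H47.J2P.h_g11_T (grp_cons_le H47.J2P.h_g21_T (grp_cons_le H47.J2P.h_g22_T (grp_cons_le H47.J2P.h_g17_T (grp_cons_le H47.J2P.h_g18_T (grp_cons_le p_g1_T (grp_cons_le p_g2_T (grp_cons_le p_g5_T (grp_cons_le p_g6_T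 (grp_cons_le H47.J2P.h_g45_T (grp_cons_le p_g11_T (grp_cons_le H47.J2P.h_g53_T (grp_cons_le p_g26_T (grp_cons_le p_g27_T (grp_cons_le p_g28_T (grp_cons_le p_g29_T (grp_cons_le p_g93_T (grp_cons_le p_g151_T (grp_nil_le _))))))))))))))))))))))))))))) (Frames.cons T_s1_F (Frames.cons T_s3_F (Frames.cons T_s34_F (Frames.cons T_s35_F Frames.nil)))) (okE_cons.2 ⟨p_g146_ok, okE_nil _⟩) _

noncomputable def nt_c16_cnt_t : BT := (BT.fix (nat_lit 257) (BT.fix (nat_lit 1) (BT.dif (nat_lit 1) (nat_lit 0) (BT.br (nat_lit 0) (nat_lit 57) [nat_lit 1] (BT.dead (nat_lit 44) (BT.frm (nat_lit 0) (nat_lit 65819) (nat_lit 271) [nat_lit 0] (BT.pln (nat_lit 0) (nat_lit 1) (BT.and (nat_lit 0) (nat_lit 4) (BT.cnt (nat_lit 0))))) (BT.kid (nat_lit 57) (nat_lit 16) (BT.dif (nat_lit 1) (nat_lit 0) (BT.img (nat_lit 1) (nat_lit 1) (BT.dif (nat_lit 1) (nat_lit 0) (BT.br (nat_lit 0) (nat_lit 12) [nat_lit 3] (BT.kid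 (nat_lit 12) (nat_lit 8) (BT.frm (nat_lit 1) (nat_lit 0x2e1f230b01011b) (nat_lit 0x2e1f230b01011b) [nat_lit 0, nat_lit 2, nat_lit 4] (BT.pln (nat_lit 0) (nat_lit 11) (BT.br (nat_lit 0) (nat_lit 28) [nat_lit 5] (BT.kid (nat_lit 28) (nat_lit 2) (BT.img (nat_lit 1) (nat_lit 0) (BT.frm (nat_lit 2) (nat_lit 0x352e1f230b01011b) (nat_lit 0x352e1f230b01011b) [nat_lit 0, nat_lit 1, nat_lit 4, nat_lit 6, nat_lit 8] (BT.pln (nat_lit 0) (nat_lit 22) (BT.br (nat_lit 0) (nat_lit 69) [nat_lit 7] (BT.kid (nat_lit 69) (nat_lit 1) (BT.one (nat_lit 3) (nat_lit 0x352e1f230b01011b) (nat_lit 0x352e1f230b01011b) [nat_lit 0, nat_lit 3, nat_lit 4, nat_lit 7, nat_lit 9, nat_lit 11]) BT.nil))))) BT.nil)))) BT.nil))))) BT.nil))))))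

theorem nt_c16_cnt : Cnt 100 (grp 100 EG) [p_g146] [p_g146] 0 0 0 0 32 :=
  BT.sound nt_c16_cnt_P Known.nil (t := nt_c16_cnt_t) (d := 0) (by decide +kernel)

theorem nt_c16_ge : 32 ≤ Nat.card (grp 100 nt_c16_K) :=
  Ch.le_card_grp (k := 7) (L := (lab 100 7)) p_hn nt_c16_K_ok (c := (Ch.cons (nat_lit 57) [nat_lit 1] (Ch.cons (nat_lit 12) [nat_lit 3] (Ch.cons (nat_lit 28) [nat_lit 5] (Ch.cons (nat_lit 69) [nat_lit 7] Ch.nil))))) (by decide +kernel)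

theorem nt_c16_eq : (grp 100 EG) ⊓ Subgroup.centralizer {Net.toPerm 100 p_g146} = grp 100 nt_c16_K :=
  cent_eq nt_c16_sym nt_c16_cnt nt_c16_ge

theorem nt_c16_card : Nat.card ↥((grp 100 EG) ⊓ Subgroup.centralizer {Net.toPerm 100 p_g146}) = 32 :=
  card_cent nt_c16_sym nt_c16_cnt nt_c16_ge

theorem nt_c16_ord : orderOf (Net.toPerm 100 p_g146) = 8 :=
  orderOf_net p_hn p_hk p_g146_ok (by decide) (ps := [2]) (by set_option linter.unusedSimpArgs false in simp [Nat.primeFactorsList_ofNat]) (by decide +kernel)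

theorem p_le157 : grp 100 nt_c17_K ≤ grp 100 lb_E :=
  grp_le_of_memB p_hn p_hk lb_E_ok nt_c17_K_ok (ws := [nat_lit 0x2d251f1f25020d, nat_lit 0x3331272523210119]) (by decide +kernel)

theorem nt_c17_le : grp 100 nt_c17_K ≤ (grp 100 EG) :=
  (p_le157.trans T_s0.le)

theorem nt_c17_mem : Net.toPerm 100 p_g155 ∈ (grp 100 EG) :=
  nt_c17_le (toPerm_mem_grp (E := nt_c17_K) (List.Mem.tail _ (List.Mem.head _)))

theorem nt_c17_sym : Sym 100 (grp 100 EG) [p_g155] nt_c17_K 0 :=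
  Sym.of_lab p_hn p_hk (okE_cons.2 ⟨p_g155_ok, okE_nil _⟩) nt_c17_K_ok nt_c17_le (kT := 0) (by decide +kernel)

noncomputable def T_s23_O : ℕ := (nat_lit 0x400000000000000000000000000000000810000000000000020000000000400000000010000000000000002000000000000100020200000000000000200400000000400000000000000000000000004c0000000000000000000000032000000000000000000000000000a800000000000000000000000014800000010000000040000000010000000000080200000000000800000000000000000000000009800000000000000000000000640c10008300000000000000000200008000c0408000000000000040301000010200000000000400080080108010000000000010000404000000008c0000000808000200000000031000000000000000000000000054a40000000000050c000000002004000004000020108000000010200000000000000000000000000100000000000000000000000020020000000000000000000000)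

theorem T_s23_F : Frame 100 (grp 100 EG) 3 26 T_s23_O 0 1 :=
  Stab.frame p_hn T_s23 (by decide +kernel)

noncomputable def nt_c17_cnt_L : List ℕ := [1, 2, T_s1_O, 0, 0, 2, 6, T_s2_O, 0, 0, 3, 26, T_s23_O, 0, 0, 5, 9, T_s25_O, 1, 0]

theorem nt_c17_cnt_P : Prob 100 7 (grp 100 EG) nt_c17_cnt_EG [p_g155] [p_g155] nt_c17_K nt_c17_cnt_L 0 0 :=
  Sym.prob p_hn p_hk nt_c17_sym nt_c17_cnt_EG_ok (grp_cons_le MpJ2.a_T (grp_cons_le H47.J2P.h_g1_T (grp_cons_le H47.J2P.h_a19_T (grp_cons_le H47.J2P.h_a27_T (grp_cons_le H47.J2P.h_g7_T (grp_cons_le H47.J2P.h_a0_T (grp_cons_le H47.J2P.h_g4_T (grp_cons_le H47.J2P.h_a8_T (grp_cons_le H47.J2P.h_g14_T (grp_cons_le H47.J2P.h_g10_T (grp_cons_le H47.J2P.h_g11_T (grp_cons_le H47.J2P.h_g21_T (grp_cons_le H47.J2P.h_g22_T (grp_cons_le H47.J2P.h_g17_T (grp_cons_le H47.J2P.h_g18_T (grp_cons_le p_g1_T (grp_cons_le p_g2_T (grp_cons_le p_g5_T (grp_cons_le p_g6_T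 (grp_cons_le H47.J2P.h_g45_T (grp_cons_le p_g11_T (grp_cons_le H47.J2P.h_g53_T (grp_cons_le p_g26_T (grp_cons_le p_g27_T (grp_cons_le p_g28_T (grp_cons_le p_g29_T (grp_cons_le p_g107_T (grp_cons_le p_g106_T (grp_nil_le _))))))))))))))))))))))))))))) (Frames.cons T_s1_F (Frames.cons T_s2_F (Frames.cons T_s23_F (Frames.cons T_s25_F Frames.nil)))) (okE_cons.2 ⟨p_g155_ok, okE_nil _⟩) _

noncomputable def nt_c17_cnt_t : BT := (BT.fix (nat_lit 1) (BT.br (nat_lit 0) (nat_lit 9) [nat_lit 1] (BT.kid (nat_lit 9) (nat_lit 8) (BT.frm (nat_lit 0) (nat_lit 66591) (nat_lit 66591) [nat_lit 0] (BT.pln (nat_lit 0) (nat_lit 1) (BT.dif (nat_lit 6) (nat_lit 0) (BT.dif (nat_lit 4) (nat_lit 3) (BT.frm (nat_lit 1) (nat_lit 0x202b01041f) (nat_lit 0x202b01041f) [nat_lit 0, nat_lit 4] (BT.pln (nat_lit 0) (nat_lit 3) (BT.dif (nat_lit 3) (nat_lit 0) (BT.fix (nat_lit 257) (BT.dif (nat_lit 1) (nat_lit 0) (BT.br (nat_lit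 0) (nat_lit 94) [nat_lit 3] (BT.dead (nat_lit 91) (BT.frm (nat_lit 2) (nat_lit 0x3032202b01041f) (nat_lit 0x2d2d2f202b01041f) [nat_lit 0, nat_lit 6, nat_lit 10] (BT.pln (nat_lit 0) (nat_lit 22) (BT.img (nat_lit 1) (nat_lit 2) (BT.and (nat_lit 1) (nat_lit 0) (BT.cnt (nat_lit 0)))))) (BT.dead (nat_lit 32) (BT.frm (nat_lit 2) (nat_lit 0x3032202b01041f) (nat_lit 0x2e32202b01041f) [nat_lit 0, nat_lit 6, nat_lit 10] (BT.pln (nat_lit 0) (nat_lit 6) (BT.img (nat_lit 1) (nat_lit 2) (BT.img (nat_lit 1) (nat_lit 0) (BT.img (nat_lit 1) (nat_lit 0) (BT.and (nat_lit 3) (nat_lit 0) (BT.cnt (nat_lit 0)))))))) (BT.dead (nat_lit 73) (BT.frm (nat_lit 2) (nat_lit 0x3032202b01041f) (nat_lit 0x2d31202b01041f) [nat_lit 0, nat_lit 6, nat_lit 10] (BT.pln (nat_lit 0) (nat_lit 6) (BT.img (nat_lit 1) (nat_lit 2) (BT.and (nat_lit 1) (nat_lit 0) (BT.cnt (nat_lit 0)))))) (BT.kid (nat_lit 94) (nat_lit 1) (BT.frm (nat_lit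 2) (nat_lit 0x3032202b01041f) (nat_lit 0x3032202b01041f) [nat_lit 0, nat_lit 6, nat_lit 10] (BT.pln (nat_lit 0) (nat_lit 18) (BT.img (nat_lit 1) (nat_lit 0) (BT.br (nat_lit 0) (nat_lit 51) [] (BT.dead (nat_lit 31) (BT.img (nat_lit 1) (nat_lit 4) (BT.img (nat_lit 1) (nat_lit 0) (BT.img (nat_lit 1) (nat_lit 0) (BT.img (nat_lit 1) (nat_lit 0) (BT.img (nat_lit 1) (nat_lit 0) (BT.frm (nat_lit 3) (nat_lit 0x363032202b01041f) (nat_lit 0x353032202b01041f) [nat_lit 5, nat_lit 0, nat_lit 9, nat_lit 15, nat_lit 19] (BT.pln (nat_lit 0) (nat_lit 5) (BT.img (nat_lit 1) (nat_lit 7) (BT.and (nat_lit 1) (nat_lit 0) (BT.cnt (nat_lit 0))))))))))) (BT.dead (nat_lit 35) (BT.img (nat_lit 1) (nat_lit 4) (BT.img (nat_lit 1) (nat_lit 0) (BT.img (nat_lit 1) (nat_lit 0) (BT.img (nat_lit 1) (nat_lit 0) (BT.img (nat_lit 1) (nat_lit 0) (BT.frm (nat_lit 3) (nat_lit 0x363032202b01041f) (nat_lit 0x3032202b01041f) [nat_lit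 5, nat_lit 0, nat_lit 9, nat_lit 15, nat_lit 19] (BT.pln (nat_lit 0) (nat_lit 5) (BT.img (nat_lit 1) (nat_lit 7) (BT.img (nat_lit 1) (nat_lit 0) (BT.img (nat_lit 1) (nat_lit 0) (BT.and (nat_lit 3) (nat_lit 0) (BT.cnt (nat_lit 0))))))))))))) (BT.kid (nat_lit 51) (nat_lit 1) (BT.img (nat_lit 1) (nat_lit 4) (BT.img (nat_lit 1) (nat_lit 0) (BT.img (nat_lit 1) (nat_lit 0) (BT.img (nat_lit 1) (nat_lit 0) (BT.img (nat_lit 1) (nat_lit 0) (BT.one (nat_lit 3) (nat_lit 0x363032202b01041f) (nat_lit 0x363032202b01041f) [nat_lit 5, nat_lit 0, nat_lit 9, nat_lit 15, nat_lit 19])))))) BT.nil))))))) BT.nil)))))))))))))) BT.nil)))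

theorem nt_c17_cnt : Cnt 100 (grp 100 EG) [p_g155] [p_g155] 0 0 0 0 16 :=
  BT.sound nt_c17_cnt_P Known.nil (t := nt_c17_cnt_t) (d := 0) (by decide +kernel)

theorem nt_c17_ge : 16 ≤ Nat.card (grp 100 nt_c17_K) :=
  Ch.le_card_grp (k := 7) (L := (lab 100 7)) p_hn nt_c17_K_ok (c := (Ch.cons (nat_lit 9) [nat_lit 1] (Ch.cons (nat_lit 94) [nat_lit 3] Ch.nil))) (by decide +kernel)

theorem nt_c17_eq : (grp 100 EG) ⊓ Subgroup.centralizer {Net.toPerm 100 p_g155} = grp 100 nt_c17_K :=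
  cent_eq nt_c17_sym nt_c17_cnt nt_c17_ge

theorem nt_c17_card : Nat.card ↥((grp 100 EG) ⊓ Subgroup.centralizer {Net.toPerm 100 p_g155}) = 16 :=
  card_cent nt_c17_sym nt_c17_cnt nt_c17_ge

theorem nt_c17_ord : orderOf (Net.toPerm 100 p_g155) = 8 :=
  orderOf_net p_hn p_hk p_g155_ok (by decide) (ps := [2]) (by set_option linter.unusedSimpArgs false in simp [Nat.primeFactorsList_ofNat]) (by decide +kernel)

theorem p_le160 : grp 100 nt_c18_K ≤ grp 100 lb_E :=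
  grp_le_of_memB p_hn p_hk lb_E_ok nt_c18_K_ok (ws := [nat_lit 0x33312d272923251f0714, nat_lit 0x3331272925251f22010727]) (by decide +kernel)

theorem nt_c18_le : grp 100 nt_c18_K ≤ (grp 100 EG) :=
  (p_le160.trans T_s0.le)

theorem nt_c18_mem : Net.toPerm 100 p_g158 ∈ (grp 100 EG) :=
  nt_c18_le (toPerm_mem_grp (E := nt_c18_K) (List.Mem.head _))

theorem nt_c18_sym : Sym 100 (grp 100 EG) [p_g158] nt_c18_K 0 :=
  Sym.of_lab p_hn p_hk (okE_cons.2 ⟨p_g158_ok, okE_nil _⟩) nt_c18_K_ok nt_c18_le (kT := 0) (by decide +kernel)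

noncomputable def nt_c18_cnt_L : List ℕ := [1, 2, T_s1_O, 0, 0, 2, 5, T_s7_O, 0, 0, 3, 14, T_s16_O, 0, 0, 7, 11, T_s33_O, 1, 0]

theorem nt_c18_cnt_P : Prob 100 7 (grp 100 EG) nt_c18_cnt_EG [p_g158] [p_g158] nt_c18_K nt_c18_cnt_L 0 0 :=
  Sym.prob p_hn p_hk nt_c18_sym nt_c18_cnt_EG_ok (grp_cons_le MpJ2.a_T (grp_cons_le H47.J2P.h_g1_T (grp_cons_le H47.J2P.h_a19_T (grp_cons_le H47.J2P.h_a27_T (grp_cons_le H47.J2P.h_g7_T (grp_cons_le H47.J2P.h_a0_T (grp_cons_le H47.J2P.h_g4_T (grp_cons_le H47.J2P.h_a8_T (grp_cons_le H47.J2P.h_g14_T (grp_cons_le H47.J2P.h_g10_T (grp_cons_le H47.J2P.h_g11_T (grp_cons_le H47.J2P.h_g21_T (grp_cons_le H47.J2P.h_g22_T (grp_cons_le H47.J2P.h_g17_T (grp_cons_le H47.J2P.h_g18_T (grp_cons_le p_g1_T (grp_cons_le p_g2_T (grp_cons_le p_g5_T (grp_cons_le p_g6_T (grp_cons_le H47.J2P.h_g45_T (grp_cons_le p_g11_T (grp_cons_le H47.J2P.h_g53_T (grp_nil_le _)))))))))))))))))))))))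 (Frames.cons T_s1_F (Frames.cons T_s7_F (Frames.cons T_s16_F (Frames.cons T_s33_F Frames.nil)))) (okE_cons.2 ⟨p_g158_ok, okE_nil _⟩) _

noncomputable def nt_c18_cnt_t : BT := (BT.br (nat_lit 2) (nat_lit 0) [nat_lit 1, nat_lit 3] (BT.dead (nat_lit 5) (BT.frm (nat_lit 0) (nat_lit 0) (nat_lit 274) [nat_lit 0] (BT.pln (nat_lit 0) (nat_lit 1) (BT.img (nat_lit 1) (nat_lit 2) (BT.img (nat_lit 1) (nat_lit 0) (BT.img (nat_lit 1) (nat_lit 0) (BT.img (nat_lit 1) (nat_lit 0) (BT.img (nat_lit 1) (nat_lit 0) (BT.and (nat_lit 5) (nat_lit 0) (BT.cnt (nat_lit 0)))))))))) (BT.dead (nat_lit 4) (BT.frm (nat_lit 0) (nat_lit 0) (nat_lit 277) [nat_lit 0] (BT.pln (nat_lit 0) (nat_lit 1) (BT.img (nat_lit 1) (nat_lit 2) (BT.img (nat_lit 1) (nat_lit 0) (BT.img (nat_lit 1) (nat_lit 0) (BT.and (nat_lit 3) (nat_lit 0) (BT.cnt (nat_lit 0)))))))) (BT.dead (nat_lit 3) (BT.frm (nat_lit 0) (nat_lit 0) (nat_lit 522) [nat_lit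 0] (BT.pln (nat_lit 0) (nat_lit 1) (BT.img (nat_lit 1) (nat_lit 2) (BT.and (nat_lit 1) (nat_lit 0) (BT.cnt (nat_lit 0)))))) (BT.dead (nat_lit 2) (BT.frm (nat_lit 0) (nat_lit 0) (nat_lit 276) [nat_lit 0] (BT.pln (nat_lit 0) (nat_lit 1) (BT.img (nat_lit 1) (nat_lit 2) (BT.and (nat_lit 1) (nat_lit 0) (BT.cnt (nat_lit 0)))))) (BT.kid (nat_lit 0) (nat_lit 1) (BT.frm (nat_lit 0) (nat_lit 0) (nat_lit 0) [nat_lit 0] (BT.pln (nat_lit 0) (nat_lit 1) (BT.img (nat_lit 1) (nat_lit 2) (BT.img (nat_lit 1) (nat_lit 0) (BT.img (nat_lit 1) (nat_lit 0) (BT.frm (nat_lit 1) (nat_lit 0x1f1f23) (nat_lit 0x1f1f23) [nat_lit 0, nat_lit 5] (BT.pln (nat_lit 0) (nat_lit 4) (BT.and (nat_lit 5) (nat_lit 0) (BT.dif (nat_lit 6) (nat_lit 3) (BT.img (nat_lit 1) (nat_lit 4) (BT.img (nat_lit 1) (nat_lit 0) (BT.img (nat_lit 1) (nat_lit 0) (BT.img (nat_lit 1) (nat_lit 0) (BT.dif (nat_lit 4) (nat_lit 0) (BT.img (nat_lit 1)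 (nat_lit 0) (BT.and (nat_lit 7) (nat_lit 0) (BT.dif (nat_lit 19) (nat_lit 14) (BT.and (nat_lit 0) (nat_lit 2) (BT.img (nat_lit 1) (nat_lit 0) (BT.and (nat_lit 17) (nat_lit 0) (BT.img (nat_lit 1) (nat_lit 0) (BT.and (nat_lit 3) (nat_lit 0) (BT.img (nat_lit 1) (nat_lit 0) (BT.and (nat_lit 6) (nat_lit 0) (BT.and (nat_lit 22) (nat_lit 1) (BT.img (nat_lit 1) (nat_lit 0) (BT.and (nat_lit 8) (nat_lit 0) (BT.img (nat_lit 1) (nat_lit 0) (BT.and (nat_lit 4) (nat_lit 0) (BT.img (nat_lit 1) (nat_lit 0) (BT.and (nat_lit 22) (nat_lit 0) (BT.frm (nat_lit 2) (nat_lit 0x261f1f23) (nat_lit 0x261f1f23) [nat_lit 0, nat_lit 26, nat_lit 31] (BT.pln (nat_lit 0) (nat_lit 7) (BT.and (nat_lit 17) (nat_lit 0) (BT.and (nat_lit 32) (nat_lit 19) (BT.dif (nat_lit 33) (nat_lit 20) (BT.dif (nat_lit 0) (nat_lit 31) (BT.dif (nat_lit 0) (nat_lit 24) (BT.dif (nat_lit 0) (nat_lit 19) (BT.dif (nat_lit 22) (nat_lit 39) (BT.dif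 (nat_lit 0) (nat_lit 25) (BT.dif (nat_lit 0) (nat_lit 38) (BT.dif (nat_lit 0) (nat_lit 38) (BT.dif (nat_lit 0) (nat_lit 24) (BT.dif (nat_lit 0) (nat_lit 34) (BT.dif (nat_lit 0) (nat_lit 34) (BT.dif (nat_lit 0) (nat_lit 34) (BT.img (nat_lit 1) (nat_lit 34) (BT.dif (nat_lit 1) (nat_lit 0) (BT.img (nat_lit 1) (nat_lit 1) (BT.dif (nat_lit 1) (nat_lit 0) (BT.dif (nat_lit 27) (nat_lit 23) (BT.img (nat_lit 1) (nat_lit 0) (BT.dif (nat_lit 2) (nat_lit 0) (BT.and (nat_lit 3) (nat_lit 1) (BT.img (nat_lit 1) (nat_lit 0) (BT.dif (nat_lit 2) (nat_lit 0) (BT.and (nat_lit 6) (nat_lit 1) (BT.img (nat_lit 1) (nat_lit 0) (BT.dif (nat_lit 2) (nat_lit 0) (BT.and (nat_lit 9) (nat_lit 1) (BT.img (nat_lit 1) (nat_lit 0) (BT.dif (nat_lit 2) (nat_lit 0) (BT.and (nat_lit 12) (nat_lit 1) (BT.img (nat_lit 1) (nat_lit 0) (BT.dif (nat_lit 2) (nat_lit 0) (BT.img (nat_lit 1) (nat_lit 0) (BT.and (nat_lit 16) (nat_lit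 0) (BT.img (nat_lit 1) (nat_lit 0) (BT.and (nat_lit 30) (nat_lit 0) (BT.img (nat_lit 1) (nat_lit 0) (BT.and (nat_lit 36) (nat_lit 0) (BT.img (nat_lit 1) (nat_lit 0) (BT.and (nat_lit 38) (nat_lit 0) (BT.img (nat_lit 1) (nat_lit 0) (BT.and (nat_lit 40) (nat_lit 0) (BT.img (nat_lit 1) (nat_lit 0) (BT.dif (nat_lit 43) (nat_lit 0) (BT.dif (nat_lit 70) (nat_lit 63) (BT.pln (nat_lit 47) (nat_lit 10) (BT.and (nat_lit 1) (nat_lit 0) (BT.dif (nat_lit 0) (nat_lit 28) (BT.and (nat_lit 42) (nat_lit 63) (BT.dif (nat_lit 0) (nat_lit 60) (BT.and (nat_lit 82) (nat_lit 54) (BT.img (nat_lit 1) (nat_lit 0) (BT.and (nat_lit 68) (nat_lit 0) (BT.img (nat_lit 1) (nat_lit 0) (BT.dif (nat_lit 4) (nat_lit 0) (BT.and (nat_lit 51) (nat_lit 36) (BT.img (nat_lit 1) (nat_lit 0) (BT.and (nat_lit 56) (nat_lit 0) (BT.img (nat_lit 1) (nat_lit 0) (BT.and (nat_lit 58) (nat_lit 0) (BT.img (nat_lit 1) (nat_lit 0) (BT.and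 (nat_lit 77) (nat_lit 0) (BT.img (nat_lit 1) (nat_lit 0) (BT.dif (nat_lit 8) (nat_lit 0) (BT.dif (nat_lit 80) (nat_lit 77) (BT.dif (nat_lit 0) (nat_lit 13) (BT.and (nat_lit 60) (nat_lit 12) (BT.img (nat_lit 1) (nat_lit 0) (BT.and (nat_lit 100) (nat_lit 0) (BT.img (nat_lit 1) (nat_lit 0) (BT.dif (nat_lit 4) (nat_lit 0) (BT.and (nat_lit 54) (nat_lit 40) (BT.img (nat_lit 1) (nat_lit 0) (BT.and (nat_lit 69) (nat_lit 0) (BT.img (nat_lit 1) (nat_lit 0) (BT.dif (nat_lit 4) (nat_lit 0) (BT.dif (nat_lit 71) (nat_lit 80) (BT.dif (nat_lit 0) (nat_lit 9) (BT.dif (nat_lit 0) (nat_lit 45) (BT.dif (nat_lit 0) (nat_lit 60) (BT.dif (nat_lit 0) (nat_lit 7) (BT.and (nat_lit 32) (nat_lit 18) (BT.img (nat_lit 1) (nat_lit 0) (BT.dif (nat_lit 2) (nat_lit 0) (BT.img (nat_lit 1) (nat_lit 0) (BT.dif (nat_lit 9) (nat_lit 0) (BT.dif (nat_lit 0) (nat_lit 25) (BT.and (nat_lit 83) (nat_lit 4) (BT.img (nat_lit 1)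 (nat_lit 0) (BT.dif (nat_lit 2) (nat_lit 0) (BT.dif (nat_lit 89) (nat_lit 33) (BT.dif (nat_lit 0) (nat_lit 32) (BT.and (nat_lit 91) (nat_lit 7) (BT.img (nat_lit 1) (nat_lit 0) (BT.and (nat_lit 2) (nat_lit 0) (BT.img (nat_lit 1) (nat_lit 0) (BT.and (nat_lit 4) (nat_lit 0) (BT.img (nat_lit 1) (nat_lit 0) (BT.and (nat_lit 6) (nat_lit 0) (BT.img (nat_lit 1) (nat_lit 0) (BT.and (nat_lit 10) (nat_lit 0) (BT.img (nat_lit 1) (nat_lit 0) (BT.and (nat_lit 38) (nat_lit 0) (BT.img (nat_lit 1) (nat_lit 0) (BT.dif (nat_lit 56) (nat_lit 0) (BT.and (nat_lit 34) (nat_lit 20) (BT.and (nat_lit 22) (nat_lit 2) (BT.img (nat_lit 1) (nat_lit 0) (BT.dif (nat_lit 2) (nat_lit 0) (BT.img (nat_lit 1) (nat_lit 0) (BT.and (nat_lit 46) (nat_lit 0) (BT.img (nat_lit 1) (nat_lit 0) (BT.dif (nat_lit 7) (nat_lit 0) (BT.one (nat_lit 3) (nat_lit 0xb2b261f1f23) (nat_lit 0xb2b261f1f23) [nat_lit 69, nat_lit 0, nat_lit 92,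 nat_lit 12, nat_lit 62, nat_lit 142, nat_lit 147])))))))))))))))))))))))))))))))))))))))))))))))))))))))))))))))))))))))))))))))))))))))))))))))))))))))))))))))))))))))))))))))))))))))))))))))))))) BT.nil))))))

theorem nt_c18_cnt : Cnt 100 (grp 100 EG) [p_g158] [p_g158] 0 0 0 0 20 :=
  BT.sound nt_c18_cnt_P Known.nil (t := nt_c18_cnt_t) (d := 0) (by decide +kernel)

theorem nt_c18_ge : 20 ≤ Nat.card (grp 100 nt_c18_K) :=
  Ch.le_card_grp (k := 7) (L := (lab 100 7)) p_hn nt_c18_K_ok (c := (Ch.cons (nat_lit 0) [nat_lit 1, nat_lit 3] Ch.nil)) (by decide +kernel)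

theorem nt_c18_eq : (grp 100 EG) ⊓ Subgroup.centralizer {Net.toPerm 100 p_g158} = grp 100 nt_c18_K :=
  cent_eq nt_c18_sym nt_c18_cnt nt_c18_ge

theorem nt_c18_card : Nat.card ↥((grp 100 EG) ⊓ Subgroup.centralizer {Net.toPerm 100 p_g158}) = 20 :=
  card_cent nt_c18_sym nt_c18_cnt nt_c18_ge

theorem nt_c18_ord : orderOf (Net.toPerm 100 p_g158) = 10 :=
  orderOf_net p_hn p_hk p_g158_ok (by decide) (ps := [2, 5]) (by set_option linter.unusedSimpArgs false in simp [Nat.primeFactorsList_ofNat]) (by decide +kernel)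

theorem p_le163 : grp 100 nt_c19_K ≤ grp 100 lb_E :=
  grp_le_of_memB p_hn p_hk lb_E_ok nt_c19_K_ok (ws := [nat_lit 0x31252d1f1f250514, nat_lit 0x2d271f25011704]) (by decide +kernel)

theorem nt_c19_le : grp 100 nt_c19_K ≤ (grp 100 EG) :=
  (p_le163.trans T_s0.le)

theorem nt_c19_mem : Net.toPerm 100 p_g161 ∈ (grp 100 EG) :=
  nt_c19_le (toPerm_mem_grp (E := nt_c19_K) (List.Mem.head _))

theorem nt_c19_sym : Sym 100 (grp 100 EG) [p_g161] nt_c19_K 0 :=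
  Sym.of_lab p_hn p_hk (okE_cons.2 ⟨p_g161_ok, okE_nil _⟩) nt_c19_K_ok nt_c19_le (kT := 0) (by decide +kernel)

theorem p_le165 : grp 100 p_V164 ≤ grp 100 p_V49 :=
  grp_le_of_memB p_hn p_hk p_V49_ok p_V164_ok (ws := [nat_lit 1]) (by decide +kernel)

theorem T_s36 : Stab 100 (grp 100 EG) [nat_lit 47, nat_lit 85, nat_lit 36, nat_lit 2, nat_lit 0] p_V164 2 :=
  Stab.step (k := 7) (L := (lab 100 7)) p_hn T_s9 p_V164_ok p_le165 (c := (Ch.cons (nat_lit 84) [nat_lit 1] Ch.nil)) (by decide +kernel)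

theorem T_s37 : Stab 100 (grp 100 EG) [nat_lit 84, nat_lit 47, nat_lit 85, nat_lit 36, nat_lit 2, nat_lit 0] p_V166 1 :=
  Stab.step (k := 7) (L := (lab 100 7)) p_hn T_s36 p_V166_ok (grp_mono (List.subset_append_right [p_g45] _)) (c := Ch.nil) (by decide +kernel)

noncomputable def T_s37_O : ℕ := (nat_lit 0x3333266666ccccd99999333321f07c1f03e0f83e0f83e0f83ee63398c67319ce63398c673184db24d926c93649b64db26d92000000000000000000000000100000000000000000000000040000000000000001000000000000200000000000000000000000000000000008000000000000001000000000000000000000)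

theorem T_s37_F : Frame 100 (grp 100 EG) 6 10 T_s37_O 1 1 :=
  IsBase.frame T_s37.isBase (by decide +kernel)

noncomputable def T_s36_O : ℕ := (nat_lit 0x4000000000000000000000000040000000000000000000000002000000000000000000000000040000000000000000000000000080000000000000000000000000000004000000000000000000000000020000000000000000000000000800000000000000000000000010000000000000000000000000100000000000000000000000004000000000000000000000000200000000000000000000000000000200000000000000000000000000004000000000000000000000000100021000000000000000000000000840000000000000000000008001000000000000000000000004008000000000000000000010000100000000000000000000002000200000000000000000010000004000000000000000000000200000400000000000000000004000002000000000000000040000000010000000000008000000000000080000000000000000000400004000000002000000000000000200000000100000000000000010000000000000000002000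0008000000000000200000000000400000008000000000000000020000000000000000000000801000000000000000001000000080000000000000000000400004000000000000000000000200200000000000000000800000010000000000000000000004000800000000000000080000000040000000000000000100000001000000000000800000000000080000000008000000000000004000000000000000020000000200000000000100000000000010000000000000000008000000800000000100000000000000040000000000010000000000002000000000008000000000000100000000040000000000000008000000000002000000000000400000000000800000000000020000000000400000000000000800000000001000000000000020000000000000000000000010800000000000000000000000010000000000000000000000004000000000000000100000000000020000000000000000000000000000000000800000000000)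

theorem T_s36_F : Frame 100 (grp 100 EG) 5 59 T_s36_O 0 1 :=
  Stab.frame p_hn T_s36 (by decide +kernel)

noncomputable def nt_c19_cnt_L : List ℕ := [1, 2, T_s1_O, 0, 0, 3, 17, T_s8_O, 0, 0, 5, 59, T_s36_O, 0, 0, 6, 10, T_s37_O, 1, 0]

theorem nt_c19_cnt_P : Prob 100 7 (grp 100 EG) nt_c19_cnt_EG [p_g161] [p_g161] nt_c19_K nt_c19_cnt_L 0 0 :=
  Sym.prob p_hn p_hk nt_c19_sym nt_c19_cnt_EG_ok (grp_cons_le MpJ2.a_T (grp_cons_le H47.J2P.h_g1_T (grp_cons_le H47.J2P.h_a19_T (grp_cons_le H47.J2P.h_a27_T (grp_cons_le H47.J2P.h_g7_T (grp_cons_le H47.J2P.h_a0_T (grp_cons_le H47.J2P.h_g4_T (grp_cons_le H47.J2P.h_a8_T (grp_cons_le H47.J2P.h_g14_T (grp_cons_le H47.J2P.h_g10_T (grp_cons_le H47.J2P.h_g11_T (grp_cons_le H47.J2P.h_g21_T (grp_cons_le H47.J2P.h_g22_T (grp_cons_le H47.J2P.h_g17_T (grp_cons_le H47.J2P.h_g18_T (grp_cons_le p_g1_T (grp_cons_le p_g2_T (grp_cons_le p_g5_T (grp_cons_le p_g6_T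 (grp_cons_le H47.J2P.h_g45_T (grp_cons_le p_g11_T (grp_cons_le H47.J2P.h_g53_T (grp_cons_le p_g45_T (grp_cons_le p_g46_T (grp_cons_le p_g44_T (grp_nil_le _)))))))))))))))))))))))))) (Frames.cons T_s1_F (Frames.cons T_s8_F (Frames.cons T_s36_F (Frames.cons T_s37_F Frames.nil)))) (okE_cons.2 ⟨p_g161_ok, okE_nil _⟩) _

noncomputable def nt_c19_cnt_t : BT := (BT.fix (nat_lit 0x101010101) (BT.br (nat_lit 0) (nat_lit 98) [nat_lit 1] (BT.dead (nat_lit 69) (BT.img (nat_lit 1) (nat_lit 0) (BT.img (nat_lit 1) (nat_lit 0) (BT.frm (nat_lit 1) (nat_lit 0x232627200b010e) (nat_lit 0x2a232020250404) [nat_lit 0, nat_lit 1, nat_lit 2] (BT.pln (nat_lit 0) (nat_lit 5) (BT.frm (nat_lit 0) (nat_lit 270) (nat_lit 1028) [nat_lit 4] (BT.pln (nat_lit 0) (nat_lit 1) (BT.dif (nat_lit 10) (nat_lit 0) (BT.dif (nat_lit 1) (nat_lit 8) (BT.img (nat_lit 1) (nat_lit 0) (BT.and (nat_lit 2) (nat_lit 0) (BT.and (nat_lit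 4) (nat_lit 1) (BT.img (nat_lit 1) (nat_lit 0) (BT.and (nat_lit 6) (nat_lit 0) (BT.img (nat_lit 1) (nat_lit 0) (BT.and (nat_lit 4) (nat_lit 0) (BT.img (nat_lit 1) (nat_lit 0) (BT.and (nat_lit 9) (nat_lit 0) (BT.img (nat_lit 1) (nat_lit 0) (BT.and (nat_lit 14) (nat_lit 0) (BT.cnt (nat_lit 0))))))))))))))))))))) (BT.dead (nat_lit 92) (BT.frm (nat_lit 0) (nat_lit 270) (nat_lit 66321) [nat_lit 0] (BT.pln (nat_lit 0) (nat_lit 1) (BT.img (nat_lit 1) (nat_lit 2) (BT.and (nat_lit 1) (nat_lit 0) (BT.cnt (nat_lit 0)))))) (BT.dead (nat_lit 90) (BT.frm (nat_lit 0) (nat_lit 270) (nat_lit 1794) [nat_lit 0] (BT.pln (nat_lit 0) (nat_lit 1) (BT.img (nat_lit 1) (nat_lit 2) (BT.and (nat_lit 1) (nat_lit 0) (BT.cnt (nat_lit 0)))))) (BT.kid (nat_lit 98) (nat_lit 2) (BT.dif (nat_lit 4) (nat_lit 1) (BT.frm (nat_lit 0) (nat_lit 270) (nat_lit 270) [nat_lit 1] (BT.pln (nat_lit 0) (nat_lit 1) (BT.dif (nat_lit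 2) (nat_lit 0) (BT.img (nat_lit 1) (nat_lit 4) (BT.img (nat_lit 1) (nat_lit 0) (BT.img (nat_lit 1) (nat_lit 0) (BT.frm (nat_lit 1) (nat_lit 0x232627200b010e) (nat_lit 0x232627200b010e) [nat_lit 1, nat_lit 2, nat_lit 7] (BT.pln (nat_lit 0) (nat_lit 12) (BT.and (nat_lit 0) (nat_lit 10) (BT.dif (nat_lit 11) (nat_lit 7) (BT.dif (nat_lit 0) (nat_lit 11) (BT.and (nat_lit 9) (nat_lit 13) (BT.dif (nat_lit 1) (nat_lit 7) (BT.dif (nat_lit 0) (nat_lit 7) (BT.img (nat_lit 1) (nat_lit 0) (BT.and (nat_lit 5) (nat_lit 0) (BT.img (nat_lit 1) (nat_lit 0) (BT.and (nat_lit 5) (nat_lit 0) (BT.img (nat_lit 1) (nat_lit 0) (BT.and (nat_lit 8) (nat_lit 0) (BT.img (nat_lit 1) (nat_lit 0) (BT.and (nat_lit 12) (nat_lit 0) (BT.frm (nat_lit 2) (nat_lit 0x2f31232627200b010e) (nat_lit 0x2f31232627200b010e) [nat_lit 16, nat_lit 0, nat_lit 17, nat_lit 18, nat_lit 23] (BT.pln (nat_lit 0) (nat_lit 43) (BT.and (nat_lit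 21) (nat_lit 0) (BT.br (nat_lit 0) (nat_lit 47) [nat_lit 3] (BT.kid (nat_lit 47) (nat_lit 1) (BT.one (nat_lit 3) (nat_lit 0x2f31232627200b010e) (nat_lit 0x2f31232627200b010e) [nat_lit 0, nat_lit 20, nat_lit 4, nat_lit 21, nat_lit 22, nat_lit 27]) BT.nil)))))))))))))))))))))))))))) BT.nil))))))

theorem nt_c19_cnt : Cnt 100 (grp 100 EG) [p_g161] [p_g161] 0 0 0 0 10 :=
  BT.sound nt_c19_cnt_P Known.nil (t := nt_c19_cnt_t) (d := 0) (by decide +kernel)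

theorem nt_c19_ge : 10 ≤ Nat.card (grp 100 nt_c19_K) :=
  Ch.le_card_grp (k := 7) (L := (lab 100 7)) p_hn nt_c19_K_ok (c := (Ch.cons (nat_lit 98) [nat_lit 1] (Ch.cons (nat_lit 47) [nat_lit 3] Ch.nil))) (by decide +kernel)

theorem nt_c19_eq : (grp 100 EG) ⊓ Subgroup.centralizer {Net.toPerm 100 p_g161} = grp 100 nt_c19_K :=
  cent_eq nt_c19_sym nt_c19_cnt nt_c19_ge

theorem nt_c19_card : Nat.card ↥((grp 100 EG) ⊓ Subgroup.centralizer {Net.toPerm 100 p_g161}) = 10 :=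
  card_cent nt_c19_sym nt_c19_cnt nt_c19_ge

theorem nt_c19_ord : orderOf (Net.toPerm 100 p_g161) = 10 :=
  orderOf_net p_hn p_hk p_g161_ok (by decide) (ps := [2, 5]) (by set_option linter.unusedSimpArgs false in simp [Nat.primeFactorsList_ofNat]) (by decide +kernel)

theorem p_le169 : grp 100 nt_c20_K ≤ grp 100 lb_E :=
  grp_le_of_memB p_hn p_hk lb_E_ok nt_c20_K_ok (ws := [nat_lit 0x2d2726202225010418, nat_lit 0x33312726231f251f0404, nat_lit 0x332d27292629050f]) (by decide +kernel)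

theorem nt_c20_le : grp 100 nt_c20_K ≤ (grp 100 EG) :=
  (p_le169.trans T_s0.le)

theorem nt_c20_mem : Net.toPerm 100 p_g167 ∈ (grp 100 EG) :=
  nt_c20_le (toPerm_mem_grp (E := nt_c20_K) (List.Mem.head _))

theorem nt_c20_sym : Sym 100 (grp 100 EG) [p_g167] nt_c20_K 0 :=
  Sym.of_lab p_hn p_hk (okE_cons.2 ⟨p_g167_ok, okE_nil _⟩) nt_c20_K_ok nt_c20_le (kT := 0) (by decide +kernel)

theorem p_le171 : grp 100 p_V170 ≤ grp 100 p_V138 :=
  grp_le_of_memB p_hn p_hk p_V138_ok p_V170_ok (ws := [nat_lit 1283]) (by decide +kernel)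

theorem T_s38 : Stab 100 (grp 100 EG) [nat_lit 58, nat_lit 1, nat_lit 15, nat_lit 3, nat_lit 2, nat_lit 0] p_V170 2 :=
  Stab.step (k := 7) (L := (lab 100 7)) p_hn T_s31 p_V170_ok p_le171 (c := (Ch.cons (nat_lit 60) [nat_lit 1] Ch.nil)) (by decide +kernel)

theorem T_s39 : Stab 100 (grp 100 EG) [nat_lit 60, nat_lit 58, nat_lit 1, nat_lit 15, nat_lit 3, nat_lit 2, nat_lit 0] p_V172 1 :=
  Stab.step (k := 7) (L := (lab 100 7)) p_hn T_s38 p_V172_ok (grp_mono (List.subset_append_right [H47.J2P.h_g50] _)) (c := Ch.nil) (by decide +kernel)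

theorem H47.J2P.h_g50_T : Net.toPerm 100 H47.J2P.h_g50 ∈ (grp 100 EG) :=
  T_s38.le (toPerm_mem_grp (E := p_V170) (List.Mem.head _))

noncomputable def T_s39_O : ℕ := (nat_lit 0x3333266666ccccd99999333321f07c1f03e0f83e0f83e0f83ee63398c67319ce63398c673184db24d926c93649b64db26d920000000000000000000000001000000000000000000000000400000000000000000000000080000000000000000000008000000000000000000000000000200000000004000000000000000000000001000000000000000)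

theorem T_s39_F : Frame 100 (grp 100 EG) 7 11 T_s39_O 1 1 :=
  IsBase.frame T_s39.isBase (by decide +kernel)

noncomputable def T_s30_O : ℕ := (nat_lit 0x10000000000000000000000000400000000010000800000000000000000002000040000000000000000000400002000000000000000000080000100000000000000000000000000000000000200800000000000000000000080040000000000000000000800000200080000100204000000000000800000100000042000000000008004000000000042000000000000000002040000009000000000000000108000002040000000000000040200000400400040000008000000000002001000000000000801000000000030002100408004021800000000080040004200108002400000000110028000000024810000000300000300000000018000180002020100400801000000024000000000000000000000000001000000000000000000000000400000000000000000000000080000000000000000000008000)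

theorem T_s30_F : Frame 100 (grp 100 EG) 4 26 T_s30_O 0 1 :=
  Stab.frame p_hn T_s30 (by decide +kernel)

noncomputable def nt_c20_cnt_L : List ℕ := [1, 2, T_s1_O, 0, 0, 3, 14, T_s16_O, 0, 0, 4, 26, T_s30_O, 0, 0, 7, 11, T_s39_O, 1, 0]

theorem nt_c20_cnt_P : Prob 100 7 (grp 100 EG) nt_c20_cnt_EG [p_g167] [p_g167] nt_c20_K nt_c20_cnt_L 0 0 :=
  Sym.prob p_hn p_hk nt_c20_sym nt_c20_cnt_EG_ok (grp_cons_le MpJ2.a_T (grp_cons_le H47.J2P.h_g1_T (grp_cons_le H47.J2P.h_a19_T (grp_cons_le H47.J2P.h_a27_T (grp_cons_le H47.J2P.h_g7_T (grp_cons_le H47.J2P.h_a0_T (grp_cons_le H47.J2P.h_g4_T (grp_cons_le H47.J2P.h_a8_T (grp_cons_le H47.J2P.h_g14_T (grp_cons_le H47.J2P.h_g10_T (grp_cons_le H47.J2P.h_g11_T (grp_cons_le H47.J2P.h_g21_T (grp_cons_le H47.J2P.h_g22_T (grp_cons_le H47.J2P.h_g17_T (grp_cons_le H47.J2P.h_g18_T (grp_cons_le p_g1_T (grp_cons_le p_g2_T (grp_cons_le p_g5_T (grp_cons_le p_g6_T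 (grp_cons_le H47.J2P.h_g45_T (grp_cons_le p_g11_T (grp_cons_le H47.J2P.h_g53_T (grp_cons_le H47.J2P.h_g50_T (grp_nil_le _)))))))))))))))))))))))) (Frames.cons T_s1_F (Frames.cons T_s16_F (Frames.cons T_s30_F (Frames.cons T_s39_F Frames.nil)))) (okE_cons.2 ⟨p_g167_ok, okE_nil _⟩) _

noncomputable def nt_c20_cnt_t : BT := (BT.fix (nat_lit 0x10101010101) (BT.fix (nat_lit 65793) (BT.dif (nat_lit 1) (nat_lit 0) (BT.br (nat_lit 0) (nat_lit 88) [nat_lit 3] (BT.kid (nat_lit 88) (nat_lit 2) (BT.frm (nat_lit 0) (nat_lit 1289) (nat_lit 1289) [nat_lit 0] (BT.pln (nat_lit 0) (nat_lit 1) (BT.dif (nat_lit 0) (nat_lit 5) (BT.dif (nat_lit 5) (nat_lit 1) (BT.img (nat_lit 1) (nat_lit 4) (BT.img (nat_lit 1) (nat_lit 0) (BT.frm (nat_lit 1) (nat_lit 0x230b200509) (nat_lit 0x230b200509) [nat_lit 0, nat_lit 1, nat_lit 6] (BT.pln (nat_lit 0) (nat_lit 6) (BT.dif (nat_lit 4) (nat_lit 0) (BT.frm (nat_lit 2) (nat_lit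 0x27230b200509) (nat_lit 0x27230b200509) [nat_lit 0, nat_lit 3, nat_lit 4, nat_lit 9] (BT.pln (nat_lit 0) (nat_lit 11) (BT.and (nat_lit 8) (nat_lit 0) (BT.br (nat_lit 0) (nat_lit 91) [nat_lit 5] (BT.kid (nat_lit 91) (nat_lit 1) (BT.img (nat_lit 1) (nat_lit 0) (BT.img (nat_lit 1) (nat_lit 8) (BT.one (nat_lit 3) (nat_lit 0x2927230b200509) (nat_lit 0x2927230b200509) [nat_lit 1, nat_lit 2, nat_lit 0, nat_lit 6, nat_lit 9, nat_lit 10, nat_lit 15]))) BT.nil)))))))))))))) BT.nil)))))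

theorem nt_c20_cnt : Cnt 100 (grp 100 EG) [p_g167] [p_g167] 0 0 0 0 24 :=
  BT.sound nt_c20_cnt_P Known.nil (t := nt_c20_cnt_t) (d := 0) (by decide +kernel)

theorem nt_c20_ge : 24 ≤ Nat.card (grp 100 nt_c20_K) :=
  Ch.le_card_grp (k := 7) (L := (lab 100 7)) p_hn nt_c20_K_ok (c := (Ch.cons (nat_lit 88) [nat_lit 1, nat_lit 3] (Ch.cons (nat_lit 91) [nat_lit 5] Ch.nil))) (by decide +kernel)

theorem nt_c20_eq : (grp 100 EG) ⊓ Subgroup.centralizer {Net.toPerm 100 p_g167} = grp 100 nt_c20_K :=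
  cent_eq nt_c20_sym nt_c20_cnt nt_c20_ge

theorem nt_c20_card : Nat.card ↥((grp 100 EG) ⊓ Subgroup.centralizer {Net.toPerm 100 p_g167}) = 24 :=
  card_cent nt_c20_sym nt_c20_cnt nt_c20_ge

theorem nt_c20_ord : orderOf (Net.toPerm 100 p_g167) = 12 :=
  orderOf_net p_hn p_hk p_g167_ok (by decide) (ps := [2, 3]) (by set_option linter.unusedSimpArgs false in simp [Nat.primeFactorsList_ofNat]) (by decide +kernel)

theorem p_le173 : grp 100 nt_c21_K ≤ grp 100 lb_E :=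
  grp_le_of_memB p_hn p_hk lb_E_ok nt_c21_K_ok (ws := [nat_lit 0x33312d27260302, nat_lit 0x2d231f2d0503]) (by decide +kernel)

theorem nt_c21_le : grp 100 nt_c21_K ≤ (grp 100 EG) :=
  (p_le173.trans T_s0.le)

theorem nt_c21_mem : Net.toPerm 100 p_g99 ∈ (grp 100 EG) :=
  nt_c21_le (toPerm_mem_grp (E := nt_c21_K) (List.Mem.head _))

theorem nt_c21_sym : Sym 100 (grp 100 EG) [p_g99] nt_c21_K 0 :=
  Sym.of_lab p_hn p_hk (okE_cons.2 ⟨p_g99_ok, okE_nil _⟩) nt_c21_K_ok nt_c21_le (kT := 0) (by decide +kernel)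

noncomputable def nt_c21_cnt_L : List ℕ := [3, 14, T_s16_O, 0, 0, 6, 10, T_s19_O, 1, 0]

theorem nt_c21_cnt_P : Prob 100 7 (grp 100 EG) nt_c21_cnt_EG [p_g99] [p_g99] nt_c21_K nt_c21_cnt_L 0 0 :=
  Sym.prob p_hn p_hk nt_c21_sym nt_c21_cnt_EG_ok (grp_cons_le p_g5_T (grp_cons_le p_g6_T (grp_cons_le H47.J2P.h_g45_T (grp_cons_le H47.J2P.h_a0_T (grp_cons_le p_g11_T (grp_cons_le H47.J2P.h_g53_T (grp_cons_le p_g1_T (grp_cons_le p_g2_T (grp_cons_le MpJ2.a_T (grp_cons_le H47.J2P.h_g1_T (grp_cons_le H47.J2P.h_a19_T (grp_cons_le H47.J2P.h_a27_T (grp_cons_le H47.J2P.h_g7_T (grp_cons_le H47.J2P.h_g4_T (grp_cons_le H47.J2P.h_a8_T (grp_cons_le H47.J2P.h_g14_T (grp_cons_le H47.J2P.h_g10_T (grp_cons_le H47.J2P.h_g11_T (grp_cons_le H47.J2P.h_g21_T (grp_cons_le H47.J2P.h_g22_T (grp_cons_le H47.J2P.h_g17_T (grp_cons_le H47.J2P.h_g18_T (grp_cons_le p_g77_T (grp_cons_le p_g76_T (grp_nil_le _)))))))))))))))))))))))))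 (Frames.cons T_s16_F (Frames.cons T_s19_F Frames.nil)) (okE_cons.2 ⟨p_g99_ok, okE_nil _⟩) _

noncomputable def nt_c21_cnt_t : BT := (BT.fix (nat_lit 0x1010101) (BT.br (nat_lit 0) (nat_lit 47) [nat_lit 1] (BT.kid (nat_lit 47) (nat_lit 3) (BT.img (nat_lit 1) (nat_lit 0) (BT.img (nat_lit 1) (nat_lit 0) (BT.frm (nat_lit 0) (nat_lit 0x3010f091707) (nat_lit 0x3010f091707) [nat_lit 0, nat_lit 1, nat_lit 2] (BT.pln (nat_lit 0) (nat_lit 12) (BT.br (nat_lit 0) (nat_lit 23) [nat_lit 3] (BT.kid (nat_lit 23) (nat_lit 1) (BT.img (nat_lit 1) (nat_lit 0) (BT.dif (nat_lit 7) (nat_lit 6) (BT.dif (nat_lit 0) (nat_lit 6) (BT.dif (nat_lit 0) (nat_lit 6) (BT.one (nat_lit 1) (nat_lit 0x2d03010f091707) (nat_lit 0x2d03010f091707) [nat_lit 3, nat_lit 4, nat_lit 0, nat_lit 7, nat_lit 8, nat_lit 9]))))) BT.nil)))))) BT.nil)))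

theorem nt_c21_cnt : Cnt 100 (grp 100 EG) [p_g99] [p_g99] 0 0 0 0 12 :=
  BT.sound nt_c21_cnt_P Known.nil (t := nt_c21_cnt_t) (d := 0) (by decide +kernel)

theorem nt_c21_ge : 12 ≤ Nat.card (grp 100 nt_c21_K) :=
  Ch.le_card_grp (k := 7) (L := (lab 100 7)) p_hn nt_c21_K_ok (c := (Ch.cons (nat_lit 47) [nat_lit 1] (Ch.cons (nat_lit 23) [nat_lit 3] Ch.nil))) (by decide +kernel)

theorem nt_c21_eq : (grp 100 EG) ⊓ Subgroup.centralizer {Net.toPerm 100 p_g99} = grp 100 nt_c21_K :=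
  cent_eq nt_c21_sym nt_c21_cnt nt_c21_ge

theorem nt_c21_card : Nat.card ↥((grp 100 EG) ⊓ Subgroup.centralizer {Net.toPerm 100 p_g99}) = 12 :=
  card_cent nt_c21_sym nt_c21_cnt nt_c21_ge

theorem nt_c21_ord : orderOf (Net.toPerm 100 p_g99) = 12 :=
  orderOf_net p_hn p_hk p_g99_ok (by decide) (ps := [2, 3]) (by set_option linter.unusedSimpArgs false in simp [Nat.primeFactorsList_ofNat]) (by decide +kernel)

theorem p_le176 : grp 100 nt_c22_K ≤ grp 100 lb_E :=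
  grp_le_of_memB p_hn p_hk lb_E_ok nt_c22_K_ok (ws := [nat_lit 0x33262226010d09, nat_lit 0x312729261f23200111]) (by decide +kernel)

theorem nt_c22_le : grp 100 nt_c22_K ≤ (grp 100 EG) :=
  (p_le176.trans T_s0.le)

theorem nt_c22_mem : Net.toPerm 100 p_g174 ∈ (grp 100 EG) :=
  nt_c22_le (toPerm_mem_grp (E := nt_c22_K) (List.Mem.head _))

theorem nt_c22_sym : Sym 100 (grp 100 EG) [p_g174] nt_c22_K 0 :=
  Sym.of_lab p_hn p_hk (okE_cons.2 ⟨p_g174_ok, okE_nil _⟩) nt_c22_K_ok nt_c22_le (kT := 0) (by decide +kernel)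

noncomputable def nt_c22_cnt_L : List ℕ := [3, 26, T_s23_O, 0, 0, 5, 9, T_s25_O, 1, 0]

theorem nt_c22_cnt_P : Prob 100 7 (grp 100 EG) nt_c22_cnt_EG [p_g174] [p_g174] nt_c22_K nt_c22_cnt_L 0 0 :=
  Sym.prob p_hn p_hk nt_c22_sym nt_c22_cnt_EG_ok (grp_cons_le p_g26_T (grp_cons_le p_g27_T (grp_cons_le p_g28_T (grp_cons_le p_g29_T (grp_cons_le p_g1_T (grp_cons_le p_g2_T (grp_cons_le p_g5_T (grp_cons_le p_g6_T (grp_cons_le H47.J2P.h_g45_T (grp_cons_le H47.J2P.h_a0_T (grp_cons_le p_g11_T (grp_cons_le H47.J2P.h_g53_T (grp_cons_le MpJ2.a_T (grp_cons_le H47.J2P.h_g1_T (grp_cons_le H47.J2P.h_a19_T (grp_cons_le H47.J2P.h_a27_T (grp_cons_le H47.J2P.h_g7_T (grp_cons_le H47.J2P.h_g4_T (grp_cons_le H47.J2P.h_a8_T (grp_cons_le H47.J2P.h_g14_T (grp_cons_le H47.J2P.h_g10_T (grp_cons_le H47.J2P.h_g11_T (grp_cons_le H47.J2P.h_g21_T (grp_cons_le H47.J2P.h_g22_T (grp_cons_le H47.J2P.h_g17_T (grp_cons_le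 H47.J2P.h_g18_T (grp_cons_le p_g107_T (grp_cons_le p_g106_T (grp_nil_le _))))))))))))))))))))))))))))) (Frames.cons T_s23_F (Frames.cons T_s25_F Frames.nil)) (okE_cons.2 ⟨p_g174_ok, okE_nil _⟩) _

noncomputable def nt_c22_cnt_t : BT := (BT.fix (nat_lit 0x1010101) (BT.fix (nat_lit 1) (BT.dif (nat_lit 1) (nat_lit 0) (BT.br (nat_lit 0) (nat_lit 95) [nat_lit 1] (BT.dead (nat_lit 77) (BT.img (nat_lit 1) (nat_lit 0) (BT.img (nat_lit 1) (nat_lit 0) (BT.frm (nat_lit 0) (nat_lit 0x3030910111d12) (nat_lit 0x2040d0a1d31) [nat_lit 0, nat_lit 1, nat_lit 2] (BT.pln (nat_lit 0) (nat_lit 7) (BT.fix (nat_lit 0x10101010101) (BT.dif (nat_lit 1) (nat_lit 0) (BT.br (nat_lit 0) (nat_lit 68) [nat_lit 3] (BT.dead (nat_lit 90) (BT.pln (nat_lit 4) (nat_lit 23) (BT.and (nat_lit 10) (nat_lit 0) (BT.frm (nat_lit 1) (nat_lit 0x3603030910111d12) (nat_lit 0x3602040d0a1d31) [nat_lit 2, nat_lit 0, nat_lit 7, nat_lit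 8, nat_lit 9] (BT.pln (nat_lit 0) (nat_lit 5) (BT.img (nat_lit 1) (nat_lit 4) (BT.img (nat_lit 1) (nat_lit 0) (BT.img (nat_lit 1) (nat_lit 0) (BT.img (nat_lit 1) (nat_lit 0) (BT.and (nat_lit 4) (nat_lit 0) (BT.cnt (nat_lit 0))))))))))) BT.nil)))))))) (BT.kid (nat_lit 95) (nat_lit 3) (BT.img (nat_lit 1) (nat_lit 0) (BT.img (nat_lit 1) (nat_lit 0) (BT.frm (nat_lit 0) (nat_lit 0x3030910111d12) (nat_lit 0x3030910111d12) [nat_lit 0, nat_lit 1, nat_lit 2] (BT.pln (nat_lit 0) (nat_lit 7) (BT.fix (nat_lit 0x10101010101) (BT.dif (nat_lit 1) (nat_lit 0) (BT.br (nat_lit 0) (nat_lit 68) [nat_lit 3] (BT.kid (nat_lit 68) (nat_lit 1) (BT.pln (nat_lit 4) (nat_lit 23) (BT.and (nat_lit 10) (nat_lit 0) (BT.one (nat_lit 1) (nat_lit 0x3603030910111d12) (nat_lit 0x3603030910111d12) [nat_lit 2, nat_lit 0, nat_lit 7, nat_lit 8, nat_lit 9]))) BT.nil)))))))) BT.nil))))))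

theorem nt_c22_cnt : Cnt 100 (grp 100 EG) [p_g174] [p_g174] 0 0 0 0 12 :=
  BT.sound nt_c22_cnt_P Known.nil (t := nt_c22_cnt_t) (d := 0) (by decide +kernel)

theorem nt_c22_ge : 12 ≤ Nat.card (grp 100 nt_c22_K) :=
  Ch.le_card_grp (k := 7) (L := (lab 100 7)) p_hn nt_c22_K_ok (c := (Ch.cons (nat_lit 95) [nat_lit 1] (Ch.cons (nat_lit 68) [nat_lit 3] Ch.nil))) (by decide +kernel)

theorem nt_c22_eq : (grp 100 EG) ⊓ Subgroup.centralizer {Net.toPerm 100 p_g174} = grp 100 nt_c22_K :=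
  cent_eq nt_c22_sym nt_c22_cnt nt_c22_ge

theorem nt_c22_card : Nat.card ↥((grp 100 EG) ⊓ Subgroup.centralizer {Net.toPerm 100 p_g174}) = 12 :=
  card_cent nt_c22_sym nt_c22_cnt nt_c22_ge

theorem nt_c22_ord : orderOf (Net.toPerm 100 p_g174) = 12 :=
  orderOf_net p_hn p_hk p_g174_ok (by decide) (ps := [2, 3]) (by set_option linter.unusedSimpArgs false in simp [Nat.primeFactorsList_ofNat]) (by decide +kernel)

theorem p_le179 : grp 100 nt_c23_K ≤ grp 100 lb_E :=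
  grp_le_of_memB p_hn p_hk lb_E_ok nt_c23_K_ok (ws := [nat_lit 0x312d2729252d1f260325, nat_lit 0x3331272621]) (by decide +kernel)

theorem nt_c23_le : grp 100 nt_c23_K ≤ (grp 100 EG) :=
  (p_le179.trans T_s0.le)

theorem nt_c23_mem : Net.toPerm 100 p_g177 ∈ (grp 100 EG) :=
  nt_c23_le (toPerm_mem_grp (E := nt_c23_K) (List.Mem.head _))

theorem nt_c23_sym : Sym 100 (grp 100 EG) [p_g177] nt_c23_K 0 :=
  Sym.of_lab p_hn p_hk (okE_cons.2 ⟨p_g177_ok, okE_nil _⟩) nt_c23_K_ok nt_c23_le (kT := 0) (by decide +kernel)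

noncomputable def nt_c23_cnt_L : List ℕ := [1, 2, T_s1_O, 0, 0, 2, 5, T_s7_O, 0, 0, 3, 17, T_s8_O, 0, 0, 6, 10, T_s27_O, 1, 0]

theorem nt_c23_cnt_P : Prob 100 7 (grp 100 EG) nt_c23_cnt_EG [p_g177] [p_g177] nt_c23_K nt_c23_cnt_L 0 0 :=
  Sym.prob p_hn p_hk nt_c23_sym nt_c23_cnt_EG_ok (grp_cons_le MpJ2.a_T (grp_cons_le H47.J2P.h_g1_T (grp_cons_le H47.J2P.h_a19_T (grp_cons_le H47.J2P.h_a27_T (grp_cons_le H47.J2P.h_g7_T (grp_cons_le H47.J2P.h_a0_T (grp_cons_le H47.J2P.h_g4_T (grp_cons_le H47.J2P.h_a8_T (grp_cons_le H47.J2P.h_g14_T (grp_cons_le H47.J2P.h_g10_T (grp_cons_le H47.J2P.h_g11_T (grp_cons_le H47.J2P.h_g21_T (grp_cons_le H47.J2P.h_g22_T (grp_cons_le H47.J2P.h_g17_T (grp_cons_le H47.J2P.h_g18_T (grp_cons_le p_g1_T (grp_cons_le p_g2_T (grp_cons_le p_g5_T (grp_cons_le p_g6_T (grp_cons_le H47.J2P.h_g45_T (grp_cons_le p_g11_T (grp_cons_le H47.J2P.h_g53_T (grp_cons_le p_g115_T (grp_cons_le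 p_g45_T (grp_cons_le p_g46_T (grp_cons_le p_g44_T (grp_nil_le _))))))))))))))))))))))))))) (Frames.cons T_s1_F (Frames.cons T_s7_F (Frames.cons T_s8_F (Frames.cons T_s27_F Frames.nil)))) (okE_cons.2 ⟨p_g177_ok, okE_nil _⟩) _

noncomputable def nt_c23_cnt_t : BT := (BT.fix (nat_lit 257) (BT.br (nat_lit 0) (nat_lit 85) [nat_lit 1] (BT.kid (nat_lit 85) (nat_lit 7) (BT.dif (nat_lit 1) (nat_lit 0) (BT.frm (nat_lit 1) (nat_lit 0x20210325) (nat_lit 0x20210325) [nat_lit 0, nat_lit 1] (BT.pln (nat_lit 0) (nat_lit 2) (BT.br (nat_lit 0) (nat_lit 3) [nat_lit 3] (BT.dead (nat_lit 10) (BT.frm (nat_lit 2) (nat_lit 0x252820210325) (nat_lit 0x232820210325) [nat_lit 0, nat_lit 3, nat_lit 4] (BT.pln (nat_lit 0) (nat_lit 3) (BT.img (nat_lit 1) (nat_lit 2) (BT.img (nat_lit 1) (nat_lit 0) (BT.and (nat_lit 2) (nat_lit 0) (BT.cnt (nat_lit 0))))))) (BT.dead (nat_lit 71) (BT.frm (nat_lit 2) (nat_lit 0x252820210325)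 (nat_lit 0x2920210325) [nat_lit 0, nat_lit 3, nat_lit 4] (BT.pln (nat_lit 0) (nat_lit 3) (BT.img (nat_lit 1) (nat_lit 2) (BT.img (nat_lit 1) (nat_lit 0) (BT.img (nat_lit 1) (nat_lit 0) (BT.img (nat_lit 1) (nat_lit 0) (BT.and (nat_lit 4) (nat_lit 0) (BT.cnt (nat_lit 0))))))))) (BT.kid (nat_lit 3) (nat_lit 1) (BT.frm (nat_lit 2) (nat_lit 0x252820210325) (nat_lit 0x252820210325) [nat_lit 0, nat_lit 3, nat_lit 4] (BT.pln (nat_lit 0) (nat_lit 15) (BT.img (nat_lit 1) (nat_lit 0) (BT.img (nat_lit 1) (nat_lit 0) (BT.img (nat_lit 1) (nat_lit 0) (BT.pln (nat_lit 4) (nat_lit 8) (BT.and (nat_lit 1) (nat_lit 0) (BT.img (nat_lit 1) (nat_lit 0) (BT.img (nat_lit 1) (nat_lit 0) (BT.img (nat_lit 1) (nat_lit 0) (BT.img (nat_lit 1) (nat_lit 0) (BT.and (nat_lit 9) (nat_lit 0) (BT.img (nat_lit 1) (nat_lit 0) (BT.and (nat_lit 10) (nat_lit 0) (BT.frm (nat_lit 0) (nat_lit 805) (nat_lit 805) [nat_lit 18] (BT.pln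 (nat_lit 0) (nat_lit 1) (BT.pln (nat_lit 15) (nat_lit 4) (BT.and (nat_lit 1) (nat_lit 0) (BT.pln (nat_lit 17) (nat_lit 14) (BT.pln (nat_lit 18) (nat_lit 11) (BT.img (nat_lit 1) (nat_lit 0) (BT.and (nat_lit 2) (nat_lit 0) (BT.img (nat_lit 1) (nat_lit 0) (BT.and (nat_lit 5) (nat_lit 0) (BT.pln (nat_lit 23) (nat_lit 12) (BT.and (nat_lit 9) (nat_lit 0) (BT.pln (nat_lit 25) (nat_lit 6) (BT.img (nat_lit 1) (nat_lit 27) (BT.img (nat_lit 1) (nat_lit 0) (BT.dif (nat_lit 2) (nat_lit 0) (BT.img (nat_lit 1) (nat_lit 1) (BT.img (nat_lit 1) (nat_lit 0) (BT.img (nat_lit 1) (nat_lit 0) (BT.img (nat_lit 1) (nat_lit 0) (BT.dif (nat_lit 4) (nat_lit 0) (BT.img (nat_lit 1) (nat_lit 1) (BT.img (nat_lit 1) (nat_lit 0) (BT.dif (nat_lit 2) (nat_lit 0) (BT.img (nat_lit 1) (nat_lit 1) (BT.img (nat_lit 1) (nat_lit 0) (BT.img (nat_lit 1) (nat_lit 0) (BT.img (nat_lit 1) (nat_lit 0) (BT.dif (nat_lit 4) (nat_lit 0)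 (BT.pln (nat_lit 42) (nat_lit 5) (BT.and (nat_lit 28) (nat_lit 0) (BT.dif (nat_lit 0) (nat_lit 14) (BT.pln (nat_lit 45) (nat_lit 3) (BT.dif (nat_lit 0) (nat_lit 15) (BT.dif (nat_lit 0) (nat_lit 8) (BT.pln (nat_lit 48) (nat_lit 7) (BT.and (nat_lit 34) (nat_lit 0) (BT.dif (nat_lit 0) (nat_lit 23) (BT.dif (nat_lit 0) (nat_lit 19) (BT.dif (nat_lit 0) (nat_lit 14) (BT.img (nat_lit 1) (nat_lit 12) (BT.dif (nat_lit 1) (nat_lit 0) (BT.pln (nat_lit 55) (nat_lit 13) (BT.img (nat_lit 1) (nat_lit 1) (BT.and (nat_lit 1) (nat_lit 0) (BT.img (nat_lit 1) (nat_lit 0) (BT.and (nat_lit 14) (nat_lit 0) (BT.img (nat_lit 1) (nat_lit 0) (BT.and (nat_lit 5) (nat_lit 0) (BT.img (nat_lit 1) (nat_lit 0) (BT.and (nat_lit 8) (nat_lit 0) (BT.img (nat_lit 1) (nat_lit 0) (BT.and (nat_lit 17) (nat_lit 0) (BT.img (nat_lit 1) (nat_lit 0) (BT.and (nat_lit 22) (nat_lit 0) (BT.img (nat_lit 1) (nat_lit 0) (BT.and (nat_lit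 27) (nat_lit 0) (BT.img (nat_lit 1) (nat_lit 0) (BT.and (nat_lit 46) (nat_lit 0) (BT.one (nat_lit 3) (nat_lit 0x2d252820210325) (nat_lit 0x2d252820210325) [nat_lit 59, nat_lit 49, nat_lit 0, nat_lit 73, nat_lit 76, nat_lit 77])))))))))))))))))))))))))))))))))))))))))))))))))))))))))))))))))))))))))) BT.nil))))))) BT.nil)))

theorem nt_c23_cnt : Cnt 100 (grp 100 EG) [p_g177] [p_g177] 0 0 0 0 14 :=
  BT.sound nt_c23_cnt_P Known.nil (t := nt_c23_cnt_t) (d := 0) (by decide +kernel)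

theorem nt_c23_ge : 14 ≤ Nat.card (grp 100 nt_c23_K) :=
  Ch.le_card_grp (k := 7) (L := (lab 100 7)) p_hn nt_c23_K_ok (c := (Ch.cons (nat_lit 85) [nat_lit 1] (Ch.cons (nat_lit 3) [nat_lit 3] Ch.nil))) (by decide +kernel)

theorem nt_c23_eq : (grp 100 EG) ⊓ Subgroup.centralizer {Net.toPerm 100 p_g177} = grp 100 nt_c23_K :=
  cent_eq nt_c23_sym nt_c23_cnt nt_c23_ge

theorem nt_c23_card : Nat.card ↥((grp 100 EG) ⊓ Subgroup.centralizer {Net.toPerm 100 p_g177}) = 14 :=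
  card_cent nt_c23_sym nt_c23_cnt nt_c23_ge

theorem nt_c23_ord : orderOf (Net.toPerm 100 p_g177) = 14 :=
  orderOf_net p_hn p_hk p_g177_ok (by decide) (ps := [2, 7]) (by set_option linter.unusedSimpArgs false in simp [Nat.primeFactorsList_ofNat]) (by decide +kernel)

theorem p_le182 : grp 100 nt_c24_K ≤ grp 100 lb_E :=
  grp_le_of_memB p_hn p_hk lb_E_ok nt_c24_K_ok (ws := [nat_lit 0x31272923251f1f25011a, nat_lit 0x3127261f2e250218]) (by decide +kernel)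

theorem nt_c24_le : grp 100 nt_c24_K ≤ (grp 100 EG) :=
  (p_le182.trans T_s0.le)

theorem nt_c24_mem : Net.toPerm 100 p_g180 ∈ (grp 100 EG) :=
  nt_c24_le (toPerm_mem_grp (E := nt_c24_K) (List.Mem.head _))

theorem nt_c24_sym : Sym 100 (grp 100 EG) [p_g180] nt_c24_K 0 :=
  Sym.of_lab p_hn p_hk (okE_cons.2 ⟨p_g180_ok, okE_nil _⟩) nt_c24_K_ok nt_c24_le (kT := 0) (by decide +kernel)

noncomputable def nt_c24_cnt_L : List ℕ := [4, 39, T_s24_O, 0, 0, 5, 9, T_s25_O, 1, 0]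

theorem nt_c24_cnt_P : Prob 100 7 (grp 100 EG) nt_c24_cnt_EG [p_g180] [p_g180] nt_c24_K nt_c24_cnt_L 0 0 :=
  Sym.prob p_hn p_hk nt_c24_sym nt_c24_cnt_EG_ok (grp_cons_le p_g106_T (grp_cons_le p_g107_T (grp_cons_le p_g26_T (grp_cons_le p_g27_T (grp_cons_le p_g28_T (grp_cons_le p_g29_T (grp_cons_le p_g1_T (grp_cons_le p_g2_T (grp_cons_le p_g5_T (grp_cons_le p_g6_T (grp_cons_le H47.J2P.h_g45_T (grp_cons_le H47.J2P.h_a0_T (grp_cons_le p_g11_T (grp_cons_le H47.J2P.h_g53_T (grp_cons_le MpJ2.a_T (grp_cons_le H47.J2P.h_g1_T (grp_cons_le H47.J2P.h_a19_T (grp_cons_le H47.J2P.h_a27_T (grp_cons_le H47.J2P.h_g7_T (grp_cons_le H47.J2P.h_g4_T (grp_cons_le H47.J2P.h_a8_T (grp_cons_le H47.J2P.h_g14_T (grp_cons_le H47.J2P.h_g10_T (grp_cons_le H47.J2P.h_g11_T (grp_cons_le H47.J2P.h_g21_T (grp_cons_le H47.J2P.h_g22_T (grp_cons_le H47.J2P.h_g17_T (grp_cons_le H47.J2P.h_g18_T (grp_nil_le _)))))))))))))))))))))))))))))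 (Frames.cons T_s24_F (Frames.cons T_s25_F Frames.nil)) (okE_cons.2 ⟨p_g180_ok, okE_nil _⟩) _

noncomputable def nt_c24_cnt_t : BT := (BT.fix (nat_lit 0x101010101) (BT.br (nat_lit 0) (nat_lit 95) [nat_lit 1] (BT.dead (nat_lit 85) (BT.img (nat_lit 1) (nat_lit 0) (BT.img (nat_lit 1) (nat_lit 0) (BT.img (nat_lit 1) (nat_lit 0) (BT.frm (nat_lit 0) (nat_lit 0x6090d0f142116) (nat_lit 0x1060d11191f13) [nat_lit 0, nat_lit 1, nat_lit 2, nat_lit 3] (BT.pln (nat_lit 0) (nat_lit 18) (BT.br (nat_lit 0) (nat_lit 47) [nat_lit 3] (BT.dead (nat_lit 52) (BT.frm (nat_lit 1) (nat_lit 0x306090d0f142116) (nat_lit 0x301060d11191f13) [nat_lit 0, nat_lit 3, nat_lit 4, nat_lit 5, nat_lit 6] (BT.pln (nat_lit 0) (nat_lit 5) (BT.img (nat_lit 1) (nat_lit 2) (BT.img (nat_lit 1) (nat_lit 0) (BT.and (nat_lit 2) (nat_lit 0) (BT.cnt (nat_lit 0))))))) BT.nil))))))) (BT.kid (nat_lit 95) (nat_lit 3) (BT.img (nat_lit 1) (nat_lit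 0) (BT.img (nat_lit 1) (nat_lit 0) (BT.img (nat_lit 1) (nat_lit 0) (BT.frm (nat_lit 0) (nat_lit 0x6090d0f142116) (nat_lit 0x6090d0f142116) [nat_lit 0, nat_lit 1, nat_lit 2, nat_lit 3] (BT.pln (nat_lit 0) (nat_lit 18) (BT.br (nat_lit 0) (nat_lit 47) [nat_lit 3] (BT.kid (nat_lit 47) (nat_lit 1) (BT.one (nat_lit 1) (nat_lit 0x306090d0f142116) (nat_lit 0x306090d0f142116) [nat_lit 0, nat_lit 3, nat_lit 4, nat_lit 5, nat_lit 6]) BT.nil))))))) BT.nil))))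

theorem nt_c24_cnt : Cnt 100 (grp 100 EG) [p_g180] [p_g180] 0 0 0 0 15 :=
  BT.sound nt_c24_cnt_P Known.nil (t := nt_c24_cnt_t) (d := 0) (by decide +kernel)

theorem nt_c24_ge : 15 ≤ Nat.card (grp 100 nt_c24_K) :=
  Ch.le_card_grp (k := 7) (L := (lab 100 7)) p_hn nt_c24_K_ok (c := (Ch.cons (nat_lit 95) [nat_lit 1] (Ch.cons (nat_lit 47) [nat_lit 3] Ch.nil))) (by decide +kernel)

theorem nt_c24_eq : (grp 100 EG) ⊓ Subgroup.centralizer {Net.toPerm 100 p_g180} = grp 100 nt_c24_K :=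
  cent_eq nt_c24_sym nt_c24_cnt nt_c24_ge

theorem nt_c24_card : Nat.card ↥((grp 100 EG) ⊓ Subgroup.centralizer {Net.toPerm 100 p_g180}) = 15 :=
  card_cent nt_c24_sym nt_c24_cnt nt_c24_ge

theorem nt_c24_ord : orderOf (Net.toPerm 100 p_g180) = 15 :=
  orderOf_net p_hn p_hk p_g180_ok (by decide) (ps := [3, 5]) (by set_option linter.unusedSimpArgs false in simp [Nat.primeFactorsList_ofNat]) (by decide +kernel)

theorem p_le183 : grp 100 nt_c25_K ≤ grp 100 lb_E :=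
  grp_le_of_memB p_hn p_hk lb_E_ok nt_c25_K_ok (ws := [nat_lit 0x33312726231f251f0404, nat_lit 0x332d27292629050f]) (by decide +kernel)

theorem nt_c25_le : grp 100 nt_c25_K ≤ (grp 100 EG) :=
  (p_le183.trans T_s0.le)

theorem nt_c25_mem : Net.toPerm 100 p_g168 ∈ (grp 100 EG) :=
  nt_c25_le (toPerm_mem_grp (E := nt_c25_K) (List.Mem.head _))

theorem nt_c25_sym : Sym 100 (grp 100 EG) [p_g168] nt_c25_K 0 :=
  Sym.of_lab p_hn p_hk (okE_cons.2 ⟨p_g168_ok, okE_nil _⟩) nt_c25_K_ok nt_c25_le (kT := 0) (by decide +kernel)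

theorem p_le185 : grp 100 p_V184 ≤ grp 100 p_V138 :=
  grp_le_of_memB p_hn p_hk p_V138_ok p_V184_ok (ws := [nat_lit 5]) (by decide +kernel)

theorem T_s40 : Stab 100 (grp 100 EG) [nat_lit 23, nat_lit 1, nat_lit 15, nat_lit 3, nat_lit 2, nat_lit 0] p_V184 2 :=
  Stab.step (k := 7) (L := (lab 100 7)) p_hn T_s31 p_V184_ok p_le185 (c := (Ch.cons (nat_lit 32) [nat_lit 1] Ch.nil)) (by decide +kernel)

theorem T_s41 : Stab 100 (grp 100 EG) [nat_lit 32, nat_lit 23, nat_lit 1, nat_lit 15, nat_lit 3, nat_lit 2, nat_lit 0] p_V186 1 :=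
  Stab.step (k := 7) (L := (lab 100 7)) p_hn T_s40 p_V186_ok (grp_mono (List.subset_append_right [H47.J2P.h_a0] _)) (c := Ch.nil) (by decide +kernel)

noncomputable def T_s41_O : ℕ := (nat_lit 0x3333266666ccccd99999333321f07c1f03e0f83e0f83e0f83ee63398c67319ce63398c673184db24d926c93649b64db26d920000000000000000000000001000000000000000000000000400000000000000000000000080000000000000000000008000000000000000000000000000200000000000000000008000000000000000000000100000000)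

theorem T_s41_F : Frame 100 (grp 100 EG) 7 11 T_s41_O 1 1 :=
  IsBase.frame T_s41.isBase (by decide +kernel)

noncomputable def T_s40_O : ℕ := (nat_lit 0x8000000000000000000000000400000000000000000000000020000000000000000000000001000000000000000000000000040000000000000000000000001000000000000000000000000080000000000000000000000004000000000000000000000000200000000000000000000000004000000000000000000000000008000000000000000000000000400000000000000000000000020000000000000000000000001000400800000000000000000000080040000000000000000000010002000000000000000000002000100000000000000000000010008000000000000000000002000400000000000000000010000020000000000000000002000001000000000000000000400000080000000000000000080000004000000000000000000400000200000000000000000080000010000000000000000000010000800000000000000000002000040000000000000000000400002000000000000000000080000100000000000000000000100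0080000000000000000000200004000000000000000000040000200000000000000000008000010000000000000000000000000108000000000000000000000020400000000000000000000004020000000000000000000000801000000000000000000000001080000000000000000000000204000000000000000000000040200000000000000000000008010000000000000000000000000180000000000000000000000024000000000000000000000004200000000000000000000000810000000000000000000000000180000000000000000000000024000000000000000000000004200000000000000000000000810000000000000000000000000000180000000000000000000000024000000000000000000000010200000000000000000000000000100000000000000000000000040000000000000000000000008000000000000000000000800000000000000000000000000020000000000000000000800000)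

theorem T_s40_F : Frame 100 (grp 100 EG) 6 59 T_s40_O 0 1 :=
  Stab.frame p_hn T_s40 (by decide +kernel)

noncomputable def nt_c25_cnt_L : List ℕ := [1, 2, T_s1_O, 0, 0, 3, 14, T_s16_O, 0, 0, 6, 59, T_s40_O, 0, 0, 7, 11, T_s41_O, 1, 0]

theorem nt_c25_cnt_P : Prob 100 7 (grp 100 EG) nt_c25_cnt_EG [p_g168] [p_g168] nt_c25_K nt_c25_cnt_L 0 0 :=
  Sym.prob p_hn p_hk nt_c25_sym nt_c25_cnt_EG_ok (grp_cons_le MpJ2.a_T (grp_cons_le H47.J2P.h_g1_T (grp_cons_le H47.J2P.h_a19_T (grp_cons_le H47.J2P.h_a27_T (grp_cons_le H47.J2P.h_g7_T (grp_cons_le H47.J2P.h_a0_T (grp_cons_le H47.J2P.h_g4_T (grp_cons_le H47.J2P.h_a8_T (grp_cons_le H47.J2P.h_g14_T (grp_cons_le H47.J2P.h_g10_T (grp_cons_le H47.J2P.h_g11_T (grp_cons_le H47.J2P.h_g21_T (grp_cons_le H47.J2P.h_g22_T (grp_cons_le H47.J2P.h_g17_T (grp_cons_le H47.J2P.h_g18_T (grp_cons_le p_g1_T (grp_cons_le p_g2_T (grp_cons_le p_g5_T (grp_cons_le p_g6_T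 (grp_cons_le H47.J2P.h_g45_T (grp_cons_le p_g11_T (grp_cons_le H47.J2P.h_g53_T (grp_nil_le _))))))))))))))))))))))) (Frames.cons T_s1_F (Frames.cons T_s16_F (Frames.cons T_s40_F (Frames.cons T_s41_F Frames.nil)))) (okE_cons.2 ⟨p_g168_ok, okE_nil _⟩) _

noncomputable def nt_c25_cnt_t : BT := (BT.fix (nat_lit 0x10101010101010101010101) (BT.fix (nat_lit 0x10101010101) (BT.dif (nat_lit 1) (nat_lit 0) (BT.br (nat_lit 0) (nat_lit 88) [nat_lit 1] (BT.kid (nat_lit 88) (nat_lit 2) (BT.dif (nat_lit 6) (nat_lit 3) (BT.frm (nat_lit 0) (nat_lit 1289) (nat_lit 1289) [nat_lit 1] (BT.pln (nat_lit 0) (nat_lit 1) (BT.dif (nat_lit 2) (nat_lit 0) (BT.img (nat_lit 1) (nat_lit 4) (BT.img (nat_lit 1) (nat_lit 0) (BT.img (nat_lit 1) (nat_lit 0) (BT.img (nat_lit 1) (nat_lit 0) (BT.img (nat_lit 1) (nat_lit 0) (BT.img (nat_lit 1) (nat_lit 0) (BT.dif (nat_lit 12) (nat_lit 7) (BT.frm (nat_lit 1) (nat_lit 0x230b200509)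 (nat_lit 0x230b200509) [nat_lit 3, nat_lit 5, nat_lit 11] (BT.pln (nat_lit 0) (nat_lit 6) (BT.dif (nat_lit 2) (nat_lit 0) (BT.frm (nat_lit 2) (nat_lit 0x2927230b200509) (nat_lit 0x2927230b200509) [nat_lit 9, nat_lit 4, nat_lit 0, nat_lit 6, nat_lit 8, nat_lit 14] (BT.pln (nat_lit 0) (nat_lit 12) (BT.and (nat_lit 12) (nat_lit 0) (BT.br (nat_lit 0) (nat_lit 17) [nat_lit 3] (BT.kid (nat_lit 17) (nat_lit 1) (BT.one (nat_lit 3) (nat_lit 0x2927230b200509) (nat_lit 0x2927230b200509) [nat_lit 0, nat_lit 13, nat_lit 8, nat_lit 4, nat_lit 10, nat_lit 12, nat_lit 18]) BT.nil))))))))))))))))))) BT.nil)))))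

theorem nt_c25_cnt : Cnt 100 (grp 100 EG) [p_g168] [p_g168] 0 0 0 0 24 :=
  BT.sound nt_c25_cnt_P Known.nil (t := nt_c25_cnt_t) (d := 0) (by decide +kernel)

theorem nt_c25_ge : 24 ≤ Nat.card (grp 100 nt_c25_K) :=
  Ch.le_card_grp (k := 7) (L := (lab 100 7)) p_hn nt_c25_K_ok (c := (Ch.cons (nat_lit 88) [nat_lit 1] (Ch.cons (nat_lit 17) [nat_lit 3] Ch.nil))) (by decide +kernel)

theorem nt_c25_eq : (grp 100 EG) ⊓ Subgroup.centralizer {Net.toPerm 100 p_g168} = grp 100 nt_c25_K :=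
  cent_eq nt_c25_sym nt_c25_cnt nt_c25_ge

theorem nt_c25_card : Nat.card ↥((grp 100 EG) ⊓ Subgroup.centralizer {Net.toPerm 100 p_g168}) = 24 :=
  card_cent nt_c25_sym nt_c25_cnt nt_c25_ge

theorem nt_c25_ord : orderOf (Net.toPerm 100 p_g168) = 24 :=
  orderOf_net p_hn p_hk p_g168_ok (by decide) (ps := [2, 3]) (by set_option linter.unusedSimpArgs false in simp [Nat.primeFactorsList_ofNat]) (by decide +kernel)

theorem p_le188 : grp 100 nt_c26_K ≤ grp 100 lb_E :=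
  grp_le_of_memB p_hn p_hk lb_E_ok nt_c26_K_ok (ws := [nat_lit 0x31261f29011f, nat_lit 0x332d27292629050f]) (by decide +kernel)

theorem nt_c26_le : grp 100 nt_c26_K ≤ (grp 100 EG) :=
  (p_le188.trans T_s0.le)

theorem nt_c26_mem : Net.toPerm 100 p_g187 ∈ (grp 100 EG) :=
  nt_c26_le (toPerm_mem_grp (E := nt_c26_K) (List.Mem.head _))

theorem nt_c26_sym : Sym 100 (grp 100 EG) [p_g187] nt_c26_K 0 :=
  Sym.of_lab p_hn p_hk (okE_cons.2 ⟨p_g187_ok, okE_nil _⟩) nt_c26_K_ok nt_c26_le (kT := 0) (by decide +kernel)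

noncomputable def nt_c26_cnt_L : List ℕ := [1, 2, T_s1_O, 0, 0, 3, 14, T_s16_O, 0, 0, 6, 59, T_s40_O, 0, 0, 7, 11, T_s41_O, 1, 0]

theorem nt_c26_cnt_P : Prob 100 7 (grp 100 EG) nt_c26_cnt_EG [p_g187] [p_g187] nt_c26_K nt_c26_cnt_L 0 0 :=
  Sym.prob p_hn p_hk nt_c26_sym nt_c26_cnt_EG_ok (grp_cons_le MpJ2.a_T (grp_cons_le H47.J2P.h_g1_T (grp_cons_le H47.J2P.h_a19_T (grp_cons_le H47.J2P.h_a27_T (grp_cons_le H47.J2P.h_g7_T (grp_cons_le H47.J2P.h_a0_T (grp_cons_le H47.J2P.h_g4_T (grp_cons_le H47.J2P.h_a8_T (grp_cons_le H47.J2P.h_g14_T (grp_cons_le H47.J2P.h_g10_T (grp_cons_le H47.J2P.h_g11_T (grp_cons_le H47.J2P.h_g21_T (grp_cons_le H47.J2P.h_g22_T (grp_cons_le H47.J2P.h_g17_T (grp_cons_le H47.J2P.h_g18_T (grp_cons_le p_g1_T (grp_cons_le p_g2_T (grp_cons_le p_g5_T (grp_cons_le p_g6_T (grp_cons_le H47.J2P.h_g45_T (grp_cons_le p_g11_T (grp_cons_le H47.J2P.h_g53_T (grp_nil_le _)))))))))))))))))))))))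 (Frames.cons T_s1_F (Frames.cons T_s16_F (Frames.cons T_s40_F (Frames.cons T_s41_F Frames.nil)))) (okE_cons.2 ⟨p_g187_ok, okE_nil _⟩) _

noncomputable def nt_c26_cnt_t : BT := (BT.fix (nat_lit 0x10101010101010101010101) (BT.fix (nat_lit 0x10101010101) (BT.dif (nat_lit 1) (nat_lit 0) (BT.br (nat_lit 0) (nat_lit 88) [nat_lit 1] (BT.kid (nat_lit 88) (nat_lit 2) (BT.dif (nat_lit 6) (nat_lit 3) (BT.frm (nat_lit 0) (nat_lit 1289) (nat_lit 1289) [nat_lit 1] (BT.pln (nat_lit 0) (nat_lit 1) (BT.dif (nat_lit 2) (nat_lit 0) (BT.img (nat_lit 1) (nat_lit 4) (BT.img (nat_lit 1) (nat_lit 0) (BT.img (nat_lit 1) (nat_lit 0) (BT.img (nat_lit 1) (nat_lit 0) (BT.img (nat_lit 1) (nat_lit 0) (BT.img (nat_lit 1) (nat_lit 0) (BT.dif (nat_lit 12) (nat_lit 7) (BT.frm (nat_lit 1) (nat_lit 0x230b200509) (nat_lit 0x230b200509) [nat_lit 3, nat_lit 5, nat_lit 11] (BT.pln (nat_lit 0) (nat_lit 6) (BT.dif (nat_lit 2)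 (nat_lit 0) (BT.frm (nat_lit 2) (nat_lit 0x2b2927230b200509) (nat_lit 0x2b2927230b200509) [nat_lit 9, nat_lit 4, nat_lit 0, nat_lit 6, nat_lit 8, nat_lit 14] (BT.pln (nat_lit 0) (nat_lit 12) (BT.and (nat_lit 12) (nat_lit 0) (BT.br (nat_lit 0) (nat_lit 46) [nat_lit 3] (BT.kid (nat_lit 46) (nat_lit 1) (BT.one (nat_lit 3) (nat_lit 0x2b2927230b200509) (nat_lit 0x2b2927230b200509) [nat_lit 0, nat_lit 13, nat_lit 8, nat_lit 4, nat_lit 10, nat_lit 12, nat_lit 18]) BT.nil))))))))))))))))))) BT.nil)))))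

theorem nt_c26_cnt : Cnt 100 (grp 100 EG) [p_g187] [p_g187] 0 0 0 0 24 :=
  BT.sound nt_c26_cnt_P Known.nil (t := nt_c26_cnt_t) (d := 0) (by decide +kernel)

theorem nt_c26_ge : 24 ≤ Nat.card (grp 100 nt_c26_K) :=
  Ch.le_card_grp (k := 7) (L := (lab 100 7)) p_hn nt_c26_K_ok (c := (Ch.cons (nat_lit 88) [nat_lit 1] (Ch.cons (nat_lit 46) [nat_lit 3] Ch.nil))) (by decide +kernel)

theorem nt_c26_eq : (grp 100 EG) ⊓ Subgroup.centralizer {Net.toPerm 100 p_g187} = grp 100 nt_c26_K :=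
  cent_eq nt_c26_sym nt_c26_cnt nt_c26_ge

theorem nt_c26_card : Nat.card ↥((grp 100 EG) ⊓ Subgroup.centralizer {Net.toPerm 100 p_g187}) = 24 :=
  card_cent nt_c26_sym nt_c26_cnt nt_c26_ge

theorem nt_c26_ord : orderOf (Net.toPerm 100 p_g187) = 24 :=
  orderOf_net p_hn p_hk p_g187_ok (by decide) (ps := [2, 3]) (by set_option linter.unusedSimpArgs false in simp [Nat.primeFactorsList_ofNat]) (by decide +kernel)

noncomputable def nt_xs : List Net := [Net.nil, p_g18, p_g36, p_g52, p_g61, p_g70, p_g82, p_g87, p_g98, p_g101, p_g112, p_g119, p_g124, p_g127, p_g134, p_g141, p_g146, p_g155, p_g158, p_g161, p_g167, p_g99, p_g174, p_g177, p_g180, p_g168, p_g187]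

noncomputable def nt_cs : List ℕ := [1209600, 3840, 672, 480, 2160, 72, 192, 96, 24, 300, 50, 48, 24, 12, 14, 96, 32, 16, 20, 10, 24, 12, 12, 14, 15, 24, 24]

noncomputable def nt_os : List ℕ := [1, 2, 2, 2, 3, 3, 4, 4, 4, 5, 5, 6, 6, 6, 7, 8, 8, 8, 10, 10, 12, 12, 12, 14, 15, 24, 24]

theorem nt_reps : Reps 100 (grp 100 EG) nt_xs nt_cs nt_os :=
  (Reps.cons rfl (one_mem _) (card_cent_nil card_N) orderOf_one (Reps.cons p_g18_ok nt_c1_mem nt_c1_card nt_c1_ord (Reps.cons p_g36_ok nt_c2_mem nt_c2_card nt_c2_ord (Reps.cons p_g52_ok nt_c3_mem nt_c3_card nt_c3_ord (Reps.cons p_g61_ok nt_c4_mem nt_c4_card nt_c4_ord (Reps.cons p_g70_ok nt_c5_mem nt_c5_card nt_c5_ord (Reps.cons p_g82_ok nt_c6_mem nt_c6_card nt_c6_ord (Reps.cons p_g87_ok nt_c7_mem nt_c7_card nt_c7_ord (Reps.cons p_g98_ok nt_c8_mem nt_c8_card nt_c8_ord (Reps.cons p_g101_ok nt_c9_mem nt_c9_card nt_c9_ord (Reps.cons p_g112_ok nt_c10_mem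 nt_c10_card nt_c10_ord (Reps.cons p_g119_ok nt_c11_mem nt_c11_card nt_c11_ord (Reps.cons p_g124_ok nt_c12_mem nt_c12_card nt_c12_ord (Reps.cons p_g127_ok nt_c13_mem nt_c13_card nt_c13_ord (Reps.cons p_g134_ok nt_c14_mem nt_c14_card nt_c14_ord (Reps.cons p_g141_ok nt_c15_mem nt_c15_card nt_c15_ord (Reps.cons p_g146_ok nt_c16_mem nt_c16_card nt_c16_ord (Reps.cons p_g155_ok nt_c17_mem nt_c17_card nt_c17_ord (Reps.cons p_g158_ok nt_c18_mem nt_c18_card nt_c18_ord (Reps.cons p_g161_ok nt_c19_mem nt_c19_card nt_c19_ord (Reps.cons p_g167_ok nt_c20_mem nt_c20_card nt_c20_ord (Reps.cons p_g99_ok nt_c21_mem nt_c21_card nt_c21_ord (Reps.cons p_g174_ok nt_c22_mem nt_c22_card nt_c22_ord (Reps.cons p_g177_ok nt_c23_mem nt_c23_card nt_c23_ord (Reps.cons p_g180_ok nt_c24_mem nt_c24_card nt_c24_ord (Reps.cons p_g168_ok nt_c25_mem nt_c25_card nt_c25_ord (Reps.cons p_g187_ok nt_c26_mem nt_c26_card nt_c26_ord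 Reps.nil)))))))))))))))))))))))))))

noncomputable def nt_nc26_25_cnt_L : List ℕ := [1, 2, T_s1_O, 0, 0, 3, 14, T_s16_O, 0, 0, 6, 59, T_s40_O, 0, 0, 7, 11, T_s41_O, 1, 0]

theorem nt_nc26_25_cnt_P : Prob 100 7 (grp 100 EG) nt_nc26_25_cnt_EG [p_g187] [p_g168] nt_c25_K nt_nc26_25_cnt_L 0 0 :=
  Sym.prob p_hn p_hk nt_c25_sym nt_nc26_25_cnt_EG_ok (grp_cons_le MpJ2.a_T (grp_cons_le H47.J2P.h_g1_T (grp_cons_le H47.J2P.h_a19_T (grp_cons_le H47.J2P.h_a27_T (grp_cons_le H47.J2P.h_g7_T (grp_cons_le H47.J2P.h_a0_T (grp_cons_le H47.J2P.h_g4_T (grp_cons_le H47.J2P.h_a8_T (grp_cons_le H47.J2P.h_g14_T (grp_cons_le H47.J2P.h_g10_T (grp_cons_le H47.J2P.h_g11_T (grp_cons_le H47.J2P.h_g21_T (grp_cons_le H47.J2P.h_g22_T (grp_cons_le H47.J2P.h_g17_T (grp_cons_le H47.J2P.h_g18_T (grp_cons_le p_g1_T (grp_cons_le p_g2_T (grp_cons_le p_g5_T (grp_cons_le p_g6_T (grp_cons_le H47.J2P.h_g45_T (grp_cons_le p_g11_T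 (grp_cons_le H47.J2P.h_g53_T (grp_nil_le _))))))))))))))))))))))) (Frames.cons T_s1_F (Frames.cons T_s16_F (Frames.cons T_s40_F (Frames.cons T_s41_F Frames.nil)))) (okE_cons.2 ⟨p_g187_ok, okE_nil _⟩) _

noncomputable def nt_nc26_25_cnt_t : BT := (BT.fix (nat_lit 0x10101010101010101010101) (BT.fix (nat_lit 0x10101010101) (BT.dif (nat_lit 1) (nat_lit 0) (BT.br (nat_lit 0) (nat_lit 88) [nat_lit 1] (BT.dead (nat_lit 88) (BT.dif (nat_lit 6) (nat_lit 3) (BT.frm (nat_lit 0) (nat_lit 1289) (nat_lit 1289) [nat_lit 1] (BT.pln (nat_lit 0) (nat_lit 1) (BT.dif (nat_lit 2) (nat_lit 0) (BT.img (nat_lit 1) (nat_lit 4) (BT.img (nat_lit 1) (nat_lit 0) (BT.img (nat_lit 1) (nat_lit 0) (BT.img (nat_lit 1) (nat_lit 0) (BT.img (nat_lit 1) (nat_lit 0) (BT.img (nat_lit 1) (nat_lit 0) (BT.dif (nat_lit 12) (nat_lit 7) (BT.frm (nat_lit 1) (nat_lit 0x230b200509) (nat_lit 0x230b200509) [nat_lit 3, nat_lit 5, nat_lit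 11] (BT.pln (nat_lit 0) (nat_lit 6) (BT.dif (nat_lit 2) (nat_lit 0) (BT.frm (nat_lit 2) (nat_lit 0x2b2927230b200509) (nat_lit 0x2927230b200509) [nat_lit 9, nat_lit 4, nat_lit 0, nat_lit 6, nat_lit 8, nat_lit 14] (BT.pln (nat_lit 0) (nat_lit 12) (BT.and (nat_lit 12) (nat_lit 0) (BT.br (nat_lit 0) (nat_lit 46) [nat_lit 3] (BT.dead (nat_lit 17) (BT.frm (nat_lit 3) (nat_lit 0x2b2927230b200509) (nat_lit 0x2927230b200509) [nat_lit 0, nat_lit 13, nat_lit 8, nat_lit 4, nat_lit 10, nat_lit 12, nat_lit 18] (BT.pln (nat_lit 0) (nat_lit 7) (BT.img (nat_lit 1) (nat_lit 2) (BT.and (nat_lit 1) (nat_lit 0) (BT.cnt (nat_lit 0)))))) BT.nil))))))))))))))))))) BT.nil)))))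

theorem nt_nc26_25_cnt : Cnt 100 (grp 100 EG) [p_g187] [p_g168] 0 0 0 0 0 :=
  BT.sound nt_nc26_25_cnt_P Known.nil (t := nt_nc26_25_cnt_t) (d := 0) (by decide +kernel)

theorem nt_nc26_25 : ¬ CjIn (grp 100 EG) (Net.toPerm 100 p_g187) (Net.toPerm 100 p_g168) :=
  not_cjIn nt_nc26_25_cnt

theorem nt_exc : Exc 100 (grp 100 EG) nt_xs [26025] :=
  (Exc.cons 26 25 (by decide) nt_nc26_25 Exc.nil)

theorem nt : Table 100 (grp 100 EG) nt_xs nt_cs nt_os :=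
  Reps.table (D := 2) p_hn p_hk nt_reps nt_exc card_N (by decide +kernel)

theorem reps : ∀ σ ∈ (grp 100 EG), orderOf σ = 2 → ∃ t ∈ ({Net.toPerm 100 p_g18, Net.toPerm 100 p_g36, Net.toPerm 100 p_g52} : Set (Equiv.Perm (Fin 100))), CjIn (grp 100 EG) t σ :=
  fun σ hσ ho => by
  obtain ⟨i, hi, hc, h1, -⟩ := nt.exists hσ
  rw [ho] at h1
  rcases (by decide +kernel : ∀ i < nt_xs.length, 2 = nthN nt_os i → 1 = i ∨ 2 = i ∨ 3 = i) i hi h1 with rfl | rfl | rfl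
  · exact ⟨_, (.inl rfl), hc⟩
  · exact ⟨_, (.inr (.inl rfl)), hc⟩
  · exact ⟨_, (.inr (.inr rfl)), hc⟩

theorem ch1_le : grp 100 ch1_Q ≤ grp 100 nt_c1_K :=
  grp_le_of_memB p_hn p_hk nt_c1_K_ok ch1_Q_ok (ws := [nat_lit 1285, nat_lit 0x909050303, nat_lit 0x9090505, nat_lit 0x5050303, nat_lit 0x9090505010502]) (by decide +kernel)

theorem p_le193 : grp 100 p_V192 ≤ grp 100 ch1_Q :=
  grp_le_of_memB p_hn p_hk ch1_Q_ok p_V192_ok (ws := [nat_lit 3]) (by decide +kernel)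

theorem p_le197 : grp 100 p_V196 ≤ grp 100 ch1_Q :=
  grp_le_of_memB p_hn p_hk ch1_Q_ok p_V196_ok (ws := [nat_lit 0x2070307070909060703, nat_lit 0x80a0309040907090109, nat_lit 0x904040402040a08020904]) (by decide +kernel)

theorem p_le200 : grp 100 p_V199 ≤ grp 100 p_V196 :=
  grp_le_of_memB p_hn p_hk p_V196_ok p_V199_ok (ws := [nat_lit 769, nat_lit 66305, nat_lit 262]) (by decide +kernel)

theorem ch1_o_card2 : Nat.card (grp 100 ch1_o_E2) = 1 :=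
  card_grp_nil 100

theorem ch1_o_leO2 : grp 100 ch1_o_E2 ≤ grp 100 ch1_Q :=
  grp_nil_le _

theorem ch1_o_1_fix : grp 100 ch1_o_E2 ≤ MulAction.stabilizer (Equiv.Perm (Fin 100)) (⟨15, by decide⟩ : Fin 100) :=
  grp_le_stab ch1_o_E2_ok (by decide : 15 < 100) (by decide +kernel)

noncomputable def ch1_o_1_ts : List ℕ := [nat_lit 0, nat_lit 1, nat_lit 2, nat_lit 3, nat_lit 5, nat_lit 257, nat_lit 259, nat_lit 261, nat_lit 515, nat_lit 517, nat_lit 773, nat_lit 1283, nat_lit 65795, nat_lit 65797, nat_lit 66309, nat_lit 66819]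

noncomputable def ch1_o_1_ds : List ℕ := [nat_lit 15, nat_lit 28, nat_lit 83, nat_lit 27, nat_lit 74, nat_lit 93, nat_lit 70, nat_lit 69, nat_lit 59, nat_lit 96, nat_lit 82, nat_lit 41, nat_lit 76, nat_lit 49, nat_lit 29, nat_lit 42]

theorem ch1_o_1_dist : Dist 100 ch1_o_E2 ch1_o_G1 (⟨15, by decide⟩ : Fin 100) ch1_o_1_ts ch1_o_1_ds :=
  dist_of_distB (k := 4) p_hn ch1_o_E2_ok ch1_o_G1_ok (by decide : 15 < 100) (by decide +kernel)

noncomputable def ch1_o_1_sl0 : SL := (SL.cons (nat_lit 1) (nat_lit 28) Ch.nil [] (SL.cons (nat_lit 2) (nat_lit 83) Ch.nil [] (SL.cons (nat_lit 3) (nat_lit 27) Ch.nil [] (SL.cons (nat_lit 5) (nat_lit 74) Ch.nil [] (SL.cons (nat_lit 257) (nat_lit 93) Ch.nil [] (SL.cons (nat_lit 259) (nat_lit 70) Ch.nil [] (SL.cons (nat_lit 261) (nat_lit 69) Ch.nil [] (SL.cons (nat_lit 515) (nat_lit 59) Ch.nil [] (SL.cons (nat_lit 517) (nat_lit 96) Ch.nil [] (SL.cons (nat_lit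 773) (nat_lit 82) Ch.nil [] (SL.cons (nat_lit 1283) (nat_lit 41) Ch.nil [] (SL.cons (nat_lit 65795) (nat_lit 76) Ch.nil [] (SL.cons (nat_lit 65797) (nat_lit 49) Ch.nil [] (SL.cons (nat_lit 66309) (nat_lit 29) Ch.nil [] (SL.cons (nat_lit 66819) (nat_lit 42) Ch.nil [] SL.nil)))))))))))))))

theorem ch1_o_1_sc0 : SCs 100 ch1_o_E2 ch1_o_G1 (⟨15, by decide⟩ : Fin 100) (SL.words ch1_o_1_sl0) :=
  scs_of_ok p_hn (det_lab p_hk ⊤) ch1_o_E2_ok ch1_o_G1_ok le_top le_top (by decide : 15 < 100) ch1_o_1_fix ch1_o_card2.le (by decide +kernel)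

noncomputable def ch1_o_1_l : List ℕ := (appL (SL.words ch1_o_1_sl0) [])

theorem ch1_o_1_scs : SCs 100 ch1_o_E2 ch1_o_G1 (⟨15, by decide⟩ : Fin 100) ch1_o_1_l :=
  (SCs.append ch1_o_1_sc0 SCs.nil)

noncomputable def ch1_o_1_rl0_0 : RL := (RL.cons (nat_lit 0) (nat_lit 15) (nat_lit 0) (nat_lit 0) (nat_lit 2) (nat_lit 0) (RL.cons (nat_lit 1) (nat_lit 28) (nat_lit 0) (nat_lit 0) (nat_lit 0) (nat_lit 0) (RL.cons (nat_lit 2) (nat_lit 83) (nat_lit 0) (nat_lit 0) (nat_lit 5) (nat_lit 0) (RL.cons (nat_lit 3) (nat_lit 27) (nat_lit 0) (nat_lit 0) (nat_lit 6) (nat_lit 0) (RL.cons (nat_lit 4) (nat_lit 74) (nat_lit 0) (nat_lit 0) (nat_lit 9) (nat_lit 0) (RL.cons (nat_lit 5) (nat_lit 93) (nat_lit 0) (nat_lit 0) (nat_lit 1) (nat_lit 0) (RL.cons (nat_lit 6) (nat_lit 70) (nat_lit 0) (nat_lit 0) (nat_lit 12) (nat_lit 0) (RL.cons (nat_lit 7) (nat_lit 69) (nat_lit 0) (nat_lit 0) (nat_lit 4) (nat_lit 0)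 (RL.cons (nat_lit 8) (nat_lit 59) (nat_lit 0) (nat_lit 0) (nat_lit 3) (nat_lit 0) (RL.cons (nat_lit 9) (nat_lit 96) (nat_lit 0) (nat_lit 0) (nat_lit 13) (nat_lit 0) (RL.cons (nat_lit 10) (nat_lit 82) (nat_lit 0) (nat_lit 0) (nat_lit 14) (nat_lit 0) (RL.cons (nat_lit 11) (nat_lit 41) (nat_lit 0) (nat_lit 0) (nat_lit 15) (nat_lit 0) (RL.cons (nat_lit 12) (nat_lit 76) (nat_lit 0) (nat_lit 0) (nat_lit 8) (nat_lit 0) (RL.cons (nat_lit 13) (nat_lit 49) (nat_lit 0) (nat_lit 0) (nat_lit 7) (nat_lit 0) (RL.cons (nat_lit 14) (nat_lit 29) (nat_lit 0) (nat_lit 0) (nat_lit 11) (nat_lit 0) (RL.cons (nat_lit 15) (nat_lit 42) (nat_lit 0) (nat_lit 0) (nat_lit 10) (nat_lit 0) RL.nil))))))))))))))))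

theorem ch1_o_1_good0_0 : GoodSet 100 ch1_o_E2 ch1_o_G1 (⟨15, by decide⟩ : Fin 100) ch1_o_1_ts (nat_lit 1) (RL.pts ch1_o_1_rl0_0) :=
  goodSet_of_ok p_hn (det_lab p_hk ⊤) ch1_o_E2_ok ch1_o_G1_ok le_top le_top (by decide : 15 < 100) (sepAt_lab p_hk _) (by decide +kernel)

theorem ch1_o_1_step0 : Step 100 ch1_o_E2 ch1_o_G1 ch1_o_1_ts (2 * 0 + 1) :=
  step_of_cover ch1_o_E2_ok ch1_o_1_dist (by decide +kernel) ch1_o_1_scs (by decide +kernel) ch1_o_1_good0_0 (kw := [])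
    (conj_mem_of_scs ch1_o_E2_ok ch1_o_G1_ok (by decide : 15 < 100) ch1_o_1_scs (c := 0) (d := 28) (by decide +kernel)) (by decide +kernel)

noncomputable def ch1_o_1_rl1_0 : RL := (RL.cons (nat_lit 0) (nat_lit 15) (nat_lit 0) (nat_lit 0) (nat_lit 3) (nat_lit 0) (RL.cons (nat_lit 1) (nat_lit 28) (nat_lit 0) (nat_lit 0) (nat_lit 6) (nat_lit 0) (RL.cons (nat_lit 2) (nat_lit 83) (nat_lit 0) (nat_lit 0) (nat_lit 8) (nat_lit 0) (RL.cons (nat_lit 3) (nat_lit 27) (nat_lit 0) (nat_lit 0) (nat_lit 0) (nat_lit 0) (RL.cons (nat_lit 4) (nat_lit 74) (nat_lit 0) (nat_lit 0) (nat_lit 11) (nat_lit 0) (RL.cons (nat_lit 5) (nat_lit 93) (nat_lit 0) (nat_lit 0) (nat_lit 12) (nat_lit 0) (RL.cons (nat_lit 6) (nat_lit 70) (nat_lit 0) (nat_lit 0) (nat_lit 1) (nat_lit 0) (RL.cons (nat_lit 7) (nat_lit 69) (nat_lit 0) (nat_lit 0) (nat_lit 15) (nat_lit 0) (RL.cons (nat_lit 8) (nat_lit 59) (nat_lit 0) (nat_lit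 0) (nat_lit 2) (nat_lit 0) (RL.cons (nat_lit 9) (nat_lit 96) (nat_lit 0) (nat_lit 0) (nat_lit 14) (nat_lit 0) (RL.cons (nat_lit 10) (nat_lit 82) (nat_lit 0) (nat_lit 0) (nat_lit 13) (nat_lit 0) (RL.cons (nat_lit 11) (nat_lit 41) (nat_lit 0) (nat_lit 0) (nat_lit 4) (nat_lit 0) (RL.cons (nat_lit 12) (nat_lit 76) (nat_lit 0) (nat_lit 0) (nat_lit 5) (nat_lit 0) (RL.cons (nat_lit 13) (nat_lit 49) (nat_lit 0) (nat_lit 0) (nat_lit 10) (nat_lit 0) (RL.cons (nat_lit 14) (nat_lit 29) (nat_lit 0) (nat_lit 0) (nat_lit 9) (nat_lit 0) (RL.cons (nat_lit 15) (nat_lit 42) (nat_lit 0) (nat_lit 0) (nat_lit 7) (nat_lit 0) RL.nil))))))))))))))))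

theorem ch1_o_1_good1_0 : GoodSet 100 ch1_o_E2 ch1_o_G1 (⟨15, by decide⟩ : Fin 100) ch1_o_1_ts (nat_lit 3) (RL.pts ch1_o_1_rl1_0) :=
  goodSet_of_ok p_hn (det_lab p_hk ⊤) ch1_o_E2_ok ch1_o_G1_ok le_top le_top (by decide : 15 < 100) (sepAt_lab p_hk _) (by decide +kernel)

theorem ch1_o_1_step1 : Step 100 ch1_o_E2 ch1_o_G1 ch1_o_1_ts (2 * 1 + 1) :=
  step_of_cover ch1_o_E2_ok ch1_o_1_dist (by decide +kernel) ch1_o_1_scs (by decide +kernel) ch1_o_1_good1_0 (kw := [])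
    (conj_mem_of_scs ch1_o_E2_ok ch1_o_G1_ok (by decide : 15 < 100) ch1_o_1_scs (c := 2) (d := 27) (by decide +kernel)) (by decide +kernel)

noncomputable def ch1_o_1_rl2_0 : RL := (RL.cons (nat_lit 0) (nat_lit 15) (nat_lit 0) (nat_lit 0) (nat_lit 4) (nat_lit 0) (RL.cons (nat_lit 1) (nat_lit 28) (nat_lit 0) (nat_lit 0) (nat_lit 7) (nat_lit 0) (RL.cons (nat_lit 2) (nat_lit 83) (nat_lit 0) (nat_lit 0) (nat_lit 9) (nat_lit 0) (RL.cons (nat_lit 3) (nat_lit 27) (nat_lit 0) (nat_lit 0) (nat_lit 10) (nat_lit 0) (RL.cons (nat_lit 4) (nat_lit 74) (nat_lit 0) (nat_lit 0) (nat_lit 0) (nat_lit 0) (RL.cons (nat_lit 5) (nat_lit 93) (nat_lit 0) (nat_lit 0) (nat_lit 13) (nat_lit 0) (RL.cons (nat_lit 6) (nat_lit 70) (nat_lit 0) (nat_lit 0) (nat_lit 14) (nat_lit 0) (RL.cons (nat_lit 7) (nat_lit 69) (nat_lit 0) (nat_lit 0) (nat_lit 1) (nat_lit 0) (RL.cons (nat_lit 8) (nat_lit 59) (nat_lit 0) (nat_lit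 0) (nat_lit 15) (nat_lit 0) (RL.cons (nat_lit 9) (nat_lit 96) (nat_lit 0) (nat_lit 0) (nat_lit 2) (nat_lit 0) (RL.cons (nat_lit 10) (nat_lit 82) (nat_lit 0) (nat_lit 0) (nat_lit 3) (nat_lit 0) (RL.cons (nat_lit 11) (nat_lit 41) (nat_lit 0) (nat_lit 0) (nat_lit 12) (nat_lit 0) (RL.cons (nat_lit 12) (nat_lit 76) (nat_lit 0) (nat_lit 0) (nat_lit 11) (nat_lit 0) (RL.cons (nat_lit 13) (nat_lit 49) (nat_lit 0) (nat_lit 0) (nat_lit 5) (nat_lit 0) (RL.cons (nat_lit 14) (nat_lit 29) (nat_lit 0) (nat_lit 0) (nat_lit 6) (nat_lit 0) (RL.cons (nat_lit 15) (nat_lit 42) (nat_lit 0) (nat_lit 0) (nat_lit 8) (nat_lit 0) RL.nil))))))))))))))))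

theorem ch1_o_1_good2_0 : GoodSet 100 ch1_o_E2 ch1_o_G1 (⟨15, by decide⟩ : Fin 100) ch1_o_1_ts (nat_lit 5) (RL.pts ch1_o_1_rl2_0) :=
  goodSet_of_ok p_hn (det_lab p_hk ⊤) ch1_o_E2_ok ch1_o_G1_ok le_top le_top (by decide : 15 < 100) (sepAt_lab p_hk _) (by decide +kernel)

theorem ch1_o_1_step2 : Step 100 ch1_o_E2 ch1_o_G1 ch1_o_1_ts (2 * 2 + 1) :=
  step_of_cover ch1_o_E2_ok ch1_o_1_dist (by decide +kernel) ch1_o_1_scs (by decide +kernel) ch1_o_1_good2_0 (kw := [])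
    (conj_mem_of_scs ch1_o_E2_ok ch1_o_G1_ok (by decide : 15 < 100) ch1_o_1_scs (c := 3) (d := 74) (by decide +kernel)) (by decide +kernel)

theorem ch1_o_1_lev : grp 100 ch1_o_G1 ⊓ MulAction.stabilizer (Equiv.Perm (Fin 100)) (⟨15, by decide⟩ : Fin 100) = grp 100 ch1_o_E2 :=
  sims_level (gs := p_V199) rfl (by decide) ch1_o_1_fix ch1_o_1_dist (forall_lt_succ' (forall_lt_succ' (forall_lt_one ch1_o_1_step0) ch1_o_1_step1) ch1_o_1_step2)

theorem ch1_o_1_cardG : Nat.card (grp 100 ch1_o_G1) = 16 :=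
  card_of_level p_hn ch1_o_G1_ok (by decide : 15 < 100) ch1_o_1_lev ch1_o_card2 (m := 16) (by decide +kernel)

theorem p_le201 : grp 100 ch1_o_E1 ≤ grp 100 ch1_o_G1 :=
  grp_le_of_memB p_hn p_hk ch1_o_G1_ok ch1_o_E1_ok (ws := [nat_lit 1, nat_lit 3, nat_lit 5, nat_lit 259, nat_lit 65795, nat_lit 66819]) (by decide +kernel)

theorem p_le202 : grp 100 ch1_o_G1 ≤ grp 100 ch1_o_E1 :=
  grp_le_of_memB p_hn p_hk ch1_o_E1_ok ch1_o_G1_ok (ws := [nat_lit 1, nat_lit 3, nat_lit 5]) (by decide +kernel)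

theorem ch1_o_1_eq : grp 100 ch1_o_E1 = grp 100 ch1_o_G1 :=
  le_antisymm p_le201 p_le202

theorem ch1_o_card1 : Nat.card (grp 100 ch1_o_E1) = 16 :=
  by rw [ch1_o_1_eq]; exact ch1_o_1_cardG

theorem ch1_o_stab1 : grp 100 ch1_o_E1 ⊓ MulAction.stabilizer (Equiv.Perm (Fin 100)) (⟨15, by decide⟩ : Fin 100) = grp 100 ch1_o_E2 :=
  by rw [ch1_o_1_eq]; exact ch1_o_1_lev

theorem ch1_o_leO1 : grp 100 ch1_o_E1 ≤ grp 100 ch1_Q :=
  ch1_o_1_eq.le.trans (grp_cons_le ((p_le197.trans (le_refl (grp 100 ch1_Q))) (p_le200 (toPerm_mem_grp (E := p_V199) (by simp [p_V199])))) (grp_cons_le ((p_le197.trans (le_refl (grp 100 ch1_Q))) (p_le200 (toPerm_mem_grp (E := p_V199) (by simp [p_V199])))) (grp_cons_le ((p_le197.trans (le_refl (grp 100 ch1_Q))) (p_le200 (toPerm_mem_grp (E := p_V199) (by simp [p_V199])))) ch1_o_leO2)))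

theorem ch1_o_0_fix : grp 100 ch1_o_E1 ≤ MulAction.stabilizer (Equiv.Perm (Fin 100)) (⟨1, by decide⟩ : Fin 100) :=
  grp_le_stab ch1_o_E1_ok (by decide : 1 < 100) (by decide +kernel)

noncomputable def ch1_o_0_ts : List ℕ := [nat_lit 0, nat_lit 1]

noncomputable def ch1_o_0_ds : List ℕ := [nat_lit 1, nat_lit 13]

theorem ch1_o_0_dist : Dist 100 ch1_o_E1 ch1_o_G0 (⟨1, by decide⟩ : Fin 100) ch1_o_0_ts ch1_o_0_ds :=
  dist_of_distB (k := 1) p_hn ch1_o_E1_ok ch1_o_G0_ok (by decide : 1 < 100) (by decide +kernel)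

noncomputable def ch1_o_0_sl0 : SL := (SL.cons (nat_lit 1) (nat_lit 13) (Ch.cons (nat_lit 15) [nat_lit 11, nat_lit 265, nat_lit 3] Ch.nil) [nat_lit 11, nat_lit 7, nat_lit 9] SL.nil)

theorem ch1_o_0_sc0 : SCs 100 ch1_o_E1 ch1_o_G0 (⟨1, by decide⟩ : Fin 100) (SL.words ch1_o_0_sl0) :=
  scs_of_ok p_hn (det_lab p_hk ⊤) ch1_o_E1_ok ch1_o_G0_ok le_top le_top (by decide : 1 < 100) ch1_o_0_fix ch1_o_card1.le (by decide +kernel)

noncomputable def ch1_o_0_l : List ℕ := (appL (SL.words ch1_o_0_sl0) [])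

theorem ch1_o_0_scs : SCs 100 ch1_o_E1 ch1_o_G0 (⟨1, by decide⟩ : Fin 100) ch1_o_0_l :=
  (SCs.append ch1_o_0_sc0 SCs.nil)

noncomputable def ch1_o_0_rl0_0 : RL := (RL.cons (nat_lit 0) (nat_lit 1) (nat_lit 0) (nat_lit 0) (nat_lit 1) (nat_lit 0) (RL.cons (nat_lit 1) (nat_lit 13) (nat_lit 0) (nat_lit 0) (nat_lit 0) (nat_lit 0) RL.nil))

theorem ch1_o_0_good0_0 : GoodSet 100 ch1_o_E1 ch1_o_G0 (⟨1, by decide⟩ : Fin 100) ch1_o_0_ts (nat_lit 1) (RL.pts ch1_o_0_rl0_0) :=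
  goodSet_of_ok p_hn (det_lab p_hk ⊤) ch1_o_E1_ok ch1_o_G0_ok le_top le_top (by decide : 1 < 100) (sepAt_lab p_hk _) (by decide +kernel)

theorem ch1_o_0_step0 : Step 100 ch1_o_E1 ch1_o_G0 ch1_o_0_ts (2 * 0 + 1) :=
  step_of_cover ch1_o_E1_ok ch1_o_0_dist (by decide +kernel) ch1_o_0_scs (by decide +kernel) ch1_o_0_good0_0 (kw := [nat_lit 11, nat_lit 265, nat_lit 3])
    (conj_mem_of_scs ch1_o_E1_ok ch1_o_G0_ok (by decide : 1 < 100) ch1_o_0_scs (c := 0) (d := 13) (by decide +kernel)) (by decide +kernel)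

theorem ch1_o_0_lev : grp 100 ch1_o_G0 ⊓ MulAction.stabilizer (Equiv.Perm (Fin 100)) (⟨1, by decide⟩ : Fin 100) = grp 100 ch1_o_E1 :=
  sims_level (gs := p_V192) rfl (by decide) ch1_o_0_fix ch1_o_0_dist (forall_lt_one ch1_o_0_step0)

theorem ch1_o_0_cardG : Nat.card (grp 100 ch1_o_G0) = 32 :=
  card_of_level p_hn ch1_o_G0_ok (by decide : 1 < 100) ch1_o_0_lev ch1_o_card1 (m := 2) (by decide +kernel)

theorem p_le203 : grp 100 ch1_o_E0 ≤ grp 100 ch1_o_G0 :=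
  grp_le_of_memB p_hn p_hk ch1_o_G0_ok ch1_o_E0_ok (ws := [nat_lit 1, nat_lit 771, nat_lit 263937, nat_lit 3, nat_lit 5, nat_lit 7, nat_lit 9, nat_lit 11, nat_lit 13]) (by decide +kernel)

theorem p_le204 : grp 100 ch1_o_G0 ≤ grp 100 ch1_o_E0 :=
  grp_le_of_memB p_hn p_hk ch1_o_E0_ok ch1_o_G0_ok (ws := [nat_lit 1, nat_lit 7, nat_lit 9, nat_lit 11, nat_lit 13, nat_lit 15, nat_lit 17]) (by decide +kernel)

theorem ch1_o_0_eq : grp 100 ch1_o_E0 = grp 100 ch1_o_G0 :=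
  le_antisymm p_le203 p_le204

theorem ch1_o_card0 : Nat.card (grp 100 ch1_o_E0) = 32 :=
  by rw [ch1_o_0_eq]; exact ch1_o_0_cardG

theorem ch1_o_stab0 : grp 100 ch1_o_E0 ⊓ MulAction.stabilizer (Equiv.Perm (Fin 100)) (⟨1, by decide⟩ : Fin 100) = grp 100 ch1_o_E1 :=
  by rw [ch1_o_0_eq]; exact ch1_o_0_lev

theorem ch1_o_leO0 : grp 100 ch1_o_E0 ≤ grp 100 ch1_Q :=
  ch1_o_0_eq.le.trans (grp_cons_le ((le_refl (grp 100 ch1_Q)) (p_le193 (toPerm_mem_grp (E := p_V192) (by simp [p_V192])))) ch1_o_leO1)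

theorem p_le205 : grp 100 ch1_Q ≤ grp 100 ch1_o_E0 :=
  grp_le_of_memB p_hn p_hk ch1_o_E0_ok ch1_Q_ok (ws := [nat_lit 3, nat_lit 1, nat_lit 13, nat_lit 5, nat_lit 9]) (by decide +kernel)

theorem ch1_o_eq : grp 100 ch1_Q = grp 100 ch1_o_E0 :=
  le_antisymm p_le205 ch1_o_leO0

theorem ch1_o_card : Nat.card (grp 100 ch1_Q) = 32 :=
  by rw [ch1_o_eq]; exact ch1_o_card0

noncomputable def ch1_o_ch : Ch := (Ch.cons (nat_lit 1) [nat_lit 1, nat_lit 3, nat_lit 5] (Ch.cons (nat_lit 15) [nat_lit 7, nat_lit 9, nat_lit 11, nat_lit 13, nat_lit 15, nat_lit 17] Ch.nil))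

theorem ch1_o_exact : Ch.Exact 100 ch1_o_E0 ch1_o_ch (grp 100 ch1_o_E0) :=
  Ch.exact (k := 7) (L := (lab 100 7)) p_hn ch1_o_E0_ok (by decide +kernel) (wgrp_le_grp _ _ _) ch1_o_card0.le

theorem ch1_n : grp 100 nt_c1_K ≤ Subgroup.normalizer (grp 100 ch1_Q : Set (Equiv.Perm (Fin 100))) :=
  EvG.le_norm p_hn p_hk nt_c1_K_ok ch1_Q_ok ch1_o_E0_ok ch1_o_eq.ge (W := [[nat_lit 1799, nat_lit 1, nat_lit 15, nat_lit 13, nat_lit 3345], [nat_lit 1799, nat_lit 13, nat_lit 460545, nat_lit 527105, nat_lit 11], [nat_lit 1799, nat_lit 1, nat_lit 13, nat_lit 527105, nat_lit 15], [nat_lit 1799, nat_lit 460545, nat_lit 13, nat_lit 527105, nat_lit 3345], [nat_lit 1799, nat_lit 527105, nat_lit 13, nat_lit 460545, nat_lit 3345]]) (by decide +kernel)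

theorem ch1_x3 : Net.toPerm 100 p_g206 ∈ (grp 100 EG) ⊓ Subgroup.centralizer {Net.toPerm 100 p_g18} :=
  nt_c1_eq.ge (mem_grp_of_memB p_hn p_hk nt_c1_K_ok p_g206_ok (w := (nat_lit 0xa0705050303010509)) (by decide +kernel))

theorem ch1_ord3 : orderOf (Net.toPerm 100 p_g206) = 3 :=
  orderOf_net p_hn p_hk p_g206_ok (by decide) (ps := [3]) (by set_option linter.unusedSimpArgs false in simp [Nat.primeFactorsList_ofNat]) (by decide +kernel)

theorem ch1_x5 : Net.toPerm 100 p_g207 ∈ (grp 100 EG) ⊓ Subgroup.centralizer {Net.toPerm 100 p_g18} :=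
  nt_c1_eq.ge (mem_grp_of_memB p_hn p_hk nt_c1_K_ok p_g207_ok (w := (nat_lit 0xa0706010309)) (by decide +kernel))

theorem ch1_ord5 : orderOf (Net.toPerm 100 p_g207) = 5 :=
  orderOf_net p_hn p_hk p_g207_ok (by decide) (ps := [5]) (by set_option linter.unusedSimpArgs false in simp [Nat.primeFactorsList_ofNat]) (by decide +kernel)

theorem ch1 : IsOfCharacteristicTwo ↥((grp 100 EG) ⊓ Subgroup.centralizer {Net.toPerm 100 p_g18}) :=
  H44.Ki.charTwo_of_primes (ch1_le.trans nt_c1_eq.ge) (nt_c1_eq.le.trans ch1_n)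
    (IsPGroup.of_card (n := 5) ch1_o_card) fun p hp hd => by
  rw [nt_c1_card] at hd ⊢
  have h := (Nat.mem_primeFactorsList (by norm_num)).2 ⟨hp, hd⟩
  simp [Nat.primeFactorsList_ofNat] at h
  rcases h with rfl | rfl | rfl
  · exact .inl rfl
  · exact .inr ⟨by norm_num, _, ch1_x3, ch1_ord3 ▸ pow_orderOf_eq_one _, _, (toPerm_mem_grp (E := ch1_Q) (List.Mem.tail _ (List.Mem.head _))),
      EvG.ncomm_net (k := 7) p_hn (by decide +kernel)⟩
  · exact .inr ⟨by norm_num, _, ch1_x5, ch1_ord5 ▸ pow_orderOf_eq_one _, _, (toPerm_mem_grp (E := ch1_Q) (List.Mem.tail _ (List.Mem.head _))),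
      EvG.ncomm_net (k := 7) p_hn (by decide +kernel)⟩

theorem p_le211 : grp 100 p_V210 ≤ grp 100 L3 :=
  grp_le_of_memB p_hn p_hk L3_ok p_V210_ok (ws := [nat_lit 3]) (by decide +kernel)

theorem p_le214 : grp 100 p_V213 ≤ grp 100 L3 :=
  grp_le_of_memB p_hn p_hk L3_ok p_V213_ok (ws := [nat_lit 0x1030101040104, nat_lit 0x30302030303]) (by decide +kernel)

theorem p_le216 : grp 100 p_V215 ≤ grp 100 p_V213 :=
  grp_le_of_memB p_hn p_hk p_V213_ok p_V215_ok (ws := [nat_lit 1]) (by decide +kernel)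

theorem p_le219 : grp 100 p_V218 ≤ grp 100 p_V213 :=
  grp_le_of_memB p_hn p_hk p_V213_ok p_V218_ok (ws := [nat_lit 0x1010101030302, nat_lit 0x202030204]) (by decide +kernel)

theorem p_le221 : grp 100 p_V220 ≤ grp 100 p_V218 :=
  grp_le_of_memB p_hn p_hk p_V218_ok p_V220_ok (ws := [nat_lit 1]) (by decide +kernel)

theorem L3o_card3 : Nat.card (grp 100 L3o_E3) = 1 :=
  card_grp_nil 100

theorem L3o_leO3 : grp 100 L3o_E3 ≤ grp 100 L3 :=
  grp_nil_le _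

theorem L3o_2_fix : grp 100 L3o_E3 ≤ MulAction.stabilizer (Equiv.Perm (Fin 100)) (⟨32, by decide⟩ : Fin 100) :=
  grp_le_stab L3o_E3_ok (by decide : 32 < 100) (by decide +kernel)

noncomputable def L3o_2_ts : List ℕ := [nat_lit 0, nat_lit 1]

noncomputable def L3o_2_ds : List ℕ := [nat_lit 32, nat_lit 7]

theorem L3o_2_dist : Dist 100 L3o_E3 L3o_G2 (⟨32, by decide⟩ : Fin 100) L3o_2_ts L3o_2_ds :=
  dist_of_distB (k := 1) p_hn L3o_E3_ok L3o_G2_ok (by decide : 32 < 100) (by decide +kernel)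

noncomputable def L3o_2_sl0 : SL := (SL.cons (nat_lit 1) (nat_lit 7) Ch.nil [] SL.nil)

theorem L3o_2_sc0 : SCs 100 L3o_E3 L3o_G2 (⟨32, by decide⟩ : Fin 100) (SL.words L3o_2_sl0) :=
  scs_of_ok p_hn (det_lab p_hk ⊤) L3o_E3_ok L3o_G2_ok le_top le_top (by decide : 32 < 100) L3o_2_fix L3o_card3.le (by decide +kernel)

noncomputable def L3o_2_l : List ℕ := (appL (SL.words L3o_2_sl0) [])

theorem L3o_2_scs : SCs 100 L3o_E3 L3o_G2 (⟨32, by decide⟩ : Fin 100) L3o_2_l :=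
  (SCs.append L3o_2_sc0 SCs.nil)

noncomputable def L3o_2_rl0_0 : RL := (RL.cons (nat_lit 0) (nat_lit 32) (nat_lit 0) (nat_lit 0) (nat_lit 1) (nat_lit 0) (RL.cons (nat_lit 1) (nat_lit 7) (nat_lit 0) (nat_lit 0) (nat_lit 0) (nat_lit 0) RL.nil))

theorem L3o_2_good0_0 : GoodSet 100 L3o_E3 L3o_G2 (⟨32, by decide⟩ : Fin 100) L3o_2_ts (nat_lit 1) (RL.pts L3o_2_rl0_0) :=
  goodSet_of_ok p_hn (det_lab p_hk ⊤) L3o_E3_ok L3o_G2_ok le_top le_top (by decide : 32 < 100) (sepAt_lab p_hk _) (by decide +kernel)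

theorem L3o_2_step0 : Step 100 L3o_E3 L3o_G2 L3o_2_ts (2 * 0 + 1) :=
  step_of_cover L3o_E3_ok L3o_2_dist (by decide +kernel) L3o_2_scs (by decide +kernel) L3o_2_good0_0 (kw := [])
    (conj_mem_of_scs L3o_E3_ok L3o_G2_ok (by decide : 32 < 100) L3o_2_scs (c := 0) (d := 7) (by decide +kernel)) (by decide +kernel)

theorem L3o_2_lev : grp 100 L3o_G2 ⊓ MulAction.stabilizer (Equiv.Perm (Fin 100)) (⟨32, by decide⟩ : Fin 100) = grp 100 L3o_E3 :=
  sims_level (gs := p_V220) rfl (by decide) L3o_2_fix L3o_2_dist (forall_lt_one L3o_2_step0)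

theorem L3o_2_cardG : Nat.card (grp 100 L3o_G2) = 2 :=
  card_of_level p_hn L3o_G2_ok (by decide : 32 < 100) L3o_2_lev L3o_card3 (m := 2) (by decide +kernel)

theorem p_le222 : grp 100 L3o_E2 ≤ grp 100 L3o_G2 :=
  grp_le_of_memB p_hn p_hk L3o_G2_ok L3o_E2_ok (ws := [nat_lit 1]) (by decide +kernel)

theorem p_le223 : grp 100 L3o_G2 ≤ grp 100 L3o_E2 :=
  grp_le_of_memB p_hn p_hk L3o_E2_ok L3o_G2_ok (ws := [nat_lit 1]) (by decide +kernel)

theorem L3o_2_eq : grp 100 L3o_E2 = grp 100 L3o_G2 :=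
  le_antisymm p_le222 p_le223

theorem L3o_card2 : Nat.card (grp 100 L3o_E2) = 2 :=
  by rw [L3o_2_eq]; exact L3o_2_cardG

theorem L3o_stab2 : grp 100 L3o_E2 ⊓ MulAction.stabilizer (Equiv.Perm (Fin 100)) (⟨32, by decide⟩ : Fin 100) = grp 100 L3o_E3 :=
  by rw [L3o_2_eq]; exact L3o_2_lev

theorem L3o_leO2 : grp 100 L3o_E2 ≤ grp 100 L3 :=
  L3o_2_eq.le.trans (grp_cons_le ((p_le219.trans (p_le214.trans (le_refl (grp 100 L3)))) (p_le221 (toPerm_mem_grp (E := p_V220) (by simp [p_V220])))) L3o_leO3)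

theorem L3o_1_fix : grp 100 L3o_E2 ≤ MulAction.stabilizer (Equiv.Perm (Fin 100)) (⟨31, by decide⟩ : Fin 100) :=
  grp_le_stab L3o_E2_ok (by decide : 31 < 100) (by decide +kernel)

noncomputable def L3o_1_ts : List ℕ := [nat_lit 0, nat_lit 1]

noncomputable def L3o_1_ds : List ℕ := [nat_lit 31, nat_lit 32]

theorem L3o_1_dist : Dist 100 L3o_E2 L3o_G1 (⟨31, by decide⟩ : Fin 100) L3o_1_ts L3o_1_ds :=
  dist_of_distB (k := 1) p_hn L3o_E2_ok L3o_G1_ok (by decide : 31 < 100) (by decide +kernel)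

noncomputable def L3o_1_sl0 : SL := (SL.cons (nat_lit 1) (nat_lit 32) Ch.nil [] SL.nil)

theorem L3o_1_sc0 : SCs 100 L3o_E2 L3o_G1 (⟨31, by decide⟩ : Fin 100) (SL.words L3o_1_sl0) :=
  scs_of_ok p_hn (det_lab p_hk ⊤) L3o_E2_ok L3o_G1_ok le_top le_top (by decide : 31 < 100) L3o_1_fix L3o_card2.le (by decide +kernel)

noncomputable def L3o_1_l : List ℕ := (appL (SL.words L3o_1_sl0) [])

theorem L3o_1_scs : SCs 100 L3o_E2 L3o_G1 (⟨31, by decide⟩ : Fin 100) L3o_1_l :=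
  (SCs.append L3o_1_sc0 SCs.nil)

noncomputable def L3o_1_rl0_0 : RL := (RL.cons (nat_lit 0) (nat_lit 31) (nat_lit 0) (nat_lit 0) (nat_lit 1) (nat_lit 0) (RL.cons (nat_lit 1) (nat_lit 32) (nat_lit 0) (nat_lit 0) (nat_lit 0) (nat_lit 0) (RL.cons (nat_lit 1) (nat_lit 7) (nat_lit 1) (nat_lit 1) (nat_lit 1) (nat_lit 1) RL.nil)))

theorem L3o_1_good0_0 : GoodSet 100 L3o_E2 L3o_G1 (⟨31, by decide⟩ : Fin 100) L3o_1_ts (nat_lit 1) (RL.pts L3o_1_rl0_0) :=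
  goodSet_of_ok p_hn (det_lab p_hk ⊤) L3o_E2_ok L3o_G1_ok le_top le_top (by decide : 31 < 100) (sepAt_lab p_hk _) (by decide +kernel)

theorem L3o_1_step0 : Step 100 L3o_E2 L3o_G1 L3o_1_ts (2 * 0 + 1) :=
  step_of_cover L3o_E2_ok L3o_1_dist (by decide +kernel) L3o_1_scs (by decide +kernel) L3o_1_good0_0 (kw := [])
    (conj_mem_of_scs L3o_E2_ok L3o_G1_ok (by decide : 31 < 100) L3o_1_scs (c := 0) (d := 32) (by decide +kernel)) (by decide +kernel)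

theorem L3o_1_lev : grp 100 L3o_G1 ⊓ MulAction.stabilizer (Equiv.Perm (Fin 100)) (⟨31, by decide⟩ : Fin 100) = grp 100 L3o_E2 :=
  sims_level (gs := p_V215) rfl (by decide) L3o_1_fix L3o_1_dist (forall_lt_one L3o_1_step0)

theorem L3o_1_cardG : Nat.card (grp 100 L3o_G1) = 6 :=
  card_of_level p_hn L3o_G1_ok (by decide : 31 < 100) L3o_1_lev L3o_card2 (m := 3) (by decide +kernel)

theorem p_le224 : grp 100 L3o_E1 ≤ grp 100 L3o_G1 :=
  grp_le_of_memB p_hn p_hk L3o_G1_ok L3o_E1_ok (ws := [nat_lit 1, nat_lit 259, nat_lit 3]) (by decide +kernel)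

theorem p_le225 : grp 100 L3o_G1 ≤ grp 100 L3o_E1 :=
  grp_le_of_memB p_hn p_hk L3o_E1_ok L3o_G1_ok (ws := [nat_lit 1, nat_lit 5]) (by decide +kernel)

theorem L3o_1_eq : grp 100 L3o_E1 = grp 100 L3o_G1 :=
  le_antisymm p_le224 p_le225

theorem L3o_card1 : Nat.card (grp 100 L3o_E1) = 6 :=
  by rw [L3o_1_eq]; exact L3o_1_cardG

theorem L3o_stab1 : grp 100 L3o_E1 ⊓ MulAction.stabilizer (Equiv.Perm (Fin 100)) (⟨31, by decide⟩ : Fin 100) = grp 100 L3o_E2 :=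
  by rw [L3o_1_eq]; exact L3o_1_lev

theorem L3o_leO1 : grp 100 L3o_E1 ≤ grp 100 L3 :=
  L3o_1_eq.le.trans (grp_cons_le ((p_le214.trans (le_refl (grp 100 L3))) (p_le216 (toPerm_mem_grp (E := p_V215) (by simp [p_V215])))) L3o_leO2)

theorem L3o_0_fix : grp 100 L3o_E1 ≤ MulAction.stabilizer (Equiv.Perm (Fin 100)) (⟨2, by decide⟩ : Fin 100) :=
  grp_le_stab L3o_E1_ok (by decide : 2 < 100) (by decide +kernel)

noncomputable def L3o_0_ts : List ℕ := [nat_lit 0, nat_lit 1, nat_lit 257]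

noncomputable def L3o_0_ds : List ℕ := [nat_lit 2, nat_lit 31, nat_lit 87]

theorem L3o_0_dist : Dist 100 L3o_E1 L3o_G0 (⟨2, by decide⟩ : Fin 100) L3o_0_ts L3o_0_ds :=
  dist_of_distB (k := 2) p_hn L3o_E1_ok L3o_G0_ok (by decide : 2 < 100) (by decide +kernel)

noncomputable def L3o_0_sl0 : SL := (SL.cons (nat_lit 1) (nat_lit 31) (Ch.cons (nat_lit 32) [nat_lit 5] Ch.nil) [nat_lit 1] (SL.cons (nat_lit 257) (nat_lit 87) Ch.nil [] SL.nil))

theorem L3o_0_sc0 : SCs 100 L3o_E1 L3o_G0 (⟨2, by decide⟩ : Fin 100) (SL.words L3o_0_sl0) :=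
  scs_of_ok p_hn (det_lab p_hk ⊤) L3o_E1_ok L3o_G0_ok le_top le_top (by decide : 2 < 100) L3o_0_fix L3o_card1.le (by decide +kernel)

noncomputable def L3o_0_l : List ℕ := (appL (SL.words L3o_0_sl0) [])

theorem L3o_0_scs : SCs 100 L3o_E1 L3o_G0 (⟨2, by decide⟩ : Fin 100) L3o_0_l :=
  (SCs.append L3o_0_sc0 SCs.nil)

noncomputable def L3o_0_rl0_0 : RL := (RL.cons (nat_lit 0) (nat_lit 2) (nat_lit 0) (nat_lit 3) (nat_lit 1) (nat_lit 3) (RL.cons (nat_lit 1) (nat_lit 31) (nat_lit 0) (nat_lit 0) (nat_lit 0) (nat_lit 0) (RL.cons (nat_lit 1) (nat_lit 32) (nat_lit 1) (nat_lit 3) (nat_lit 2) (nat_lit 1) (RL.cons (nat_lit 2) (nat_lit 87) (nat_lit 0) (nat_lit 0) (nat_lit 1) (nat_lit 0) (RL.cons (nat_lit 2) (nat_lit 64) (nat_lit 1) (nat_lit 5) (nat_lit 2) (nat_lit 5) (RL.cons (nat_lit 2) (nat_lit 47) (nat_lit 4) (nat_lit 1) (nat_lit 2) (nat_lit 1283) RL.nil))))))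

theorem L3o_0_good0_0 : GoodSet 100 L3o_E1 L3o_G0 (⟨2, by decide⟩ : Fin 100) L3o_0_ts (nat_lit 1) (RL.pts L3o_0_rl0_0) :=
  goodSet_of_ok p_hn (det_lab p_hk ⊤) L3o_E1_ok L3o_G0_ok le_top le_top (by decide : 2 < 100) (sepAt_lab p_hk _) (by decide +kernel)

theorem L3o_0_step0 : Step 100 L3o_E1 L3o_G0 L3o_0_ts (2 * 0 + 1) :=
  step_of_cover L3o_E1_ok L3o_0_dist (by decide +kernel) L3o_0_scs (by decide +kernel) L3o_0_good0_0 (kw := [nat_lit 5])
    (conj_mem_of_scs L3o_E1_ok L3o_G0_ok (by decide : 2 < 100) L3o_0_scs (c := 0) (d := 31) (by decide +kernel)) (by decide +kernel)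

theorem L3o_0_lev : grp 100 L3o_G0 ⊓ MulAction.stabilizer (Equiv.Perm (Fin 100)) (⟨2, by decide⟩ : Fin 100) = grp 100 L3o_E1 :=
  sims_level (gs := p_V210) rfl (by decide) L3o_0_fix L3o_0_dist (forall_lt_one L3o_0_step0)

theorem L3o_0_cardG : Nat.card (grp 100 L3o_G0) = 60 :=
  card_of_level p_hn L3o_G0_ok (by decide : 2 < 100) L3o_0_lev L3o_card1 (m := 10) (by decide +kernel)

theorem p_le226 : grp 100 L3o_E0 ≤ grp 100 L3o_G0 :=
  grp_le_of_memB p_hn p_hk L3o_G0_ok L3o_E0_ok (ws := [nat_lit 1, nat_lit 0x3010106, nat_lit 3, nat_lit 5, nat_lit 7]) (by decide +kernel)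

theorem p_le227 : grp 100 L3o_G0 ≤ grp 100 L3o_E0 :=
  grp_le_of_memB p_hn p_hk L3o_E0_ok L3o_G0_ok (ws := [nat_lit 1, nat_lit 5, nat_lit 7, nat_lit 9]) (by decide +kernel)

theorem L3o_0_eq : grp 100 L3o_E0 = grp 100 L3o_G0 :=
  le_antisymm p_le226 p_le227

theorem L3o_card0 : Nat.card (grp 100 L3o_E0) = 60 :=
  by rw [L3o_0_eq]; exact L3o_0_cardG

theorem L3o_stab0 : grp 100 L3o_E0 ⊓ MulAction.stabilizer (Equiv.Perm (Fin 100)) (⟨2, by decide⟩ : Fin 100) = grp 100 L3o_E1 :=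
  by rw [L3o_0_eq]; exact L3o_0_lev

theorem L3o_leO0 : grp 100 L3o_E0 ≤ grp 100 L3 :=
  L3o_0_eq.le.trans (grp_cons_le ((le_refl (grp 100 L3)) (p_le211 (toPerm_mem_grp (E := p_V210) (by simp [p_V210])))) L3o_leO1)

theorem p_le228 : grp 100 L3 ≤ grp 100 L3o_E0 :=
  grp_le_of_memB p_hn p_hk L3o_E0_ok L3_ok (ws := [nat_lit 3, nat_lit 1]) (by decide +kernel)

theorem L3o_eq : grp 100 L3 = grp 100 L3o_E0 :=
  le_antisymm p_le228 L3o_leO0

theorem L3o_card : Nat.card (grp 100 L3) = 60 :=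
  by rw [L3o_eq]; exact L3o_card0

noncomputable def L3o_ch : Ch := (Ch.cons (nat_lit 2) [nat_lit 1, nat_lit 3] (Ch.cons (nat_lit 31) [nat_lit 5, nat_lit 7] (Ch.cons (nat_lit 32) [nat_lit 9] Ch.nil)))

theorem L3o_exact : Ch.Exact 100 L3o_E0 L3o_ch (grp 100 L3o_E0) :=
  Ch.exact (k := 7) (L := (lab 100 7)) p_hn L3o_E0_ok (by decide +kernel) (wgrp_le_grp _ _ _) L3o_card0.le

theorem p_le229 : grp 100 L3 ≤ grp 100 H47.J2P.h_E0 :=
  grp_le_of_memB p_hn p_hk H47.J2P.h_E0_ok L3_ok (ws := [nat_lit 0x17170f070b18020214, nat_lit 0x181919100d1a030f]) (by decide +kernel)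

theorem L3_G : grp 100 L3 ≤ (grp 100 H47.J2P.h_E0) :=
  (p_le229).trans (le_refl (grp 100 H47.J2P.h_E0))

theorem L3_n : grp 100 nt_c3_K ≤ Subgroup.normalizer (grp 100 L3 : Set (Equiv.Perm (Fin 100))) :=
  EvG.le_norm p_hn p_hk nt_c3_K_ok L3_ok L3o_E0_ok L3o_eq.ge (W := [[nat_lit 0x9070104, nat_lit 459013], [nat_lit 591108, nat_lit 1282], [nat_lit 459012, nat_lit 1281], [nat_lit 328196, nat_lit 327941]]) (by decide +kernel)

theorem a3_le6 : grp 5 a3_V5 ≤ grp 5 A3_E :=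
  grp_le_of_memB a3_hn a3_hk A3_E_ok a3_V5_ok (ws := [nat_lit 0x203030104, nat_lit 515]) (by decide +kernel)

theorem a3_le9 : grp 5 a3_V8 ≤ grp 5 a3_V5 :=
  grp_le_of_memB a3_hn a3_hk a3_V5_ok a3_V8_ok (ws := [nat_lit 0x3030103020401, nat_lit 0x203030302]) (by decide +kernel)

theorem A3_lb_le : grp 5 A3_lb_E ≤ grp 5 A3_E :=
  (grp_cons_le ((le_refl (grp 5 A3_E)) (toPerm_mem_grp (E := A3_E) (by simp [A3_E]))) (grp_cons_le ((le_refl (grp 5 A3_E)) (toPerm_mem_grp (E := A3_E) (by simp [A3_E]))) (grp_cons_le ((a3_le6.trans (le_refl (grp 5 A3_E))) (toPerm_mem_grp (E := a3_V5) (by simp [a3_V5]))) (grp_cons_le ((a3_le6.trans (le_refl (grp 5 A3_E))) (toPerm_mem_grp (E := a3_V5) (by simp [a3_V5]))) (grp_cons_le ((a3_le9.trans (a3_le6.trans (le_refl (grp 5 A3_E)))) (toPerm_mem_grp (E := a3_V8) (by simp [a3_V8]))) (grp_cons_le ((a3_le9.trans (a3_le6.trans (le_refl (grp 5 A3_E)))) (toPerm_mem_grp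 (E := a3_V8) (by simp [a3_V8]))) (grp_nil_le _)))))))

noncomputable def A3_lb_ch : Ch := (Ch.cons (nat_lit 0) [nat_lit 1, nat_lit 3] (Ch.cons (nat_lit 1) [nat_lit 5, nat_lit 7] (Ch.cons (nat_lit 2) [nat_lit 9, nat_lit 11] Ch.nil)))

theorem A3_lb_chk : Ch.chk 5 3 (lab 5 3) A3_lb_E A3_lb_ch 60 = true :=
  by decide +kernel

theorem A3_lb_ge : 60 ≤ Nat.card (grp 5 A3_E) :=
  (Ch.le_card_grp a3_hn A3_lb_E_ok A3_lb_chk).trans (Subgroup.card_le_of_le A3_lb_le)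

noncomputable def A3_M : List ℕ := [(nat_lit 16), (nat_lit 0), (nat_lit 0), (nat_lit 0), (nat_lit 16), (nat_lit 0), (nat_lit 0), (nat_lit 0), (nat_lit 0), (nat_lit 0), (nat_lit 0), (nat_lit 0), (nat_lit 0), (nat_lit 0), (nat_lit 0), (nat_lit 0), (nat_lit 0), (nat_lit 0), (nat_lit 0), (nat_lit 0), (nat_lit 0), (nat_lit 0), (nat_lit 0), (nat_lit 0), (nat_lit 0), (nat_lit 0), (nat_lit 16), (nat_lit 0), (nat_lit 0), (nat_lit 0), (nat_lit 8), (nat_lit 0), (nat_lit 0), (nat_lit 4), (nat_lit 0), (nat_lit 0), (nat_lit 0), (nat_lit 0), (nat_lit 0), (nat_lit 4), (nat_lit 8), (nat_lit 0), (nat_lit 0), (nat_lit 0), (nat_lit 0), (nat_lit 0), (nat_lit 0), (nat_lit 0), (nat_lit 0), (nat_lit 0), (nat_lit 0), (nat_lit 2), (nat_lit 0), (nat_lit 0), (nat_lit 0), (nat_lit 0), (nat_lit 1), (nat_lit 0), (nat_lit 0), (nat_lit 0), (nat_lit 0), (nat_lit 0), (nat_lit 4), (nat_lit 0), (nat_lit 0), (nat_lit 0),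 (nat_lit 0), (nat_lit 0), (nat_lit 2), (nat_lit 0), (nat_lit 0), (nat_lit 0), (nat_lit 0), (nat_lit 0), (nat_lit 0), (nat_lit 0), (nat_lit 0), (nat_lit 0), (nat_lit 1), (nat_lit 0), (nat_lit 0), (nat_lit 8), (nat_lit 0), (nat_lit 0), (nat_lit 0), (nat_lit 0), (nat_lit 0), (nat_lit 0), (nat_lit 0), (nat_lit 0), (nat_lit 0), (nat_lit 2), (nat_lit 0), (nat_lit 0), (nat_lit 0), (nat_lit 1), (nat_lit 0), (nat_lit 0), (nat_lit 0), (nat_lit 0)]

theorem A3_inj : Function.Injective (cols 100 5 (nthN A3_M)) :=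
  cols_injective (by decide +kernel)

theorem A3_acts : List.Forall₂ (fun o o' => Acts (cols 100 5 (nthN A3_M)) (Net.toPerm 100 o) (Net.toPerm 5 o')) L3 A3_E :=
  (List.Forall₂.cons (inc_of_incB p_g208_ok a3_g1_ok (allN_iff.1 (by decide +kernel))).acts_cols (List.Forall₂.cons (inc_of_incB p_g209_ok a3_g2_ok (allN_iff.1 (by decide +kernel))).acts_cols List.Forall₂.nil))

theorem A3 : Nonempty (grp 100 L3 ≃* alternatingGroup (Fin 5)) :=
  by
  obtain ⟨ρ, -, h⟩ := exists_hom_grp A3_inj A3_acts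
  exact EvG.equiv_alt (by norm_num) ρ (by rw [L3o_card]; decide) (by rw [h, L3o_card]; exact A3_lb_ge)

theorem p_le231 : grp 100 Y3 ≤ grp 100 lb_E :=
  grp_le_of_memB p_hn p_hk lb_E_ok Y3_ok (ws := [nat_lit 0x33312729252d1f2522010727, nat_lit 0x3327291f1f05]) (by decide +kernel)

theorem Y3_le : grp 100 Y3 ≤ (grp 100 EG) :=
  (p_le231.trans T_s0.le)

theorem Y3_sym : Sym 100 (grp 100 EG) X3 Y3 0 :=
  Sym.of_lab p_hn p_hk X3_ok Y3_ok Y3_le (kT := 0) (by decide +kernel)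

noncomputable def Y3_cnt_L : List ℕ := [5, 9, T_s25_O, 1, 0]

theorem Y3_cnt_P : Prob 100 7 (grp 100 EG) Y3_cnt_EG X3 X3 Y3 Y3_cnt_L 0 0 :=
  Sym.prob p_hn p_hk Y3_sym Y3_cnt_EG_ok (grp_cons_le p_g107_T (grp_cons_le p_g106_T (grp_cons_le p_g26_T (grp_cons_le p_g27_T (grp_cons_le p_g28_T (grp_cons_le p_g29_T (grp_cons_le p_g1_T (grp_cons_le p_g2_T (grp_cons_le p_g5_T (grp_cons_le p_g6_T (grp_cons_le H47.J2P.h_g45_T (grp_cons_le H47.J2P.h_a0_T (grp_cons_le p_g11_T (grp_cons_le H47.J2P.h_g53_T (grp_cons_le MpJ2.a_T (grp_cons_le H47.J2P.h_g1_T (grp_cons_le H47.J2P.h_a19_T (grp_cons_le H47.J2P.h_a27_T (grp_cons_le H47.J2P.h_g7_T (grp_cons_le H47.J2P.h_g4_T (grp_cons_le H47.J2P.h_a8_T (grp_cons_le H47.J2P.h_g14_T (grp_cons_le H47.J2P.h_g10_T (grp_cons_le H47.J2P.h_g11_T (grp_cons_le H47.J2P.h_g21_T (grp_cons_le H47.J2P.h_g22_T (grp_cons_le H47.J2P.h_g17_T (grp_cons_le H47.J2P.h_g18_T (grp_nil_le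 _))))))))))))))))))))))))))))) (Frames.cons T_s25_F Frames.nil) X3_ok _

noncomputable def Y3_cnt_t : BT := (BT.fix (nat_lit 3) (BT.br (nat_lit 0) (nat_lit 87) [nat_lit 1, nat_lit 3] (BT.kid (nat_lit 87) (nat_lit 1) (BT.img (nat_lit 5) (nat_lit 0) (BT.img (nat_lit 5) (nat_lit 0) (BT.img (nat_lit 5) (nat_lit 0) (BT.img (nat_lit 3) (nat_lit 0) (BT.img (nat_lit 3) (nat_lit 0) (BT.img (nat_lit 1) (nat_lit 0) (BT.img (nat_lit 5) (nat_lit 0) (BT.img (nat_lit 3) (nat_lit 0) (BT.img (nat_lit 3) (nat_lit 7) (BT.one (nat_lit 0) (nat_lit 0x60a0e171d34) (nat_lit 0x60a0e171d34) [nat_lit 1, nat_lit 6, nat_lit 0, nat_lit 8, nat_lit 9])))))))))) BT.nil)))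

theorem Y3_cnt : Cnt 100 (grp 100 EG) X3 X3 0 0 0 0 4 :=
  BT.sound Y3_cnt_P Known.nil (t := Y3_cnt_t) (d := 0) (by decide +kernel)

theorem Y3_ge : 4 ≤ Nat.card (grp 100 Y3) :=
  Ch.le_card_grp (k := 7) (L := (lab 100 7)) p_hn Y3_ok (c := (Ch.cons (nat_lit 87) [nat_lit 1, nat_lit 3] Ch.nil)) (by decide +kernel)

theorem Y3_eq : (grp 100 EG) ⊓ Subgroup.centralizer (grp 100 X3 : Set (Equiv.Perm (Fin 100))) = grp 100 Y3 :=
  cent_grp_eq Y3_sym Y3_cnt Y3_ge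

theorem Y3_card : Nat.card (grp 100 Y3) = 4 :=
  (Y3_sym.mem_iff Y3_cnt Y3_ge).1

theorem cmp3 : EvG.Cmp (grp 100 H47.J2P.h_E0) (grp 100 EG) (Net.toPerm 100 p_g52) (grp 100 L3) (grp 100 Y3) :=
  ⟨nt_c3_mem, EvG.sq_net p_hn p_hk (by decide +kernel), L3_G, EvG.le_cent p_hn p_hk (by decide +kernel),
    nt_c3_eq.le.trans L3_n, ⟨3, by rw [nt_c3_card, L3o_card]; norm_num⟩, EvG.simple_of_alt (by norm_num) A3,
    EvG.nab_of (toPerm_mem_grp (E := L3) (List.Mem.head _)) (toPerm_mem_grp (E := L3) (List.Mem.tail _ (List.Mem.head _))) (EvG.ncomm_net (k := 7) p_hn (by decide +kernel)),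
    fun _ hy h0 h => Y3_eq.le ⟨hy, EvG.cent_cons h0 h⟩⟩

theorem V3_s0 : Stab 100 (grp 100 L3) [] L3o_E0 60 :=
  Stab.root' L3o_E0_ok L3o_eq L3o_card

theorem p_le234 : grp 100 lt3_c1_K ≤ grp 100 L3o_E0 :=
  grp_le_of_memB p_hn p_hk L3o_E0_ok lt3_c1_K_ok (ws := [nat_lit 0x9050105, nat_lit 2311]) (by decide +kernel)

theorem lt3_c1_le : grp 100 lt3_c1_K ≤ (grp 100 L3) :=
  (p_le234.trans V3_s0.le)

theorem lt3_c1_mem : Net.toPerm 100 p_g232 ∈ (grp 100 L3) :=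
  lt3_c1_le (toPerm_mem_grp (E := lt3_c1_K) (List.Mem.tail _ (List.Mem.head _)))

theorem lt3_c1_sym : Sym 100 (grp 100 L3) [p_g232] lt3_c1_K 0 :=
  Sym.of_lab p_hn p_hk (okE_cons.2 ⟨p_g232_ok, okE_nil _⟩) lt3_c1_K_ok lt3_c1_le (kT := 0) (by decide +kernel)

theorem V3_s1 : Stab 100 (grp 100 L3) [nat_lit 2] p_V235 6 :=
  Stab.step (k := 7) (L := (lab 100 7)) p_hn V3_s0 p_V235_ok (grp_mono (List.subset_append_right [p_g209, p_g208] _)) (c := (Ch.cons (nat_lit 31) [nat_lit 1, nat_lit 3] (Ch.cons (nat_lit 32) [nat_lit 5] Ch.nil))) (by decide +kernel)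

theorem V3_s2 : Stab 100 (grp 100 L3) [nat_lit 31, nat_lit 2] p_V236 2 :=
  Stab.step (k := 7) (L := (lab 100 7)) p_hn V3_s1 p_V236_ok (grp_mono (List.subset_append_right [H47.J2P.h_a0, p_g212] _)) (c := (Ch.cons (nat_lit 32) [nat_lit 1] Ch.nil)) (by decide +kernel)

theorem V3_s3 : Stab 100 (grp 100 L3) [nat_lit 32, nat_lit 31, nat_lit 2] p_V237 1 :=
  Stab.step (k := 7) (L := (lab 100 7)) p_hn V3_s2 p_V237_ok (grp_mono (List.subset_append_right [p_g217] _)) (c := Ch.nil) (by decide +kernel)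

theorem p_g209_V3 : Net.toPerm 100 p_g209 ∈ (grp 100 L3) :=
  V3_s0.le (toPerm_mem_grp (E := L3o_E0) (List.Mem.head _))

theorem p_g208_V3 : Net.toPerm 100 p_g208 ∈ (grp 100 L3) :=
  V3_s0.le (toPerm_mem_grp (E := L3o_E0) (List.Mem.tail _ (List.Mem.head _)))

theorem H47.J2P.h_a0_V3 : Net.toPerm 100 H47.J2P.h_a0 ∈ (grp 100 L3) :=
  V3_s0.le (toPerm_mem_grp (E := L3o_E0) (List.Mem.tail _ (List.Mem.tail _ (List.Mem.head _))))

theorem p_g212_V3 : Net.toPerm 100 p_g212 ∈ (grp 100 L3) :=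
  V3_s0.le (toPerm_mem_grp (E := L3o_E0) (List.Mem.tail _ (List.Mem.tail _ (List.Mem.tail _ (List.Mem.head _)))))

theorem p_g217_V3 : Net.toPerm 100 p_g217 ∈ (grp 100 L3) :=
  V3_s0.le (toPerm_mem_grp (E := L3o_E0) (List.Mem.tail _ (List.Mem.tail _ (List.Mem.tail _ (List.Mem.tail _ (List.Mem.head _))))))

noncomputable def V3_s3_O : ℕ := (nat_lit 0x3333266666ccccd99999333321f07c1f03e0f83e0f83e0f83ee63398c67319ce63398c673184db24d926c93649b64db26d92000000000000000000000000400000000000000000800000000000000000000000100000000)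

theorem V3_s3_F : Frame 100 (grp 100 L3) 3 7 V3_s3_O 1 1 :=
  IsBase.frame V3_s3.isBase (by decide +kernel)

noncomputable def V3_s1_O : ℕ := (nat_lit 0x800000000000000000000000020000000000000000000000000400000008004000000000000400000010000020000000000010000008000000400000000000800000002000400000000000010000000000000000000810000800000000100008000000000040000000000000040200000002000020000010000000000000040000000000000000000000208100000000000000000018000008000000000008010000000000400040080000000000000000020080000010000000000000001004000002000000000000000084000000800000000000000002000000000010800000000000101080200100108000000000000011008080020400000000000020401002004020000000000000020000402841000000000000000200004000018240000000000040000200000042000180000000000000000248100024000000000000000000000000004)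

theorem V3_s1_F : Frame 100 (grp 100 L3) 1 27 V3_s1_O 0 1 :=
  Stab.frame p_hn V3_s1 (by decide +kernel)

noncomputable def V3_s0_O : ℕ := (nat_lit 0x11008080020481000480000000210004828410000204000002040100200402000082081000108020010010800180000084202080500140204200013420080404804028010004208018605400002a0000002481100240a)

theorem V3_s0_F : Frame 100 (grp 100 L3) 0 7 V3_s0_O 0 1 :=
  Stab.frame p_hn V3_s0 (by decide +kernel)

noncomputable def lt3_c1_cnt_L : List ℕ := [0, 7, V3_s0_O, 0, 0, 1, 27, V3_s1_O, 0, 0, 3, 7, V3_s3_O, 1, 0]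

theorem lt3_c1_cnt_P : Prob 100 7 (grp 100 L3) lt3_c1_cnt_EG [p_g232] [p_g232] lt3_c1_K lt3_c1_cnt_L 0 0 :=
  Sym.prob p_hn p_hk lt3_c1_sym lt3_c1_cnt_EG_ok (grp_cons_le p_g209_V3 (grp_cons_le p_g208_V3 (grp_cons_le H47.J2P.h_a0_V3 (grp_cons_le p_g212_V3 (grp_cons_le p_g217_V3 (grp_nil_le _)))))) (Frames.cons V3_s0_F (Frames.cons V3_s1_F (Frames.cons V3_s3_F Frames.nil))) (okE_cons.2 ⟨p_g232_ok, okE_nil _⟩) _

noncomputable def lt3_c1_cnt_t : BT := (BT.frm (nat_lit 0) (nat_lit 0) (nat_lit 0) [] (BT.pln (nat_lit 0) (nat_lit 3) (BT.fix (nat_lit 1) (BT.and (nat_lit 1) (nat_lit 0) (BT.br (nat_lit 0) (nat_lit 32) [nat_lit 1] (BT.kid (nat_lit 32) (nat_lit 2) (BT.frm (nat_lit 1) (nat_lit 261) (nat_lit 261) [nat_lit 0] (BT.pln (nat_lit 0) (nat_lit 14) (BT.and (nat_lit 5) (nat_lit 0) (BT.dif (nat_lit 0) (nat_lit 5) (BT.br (nat_lit 0) (nat_lit 64) [nat_lit 3] (BT.kid (nat_lit 64) (nat_lit 1)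 (BT.dif (nat_lit 6) (nat_lit 5) (BT.one (nat_lit 2) (nat_lit 459013) (nat_lit 459013) [nat_lit 1, nat_lit 0, nat_lit 6])) BT.nil)))))) BT.nil))))))

theorem lt3_c1_cnt : Cnt 100 (grp 100 L3) [p_g232] [p_g232] 0 0 0 0 4 :=
  BT.sound lt3_c1_cnt_P Known.nil (t := lt3_c1_cnt_t) (d := 0) (by decide +kernel)

theorem lt3_c1_ge : 4 ≤ Nat.card (grp 100 lt3_c1_K) :=
  Ch.le_card_grp (k := 7) (L := (lab 100 7)) p_hn lt3_c1_K_ok (c := (Ch.cons (nat_lit 32) [nat_lit 1] (Ch.cons (nat_lit 64) [nat_lit 3] Ch.nil))) (by decide +kernel)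

theorem lt3_c1_eq : (grp 100 L3) ⊓ Subgroup.centralizer {Net.toPerm 100 p_g232} = grp 100 lt3_c1_K :=
  cent_eq lt3_c1_sym lt3_c1_cnt lt3_c1_ge

theorem lt3_c1_card : Nat.card ↥((grp 100 L3) ⊓ Subgroup.centralizer {Net.toPerm 100 p_g232}) = 4 :=
  card_cent lt3_c1_sym lt3_c1_cnt lt3_c1_ge

theorem lt3_c1_ord : orderOf (Net.toPerm 100 p_g232) = 2 :=
  orderOf_net p_hn p_hk p_g232_ok (by decide) (ps := [2]) (by set_option linter.unusedSimpArgs false in simp [Nat.primeFactorsList_ofNat]) (by decide +kernel)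

theorem p_le239 : grp 100 lt3_c2_K ≤ grp 100 L3o_E0 :=
  grp_le_of_memB p_hn p_hk L3o_E0_ok lt3_c2_K_ok (ws := [nat_lit 590081]) (by decide +kernel)

theorem lt3_c2_le : grp 100 lt3_c2_K ≤ (grp 100 L3) :=
  (p_le239.trans V3_s0.le)

theorem lt3_c2_mem : Net.toPerm 100 p_g238 ∈ (grp 100 L3) :=
  lt3_c2_le (toPerm_mem_grp (E := lt3_c2_K) (List.Mem.head _))

theorem lt3_c2_sym : Sym 100 (grp 100 L3) [p_g238] lt3_c2_K 0 :=
  Sym.of_lab p_hn p_hk (okE_cons.2 ⟨p_g238_ok, okE_nil _⟩) lt3_c2_K_ok lt3_c2_le (kT := 0) (by decide +kernel)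

noncomputable def lt3_c2_cnt_L : List ℕ := [0, 7, V3_s0_O, 0, 0, 1, 27, V3_s1_O, 0, 0, 3, 7, V3_s3_O, 1, 0]

theorem lt3_c2_cnt_P : Prob 100 7 (grp 100 L3) lt3_c2_cnt_EG [p_g238] [p_g238] lt3_c2_K lt3_c2_cnt_L 0 0 :=
  Sym.prob p_hn p_hk lt3_c2_sym lt3_c2_cnt_EG_ok (grp_cons_le p_g209_V3 (grp_cons_le p_g208_V3 (grp_cons_le H47.J2P.h_a0_V3 (grp_cons_le p_g212_V3 (grp_cons_le p_g217_V3 (grp_nil_le _)))))) (Frames.cons V3_s0_F (Frames.cons V3_s1_F (Frames.cons V3_s3_F Frames.nil))) (okE_cons.2 ⟨p_g238_ok, okE_nil _⟩) _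

noncomputable def lt3_c2_cnt_t : BT := (BT.frm (nat_lit 0) (nat_lit 0) (nat_lit 0) [] (BT.pln (nat_lit 0) (nat_lit 3) (BT.fix (nat_lit 1) (BT.and (nat_lit 1) (nat_lit 0) (BT.frm (nat_lit 1) (nat_lit 4) (nat_lit 4) [nat_lit 0] (BT.pln (nat_lit 0) (nat_lit 14) (BT.and (nat_lit 4) (nat_lit 0) (BT.br (nat_lit 0) (nat_lit 64) [nat_lit 1] (BT.kid (nat_lit 64) (nat_lit 1) (BT.img (nat_lit 1) (nat_lit 0) (BT.one (nat_lit 2) (nat_lit 2308) (nat_lit 2308) [nat_lit 0, nat_lit 1, nat_lit 5])) BT.nil)))))))))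

theorem lt3_c2_cnt : Cnt 100 (grp 100 L3) [p_g238] [p_g238] 0 0 0 0 3 :=
  BT.sound lt3_c2_cnt_P Known.nil (t := lt3_c2_cnt_t) (d := 0) (by decide +kernel)

theorem lt3_c2_ge : 3 ≤ Nat.card (grp 100 lt3_c2_K) :=
  Ch.le_card_grp (k := 7) (L := (lab 100 7)) p_hn lt3_c2_K_ok (c := (Ch.cons (nat_lit 64) [nat_lit 1] Ch.nil)) (by decide +kernel)

theorem lt3_c2_eq : (grp 100 L3) ⊓ Subgroup.centralizer {Net.toPerm 100 p_g238} = grp 100 lt3_c2_K :=
  cent_eq lt3_c2_sym lt3_c2_cnt lt3_c2_ge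

theorem lt3_c2_card : Nat.card ↥((grp 100 L3) ⊓ Subgroup.centralizer {Net.toPerm 100 p_g238}) = 3 :=
  card_cent lt3_c2_sym lt3_c2_cnt lt3_c2_ge

theorem lt3_c2_ord : orderOf (Net.toPerm 100 p_g238) = 3 :=
  orderOf_net p_hn p_hk p_g238_ok (by decide) (ps := [3]) (by set_option linter.unusedSimpArgs false in simp [Nat.primeFactorsList_ofNat]) (by decide +kernel)

theorem p_le241 : grp 100 lt3_c3_K ≤ grp 100 L3o_E0 :=
  grp_le_of_memB p_hn p_hk L3o_E0_ok lt3_c3_K_ok (ws := [nat_lit 259]) (by decide +kernel)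

theorem lt3_c3_le : grp 100 lt3_c3_K ≤ (grp 100 L3) :=
  (p_le241.trans V3_s0.le)

theorem lt3_c3_mem : Net.toPerm 100 p_g240 ∈ (grp 100 L3) :=
  lt3_c3_le (toPerm_mem_grp (E := lt3_c3_K) (List.Mem.head _))

theorem lt3_c3_sym : Sym 100 (grp 100 L3) [p_g240] lt3_c3_K 0 :=
  Sym.of_lab p_hn p_hk (okE_cons.2 ⟨p_g240_ok, okE_nil _⟩) lt3_c3_K_ok lt3_c3_le (kT := 0) (by decide +kernel)

noncomputable def lt3_c3_cnt_L : List ℕ := [0, 7, V3_s0_O, 0, 0, 1, 27, V3_s1_O, 0, 0, 3, 7, V3_s3_O, 1, 0]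

theorem lt3_c3_cnt_P : Prob 100 7 (grp 100 L3) lt3_c3_cnt_EG [p_g240] [p_g240] lt3_c3_K lt3_c3_cnt_L 0 0 :=
  Sym.prob p_hn p_hk lt3_c3_sym lt3_c3_cnt_EG_ok (grp_cons_le p_g209_V3 (grp_cons_le p_g208_V3 (grp_cons_le H47.J2P.h_a0_V3 (grp_cons_le p_g212_V3 (grp_cons_le p_g217_V3 (grp_nil_le _)))))) (Frames.cons V3_s0_F (Frames.cons V3_s1_F (Frames.cons V3_s3_F Frames.nil))) (okE_cons.2 ⟨p_g240_ok, okE_nil _⟩) _

noncomputable def lt3_c3_cnt_t : BT := (BT.frm (nat_lit 0) (nat_lit 0) (nat_lit 0) [] (BT.pln (nat_lit 0) (nat_lit 3) (BT.br (nat_lit 0) (nat_lit 64) [nat_lit 1] (BT.dead (nat_lit 32) (BT.frm (nat_lit 1) (nat_lit 260) (nat_lit 261) [nat_lit 0] (BT.pln (nat_lit 0) (nat_lit 7) (BT.img (nat_lit 1) (nat_lit 2) (BT.and (nat_lit 1) (nat_lit 0) (BT.cnt (nat_lit 0)))))) (BT.kid (nat_lit 64) (nat_lit 1) (BT.img (nat_lit 1) (nat_lit 0) (BT.img (nat_lit 1) (nat_lit 0) (BT.img (nat_lit 1)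 (nat_lit 0) (BT.and (nat_lit 4) (nat_lit 0) (BT.img (nat_lit 1) (nat_lit 0) (BT.and (nat_lit 6) (nat_lit 0) (BT.one (nat_lit 2) (nat_lit 459012) (nat_lit 459012) [nat_lit 0, nat_lit 5, nat_lit 6]))))))) BT.nil)))))

theorem lt3_c3_cnt : Cnt 100 (grp 100 L3) [p_g240] [p_g240] 0 0 0 0 5 :=
  BT.sound lt3_c3_cnt_P Known.nil (t := lt3_c3_cnt_t) (d := 0) (by decide +kernel)

theorem lt3_c3_ge : 5 ≤ Nat.card (grp 100 lt3_c3_K) :=
  Ch.le_card_grp (k := 7) (L := (lab 100 7)) p_hn lt3_c3_K_ok (c := (Ch.cons (nat_lit 64) [nat_lit 1] Ch.nil)) (by decide +kernel)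

theorem lt3_c3_eq : (grp 100 L3) ⊓ Subgroup.centralizer {Net.toPerm 100 p_g240} = grp 100 lt3_c3_K :=
  cent_eq lt3_c3_sym lt3_c3_cnt lt3_c3_ge

theorem lt3_c3_card : Nat.card ↥((grp 100 L3) ⊓ Subgroup.centralizer {Net.toPerm 100 p_g240}) = 5 :=
  card_cent lt3_c3_sym lt3_c3_cnt lt3_c3_ge

theorem lt3_c3_ord : orderOf (Net.toPerm 100 p_g240) = 5 :=
  orderOf_net p_hn p_hk p_g240_ok (by decide) (ps := [5]) (by set_option linter.unusedSimpArgs false in simp [Nat.primeFactorsList_ofNat]) (by decide +kernel)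

theorem p_le243 : grp 100 lt3_c4_K ≤ grp 100 L3o_E0 :=
  grp_le_of_memB p_hn p_hk L3o_E0_ok lt3_c4_K_ok (ws := [nat_lit 261]) (by decide +kernel)

theorem lt3_c4_le : grp 100 lt3_c4_K ≤ (grp 100 L3) :=
  (p_le243.trans V3_s0.le)

theorem lt3_c4_mem : Net.toPerm 100 p_g242 ∈ (grp 100 L3) :=
  lt3_c4_le (toPerm_mem_grp (E := lt3_c4_K) (List.Mem.head _))

theorem lt3_c4_sym : Sym 100 (grp 100 L3) [p_g242] lt3_c4_K 0 :=
  Sym.of_lab p_hn p_hk (okE_cons.2 ⟨p_g242_ok, okE_nil _⟩) lt3_c4_K_ok lt3_c4_le (kT := 0) (by decide +kernel)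

noncomputable def lt3_c4_cnt_L : List ℕ := [0, 7, V3_s0_O, 0, 0, 1, 27, V3_s1_O, 0, 0, 3, 7, V3_s3_O, 1, 0]

theorem lt3_c4_cnt_P : Prob 100 7 (grp 100 L3) lt3_c4_cnt_EG [p_g242] [p_g242] lt3_c4_K lt3_c4_cnt_L 0 0 :=
  Sym.prob p_hn p_hk lt3_c4_sym lt3_c4_cnt_EG_ok (grp_cons_le p_g209_V3 (grp_cons_le p_g208_V3 (grp_cons_le H47.J2P.h_a0_V3 (grp_cons_le p_g212_V3 (grp_cons_le p_g217_V3 (grp_nil_le _)))))) (Frames.cons V3_s0_F (Frames.cons V3_s1_F (Frames.cons V3_s3_F Frames.nil))) (okE_cons.2 ⟨p_g242_ok, okE_nil _⟩) _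

noncomputable def lt3_c4_cnt_t : BT := (BT.frm (nat_lit 0) (nat_lit 0) (nat_lit 0) [] (BT.pln (nat_lit 0) (nat_lit 3) (BT.br (nat_lit 0) (nat_lit 64) [nat_lit 1] (BT.dead (nat_lit 32) (BT.frm (nat_lit 1) (nat_lit 260) (nat_lit 261) [nat_lit 0] (BT.pln (nat_lit 0) (nat_lit 7) (BT.img (nat_lit 1) (nat_lit 2) (BT.and (nat_lit 1) (nat_lit 0) (BT.cnt (nat_lit 0)))))) (BT.kid (nat_lit 64) (nat_lit 1) (BT.img (nat_lit 1) (nat_lit 0) (BT.img (nat_lit 1) (nat_lit 0) (BT.img (nat_lit 1) (nat_lit 0) (BT.and (nat_lit 4) (nat_lit 0) (BT.one (nat_lit 2) (nat_lit 590084) (nat_lit 590084) [nat_lit 0, nat_lit 2, nat_lit 4]))))) BT.nil)))))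

theorem lt3_c4_cnt : Cnt 100 (grp 100 L3) [p_g242] [p_g242] 0 0 0 0 5 :=
  BT.sound lt3_c4_cnt_P Known.nil (t := lt3_c4_cnt_t) (d := 0) (by decide +kernel)

theorem lt3_c4_ge : 5 ≤ Nat.card (grp 100 lt3_c4_K) :=
  Ch.le_card_grp (k := 7) (L := (lab 100 7)) p_hn lt3_c4_K_ok (c := (Ch.cons (nat_lit 64) [nat_lit 1] Ch.nil)) (by decide +kernel)

theorem lt3_c4_eq : (grp 100 L3) ⊓ Subgroup.centralizer {Net.toPerm 100 p_g242} = grp 100 lt3_c4_K :=
  cent_eq lt3_c4_sym lt3_c4_cnt lt3_c4_ge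

theorem lt3_c4_card : Nat.card ↥((grp 100 L3) ⊓ Subgroup.centralizer {Net.toPerm 100 p_g242}) = 5 :=
  card_cent lt3_c4_sym lt3_c4_cnt lt3_c4_ge

theorem lt3_c4_ord : orderOf (Net.toPerm 100 p_g242) = 5 :=
  orderOf_net p_hn p_hk p_g242_ok (by decide) (ps := [5]) (by set_option linter.unusedSimpArgs false in simp [Nat.primeFactorsList_ofNat]) (by decide +kernel)

noncomputable def lt3_xs : List Net := [Net.nil, p_g232, p_g238, p_g240, p_g242]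

noncomputable def lt3_cs : List ℕ := [60, 4, 3, 5, 5]

noncomputable def lt3_os : List ℕ := [1, 2, 3, 5, 5]

theorem lt3_reps : Reps 100 (grp 100 L3) lt3_xs lt3_cs lt3_os :=
  (Reps.cons rfl (one_mem _) (card_cent_nil L3o_card) orderOf_one (Reps.cons p_g232_ok lt3_c1_mem lt3_c1_card lt3_c1_ord (Reps.cons p_g238_ok lt3_c2_mem lt3_c2_card lt3_c2_ord (Reps.cons p_g240_ok lt3_c3_mem lt3_c3_card lt3_c3_ord (Reps.cons p_g242_ok lt3_c4_mem lt3_c4_card lt3_c4_ord Reps.nil)))))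

noncomputable def lt3_nc4_3_cnt_L : List ℕ := [0, 7, V3_s0_O, 0, 0, 1, 27, V3_s1_O, 0, 0]

theorem lt3_nc4_3_cnt_P : Prob 100 7 (grp 100 L3) lt3_nc4_3_cnt_EG [p_g242] [p_g240] lt3_c3_K lt3_nc4_3_cnt_L 0 0 :=
  Sym.prob p_hn p_hk lt3_c3_sym lt3_nc4_3_cnt_EG_ok (grp_cons_le p_g209_V3 (grp_cons_le p_g208_V3 (grp_cons_le H47.J2P.h_a0_V3 (grp_cons_le p_g212_V3 (grp_cons_le p_g217_V3 (grp_nil_le _)))))) (Frames.cons V3_s0_F (Frames.cons V3_s1_F Frames.nil)) (okE_cons.2 ⟨p_g242_ok, okE_nil _⟩) _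

noncomputable def lt3_nc4_3_cnt_t : BT := (BT.frm (nat_lit 0) (nat_lit 0) (nat_lit 0) [] (BT.pln (nat_lit 0) (nat_lit 3) (BT.br (nat_lit 0) (nat_lit 64) [nat_lit 1] (BT.dead (nat_lit 32) (BT.pln (nat_lit 2) (nat_lit 2) (BT.frm (nat_lit 1) (nat_lit 260) (nat_lit 261) [nat_lit 1] (BT.pln (nat_lit 0) (nat_lit 16) (BT.and (nat_lit 2) (nat_lit 0) (BT.pln (nat_lit 2) (nat_lit 20) (BT.and (nat_lit 4) (nat_lit 0) (BT.img (nat_lit 1) (nat_lit 0) (BT.and (nat_lit 3) (nat_lit 0) (BT.img (nat_lit 1) (nat_lit 0) (BT.and (nat_lit 0) (nat_lit 4) (BT.cnt (nat_lit 0)))))))))))) (BT.dead (nat_lit 64) (BT.frm (nat_lit 1) (nat_lit 260) (nat_lit 260) [nat_lit 0] (BT.pln (nat_lit 0) (nat_lit 7) (BT.img (nat_lit 1) (nat_lit 2) (BT.and (nat_lit 1) (nat_lit 0) (BT.cnt (nat_lit 0)))))) BT.nil)))))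

theorem lt3_nc4_3_cnt : Cnt 100 (grp 100 L3) [p_g242] [p_g240] 0 0 0 0 0 :=
  BT.sound lt3_nc4_3_cnt_P Known.nil (t := lt3_nc4_3_cnt_t) (d := 0) (by decide +kernel)

theorem lt3_nc4_3 : ¬ CjIn (grp 100 L3) (Net.toPerm 100 p_g242) (Net.toPerm 100 p_g240) :=
  not_cjIn lt3_nc4_3_cnt

theorem lt3_exc : Exc 100 (grp 100 L3) lt3_xs [4003] :=
  (Exc.cons 4 3 (by decide) lt3_nc4_3 Exc.nil)

theorem lt3 : Table 100 (grp 100 L3) lt3_xs lt3_cs lt3_os :=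
  Reps.table (D := 1) p_hn p_hk lt3_reps lt3_exc L3o_card (by decide +kernel)

theorem j3_G : Net.toPerm 100 p_g244 ∈ (grp 100 H47.J2P.h_E0) :=
  (le_refl (grp 100 H47.J2P.h_E0)) (mem_grp_of_memB p_hn p_hk H47.J2P.h_E0_ok p_g244_ok (w := (nat_lit 0x1917100c0f0212)) (by decide +kernel))

theorem kf3 : ∀ {α : MulAut (grp 100 H47.J2P.h_E0)}, EvG.Ind (grp 100 H47.J2P.h_E0) (Net.toPerm 100 p_g52) α → H62.EV.KF α ((grp 100 L3).subgroupOf (grp 100 H47.J2P.h_E0)) :=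
  fun hα => cmp3.kf hα (m := 2) (by rw [L3o_card]; norm_num) fun a ha ho hd => by
  obtain ⟨i, hi, hc, h1, h2⟩ := lt3.exists ha
  rw [ho] at h1
  rw [h2] at hd
  obtain rfl := (by decide +kernel : ∀ i < lt3_xs.length, 2 = nthN lt3_os i → 2 ^ 2 ∣ nthN lt3_cs i → 1 = i) i hi h1 hd
  exact ⟨_, hc, _, j3_G, EvG.cob_net p_hn p_hk (by decide +kernel)⟩

theorem p_le248 : grp 100 p_V247 ≤ grp 100 L2 :=
  grp_le_of_memB p_hn p_hk L2_ok p_V247_ok (ws := [nat_lit 1]) (by decide +kernel)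

theorem p_le252 : grp 100 p_V251 ≤ grp 100 L2 :=
  grp_le_of_memB p_hn p_hk L2_ok p_V251_ok (ws := [nat_lit 0x20202030204020301, nat_lit 0x3010404010303]) (by decide +kernel)

theorem p_le256 : grp 100 p_V255 ≤ grp 100 p_V251 :=
  grp_le_of_memB p_hn p_hk p_V251_ok p_V255_ok (ws := [nat_lit 0x10301040103, nat_lit 262403, nat_lit 260]) (by decide +kernel)

theorem L2o_card2 : Nat.card (grp 100 L2o_E2) = 1 :=
  card_grp_nil 100

theorem L2o_leO2 : grp 100 L2o_E2 ≤ grp 100 L2 :=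
  grp_nil_le _

theorem L2o_1_fix : grp 100 L2o_E2 ≤ MulAction.stabilizer (Equiv.Perm (Fin 100)) (⟨4, by decide⟩ : Fin 100) :=
  grp_le_stab L2o_E2_ok (by decide : 4 < 100) (by decide +kernel)

noncomputable def L2o_1_ts : List ℕ := [nat_lit 0, nat_lit 1, nat_lit 3, nat_lit 5, nat_lit 6, nat_lit 259, nat_lit 261, nat_lit 262, nat_lit 769, nat_lit 773, nat_lit 774, nat_lit 1281, nat_lit 1285, nat_lit 1537, nat_lit 66305, nat_lit 66309, nat_lit 66310, nat_lit 66817, nat_lit 66821, nat_lit 67073, nat_lit 196870, nat_lit 197893, nat_lit 0x1030106, nat_lit 0x1030505]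

noncomputable def L2o_1_ds : List ℕ := [nat_lit 4, nat_lit 81, nat_lit 22, nat_lit 76, nat_lit 46, nat_lit 77, nat_lit 63, nat_lit 90, nat_lit 50, nat_lit 58, nat_lit 17, nat_lit 89, nat_lit 60, nat_lit 96, nat_lit 33, nat_lit 15, nat_lit 94, nat_lit 84, nat_lit 47, nat_lit 67, nat_lit 78, nat_lit 48, nat_lit 34, nat_lit 29]

theorem L2o_1_dist : Dist 100 L2o_E2 L2o_G1 (⟨4, by decide⟩ : Fin 100) L2o_1_ts L2o_1_ds :=
  dist_of_distB (k := 5) p_hn L2o_E2_ok L2o_G1_ok (by decide : 4 < 100) (by decide +kernel)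

noncomputable def L2o_1_sl0 : SL := (SL.cons (nat_lit 1) (nat_lit 81) Ch.nil [] (SL.cons (nat_lit 3) (nat_lit 22) Ch.nil [] (SL.cons (nat_lit 5) (nat_lit 76) Ch.nil [] (SL.cons (nat_lit 6) (nat_lit 46) Ch.nil [] (SL.cons (nat_lit 259) (nat_lit 77) Ch.nil [] (SL.cons (nat_lit 261) (nat_lit 63) Ch.nil [] (SL.cons (nat_lit 262) (nat_lit 90) Ch.nil [] (SL.cons (nat_lit 769) (nat_lit 50) Ch.nil [] (SL.cons (nat_lit 773) (nat_lit 58) Ch.nil [] (SL.cons (nat_lit 774) (nat_lit 17) Ch.nil [] (SL.cons (nat_lit 1281) (nat_lit 89) Ch.nil [] (SL.cons (nat_lit 1285) (nat_lit 60) Ch.nil [] (SL.cons (nat_lit 1537) (nat_lit 96) Ch.nil [] (SL.cons (nat_lit 66305) (nat_lit 33) Ch.nil [] (SL.cons (nat_lit 66309) (nat_lit 15) Ch.nil [] (SL.cons (nat_lit 66310) (nat_lit 94) Ch.nil [] (SL.cons (nat_lit 66817) (nat_lit 84) Ch.nil [] (SL.cons (nat_lit 66821) (nat_lit 47) Ch.nil [] (SL.cons (nat_lit 67073)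 (nat_lit 67) Ch.nil [] (SL.cons (nat_lit 196870) (nat_lit 78) Ch.nil [] (SL.cons (nat_lit 197893) (nat_lit 48) Ch.nil [] (SL.cons (nat_lit 0x1030106) (nat_lit 34) Ch.nil [] (SL.cons (nat_lit 0x1030505) (nat_lit 29) Ch.nil [] SL.nil)))))))))))))))))))))))

theorem L2o_1_sc0 : SCs 100 L2o_E2 L2o_G1 (⟨4, by decide⟩ : Fin 100) (SL.words L2o_1_sl0) :=
  scs_of_ok p_hn (det_lab p_hk ⊤) L2o_E2_ok L2o_G1_ok le_top le_top (by decide : 4 < 100) L2o_1_fix L2o_card2.le (by decide +kernel)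

noncomputable def L2o_1_l : List ℕ := (appL (SL.words L2o_1_sl0) [])

theorem L2o_1_scs : SCs 100 L2o_E2 L2o_G1 (⟨4, by decide⟩ : Fin 100) L2o_1_l :=
  (SCs.append L2o_1_sc0 SCs.nil)

noncomputable def L2o_1_rl0_0 : RL := (RL.cons (nat_lit 0) (nat_lit 4) (nat_lit 0) (nat_lit 0) (nat_lit 1) (nat_lit 0) (RL.cons (nat_lit 1) (nat_lit 81) (nat_lit 0) (nat_lit 0) (nat_lit 0) (nat_lit 0) (RL.cons (nat_lit 2) (nat_lit 22) (nat_lit 0) (nat_lit 0) (nat_lit 8) (nat_lit 0) (RL.cons (nat_lit 3) (nat_lit 76) (nat_lit 0) (nat_lit 0) (nat_lit 11) (nat_lit 0) (RL.cons (nat_lit 4) (nat_lit 46) (nat_lit 0) (nat_lit 0) (nat_lit 13) (nat_lit 0) (RL.cons (nat_lit 5) (nat_lit 77) (nat_lit 0) (nat_lit 0) (nat_lit 14) (nat_lit 0) (RL.cons (nat_lit 6) (nat_lit 63) (nat_lit 0) (nat_lit 0) (nat_lit 17) (nat_lit 0) (RL.cons (nat_lit 7) (nat_lit 90) (nat_lit 0) (nat_lit 0) (nat_lit 19) (nat_lit 0) (RL.cons (nat_lit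 8) (nat_lit 50) (nat_lit 0) (nat_lit 0) (nat_lit 2) (nat_lit 0) (RL.cons (nat_lit 9) (nat_lit 58) (nat_lit 0) (nat_lit 0) (nat_lit 15) (nat_lit 0) (RL.cons (nat_lit 10) (nat_lit 17) (nat_lit 0) (nat_lit 0) (nat_lit 18) (nat_lit 0) (RL.cons (nat_lit 11) (nat_lit 89) (nat_lit 0) (nat_lit 0) (nat_lit 3) (nat_lit 0) (RL.cons (nat_lit 12) (nat_lit 60) (nat_lit 0) (nat_lit 0) (nat_lit 16) (nat_lit 0) (RL.cons (nat_lit 13) (nat_lit 96) (nat_lit 0) (nat_lit 0) (nat_lit 4) (nat_lit 0) (RL.cons (nat_lit 14) (nat_lit 33) (nat_lit 0) (nat_lit 0) (nat_lit 5) (nat_lit 0) (RL.cons (nat_lit 15) (nat_lit 15) (nat_lit 0) (nat_lit 0) (nat_lit 9) (nat_lit 0) (RL.cons (nat_lit 16) (nat_lit 94) (nat_lit 0) (nat_lit 0) (nat_lit 12) (nat_lit 0) (RL.cons (nat_lit 17) (nat_lit 84) (nat_lit 0) (nat_lit 0) (nat_lit 6) (nat_lit 0) (RL.cons (nat_lit 18) (nat_lit 47) (nat_lit 0) (nat_lit 0) (nat_lit 10) (nat_lit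 0) (RL.cons (nat_lit 19) (nat_lit 67) (nat_lit 0) (nat_lit 0) (nat_lit 7) (nat_lit 0) (RL.cons (nat_lit 20) (nat_lit 78) (nat_lit 0) (nat_lit 0) (nat_lit 23) (nat_lit 0) (RL.cons (nat_lit 21) (nat_lit 48) (nat_lit 0) (nat_lit 0) (nat_lit 22) (nat_lit 0) (RL.cons (nat_lit 22) (nat_lit 34) (nat_lit 0) (nat_lit 0) (nat_lit 21) (nat_lit 0) (RL.cons (nat_lit 23) (nat_lit 29) (nat_lit 0) (nat_lit 0) (nat_lit 20) (nat_lit 0) RL.nil))))))))))))))))))))))))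

theorem L2o_1_good0_0 : GoodSet 100 L2o_E2 L2o_G1 (⟨4, by decide⟩ : Fin 100) L2o_1_ts (nat_lit 1) (RL.pts L2o_1_rl0_0) :=
  goodSet_of_ok p_hn (det_lab p_hk ⊤) L2o_E2_ok L2o_G1_ok le_top le_top (by decide : 4 < 100) (sepAt_lab p_hk _) (by decide +kernel)

theorem L2o_1_step0 : Step 100 L2o_E2 L2o_G1 L2o_1_ts (2 * 0 + 1) :=
  step_of_cover L2o_E2_ok L2o_1_dist (by decide +kernel) L2o_1_scs (by decide +kernel) L2o_1_good0_0 (kw := [])
    (conj_mem_of_scs L2o_E2_ok L2o_G1_ok (by decide : 4 < 100) L2o_1_scs (c := 0) (d := 81) (by decide +kernel)) (by decide +kernel)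

noncomputable def L2o_1_rl1_0 : RL := (RL.cons (nat_lit 0) (nat_lit 4) (nat_lit 0) (nat_lit 0) (nat_lit 2) (nat_lit 0) (RL.cons (nat_lit 1) (nat_lit 81) (nat_lit 0) (nat_lit 0) (nat_lit 5) (nat_lit 0) (RL.cons (nat_lit 2) (nat_lit 22) (nat_lit 0) (nat_lit 0) (nat_lit 0) (nat_lit 0) (RL.cons (nat_lit 3) (nat_lit 76) (nat_lit 0) (nat_lit 0) (nat_lit 10) (nat_lit 0) (RL.cons (nat_lit 4) (nat_lit 46) (nat_lit 0) (nat_lit 0) (nat_lit 9) (nat_lit 0) (RL.cons (nat_lit 5) (nat_lit 77) (nat_lit 0) (nat_lit 0) (nat_lit 1) (nat_lit 0) (RL.cons (nat_lit 6) (nat_lit 63) (nat_lit 0) (nat_lit 0) (nat_lit 16) (nat_lit 0) (RL.cons (nat_lit 7) (nat_lit 90) (nat_lit 0) (nat_lit 0) (nat_lit 15) (nat_lit 0) (RL.cons (nat_lit 8) (nat_lit 50) (nat_lit 0) (nat_lit 0) (nat_lit 14) (nat_lit 0) (RL.cons (nat_lit 9) (nat_lit 58) (nat_lit 0) (nat_lit 0) (nat_lit 4) (nat_lit 0) (RL.cons (nat_lit 10) (nat_lit 17)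 (nat_lit 0) (nat_lit 0) (nat_lit 3) (nat_lit 0) (RL.cons (nat_lit 11) (nat_lit 89) (nat_lit 0) (nat_lit 0) (nat_lit 20) (nat_lit 0) (RL.cons (nat_lit 12) (nat_lit 60) (nat_lit 0) (nat_lit 0) (nat_lit 21) (nat_lit 0) (RL.cons (nat_lit 13) (nat_lit 96) (nat_lit 0) (nat_lit 0) (nat_lit 19) (nat_lit 0) (RL.cons (nat_lit 14) (nat_lit 33) (nat_lit 0) (nat_lit 0) (nat_lit 8) (nat_lit 0) (RL.cons (nat_lit 15) (nat_lit 15) (nat_lit 0) (nat_lit 0) (nat_lit 7) (nat_lit 0) (RL.cons (nat_lit 16) (nat_lit 94) (nat_lit 0) (nat_lit 0) (nat_lit 6) (nat_lit 0) (RL.cons (nat_lit 17) (nat_lit 84) (nat_lit 0) (nat_lit 0) (nat_lit 22) (nat_lit 0) (RL.cons (nat_lit 18) (nat_lit 47) (nat_lit 0) (nat_lit 0) (nat_lit 23) (nat_lit 0) (RL.cons (nat_lit 19) (nat_lit 67) (nat_lit 0) (nat_lit 0) (nat_lit 13) (nat_lit 0) (RL.cons (nat_lit 20) (nat_lit 78) (nat_lit 0) (nat_lit 0) (nat_lit 11) (nat_lit 0) (RL.cons (nat_lit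 21) (nat_lit 48) (nat_lit 0) (nat_lit 0) (nat_lit 12) (nat_lit 0) (RL.cons (nat_lit 22) (nat_lit 34) (nat_lit 0) (nat_lit 0) (nat_lit 17) (nat_lit 0) (RL.cons (nat_lit 23) (nat_lit 29) (nat_lit 0) (nat_lit 0) (nat_lit 18) (nat_lit 0) RL.nil))))))))))))))))))))))))

theorem L2o_1_good1_0 : GoodSet 100 L2o_E2 L2o_G1 (⟨4, by decide⟩ : Fin 100) L2o_1_ts (nat_lit 3) (RL.pts L2o_1_rl1_0) :=
  goodSet_of_ok p_hn (det_lab p_hk ⊤) L2o_E2_ok L2o_G1_ok le_top le_top (by decide : 4 < 100) (sepAt_lab p_hk _) (by decide +kernel)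

theorem L2o_1_step1 : Step 100 L2o_E2 L2o_G1 L2o_1_ts (2 * 1 + 1) :=
  step_of_cover L2o_E2_ok L2o_1_dist (by decide +kernel) L2o_1_scs (by decide +kernel) L2o_1_good1_0 (kw := [])
    (conj_mem_of_scs L2o_E2_ok L2o_G1_ok (by decide : 4 < 100) L2o_1_scs (c := 1) (d := 22) (by decide +kernel)) (by decide +kernel)

noncomputable def L2o_1_rl2_0 : RL := (RL.cons (nat_lit 0) (nat_lit 4) (nat_lit 0) (nat_lit 0) (nat_lit 4) (nat_lit 0) (RL.cons (nat_lit 1) (nat_lit 81) (nat_lit 0) (nat_lit 0) (nat_lit 7) (nat_lit 0) (RL.cons (nat_lit 2) (nat_lit 22) (nat_lit 0) (nat_lit 0) (nat_lit 10) (nat_lit 0) (RL.cons (nat_lit 3) (nat_lit 76) (nat_lit 0) (nat_lit 0) (nat_lit 0) (nat_lit 0) (RL.cons (nat_lit 4) (nat_lit 46) (nat_lit 0) (nat_lit 0) (nat_lit 12) (nat_lit 0) (RL.cons (nat_lit 5) (nat_lit 77) (nat_lit 0) (nat_lit 0) (nat_lit 16) (nat_lit 0) (RL.cons (nat_lit 6) (nat_lit 63) (nat_lit 0) (nat_lit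 0) (nat_lit 1) (nat_lit 0) (RL.cons (nat_lit 7) (nat_lit 90) (nat_lit 0) (nat_lit 0) (nat_lit 18) (nat_lit 0) (RL.cons (nat_lit 8) (nat_lit 50) (nat_lit 0) (nat_lit 0) (nat_lit 20) (nat_lit 0) (RL.cons (nat_lit 9) (nat_lit 58) (nat_lit 0) (nat_lit 0) (nat_lit 2) (nat_lit 0) (RL.cons (nat_lit 10) (nat_lit 17) (nat_lit 0) (nat_lit 0) (nat_lit 21) (nat_lit 0) (RL.cons (nat_lit 11) (nat_lit 89) (nat_lit 0) (nat_lit 0) (nat_lit 14) (nat_lit 0) (RL.cons (nat_lit 12) (nat_lit 60) (nat_lit 0) (nat_lit 0) (nat_lit 3) (nat_lit 0) (RL.cons (nat_lit 13) (nat_lit 96) (nat_lit 0) (nat_lit 0) (nat_lit 17) (nat_lit 0) (RL.cons (nat_lit 14) (nat_lit 33) (nat_lit 0) (nat_lit 0) (nat_lit 22) (nat_lit 0) (RL.cons (nat_lit 15) (nat_lit 15) (nat_lit 0) (nat_lit 0) (nat_lit 5) (nat_lit 0) (RL.cons (nat_lit 16) (nat_lit 94) (nat_lit 0) (nat_lit 0) (nat_lit 23) (nat_lit 0) (RL.cons (nat_lit 17) (nat_lit 84)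 (nat_lit 0) (nat_lit 0) (nat_lit 8) (nat_lit 0) (RL.cons (nat_lit 18) (nat_lit 47) (nat_lit 0) (nat_lit 0) (nat_lit 6) (nat_lit 0) (RL.cons (nat_lit 19) (nat_lit 67) (nat_lit 0) (nat_lit 0) (nat_lit 11) (nat_lit 0) (RL.cons (nat_lit 20) (nat_lit 78) (nat_lit 0) (nat_lit 0) (nat_lit 13) (nat_lit 0) (RL.cons (nat_lit 21) (nat_lit 48) (nat_lit 0) (nat_lit 0) (nat_lit 9) (nat_lit 0) (RL.cons (nat_lit 22) (nat_lit 34) (nat_lit 0) (nat_lit 0) (nat_lit 19) (nat_lit 0) (RL.cons (nat_lit 23) (nat_lit 29) (nat_lit 0) (nat_lit 0) (nat_lit 15) (nat_lit 0) RL.nil))))))))))))))))))))))))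

theorem L2o_1_good2_0 : GoodSet 100 L2o_E2 L2o_G1 (⟨4, by decide⟩ : Fin 100) L2o_1_ts (nat_lit 5) (RL.pts L2o_1_rl2_0) :=
  goodSet_of_ok p_hn (det_lab p_hk ⊤) L2o_E2_ok L2o_G1_ok le_top le_top (by decide : 4 < 100) (sepAt_lab p_hk _) (by decide +kernel)

theorem L2o_1_step2 : Step 100 L2o_E2 L2o_G1 L2o_1_ts (2 * 2 + 1) :=
  step_of_cover L2o_E2_ok L2o_1_dist (by decide +kernel) L2o_1_scs (by decide +kernel) L2o_1_good2_0 (kw := [])
    (conj_mem_of_scs L2o_E2_ok L2o_G1_ok (by decide : 4 < 100) L2o_1_scs (c := 2) (d := 76) (by decide +kernel)) (by decide +kernel)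

theorem L2o_1_lev : grp 100 L2o_G1 ⊓ MulAction.stabilizer (Equiv.Perm (Fin 100)) (⟨4, by decide⟩ : Fin 100) = grp 100 L2o_E2 :=
  sims_level (gs := p_V255) rfl (by decide) L2o_1_fix L2o_1_dist (forall_lt_succ' (forall_lt_succ' (forall_lt_one L2o_1_step0) L2o_1_step1) L2o_1_step2)

theorem L2o_1_cardG : Nat.card (grp 100 L2o_G1) = 24 :=
  card_of_level p_hn L2o_G1_ok (by decide : 4 < 100) L2o_1_lev L2o_card2 (m := 24) (by decide +kernel)

theorem p_le257 : grp 100 L2o_E1 ≤ grp 100 L2o_G1 :=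
  grp_le_of_memB p_hn p_hk L2o_G1_ok L2o_E1_ok (ws := [nat_lit 1, nat_lit 3, nat_lit 5, nat_lit 66309, nat_lit 0x1030106]) (by decide +kernel)

theorem p_le258 : grp 100 L2o_G1 ≤ grp 100 L2o_E1 :=
  grp_le_of_memB p_hn p_hk L2o_E1_ok L2o_G1_ok (ws := [nat_lit 1, nat_lit 3, nat_lit 5]) (by decide +kernel)

theorem L2o_1_eq : grp 100 L2o_E1 = grp 100 L2o_G1 :=
  le_antisymm p_le257 p_le258

theorem L2o_card1 : Nat.card (grp 100 L2o_E1) = 24 :=
  by rw [L2o_1_eq]; exact L2o_1_cardG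

theorem L2o_stab1 : grp 100 L2o_E1 ⊓ MulAction.stabilizer (Equiv.Perm (Fin 100)) (⟨4, by decide⟩ : Fin 100) = grp 100 L2o_E2 :=
  by rw [L2o_1_eq]; exact L2o_1_lev

theorem L2o_leO1 : grp 100 L2o_E1 ≤ grp 100 L2 :=
  L2o_1_eq.le.trans (grp_cons_le ((p_le252.trans (le_refl (grp 100 L2))) (p_le256 (toPerm_mem_grp (E := p_V255) (by simp [p_V255])))) (grp_cons_le ((p_le252.trans (le_refl (grp 100 L2))) (p_le256 (toPerm_mem_grp (E := p_V255) (by simp [p_V255])))) (grp_cons_le ((p_le252.trans (le_refl (grp 100 L2))) (p_le256 (toPerm_mem_grp (E := p_V255) (by simp [p_V255])))) L2o_leO2)))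

theorem L2o_0_fix : grp 100 L2o_E1 ≤ MulAction.stabilizer (Equiv.Perm (Fin 100)) (⟨5, by decide⟩ : Fin 100) :=
  grp_le_stab L2o_E1_ok (by decide : 5 < 100) (by decide +kernel)

noncomputable def L2o_0_ts : List ℕ := [nat_lit 0, nat_lit 1]

noncomputable def L2o_0_ds : List ℕ := [nat_lit 5, nat_lit 41]

theorem L2o_0_dist : Dist 100 L2o_E1 L2o_G0 (⟨5, by decide⟩ : Fin 100) L2o_0_ts L2o_0_ds :=
  dist_of_distB (k := 1) p_hn L2o_E1_ok L2o_G0_ok (by decide : 5 < 100) (by decide +kernel)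

noncomputable def L2o_0_sl0 : SL := (SL.cons (nat_lit 1) (nat_lit 41) (Ch.cons (nat_lit 2) [nat_lit 1, nat_lit 7] Ch.nil) [nat_lit 1285, nat_lit 3] SL.nil)

theorem L2o_0_sc0 : SCs 100 L2o_E1 L2o_G0 (⟨5, by decide⟩ : Fin 100) (SL.words L2o_0_sl0) :=
  scs_of_ok p_hn (det_lab p_hk ⊤) L2o_E1_ok L2o_G0_ok le_top le_top (by decide : 5 < 100) L2o_0_fix L2o_card1.le (by decide +kernel)

noncomputable def L2o_0_l : List ℕ := (appL (SL.words L2o_0_sl0) [])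

theorem L2o_0_scs : SCs 100 L2o_E1 L2o_G0 (⟨5, by decide⟩ : Fin 100) L2o_0_l :=
  (SCs.append L2o_0_sc0 SCs.nil)

noncomputable def L2o_0_rl0_0 : RL := (RL.cons (nat_lit 0) (nat_lit 5) (nat_lit 0) (nat_lit 9) (nat_lit 1) (nat_lit 1290) (RL.cons (nat_lit 1) (nat_lit 41) (nat_lit 0) (nat_lit 0) (nat_lit 0) (nat_lit 0) (RL.cons (nat_lit 1) (nat_lit 91) (nat_lit 3) (nat_lit 0) (nat_lit 1) (nat_lit 775) (RL.cons (nat_lit 1) (nat_lit 62) (nat_lit 774) (nat_lit 769) (nat_lit 1) (nat_lit 263) RL.nil))))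

theorem L2o_0_good0_0 : GoodSet 100 L2o_E1 L2o_G0 (⟨5, by decide⟩ : Fin 100) L2o_0_ts (nat_lit 1) (RL.pts L2o_0_rl0_0) :=
  goodSet_of_ok p_hn (det_lab p_hk ⊤) L2o_E1_ok L2o_G0_ok le_top le_top (by decide : 5 < 100) (sepAt_lab p_hk _) (by decide +kernel)

theorem L2o_0_step0 : Step 100 L2o_E1 L2o_G0 L2o_0_ts (2 * 0 + 1) :=
  step_of_cover L2o_E1_ok L2o_0_dist (by decide +kernel) L2o_0_scs (by decide +kernel) L2o_0_good0_0 (kw := [nat_lit 1, nat_lit 7])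
    (conj_mem_of_scs L2o_E1_ok L2o_G0_ok (by decide : 5 < 100) L2o_0_scs (c := 0) (d := 41) (by decide +kernel)) (by decide +kernel)

theorem L2o_0_lev : grp 100 L2o_G0 ⊓ MulAction.stabilizer (Equiv.Perm (Fin 100)) (⟨5, by decide⟩ : Fin 100) = grp 100 L2o_E1 :=
  sims_level (gs := p_V247) rfl (by decide) L2o_0_fix L2o_0_dist (forall_lt_one L2o_0_step0)

theorem L2o_0_cardG : Nat.card (grp 100 L2o_G0) = 168 :=
  card_of_level p_hn L2o_G0_ok (by decide : 5 < 100) L2o_0_lev L2o_card1 (m := 7) (by decide +kernel)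

theorem p_le259 : grp 100 L2o_E0 ≤ grp 100 L2o_G0 :=
  grp_le_of_memB p_hn p_hk L2o_G0_ok L2o_E0_ok (ws := [nat_lit 1, nat_lit 461825, nat_lit 3, nat_lit 5, nat_lit 7, nat_lit 9, nat_lit 11]) (by decide +kernel)

theorem p_le260 : grp 100 L2o_G0 ≤ grp 100 L2o_E0 :=
  grp_le_of_memB p_hn p_hk L2o_E0_ok L2o_G0_ok (ws := [nat_lit 1, nat_lit 5, nat_lit 7, nat_lit 9, nat_lit 11, nat_lit 13]) (by decide +kernel)

theorem L2o_0_eq : grp 100 L2o_E0 = grp 100 L2o_G0 :=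
  le_antisymm p_le259 p_le260

theorem L2o_card0 : Nat.card (grp 100 L2o_E0) = 168 :=
  by rw [L2o_0_eq]; exact L2o_0_cardG

theorem L2o_stab0 : grp 100 L2o_E0 ⊓ MulAction.stabilizer (Equiv.Perm (Fin 100)) (⟨5, by decide⟩ : Fin 100) = grp 100 L2o_E1 :=
  by rw [L2o_0_eq]; exact L2o_0_lev

theorem L2o_leO0 : grp 100 L2o_E0 ≤ grp 100 L2 :=
  L2o_0_eq.le.trans (grp_cons_le ((le_refl (grp 100 L2)) (p_le248 (toPerm_mem_grp (E := p_V247) (by simp [p_V247])))) L2o_leO1)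

theorem p_le261 : grp 100 L2 ≤ grp 100 L2o_E0 :=
  grp_le_of_memB p_hn p_hk L2o_E0_ok L2_ok (ws := [nat_lit 1, nat_lit 3]) (by decide +kernel)

theorem L2o_eq : grp 100 L2 = grp 100 L2o_E0 :=
  le_antisymm p_le261 L2o_leO0

theorem L2o_card : Nat.card (grp 100 L2) = 168 :=
  by rw [L2o_eq]; exact L2o_card0

noncomputable def L2o_ch : Ch := (Ch.cons (nat_lit 5) [nat_lit 1, nat_lit 3] (Ch.cons (nat_lit 4) [nat_lit 5, nat_lit 7, nat_lit 9, nat_lit 11, nat_lit 13] Ch.nil))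

theorem L2o_exact : Ch.Exact 100 L2o_E0 L2o_ch (grp 100 L2o_E0) :=
  Ch.exact (k := 7) (L := (lab 100 7)) p_hn L2o_E0_ok (by decide +kernel) (wgrp_le_grp _ _ _) L2o_card0.le

theorem p_le262 : grp 100 L2 ≤ grp 100 H47.J2P.h_E0 :=
  grp_le_of_memB p_hn p_hk H47.J2P.h_E0_ok L2_ok (ws := [nat_lit 0x161a0d130107, nat_lit 0x1a0f120813020212]) (by decide +kernel)

theorem L2_G : grp 100 L2 ≤ (grp 100 H47.J2P.h_E0) :=
  (p_le262).trans (le_refl (grp 100 H47.J2P.h_E0))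

theorem L2_n : grp 100 nt_c2_K ≤ Subgroup.normalizer (grp 100 L2 : Set (Equiv.Perm (Fin 100))) :=
  EvG.le_norm p_hn p_hk nt_c2_K_ok L2_ok L2o_E0_ok L2o_eq.ge (W := [[nat_lit 0x90e0203, nat_lit 330241], [nat_lit 0x70501010a, nat_lit 0x50e01010a], [nat_lit 330241, nat_lit 0x70501010a], [nat_lit 461570, nat_lit 918019], [nat_lit 461570, nat_lit 918019]]) (by decide +kernel)

theorem b2_le6 : grp 8 b2_V5 ≤ grp 8 B2_E :=
  grp_le_of_memB b2_hn b2_hk B2_E_ok b2_V5_ok (ws := [nat_lit 0x303030103020302, nat_lit 131587]) (by decide +kernel)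

theorem b2_le9 : grp 8 b2_V8 ≤ grp 8 b2_V5 :=
  grp_le_of_memB b2_hn b2_hk b2_V5_ok b2_V8_ok (ws := [nat_lit 0x20301010301, nat_lit 0x404010404010101]) (by decide +kernel)

theorem B2_lb_le : grp 8 B2_lb_E ≤ grp 8 B2_E :=
  (grp_cons_le ((le_refl (grp 8 B2_E)) (toPerm_mem_grp (E := B2_E) (by simp [B2_E]))) (grp_cons_le ((le_refl (grp 8 B2_E)) (toPerm_mem_grp (E := B2_E) (by simp [B2_E]))) (grp_cons_le ((b2_le6.trans (le_refl (grp 8 B2_E))) (toPerm_mem_grp (E := b2_V5) (by simp [b2_V5]))) (grp_cons_le ((b2_le6.trans (le_refl (grp 8 B2_E))) (toPerm_mem_grp (E := b2_V5) (by simp [b2_V5]))) (grp_cons_le ((b2_le9.trans (b2_le6.trans (le_refl (grp 8 B2_E)))) (toPerm_mem_grp (E := b2_V8) (by simp [b2_V8]))) (grp_cons_le ((b2_le9.trans (b2_le6.trans (le_refl (grp 8 B2_E)))) (toPerm_mem_grp (E := b2_V8) (by simp [b2_V8]))) (grp_nil_le _)))))))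

noncomputable def B2_lb_ch : Ch := (Ch.cons (nat_lit 0) [nat_lit 1, nat_lit 3] (Ch.cons (nat_lit 1) [nat_lit 5, nat_lit 7] (Ch.cons (nat_lit 2) [nat_lit 9, nat_lit 11] Ch.nil)))

theorem B2_lb_chk : Ch.chk 8 3 (lab 8 3) B2_lb_E B2_lb_ch 168 = true :=
  by decide +kernel

theorem B2_lb_ge : 168 ≤ Nat.card (grp 8 B2_E) :=
  (Ch.le_card_grp b2_hn B2_lb_E_ok B2_lb_chk).trans (Subgroup.card_le_of_le B2_lb_le)

noncomputable def B2_M : List ℕ := [(nat_lit 0), (nat_lit 240), (nat_lit 0), (nat_lit 204), (nat_lit 43), (nat_lit 0), (nat_lit 0), (nat_lit 0), (nat_lit 0), (nat_lit 0), (nat_lit 0), (nat_lit 0), (nat_lit 0), (nat_lit 154), (nat_lit 0), (nat_lit 114), (nat_lit 0), (nat_lit 153), (nat_lit 149), (nat_lit 0), (nat_lit 166), (nat_lit 0), (nat_lit 78), (nat_lit 0), (nat_lit 27), (nat_lit 0), (nat_lit 101), (nat_lit 0), (nat_lit 0), (nat_lit 184), (nat_lit 0), (nat_lit 0), (nat_lit 0),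 (nat_lit 102), (nat_lit 201), (nat_lit 0), (nat_lit 89), (nat_lit 0), (nat_lit 0), (nat_lit 0), (nat_lit 0), (nat_lit 0), (nat_lit 0), (nat_lit 0), (nat_lit 0), (nat_lit 106), (nat_lit 85), (nat_lit 150), (nat_lit 54), (nat_lit 0), (nat_lit 45), (nat_lit 0), (nat_lit 0), (nat_lit 0), (nat_lit 0), (nat_lit 0), (nat_lit 135), (nat_lit 0), (nat_lit 225), (nat_lit 0), (nat_lit 172), (nat_lit 53), (nat_lit 0), (nat_lit 163), (nat_lit 0), (nat_lit 0), (nat_lit 0), (nat_lit 30), (nat_lit 195), (nat_lit 120), (nat_lit 0), (nat_lit 0), (nat_lit 0), (nat_lit 0), (nat_lit 0), (nat_lit 15), (nat_lit 210), (nat_lit 105), (nat_lit 212), (nat_lit 0), (nat_lit 0), (nat_lit 71), (nat_lit 0), (nat_lit 0), (nat_lit 83), (nat_lit 228), (nat_lit 0), (nat_lit 0), (nat_lit 0), (nat_lit 177), (nat_lit 141), (nat_lit 0), (nat_lit 0), (nat_lit 202), (nat_lit 92), (nat_lit 0), (nat_lit 170), (nat_lit 60), (nat_lit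 51), (nat_lit 0)]

theorem B2_inj : Function.Injective (cols 100 8 (nthN B2_M)) :=
  cols_injective (by decide +kernel)

theorem B2_acts : List.Forall₂ (fun o o' => Acts (cols 100 8 (nthN B2_M)) (Net.toPerm 100 o) (Net.toPerm 8 o')) L2 B2_E :=
  (List.Forall₂.cons (inc_of_incB p_g245_ok b2_g1_ok (allN_iff.1 (by decide +kernel))).acts_cols (List.Forall₂.cons (inc_of_incB p_g246_ok b2_g2_ok (allN_iff.1 (by decide +kernel))).acts_cols List.Forall₂.nil))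

theorem B2_ex : Nonempty (grp 100 L2 ≃* grp 8 B2_E) :=
  by
  obtain ⟨ρ, -, h⟩ := exists_hom_grp B2_inj B2_acts
  exact ⟨(exists_equiv_of_hom ρ h (injective_of_card_le ρ h (L2o_card.le.trans B2_lb_ge))).choose⟩

theorem B2_card : Nat.card (grp 8 B2_E) = 168 :=
  (Nat.card_congr B2_ex.some.toEquiv).symm.trans L2o_card

theorem B2_eq : grp 8 B2_E = grp 8 B2_lb_E :=
  le_antisymm (grp_mono (List.subset_append_left B2_E [b2_g3, b2_g4, b2_g7, b2_g7])) B2_lb_le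

theorem B2X_s0 : Stab 8 (grp 8 B2_E) [] B2_lb_E 168 :=
  Stab.root' B2_lb_E_ok B2_eq B2_card

theorem B2X_s1 : Stab 8 (grp 8 B2_E) [nat_lit 0] b2_V10 21 :=
  Stab.step (k := 3) (L := (lab 8 3)) b2_hn B2X_s0 b2_V10_ok (grp_mono (List.subset_append_right [b2_g1, b2_g2] _)) (c := (Ch.cons (nat_lit 1) [nat_lit 1, nat_lit 3] (Ch.cons (nat_lit 2) [nat_lit 5, nat_lit 7] Ch.nil))) (by decide +kernel)

theorem B2_prim : PrimAt (grp 8 B2_E) (⟨0, by decide⟩ : Fin 8) :=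
  B2_eq ▸ primAt_of_primB B2_lb_E_ok (by decide) (hw := [nat_lit 5]) (ts := [nat_lit 1]) (by decide +kernel)

theorem B2_simple : IsSimpleGroup (grp 8 B2_E) :=
  isSimpleGroup_grp b2_hn b2_hk B2_E_ok B2_prim (c := 21) (m := 4) B2_card (by norm_num) (by norm_num) (by decide +kernel)

theorem p_le263 : grp 100 Y2 ≤ grp 100 lb_E :=
  grp_le_of_memB p_hn p_hk lb_E_ok Y2_ok (ws := [nat_lit 0x33272923262029011a]) (by decide +kernel)

theorem Y2_le : grp 100 Y2 ≤ (grp 100 EG) :=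
  (p_le263.trans T_s0.le)

theorem Y2_sym : Sym 100 (grp 100 EG) L2 Y2 0 :=
  Sym.of_lab p_hn p_hk L2_ok Y2_ok Y2_le (kT := 0) (by decide +kernel)

noncomputable def Y2_cnt_L : List ℕ := [2, 6, T_s2_O, 0, 0, 3, 14, T_s3_O, 0, 0, 6, 10, T_s6_O, 1, 0]

theorem Y2_cnt_P : Prob 100 7 (grp 100 EG) Y2_cnt_EG L2 L2 Y2 Y2_cnt_L 0 0 :=
  Sym.prob p_hn p_hk Y2_sym Y2_cnt_EG_ok (grp_cons_le p_g1_T (grp_cons_le p_g2_T (grp_cons_le p_g5_T (grp_cons_le p_g6_T (grp_cons_le H47.J2P.h_g45_T (grp_cons_le H47.J2P.h_a0_T (grp_cons_le p_g11_T (grp_cons_le H47.J2P.h_g53_T (grp_cons_le MpJ2.a_T (grp_cons_le H47.J2P.h_g1_T (grp_cons_le H47.J2P.h_a19_T (grp_cons_le H47.J2P.h_a27_T (grp_cons_le H47.J2P.h_g7_T (grp_cons_le H47.J2P.h_g4_T (grp_cons_le H47.J2P.h_a8_T (grp_cons_le H47.J2P.h_g14_T (grp_cons_le H47.J2P.h_g10_T (grp_cons_le H47.J2P.h_g11_T (grp_cons_le H47.J2P.h_g21_T (grp_cons_le H47.J2P.h_g22_T (grp_cons_le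 H47.J2P.h_g17_T (grp_cons_le H47.J2P.h_g18_T (grp_cons_le p_g26_T (grp_cons_le p_g27_T (grp_cons_le p_g28_T (grp_cons_le p_g29_T (grp_nil_le _))))))))))))))))))))))))))) (Frames.cons T_s2_F (Frames.cons T_s3_F (Frames.cons T_s6_F Frames.nil))) L2_ok _

noncomputable def Y2_cnt_t : BT := (BT.fix (nat_lit 771) (BT.fix (nat_lit 257) (BT.and (nat_lit 0) (nat_lit 1) (BT.fix (nat_lit 1) (BT.dif (nat_lit 1) (nat_lit 0) (BT.fix (nat_lit 3) (BT.dif (nat_lit 1) (nat_lit 0) (BT.img (nat_lit 3) (nat_lit 0) (BT.and (nat_lit 7) (nat_lit 0) (BT.img (nat_lit 1) (nat_lit 0) (BT.img (nat_lit 3) (nat_lit 0) (BT.img (nat_lit 1) (nat_lit 0) (BT.br (nat_lit 0) (nat_lit 82) [nat_lit 1] (BT.kid (nat_lit 82) (nat_lit 1) (BT.and (nat_lit 9) (nat_lit 12) (BT.dif (nat_lit 0) (nat_lit 8) (BT.img (nat_lit 3) (nat_lit 0) (BT.and (nat_lit 10) (nat_lit 14) (BT.dif (nat_lit 0) (nat_lit 13) (BT.frm (nat_lit 1) (nat_lit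 0x20d151d) (nat_lit 0x20d151d) [nat_lit 2, nat_lit 0, nat_lit 3] (BT.pln (nat_lit 0) (nat_lit 11) (BT.dif (nat_lit 19) (nat_lit 14) (BT.dif (nat_lit 0) (nat_lit 19) (BT.dif (nat_lit 0) (nat_lit 14) (BT.img (nat_lit 3) (nat_lit 12) (BT.and (nat_lit 22) (nat_lit 0) (BT.img (nat_lit 3) (nat_lit 0) (BT.img (nat_lit 1) (nat_lit 0) (BT.img (nat_lit 1) (nat_lit 0) (BT.img (nat_lit 3) (nat_lit 0) (BT.img (nat_lit 1) (nat_lit 0) (BT.dif (nat_lit 7) (nat_lit 0) (BT.img (nat_lit 3) (nat_lit 2) (BT.img (nat_lit 1) (nat_lit 0) (BT.img (nat_lit 1) (nat_lit 0) (BT.img (nat_lit 1) (nat_lit 0) (BT.dif (nat_lit 4) (nat_lit 0) (BT.dif (nat_lit 0) (nat_lit 20) (BT.img (nat_lit 1) (nat_lit 0) (BT.and (nat_lit 18) (nat_lit 0) (BT.dif (nat_lit 37) (nat_lit 35) (BT.frm (nat_lit 0) (nat_lit 0x20d151d) (nat_lit 0x20d151d) [nat_lit 22, nat_lit 25] (BT.pln (nat_lit 0) (nat_lit 5) (BT.and (nat_lit 2) (nat_lit 0)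 (BT.one (nat_lit 2) (nat_lit 0x3331312f2f020d151d) (nat_lit 0x3331312f2f020d151d) [nat_lit 30, nat_lit 4, nat_lit 0, nat_lit 27, nat_lit 25, nat_lit 28]))))))))))))))))))))))))))))))) BT.nil))))))))))))))

theorem Y2_cnt : Cnt 100 (grp 100 EG) L2 L2 0 0 0 0 2 :=
  BT.sound Y2_cnt_P Known.nil (t := Y2_cnt_t) (d := 0) (by decide +kernel)

theorem Y2_ge : 2 ≤ Nat.card (grp 100 Y2) :=
  Ch.le_card_grp (k := 7) (L := (lab 100 7)) p_hn Y2_ok (c := (Ch.cons (nat_lit 82) [nat_lit 1] Ch.nil)) (by decide +kernel)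

theorem Y2_eq : (grp 100 EG) ⊓ Subgroup.centralizer (grp 100 L2 : Set (Equiv.Perm (Fin 100))) = grp 100 Y2 :=
  cent_grp_eq Y2_sym Y2_cnt Y2_ge

theorem Y2_card : Nat.card (grp 100 Y2) = 2 :=
  (Y2_sym.mem_iff Y2_cnt Y2_ge).1

theorem cmp2 : EvG.Cmp (grp 100 H47.J2P.h_E0) (grp 100 EG) (Net.toPerm 100 p_g36) (grp 100 L2) (grp 100 Y2) :=
  ⟨nt_c2_mem, EvG.sq_net p_hn p_hk (by decide +kernel), L2_G, EvG.le_cent p_hn p_hk (by decide +kernel),
    nt_c2_eq.le.trans L2_n, ⟨2, by rw [nt_c2_card, L2o_card]; norm_num⟩, (have := B2_simple; B2_ex.some.isSimpleGroup),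
    EvG.nab_of (toPerm_mem_grp (E := L2) (List.Mem.head _)) (toPerm_mem_grp (E := L2) (List.Mem.tail _ (List.Mem.head _))) (EvG.ncomm_net (k := 7) p_hn (by decide +kernel)),
    fun _ hy _ h => Y2_eq.le ⟨hy, fun x hx => (h x hx).symm⟩⟩

theorem V2_s0 : Stab 100 (grp 100 L2) [] L2o_E0 168 :=
  Stab.root' L2o_E0_ok L2o_eq L2o_card

theorem p_le267 : grp 100 lt2_c1_K ≤ grp 100 L2o_E0 :=
  grp_le_of_memB p_hn p_hk L2o_E0_ok lt2_c1_K_ok (ws := [nat_lit 852483, nat_lit 658689, nat_lit 328195]) (by decide +kernel)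

theorem lt2_c1_le : grp 100 lt2_c1_K ≤ (grp 100 L2) :=
  (p_le267.trans V2_s0.le)

theorem lt2_c1_mem : Net.toPerm 100 p_g264 ∈ (grp 100 L2) :=
  lt2_c1_le (toPerm_mem_grp (E := lt2_c1_K) (List.Mem.head _))

theorem lt2_c1_sym : Sym 100 (grp 100 L2) [p_g264] lt2_c1_K 0 :=
  Sym.of_lab p_hn p_hk (okE_cons.2 ⟨p_g264_ok, okE_nil _⟩) lt2_c1_K_ok lt2_c1_le (kT := 0) (by decide +kernel)

theorem V2_s1 : Stab 100 (grp 100 L2) [nat_lit 5] p_V268 24 :=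
  Stab.step (k := 7) (L := (lab 100 7)) p_hn V2_s0 p_V268_ok (grp_mono (List.subset_append_right [p_g245, p_g246] _)) (c := (Ch.cons (nat_lit 4) [nat_lit 1, nat_lit 3, nat_lit 5, nat_lit 7, nat_lit 9] Ch.nil)) (by decide +kernel)

theorem p_le272 : grp 100 p_V271 ≤ grp 100 p_V268 :=
  grp_le_of_memB p_hn p_hk p_V268_ok p_V271_ok (ws := [nat_lit 777, nat_lit 263, nat_lit 7]) (by decide +kernel)

theorem V2_s2 : Stab 100 (grp 100 L2) [nat_lit 65, nat_lit 5] p_V271 8 :=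
  Stab.step (k := 7) (L := (lab 100 7)) p_hn V2_s1 p_V271_ok p_le272 (c := (Ch.cons (nat_lit 62) [nat_lit 1] (Ch.cons (nat_lit 91) [nat_lit 3, nat_lit 5] Ch.nil))) (by decide +kernel)

theorem V2_s3 : Stab 100 (grp 100 L2) [nat_lit 62, nat_lit 65, nat_lit 5] p_V273 4 :=
  Stab.step (k := 7) (L := (lab 100 7)) p_hn V2_s2 p_V273_ok (grp_mono (List.subset_append_right [p_g269] _)) (c := (Ch.cons (nat_lit 91) [nat_lit 1, nat_lit 3] Ch.nil)) (by decide +kernel)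

theorem V2_s4 : Stab 100 (grp 100 L2) [nat_lit 91, nat_lit 62, nat_lit 65, nat_lit 5] p_V274 1 :=
  Stab.step (k := 7) (L := (lab 100 7)) p_hn V2_s3 p_V274_ok (grp_mono (List.subset_append_right [p_g270, p_g249] _)) (c := Ch.nil) (by decide +kernel)

theorem p_g245_V2 : Net.toPerm 100 p_g245 ∈ (grp 100 L2) :=
  V2_s0.le (toPerm_mem_grp (E := L2o_E0) (List.Mem.head _))

theorem p_g246_V2 : Net.toPerm 100 p_g246 ∈ (grp 100 L2) :=
  V2_s0.le (toPerm_mem_grp (E := L2o_E0) (List.Mem.tail _ (List.Mem.head _)))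

theorem p_g253_V2 : Net.toPerm 100 p_g253 ∈ (grp 100 L2) :=
  V2_s0.le (toPerm_mem_grp (E := L2o_E0) (List.Mem.tail _ (List.Mem.tail _ (List.Mem.head _))))

theorem H47.J2P.h_g70_V2 : Net.toPerm 100 H47.J2P.h_g70 ∈ (grp 100 L2) :=
  V2_s0.le (toPerm_mem_grp (E := L2o_E0) (List.Mem.tail _ (List.Mem.tail _ (List.Mem.tail _ (List.Mem.head _)))))

theorem p_g254_V2 : Net.toPerm 100 p_g254 ∈ (grp 100 L2) :=
  V2_s0.le (toPerm_mem_grp (E := L2o_E0) (List.Mem.tail _ (List.Mem.tail _ (List.Mem.tail _ (List.Mem.tail _ (List.Mem.head _))))))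

theorem p_g249_V2 : Net.toPerm 100 p_g249 ∈ (grp 100 L2) :=
  V2_s0.le (toPerm_mem_grp (E := L2o_E0) (List.Mem.tail _ (List.Mem.tail _ (List.Mem.tail _ (List.Mem.tail _ (List.Mem.tail _ (List.Mem.head _)))))))

theorem p_g250_V2 : Net.toPerm 100 p_g250 ∈ (grp 100 L2) :=
  V2_s0.le (toPerm_mem_grp (E := L2o_E0) (List.Mem.tail _ (List.Mem.tail _ (List.Mem.tail _ (List.Mem.tail _ (List.Mem.tail _ (List.Mem.tail _ (List.Mem.head _))))))))

theorem p_g270_V2 : Net.toPerm 100 p_g270 ∈ (grp 100 L2) :=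
  V2_s3.le (toPerm_mem_grp (E := p_V273) (List.Mem.head _))

theorem p_g269_V2 : Net.toPerm 100 p_g269 ∈ (grp 100 L2) :=
  V2_s2.le (toPerm_mem_grp (E := p_V271) (List.Mem.head _))

noncomputable def V2_s4_O : ℕ := (nat_lit 0x3333266666ccccd99999333321f07c1f03e0f83e0f83e0f83ee63398c67319ce63398c673184db24d926c93649b64db26d920000000000000000000000020000000002000000000000000000000000040000000000000000080000000000000000000000)

theorem V2_s4_F : Frame 100 (grp 100 L2) 4 8 V2_s4_O 1 1 :=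
  IsBase.frame V2_s4.isBase (by decide +kernel)

noncomputable def V2_s1_O : ℕ := (nat_lit 0x8000000000000000000000000000000004000000800040002000000000000000800080000000000000004000100000200000000000000010000000000040010002010000020200020210000000100000000800000048000200400001000800000010000100000004280000400100008000800080000480001820000180468880000000100404400220000110281800600000810000020100414200a0000000000000000000000020)

theorem V2_s1_F : Frame 100 (grp 100 L2) 1 14 V2_s1_O 0 1 :=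
  Stab.frame p_hn V2_s1 (by decide +kernel)

noncomputable def V2_s0_O : ℕ := (nat_lit 0x80000000000000000000000000000000040000008000400420100020100000080000004800020040000120800c18380009804e8888000440910404430220100110285a81)

theorem V2_s0_F : Frame 100 (grp 100 L2) 0 6 V2_s0_O 0 1 :=
  Stab.frame p_hn V2_s0 (by decide +kernel)

noncomputable def lt2_c1_cnt_L : List ℕ := [0, 6, V2_s0_O, 0, 0, 1, 14, V2_s1_O, 0, 0, 4, 8, V2_s4_O, 1, 0]

theorem lt2_c1_cnt_P : Prob 100 7 (grp 100 L2) lt2_c1_cnt_EG [p_g264] [p_g264] lt2_c1_K lt2_c1_cnt_L 0 0 :=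
  Sym.prob p_hn p_hk lt2_c1_sym lt2_c1_cnt_EG_ok (grp_cons_le p_g245_V2 (grp_cons_le p_g246_V2 (grp_cons_le p_g253_V2 (grp_cons_le H47.J2P.h_g70_V2 (grp_cons_le p_g254_V2 (grp_cons_le p_g249_V2 (grp_cons_le p_g250_V2 (grp_cons_le p_g270_V2 (grp_cons_le p_g269_V2 (grp_nil_le _)))))))))) (Frames.cons V2_s0_F (Frames.cons V2_s1_F (Frames.cons V2_s4_F Frames.nil))) (okE_cons.2 ⟨p_g264_ok, okE_nil _⟩) _

noncomputable def lt2_c1_cnt_t : BT := (BT.frm (nat_lit 0) (nat_lit 0) (nat_lit 0) [] (BT.pln (nat_lit 0) (nat_lit 2) (BT.fix (nat_lit 1) (BT.dif (nat_lit 1) (nat_lit 0) (BT.br (nat_lit 0) (nat_lit 30) [nat_lit 3] (BT.kid (nat_lit 30) (nat_lit 2) (BT.dif (nat_lit 1) (nat_lit 0) (BT.img (nat_lit 1) (nat_lit 1) (BT.dif (nat_lit 1) (nat_lit 0) (BT.br (nat_lit 0) (nat_lit 5) [nat_lit 5] (BT.kid (nat_lit 5) (nat_lit 1) (BT.pln (nat_lit 8) (nat_lit 0) (BT.frm (nat_lit 1) (nat_lit 265) (nat_lit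 265) [nat_lit 5] (BT.pln (nat_lit 0) (nat_lit 9) (BT.and (nat_lit 2) (nat_lit 0) (BT.pln (nat_lit 2) (nat_lit 5) (BT.and (nat_lit 4) (nat_lit 0) (BT.img (nat_lit 1) (nat_lit 2) (BT.and (nat_lit 1) (nat_lit 0) (BT.img (nat_lit 1) (nat_lit 0) (BT.and (nat_lit 5) (nat_lit 0) (BT.one (nat_lit 2) (nat_lit 0x110109) (nat_lit 0x110109) [nat_lit 10, nat_lit 12, nat_lit 0, nat_lit 14]))))))))))) BT.nil))))) BT.nil))))))

theorem lt2_c1_cnt : Cnt 100 (grp 100 L2) [p_g264] [p_g264] 0 0 0 0 8 :=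
  BT.sound lt2_c1_cnt_P Known.nil (t := lt2_c1_cnt_t) (d := 0) (by decide +kernel)

theorem lt2_c1_ge : 8 ≤ Nat.card (grp 100 lt2_c1_K) :=
  Ch.le_card_grp (k := 7) (L := (lab 100 7)) p_hn lt2_c1_K_ok (c := (Ch.cons (nat_lit 30) [nat_lit 1, nat_lit 3] (Ch.cons (nat_lit 5) [nat_lit 5] Ch.nil))) (by decide +kernel)

theorem lt2_c1_eq : (grp 100 L2) ⊓ Subgroup.centralizer {Net.toPerm 100 p_g264} = grp 100 lt2_c1_K :=
  cent_eq lt2_c1_sym lt2_c1_cnt lt2_c1_ge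

theorem lt2_c1_card : Nat.card ↥((grp 100 L2) ⊓ Subgroup.centralizer {Net.toPerm 100 p_g264}) = 8 :=
  card_cent lt2_c1_sym lt2_c1_cnt lt2_c1_ge

theorem lt2_c1_ord : orderOf (Net.toPerm 100 p_g264) = 2 :=
  orderOf_net p_hn p_hk p_g264_ok (by decide) (ps := [2]) (by set_option linter.unusedSimpArgs false in simp [Nat.primeFactorsList_ofNat]) (by decide +kernel)

theorem p_le276 : grp 100 lt2_c2_K ≤ grp 100 L2o_E0 :=
  grp_le_of_memB p_hn p_hk L2o_E0_ok lt2_c2_K_ok (ws := [nat_lit 0x50a0109]) (by decide +kernel)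

theorem lt2_c2_le : grp 100 lt2_c2_K ≤ (grp 100 L2) :=
  (p_le276.trans V2_s0.le)

theorem lt2_c2_mem : Net.toPerm 100 p_g275 ∈ (grp 100 L2) :=
  lt2_c2_le (toPerm_mem_grp (E := lt2_c2_K) (List.Mem.head _))

theorem lt2_c2_sym : Sym 100 (grp 100 L2) [p_g275] lt2_c2_K 0 :=
  Sym.of_lab p_hn p_hk (okE_cons.2 ⟨p_g275_ok, okE_nil _⟩) lt2_c2_K_ok lt2_c2_le (kT := 0) (by decide +kernel)

theorem p_le278 : grp 100 p_V277 ≤ grp 100 p_V268 :=
  grp_le_of_memB p_hn p_hk p_V268_ok p_V277_ok (ws := [nat_lit 261, nat_lit 266]) (by decide +kernel)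

theorem V2_s5 : Stab 100 (grp 100 L2) [nat_lit 40, nat_lit 5] p_V277 6 :=
  Stab.step (k := 7) (L := (lab 100 7)) p_hn V2_s1 p_V277_ok p_le278 (c := (Ch.cons (nat_lit 0) [nat_lit 1] (Ch.cons (nat_lit 65) [nat_lit 3] Ch.nil))) (by decide +kernel)

theorem V2_s6 : Stab 100 (grp 100 L2) [nat_lit 0, nat_lit 40, nat_lit 5] p_V279 2 :=
  Stab.step (k := 7) (L := (lab 100 7)) p_hn V2_s5 p_V279_ok (grp_mono (List.subset_append_right [p_g129] _)) (c := (Ch.cons (nat_lit 65) [nat_lit 1] Ch.nil)) (by decide +kernel)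

theorem V2_s7 : Stab 100 (grp 100 L2) [nat_lit 65, nat_lit 0, nat_lit 40, nat_lit 5] p_V280 1 :=
  Stab.step (k := 7) (L := (lab 100 7)) p_hn V2_s6 p_V280_ok (grp_mono (List.subset_append_right [H47.J2P.h_g83] _)) (c := Ch.nil) (by decide +kernel)

theorem H47.J2P.h_g83_V2 : Net.toPerm 100 H47.J2P.h_g83 ∈ (grp 100 L2) :=
  V2_s6.le (toPerm_mem_grp (E := p_V279) (List.Mem.head _))

theorem p_g129_V2 : Net.toPerm 100 p_g129 ∈ (grp 100 L2) :=
  V2_s5.le (toPerm_mem_grp (E := p_V277) (List.Mem.head _))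

noncomputable def V2_s7_O : ℕ := (nat_lit 0x3333266666ccccd99999333321f07c1f03e0f83e0f83e0f83ee63398c67319ce63398c673184db24d926c93649b64db26d920000000000000000000000020000000000000001000000000000000000000000000000000010000000020000000000000000)

theorem V2_s7_F : Frame 100 (grp 100 L2) 4 8 V2_s7_O 1 1 :=
  IsBase.frame V2_s7.isBase (by decide +kernel)

noncomputable def lt2_c2_cnt_L : List ℕ := [0, 6, V2_s0_O, 0, 0, 1, 14, V2_s1_O, 0, 0, 4, 8, V2_s7_O, 1, 0]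

theorem lt2_c2_cnt_P : Prob 100 7 (grp 100 L2) lt2_c2_cnt_EG [p_g275] [p_g275] lt2_c2_K lt2_c2_cnt_L 0 0 :=
  Sym.prob p_hn p_hk lt2_c2_sym lt2_c2_cnt_EG_ok (grp_cons_le p_g245_V2 (grp_cons_le p_g246_V2 (grp_cons_le p_g253_V2 (grp_cons_le H47.J2P.h_g70_V2 (grp_cons_le p_g254_V2 (grp_cons_le p_g249_V2 (grp_cons_le p_g250_V2 (grp_cons_le H47.J2P.h_g83_V2 (grp_cons_le p_g129_V2 (grp_nil_le _)))))))))) (Frames.cons V2_s0_F (Frames.cons V2_s1_F (Frames.cons V2_s7_F Frames.nil))) (okE_cons.2 ⟨p_g275_ok, okE_nil _⟩) _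

noncomputable def lt2_c2_cnt_t : BT := (BT.frm (nat_lit 0) (nat_lit 0) (nat_lit 0) [] (BT.pln (nat_lit 0) (nat_lit 0) (BT.pln (nat_lit 1) (nat_lit 2) (BT.fix (nat_lit 1) (BT.and (nat_lit 1) (nat_lit 0) (BT.frm (nat_lit 1) (nat_lit 65802) (nat_lit 65802) [nat_lit 0] (BT.pln (nat_lit 0) (nat_lit 9) (BT.and (nat_lit 5) (nat_lit 0) (BT.br (nat_lit 0) (nat_lit 70) [nat_lit 1] (BT.kid (nat_lit 70) (nat_lit 1) (BT.img (nat_lit 1) (nat_lit 0) (BT.pln (nat_lit 9) (nat_lit 3) (BT.and (nat_lit 0) (nat_lit 7) (BT.one (nat_lit 2) (nat_lit 0xf01010a) (nat_lit 0xf01010a) [nat_lit 2, nat_lit 3, nat_lit 0, nat_lit 7])))) BT.nil))))))))))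

theorem lt2_c2_cnt : Cnt 100 (grp 100 L2) [p_g275] [p_g275] 0 0 0 0 3 :=
  BT.sound lt2_c2_cnt_P Known.nil (t := lt2_c2_cnt_t) (d := 0) (by decide +kernel)

theorem lt2_c2_ge : 3 ≤ Nat.card (grp 100 lt2_c2_K) :=
  Ch.le_card_grp (k := 7) (L := (lab 100 7)) p_hn lt2_c2_K_ok (c := (Ch.cons (nat_lit 70) [nat_lit 1] Ch.nil)) (by decide +kernel)

theorem lt2_c2_eq : (grp 100 L2) ⊓ Subgroup.centralizer {Net.toPerm 100 p_g275} = grp 100 lt2_c2_K :=
  cent_eq lt2_c2_sym lt2_c2_cnt lt2_c2_ge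

theorem lt2_c2_card : Nat.card ↥((grp 100 L2) ⊓ Subgroup.centralizer {Net.toPerm 100 p_g275}) = 3 :=
  card_cent lt2_c2_sym lt2_c2_cnt lt2_c2_ge

theorem lt2_c2_ord : orderOf (Net.toPerm 100 p_g275) = 3 :=
  orderOf_net p_hn p_hk p_g275_ok (by decide) (ps := [3]) (by set_option linter.unusedSimpArgs false in simp [Nat.primeFactorsList_ofNat]) (by decide +kernel)

theorem p_le281 : grp 100 lt2_c3_K ≤ grp 100 L2o_E0 :=
  grp_le_of_memB p_hn p_hk L2o_E0_ok lt2_c3_K_ok (ws := [nat_lit 658689]) (by decide +kernel)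

theorem lt2_c3_le : grp 100 lt2_c3_K ≤ (grp 100 L2) :=
  (p_le281.trans V2_s0.le)

theorem lt2_c3_mem : Net.toPerm 100 p_g265 ∈ (grp 100 L2) :=
  lt2_c3_le (toPerm_mem_grp (E := lt2_c3_K) (List.Mem.head _))

theorem lt2_c3_sym : Sym 100 (grp 100 L2) [p_g265] lt2_c3_K 0 :=
  Sym.of_lab p_hn p_hk (okE_cons.2 ⟨p_g265_ok, okE_nil _⟩) lt2_c3_K_ok lt2_c3_le (kT := 0) (by decide +kernel)

theorem p_le284 : grp 100 p_V283 ≤ grp 100 p_V271 :=
  grp_le_of_memB p_hn p_hk p_V271_ok p_V283_ok (ws := [nat_lit 1281]) (by decide +kernel)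

theorem V2_s8 : Stab 100 (grp 100 L2) [nat_lit 9, nat_lit 65, nat_lit 5] p_V283 2 :=
  Stab.step (k := 7) (L := (lab 100 7)) p_hn V2_s2 p_V283_ok p_le284 (c := (Ch.cons (nat_lit 14) [nat_lit 1] Ch.nil)) (by decide +kernel)

theorem V2_s9 : Stab 100 (grp 100 L2) [nat_lit 14, nat_lit 9, nat_lit 65, nat_lit 5] p_V285 1 :=
  Stab.step (k := 7) (L := (lab 100 7)) p_hn V2_s8 p_V285_ok (grp_mono (List.subset_append_right [p_g282] _)) (c := Ch.nil) (by decide +kernel)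

theorem p_g282_V2 : Net.toPerm 100 p_g282 ∈ (grp 100 L2) :=
  V2_s8.le (toPerm_mem_grp (E := p_V283) (List.Mem.head _))

noncomputable def V2_s9_O : ℕ := (nat_lit 0x3333266666ccccd99999333321f07c1f03e0f83e0f83e0f83ee63398c67319ce63398c673184db24d926c93649b64db26d920000000000000000000000020000000002000000000000000000000000000000000000002000000000000000000000004000)

theorem V2_s9_F : Frame 100 (grp 100 L2) 4 8 V2_s9_O 1 1 :=
  IsBase.frame V2_s9.isBase (by decide +kernel)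

noncomputable def V2_s2_O : ℕ := (nat_lit 0x20000000000000000000000000080000000000000000000000000000000040000000000000000000000000400008000800000000000000000000080004000000000000000002000000020000000000000000000000004000020000000000000000100000000800000000000000000000001000000000800010000000000000000000001000000000001800400800000000020002001000000010000000000000000040010002010000000000040020000010000100008000000100000000000042000080000000800000040000100000400000008000000080000400000080000000010001000028000182000000042880000000004106008800000022000000010200100000054004004000000100404000020000010280800040020000140080000002801000000000000000000000000200000000020000000000000000)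

theorem V2_s2_F : Frame 100 (grp 100 L2) 2 26 V2_s2_O 0 1 :=
  Stab.frame p_hn V2_s2 (by decide +kernel)

noncomputable def lt2_c3_cnt_L : List ℕ := [0, 6, V2_s0_O, 0, 0, 2, 26, V2_s2_O, 0, 0, 4, 8, V2_s9_O, 1, 0]

theorem lt2_c3_cnt_P : Prob 100 7 (grp 100 L2) lt2_c3_cnt_EG [p_g265] [p_g265] lt2_c3_K lt2_c3_cnt_L 0 0 :=
  Sym.prob p_hn p_hk lt2_c3_sym lt2_c3_cnt_EG_ok (grp_cons_le p_g253_V2 (grp_cons_le H47.J2P.h_g70_V2 (grp_cons_le p_g254_V2 (grp_cons_le p_g249_V2 (grp_cons_le p_g250_V2 (grp_cons_le p_g245_V2 (grp_cons_le p_g246_V2 (grp_cons_le p_g282_V2 (grp_cons_le p_g269_V2 (grp_cons_le p_g270_V2 (grp_nil_le _))))))))))) (Frames.cons V2_s0_F (Frames.cons V2_s2_F (Frames.cons V2_s9_F Frames.nil))) (okE_cons.2 ⟨p_g265_ok, okE_nil _⟩) _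

noncomputable def lt2_c3_cnt_t : BT := (BT.frm (nat_lit 0) (nat_lit 0) (nat_lit 0) [] (BT.pln (nat_lit 0) (nat_lit 0) (BT.fix (nat_lit 1) (BT.and (nat_lit 1) (nat_lit 0) (BT.pln (nat_lit 3) (nat_lit 2) (BT.and (nat_lit 0) (nat_lit 2) (BT.frm (nat_lit 1) (nat_lit 2316) (nat_lit 2316) [nat_lit 2, nat_lit 0] (BT.pln (nat_lit 0) (nat_lit 10) (BT.and (nat_lit 6) (nat_lit 0) (BT.br (nat_lit 0) (nat_lit 95) [nat_lit 1] (BT.kid (nat_lit 95) (nat_lit 1) (BT.img (nat_lit 1) (nat_lit 0) (BT.one (nat_lit 2) (nat_lit 0x12090c) (nat_lit 0x12090c) [nat_lit 0, nat_lit 1, nat_lit 7, nat_lit 5])) BT.nil)))))))))))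

theorem lt2_c3_cnt : Cnt 100 (grp 100 L2) [p_g265] [p_g265] 0 0 0 0 4 :=
  BT.sound lt2_c3_cnt_P Known.nil (t := lt2_c3_cnt_t) (d := 0) (by decide +kernel)

theorem lt2_c3_ge : 4 ≤ Nat.card (grp 100 lt2_c3_K) :=
  Ch.le_card_grp (k := 7) (L := (lab 100 7)) p_hn lt2_c3_K_ok (c := (Ch.cons (nat_lit 95) [nat_lit 1] Ch.nil)) (by decide +kernel)

theorem lt2_c3_eq : (grp 100 L2) ⊓ Subgroup.centralizer {Net.toPerm 100 p_g265} = grp 100 lt2_c3_K :=
  cent_eq lt2_c3_sym lt2_c3_cnt lt2_c3_ge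

theorem lt2_c3_card : Nat.card ↥((grp 100 L2) ⊓ Subgroup.centralizer {Net.toPerm 100 p_g265}) = 4 :=
  card_cent lt2_c3_sym lt2_c3_cnt lt2_c3_ge

theorem lt2_c3_ord : orderOf (Net.toPerm 100 p_g265) = 4 :=
  orderOf_net p_hn p_hk p_g265_ok (by decide) (ps := [2]) (by set_option linter.unusedSimpArgs false in simp [Nat.primeFactorsList_ofNat]) (by decide +kernel)

theorem p_le287 : grp 100 lt2_c4_K ≤ grp 100 L2o_E0 :=
  grp_le_of_memB p_hn p_hk L2o_E0_ok lt2_c4_K_ok (ws := [nat_lit 65802]) (by decide +kernel)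

theorem lt2_c4_le : grp 100 lt2_c4_K ≤ (grp 100 L2) :=
  (p_le287.trans V2_s0.le)

theorem lt2_c4_mem : Net.toPerm 100 p_g286 ∈ (grp 100 L2) :=
  lt2_c4_le (toPerm_mem_grp (E := lt2_c4_K) (List.Mem.head _))

theorem lt2_c4_sym : Sym 100 (grp 100 L2) [p_g286] lt2_c4_K 0 :=
  Sym.of_lab p_hn p_hk (okE_cons.2 ⟨p_g286_ok, okE_nil _⟩) lt2_c4_K_ok lt2_c4_le (kT := 0) (by decide +kernel)

theorem p_le289 : grp 100 p_V288 ≤ grp 100 p_V268 :=
  grp_le_of_memB p_hn p_hk p_V268_ok p_V288_ok (ws := [nat_lit 7]) (by decide +kernel)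

theorem V2_s10 : Stab 100 (grp 100 L2) [nat_lit 70, nat_lit 5] p_V288 2 :=
  Stab.step (k := 7) (L := (lab 100 7)) p_hn V2_s1 p_V288_ok p_le289 (c := (Ch.cons (nat_lit 91) [nat_lit 1] Ch.nil)) (by decide +kernel)

theorem V2_s11 : Stab 100 (grp 100 L2) [nat_lit 91, nat_lit 70, nat_lit 5] p_V290 1 :=
  Stab.step (k := 7) (L := (lab 100 7)) p_hn V2_s10 p_V290_ok (grp_mono (List.subset_append_right [p_g249] _)) (c := Ch.nil) (by decide +kernel)

noncomputable def V2_s11_O : ℕ := (nat_lit 0x3333266666ccccd99999333321f07c1f03e0f83e0f83e0f83ee63398c67319ce63398c673184db24d926c93649b64db26d92000000000000000000000002000000004000000000000000000080000000000000000000000)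

theorem V2_s11_F : Frame 100 (grp 100 L2) 3 7 V2_s11_O 1 1 :=
  IsBase.frame V2_s11.isBase (by decide +kernel)

noncomputable def lt2_c4_cnt_L : List ℕ := [0, 6, V2_s0_O, 0, 0, 1, 14, V2_s1_O, 0, 0, 3, 7, V2_s11_O, 1, 0]

theorem lt2_c4_cnt_P : Prob 100 7 (grp 100 L2) lt2_c4_cnt_EG [p_g286] [p_g286] lt2_c4_K lt2_c4_cnt_L 0 0 :=
  Sym.prob p_hn p_hk lt2_c4_sym lt2_c4_cnt_EG_ok (grp_cons_le p_g245_V2 (grp_cons_le p_g246_V2 (grp_cons_le p_g253_V2 (grp_cons_le H47.J2P.h_g70_V2 (grp_cons_le p_g254_V2 (grp_cons_le p_g249_V2 (grp_cons_le p_g250_V2 (grp_nil_le _)))))))) (Frames.cons V2_s0_F (Frames.cons V2_s1_F (Frames.cons V2_s11_F Frames.nil))) (okE_cons.2 ⟨p_g286_ok, okE_nil _⟩) _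

noncomputable def lt2_c4_cnt_t : BT := (BT.frm (nat_lit 0) (nat_lit 0) (nat_lit 0) [] (BT.pln (nat_lit 0) (nat_lit 2) (BT.br (nat_lit 0) (nat_lit 30) [nat_lit 1] (BT.kid (nat_lit 30) (nat_lit 1) (BT.img (nat_lit 1) (nat_lit 0) (BT.pln (nat_lit 3) (nat_lit 0) (BT.frm (nat_lit 1) (nat_lit 265) (nat_lit 265) [nat_lit 2] (BT.pln (nat_lit 0) (nat_lit 5) (BT.and (nat_lit 2) (nat_lit 0) (BT.img (nat_lit 1) (nat_lit 0) (BT.and (nat_lit 1) (nat_lit 0) (BT.img (nat_lit 1) (nat_lit 0) (BT.and (nat_lit 6) (nat_lit 0) (BT.one (nat_lit 2) (nat_lit 0xb050d0109) (nat_lit 0xb050d0109) [nat_lit 8, nat_lit 0, nat_lit 9])))))))))) BT.nil))))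

theorem lt2_c4_cnt : Cnt 100 (grp 100 L2) [p_g286] [p_g286] 0 0 0 0 7 :=
  BT.sound lt2_c4_cnt_P Known.nil (t := lt2_c4_cnt_t) (d := 0) (by decide +kernel)

theorem lt2_c4_ge : 7 ≤ Nat.card (grp 100 lt2_c4_K) :=
  Ch.le_card_grp (k := 7) (L := (lab 100 7)) p_hn lt2_c4_K_ok (c := (Ch.cons (nat_lit 30) [nat_lit 1] Ch.nil)) (by decide +kernel)

theorem lt2_c4_eq : (grp 100 L2) ⊓ Subgroup.centralizer {Net.toPerm 100 p_g286} = grp 100 lt2_c4_K :=
  cent_eq lt2_c4_sym lt2_c4_cnt lt2_c4_ge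

theorem lt2_c4_card : Nat.card ↥((grp 100 L2) ⊓ Subgroup.centralizer {Net.toPerm 100 p_g286}) = 7 :=
  card_cent lt2_c4_sym lt2_c4_cnt lt2_c4_ge

theorem lt2_c4_ord : orderOf (Net.toPerm 100 p_g286) = 7 :=
  orderOf_net p_hn p_hk p_g286_ok (by decide) (ps := [7]) (by set_option linter.unusedSimpArgs false in simp [Nat.primeFactorsList_ofNat]) (by decide +kernel)

theorem p_le292 : grp 100 lt2_c5_K ≤ grp 100 L2o_E0 :=
  grp_le_of_memB p_hn p_hk L2o_E0_ok lt2_c5_K_ok (ws := [nat_lit 330497]) (by decide +kernel)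

theorem lt2_c5_le : grp 100 lt2_c5_K ≤ (grp 100 L2) :=
  (p_le292.trans V2_s0.le)

theorem lt2_c5_mem : Net.toPerm 100 p_g291 ∈ (grp 100 L2) :=
  lt2_c5_le (toPerm_mem_grp (E := lt2_c5_K) (List.Mem.head _))

theorem lt2_c5_sym : Sym 100 (grp 100 L2) [p_g291] lt2_c5_K 0 :=
  Sym.of_lab p_hn p_hk (okE_cons.2 ⟨p_g291_ok, okE_nil _⟩) lt2_c5_K_ok lt2_c5_le (kT := 0) (by decide +kernel)

noncomputable def lt2_c5_cnt_L : List ℕ := [0, 6, V2_s0_O, 0, 0, 1, 14, V2_s1_O, 0, 0, 3, 7, V2_s11_O, 1, 0]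

theorem lt2_c5_cnt_P : Prob 100 7 (grp 100 L2) lt2_c5_cnt_EG [p_g291] [p_g291] lt2_c5_K lt2_c5_cnt_L 0 0 :=
  Sym.prob p_hn p_hk lt2_c5_sym lt2_c5_cnt_EG_ok (grp_cons_le p_g245_V2 (grp_cons_le p_g246_V2 (grp_cons_le p_g253_V2 (grp_cons_le H47.J2P.h_g70_V2 (grp_cons_le p_g254_V2 (grp_cons_le p_g249_V2 (grp_cons_le p_g250_V2 (grp_nil_le _)))))))) (Frames.cons V2_s0_F (Frames.cons V2_s1_F (Frames.cons V2_s11_F Frames.nil))) (okE_cons.2 ⟨p_g291_ok, okE_nil _⟩) _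

noncomputable def lt2_c5_cnt_t : BT := (BT.frm (nat_lit 0) (nat_lit 0) (nat_lit 0) [] (BT.pln (nat_lit 0) (nat_lit 2) (BT.br (nat_lit 0) (nat_lit 30) [nat_lit 1] (BT.kid (nat_lit 30) (nat_lit 1) (BT.img (nat_lit 1) (nat_lit 0) (BT.pln (nat_lit 3) (nat_lit 0) (BT.frm (nat_lit 1) (nat_lit 265) (nat_lit 265) [nat_lit 2] (BT.pln (nat_lit 0) (nat_lit 5) (BT.and (nat_lit 2) (nat_lit 0) (BT.img (nat_lit 1) (nat_lit 0) (BT.and (nat_lit 1) (nat_lit 0) (BT.img (nat_lit 1) (nat_lit 0) (BT.and (nat_lit 6) (nat_lit 0) (BT.one (nat_lit 2) (nat_lit 852233) (nat_lit 852233) [nat_lit 8, nat_lit 0, nat_lit 9])))))))))) BT.nil))))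

theorem lt2_c5_cnt : Cnt 100 (grp 100 L2) [p_g291] [p_g291] 0 0 0 0 7 :=
  BT.sound lt2_c5_cnt_P Known.nil (t := lt2_c5_cnt_t) (d := 0) (by decide +kernel)

theorem lt2_c5_ge : 7 ≤ Nat.card (grp 100 lt2_c5_K) :=
  Ch.le_card_grp (k := 7) (L := (lab 100 7)) p_hn lt2_c5_K_ok (c := (Ch.cons (nat_lit 30) [nat_lit 1] Ch.nil)) (by decide +kernel)

theorem lt2_c5_eq : (grp 100 L2) ⊓ Subgroup.centralizer {Net.toPerm 100 p_g291} = grp 100 lt2_c5_K :=
  cent_eq lt2_c5_sym lt2_c5_cnt lt2_c5_ge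

theorem lt2_c5_card : Nat.card ↥((grp 100 L2) ⊓ Subgroup.centralizer {Net.toPerm 100 p_g291}) = 7 :=
  card_cent lt2_c5_sym lt2_c5_cnt lt2_c5_ge

theorem lt2_c5_ord : orderOf (Net.toPerm 100 p_g291) = 7 :=
  orderOf_net p_hn p_hk p_g291_ok (by decide) (ps := [7]) (by set_option linter.unusedSimpArgs false in simp [Nat.primeFactorsList_ofNat]) (by decide +kernel)

noncomputable def lt2_xs : List Net := [Net.nil, p_g264, p_g275, p_g265, p_g286, p_g291]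

noncomputable def lt2_cs : List ℕ := [168, 8, 3, 4, 7, 7]

noncomputable def lt2_os : List ℕ := [1, 2, 3, 4, 7, 7]

theorem lt2_reps : Reps 100 (grp 100 L2) lt2_xs lt2_cs lt2_os :=
  (Reps.cons rfl (one_mem _) (card_cent_nil L2o_card) orderOf_one (Reps.cons p_g264_ok lt2_c1_mem lt2_c1_card lt2_c1_ord (Reps.cons p_g275_ok lt2_c2_mem lt2_c2_card lt2_c2_ord (Reps.cons p_g265_ok lt2_c3_mem lt2_c3_card lt2_c3_ord (Reps.cons p_g286_ok lt2_c4_mem lt2_c4_card lt2_c4_ord (Reps.cons p_g291_ok lt2_c5_mem lt2_c5_card lt2_c5_ord Reps.nil))))))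

noncomputable def lt2_nc5_4_cnt_L : List ℕ := [0, 6, V2_s0_O, 0, 0, 1, 14, V2_s1_O, 0, 0]

theorem lt2_nc5_4_cnt_P : Prob 100 7 (grp 100 L2) lt2_nc5_4_cnt_EG [p_g291] [p_g286] lt2_c4_K lt2_nc5_4_cnt_L 0 0 :=
  Sym.prob p_hn p_hk lt2_c4_sym lt2_nc5_4_cnt_EG_ok (grp_cons_le p_g245_V2 (grp_cons_le p_g246_V2 (grp_cons_le p_g253_V2 (grp_cons_le H47.J2P.h_g70_V2 (grp_cons_le p_g254_V2 (grp_cons_le p_g249_V2 (grp_cons_le p_g250_V2 (grp_nil_le _)))))))) (Frames.cons V2_s0_F (Frames.cons V2_s1_F Frames.nil)) (okE_cons.2 ⟨p_g291_ok, okE_nil _⟩) _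

noncomputable def lt2_nc5_4_cnt_t : BT := (BT.frm (nat_lit 0) (nat_lit 0) (nat_lit 0) [] (BT.pln (nat_lit 0) (nat_lit 2) (BT.br (nat_lit 0) (nat_lit 30) [nat_lit 1] (BT.dead (nat_lit 30) (BT.pln (nat_lit 2) (nat_lit 3) (BT.frm (nat_lit 1) (nat_lit 265) (nat_lit 265) [nat_lit 1] (BT.pln (nat_lit 0) (nat_lit 8) (BT.dif (nat_lit 2) (nat_lit 0) (BT.img (nat_lit 1) (nat_lit 0) (BT.and (nat_lit 1) (nat_lit 0) (BT.img (nat_lit 1) (nat_lit 0) (BT.and (nat_lit 6) (nat_lit 0) (BT.img (nat_lit 1) (nat_lit 0) (BT.and (nat_lit 0) (nat_lit 6) (BT.cnt (nat_lit 0)))))))))))) BT.nil))))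

theorem lt2_nc5_4_cnt : Cnt 100 (grp 100 L2) [p_g291] [p_g286] 0 0 0 0 0 :=
  BT.sound lt2_nc5_4_cnt_P Known.nil (t := lt2_nc5_4_cnt_t) (d := 0) (by decide +kernel)

theorem lt2_nc5_4 : ¬ CjIn (grp 100 L2) (Net.toPerm 100 p_g291) (Net.toPerm 100 p_g286) :=
  not_cjIn lt2_nc5_4_cnt

theorem lt2_exc : Exc 100 (grp 100 L2) lt2_xs [5004] :=
  (Exc.cons 5 4 (by decide) lt2_nc5_4 Exc.nil)

theorem lt2 : Table 100 (grp 100 L2) lt2_xs lt2_cs lt2_os :=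
  Reps.table (D := 1) p_hn p_hk lt2_reps lt2_exc L2o_card (by decide +kernel)

theorem j2_G : Net.toPerm 100 p_g293 ∈ (grp 100 H47.J2P.h_E0) :=
  (le_refl (grp 100 H47.J2P.h_E0)) (mem_grp_of_memB p_hn p_hk H47.J2P.h_E0_ok p_g293_ok (w := (nat_lit 0x15180f11070711010801)) (by decide +kernel))

theorem kf2 : ∀ {α : MulAut (grp 100 H47.J2P.h_E0)}, EvG.Ind (grp 100 H47.J2P.h_E0) (Net.toPerm 100 p_g36) α → H62.EV.KF α ((grp 100 L2).subgroupOf (grp 100 H47.J2P.h_E0)) :=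
  fun hα => cmp2.kf hα (m := 3) (by rw [L2o_card]; norm_num) fun a ha ho hd => by
  obtain ⟨i, hi, hc, h1, h2⟩ := lt2.exists ha
  rw [ho] at h1
  rw [h2] at hd
  obtain rfl := (by decide +kernel : ∀ i < lt2_xs.length, 2 = nthN lt2_os i → 2 ^ 3 ∣ nthN lt2_cs i → 1 = i) i hi h1 hd
  exact ⟨_, hc, _, j2_G, EvG.cob_net p_hn p_hk (by decide +kernel)⟩

theorem Y3_S : grp 100 Y3 ≤ grp 100 ES3 :=
  grp_le_of_memB p_hn p_hk ES3_ok Y3_ok (ws := [nat_lit 259, nat_lit 1]) (by decide +kernel)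

theorem Y3_mem : ∀ y ∈ grp 100 Y3, y = 1 ∨ y = Net.toPerm 100 p_g52 ∨ y = Net.toPerm 100 p_g294 ∨ y = Net.toPerm 100 p_g52 * Net.toPerm 100 p_g294 :=
  fun _ hy => EvG.mem_pair p_hn p_hk (by decide +kernel) (Y3_S hy)

theorem Y3_sq : ∀ y ∈ grp 100 Y3, y * y = 1 :=
  fun _ hy => EvG.sq_pair p_hn p_hk (by decide +kernel) (Y3_S hy)

theorem p_le298 : grp 100 cv3_K ≤ grp 100 lb_E :=
  grp_le_of_memB p_hn p_hk lb_E_ok cv3_K_ok (ws := [nat_lit 0x312d272626200118, nat_lit 0x312525202e, nat_lit 0x332d252022, nat_lit 0x2d2726231f26]) (by decide +kernel)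

theorem cv3_le : grp 100 cv3_K ≤ (grp 100 EG) :=
  (p_le298.trans T_s0.le)

theorem cv3_mem : Net.toPerm 100 p_g294 ∈ (grp 100 EG) :=
  cv3_le (mem_grp_of_memB p_hn p_hk cv3_K_ok p_g294_ok (w := (nat_lit 0x7030101010302)) (by decide +kernel))

theorem cv3_sym : Sym 100 (grp 100 EG) [p_g294] cv3_K 0 :=
  Sym.of_lab p_hn p_hk (okE_cons.2 ⟨p_g294_ok, okE_nil _⟩) cv3_K_ok cv3_le (kT := 0) (by decide +kernel)

noncomputable def cv3_cnt_L : List ℕ := [1, 2, T_s1_O, 0, 0, 2, 6, T_s2_O, 0, 0, 3, 14, T_s3_O, 0, 0, 4, 23, T_s4_O, 0, 0, 5, 33, T_s12_O, 0, 0, 6, 59, T_s13_O, 0, 0, 7, 11, T_s14_O, 1, 0]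

theorem cv3_cnt_P : Prob 100 7 (grp 100 EG) cv3_cnt_EG [p_g294] [p_g294] cv3_K cv3_cnt_L 0 0 :=
  Sym.prob p_hn p_hk cv3_sym cv3_cnt_EG_ok (grp_cons_le MpJ2.a_T (grp_cons_le H47.J2P.h_g1_T (grp_cons_le H47.J2P.h_a19_T (grp_cons_le H47.J2P.h_a27_T (grp_cons_le H47.J2P.h_g7_T (grp_cons_le H47.J2P.h_a0_T (grp_cons_le H47.J2P.h_g4_T (grp_cons_le H47.J2P.h_a8_T (grp_cons_le H47.J2P.h_g14_T (grp_cons_le H47.J2P.h_g10_T (grp_cons_le H47.J2P.h_g11_T (grp_cons_le H47.J2P.h_g21_T (grp_cons_le H47.J2P.h_g22_T (grp_cons_le H47.J2P.h_g17_T (grp_cons_le H47.J2P.h_g18_T (grp_cons_le p_g1_T (grp_cons_le p_g2_T (grp_cons_le p_g5_T (grp_cons_le p_g6_T (grp_cons_le H47.J2P.h_g45_T (grp_cons_le p_g11_T (grp_cons_le H47.J2P.h_g53_T (grp_cons_le p_g26_T (grp_cons_le p_g27_T (grp_cons_le p_g28_T (grp_cons_le p_g29_T (grp_nil_le _))))))))))))))))))))))))))) (Frames.cons T_s1_F (Frames.cons T_s2_F (Frames.cons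 T_s3_F (Frames.cons T_s4_F (Frames.cons T_s12_F (Frames.cons T_s13_F (Frames.cons T_s14_F Frames.nil))))))) (okE_cons.2 ⟨p_g294_ok, okE_nil _⟩) _

noncomputable def cv3_cnt_t : BT := (BT.br (nat_lit 2) (nat_lit 0) [nat_lit 1, nat_lit 5] (BT.dead (nat_lit 2) (BT.frm (nat_lit 0) (nat_lit 0) (nat_lit 276) [nat_lit 0] (BT.pln (nat_lit 0) (nat_lit 1) (BT.img (nat_lit 1) (nat_lit 2) (BT.and (nat_lit 1) (nat_lit 0) (BT.cnt (nat_lit 0)))))) (BT.kid (nat_lit 0) (nat_lit 8) (BT.img (nat_lit 1) (nat_lit 0) (BT.frm (nat_lit 1) (nat_lit 0x1f2627) (nat_lit 0x1f2627) [nat_lit 0, nat_lit 1] (BT.pln (nat_lit 0) (nat_lit 5) (BT.br (nat_lit 0) (nat_lit 47) [nat_lit 3] (BT.dead (nat_lit 54) (BT.dif (nat_lit 1) (nat_lit 0) (BT.img (nat_lit 1) (nat_lit 1) (BT.frm (nat_lit 3) (nat_lit 0x2d1f2627) (nat_lit 0x2f2f2d2d1f2627) [nat_lit 0, nat_lit 2, nat_lit 5, nat_lit 6] (BT.pln (nat_lit 0) (nat_lit 20) (BT.and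 (nat_lit 3) (nat_lit 0) (BT.br (nat_lit 0) (nat_lit 1) [nat_lit 5] (BT.dead (nat_lit 23) (BT.frm (nat_lit 2) (nat_lit 0x2d1f2627) (nat_lit 0x2d2d1f2627) [nat_lit 6, nat_lit 9, nat_lit 10] (BT.pln (nat_lit 0) (nat_lit 7) (BT.frm (nat_lit 4) (nat_lit 0x332d1f2627) (nat_lit 0x332f2f2d2d1f2627) [nat_lit 2, nat_lit 6, nat_lit 8, nat_lit 11, nat_lit 12] (BT.pln (nat_lit 0) (nat_lit 25) (BT.dif (nat_lit 2) (nat_lit 0) (BT.br (nat_lit 0) (nat_lit 17) [] (BT.dead (nat_lit 24) (BT.frm (nat_lit 5) (nat_lit 0x31332d1f2627) (nat_lit 0x31332f2f2d2d1f2627) [nat_lit 0, nat_lit 6, nat_lit 10, nat_lit 12, nat_lit 15, nat_lit 16] (BT.pln (nat_lit 0) (nat_lit 47) (BT.img (nat_lit 1) (nat_lit 2) (BT.and (nat_lit 1) (nat_lit 0) (BT.cnt (nat_lit 0)))))) (BT.dead (nat_lit 4) (BT.frm (nat_lit 5) (nat_lit 0x31332d1f2627) (nat_lit 0x332f2f2d2d1f2627) [nat_lit 0, nat_lit 6, nat_lit 10, nat_lit 12, nat_lit 15,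 nat_lit 16] (BT.pln (nat_lit 0) (nat_lit 47) (BT.img (nat_lit 1) (nat_lit 2) (BT.and (nat_lit 1) (nat_lit 0) (BT.cnt (nat_lit 0)))))) BT.nil)))))))) BT.nil))))))) (BT.dead (nat_lit 1) (BT.frm (nat_lit 2) (nat_lit 0x2d1f2627) (nat_lit 0x2d2f1f2627) [nat_lit 0, nat_lit 3, nat_lit 4] (BT.pln (nat_lit 0) (nat_lit 10) (BT.img (nat_lit 1) (nat_lit 2) (BT.and (nat_lit 1) (nat_lit 0) (BT.cnt (nat_lit 0)))))) (BT.kid (nat_lit 47) (nat_lit 4) (BT.dif (nat_lit 1) (nat_lit 0) (BT.img (nat_lit 1) (nat_lit 1) (BT.frm (nat_lit 3) (nat_lit 0x2d1f2627) (nat_lit 0x2d1f2627) [nat_lit 0, nat_lit 2, nat_lit 5, nat_lit 6] (BT.pln (nat_lit 0) (nat_lit 20) (BT.and (nat_lit 3) (nat_lit 0) (BT.br (nat_lit 0) (nat_lit 1) [nat_lit 5] (BT.kid (nat_lit 1) (nat_lit 2) (BT.frm (nat_lit 2) (nat_lit 0x2d1f2627) (nat_lit 0x2d1f2627) [nat_lit 6, nat_lit 9, nat_lit 10] (BT.pln (nat_lit 0) (nat_lit 7) (BT.frm (nat_lit 4)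 (nat_lit 0x332d1f2627) (nat_lit 0x332d1f2627) [nat_lit 2, nat_lit 6, nat_lit 8, nat_lit 11, nat_lit 12] (BT.pln (nat_lit 0) (nat_lit 25) (BT.dif (nat_lit 2) (nat_lit 0) (BT.br (nat_lit 0) (nat_lit 17) [] (BT.dead (nat_lit 5) (BT.frm (nat_lit 5) (nat_lit 0x31332d1f2627) (nat_lit 0x332d1f2627) [nat_lit 0, nat_lit 6, nat_lit 10, nat_lit 12, nat_lit 15, nat_lit 16] (BT.pln (nat_lit 0) (nat_lit 39) (BT.br (nat_lit 0) (nat_lit 63) [nat_lit 7] (BT.dead (nat_lit 11) (BT.frm (nat_lit 6) (nat_lit 0xb31332d1f2627) (nat_lit 0xb332d1f2627) [nat_lit 0, nat_lit 3, nat_lit 9, nat_lit 13, nat_lit 15, nat_lit 18, nat_lit 19] (BT.pln (nat_lit 0) (nat_lit 10) (BT.img (nat_lit 1) (nat_lit 2) (BT.and (nat_lit 1) (nat_lit 0) (BT.cnt (nat_lit 0)))))) BT.nil)))) (BT.kid (nat_lit 17) (nat_lit 2) (BT.frm (nat_lit 5) (nat_lit 0x31332d1f2627) (nat_lit 0x31332d1f2627) [nat_lit 0, nat_lit 6, nat_lit 10, nat_lit 12,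 nat_lit 15, nat_lit 16] (BT.pln (nat_lit 0) (nat_lit 39) (BT.br (nat_lit 0) (nat_lit 63) [nat_lit 7] (BT.kid (nat_lit 63) (nat_lit 1) (BT.one (nat_lit 6) (nat_lit 0xb31332d1f2627) (nat_lit 0xb31332d1f2627) [nat_lit 0, nat_lit 3, nat_lit 9, nat_lit 13, nat_lit 15, nat_lit 18, nat_lit 19]) BT.nil)))) BT.nil)))))))) BT.nil))))))) BT.nil))))))) BT.nil)))

theorem cv3_cnt : Cnt 100 (grp 100 EG) [p_g294] [p_g294] 0 0 0 0 480 :=
  BT.sound cv3_cnt_P Known.nil (t := cv3_cnt_t) (d := 0) (by decide +kernel)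

theorem cv3_ge : 480 ≤ Nat.card (grp 100 cv3_K) :=
  Ch.le_card_grp (k := 7) (L := (lab 100 7)) p_hn cv3_K_ok (c := (Ch.cons (nat_lit 0) [nat_lit 1] (Ch.cons (nat_lit 47) [nat_lit 3] (Ch.cons (nat_lit 1) [nat_lit 5] (Ch.cons (nat_lit 63) [nat_lit 7] Ch.nil))))) (by decide +kernel)

theorem cv3_eq : (grp 100 EG) ⊓ Subgroup.centralizer {Net.toPerm 100 p_g294} = grp 100 cv3_K :=
  cent_eq cv3_sym cv3_cnt cv3_ge

theorem cv3_card : Nat.card ↥((grp 100 EG) ⊓ Subgroup.centralizer {Net.toPerm 100 p_g294}) = 480 :=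
  card_cent cv3_sym cv3_cnt cv3_ge

theorem cv3_n : grp 100 cv3_K ≤ Subgroup.normalizer (grp 100 L3 : Set (Equiv.Perm (Fin 100))) :=
  EvG.le_norm p_hn p_hk cv3_K_ok L3_ok L3o_E0_ok L3o_eq.ge (W := [[nat_lit 0x9070104, nat_lit 327941], [nat_lit 7, nat_lit 2305], [nat_lit 2309, nat_lit 459013], [nat_lit 327939, nat_lit 1794]]) (by decide +kernel)

theorem p_le303 : grp 100 cw3_K ≤ grp 100 lb_E :=
  grp_le_of_memB p_hn p_hk lb_E_ok cw3_K_ok (ws := [nat_lit 0x332d2729231f22010b, nat_lit 0x2d2729251f29, nat_lit 0x2d2729251f, nat_lit 0x332d2726231f26]) (by decide +kernel)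

theorem cw3_le : grp 100 cw3_K ≤ (grp 100 EG) :=
  (p_le303.trans T_s0.le)

theorem cw3_mem : Net.toPerm 100 p_g230 ∈ (grp 100 EG) :=
  cw3_le (mem_grp_of_memB p_hn p_hk cw3_K_ok p_g230_ok (w := (nat_lit 0x7010104010401)) (by decide +kernel))

theorem cw3_sym : Sym 100 (grp 100 EG) [p_g230] cw3_K 0 :=
  Sym.of_lab p_hn p_hk (okE_cons.2 ⟨p_g230_ok, okE_nil _⟩) cw3_K_ok cw3_le (kT := 0) (by decide +kernel)

noncomputable def cw3_cnt_L : List ℕ := [1, 2, T_s1_O, 0, 0, 2, 6, T_s2_O, 0, 0, 3, 14, T_s3_O, 0, 0, 4, 23, T_s4_O, 0, 0, 5, 33, T_s12_O, 0, 0, 6, 59, T_s13_O, 0, 0, 7, 11, T_s14_O, 1, 0]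

theorem cw3_cnt_P : Prob 100 7 (grp 100 EG) cw3_cnt_EG [p_g230] [p_g230] cw3_K cw3_cnt_L 0 0 :=
  Sym.prob p_hn p_hk cw3_sym cw3_cnt_EG_ok (grp_cons_le MpJ2.a_T (grp_cons_le H47.J2P.h_g1_T (grp_cons_le H47.J2P.h_a19_T (grp_cons_le H47.J2P.h_a27_T (grp_cons_le H47.J2P.h_g7_T (grp_cons_le H47.J2P.h_a0_T (grp_cons_le H47.J2P.h_g4_T (grp_cons_le H47.J2P.h_a8_T (grp_cons_le H47.J2P.h_g14_T (grp_cons_le H47.J2P.h_g10_T (grp_cons_le H47.J2P.h_g11_T (grp_cons_le H47.J2P.h_g21_T (grp_cons_le H47.J2P.h_g22_T (grp_cons_le H47.J2P.h_g17_T (grp_cons_le H47.J2P.h_g18_T (grp_cons_le p_g1_T (grp_cons_le p_g2_T (grp_cons_le p_g5_T (grp_cons_le p_g6_T (grp_cons_le H47.J2P.h_g45_T (grp_cons_le p_g11_T (grp_cons_le H47.J2P.h_g53_T (grp_cons_le p_g26_T (grp_cons_le p_g27_T (grp_cons_le p_g28_T (grp_cons_le p_g29_T (grp_nil_le _))))))))))))))))))))))))))) (Frames.cons T_s1_F (Frames.cons T_s2_F (Frames.cons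 T_s3_F (Frames.cons T_s4_F (Frames.cons T_s12_F (Frames.cons T_s13_F (Frames.cons T_s14_F Frames.nil))))))) (okE_cons.2 ⟨p_g230_ok, okE_nil _⟩) _

noncomputable def cw3_cnt_t : BT := (BT.br (nat_lit 2) (nat_lit 0) [nat_lit 1, nat_lit 3, nat_lit 5] (BT.dead (nat_lit 2) (BT.frm (nat_lit 0) (nat_lit 0) (nat_lit 276) [nat_lit 0] (BT.pln (nat_lit 0) (nat_lit 1) (BT.img (nat_lit 1) (nat_lit 2) (BT.and (nat_lit 1) (nat_lit 0) (BT.cnt (nat_lit 0)))))) (BT.kid (nat_lit 0) (nat_lit 8) (BT.img (nat_lit 1) (nat_lit 0) (BT.frm (nat_lit 1) (nat_lit 8993) (nat_lit 8993) [nat_lit 0, nat_lit 1] (BT.pln (nat_lit 0) (nat_lit 5) (BT.br (nat_lit 0) (nat_lit 84) [nat_lit 3] (BT.dead (nat_lit 65) (BT.dif (nat_lit 1) (nat_lit 0) (BT.img (nat_lit 1) (nat_lit 1) (BT.frm (nat_lit 3) (nat_lit 0x2f2e2321) (nat_lit 0x2f2d2f2321) [nat_lit 0, nat_lit 2, nat_lit 5, nat_lit 6] (BT.pln (nat_lit 0) (nat_lit 20) (BT.and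 (nat_lit 3) (nat_lit 0) (BT.br (nat_lit 0) (nat_lit 20) [nat_lit 1797] (BT.dead (nat_lit 1) (BT.frm (nat_lit 2) (nat_lit 0x2e2321) (nat_lit 0x2d2f2321) [nat_lit 6, nat_lit 9, nat_lit 10] (BT.pln (nat_lit 0) (nat_lit 7) (BT.frm (nat_lit 4) (nat_lit 0x332f2e2321) (nat_lit 0x332f2d2f2321) [nat_lit 2, nat_lit 6, nat_lit 8, nat_lit 11, nat_lit 12] (BT.pln (nat_lit 0) (nat_lit 25) (BT.dif (nat_lit 2) (nat_lit 0) (BT.br (nat_lit 0) (nat_lit 24) [] (BT.dead (nat_lit 4) (BT.frm (nat_lit 5) (nat_lit 0x31332f2e2321) (nat_lit 0x31332f2d2f2321) [nat_lit 0, nat_lit 6, nat_lit 10, nat_lit 12, nat_lit 15, nat_lit 16] (BT.pln (nat_lit 0) (nat_lit 47) (BT.img (nat_lit 1) (nat_lit 2) (BT.and (nat_lit 1) (nat_lit 0) (BT.cnt (nat_lit 0)))))) (BT.dead (nat_lit 17) (BT.frm (nat_lit 5) (nat_lit 0x31332f2e2321) (nat_lit 0x332f2d2f2321) [nat_lit 0, nat_lit 6, nat_lit 10, nat_lit 12, nat_lit 15, nat_lit 16] (BT.pln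 (nat_lit 0) (nat_lit 47) (BT.img (nat_lit 1) (nat_lit 2) (BT.and (nat_lit 1) (nat_lit 0) (BT.cnt (nat_lit 0)))))) BT.nil)))))))) BT.nil))))))) (BT.dead (nat_lit 20) (BT.frm (nat_lit 2) (nat_lit 0x2e2321) (nat_lit 0x2d2d2321) [nat_lit 0, nat_lit 3, nat_lit 4] (BT.pln (nat_lit 0) (nat_lit 10) (BT.img (nat_lit 1) (nat_lit 2) (BT.and (nat_lit 1) (nat_lit 0) (BT.cnt (nat_lit 0)))))) (BT.kid (nat_lit 84) (nat_lit 4) (BT.dif (nat_lit 1) (nat_lit 0) (BT.img (nat_lit 1) (nat_lit 1) (BT.frm (nat_lit 3) (nat_lit 0x2f2e2321) (nat_lit 0x2f2e2321) [nat_lit 0, nat_lit 2, nat_lit 5, nat_lit 6] (BT.pln (nat_lit 0) (nat_lit 20) (BT.and (nat_lit 3) (nat_lit 0) (BT.br (nat_lit 0) (nat_lit 20) [nat_lit 5] (BT.kid (nat_lit 20) (nat_lit 2) (BT.frm (nat_lit 2) (nat_lit 0x2e2321) (nat_lit 0x2e2321) [nat_lit 6, nat_lit 9, nat_lit 10] (BT.pln (nat_lit 0) (nat_lit 7) (BT.frm (nat_lit 4) (nat_lit 0x332f2e2321)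 (nat_lit 0x332f2e2321) [nat_lit 2, nat_lit 6, nat_lit 8, nat_lit 11, nat_lit 12] (BT.pln (nat_lit 0) (nat_lit 25) (BT.dif (nat_lit 2) (nat_lit 0) (BT.br (nat_lit 0) (nat_lit 24) [] (BT.dead (nat_lit 5) (BT.frm (nat_lit 5) (nat_lit 0x31332f2e2321) (nat_lit 0x332f2e2321) [nat_lit 0, nat_lit 6, nat_lit 10, nat_lit 12, nat_lit 15, nat_lit 16] (BT.pln (nat_lit 0) (nat_lit 39) (BT.br (nat_lit 0) (nat_lit 38) [nat_lit 7] (BT.dead (nat_lit 31) (BT.frm (nat_lit 6) (nat_lit 0xb31332f2e2321) (nat_lit 0x332f2e2321) [nat_lit 0, nat_lit 3, nat_lit 9, nat_lit 13, nat_lit 15, nat_lit 18, nat_lit 19] (BT.pln (nat_lit 0) (nat_lit 10) (BT.img (nat_lit 1) (nat_lit 2) (BT.and (nat_lit 1) (nat_lit 0) (BT.cnt (nat_lit 0)))))) BT.nil)))) (BT.kid (nat_lit 24) (nat_lit 2) (BT.frm (nat_lit 5) (nat_lit 0x31332f2e2321) (nat_lit 0x31332f2e2321) [nat_lit 0, nat_lit 6, nat_lit 10, nat_lit 12, nat_lit 15, nat_lit 16]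 (BT.pln (nat_lit 0) (nat_lit 39) (BT.br (nat_lit 0) (nat_lit 38) [nat_lit 7] (BT.kid (nat_lit 38) (nat_lit 1) (BT.one (nat_lit 6) (nat_lit 0xb31332f2e2321) (nat_lit 0xb31332f2e2321) [nat_lit 0, nat_lit 3, nat_lit 9, nat_lit 13, nat_lit 15, nat_lit 18, nat_lit 19]) BT.nil)))) BT.nil)))))))) BT.nil))))))) BT.nil))))))) BT.nil)))

theorem cw3_cnt : Cnt 100 (grp 100 EG) [p_g230] [p_g230] 0 0 0 0 480 :=
  BT.sound cw3_cnt_P Known.nil (t := cw3_cnt_t) (d := 0) (by decide +kernel)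

theorem cw3_ge : 480 ≤ Nat.card (grp 100 cw3_K) :=
  Ch.le_card_grp (k := 7) (L := (lab 100 7)) p_hn cw3_K_ok (c := (Ch.cons (nat_lit 0) [nat_lit 1] (Ch.cons (nat_lit 84) [nat_lit 3] (Ch.cons (nat_lit 20) [nat_lit 5] (Ch.cons (nat_lit 38) [nat_lit 7] Ch.nil))))) (by decide +kernel)

theorem cw3_eq : (grp 100 EG) ⊓ Subgroup.centralizer {Net.toPerm 100 p_g230} = grp 100 cw3_K :=
  cent_eq cw3_sym cw3_cnt cw3_ge

theorem cw3_card : Nat.card ↥((grp 100 EG) ⊓ Subgroup.centralizer {Net.toPerm 100 p_g230}) = 480 :=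
  card_cent cw3_sym cw3_cnt cw3_ge

theorem cw3_n : grp 100 cw3_K ≤ Subgroup.normalizer (grp 100 L3 : Set (Equiv.Perm (Fin 100))) :=
  EvG.le_norm p_hn p_hk cw3_K_ok L3_ok L3o_E0_ok L3o_eq.ge (W := [[nat_lit 2309, nat_lit 1282], [nat_lit 327939, nat_lit 0x9050103], [nat_lit 4, nat_lit 591620], [nat_lit 4, nat_lit 2]]) (by decide +kernel)

theorem ky3 : ∀ {α : MulAut (grp 100 H47.J2P.h_E0)}, EvG.Ind (grp 100 H47.J2P.h_E0) (Net.toPerm 100 p_g52) α → H62.EV.KY' α ((grp 100 L3).subgroupOf (grp 100 H47.J2P.h_E0)) :=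
  fun hα => cmp3.ky' amb hα fun y hy h1 h2 => by
  rcases Y3_mem y hy with rfl | rfl | rfl | rfl
  · exact absurd rfl h1
  · exact absurd rfl h2
  · exact EvG.core_cert amb (cv3_eq.le.trans cv3_n) L3_G (EvG.le_cent p_hn p_hk (by decide +kernel)) (k := 3)
      (by rw [cv3_card, L3o_card]; norm_num)
  · rw [EvG.mul_net (z := p_g230) p_hn p_hk (by decide +kernel)]
    exact EvG.core_cert amb (cw3_eq.le.trans cw3_n) L3_G (EvG.le_cent p_hn p_hk (by decide +kernel)) (k := 3)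
      (by rw [cw3_card, L3o_card]; norm_num)

theorem Y2_U : grp 100 Y2 ≤ grp 100 EU2 :=
  grp_le_of_memB p_hn p_hk EU2_ok Y2_ok (ws := [nat_lit 1]) (by decide +kernel)

theorem Y2_mem : ∀ y ∈ grp 100 Y2, y = 1 ∨ y = Net.toPerm 100 p_g36 :=
  fun _ hy => EvG.mem_single p_hn p_hk (by decide +kernel) (Y2_U hy)

theorem Y2_sq : ∀ y ∈ grp 100 Y2, y * y = 1 :=
  fun y hy => by
  rcases Y2_mem y hy with rfl | rfl
  · exact mul_one _
  · exact cmp2.sq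

theorem ky2 : ∀ {α : MulAut (grp 100 H47.J2P.h_E0)}, EvG.Ind (grp 100 H47.J2P.h_E0) (Net.toPerm 100 p_g36) α → H62.EV.KY' α ((grp 100 L2).subgroupOf (grp 100 H47.J2P.h_E0)) :=
  fun hα => cmp2.ky' amb hα fun y hy h1 h2 => ((Y2_mem y hy).elim h1 h2).elim

theorem u_G_le : grp 100 EG ≤ grp 100 u_G_X :=
  grp_le_of_memB p_hn p_hk u_G_X_ok EG_ok (ws := [nat_lit 0x181c11090d11040d0501, nat_lit 3, nat_lit 5, nat_lit 7, nat_lit 9, nat_lit 0x191914, nat_lit 13, nat_lit 15, nat_lit 17, nat_lit 19, nat_lit 0x1a1b1b12, nat_lit 23, nat_lit 25, nat_lit 27, nat_lit 24]) (by decide +kernel)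

theorem u_G : Net.toPerm 100 p_g36 ∉ (grp 100 H47.J2P.h_E0) :=
  EvG.not_mem_of_card (u_G_le.trans (EvG.grp_cons_le_sup _ (le_refl (grp 100 H47.J2P.h_E0)))) (by rw [H47.J2P.h_card0, card_N]; norm_num)

theorem p_le307 : grp 100 p_V306 ≤ grp 100 E3 :=
  grp_le_of_memB p_hn p_hk E3_ok p_V306_ok (ws := [nat_lit 0x3030103, nat_lit 0x302040101]) (by decide +kernel)

theorem E3lb_le : grp 100 E3lb_E ≤ grp 100 E3 :=
  (grp_cons_le ((le_refl (grp 100 E3)) (toPerm_mem_grp (E := E3) (by simp [E3]))) (grp_cons_le ((le_refl (grp 100 E3)) (toPerm_mem_grp (E := E3) (by simp [E3]))) (grp_cons_le ((p_le307.trans (le_refl (grp 100 E3))) (toPerm_mem_grp (E := p_V306) (by simp [p_V306]))) (grp_cons_le ((p_le307.trans (le_refl (grp 100 E3))) (toPerm_mem_grp (E := p_V306) (by simp [p_V306]))) (grp_nil_le _)))))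

noncomputable def E3lb_ch : Ch := (Ch.cons (nat_lit 1) [nat_lit 1, nat_lit 3] (Ch.cons (nat_lit 2) [nat_lit 5, nat_lit 7] Ch.nil))

theorem E3lb_chk : Ch.chk 100 7 (lab 100 7) E3lb_E E3lb_ch 9 = true :=
  by decide +kernel

theorem E3lb_ge : 9 ≤ Nat.card (grp 100 E3) :=
  (Ch.le_card_grp p_hn E3lb_E_ok E3lb_chk).trans (Subgroup.card_le_of_le E3lb_le)

theorem x3_G : Net.toPerm 100 p_g304 ∈ (grp 100 H47.J2P.h_E0) :=
  (le_refl (grp 100 H47.J2P.h_E0)) (mem_grp_of_memB p_hn p_hk H47.J2P.h_E0_ok p_g304_ok (w := (nat_lit 0x1a170f12070c)) (by decide +kernel))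

theorem y3_G : Net.toPerm 100 p_g305 ∈ (grp 100 H47.J2P.h_E0) :=
  (le_refl (grp 100 H47.J2P.h_E0)) (mem_grp_of_memB p_hn p_hk H47.J2P.h_E0_ok p_g305_ok (w := (nat_lit 0x19170f0808)) (by decide +kernel))

theorem x3_ord : orderOf (Net.toPerm 100 p_g304) = 3 :=
  orderOf_net p_hn p_hk p_g304_ok (by decide) (ps := [3]) (by set_option linter.unusedSimpArgs false in simp [Nat.primeFactorsList_ofNat]) (by decide +kernel)

theorem y3_ord : orderOf (Net.toPerm 100 p_g305) = 3 :=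
  orderOf_net p_hn p_hk p_g305_ok (by decide) (ps := [3]) (by set_option linter.unusedSimpArgs false in simp [Nat.primeFactorsList_ofNat]) (by decide +kernel)

theorem rank3 : ¬ PRankLE 3 1 (grp 100 H47.J2P.h_E0) :=
  EvG.not_rank x3_G y3_G (EvG.comm_net p_hn p_hk (by decide +kernel)) (x3_ord ▸ pow_orderOf_eq_one _) (y3_ord ▸ pow_orderOf_eq_one _)
    (by rw [← EvG.grp_pair]; exact le_trans (by norm_num) E3lb_ge)

theorem s_G : Net.toPerm 100 p_g52 ∈ (grp 100 H47.J2P.h_E0) :=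
  (le_refl (grp 100 H47.J2P.h_E0)) (mem_grp_of_memB p_hn p_hk H47.J2P.h_E0_ok p_g52_ok (w := (nat_lit 0x1819190f110d1203)) (by decide +kernel))

theorem s1_G : Net.toPerm 100 p_g308 ∈ (grp 100 H47.J2P.h_E0) :=
  (le_refl (grp 100 H47.J2P.h_E0)) (mem_grp_of_memB p_hn p_hk H47.J2P.h_E0_ok p_g308_ok (w := (nat_lit 0x1719110709020319)) (by decide +kernel))

theorem B2_out : Nat.card (Cfsg.Out (grp 100 L2)) = 2 :=
  by
  have := cmp2.smp
  have : Fact (Nat.Prime 7) := ⟨by norm_num⟩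
  obtain ⟨e⟩ := S0495.result L2o_card (F := ZMod 7) (ZMod.card 7)
  rw [H62.EV.card_out_congr e, H92.X5.card_out_l2 (p := 7) (f := 1) (by norm_num) le_rfl (by simp) (by norm_num)]
  norm_num

theorem mult : HasCyclicSchurMultiplier (grp 100 H47.J2P.h_E0) 2 :=
  H80.hasSchurMultiplier_congr_left S2040.result H47.eH0

universe u

open Cfsg.Agent.H62.EV EvG

theorem lift {J : Type*} [Group J] [Finite J] {π : J →* (grp 100 H47.J2P.h_E0)} (hπ : Cover π) {x : Net}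
    (h : Net.toPerm 100 x ∈ (grp 100 H47.J2P.h_E0)) (h1 : Net.toPerm 100 x * Net.toPerm 100 x = 1)
    (h2 : (Net.toPerm 100 x).support.card % 8 = 4) : Lift4 π ⟨_, h⟩ :=
  lift4_perm mult (grp 100 H47.J2P.h_E0).subtype (s := ⟨_, h⟩) (Subtype.ext ((pow_two _).trans h1)) h2 hπ

theorem ks0 : KS (grp 100 H47.J2P.h_E0) := amb.ks reps fun t ht α hα L hp => by
  rcases ht with rfl | rfl | rfl
  · exact (amb.no_comp ch1 hα hp.comp).elim
  · obtain rfl := cmp2.eq amb hα hp.comp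
    exact ⟨hα.idx (k := 5) (c := 672) (nt_c2_card ▸ Subgroup.card_dvd_of_le (inf_le_inf_right _ G_le))
      (by norm_num) (by rw [H47.J2P.h_card0]; norm_num), cmp2.cen,
      cmp2.k2 amb hα (by rw [Y2_card]; norm_num) rank3, (ky2 hα).ky, .inl (kf2 hα)⟩
  · obtain rfl := cmp3.eq amb hα hp.comp
    exact ⟨hα.idx (k := 5) (c := 480) (nt_c3_card ▸ Subgroup.card_dvd_of_le (inf_le_inf_right _ G_le))
      (by norm_num) (by rw [H47.J2P.h_card0]; norm_num), cmp3.cen,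
      cmp3.k2 amb hα (by rw [Y3_card]) rank3, (ky3 hα).ky, .inl (kf3 hα)⟩

theorem kc0 : KCU.{u} (grp 100 H47.J2P.h_E0) := amb.kcu reps fun J _ _ π hπ t ht α hα L hp => by
  rcases ht with rfl | rfl | rfl
  · exact (amb.no_comp ch1 hα hp.comp).elim
  · obtain rfl := cmp2.eq amb hα hp.comp
    have h1 : Net.toPerm 100 p_g308 * Net.toPerm 100 p_g308 = 1 := sq_net p_hn p_hk (by decide +kernel)
    exact ⟨kf2 hα, .inr (.inl (cmp2.cb amb hα Y2_sq (ky2 hα) (card_ker_eq mult hπ) s1_G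
      (comm_net p_hn p_hk (by decide +kernel)) h1 (lift hπ s1_G h1 (spin_net p_hn p_hk p_g308_ok (by decide +kernel)))
      (.inr ⟨by rw [B2_out]; norm_num, fun y hy h => (Y2_mem y hy).resolve_right fun e => u_G (e ▸ h)⟩)))⟩
  · obtain rfl := cmp3.eq amb hα hp.comp
    exact ⟨kf3 hα, .inl (cmp3.ca amb hα Y3_sq s_G (lift hπ s_G cmp3.sq
      (spin_net p_hn p_hk p_g52_ok (by decide +kernel))))⟩

theorem ksJ2 : KSFor.{u} (fun S _ => Spor.IsoJ2 S) := fun _ _ _ _ _ ⟨e⟩ =>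
  KS.congr (H47.eH0.symm.trans e.symm) ks0

theorem kcJ2 : KCFor.{u} (fun S _ => Spor.IsoJ2 S) := fun _ _ _ _ _ ⟨e⟩ =>
  KCU.kc (H47.eH0.symm.trans e.symm) kc0

end Cfsg.Agent.H17.EvJ2
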