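import Mathlib
import Cfsg.Agent.H43.Cent
import Cfsg.Agent.H17.EvQ
import Cfsg.Agent.S2062

set_option autoImplicit false
set_option maxRecDepth 200000
set_option linter.style.longLine false

namespace Cfsg.Agent.H17.EvM22

open Cfsg.Agent.H43
open scoped Pointwise

theorem p_hn : NOk 24 := by decide

theorem p_hk : 24 ≤ 2 ^ 5 := by decide

noncomputable def p_g1 : Net := (Net.cons (nat_lit 1) (nat_lit 16640) (Net.cons (nat_lit 2) (nat_lit 0x110200) (Net.cons (nat_lit 4) (nat_lit 655872) (Net.cons (nat_lit 8) (nat_lit 130) (Net.cons (nat_lit 16) (nat_lit 182) (Net.cons (nat_lit 8) (nat_lit 86) (Net.cons (nat_lit 4) (nat_lit 918792) (Net.cons (nat_lit 2) (nat_lit 0x110322) (Net.cons (nat_lit 1) (nat_lit 263444) Net.nil)))))))))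

theorem p_g1_ok : Net.ok 24 p_g1 = true := by decide +kernel

noncomputable def p_g2 : Net := (Net.cons (nat_lit 1) (nat_lit 344384) (Net.cons (nat_lit 2) (nat_lit 0x302210) (Net.cons (nat_lit 4) (nat_lit 525568) (Net.cons (nat_lit 8) (nat_lit 64) (Net.cons (nat_lit 16) (nat_lit 94) (Net.cons (nat_lit 8) (nat_lit 60) (Net.cons (nat_lit 4) (nat_lit 789002) (Net.cons (nat_lit 2) (nat_lit 0x302100) (Net.cons (nat_lit 1) (nat_lit 16704) Net.nil)))))))))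

theorem p_g2_ok : Net.ok 24 p_g2 = true := by decide +kernel

noncomputable def E : List Net := [p_g1, p_g2]

theorem E_ok : okE 24 E = true := (okE_cons.2 ⟨p_g1_ok, (okE_cons.2 ⟨p_g2_ok, (okE_nil 24)⟩)⟩)

noncomputable def p_g3 : Net := (Net.cons (nat_lit 1) (nat_lit 0x145540) (Net.cons (nat_lit 2) (nat_lit 16) (Net.cons (nat_lit 4) (nat_lit 720896) (Net.cons (nat_lit 8) (nat_lit 131) (Net.cons (nat_lit 16) (nat_lit 151) (Net.cons (nat_lit 8) (nat_lit 47) (Net.cons (nat_lit 4) (nat_lit 657676) (Net.cons (nat_lit 2) (nat_lit 0x123320) (Net.cons (nat_lit 1) (nat_lit 263172) Net.nil)))))))))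

theorem p_g3_ok : Net.ok 24 p_g3 = true := by decide +kernel

noncomputable def p_g4 : Net := (Net.cons (nat_lit 1) (nat_lit 5440) (Net.cons (nat_lit 2) (nat_lit 0x203220) (Net.cons (nat_lit 4) (nat_lit 592384) (Net.cons (nat_lit 8) (nat_lit 9) (Net.cons (nat_lit 16) (nat_lit 217) (Net.cons (nat_lit 8) (nat_lit 109) (Net.cons (nat_lit 4) (nat_lit 853768) (Net.cons (nat_lit 2) (nat_lit 0x201130) (Net.cons (nat_lit 1) (nat_lit 65796) Net.nil)))))))))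

theorem p_g4_ok : Net.ok 24 p_g4 = true := by decide +kernel

noncomputable def p_V5 : List Net := [p_g3, p_g4]

theorem p_V5_ok : okE 24 p_V5 = true := (okE_cons.2 ⟨p_g3_ok, (okE_cons.2 ⟨p_g4_ok, (okE_nil 24)⟩)⟩)

noncomputable def p_g7 : Net := (Net.cons (nat_lit 1) (nat_lit 0x401540) (Net.cons (nat_lit 2) (nat_lit 0x222020) (Net.cons (nat_lit 4) (nat_lit 1536) (Net.cons (nat_lit 8) (nat_lit 129) (Net.cons (nat_lit 16) (nat_lit 185) (Net.cons (nat_lit 8) (nat_lit 105) (Net.cons (nat_lit 4) (nat_lit 131840) (Net.cons (nat_lit 2) (nat_lit 0x203220) (Net.cons (nat_lit 1) (nat_lit 0x455510) Net.nil)))))))))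

theorem p_g7_ok : Net.ok 24 p_g7 = true := by decide +kernel

noncomputable def p_g8 : Net := (Net.cons (nat_lit 1) (nat_lit 4352) (Net.cons (nat_lit 2) (nat_lit 0x130000) (Net.cons (nat_lit 4) (nat_lit 852224) (Net.cons (nat_lit 8) (nat_lit 193) (Net.cons (nat_lit 16) (nat_lit 193) (Net.cons (nat_lit 8) (nat_lit 249) (Net.cons (nat_lit 4) (nat_lit 986624) (Net.cons (nat_lit 2) (nat_lit 144128) (Net.cons (nat_lit 1) (nat_lit 86336) Net.nil)))))))))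

theorem p_g8_ok : Net.ok 24 p_g8 = true := by decide +kernel

noncomputable def p_V9 : List Net := [p_g7, p_g8]

theorem p_V9_ok : okE 24 p_V9 = true := (okE_cons.2 ⟨p_g7_ok, (okE_cons.2 ⟨p_g8_ok, (okE_nil 24)⟩)⟩)

noncomputable def p_g11 : Net := (Net.cons (nat_lit 1) (nat_lit 0x144500) (Net.cons (nat_lit 2) (nat_lit 0x102300) (Net.cons (nat_lit 4) (nat_lit 526592) (Net.cons (nat_lit 8) (nat_lit 131) (Net.cons (nat_lit 16) (nat_lit 179) (Net.cons (nat_lit 8) (nat_lit 51) (Net.cons (nat_lit 4) (nat_lit 721408) (Net.cons (nat_lit 2) (nat_lit 73744) (Net.cons (nat_lit 1) (nat_lit 0x104040) Net.nil)))))))))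

theorem p_g11_ok : Net.ok 24 p_g11 = true := by decide +kernel

noncomputable def p_g12 : Net := (Net.cons (nat_lit 1) (nat_lit 0x101040) (Net.cons (nat_lit 2) (nat_lit 0x333300) (Net.cons (nat_lit 4) (nat_lit 131072) (Net.cons (nat_lit 8) (nat_lit 12) (Net.cons (nat_lit 16) (nat_lit 172) (Net.cons (nat_lit 8) (nat_lit 156) (Net.cons (nat_lit 4) (nat_lit 396032) (Net.cons (nat_lit 2) (nat_lit 0x200320) (Net.cons (nat_lit 1) (nat_lit 278864) Net.nil)))))))))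

theorem p_g12_ok : Net.ok 24 p_g12 = true := by decide +kernel

noncomputable def p_g13 : Net := (Net.cons (nat_lit 1) (nat_lit 0x110140) (Net.cons (nat_lit 2) (nat_lit 200960) (Net.cons (nat_lit 4) (nat_lit 264448) (Net.cons (nat_lit 8) (nat_lit 46) (Net.cons (nat_lit 16) (nat_lit 46) (Net.cons (nat_lit 8) (nat_lit 254) (Net.cons (nat_lit 4) (nat_lit 329984) (Net.cons (nat_lit 2) (nat_lit 200960) (Net.cons (nat_lit 1) (nat_lit 0x110140) Net.nil)))))))))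

theorem p_g13_ok : Net.ok 24 p_g13 = true := by decide +kernel

noncomputable def p_V14 : List Net := [p_g11, p_g12, p_g13]

theorem p_V14_ok : okE 24 p_V14 = true := (okE_cons.2 ⟨p_g11_ok, (okE_cons.2 ⟨p_g12_ok, (okE_cons.2 ⟨p_g13_ok, (okE_nil 24)⟩)⟩)⟩)

noncomputable def p_g16 : Net := (Net.cons (nat_lit 1) (nat_lit 0x114000) (Net.cons (nat_lit 2) (nat_lit 0x210000) (Net.cons (nat_lit 4) (nat_lit 327680) (Net.cons (nat_lit 8) (nat_lit 15) (Net.cons (nat_lit 16) (nat_lit 159) (Net.cons (nat_lit 8) (nat_lit 79) (Net.cons (nat_lit 4) (nat_lit 327680) (Net.cons (nat_lit 2) (nat_lit 0x330300) (Net.cons (nat_lit 1) (nat_lit 0x115000) Net.nil)))))))))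

theorem p_g16_ok : Net.ok 24 p_g16 = true := by decide +kernel

noncomputable def p_g17 : Net := (Net.cons (nat_lit 1) (nat_lit 329024) (Net.cons (nat_lit 2) (nat_lit 0x300000) (Net.cons (nat_lit 4) (nat_lit 593152) (Net.cons (nat_lit 8) (nat_lit 9) (Net.cons (nat_lit 16) (nat_lit 9) (Net.cons (nat_lit 8) (nat_lit 217) (Net.cons (nat_lit 4) (nat_lit 855808) (Net.cons (nat_lit 2) (nat_lit 0x320110) (Net.cons (nat_lit 1) (nat_lit 329024) Net.nil)))))))))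

theorem p_g17_ok : Net.ok 24 p_g17 = true := by decide +kernel

noncomputable def p_g18 : Net := (Net.cons (nat_lit 1) (nat_lit 282624) (Net.cons (nat_lit 2) (nat_lit 13056) (Net.cons (nat_lit 4) (nat_lit 918528) (Net.cons (nat_lit 8) (nat_lit 131) (Net.cons (nat_lit 16) (nat_lit 195) (Net.cons (nat_lit 8) (nat_lit 83) (Net.cons (nat_lit 4) (nat_lit 919552) (Net.cons (nat_lit 2) (nat_lit 0x103300) (Net.cons (nat_lit 1) (nat_lit 16704) Net.nil)))))))))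

theorem p_g18_ok : Net.ok 24 p_g18 = true := by decide +kernel

noncomputable def p_g19 : Net := (Net.cons (nat_lit 1) (nat_lit 0x414040) (Net.cons (nat_lit 2) (nat_lit 0x100000) (Net.cons (nat_lit 8) (nat_lit 32) (Net.cons (nat_lit 16) (nat_lit 160) (Net.cons (nat_lit 8) (nat_lit 32) (Net.cons (nat_lit 4) (nat_lit 263424) (Net.cons (nat_lit 2) (nat_lit 0x121310) (Net.cons (nat_lit 1) (nat_lit 0x414040) Net.nil))))))))

theorem p_g19_ok : Net.ok 24 p_g19 = true := by decide +kernel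

noncomputable def p_V20 : List Net := [p_g16, p_g17, p_g18, p_g19]

theorem p_V20_ok : okE 24 p_V20 = true := (okE_cons.2 ⟨p_g16_ok, (okE_cons.2 ⟨p_g17_ok, (okE_cons.2 ⟨p_g18_ok, (okE_cons.2 ⟨p_g19_ok, (okE_nil 24)⟩)⟩)⟩)⟩)

noncomputable def lb_E : List Net := [p_g1, p_g2, p_g3, p_g4, p_g7, p_g8, p_g11, p_g12, p_g13, p_g16, p_g17, p_g18, p_g19]

theorem lb_E_ok : okE 24 lb_E = true := (okE_cons.2 ⟨p_g1_ok, (okE_cons.2 ⟨p_g2_ok, (okE_cons.2 ⟨p_g3_ok, (okE_cons.2 ⟨p_g4_ok, (okE_cons.2 ⟨p_g7_ok, (okE_cons.2 ⟨p_g8_ok, (okE_cons.2 ⟨p_g11_ok, (okE_cons.2 ⟨p_g12_ok, (okE_cons.2 ⟨p_g13_ok, (okE_cons.2 ⟨p_g16_ok, (okE_cons.2 ⟨p_g17_ok, (okE_cons.2 ⟨p_g18_ok, (okE_cons.2 ⟨p_g19_ok, (okE_nil 24)⟩)⟩)⟩)⟩)⟩)⟩)⟩)⟩)⟩)⟩)⟩)⟩)⟩)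

noncomputable def p_g22 : Net := (Net.cons (nat_lit 1) (nat_lit 0x111400) (Net.cons (nat_lit 2) (nat_lit 0x222020) (Net.cons (nat_lit 4) (nat_lit 66304) (Net.cons (nat_lit 8) (nat_lit 228) (Net.cons (nat_lit 16) (nat_lit 231) (Net.cons (nat_lit 8) (nat_lit 148) (Net.cons (nat_lit 4) (nat_lit 591886) (Net.cons (nat_lit 2) (nat_lit 0x321111) (Net.cons (nat_lit 1) (nat_lit 0x450005) Net.nil)))))))))

theorem p_g22_ok : Net.ok 24 p_g22 = true := by decide +kernel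

noncomputable def EG : List Net := [p_g22, p_g1, p_g2]

theorem EG_ok : okE 24 EG = true := (okE_cons.2 ⟨p_g22_ok, (okE_cons.2 ⟨p_g1_ok, (okE_cons.2 ⟨p_g2_ok, (okE_nil 24)⟩)⟩)⟩)

noncomputable def p_V23 : List Net := [p_g22]

theorem p_V23_ok : okE 24 p_V23 = true := (okE_cons.2 ⟨p_g22_ok, (okE_nil 24)⟩)

noncomputable def p_g25 : Net := (Net.cons (nat_lit 1) (nat_lit 0x400440) (Net.cons (nat_lit 2) (nat_lit 0x100000) (Net.cons (nat_lit 4) (nat_lit 395264) (Net.cons (nat_lit 8) (nat_lit 128) (Net.cons (nat_lit 16) (nat_lit 202) (Net.cons (nat_lit 8) (nat_lit 102) (Net.cons (nat_lit 4) (nat_lit 528132) (Net.cons (nat_lit 2) (nat_lit 0x301130) (Net.cons (nat_lit 1) (nat_lit 0x501444) Net.nil)))))))))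

theorem p_g25_ok : Net.ok 24 p_g25 = true := by decide +kernel

noncomputable def p_g26 : Net := (Net.cons (nat_lit 1) (nat_lit 0x150554) (Net.cons (nat_lit 2) (nat_lit 0x200210) (Net.cons (nat_lit 4) (nat_lit 196864) (Net.cons (nat_lit 8) (nat_lit 161) (Net.cons (nat_lit 16) (nat_lit 177) (Net.cons (nat_lit 8) (nat_lit 105) (Net.cons (nat_lit 4) (nat_lit 918534) (Net.cons (nat_lit 2) (nat_lit 0x212002) (Net.cons (nat_lit 1) (nat_lit 5136) Net.nil)))))))))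

theorem p_g26_ok : Net.ok 24 p_g26 = true := by decide +kernel

noncomputable def p_V27 : List Net := [p_g25, p_g26]

theorem p_V27_ok : okE 24 p_V27 = true := (okE_cons.2 ⟨p_g25_ok, (okE_cons.2 ⟨p_g26_ok, (okE_nil 24)⟩)⟩)

noncomputable def p_g29 : Net := (Net.cons (nat_lit 1) (nat_lit 0x410010) (Net.cons (nat_lit 2) (nat_lit 0x332010) (Net.cons (nat_lit 4) (nat_lit 328192) (Net.cons (nat_lit 8) (nat_lit 66) (Net.cons (nat_lit 16) (nat_lit 214) (Net.cons (nat_lit 8) (nat_lit 88) (Net.cons (nat_lit 4) (nat_lit 197390) (Net.cons (nat_lit 2) (nat_lit 0x302310) (Net.cons (nat_lit 1) (nat_lit 0x400104) Net.nil)))))))))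

theorem p_g29_ok : Net.ok 24 p_g29 = true := by decide +kernel

noncomputable def p_V30 : List Net := [p_g29]

theorem p_V30_ok : okE 24 p_V30 = true := (okE_cons.2 ⟨p_g29_ok, (okE_nil 24)⟩)

noncomputable def p_g32 : Net := (Net.cons (nat_lit 1) (nat_lit 0x100010) (Net.cons (nat_lit 2) (nat_lit 0x310000) (Net.cons (nat_lit 4) (nat_lit 134144) (Net.cons (nat_lit 8) (nat_lit 41) (Net.cons (nat_lit 16) (nat_lit 185) (Net.cons (nat_lit 8) (nat_lit 29) (Net.cons (nat_lit 4) (nat_lit 460544) (Net.cons (nat_lit 2) (nat_lit 0x222010) (Net.cons (nat_lit 1) (nat_lit 66880) Net.nil)))))))))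

theorem p_g32_ok : Net.ok 24 p_g32 = true := by decide +kernel

noncomputable def p_g33 : Net := (Net.cons (nat_lit 1) (nat_lit 0x141440) (Net.cons (nat_lit 2) (nat_lit 196608) (Net.cons (nat_lit 4) (nat_lit 657664) (Net.cons (nat_lit 8) (nat_lit 194) (Net.cons (nat_lit 16) (nat_lit 214) (Net.cons (nat_lit 8) (nat_lit 54) (Net.cons (nat_lit 4) (nat_lit 592648) (Net.cons (nat_lit 2) (nat_lit 0x120230) (Net.cons (nat_lit 1) (nat_lit 262160) Net.nil)))))))))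

theorem p_g33_ok : Net.ok 24 p_g33 = true := by decide +kernel

noncomputable def p_V34 : List Net := [p_g32, p_g33]

theorem p_V34_ok : okE 24 p_V34 = true := (okE_cons.2 ⟨p_g32_ok, (okE_cons.2 ⟨p_g33_ok, (okE_nil 24)⟩)⟩)

noncomputable def p_g36 : Net := (Net.cons (nat_lit 1) (nat_lit 0x150500) (Net.cons (nat_lit 2) (nat_lit 0x201300) (Net.cons (nat_lit 4) (nat_lit 658432) (Net.cons (nat_lit 8) (nat_lit 128) (Net.cons (nat_lit 16) (nat_lit 224) (Net.cons (nat_lit 8) (nat_lit 232) (Net.cons (nat_lit 4) (nat_lit 393732) (Net.cons (nat_lit 2) (nat_lit 0x222110) (Net.cons (nat_lit 1) (nat_lit 17748) Net.nil)))))))))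

theorem p_g36_ok : Net.ok 24 p_g36 = true := by decide +kernel

noncomputable def p_V37 : List Net := [p_g36]

theorem p_V37_ok : okE 24 p_V37 = true := (okE_cons.2 ⟨p_g36_ok, (okE_nil 24)⟩)

noncomputable def p_g39 : Net := (Net.cons (nat_lit 1) (nat_lit 0x501010) (Net.cons (nat_lit 2) (nat_lit 8480) (Net.cons (nat_lit 4) (nat_lit 592128) (Net.cons (nat_lit 8) (nat_lit 129) (Net.cons (nat_lit 16) (nat_lit 169) (Net.cons (nat_lit 8) (nat_lit 209) (Net.cons (nat_lit 4) (nat_lit 268) (Net.cons (nat_lit 2) (nat_lit 208896) (Net.cons (nat_lit 1) (nat_lit 0x550154) Net.nil)))))))))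

theorem p_g39_ok : Net.ok 24 p_g39 = true := by decide +kernel

noncomputable def p_V40 : List Net := [p_g33, p_g39]

theorem p_V40_ok : okE 24 p_V40 = true := (okE_cons.2 ⟨p_g33_ok, (okE_cons.2 ⟨p_g39_ok, (okE_nil 24)⟩)⟩)

noncomputable def p_g42 : Net := (Net.cons (nat_lit 1) (nat_lit 21504) (Net.cons (nat_lit 2) (nat_lit 208896) (Net.cons (nat_lit 4) (nat_lit 265728) (Net.cons (nat_lit 8) (nat_lit 6) (Net.cons (nat_lit 16) (nat_lit 86) (Net.cons (nat_lit 8) (nat_lit 46) (Net.cons (nat_lit 4) (nat_lit 133644) (Net.cons (nat_lit 2) (nat_lit 4624) (Net.cons (nat_lit 1) (nat_lit 345412) Net.nil)))))))))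

theorem p_g42_ok : Net.ok 24 p_g42 = true := by decide +kernel

noncomputable def p_V43 : List Net := [p_g42]

theorem p_V43_ok : okE 24 p_V43 = true := (okE_cons.2 ⟨p_g42_ok, (okE_nil 24)⟩)

noncomputable def p_g45 : Net := (Net.cons (nat_lit 1) (nat_lit 0x100050) (Net.cons (nat_lit 2) (nat_lit 131104) (Net.cons (nat_lit 4) (nat_lit 65536) (Net.cons (nat_lit 8) (nat_lit 34) (Net.cons (nat_lit 16) (nat_lit 114) (Net.cons (nat_lit 8) (nat_lit 98) (Net.cons (nat_lit 4) (nat_lit 131848) (Net.cons (nat_lit 2) (nat_lit 768) (Net.cons (nat_lit 1) (nat_lit 0x100550) Net.nil)))))))))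

theorem p_g45_ok : Net.ok 24 p_g45 = true := by decide +kernel

noncomputable def p_g46 : Net := (Net.cons (nat_lit 1) (nat_lit 0x450140) (Net.cons (nat_lit 2) (nat_lit 12288) (Net.cons (nat_lit 4) (nat_lit 329728) (Net.cons (nat_lit 8) (nat_lit 145) (Net.cons (nat_lit 16) (nat_lit 217) (Net.cons (nat_lit 8) (nat_lit 9) (Net.cons (nat_lit 4) (nat_lit 851976) (Net.cons (nat_lit 2) (nat_lit 0x213330) (Net.cons (nat_lit 1) (nat_lit 0x440140) Net.nil)))))))))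

theorem p_g46_ok : Net.ok 24 p_g46 = true := by decide +kernel

noncomputable def p_g47 : Net := (Net.cons (nat_lit 1) (nat_lit 17472) (Net.cons (nat_lit 2) (nat_lit 196896) (Net.cons (nat_lit 4) (nat_lit 68608) (Net.cons (nat_lit 8) (nat_lit 3) (Net.cons (nat_lit 16) (nat_lit 11) (Net.cons (nat_lit 8) (nat_lit 107) (Net.cons (nat_lit 4) (nat_lit 461824) (Net.cons (nat_lit 2) (nat_lit 0x120330) (Net.cons (nat_lit 1) (nat_lit 0x145040) Net.nil)))))))))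

theorem p_g47_ok : Net.ok 24 p_g47 = true := by decide +kernel

noncomputable def p_V48 : List Net := [p_g45, p_g46, p_g47]

theorem p_V48_ok : okE 24 p_V48 = true := (okE_cons.2 ⟨p_g45_ok, (okE_cons.2 ⟨p_g46_ok, (okE_cons.2 ⟨p_g47_ok, (okE_nil 24)⟩)⟩)⟩)

noncomputable def p_g50 : Net := (Net.cons (nat_lit 1) (nat_lit 0x110050) (Net.cons (nat_lit 2) (nat_lit 0x223000) (Net.cons (nat_lit 4) (nat_lit 1280) (Net.cons (nat_lit 8) (nat_lit 193) (Net.cons (nat_lit 16) (nat_lit 209) (Net.cons (nat_lit 8) (nat_lit 129) (Net.cons (nat_lit 4) (nat_lit 592136) (Net.cons (nat_lit 2) (nat_lit 0x302320) (Net.cons (nat_lit 1) (nat_lit 5200) Net.nil)))))))))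

theorem p_g50_ok : Net.ok 24 p_g50 = true := by decide +kernel

noncomputable def p_V51 : List Net := [p_g50]

theorem p_V51_ok : okE 24 p_V51 = true := (okE_cons.2 ⟨p_g50_ok, (okE_nil 24)⟩)

noncomputable def p_g53 : Net := (Net.cons (nat_lit 1) (nat_lit 327680) (Net.cons (nat_lit 2) (nat_lit 0x111020) (Net.cons (nat_lit 4) (nat_lit 395776) (Net.cons (nat_lit 8) (nat_lit 66) (Net.cons (nat_lit 16) (nat_lit 106) (Net.cons (nat_lit 8) (nat_lit 194) (Net.cons (nat_lit 4) (nat_lit 461568) (Net.cons (nat_lit 2) (nat_lit 0x111030) (Net.cons (nat_lit 1) (nat_lit 327680) Net.nil)))))))))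

theorem p_g53_ok : Net.ok 24 p_g53 = true := by decide +kernel

noncomputable def p_g54 : Net := (Net.cons (nat_lit 1) (nat_lit 0x105000) (Net.cons (nat_lit 2) (nat_lit 0x100300) (Net.cons (nat_lit 4) (nat_lit 657408) (Net.cons (nat_lit 8) (nat_lit 4) (Net.cons (nat_lit 16) (nat_lit 228) (Net.cons (nat_lit 8) (nat_lit 28) (Net.cons (nat_lit 4) (nat_lit 723456) (Net.cons (nat_lit 2) (nat_lit 0x100300) (Net.cons (nat_lit 1) (nat_lit 0x105000) Net.nil)))))))))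

theorem p_g54_ok : Net.ok 24 p_g54 = true := by decide +kernel

noncomputable def p_g55 : Net := (Net.cons (nat_lit 1) (nat_lit 327680) (Net.cons (nat_lit 2) (nat_lit 0x323120) (Net.cons (nat_lit 4) (nat_lit 723200) (Net.cons (nat_lit 8) (nat_lit 133) (Net.cons (nat_lit 16) (nat_lit 189) (Net.cons (nat_lit 8) (nat_lit 77) (Net.cons (nat_lit 4) (nat_lit 196872) (Net.cons (nat_lit 2) (nat_lit 0x323120) (Net.cons (nat_lit 1) (nat_lit 327680) Net.nil)))))))))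

theorem p_g55_ok : Net.ok 24 p_g55 = true := by decide +kernel

noncomputable def p_g56 : Net := (Net.cons (nat_lit 1) (nat_lit 65536) (Net.cons (nat_lit 2) (nat_lit 0x232100) (Net.cons (nat_lit 4) (nat_lit 196608) (Net.cons (nat_lit 8) (nat_lit 4) (Net.cons (nat_lit 16) (nat_lit 116) (Net.cons (nat_lit 8) (nat_lit 140) (Net.cons (nat_lit 4) (nat_lit 720896) (Net.cons (nat_lit 2) (nat_lit 0x233100) (Net.cons (nat_lit 1) (nat_lit 327696) Net.nil)))))))))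

theorem p_g56_ok : Net.ok 24 p_g56 = true := by decide +kernel

noncomputable def p_V57 : List Net := [p_g53, p_g54, p_g55, p_g56]

theorem p_V57_ok : okE 24 p_V57 = true := (okE_cons.2 ⟨p_g53_ok, (okE_cons.2 ⟨p_g54_ok, (okE_cons.2 ⟨p_g55_ok, (okE_cons.2 ⟨p_g56_ok, (okE_nil 24)⟩)⟩)⟩)⟩)

noncomputable def p_g59 : Net := (Net.cons (nat_lit 1) (nat_lit 0x404400) (Net.cons (nat_lit 2) (nat_lit 143360) (Net.cons (nat_lit 4) (nat_lit 327680) (Net.cons (nat_lit 8) (nat_lit 192) (Net.cons (nat_lit 16) (nat_lit 216) (Net.cons (nat_lit 8) (nat_lit 224) (Net.cons (nat_lit 4) (nat_lit 458752) (Net.cons (nat_lit 2) (nat_lit 143616) (Net.cons (nat_lit 1) (nat_lit 0x404440) Net.nil)))))))))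

theorem p_g59_ok : Net.ok 24 p_g59 = true := by decide +kernel

noncomputable def p_g60 : Net := (Net.cons (nat_lit 1) (nat_lit 0x511040) (Net.cons (nat_lit 2) (nat_lit 0x122000) (Net.cons (nat_lit 4) (nat_lit 459776) (Net.cons (nat_lit 8) (nat_lit 140) (Net.cons (nat_lit 16) (nat_lit 252) (Net.cons (nat_lit 8) (nat_lit 140) (Net.cons (nat_lit 4) (nat_lit 986376) (Net.cons (nat_lit 2) (nat_lit 0x132010) (Net.cons (nat_lit 1) (nat_lit 0x511040) Net.nil)))))))))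

theorem p_g60_ok : Net.ok 24 p_g60 = true := by decide +kernel

noncomputable def p_g61 : Net := (Net.cons (nat_lit 1) (nat_lit 327680) (Net.cons (nat_lit 2) (nat_lit 0x303100) (Net.cons (nat_lit 4) (nat_lit 132096) (Net.cons (nat_lit 8) (nat_lit 4) (Net.cons (nat_lit 16) (nat_lit 36) (Net.cons (nat_lit 8) (nat_lit 220) (Net.cons (nat_lit 4) (nat_lit 723976) (Net.cons (nat_lit 2) (nat_lit 0x303100) (Net.cons (nat_lit 1) (nat_lit 327680) Net.nil)))))))))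

theorem p_g61_ok : Net.ok 24 p_g61 = true := by decide +kernel

noncomputable def p_g62 : Net := (Net.cons (nat_lit 1) (nat_lit 1088) (Net.cons (nat_lit 2) (nat_lit 0x110100) (Net.cons (nat_lit 4) (nat_lit 256) (Net.cons (nat_lit 8) (nat_lit 4) (Net.cons (nat_lit 16) (nat_lit 12) (Net.cons (nat_lit 8) (nat_lit 84) (Net.cons (nat_lit 4) (nat_lit 196864) (Net.cons (nat_lit 2) (nat_lit 0x110120) (Net.cons (nat_lit 1) (nat_lit 5184) Net.nil)))))))))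

theorem p_g62_ok : Net.ok 24 p_g62 = true := by decide +kernel

noncomputable def p_V63 : List Net := [p_g59, p_g60, p_g61, p_g62]

theorem p_V63_ok : okE 24 p_V63 = true := (okE_cons.2 ⟨p_g59_ok, (okE_cons.2 ⟨p_g60_ok, (okE_cons.2 ⟨p_g61_ok, (okE_cons.2 ⟨p_g62_ok, (okE_nil 24)⟩)⟩)⟩)⟩)

noncomputable def N_E6 : List Net := []

theorem N_E6_ok : okE 24 N_E6 = true := (okE_nil 24)

noncomputable def N_G5 : List Net := [p_g59, p_g60, p_g61, p_g62]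

theorem N_G5_ok : okE 24 N_G5 = true := (okE_cons.2 ⟨p_g59_ok, (okE_cons.2 ⟨p_g60_ok, (okE_cons.2 ⟨p_g61_ok, (okE_cons.2 ⟨p_g62_ok, (okE_nil 24)⟩)⟩)⟩)⟩)

noncomputable def N_E5 : List Net := [p_g59, p_g60, p_g61, p_g62, p_g53, p_g54, p_g55, p_g56]

theorem N_E5_ok : okE 24 N_E5 = true := (okE_cons.2 ⟨p_g59_ok, (okE_cons.2 ⟨p_g60_ok, (okE_cons.2 ⟨p_g61_ok, (okE_cons.2 ⟨p_g62_ok, (okE_cons.2 ⟨p_g53_ok, (okE_cons.2 ⟨p_g54_ok, (okE_cons.2 ⟨p_g55_ok, (okE_cons.2 ⟨p_g56_ok, (okE_nil 24)⟩)⟩)⟩)⟩)⟩)⟩)⟩)⟩)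

noncomputable def N_G4 : List Net := [p_g50, p_g59, p_g60, p_g61, p_g62, p_g53, p_g54, p_g55, p_g56]

theorem N_G4_ok : okE 24 N_G4 = true := (okE_cons.2 ⟨p_g50_ok, (okE_cons.2 ⟨p_g59_ok, (okE_cons.2 ⟨p_g60_ok, (okE_cons.2 ⟨p_g61_ok, (okE_cons.2 ⟨p_g62_ok, (okE_cons.2 ⟨p_g53_ok, (okE_cons.2 ⟨p_g54_ok, (okE_cons.2 ⟨p_g55_ok, (okE_cons.2 ⟨p_g56_ok, (okE_nil 24)⟩)⟩)⟩)⟩)⟩)⟩)⟩)⟩)⟩)

noncomputable def N_E4 : List Net := [p_g50, p_g45, p_g46, p_g47, p_g59, p_g60, p_g61, p_g62, p_g53, p_g54, p_g55, p_g56]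

theorem N_E4_ok : okE 24 N_E4 = true := (okE_cons.2 ⟨p_g50_ok, (okE_cons.2 ⟨p_g45_ok, (okE_cons.2 ⟨p_g46_ok, (okE_cons.2 ⟨p_g47_ok, (okE_cons.2 ⟨p_g59_ok, (okE_cons.2 ⟨p_g60_ok, (okE_cons.2 ⟨p_g61_ok, (okE_cons.2 ⟨p_g62_ok, (okE_cons.2 ⟨p_g53_ok, (okE_cons.2 ⟨p_g54_ok, (okE_cons.2 ⟨p_g55_ok, (okE_cons.2 ⟨p_g56_ok, (okE_nil 24)⟩)⟩)⟩)⟩)⟩)⟩)⟩)⟩)⟩)⟩)⟩)⟩)

noncomputable def N_G3 : List Net := [p_g42, p_g50, p_g45, p_g46, p_g47, p_g59, p_g60, p_g61, p_g62, p_g53, p_g54, p_g55, p_g56]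

theorem N_G3_ok : okE 24 N_G3 = true := (okE_cons.2 ⟨p_g42_ok, (okE_cons.2 ⟨p_g50_ok, (okE_cons.2 ⟨p_g45_ok, (okE_cons.2 ⟨p_g46_ok, (okE_cons.2 ⟨p_g47_ok, (okE_cons.2 ⟨p_g59_ok, (okE_cons.2 ⟨p_g60_ok, (okE_cons.2 ⟨p_g61_ok, (okE_cons.2 ⟨p_g62_ok, (okE_cons.2 ⟨p_g53_ok, (okE_cons.2 ⟨p_g54_ok, (okE_cons.2 ⟨p_g55_ok, (okE_cons.2 ⟨p_g56_ok, (okE_nil 24)⟩)⟩)⟩)⟩)⟩)⟩)⟩)⟩)⟩)⟩)⟩)⟩)⟩)

noncomputable def N_E3 : List Net := [p_g42, p_g33, p_g39, p_g50, p_g45, p_g46, p_g47, p_g59, p_g60, p_g61, p_g62, p_g53, p_g54, p_g55, p_g56]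

theorem N_E3_ok : okE 24 N_E3 = true := (okE_cons.2 ⟨p_g42_ok, (okE_cons.2 ⟨p_g33_ok, (okE_cons.2 ⟨p_g39_ok, (okE_cons.2 ⟨p_g50_ok, (okE_cons.2 ⟨p_g45_ok, (okE_cons.2 ⟨p_g46_ok, (okE_cons.2 ⟨p_g47_ok, (okE_cons.2 ⟨p_g59_ok, (okE_cons.2 ⟨p_g60_ok, (okE_cons.2 ⟨p_g61_ok, (okE_cons.2 ⟨p_g62_ok, (okE_cons.2 ⟨p_g53_ok, (okE_cons.2 ⟨p_g54_ok, (okE_cons.2 ⟨p_g55_ok, (okE_cons.2 ⟨p_g56_ok, (okE_nil 24)⟩)⟩)⟩)⟩)⟩)⟩)⟩)⟩)⟩)⟩)⟩)⟩)⟩)⟩)⟩)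

noncomputable def N_G2 : List Net := [p_g36, p_g42, p_g33, p_g39, p_g50, p_g45, p_g46, p_g47, p_g59, p_g60, p_g61, p_g62, p_g53, p_g54, p_g55, p_g56]

theorem N_G2_ok : okE 24 N_G2 = true := (okE_cons.2 ⟨p_g36_ok, (okE_cons.2 ⟨p_g42_ok, (okE_cons.2 ⟨p_g33_ok, (okE_cons.2 ⟨p_g39_ok, (okE_cons.2 ⟨p_g50_ok, (okE_cons.2 ⟨p_g45_ok, (okE_cons.2 ⟨p_g46_ok, (okE_cons.2 ⟨p_g47_ok, (okE_cons.2 ⟨p_g59_ok, (okE_cons.2 ⟨p_g60_ok, (okE_cons.2 ⟨p_g61_ok, (okE_cons.2 ⟨p_g62_ok, (okE_cons.2 ⟨p_g53_ok, (okE_cons.2 ⟨p_g54_ok, (okE_cons.2 ⟨p_g55_ok, (okE_cons.2 ⟨p_g56_ok, (okE_nil 24)⟩)⟩)⟩)⟩)⟩)⟩)⟩)⟩)⟩)⟩)⟩)⟩)⟩)⟩)⟩)⟩)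

noncomputable def N_E2 : List Net := [p_g36, p_g32, p_g42, p_g33, p_g39, p_g50, p_g45, p_g46, p_g47, p_g59, p_g60, p_g61, p_g62, p_g53, p_g54, p_g55, p_g56]

theorem N_E2_ok : okE 24 N_E2 = true := (okE_cons.2 ⟨p_g36_ok, (okE_cons.2 ⟨p_g32_ok, (okE_cons.2 ⟨p_g42_ok, (okE_cons.2 ⟨p_g33_ok, (okE_cons.2 ⟨p_g39_ok, (okE_cons.2 ⟨p_g50_ok, (okE_cons.2 ⟨p_g45_ok, (okE_cons.2 ⟨p_g46_ok, (okE_cons.2 ⟨p_g47_ok, (okE_cons.2 ⟨p_g59_ok, (okE_cons.2 ⟨p_g60_ok, (okE_cons.2 ⟨p_g61_ok, (okE_cons.2 ⟨p_g62_ok, (okE_cons.2 ⟨p_g53_ok, (okE_cons.2 ⟨p_g54_ok, (okE_cons.2 ⟨p_g55_ok, (okE_cons.2 ⟨p_g56_ok, (okE_nil 24)⟩)⟩)⟩)⟩)⟩)⟩)⟩)⟩)⟩)⟩)⟩)⟩)⟩)⟩)⟩)⟩)⟩)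

noncomputable def N_G1 : List Net := [p_g29, p_g36, p_g32, p_g42, p_g33, p_g39, p_g50, p_g45, p_g46, p_g47, p_g59, p_g60, p_g61, p_g62, p_g53, p_g54, p_g55, p_g56]

theorem N_G1_ok : okE 24 N_G1 = true := (okE_cons.2 ⟨p_g29_ok, (okE_cons.2 ⟨p_g36_ok, (okE_cons.2 ⟨p_g32_ok, (okE_cons.2 ⟨p_g42_ok, (okE_cons.2 ⟨p_g33_ok, (okE_cons.2 ⟨p_g39_ok, (okE_cons.2 ⟨p_g50_ok, (okE_cons.2 ⟨p_g45_ok, (okE_cons.2 ⟨p_g46_ok, (okE_cons.2 ⟨p_g47_ok, (okE_cons.2 ⟨p_g59_ok, (okE_cons.2 ⟨p_g60_ok, (okE_cons.2 ⟨p_g61_ok, (okE_cons.2 ⟨p_g62_ok, (okE_cons.2 ⟨p_g53_ok, (okE_cons.2 ⟨p_g54_ok, (okE_cons.2 ⟨p_g55_ok, (okE_cons.2 ⟨p_g56_ok, (okE_nil 24)⟩)⟩)⟩)⟩)⟩)⟩)⟩)⟩)⟩)⟩)⟩)⟩)⟩)⟩)⟩)⟩)⟩)⟩)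

noncomputable def N_E1 : List Net := [p_g29, p_g25, p_g26, p_g36, p_g32, p_g42, p_g33, p_g39, p_g50, p_g45, p_g46, p_g47, p_g59, p_g60, p_g61, p_g62, p_g53, p_g54, p_g55, p_g56]

theorem N_E1_ok : okE 24 N_E1 = true := (okE_cons.2 ⟨p_g29_ok, (okE_cons.2 ⟨p_g25_ok, (okE_cons.2 ⟨p_g26_ok, (okE_cons.2 ⟨p_g36_ok, (okE_cons.2 ⟨p_g32_ok, (okE_cons.2 ⟨p_g42_ok, (okE_cons.2 ⟨p_g33_ok, (okE_cons.2 ⟨p_g39_ok, (okE_cons.2 ⟨p_g50_ok, (okE_cons.2 ⟨p_g45_ok, (okE_cons.2 ⟨p_g46_ok, (okE_cons.2 ⟨p_g47_ok, (okE_cons.2 ⟨p_g59_ok, (okE_cons.2 ⟨p_g60_ok, (okE_cons.2 ⟨p_g61_ok, (okE_cons.2 ⟨p_g62_ok, (okE_cons.2 ⟨p_g53_ok, (okE_cons.2 ⟨p_g54_ok, (okE_cons.2 ⟨p_g55_ok, (okE_cons.2 ⟨p_g56_ok, (okE_nil 24)⟩)⟩)⟩)⟩)⟩)⟩)⟩)⟩)⟩)⟩)⟩)⟩)⟩)⟩)⟩)⟩)⟩)⟩)⟩)⟩)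

noncomputable def N_G0 : List Net := [p_g22, p_g29, p_g25, p_g26, p_g36, p_g32, p_g42, p_g33, p_g39, p_g50, p_g45, p_g46, p_g47, p_g59, p_g60, p_g61, p_g62, p_g53, p_g54, p_g55, p_g56]

theorem N_G0_ok : okE 24 N_G0 = true := (okE_cons.2 ⟨p_g22_ok, (okE_cons.2 ⟨p_g29_ok, (okE_cons.2 ⟨p_g25_ok, (okE_cons.2 ⟨p_g26_ok, (okE_cons.2 ⟨p_g36_ok, (okE_cons.2 ⟨p_g32_ok, (okE_cons.2 ⟨p_g42_ok, (okE_cons.2 ⟨p_g33_ok, (okE_cons.2 ⟨p_g39_ok, (okE_cons.2 ⟨p_g50_ok, (okE_cons.2 ⟨p_g45_ok, (okE_cons.2 ⟨p_g46_ok, (okE_cons.2 ⟨p_g47_ok, (okE_cons.2 ⟨p_g59_ok, (okE_cons.2 ⟨p_g60_ok, (okE_cons.2 ⟨p_g61_ok, (okE_cons.2 ⟨p_g62_ok, (okE_cons.2 ⟨p_g53_ok, (okE_cons.2 ⟨p_g54_ok, (okE_cons.2 ⟨p_g55_ok, (okE_cons.2 ⟨p_g56_ok, (okE_nil 24)⟩)⟩)⟩)⟩)⟩)⟩)⟩)⟩)⟩)⟩)⟩)⟩)⟩)⟩)⟩)⟩)⟩)⟩)⟩)⟩)⟩)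

noncomputable def N_E0 : List Net := [p_g22, p_g1, p_g2, p_g29, p_g25, p_g26, p_g36, p_g32, p_g42, p_g33, p_g39, p_g50, p_g45, p_g46, p_g47, p_g59, p_g60, p_g61, p_g62, p_g53, p_g54, p_g55, p_g56]

theorem N_E0_ok : okE 24 N_E0 = true := (okE_cons.2 ⟨p_g22_ok, (okE_cons.2 ⟨p_g1_ok, (okE_cons.2 ⟨p_g2_ok, (okE_cons.2 ⟨p_g29_ok, (okE_cons.2 ⟨p_g25_ok, (okE_cons.2 ⟨p_g26_ok, (okE_cons.2 ⟨p_g36_ok, (okE_cons.2 ⟨p_g32_ok, (okE_cons.2 ⟨p_g42_ok, (okE_cons.2 ⟨p_g33_ok, (okE_cons.2 ⟨p_g39_ok, (okE_cons.2 ⟨p_g50_ok, (okE_cons.2 ⟨p_g45_ok, (okE_cons.2 ⟨p_g46_ok, (okE_cons.2 ⟨p_g47_ok, (okE_cons.2 ⟨p_g59_ok, (okE_cons.2 ⟨p_g60_ok, (okE_cons.2 ⟨p_g61_ok, (okE_cons.2 ⟨p_g62_ok, (okE_cons.2 ⟨p_g53_ok, (okE_cons.2 ⟨p_g54_ok, (okE_cons.2 ⟨p_g55_ok, (okE_cons.2 ⟨p_g56_ok, (okE_nil 24)⟩)⟩)⟩)⟩)⟩)⟩)⟩)⟩)⟩)⟩)⟩)⟩)⟩)⟩)⟩)⟩)⟩)⟩)⟩)⟩)⟩)⟩)⟩)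

noncomputable def Z : List Net := []

theorem Z_ok : okE 24 Z = true := (okE_nil 24)

noncomputable def p_g79 : Net := (Net.cons (nat_lit 1) (nat_lit 282880) (Net.cons (nat_lit 2) (nat_lit 0x200100) (Net.cons (nat_lit 4) (nat_lit 525824) (Net.cons (nat_lit 8) (nat_lit 89) (Net.cons (nat_lit 16) (nat_lit 93) (Net.cons (nat_lit 8) (nat_lit 223) (Net.cons (nat_lit 4) (nat_lit 331522) (Net.cons (nat_lit 2) (nat_lit 0x210030) (Net.cons (nat_lit 1) (nat_lit 328980) Net.nil)))))))))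

theorem p_g79_ok : Net.ok 24 p_g79 = true := by decide +kernel

noncomputable def p_g80 : Net := (Net.cons (nat_lit 2) (nat_lit 560) (Net.cons (nat_lit 4) (nat_lit 262144) (Net.cons (nat_lit 8) (nat_lit 80) (Net.cons (nat_lit 16) (nat_lit 82) (Net.cons (nat_lit 8) (nat_lit 92) (Net.cons (nat_lit 4) (nat_lit 460806) (Net.cons (nat_lit 2) (nat_lit 0x132232) (Net.cons (nat_lit 1) (nat_lit 283664) Net.nil))))))))

theorem p_g80_ok : Net.ok 24 p_g80 = true := by decide +kernel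

noncomputable def p_g81 : Net := (Net.cons (nat_lit 1) (nat_lit 282644) (Net.cons (nat_lit 2) (nat_lit 0x200100) (Net.cons (nat_lit 4) (nat_lit 67072) (Net.cons (nat_lit 8) (nat_lit 1) (Net.cons (nat_lit 16) (nat_lit 143) (Net.cons (nat_lit 8) (nat_lit 159) (Net.cons (nat_lit 4) (nat_lit 3592) (Net.cons (nat_lit 2) (nat_lit 0x222102) (Net.cons (nat_lit 1) (nat_lit 0x101400) Net.nil)))))))))

theorem p_g81_ok : Net.ok 24 p_g81 = true := by decide +kernel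

noncomputable def p_g82 : Net := (Net.cons (nat_lit 1) (nat_lit 0x111454) (Net.cons (nat_lit 2) (nat_lit 0x312100) (Net.cons (nat_lit 4) (nat_lit 1792) (Net.cons (nat_lit 8) (nat_lit 132) (Net.cons (nat_lit 16) (nat_lit 220) (Net.cons (nat_lit 8) (nat_lit 158) (Net.cons (nat_lit 4) (nat_lit 593410) (Net.cons (nat_lit 2) (nat_lit 0x310112) (Net.cons (nat_lit 1) (nat_lit 262212) Net.nil)))))))))

theorem p_g82_ok : Net.ok 24 p_g82 = true := by decide +kernel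

noncomputable def p_g83 : Net := (Net.cons (nat_lit 1) (nat_lit 0x510000) (Net.cons (nat_lit 2) (nat_lit 0x300010) (Net.cons (nat_lit 4) (nat_lit 68096) (Net.cons (nat_lit 8) (nat_lit 8) (Net.cons (nat_lit 16) (nat_lit 137) (Net.cons (nat_lit 8) (nat_lit 10) (Net.cons (nat_lit 4) (nat_lit 199172) (Net.cons (nat_lit 2) (nat_lit 0x311010) (Net.cons (nat_lit 1) (nat_lit 0x510000) Net.nil)))))))))

theorem p_g83_ok : Net.ok 24 p_g83 = true := by decide +kernel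

noncomputable def p_V84 : List Net := [p_g79, p_g80, p_g81, p_g82, p_g83]

theorem p_V84_ok : okE 24 p_V84 = true := (okE_cons.2 ⟨p_g79_ok, (okE_cons.2 ⟨p_g80_ok, (okE_cons.2 ⟨p_g81_ok, (okE_cons.2 ⟨p_g82_ok, (okE_cons.2 ⟨p_g83_ok, (okE_nil 24)⟩)⟩)⟩)⟩)⟩)

noncomputable def p_V86 : List Net := [p_g80, p_g81, p_g82, p_g83]

theorem p_V86_ok : okE 24 p_V86 = true := (okE_cons.2 ⟨p_g80_ok, (okE_cons.2 ⟨p_g81_ok, (okE_cons.2 ⟨p_g82_ok, (okE_cons.2 ⟨p_g83_ok, (okE_nil 24)⟩)⟩)⟩)⟩)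

noncomputable def p_V87 : List Net := [p_g81, p_g82, p_g83]

theorem p_V87_ok : okE 24 p_V87 = true := (okE_cons.2 ⟨p_g81_ok, (okE_cons.2 ⟨p_g82_ok, (okE_cons.2 ⟨p_g83_ok, (okE_nil 24)⟩)⟩)⟩)

noncomputable def p_V88 : List Net := [p_g82, p_g83]

theorem p_V88_ok : okE 24 p_V88 = true := (okE_cons.2 ⟨p_g82_ok, (okE_cons.2 ⟨p_g83_ok, (okE_nil 24)⟩)⟩)

noncomputable def p_V89 : List Net := []

theorem p_V89_ok : okE 24 p_V89 = true := (okE_nil 24)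

noncomputable def Z_cnt_EG : List Net := [p_g82, p_g83, p_g81, p_g80, p_g79, p_g22, p_g1, p_g2, p_g29, p_g25, p_g26, p_g36, p_g32, p_g42, p_g33, p_g39, p_g50, p_g45, p_g46, p_g47, p_g59, p_g60, p_g61, p_g62, p_g53, p_g54, p_g55, p_g56]

theorem Z_cnt_EG_ok : okE 24 Z_cnt_EG = true := (okE_cons.2 ⟨p_g82_ok, (okE_cons.2 ⟨p_g83_ok, (okE_cons.2 ⟨p_g81_ok, (okE_cons.2 ⟨p_g80_ok, (okE_cons.2 ⟨p_g79_ok, (okE_cons.2 ⟨p_g22_ok, (okE_cons.2 ⟨p_g1_ok, (okE_cons.2 ⟨p_g2_ok, (okE_cons.2 ⟨p_g29_ok, (okE_cons.2 ⟨p_g25_ok, (okE_cons.2 ⟨p_g26_ok, (okE_cons.2 ⟨p_g36_ok, (okE_cons.2 ⟨p_g32_ok, (okE_cons.2 ⟨p_g42_ok, (okE_cons.2 ⟨p_g33_ok, (okE_cons.2 ⟨p_g39_ok, (okE_cons.2 ⟨p_g50_ok, (okE_cons.2 ⟨p_g45_ok, (okE_cons.2 ⟨p_g46_ok, (okE_cons.2 ⟨p_g47_ok, (okE_cons.2 ⟨p_g59_ok, (okE_cons.2 ⟨p_g60_ok, (okE_cons.2 ⟨p_g61_ok, (okE_cons.2 ⟨p_g62_ok, (okE_cons.2 ⟨p_g53_ok,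 (okE_cons.2 ⟨p_g54_ok, (okE_cons.2 ⟨p_g55_ok, (okE_cons.2 ⟨p_g56_ok, (okE_nil 24)⟩)⟩)⟩)⟩)⟩)⟩)⟩)⟩)⟩)⟩)⟩)⟩)⟩)⟩)⟩)⟩)⟩)⟩)⟩)⟩)⟩)⟩)⟩)⟩)⟩)⟩)⟩)⟩)

noncomputable def p_g90 : Net := (Net.cons (nat_lit 1) (nat_lit 0x410100) (Net.cons (nat_lit 2) (nat_lit 0x320030) (Net.cons (nat_lit 4) (nat_lit 590336) (Net.cons (nat_lit 8) (nat_lit 32) (Net.cons (nat_lit 16) (nat_lit 227) (Net.cons (nat_lit 8) (nat_lit 40) (Net.cons (nat_lit 4) (nat_lit 591616) (Net.cons (nat_lit 2) (nat_lit 0x321130) (Net.cons (nat_lit 1) (nat_lit 0x410100) Net.nil)))))))))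

theorem p_g90_ok : Net.ok 24 p_g90 = true := by decide +kernel

noncomputable def p_g91 : Net := (Net.cons (nat_lit 1) (nat_lit 0x505540) (Net.cons (nat_lit 2) (nat_lit 131120) (Net.cons (nat_lit 4) (nat_lit 262144) (Net.cons (nat_lit 8) (nat_lit 136) (Net.cons (nat_lit 16) (nat_lit 141) (Net.cons (nat_lit 8) (nat_lit 241) (Net.cons (nat_lit 4) (nat_lit 590857) (Net.cons (nat_lit 2) (nat_lit 0x322301) (Net.cons (nat_lit 1) (nat_lit 0x511410) Net.nil)))))))))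

theorem p_g91_ok : Net.ok 24 p_g91 = true := by decide +kernel

noncomputable def p_g92 : Net := (Net.cons (nat_lit 1) (nat_lit 0x554110) (Net.cons (nat_lit 2) (nat_lit 135168) (Net.cons (nat_lit 4) (nat_lit 721920) (Net.cons (nat_lit 8) (nat_lit 44) (Net.cons (nat_lit 16) (nat_lit 188) (Net.cons (nat_lit 8) (nat_lit 94) (Net.cons (nat_lit 4) (nat_lit 721416) (Net.cons (nat_lit 2) (nat_lit 0x231032) (Net.cons (nat_lit 1) (nat_lit 0x545150) Net.nil)))))))))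

theorem p_g92_ok : Net.ok 24 p_g92 = true := by decide +kernel

noncomputable def p_g93 : Net := (Net.cons (nat_lit 1) (nat_lit 0x415050) (Net.cons (nat_lit 2) (nat_lit 0x310020) (Net.cons (nat_lit 4) (nat_lit 656384) (Net.cons (nat_lit 8) (nat_lit 14) (Net.cons (nat_lit 16) (nat_lit 78) (Net.cons (nat_lit 8) (nat_lit 198) (Net.cons (nat_lit 4) (nat_lit 525828) (Net.cons (nat_lit 2) (nat_lit 0x100320) (Net.cons (nat_lit 1) (nat_lit 0x515144) Net.nil)))))))))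

theorem p_g93_ok : Net.ok 24 p_g93 = true := by decide +kernel

noncomputable def p_g94 : Net := (Net.cons (nat_lit 1) (nat_lit 0x101000) (Net.cons (nat_lit 2) (nat_lit 0x121100) (Net.cons (nat_lit 4) (nat_lit 786432) (Net.cons (nat_lit 8) (nat_lit 209) (Net.cons (nat_lit 16) (nat_lit 213) (Net.cons (nat_lit 8) (nat_lit 241) (Net.cons (nat_lit 4) (nat_lit 786432) (Net.cons (nat_lit 2) (nat_lit 0x121100) (Net.cons (nat_lit 1) (nat_lit 0x101140) Net.nil)))))))))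

theorem p_g94_ok : Net.ok 24 p_g94 = true := by decide +kernel

noncomputable def p_g95 : Net := (Net.cons (nat_lit 1) (nat_lit 0x440400) (Net.cons (nat_lit 2) (nat_lit 69632) (Net.cons (nat_lit 4) (nat_lit 264192) (Net.cons (nat_lit 8) (nat_lit 106) (Net.cons (nat_lit 16) (nat_lit 234) (Net.cons (nat_lit 8) (nat_lit 202) (Net.cons (nat_lit 4) (nat_lit 396036) (Net.cons (nat_lit 2) (nat_lit 0x211220) (Net.cons (nat_lit 1) (nat_lit 0x440400) Net.nil)))))))))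

theorem p_g95_ok : Net.ok 24 p_g95 = true := by decide +kernel

noncomputable def p_g96 : Net := (Net.cons (nat_lit 1) (nat_lit 0x445440) (Net.cons (nat_lit 2) (nat_lit 131088) (Net.cons (nat_lit 4) (nat_lit 132096) (Net.cons (nat_lit 8) (nat_lit 1) (Net.cons (nat_lit 16) (nat_lit 161) (Net.cons (nat_lit 8) (nat_lit 21) (Net.cons (nat_lit 4) (nat_lit 525312) (Net.cons (nat_lit 2) (nat_lit 0x202230) (Net.cons (nat_lit 1) (nat_lit 0x445440) Net.nil)))))))))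

theorem p_g96_ok : Net.ok 24 p_g96 = true := by decide +kernel

noncomputable def nt_c1_K : List Net := [p_g91, p_g92, p_g93, p_g94, p_g95, p_g96]

theorem nt_c1_K_ok : okE 24 nt_c1_K = true := (okE_cons.2 ⟨p_g91_ok, (okE_cons.2 ⟨p_g92_ok, (okE_cons.2 ⟨p_g93_ok, (okE_cons.2 ⟨p_g94_ok, (okE_cons.2 ⟨p_g95_ok, (okE_cons.2 ⟨p_g96_ok, (okE_nil 24)⟩)⟩)⟩)⟩)⟩)⟩)

noncomputable def p_V98 : List Net := [p_g29, p_g25, p_g26, p_g36, p_g32, p_g42, p_g33, p_g39, p_g50, p_g45, p_g46, p_g47, p_g59, p_g60, p_g61, p_g62, p_g53, p_g54, p_g55, p_g56]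

theorem p_V98_ok : okE 24 p_V98 = true := (okE_cons.2 ⟨p_g29_ok, (okE_cons.2 ⟨p_g25_ok, (okE_cons.2 ⟨p_g26_ok, (okE_cons.2 ⟨p_g36_ok, (okE_cons.2 ⟨p_g32_ok, (okE_cons.2 ⟨p_g42_ok, (okE_cons.2 ⟨p_g33_ok, (okE_cons.2 ⟨p_g39_ok, (okE_cons.2 ⟨p_g50_ok, (okE_cons.2 ⟨p_g45_ok, (okE_cons.2 ⟨p_g46_ok, (okE_cons.2 ⟨p_g47_ok, (okE_cons.2 ⟨p_g59_ok, (okE_cons.2 ⟨p_g60_ok, (okE_cons.2 ⟨p_g61_ok, (okE_cons.2 ⟨p_g62_ok, (okE_cons.2 ⟨p_g53_ok, (okE_cons.2 ⟨p_g54_ok, (okE_cons.2 ⟨p_g55_ok, (okE_cons.2 ⟨p_g56_ok, (okE_nil 24)⟩)⟩)⟩)⟩)⟩)⟩)⟩)⟩)⟩)⟩)⟩)⟩)⟩)⟩)⟩)⟩)⟩)⟩)⟩)⟩)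

noncomputable def p_V99 : List Net := [p_g36, p_g32, p_g42, p_g33, p_g39, p_g50, p_g45, p_g46, p_g47, p_g59, p_g60, p_g61, p_g62, p_g53, p_g54, p_g55, p_g56]

theorem p_V99_ok : okE 24 p_V99 = true := (okE_cons.2 ⟨p_g36_ok, (okE_cons.2 ⟨p_g32_ok, (okE_cons.2 ⟨p_g42_ok, (okE_cons.2 ⟨p_g33_ok, (okE_cons.2 ⟨p_g39_ok, (okE_cons.2 ⟨p_g50_ok, (okE_cons.2 ⟨p_g45_ok, (okE_cons.2 ⟨p_g46_ok, (okE_cons.2 ⟨p_g47_ok, (okE_cons.2 ⟨p_g59_ok, (okE_cons.2 ⟨p_g60_ok, (okE_cons.2 ⟨p_g61_ok, (okE_cons.2 ⟨p_g62_ok, (okE_cons.2 ⟨p_g53_ok, (okE_cons.2 ⟨p_g54_ok, (okE_cons.2 ⟨p_g55_ok, (okE_cons.2 ⟨p_g56_ok, (okE_nil 24)⟩)⟩)⟩)⟩)⟩)⟩)⟩)⟩)⟩)⟩)⟩)⟩)⟩)⟩)⟩)⟩)⟩)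

noncomputable def p_V100 : List Net := [p_g42, p_g33, p_g39, p_g50, p_g45, p_g46, p_g47, p_g59, p_g60, p_g61, p_g62, p_g53, p_g54, p_g55, p_g56]

theorem p_V100_ok : okE 24 p_V100 = true := (okE_cons.2 ⟨p_g42_ok, (okE_cons.2 ⟨p_g33_ok, (okE_cons.2 ⟨p_g39_ok, (okE_cons.2 ⟨p_g50_ok, (okE_cons.2 ⟨p_g45_ok, (okE_cons.2 ⟨p_g46_ok, (okE_cons.2 ⟨p_g47_ok, (okE_cons.2 ⟨p_g59_ok, (okE_cons.2 ⟨p_g60_ok, (okE_cons.2 ⟨p_g61_ok, (okE_cons.2 ⟨p_g62_ok, (okE_cons.2 ⟨p_g53_ok, (okE_cons.2 ⟨p_g54_ok, (okE_cons.2 ⟨p_g55_ok, (okE_cons.2 ⟨p_g56_ok, (okE_nil 24)⟩)⟩)⟩)⟩)⟩)⟩)⟩)⟩)⟩)⟩)⟩)⟩)⟩)⟩)⟩)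

noncomputable def p_V101 : List Net := [p_g50, p_g45, p_g46, p_g47, p_g59, p_g60, p_g61, p_g62, p_g53, p_g54, p_g55, p_g56]

theorem p_V101_ok : okE 24 p_V101 = true := (okE_cons.2 ⟨p_g50_ok, (okE_cons.2 ⟨p_g45_ok, (okE_cons.2 ⟨p_g46_ok, (okE_cons.2 ⟨p_g47_ok, (okE_cons.2 ⟨p_g59_ok, (okE_cons.2 ⟨p_g60_ok, (okE_cons.2 ⟨p_g61_ok, (okE_cons.2 ⟨p_g62_ok, (okE_cons.2 ⟨p_g53_ok, (okE_cons.2 ⟨p_g54_ok, (okE_cons.2 ⟨p_g55_ok, (okE_cons.2 ⟨p_g56_ok, (okE_nil 24)⟩)⟩)⟩)⟩)⟩)⟩)⟩)⟩)⟩)⟩)⟩)⟩)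

noncomputable def p_V102 : List Net := [p_g59, p_g60, p_g61, p_g62, p_g53, p_g54, p_g55, p_g56]

theorem p_V102_ok : okE 24 p_V102 = true := (okE_cons.2 ⟨p_g59_ok, (okE_cons.2 ⟨p_g60_ok, (okE_cons.2 ⟨p_g61_ok, (okE_cons.2 ⟨p_g62_ok, (okE_cons.2 ⟨p_g53_ok, (okE_cons.2 ⟨p_g54_ok, (okE_cons.2 ⟨p_g55_ok, (okE_cons.2 ⟨p_g56_ok, (okE_nil 24)⟩)⟩)⟩)⟩)⟩)⟩)⟩)⟩)

noncomputable def p_V103 : List Net := []

theorem p_V103_ok : okE 24 p_V103 = true := (okE_nil 24)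

noncomputable def nt_c1_cnt_EG : List Net := [p_g42, p_g33, p_g39, p_g50, p_g45, p_g46, p_g47, p_g59, p_g60, p_g61, p_g62, p_g53, p_g54, p_g55, p_g56, p_g36, p_g32, p_g29, p_g25, p_g26, p_g22, p_g1, p_g2]

theorem nt_c1_cnt_EG_ok : okE 24 nt_c1_cnt_EG = true := (okE_cons.2 ⟨p_g42_ok, (okE_cons.2 ⟨p_g33_ok, (okE_cons.2 ⟨p_g39_ok, (okE_cons.2 ⟨p_g50_ok, (okE_cons.2 ⟨p_g45_ok, (okE_cons.2 ⟨p_g46_ok, (okE_cons.2 ⟨p_g47_ok, (okE_cons.2 ⟨p_g59_ok, (okE_cons.2 ⟨p_g60_ok, (okE_cons.2 ⟨p_g61_ok, (okE_cons.2 ⟨p_g62_ok, (okE_cons.2 ⟨p_g53_ok, (okE_cons.2 ⟨p_g54_ok, (okE_cons.2 ⟨p_g55_ok, (okE_cons.2 ⟨p_g56_ok, (okE_cons.2 ⟨p_g36_ok, (okE_cons.2 ⟨p_g32_ok, (okE_cons.2 ⟨p_g29_ok, (okE_cons.2 ⟨p_g25_ok, (okE_cons.2 ⟨p_g26_ok, (okE_cons.2 ⟨p_g22_ok, (okE_cons.2 ⟨p_g1_ok, (okE_cons.2 ⟨p_g2_ok, (okE_nil 24)⟩)⟩)⟩)⟩)⟩)⟩)⟩)⟩)⟩)⟩)⟩)⟩)⟩)⟩)⟩)⟩)⟩)⟩)⟩)⟩)⟩)⟩)⟩)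

noncomputable def p_g104 : Net := (Net.cons (nat_lit 1) (nat_lit 0x144410) (Net.cons (nat_lit 2) (nat_lit 196880) (Net.cons (nat_lit 4) (nat_lit 131328) (Net.cons (nat_lit 8) (nat_lit 3) (Net.cons (nat_lit 16) (nat_lit 15) (Net.cons (nat_lit 8) (nat_lit 83) (Net.cons (nat_lit 4) (nat_lit 133378) (Net.cons (nat_lit 2) (nat_lit 196880) (Net.cons (nat_lit 1) (nat_lit 0x144410) Net.nil)))))))))

theorem p_g104_ok : Net.ok 24 p_g104 = true := by decide +kernel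

noncomputable def p_g105 : Net := (Net.cons (nat_lit 1) (nat_lit 0x505050) (Net.cons (nat_lit 2) (nat_lit 0x310110) (Net.cons (nat_lit 4) (nat_lit 395264) (Net.cons (nat_lit 8) (nat_lit 100) (Net.cons (nat_lit 16) (nat_lit 125) (Net.cons (nat_lit 8) (nat_lit 107) (Net.cons (nat_lit 4) (nat_lit 985605) (Net.cons (nat_lit 2) (nat_lit 0x332002) (Net.cons (nat_lit 1) (nat_lit 0x501040) Net.nil)))))))))

theorem p_g105_ok : Net.ok 24 p_g105 = true := by decide +kernel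

noncomputable def p_g106 : Net := (Net.cons (nat_lit 1) (nat_lit 0x415004) (Net.cons (nat_lit 2) (nat_lit 0x220200) (Net.cons (nat_lit 4) (nat_lit 262400) (Net.cons (nat_lit 8) (nat_lit 67) (Net.cons (nat_lit 16) (nat_lit 211) (Net.cons (nat_lit 8) (nat_lit 77) (Net.cons (nat_lit 4) (nat_lit 265222) (Net.cons (nat_lit 2) (nat_lit 73986) (Net.cons (nat_lit 1) (nat_lit 0x411000) Net.nil)))))))))

theorem p_g106_ok : Net.ok 24 p_g106 = true := by decide +kernel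

noncomputable def p_g107 : Net := (Net.cons (nat_lit 1) (nat_lit 0x450114) (Net.cons (nat_lit 2) (nat_lit 0x110020) (Net.cons (nat_lit 4) (nat_lit 67072) (Net.cons (nat_lit 8) (nat_lit 10) (Net.cons (nat_lit 16) (nat_lit 30) (Net.cons (nat_lit 8) (nat_lit 140) (Net.cons (nat_lit 4) (nat_lit 330508) (Net.cons (nat_lit 2) (nat_lit 0x322130) (Net.cons (nat_lit 1) (nat_lit 0x444514) Net.nil)))))))))

theorem p_g107_ok : Net.ok 24 p_g107 = true := by decide +kernel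

noncomputable def p_g108 : Net := (Net.cons (nat_lit 1) (nat_lit 0x455510) (Net.cons (nat_lit 2) (nat_lit 0x133000) (Net.cons (nat_lit 4) (nat_lit 198400) (Net.cons (nat_lit 8) (nat_lit 20) (Net.cons (nat_lit 16) (nat_lit 94) (Net.cons (nat_lit 8) (nat_lit 78) (Net.cons (nat_lit 4) (nat_lit 854534) (Net.cons (nat_lit 2) (nat_lit 0x311112) (Net.cons (nat_lit 1) (nat_lit 0x550114) Net.nil)))))))))

theorem p_g108_ok : Net.ok 24 p_g108 = true := by decide +kernel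

noncomputable def p_g109 : Net := (Net.cons (nat_lit 1) (nat_lit 81920) (Net.cons (nat_lit 2) (nat_lit 205088) (Net.cons (nat_lit 4) (nat_lit 984832) (Net.cons (nat_lit 8) (nat_lit 33) (Net.cons (nat_lit 16) (nat_lit 225) (Net.cons (nat_lit 8) (nat_lit 63) (Net.cons (nat_lit 4) (nat_lit 984832) (Net.cons (nat_lit 2) (nat_lit 205088) (Net.cons (nat_lit 1) (nat_lit 81920) Net.nil)))))))))

theorem p_g109_ok : Net.ok 24 p_g109 = true := by decide +kernel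

noncomputable def p_g110 : Net := (Net.cons (nat_lit 1) (nat_lit 267264) (Net.cons (nat_lit 2) (nat_lit 0x100000) (Net.cons (nat_lit 4) (nat_lit 200192) (Net.cons (nat_lit 8) (nat_lit 4) (Net.cons (nat_lit 16) (nat_lit 116) (Net.cons (nat_lit 8) (nat_lit 74) (Net.cons (nat_lit 4) (nat_lit 461316) (Net.cons (nat_lit 2) (nat_lit 0x110210) (Net.cons (nat_lit 1) (nat_lit 267264) Net.nil)))))))))

theorem p_g110_ok : Net.ok 24 p_g110 = true := by decide +kernel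

noncomputable def p_g111 : Net := (Net.cons (nat_lit 1) (nat_lit 0x101100) (Net.cons (nat_lit 2) (nat_lit 0x200100) (Net.cons (nat_lit 4) (nat_lit 2560) (Net.cons (nat_lit 8) (nat_lit 129) (Net.cons (nat_lit 16) (nat_lit 129) (Net.cons (nat_lit 8) (nat_lit 207) (Net.cons (nat_lit 4) (nat_lit 3588) (Net.cons (nat_lit 2) (nat_lit 0x222102) (Net.cons (nat_lit 1) (nat_lit 0x101110) Net.nil)))))))))

theorem p_g111_ok : Net.ok 24 p_g111 = true := by decide +kernel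

noncomputable def nt_c2_K : List Net := [p_g105, p_g106, p_g107, p_g108, p_g109, p_g104, p_g110, p_g111]

theorem nt_c2_K_ok : okE 24 nt_c2_K = true := (okE_cons.2 ⟨p_g105_ok, (okE_cons.2 ⟨p_g106_ok, (okE_cons.2 ⟨p_g107_ok, (okE_cons.2 ⟨p_g108_ok, (okE_cons.2 ⟨p_g109_ok, (okE_cons.2 ⟨p_g104_ok, (okE_cons.2 ⟨p_g110_ok, (okE_cons.2 ⟨p_g111_ok, (okE_nil 24)⟩)⟩)⟩)⟩)⟩)⟩)⟩)⟩)

noncomputable def nt_c2_cnt_EG : List Net := [p_g59, p_g60, p_g61, p_g62, p_g53, p_g54, p_g55, p_g56, p_g50, p_g45, p_g46, p_g47, p_g42, p_g33, p_g39, p_g36, p_g32, p_g29, p_g25, p_g26, p_g22, p_g1, p_g2]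

theorem nt_c2_cnt_EG_ok : okE 24 nt_c2_cnt_EG = true := (okE_cons.2 ⟨p_g59_ok, (okE_cons.2 ⟨p_g60_ok, (okE_cons.2 ⟨p_g61_ok, (okE_cons.2 ⟨p_g62_ok, (okE_cons.2 ⟨p_g53_ok, (okE_cons.2 ⟨p_g54_ok, (okE_cons.2 ⟨p_g55_ok, (okE_cons.2 ⟨p_g56_ok, (okE_cons.2 ⟨p_g50_ok, (okE_cons.2 ⟨p_g45_ok, (okE_cons.2 ⟨p_g46_ok, (okE_cons.2 ⟨p_g47_ok, (okE_cons.2 ⟨p_g42_ok, (okE_cons.2 ⟨p_g33_ok, (okE_cons.2 ⟨p_g39_ok, (okE_cons.2 ⟨p_g36_ok, (okE_cons.2 ⟨p_g32_ok, (okE_cons.2 ⟨p_g29_ok, (okE_cons.2 ⟨p_g25_ok, (okE_cons.2 ⟨p_g26_ok, (okE_cons.2 ⟨p_g22_ok, (okE_cons.2 ⟨p_g1_ok, (okE_cons.2 ⟨p_g2_ok, (okE_nil 24)⟩)⟩)⟩)⟩)⟩)⟩)⟩)⟩)⟩)⟩)⟩)⟩)⟩)⟩)⟩)⟩)⟩)⟩)⟩)⟩)⟩)⟩)⟩)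

noncomputable def p_g113 : Net := (Net.cons (nat_lit 1) (nat_lit 0x145000) (Net.cons (nat_lit 2) (nat_lit 0x203310) (Net.cons (nat_lit 4) (nat_lit 394496) (Net.cons (nat_lit 8) (nat_lit 20) (Net.cons (nat_lit 16) (nat_lit 63) (Net.cons (nat_lit 8) (nat_lit 40) (Net.cons (nat_lit 4) (nat_lit 592384) (Net.cons (nat_lit 2) (nat_lit 0x103320) (Net.cons (nat_lit 1) (nat_lit 0x410555) Net.nil)))))))))

theorem p_g113_ok : Net.ok 24 p_g113 = true := by decide +kernel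

noncomputable def p_g114 : Net := (Net.cons (nat_lit 1) (nat_lit 282688) (Net.cons (nat_lit 2) (nat_lit 135696) (Net.cons (nat_lit 4) (nat_lit 2048) (Net.cons (nat_lit 8) (nat_lit 128) (Net.cons (nat_lit 16) (nat_lit 251) (Net.cons (nat_lit 8) (nat_lit 104) (Net.cons (nat_lit 4) (nat_lit 197643) (Net.cons (nat_lit 2) (nat_lit 0x130002) (Net.cons (nat_lit 1) (nat_lit 0x444155) Net.nil)))))))))

theorem p_g114_ok : Net.ok 24 p_g114 = true := by decide +kernel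

noncomputable def p_g115 : Net := (Net.cons (nat_lit 1) (nat_lit 82180) (Net.cons (nat_lit 2) (nat_lit 0x122120) (Net.cons (nat_lit 4) (nat_lit 720896) (Net.cons (nat_lit 8) (nat_lit 1) (Net.cons (nat_lit 16) (nat_lit 163) (Net.cons (nat_lit 8) (nat_lit 229) (Net.cons (nat_lit 4) (nat_lit 852748) (Net.cons (nat_lit 2) (nat_lit 205600) (Net.cons (nat_lit 1) (nat_lit 328784) Net.nil)))))))))

theorem p_g115_ok : Net.ok 24 p_g115 = true := by decide +kernel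

noncomputable def p_g116 : Net := (Net.cons (nat_lit 1) (nat_lit 21508) (Net.cons (nat_lit 2) (nat_lit 0x123100) (Net.cons (nat_lit 4) (nat_lit 458752) (Net.cons (nat_lit 8) (nat_lit 20) (Net.cons (nat_lit 16) (nat_lit 52) (Net.cons (nat_lit 8) (nat_lit 124) (Net.cons (nat_lit 4) (nat_lit 67840) (Net.cons (nat_lit 2) (nat_lit 0x132032) (Net.cons (nat_lit 1) (nat_lit 0x111554) Net.nil)))))))))

theorem p_g116_ok : Net.ok 24 p_g116 = true := by decide +kernel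

noncomputable def p_g117 : Net := (Net.cons (nat_lit 1) (nat_lit 0x104400) (Net.cons (nat_lit 2) (nat_lit 78080) (Net.cons (nat_lit 4) (nat_lit 393216) (Net.cons (nat_lit 8) (nat_lit 67) (Net.cons (nat_lit 16) (nat_lit 99) (Net.cons (nat_lit 8) (nat_lit 33) (Net.cons (nat_lit 4) (nat_lit 393220) (Net.cons (nat_lit 2) (nat_lit 204848) (Net.cons (nat_lit 1) (nat_lit 69712) Net.nil)))))))))

theorem p_g117_ok : Net.ok 24 p_g117 = true := by decide +kernel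

noncomputable def nt_c3_K : List Net := [p_g114, p_g115, p_g116, p_g117]

theorem nt_c3_K_ok : okE 24 nt_c3_K = true := (okE_cons.2 ⟨p_g114_ok, (okE_cons.2 ⟨p_g115_ok, (okE_cons.2 ⟨p_g116_ok, (okE_cons.2 ⟨p_g117_ok, (okE_nil 24)⟩)⟩)⟩)⟩)

noncomputable def p_V119 : List Net := [p_g50]

theorem p_V119_ok : okE 24 p_V119 = true := (okE_cons.2 ⟨p_g50_ok, (okE_nil 24)⟩)

noncomputable def p_V121 : List Net := []

theorem p_V121_ok : okE 24 p_V121 = true := (okE_nil 24)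

noncomputable def nt_c3_cnt_EG : List Net := [p_g42, p_g33, p_g39, p_g50, p_g45, p_g46, p_g47, p_g59, p_g60, p_g61, p_g62, p_g53, p_g54, p_g55, p_g56, p_g36, p_g32, p_g29, p_g25, p_g26, p_g22, p_g1, p_g2]

theorem nt_c3_cnt_EG_ok : okE 24 nt_c3_cnt_EG = true := (okE_cons.2 ⟨p_g42_ok, (okE_cons.2 ⟨p_g33_ok, (okE_cons.2 ⟨p_g39_ok, (okE_cons.2 ⟨p_g50_ok, (okE_cons.2 ⟨p_g45_ok, (okE_cons.2 ⟨p_g46_ok, (okE_cons.2 ⟨p_g47_ok, (okE_cons.2 ⟨p_g59_ok, (okE_cons.2 ⟨p_g60_ok, (okE_cons.2 ⟨p_g61_ok, (okE_cons.2 ⟨p_g62_ok, (okE_cons.2 ⟨p_g53_ok, (okE_cons.2 ⟨p_g54_ok, (okE_cons.2 ⟨p_g55_ok, (okE_cons.2 ⟨p_g56_ok, (okE_cons.2 ⟨p_g36_ok, (okE_cons.2 ⟨p_g32_ok, (okE_cons.2 ⟨p_g29_ok, (okE_cons.2 ⟨p_g25_ok, (okE_cons.2 ⟨p_g26_ok, (okE_cons.2 ⟨p_g22_ok, (okE_cons.2 ⟨p_g1_ok, (okE_cons.2 ⟨p_g2_ok, (okE_nil 24)⟩)⟩)⟩)⟩)⟩)⟩)⟩)⟩)⟩)⟩)⟩)⟩)⟩)⟩)⟩)⟩)⟩)⟩)⟩)⟩)⟩)⟩)⟩)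

noncomputable def p_g122 : Net := (Net.cons (nat_lit 1) (nat_lit 0x405140) (Net.cons (nat_lit 2) (nat_lit 0x111020) (Net.cons (nat_lit 4) (nat_lit 512) (Net.cons (nat_lit 8) (nat_lit 64) (Net.cons (nat_lit 16) (nat_lit 68) (Net.cons (nat_lit 8) (nat_lit 40) (Net.cons (nat_lit 4) (nat_lit 527362) (Net.cons (nat_lit 2) (nat_lit 0x121120) (Net.cons (nat_lit 1) (nat_lit 0x404000) Net.nil)))))))))

theorem p_g122_ok : Net.ok 24 p_g122 = true := by decide +kernel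

noncomputable def p_g123 : Net := (Net.cons (nat_lit 1) (nat_lit 0x110450) (Net.cons (nat_lit 2) (nat_lit 0x110200) (Net.cons (nat_lit 4) (nat_lit 198912) (Net.cons (nat_lit 8) (nat_lit 56) (Net.cons (nat_lit 16) (nat_lit 253) (Net.cons (nat_lit 8) (nat_lit 33) (Net.cons (nat_lit 4) (nat_lit 984072) (Net.cons (nat_lit 2) (nat_lit 0x321213) (Net.cons (nat_lit 1) (nat_lit 0x404005) Net.nil)))))))))

theorem p_g123_ok : Net.ok 24 p_g123 = true := by decide +kernel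

noncomputable def p_g124 : Net := (Net.cons (nat_lit 1) (nat_lit 0x510140) (Net.cons (nat_lit 2) (nat_lit 0x311300) (Net.cons (nat_lit 4) (nat_lit 720896) (Net.cons (nat_lit 8) (nat_lit 32) (Net.cons (nat_lit 16) (nat_lit 165) (Net.cons (nat_lit 8) (nat_lit 200) (Net.cons (nat_lit 4) (nat_lit 197638) (Net.cons (nat_lit 2) (nat_lit 0x102122) (Net.cons (nat_lit 1) (nat_lit 0x500404) Net.nil)))))))))

theorem p_g124_ok : Net.ok 24 p_g124 = true := by decide +kernel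

noncomputable def p_g125 : Net := (Net.cons (nat_lit 1) (nat_lit 0x540500) (Net.cons (nat_lit 2) (nat_lit 0x202200) (Net.cons (nat_lit 4) (nat_lit 65536) (Net.cons (nat_lit 8) (nat_lit 40) (Net.cons (nat_lit 16) (nat_lit 239) (Net.cons (nat_lit 8) (nat_lit 161) (Net.cons (nat_lit 4) (nat_lit 66308) (Net.cons (nat_lit 2) (nat_lit 0x133101) (Net.cons (nat_lit 1) (nat_lit 0x404544) Net.nil)))))))))

theorem p_g125_ok : Net.ok 24 p_g125 = true := by decide +kernel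

noncomputable def nt_c4_K : List Net := [p_g123, p_g124, p_g125, p_g122]

theorem nt_c4_K_ok : okE 24 nt_c4_K = true := (okE_cons.2 ⟨p_g123_ok, (okE_cons.2 ⟨p_g124_ok, (okE_cons.2 ⟨p_g125_ok, (okE_cons.2 ⟨p_g122_ok, (okE_nil 24)⟩)⟩)⟩)⟩)

noncomputable def p_g127 : Net := (Net.cons (nat_lit 1) (nat_lit 0x500440) (Net.cons (nat_lit 2) (nat_lit 0x120310) (Net.cons (nat_lit 4) (nat_lit 132096) (Net.cons (nat_lit 8) (nat_lit 20) (Net.cons (nat_lit 16) (nat_lit 117) (Net.cons (nat_lit 8) (nat_lit 7) (Net.cons (nat_lit 4) (nat_lit 722177) (Net.cons (nat_lit 2) (nat_lit 0x120310) (Net.cons (nat_lit 1) (nat_lit 0x500440) Net.nil)))))))))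

theorem p_g127_ok : Net.ok 24 p_g127 = true := by decide +kernel

noncomputable def p_V128 : List Net := [p_g127]

theorem p_V128_ok : okE 24 p_V128 = true := (okE_cons.2 ⟨p_g127_ok, (okE_nil 24)⟩)

noncomputable def p_V130 : List Net := []

theorem p_V130_ok : okE 24 p_V130 = true := (okE_nil 24)

noncomputable def nt_c4_cnt_EG : List Net := [p_g81, p_g82, p_g83, p_g80, p_g79, p_g22, p_g1, p_g2, p_g29, p_g25, p_g26, p_g36, p_g32, p_g42, p_g33, p_g39, p_g50, p_g45, p_g46, p_g47, p_g59, p_g60, p_g61, p_g62, p_g53, p_g54, p_g55, p_g56, p_g127]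

theorem nt_c4_cnt_EG_ok : okE 24 nt_c4_cnt_EG = true := (okE_cons.2 ⟨p_g81_ok, (okE_cons.2 ⟨p_g82_ok, (okE_cons.2 ⟨p_g83_ok, (okE_cons.2 ⟨p_g80_ok, (okE_cons.2 ⟨p_g79_ok, (okE_cons.2 ⟨p_g22_ok, (okE_cons.2 ⟨p_g1_ok, (okE_cons.2 ⟨p_g2_ok, (okE_cons.2 ⟨p_g29_ok, (okE_cons.2 ⟨p_g25_ok, (okE_cons.2 ⟨p_g26_ok, (okE_cons.2 ⟨p_g36_ok, (okE_cons.2 ⟨p_g32_ok, (okE_cons.2 ⟨p_g42_ok, (okE_cons.2 ⟨p_g33_ok, (okE_cons.2 ⟨p_g39_ok, (okE_cons.2 ⟨p_g50_ok, (okE_cons.2 ⟨p_g45_ok, (okE_cons.2 ⟨p_g46_ok, (okE_cons.2 ⟨p_g47_ok, (okE_cons.2 ⟨p_g59_ok, (okE_cons.2 ⟨p_g60_ok, (okE_cons.2 ⟨p_g61_ok, (okE_cons.2 ⟨p_g62_ok, (okE_cons.2 ⟨p_g53_ok, (okE_cons.2 ⟨p_g54_ok, (okE_cons.2 ⟨p_g55_ok, (okE_cons.2 ⟨p_g56_ok, (okE_cons.2 ⟨p_g127_ok, (okE_nil 24)⟩)⟩)⟩)⟩)⟩)⟩)⟩)⟩)⟩)⟩)⟩)⟩)⟩)⟩)⟩)⟩)⟩)⟩)⟩)⟩)⟩)⟩)⟩)⟩)⟩)⟩)⟩)⟩)⟩)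

noncomputable def p_g131 : Net := (Net.cons (nat_lit 1) (nat_lit 81920) (Net.cons (nat_lit 2) (nat_lit 784) (Net.cons (nat_lit 4) (nat_lit 331264) (Net.cons (nat_lit 8) (nat_lit 74) (Net.cons (nat_lit 16) (nat_lit 255) (Net.cons (nat_lit 8) (nat_lit 54) (Net.cons (nat_lit 4) (nat_lit 722443) (Net.cons (nat_lit 2) (nat_lit 0x301022) (Net.cons (nat_lit 1) (nat_lit 0x541555) Net.nil)))))))))

theorem p_g131_ok : Net.ok 24 p_g131 = true := by decide +kernel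

noncomputable def p_g132 : Net := (Net.cons (nat_lit 1) (nat_lit 0x144440) (Net.cons (nat_lit 2) (nat_lit 0x310230) (Net.cons (nat_lit 4) (nat_lit 393216) (Net.cons (nat_lit 8) (nat_lit 49) (Net.cons (nat_lit 16) (nat_lit 117) (Net.cons (nat_lit 8) (nat_lit 141) (Net.cons (nat_lit 4) (nat_lit 722694) (Net.cons (nat_lit 2) (nat_lit 0x333210) (Net.cons (nat_lit 1) (nat_lit 331856) Net.nil)))))))))

theorem p_g132_ok : Net.ok 24 p_g132 = true := by decide +kernel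

noncomputable def p_g133 : Net := (Net.cons (nat_lit 2) (nat_lit 197376) (Net.cons (nat_lit 4) (nat_lit 199424) (Net.cons (nat_lit 8) (nat_lit 7) (Net.cons (nat_lit 16) (nat_lit 79) (Net.cons (nat_lit 8) (nat_lit 127) (Net.cons (nat_lit 4) (nat_lit 462342) (Net.cons (nat_lit 2) (nat_lit 65792) (Net.cons (nat_lit 1) (nat_lit 65540) Net.nil))))))))

theorem p_g133_ok : Net.ok 24 p_g133 = true := by decide +kernel

noncomputable def p_g134 : Net := (Net.cons (nat_lit 1) (nat_lit 0x140140) (Net.cons (nat_lit 4) (nat_lit 131328) (Net.cons (nat_lit 8) (nat_lit 4) (Net.cons (nat_lit 16) (nat_lit 6) (Net.cons (nat_lit 8) (nat_lit 20) (Net.cons (nat_lit 4) (nat_lit 133376) (Net.cons (nat_lit 2) (nat_lit 4128) (Net.cons (nat_lit 1) (nat_lit 0x150144) Net.nil))))))))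

theorem p_g134_ok : Net.ok 24 p_g134 = true := by decide +kernel

noncomputable def p_g135 : Net := (Net.cons (nat_lit 1) (nat_lit 272) (Net.cons (nat_lit 2) (nat_lit 288) (Net.cons (nat_lit 4) (nat_lit 524288) (Net.cons (nat_lit 8) (nat_lit 128) (Net.cons (nat_lit 16) (nat_lit 130) (Net.cons (nat_lit 8) (nat_lit 212) (Net.cons (nat_lit 4) (nat_lit 589832) (Net.cons (nat_lit 2) (nat_lit 288) (Net.cons (nat_lit 1) (nat_lit 1296) Net.nil)))))))))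

theorem p_g135_ok : Net.ok 24 p_g135 = true := by decide +kernel

noncomputable def nt_c5_K : List Net := [p_g131, p_g132, p_g133, p_g104, p_g134, p_g135]

theorem nt_c5_K_ok : okE 24 nt_c5_K = true := (okE_cons.2 ⟨p_g131_ok, (okE_cons.2 ⟨p_g132_ok, (okE_cons.2 ⟨p_g133_ok, (okE_cons.2 ⟨p_g104_ok, (okE_cons.2 ⟨p_g134_ok, (okE_cons.2 ⟨p_g135_ok, (okE_nil 24)⟩)⟩)⟩)⟩)⟩)⟩)

noncomputable def nt_c5_cnt_EG : List Net := [p_g59, p_g60, p_g61, p_g62, p_g53, p_g54, p_g55, p_g56, p_g50, p_g45, p_g46, p_g47, p_g42, p_g33, p_g39, p_g36, p_g32, p_g29, p_g25, p_g26, p_g22, p_g1, p_g2]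

theorem nt_c5_cnt_EG_ok : okE 24 nt_c5_cnt_EG = true := (okE_cons.2 ⟨p_g59_ok, (okE_cons.2 ⟨p_g60_ok, (okE_cons.2 ⟨p_g61_ok, (okE_cons.2 ⟨p_g62_ok, (okE_cons.2 ⟨p_g53_ok, (okE_cons.2 ⟨p_g54_ok, (okE_cons.2 ⟨p_g55_ok, (okE_cons.2 ⟨p_g56_ok, (okE_cons.2 ⟨p_g50_ok, (okE_cons.2 ⟨p_g45_ok, (okE_cons.2 ⟨p_g46_ok, (okE_cons.2 ⟨p_g47_ok, (okE_cons.2 ⟨p_g42_ok, (okE_cons.2 ⟨p_g33_ok, (okE_cons.2 ⟨p_g39_ok, (okE_cons.2 ⟨p_g36_ok, (okE_cons.2 ⟨p_g32_ok, (okE_cons.2 ⟨p_g29_ok, (okE_cons.2 ⟨p_g25_ok, (okE_cons.2 ⟨p_g26_ok, (okE_cons.2 ⟨p_g22_ok, (okE_cons.2 ⟨p_g1_ok, (okE_cons.2 ⟨p_g2_ok, (okE_nil 24)⟩)⟩)⟩)⟩)⟩)⟩)⟩)⟩)⟩)⟩)⟩)⟩)⟩)⟩)⟩)⟩)⟩)⟩)⟩)⟩)⟩)⟩)⟩)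

noncomputable def p_g137 : Net := (Net.cons (nat_lit 1) (nat_lit 20756) (Net.cons (nat_lit 2) (nat_lit 0x230000) (Net.cons (nat_lit 8) (nat_lit 8) (Net.cons (nat_lit 16) (nat_lit 28) (Net.cons (nat_lit 8) (nat_lit 238) (Net.cons (nat_lit 4) (nat_lit 592910) (Net.cons (nat_lit 2) (nat_lit 0x202332) (Net.cons (nat_lit 1) (nat_lit 0x145500) Net.nil))))))))

theorem p_g137_ok : Net.ok 24 p_g137 = true := by decide +kernel

noncomputable def p_g138 : Net := (Net.cons (nat_lit 1) (nat_lit 0x411004) (Net.cons (nat_lit 2) (nat_lit 0x310200) (Net.cons (nat_lit 4) (nat_lit 2304) (Net.cons (nat_lit 8) (nat_lit 88) (Net.cons (nat_lit 16) (nat_lit 217) (Net.cons (nat_lit 8) (nat_lit 128) (Net.cons (nat_lit 4) (nat_lit 67851) (Net.cons (nat_lit 2) (nat_lit 0x332332) (Net.cons (nat_lit 1) (nat_lit 0x401540) Net.nil)))))))))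

theorem p_g138_ok : Net.ok 24 p_g138 = true := by decide +kernel

noncomputable def p_g139 : Net := (Net.cons (nat_lit 1) (nat_lit 0x454504) (Net.cons (nat_lit 2) (nat_lit 0x110210) (Net.cons (nat_lit 4) (nat_lit 65536) (Net.cons (nat_lit 8) (nat_lit 18) (Net.cons (nat_lit 16) (nat_lit 23) (Net.cons (nat_lit 8) (nat_lit 218) (Net.cons (nat_lit 4) (nat_lit 67594) (Net.cons (nat_lit 2) (nat_lit 0x110210) (Net.cons (nat_lit 1) (nat_lit 0x454504) Net.nil)))))))))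

theorem p_g139_ok : Net.ok 24 p_g139 = true := by decide +kernel

noncomputable def p_g140 : Net := (Net.cons (nat_lit 1) (nat_lit 0x440140) (Net.cons (nat_lit 2) (nat_lit 0x123000) (Net.cons (nat_lit 4) (nat_lit 330240) (Net.cons (nat_lit 8) (nat_lit 88) (Net.cons (nat_lit 16) (nat_lit 217) (Net.cons (nat_lit 8) (nat_lit 222) (Net.cons (nat_lit 4) (nat_lit 591626) (Net.cons (nat_lit 2) (nat_lit 0x122100) (Net.cons (nat_lit 1) (nat_lit 0x440150) Net.nil)))))))))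

theorem p_g140_ok : Net.ok 24 p_g140 = true := by decide +kernel

noncomputable def p_g141 : Net := (Net.cons (nat_lit 1) (nat_lit 328960) (Net.cons (nat_lit 2) (nat_lit 0x210200) (Net.cons (nat_lit 4) (nat_lit 199168) (Net.cons (nat_lit 8) (nat_lit 18) (Net.cons (nat_lit 16) (nat_lit 115) (Net.cons (nat_lit 8) (nat_lit 105) (Net.cons (nat_lit 4) (nat_lit 198661) (Net.cons (nat_lit 2) (nat_lit 0x303311) (Net.cons (nat_lit 1) (nat_lit 0x451515) Net.nil)))))))))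

theorem p_g141_ok : Net.ok 24 p_g141 = true := by decide +kernel

noncomputable def nt_c6_K : List Net := [p_g137, p_g138, p_g139, p_g140, p_g141]

theorem nt_c6_K_ok : okE 24 nt_c6_K = true := (okE_cons.2 ⟨p_g137_ok, (okE_cons.2 ⟨p_g138_ok, (okE_cons.2 ⟨p_g139_ok, (okE_cons.2 ⟨p_g140_ok, (okE_cons.2 ⟨p_g141_ok, (okE_nil 24)⟩)⟩)⟩)⟩)⟩)

noncomputable def p_g143 : Net := (Net.cons (nat_lit 1) (nat_lit 345156) (Net.cons (nat_lit 2) (nat_lit 0x110000) (Net.cons (nat_lit 4) (nat_lit 526336) (Net.cons (nat_lit 8) (nat_lit 40) (Net.cons (nat_lit 16) (nat_lit 61) (Net.cons (nat_lit 8) (nat_lit 68) (Net.cons (nat_lit 4) (nat_lit 590853) (Net.cons (nat_lit 2) (nat_lit 0x331003) (Net.cons (nat_lit 1) (nat_lit 0x411445) Net.nil)))))))))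

theorem p_g143_ok : Net.ok 24 p_g143 = true := by decide +kernel

noncomputable def p_g144 : Net := (Net.cons (nat_lit 1) (nat_lit 0x440014) (Net.cons (nat_lit 2) (nat_lit 0x323010) (Net.cons (nat_lit 4) (nat_lit 65536) (Net.cons (nat_lit 8) (nat_lit 128) (Net.cons (nat_lit 16) (nat_lit 167) (Net.cons (nat_lit 8) (nat_lit 44) (Net.cons (nat_lit 4) (nat_lit 592908) (Net.cons (nat_lit 2) (nat_lit 0x300012) (Net.cons (nat_lit 1) (nat_lit 0x455004) Net.nil)))))))))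

theorem p_g144_ok : Net.ok 24 p_g144 = true := by decide +kernel

noncomputable def p_g145 : Net := (Net.cons (nat_lit 1) (nat_lit 0x405440) (Net.cons (nat_lit 2) (nat_lit 0x102000) (Net.cons (nat_lit 4) (nat_lit 590848) (Net.cons (nat_lit 8) (nat_lit 8) (Net.cons (nat_lit 16) (nat_lit 11) (Net.cons (nat_lit 8) (nat_lit 104) (Net.cons (nat_lit 4) (nat_lit 590848) (Net.cons (nat_lit 2) (nat_lit 0x103000) (Net.cons (nat_lit 1) (nat_lit 0x445444) Net.nil)))))))))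

theorem p_g145_ok : Net.ok 24 p_g145 = true := by decide +kernel

noncomputable def p_V146 : List Net := [p_g143, p_g144, p_g145]

theorem p_V146_ok : okE 24 p_V146 = true := (okE_cons.2 ⟨p_g143_ok, (okE_cons.2 ⟨p_g144_ok, (okE_cons.2 ⟨p_g145_ok, (okE_nil 24)⟩)⟩)⟩)

noncomputable def p_V148 : List Net := [p_g145]

theorem p_V148_ok : okE 24 p_V148 = true := (okE_cons.2 ⟨p_g145_ok, (okE_nil 24)⟩)

noncomputable def p_V149 : List Net := []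

theorem p_V149_ok : okE 24 p_V149 = true := (okE_nil 24)

noncomputable def nt_c6_cnt_EG : List Net := [p_g143, p_g144, p_g145, p_g81, p_g82, p_g83, p_g80, p_g79, p_g22, p_g1, p_g2, p_g29, p_g25, p_g26, p_g36, p_g32, p_g42, p_g33, p_g39, p_g50, p_g45, p_g46, p_g47, p_g59, p_g60, p_g61, p_g62, p_g53, p_g54, p_g55, p_g56]

theorem nt_c6_cnt_EG_ok : okE 24 nt_c6_cnt_EG = true := (okE_cons.2 ⟨p_g143_ok, (okE_cons.2 ⟨p_g144_ok, (okE_cons.2 ⟨p_g145_ok, (okE_cons.2 ⟨p_g81_ok, (okE_cons.2 ⟨p_g82_ok, (okE_cons.2 ⟨p_g83_ok, (okE_cons.2 ⟨p_g80_ok, (okE_cons.2 ⟨p_g79_ok, (okE_cons.2 ⟨p_g22_ok, (okE_cons.2 ⟨p_g1_ok, (okE_cons.2 ⟨p_g2_ok, (okE_cons.2 ⟨p_g29_ok, (okE_cons.2 ⟨p_g25_ok, (okE_cons.2 ⟨p_g26_ok, (okE_cons.2 ⟨p_g36_ok, (okE_cons.2 ⟨p_g32_ok, (okE_cons.2 ⟨p_g42_ok, (okE_cons.2 ⟨p_g33_ok, (okE_cons.2 ⟨p_g39_ok, (okE_cons.2 ⟨p_g50_ok, (okE_cons.2 ⟨p_g45_ok,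 (okE_cons.2 ⟨p_g46_ok, (okE_cons.2 ⟨p_g47_ok, (okE_cons.2 ⟨p_g59_ok, (okE_cons.2 ⟨p_g60_ok, (okE_cons.2 ⟨p_g61_ok, (okE_cons.2 ⟨p_g62_ok, (okE_cons.2 ⟨p_g53_ok, (okE_cons.2 ⟨p_g54_ok, (okE_cons.2 ⟨p_g55_ok, (okE_cons.2 ⟨p_g56_ok, (okE_nil 24)⟩)⟩)⟩)⟩)⟩)⟩)⟩)⟩)⟩)⟩)⟩)⟩)⟩)⟩)⟩)⟩)⟩)⟩)⟩)⟩)⟩)⟩)⟩)⟩)⟩)⟩)⟩)⟩)⟩)⟩)⟩)

noncomputable def p_g150 : Net := (Net.cons (nat_lit 1) (nat_lit 0x104040) (Net.cons (nat_lit 2) (nat_lit 0x121100) (Net.cons (nat_lit 4) (nat_lit 200192) (Net.cons (nat_lit 8) (nat_lit 146) (Net.cons (nat_lit 16) (nat_lit 155) (Net.cons (nat_lit 8) (nat_lit 13) (Net.cons (nat_lit 4) (nat_lit 200458) (Net.cons (nat_lit 2) (nat_lit 0x302322) (Net.cons (nat_lit 1) (nat_lit 0x505055) Net.nil)))))))))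

theorem p_g150_ok : Net.ok 24 p_g150 = true := by decide +kernel

noncomputable def p_g151 : Net := (Net.cons (nat_lit 1) (nat_lit 0x440100) (Net.cons (nat_lit 2) (nat_lit 0x202200) (Net.cons (nat_lit 4) (nat_lit 262656) (Net.cons (nat_lit 8) (nat_lit 74) (Net.cons (nat_lit 16) (nat_lit 207) (Net.cons (nat_lit 8) (nat_lit 73) (Net.cons (nat_lit 4) (nat_lit 590082) (Net.cons (nat_lit 2) (nat_lit 0x302313) (Net.cons (nat_lit 1) (nat_lit 0x440110) Net.nil)))))))))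

theorem p_g151_ok : Net.ok 24 p_g151 = true := by decide +kernel

noncomputable def p_g152 : Net := (Net.cons (nat_lit 1) (nat_lit 0x104400) (Net.cons (nat_lit 2) (nat_lit 69664) (Net.cons (nat_lit 4) (nat_lit 526336) (Net.cons (nat_lit 8) (nat_lit 1) (Net.cons (nat_lit 16) (nat_lit 181) (Net.cons (nat_lit 8) (nat_lit 195) (Net.cons (nat_lit 4) (nat_lit 524290) (Net.cons (nat_lit 2) (nat_lit 65552) (Net.cons (nat_lit 1) (nat_lit 65620) Net.nil)))))))))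

theorem p_g152_ok : Net.ok 24 p_g152 = true := by decide +kernel

noncomputable def p_g153 : Net := (Net.cons (nat_lit 1) (nat_lit 0x500040) (Net.cons (nat_lit 2) (nat_lit 0x112010) (Net.cons (nat_lit 4) (nat_lit 330496) (Net.cons (nat_lit 8) (nat_lit 96) (Net.cons (nat_lit 16) (nat_lit 97) (Net.cons (nat_lit 8) (nat_lit 246) (Net.cons (nat_lit 4) (nat_lit 330496) (Net.cons (nat_lit 2) (nat_lit 0x112010) (Net.cons (nat_lit 1) (nat_lit 0x500050) Net.nil)))))))))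

theorem p_g153_ok : Net.ok 24 p_g153 = true := by decide +kernel

noncomputable def nt_c7_K : List Net := [p_g150, p_g151, p_g152, p_g153]

theorem nt_c7_K_ok : okE 24 nt_c7_K = true := (okE_cons.2 ⟨p_g150_ok, (okE_cons.2 ⟨p_g151_ok, (okE_cons.2 ⟨p_g152_ok, (okE_cons.2 ⟨p_g153_ok, (okE_nil 24)⟩)⟩)⟩)⟩)

noncomputable def p_V155 : List Net := []

theorem p_V155_ok : okE 24 p_V155 = true := (okE_nil 24)

noncomputable def nt_c7_cnt_EG : List Net := [p_g82, p_g83, p_g81, p_g80, p_g79, p_g22, p_g1, p_g2, p_g29, p_g25, p_g26, p_g36, p_g32, p_g42, p_g33, p_g39, p_g50, p_g45, p_g46, p_g47, p_g59, p_g60, p_g61, p_g62, p_g53, p_g54, p_g55, p_g56, p_g127]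

theorem nt_c7_cnt_EG_ok : okE 24 nt_c7_cnt_EG = true := (okE_cons.2 ⟨p_g82_ok, (okE_cons.2 ⟨p_g83_ok, (okE_cons.2 ⟨p_g81_ok, (okE_cons.2 ⟨p_g80_ok, (okE_cons.2 ⟨p_g79_ok, (okE_cons.2 ⟨p_g22_ok, (okE_cons.2 ⟨p_g1_ok, (okE_cons.2 ⟨p_g2_ok, (okE_cons.2 ⟨p_g29_ok, (okE_cons.2 ⟨p_g25_ok, (okE_cons.2 ⟨p_g26_ok, (okE_cons.2 ⟨p_g36_ok, (okE_cons.2 ⟨p_g32_ok, (okE_cons.2 ⟨p_g42_ok, (okE_cons.2 ⟨p_g33_ok, (okE_cons.2 ⟨p_g39_ok, (okE_cons.2 ⟨p_g50_ok, (okE_cons.2 ⟨p_g45_ok, (okE_cons.2 ⟨p_g46_ok, (okE_cons.2 ⟨p_g47_ok, (okE_cons.2 ⟨p_g59_ok, (okE_cons.2 ⟨p_g60_ok, (okE_cons.2 ⟨p_g61_ok, (okE_cons.2 ⟨p_g62_ok, (okE_cons.2 ⟨p_g53_ok, (okE_cons.2 ⟨p_g54_ok, (okE_cons.2 ⟨p_g55_ok, (okE_cons.2 ⟨p_g56_ok, (okE_cons.2 ⟨p_g127_ok, (okE_nil 24)⟩)⟩)⟩)⟩)⟩)⟩)⟩)⟩)⟩)⟩)⟩)⟩)⟩)⟩)⟩)⟩)⟩)⟩)⟩)⟩)⟩)⟩)⟩)⟩)⟩)⟩)⟩)⟩)⟩)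

noncomputable def p_g157 : Net := (Net.cons (nat_lit 1) (nat_lit 0x404550) (Net.cons (nat_lit 2) (nat_lit 131088) (Net.cons (nat_lit 4) (nat_lit 66560) (Net.cons (nat_lit 8) (nat_lit 9) (Net.cons (nat_lit 16) (nat_lit 153) (Net.cons (nat_lit 8) (nat_lit 233) (Net.cons (nat_lit 4) (nat_lit 198150) (Net.cons (nat_lit 2) (nat_lit 131088) (Net.cons (nat_lit 1) (nat_lit 0x410554) Net.nil)))))))))

theorem p_g157_ok : Net.ok 24 p_g157 = true := by decide +kernel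

noncomputable def p_g158 : Net := (Net.cons (nat_lit 1) (nat_lit 0x451000) (Net.cons (nat_lit 2) (nat_lit 0x121000) (Net.cons (nat_lit 4) (nat_lit 66560) (Net.cons (nat_lit 8) (nat_lit 50) (Net.cons (nat_lit 16) (nat_lit 51) (Net.cons (nat_lit 8) (nat_lit 242) (Net.cons (nat_lit 4) (nat_lit 984576) (Net.cons (nat_lit 2) (nat_lit 0x121000) (Net.cons (nat_lit 1) (nat_lit 0x451000) Net.nil)))))))))

theorem p_g158_ok : Net.ok 24 p_g158 = true := by decide +kernel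

noncomputable def p_g159 : Net := (Net.cons (nat_lit 1) (nat_lit 0x410404) (Net.cons (nat_lit 2) (nat_lit 0x100110) (Net.cons (nat_lit 4) (nat_lit 591872) (Net.cons (nat_lit 8) (nat_lit 20) (Net.cons (nat_lit 16) (nat_lit 31) (Net.cons (nat_lit 8) (nat_lit 124) (Net.cons (nat_lit 4) (nat_lit 591108) (Net.cons (nat_lit 2) (nat_lit 0x113020) (Net.cons (nat_lit 1) (nat_lit 0x400010) Net.nil)))))))))

theorem p_g159_ok : Net.ok 24 p_g159 = true := by decide +kernel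

noncomputable def p_g160 : Net := (Net.cons (nat_lit 1) (nat_lit 0x455100) (Net.cons (nat_lit 2) (nat_lit 0x310020) (Net.cons (nat_lit 4) (nat_lit 65536) (Net.cons (nat_lit 8) (nat_lit 40) (Net.cons (nat_lit 16) (nat_lit 47) (Net.cons (nat_lit 8) (nat_lit 188) (Net.cons (nat_lit 4) (nat_lit 199176) (Net.cons (nat_lit 2) (nat_lit 0x333012) (Net.cons (nat_lit 1) (nat_lit 0x455504) Net.nil)))))))))

theorem p_g160_ok : Net.ok 24 p_g160 = true := by decide +kernel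

noncomputable def nt_c8_K : List Net := [p_g157, p_g158, p_g159, p_g160]

theorem nt_c8_K_ok : okE 24 nt_c8_K = true := (okE_cons.2 ⟨p_g157_ok, (okE_cons.2 ⟨p_g158_ok, (okE_cons.2 ⟨p_g159_ok, (okE_cons.2 ⟨p_g160_ok, (okE_nil 24)⟩)⟩)⟩)⟩)

noncomputable def nt_c8_cnt_EG : List Net := [p_g143, p_g144, p_g145, p_g81, p_g82, p_g83, p_g80, p_g79, p_g22, p_g1, p_g2, p_g29, p_g25, p_g26, p_g36, p_g32, p_g42, p_g33, p_g39, p_g50, p_g45, p_g46, p_g47, p_g59, p_g60, p_g61, p_g62, p_g53, p_g54, p_g55, p_g56]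

theorem nt_c8_cnt_EG_ok : okE 24 nt_c8_cnt_EG = true := (okE_cons.2 ⟨p_g143_ok, (okE_cons.2 ⟨p_g144_ok, (okE_cons.2 ⟨p_g145_ok, (okE_cons.2 ⟨p_g81_ok, (okE_cons.2 ⟨p_g82_ok, (okE_cons.2 ⟨p_g83_ok, (okE_cons.2 ⟨p_g80_ok, (okE_cons.2 ⟨p_g79_ok, (okE_cons.2 ⟨p_g22_ok, (okE_cons.2 ⟨p_g1_ok, (okE_cons.2 ⟨p_g2_ok, (okE_cons.2 ⟨p_g29_ok, (okE_cons.2 ⟨p_g25_ok, (okE_cons.2 ⟨p_g26_ok, (okE_cons.2 ⟨p_g36_ok, (okE_cons.2 ⟨p_g32_ok, (okE_cons.2 ⟨p_g42_ok, (okE_cons.2 ⟨p_g33_ok, (okE_cons.2 ⟨p_g39_ok, (okE_cons.2 ⟨p_g50_ok, (okE_cons.2 ⟨p_g45_ok, (okE_cons.2 ⟨p_g46_ok, (okE_cons.2 ⟨p_g47_ok, (okE_cons.2 ⟨p_g59_ok, (okE_cons.2 ⟨p_g60_ok, (okE_cons.2 ⟨p_g61_ok, (okE_cons.2 ⟨p_g62_ok, (okE_cons.2 ⟨p_g53_ok, (okE_cons.2 ⟨p_g54_ok, (okE_cons.2 ⟨p_g55_ok, (okE_cons.2 ⟨p_g56_ok, (okE_nil 24)⟩)⟩)⟩)⟩)⟩)⟩)⟩)⟩)⟩)⟩)⟩)⟩)⟩)⟩)⟩)⟩)⟩)⟩)⟩)⟩)⟩)⟩)⟩)⟩)⟩)⟩)⟩)⟩)⟩)⟩)⟩)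

noncomputable def p_g162 : Net := (Net.cons (nat_lit 1) (nat_lit 0x415150) (Net.cons (nat_lit 2) (nat_lit 0x100000) (Net.cons (nat_lit 4) (nat_lit 262144) (Net.cons (nat_lit 8) (nat_lit 33) (Net.cons (nat_lit 16) (nat_lit 37) (Net.cons (nat_lit 8) (nat_lit 67) (Net.cons (nat_lit 4) (nat_lit 787204) (Net.cons (nat_lit 2) (nat_lit 0x330312) (Net.cons (nat_lit 1) (nat_lit 0x454050) Net.nil)))))))))

theorem p_g162_ok : Net.ok 24 p_g162 = true := by decide +kernel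

noncomputable def p_g163 : Net := (Net.cons (nat_lit 1) (nat_lit 0x145540) (Net.cons (nat_lit 2) (nat_lit 784) (Net.cons (nat_lit 4) (nat_lit 3584) (Net.cons (nat_lit 8) (nat_lit 208) (Net.cons (nat_lit 16) (nat_lit 223) (Net.cons (nat_lit 8) (nat_lit 11) (Net.cons (nat_lit 4) (nat_lit 65804) (Net.cons (nat_lit 2) (nat_lit 0x120113) (Net.cons (nat_lit 1) (nat_lit 0x455551) Net.nil)))))))))

theorem p_g163_ok : Net.ok 24 p_g163 = true := by decide +kernel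

noncomputable def nt_c9_K : List Net := [p_g163, p_g162]

theorem nt_c9_K_ok : okE 24 nt_c9_K = true := (okE_cons.2 ⟨p_g163_ok, (okE_cons.2 ⟨p_g162_ok, (okE_nil 24)⟩)⟩)

noncomputable def nt_c9_cnt_EG : List Net := [p_g81, p_g82, p_g83, p_g80, p_g79, p_g22, p_g1, p_g2, p_g29, p_g25, p_g26, p_g36, p_g32, p_g42, p_g33, p_g39, p_g50, p_g45, p_g46, p_g47, p_g59, p_g60, p_g61, p_g62, p_g53, p_g54, p_g55, p_g56]

theorem nt_c9_cnt_EG_ok : okE 24 nt_c9_cnt_EG = true := (okE_cons.2 ⟨p_g81_ok, (okE_cons.2 ⟨p_g82_ok, (okE_cons.2 ⟨p_g83_ok, (okE_cons.2 ⟨p_g80_ok, (okE_cons.2 ⟨p_g79_ok, (okE_cons.2 ⟨p_g22_ok, (okE_cons.2 ⟨p_g1_ok, (okE_cons.2 ⟨p_g2_ok, (okE_cons.2 ⟨p_g29_ok, (okE_cons.2 ⟨p_g25_ok, (okE_cons.2 ⟨p_g26_ok, (okE_cons.2 ⟨p_g36_ok, (okE_cons.2 ⟨p_g32_ok, (okE_cons.2 ⟨p_g42_ok, (okE_cons.2 ⟨p_g33_ok, (okE_cons.2 ⟨p_g39_ok, (okE_cons.2 ⟨p_g50_ok, (okE_cons.2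 ⟨p_g45_ok, (okE_cons.2 ⟨p_g46_ok, (okE_cons.2 ⟨p_g47_ok, (okE_cons.2 ⟨p_g59_ok, (okE_cons.2 ⟨p_g60_ok, (okE_cons.2 ⟨p_g61_ok, (okE_cons.2 ⟨p_g62_ok, (okE_cons.2 ⟨p_g53_ok, (okE_cons.2 ⟨p_g54_ok, (okE_cons.2 ⟨p_g55_ok, (okE_cons.2 ⟨p_g56_ok, (okE_nil 24)⟩)⟩)⟩)⟩)⟩)⟩)⟩)⟩)⟩)⟩)⟩)⟩)⟩)⟩)⟩)⟩)⟩)⟩)⟩)⟩)⟩)⟩)⟩)⟩)⟩)⟩)⟩)⟩)

noncomputable def p_g165 : Net := (Net.cons (nat_lit 1) (nat_lit 0x510440) (Net.cons (nat_lit 2) (nat_lit 0x220200) (Net.cons (nat_lit 4) (nat_lit 788480) (Net.cons (nat_lit 8) (nat_lit 33) (Net.cons (nat_lit 16) (nat_lit 241) (Net.cons (nat_lit 8) (nat_lit 73) (Net.cons (nat_lit 4) (nat_lit 918796) (Net.cons (nat_lit 2) (nat_lit 139554) (Net.cons (nat_lit 1) (nat_lit 0x501044) Net.nil)))))))))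

theorem p_g165_ok : Net.ok 24 p_g165 = true := by decide +kernel

noncomputable def p_g166 : Net := (Net.cons (nat_lit 1) (nat_lit 0x554410) (Net.cons (nat_lit 2) (nat_lit 0x233010) (Net.cons (nat_lit 4) (nat_lit 67840) (Net.cons (nat_lit 8) (nat_lit 16) (Net.cons (nat_lit 16) (nat_lit 211) (Net.cons (nat_lit 8) (nat_lit 11) (Net.cons (nat_lit 4) (nat_lit 722693) (Net.cons (nat_lit 2) (nat_lit 0x331203) (Net.cons (nat_lit 1) (nat_lit 0x544400) Net.nil)))))))))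

theorem p_g166_ok : Net.ok 24 p_g166 = true := by decide +kernel

noncomputable def p_g167 : Net := (Net.cons (nat_lit 1) (nat_lit 0x551000) (Net.cons (nat_lit 2) (nat_lit 0x121310) (Net.cons (nat_lit 4) (nat_lit 589824) (Net.cons (nat_lit 16) (nat_lit 195) (Net.cons (nat_lit 8) (nat_lit 12) (Net.cons (nat_lit 4) (nat_lit 590592) (Net.cons (nat_lit 2) (nat_lit 0x121310) (Net.cons (nat_lit 1) (nat_lit 0x551000) Net.nil))))))))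

theorem p_g167_ok : Net.ok 24 p_g167 = true := by decide +kernel

noncomputable def nt_c10_K : List Net := [p_g165, p_g166, p_g167]

theorem nt_c10_K_ok : okE 24 nt_c10_K = true := (okE_cons.2 ⟨p_g165_ok, (okE_cons.2 ⟨p_g166_ok, (okE_cons.2 ⟨p_g167_ok, (okE_nil 24)⟩)⟩)⟩)

noncomputable def nt_c10_cnt_EG : List Net := [p_g82, p_g83, p_g81, p_g80, p_g79, p_g22, p_g1, p_g2, p_g29, p_g25, p_g26, p_g36, p_g32, p_g42, p_g33, p_g39, p_g50, p_g45, p_g46, p_g47, p_g59, p_g60, p_g61, p_g62, p_g53, p_g54, p_g55, p_g56, p_g127]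

theorem nt_c10_cnt_EG_ok : okE 24 nt_c10_cnt_EG = true := (okE_cons.2 ⟨p_g82_ok, (okE_cons.2 ⟨p_g83_ok, (okE_cons.2 ⟨p_g81_ok, (okE_cons.2 ⟨p_g80_ok, (okE_cons.2 ⟨p_g79_ok, (okE_cons.2 ⟨p_g22_ok, (okE_cons.2 ⟨p_g1_ok, (okE_cons.2 ⟨p_g2_ok, (okE_cons.2 ⟨p_g29_ok, (okE_cons.2 ⟨p_g25_ok, (okE_cons.2 ⟨p_g26_ok, (okE_cons.2 ⟨p_g36_ok, (okE_cons.2 ⟨p_g32_ok, (okE_cons.2 ⟨p_g42_ok, (okE_cons.2 ⟨p_g33_ok, (okE_cons.2 ⟨p_g39_ok, (okE_cons.2 ⟨p_g50_ok, (okE_cons.2 ⟨p_g45_ok, (okE_cons.2 ⟨p_g46_ok, (okE_cons.2 ⟨p_g47_ok, (okE_cons.2 ⟨p_g59_ok, (okE_cons.2 ⟨p_g60_ok, (okE_cons.2 ⟨p_g61_ok, (okE_cons.2 ⟨p_g62_ok, (okE_cons.2 ⟨p_g53_ok, (okE_cons.2 ⟨p_g54_ok, (okE_cons.2 ⟨p_g55_ok, (okE_cons.2 ⟨p_g56_ok, (okE_cons.2 ⟨p_g127_ok, (okE_nil 24)⟩)⟩)⟩)⟩)⟩)⟩)⟩)⟩)⟩)⟩)⟩)⟩)⟩)⟩)⟩)⟩)⟩)⟩)⟩)⟩)⟩)⟩)⟩)⟩)⟩)⟩)⟩)⟩)⟩)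

noncomputable def p_g169 : Net := (Net.cons (nat_lit 1) (nat_lit 0x104014) (Net.cons (nat_lit 2) (nat_lit 65792) (Net.cons (nat_lit 4) (nat_lit 395264) (Net.cons (nat_lit 8) (nat_lit 194) (Net.cons (nat_lit 16) (nat_lit 203) (Net.cons (nat_lit 8) (nat_lit 66) (Net.cons (nat_lit 4) (nat_lit 68365) (Net.cons (nat_lit 2) (nat_lit 0x132303) (Net.cons (nat_lit 1) (nat_lit 0x515411) Net.nil)))))))))

theorem p_g169_ok : Net.ok 24 p_g169 = true := by decide +kernel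

noncomputable def p_g170 : Net := (Net.cons (nat_lit 1) (nat_lit 0x505014) (Net.cons (nat_lit 2) (nat_lit 0x203030) (Net.cons (nat_lit 4) (nat_lit 589824) (Net.cons (nat_lit 8) (nat_lit 152) (Net.cons (nat_lit 16) (nat_lit 219) (Net.cons (nat_lit 8) (nat_lit 11) (Net.cons (nat_lit 4) (nat_lit 330509) (Net.cons (nat_lit 2) (nat_lit 0x123221) (Net.cons (nat_lit 1) (nat_lit 0x505140) Net.nil)))))))))

theorem p_g170_ok : Net.ok 24 p_g170 = true := by decide +kernel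

noncomputable def nt_c11_K : List Net := [p_g169, p_g170]

theorem nt_c11_K_ok : okE 24 nt_c11_K = true := (okE_cons.2 ⟨p_g169_ok, (okE_cons.2 ⟨p_g170_ok, (okE_nil 24)⟩)⟩)

noncomputable def nt_c11_cnt_EG : List Net := [p_g81, p_g82, p_g83, p_g80, p_g79, p_g22, p_g1, p_g2, p_g29, p_g25, p_g26, p_g36, p_g32, p_g42, p_g33, p_g39, p_g50, p_g45, p_g46, p_g47, p_g59, p_g60, p_g61, p_g62, p_g53, p_g54, p_g55, p_g56]

theorem nt_c11_cnt_EG_ok : okE 24 nt_c11_cnt_EG = true := (okE_cons.2 ⟨p_g81_ok, (okE_cons.2 ⟨p_g82_ok, (okE_cons.2 ⟨p_g83_ok, (okE_cons.2 ⟨p_g80_ok, (okE_cons.2 ⟨p_g79_ok, (okE_cons.2 ⟨p_g22_ok, (okE_cons.2 ⟨p_g1_ok, (okE_cons.2 ⟨p_g2_ok, (okE_cons.2 ⟨p_g29_ok, (okE_cons.2 ⟨p_g25_ok, (okE_cons.2 ⟨p_g26_ok, (okE_cons.2 ⟨p_g36_ok, (okE_cons.2 ⟨p_g32_ok, (okE_cons.2 ⟨p_g42_ok, (okE_cons.2 ⟨p_g33_ok, (okE_cons.2 ⟨p_g39_ok, (okE_cons.2 ⟨p_g50_ok,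 (okE_cons.2 ⟨p_g45_ok, (okE_cons.2 ⟨p_g46_ok, (okE_cons.2 ⟨p_g47_ok, (okE_cons.2 ⟨p_g59_ok, (okE_cons.2 ⟨p_g60_ok, (okE_cons.2 ⟨p_g61_ok, (okE_cons.2 ⟨p_g62_ok, (okE_cons.2 ⟨p_g53_ok, (okE_cons.2 ⟨p_g54_ok, (okE_cons.2 ⟨p_g55_ok, (okE_cons.2 ⟨p_g56_ok, (okE_nil 24)⟩)⟩)⟩)⟩)⟩)⟩)⟩)⟩)⟩)⟩)⟩)⟩)⟩)⟩)⟩)⟩)⟩)⟩)⟩)⟩)⟩)⟩)⟩)⟩)⟩)⟩)⟩)⟩)

noncomputable def p_g172 : Net := (Net.cons (nat_lit 1) (nat_lit 0x104514) (Net.cons (nat_lit 2) (nat_lit 0x203100) (Net.cons (nat_lit 4) (nat_lit 593152) (Net.cons (nat_lit 8) (nat_lit 72) (Net.cons (nat_lit 16) (nat_lit 92) (Net.cons (nat_lit 8) (nat_lit 248) (Net.cons (nat_lit 4) (nat_lit 786698) (Net.cons (nat_lit 2) (nat_lit 0x323200) (Net.cons (nat_lit 1) (nat_lit 345152) Net.nil)))))))))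

theorem p_g172_ok : Net.ok 24 p_g172 = true := by decide +kernel

noncomputable def nt_c12_K : List Net := [p_g172, p_g90]

theorem nt_c12_K_ok : okE 24 nt_c12_K = true := (okE_cons.2 ⟨p_g172_ok, (okE_cons.2 ⟨p_g90_ok, (okE_nil 24)⟩)⟩)

noncomputable def nt_c12_cnt_EG : List Net := [p_g81, p_g82, p_g83, p_g80, p_g79, p_g22, p_g1, p_g2, p_g29, p_g25, p_g26, p_g36, p_g32, p_g42, p_g33, p_g39, p_g50, p_g45, p_g46, p_g47, p_g59, p_g60, p_g61, p_g62, p_g53, p_g54, p_g55, p_g56, p_g127]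

theorem nt_c12_cnt_EG_ok : okE 24 nt_c12_cnt_EG = true := (okE_cons.2 ⟨p_g81_ok, (okE_cons.2 ⟨p_g82_ok, (okE_cons.2 ⟨p_g83_ok, (okE_cons.2 ⟨p_g80_ok, (okE_cons.2 ⟨p_g79_ok, (okE_cons.2 ⟨p_g22_ok, (okE_cons.2 ⟨p_g1_ok, (okE_cons.2 ⟨p_g2_ok, (okE_cons.2 ⟨p_g29_ok, (okE_cons.2 ⟨p_g25_ok, (okE_cons.2 ⟨p_g26_ok, (okE_cons.2 ⟨p_g36_ok, (okE_cons.2 ⟨p_g32_ok, (okE_cons.2 ⟨p_g42_ok, (okE_cons.2 ⟨p_g33_ok, (okE_cons.2 ⟨p_g39_ok, (okE_cons.2 ⟨p_g50_ok, (okE_cons.2 ⟨p_g45_ok, (okE_cons.2 ⟨p_g46_ok, (okE_cons.2 ⟨p_g47_ok, (okE_cons.2 ⟨p_g59_ok, (okE_cons.2 ⟨p_g60_ok, (okE_cons.2 ⟨p_g61_ok, (okE_cons.2 ⟨p_g62_ok, (okE_cons.2 ⟨p_g53_ok, (okE_cons.2 ⟨p_g54_ok, (okE_cons.2 ⟨p_g55_ok, (okE_cons.2 ⟨p_g56_ok, (okE_cons.2 ⟨p_g127_ok, (okE_nil 24)⟩)⟩)⟩)⟩)⟩)⟩)⟩)⟩)⟩)⟩)⟩)⟩)⟩)⟩)⟩)⟩)⟩)⟩)⟩)⟩)⟩)⟩)⟩)⟩)⟩)⟩)⟩)⟩)⟩)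

noncomputable def p_g174 : Net := (Net.cons (nat_lit 1) (nat_lit 0x555040) (Net.cons (nat_lit 2) (nat_lit 0x123310) (Net.cons (nat_lit 4) (nat_lit 458752) (Net.cons (nat_lit 8) (nat_lit 100) (Net.cons (nat_lit 16) (nat_lit 252) (Net.cons (nat_lit 8) (nat_lit 66) (Net.cons (nat_lit 4) (nat_lit 329216) (Net.cons (nat_lit 2) (nat_lit 0x301230) (Net.cons (nat_lit 1) (nat_lit 0x415110) Net.nil)))))))))

theorem p_g174_ok : Net.ok 24 p_g174 = true := by decide +kernel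

noncomputable def nt_c13_K : List Net := [p_g174, p_g90]

theorem nt_c13_K_ok : okE 24 nt_c13_K = true := (okE_cons.2 ⟨p_g174_ok, (okE_cons.2 ⟨p_g90_ok, (okE_nil 24)⟩)⟩)

noncomputable def nt_c13_cnt_EG : List Net := [p_g81, p_g82, p_g83, p_g80, p_g79, p_g22, p_g1, p_g2, p_g29, p_g25, p_g26, p_g36, p_g32, p_g42, p_g33, p_g39, p_g50, p_g45, p_g46, p_g47, p_g59, p_g60, p_g61, p_g62, p_g53, p_g54, p_g55, p_g56, p_g127]

theorem nt_c13_cnt_EG_ok : okE 24 nt_c13_cnt_EG = true := (okE_cons.2 ⟨p_g81_ok, (okE_cons.2 ⟨p_g82_ok, (okE_cons.2 ⟨p_g83_ok, (okE_cons.2 ⟨p_g80_ok, (okE_cons.2 ⟨p_g79_ok, (okE_cons.2 ⟨p_g22_ok, (okE_cons.2 ⟨p_g1_ok, (okE_cons.2 ⟨p_g2_ok, (okE_cons.2 ⟨p_g29_ok, (okE_cons.2 ⟨p_g25_ok, (okE_cons.2 ⟨p_g26_ok, (okE_cons.2 ⟨p_g36_ok, (okE_cons.2 ⟨p_g32_ok, (okE_cons.2 ⟨p_g42_ok, (okE_cons.2 ⟨p_g33_ok, (okE_cons.2 ⟨p_g39_ok, (okE_cons.2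 ⟨p_g50_ok, (okE_cons.2 ⟨p_g45_ok, (okE_cons.2 ⟨p_g46_ok, (okE_cons.2 ⟨p_g47_ok, (okE_cons.2 ⟨p_g59_ok, (okE_cons.2 ⟨p_g60_ok, (okE_cons.2 ⟨p_g61_ok, (okE_cons.2 ⟨p_g62_ok, (okE_cons.2 ⟨p_g53_ok, (okE_cons.2 ⟨p_g54_ok, (okE_cons.2 ⟨p_g55_ok, (okE_cons.2 ⟨p_g56_ok, (okE_cons.2 ⟨p_g127_ok, (okE_nil 24)⟩)⟩)⟩)⟩)⟩)⟩)⟩)⟩)⟩)⟩)⟩)⟩)⟩)⟩)⟩)⟩)⟩)⟩)⟩)⟩)⟩)⟩)⟩)⟩)⟩)⟩)⟩)⟩)⟩)

noncomputable def p_g176 : Net := (Net.cons (nat_lit 1) (nat_lit 0x504500) (Net.cons (nat_lit 2) (nat_lit 0x221030) (Net.cons (nat_lit 4) (nat_lit 723200) (Net.cons (nat_lit 8) (nat_lit 38) (Net.cons (nat_lit 16) (nat_lit 231) (Net.cons (nat_lit 8) (nat_lit 135) (Net.cons (nat_lit 4) (nat_lit 330252) (Net.cons (nat_lit 2) (nat_lit 0x123313) (Net.cons (nat_lit 1) (nat_lit 0x401414) Net.nil)))))))))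

theorem p_g176_ok : Net.ok 24 p_g176 = true := by decide +kernel

noncomputable def p_g177 : Net := (Net.cons (nat_lit 1) (nat_lit 0x501010) (Net.cons (nat_lit 2) (nat_lit 200960) (Net.cons (nat_lit 4) (nat_lit 589824) (Net.cons (nat_lit 8) (nat_lit 160) (Net.cons (nat_lit 16) (nat_lit 229) (Net.cons (nat_lit 8) (nat_lit 58) (Net.cons (nat_lit 4) (nat_lit 852748) (Net.cons (nat_lit 2) (nat_lit 0x330303) (Net.cons (nat_lit 1) (nat_lit 0x504414) Net.nil)))))))))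

theorem p_g177_ok : Net.ok 24 p_g177 = true := by decide +kernel

noncomputable def nt_c14_K : List Net := [p_g176, p_g177]

theorem nt_c14_K_ok : okE 24 nt_c14_K = true := (okE_cons.2 ⟨p_g176_ok, (okE_cons.2 ⟨p_g177_ok, (okE_nil 24)⟩)⟩)

noncomputable def nt_c14_cnt_EG : List Net := [p_g80, p_g81, p_g82, p_g83, p_g79, p_g22, p_g1, p_g2, p_g29, p_g25, p_g26, p_g36, p_g32, p_g42, p_g33, p_g39, p_g50, p_g45, p_g46, p_g47, p_g59, p_g60, p_g61, p_g62, p_g53, p_g54, p_g55, p_g56, p_g143, p_g144, p_g145]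

theorem nt_c14_cnt_EG_ok : okE 24 nt_c14_cnt_EG = true := (okE_cons.2 ⟨p_g80_ok, (okE_cons.2 ⟨p_g81_ok, (okE_cons.2 ⟨p_g82_ok, (okE_cons.2 ⟨p_g83_ok, (okE_cons.2 ⟨p_g79_ok, (okE_cons.2 ⟨p_g22_ok, (okE_cons.2 ⟨p_g1_ok, (okE_cons.2 ⟨p_g2_ok, (okE_cons.2 ⟨p_g29_ok, (okE_cons.2 ⟨p_g25_ok, (okE_cons.2 ⟨p_g26_ok, (okE_cons.2 ⟨p_g36_ok, (okE_cons.2 ⟨p_g32_ok, (okE_cons.2 ⟨p_g42_ok, (okE_cons.2 ⟨p_g33_ok, (okE_cons.2 ⟨p_g39_ok, (okE_cons.2 ⟨p_g50_ok, (okE_cons.2 ⟨p_g45_ok, (okE_cons.2 ⟨p_g46_ok, (okE_cons.2 ⟨p_g47_ok, (okE_cons.2 ⟨p_g59_ok, (okE_cons.2 ⟨p_g60_ok, (okE_cons.2 ⟨p_g61_ok, (okE_cons.2 ⟨p_g62_ok, (okE_cons.2 ⟨p_g53_ok, (okE_cons.2 ⟨p_g54_ok, (okE_cons.2 ⟨p_g55_ok, (okE_cons.2 ⟨p_g56_ok, (okE_cons.2 ⟨p_g143_ok, (okE_cons.2 ⟨p_g144_ok, (okE_cons.2 ⟨p_g145_ok, (okE_nil 24)⟩)⟩)⟩)⟩)⟩)⟩)⟩)⟩)⟩)⟩)⟩)⟩)⟩)⟩)⟩)⟩)⟩)⟩)⟩)⟩)⟩)⟩)⟩)⟩)⟩)⟩)⟩)⟩)⟩)⟩)⟩)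

noncomputable def p_g179 : Net := (Net.cons (nat_lit 1) (nat_lit 283664) (Net.cons (nat_lit 2) (nat_lit 205344) (Net.cons (nat_lit 4) (nat_lit 721920) (Net.cons (nat_lit 8) (nat_lit 83) (Net.cons (nat_lit 16) (nat_lit 243) (Net.cons (nat_lit 8) (nat_lit 207) (Net.cons (nat_lit 4) (nat_lit 786700) (Net.cons (nat_lit 2) (nat_lit 0x131122) (Net.cons (nat_lit 1) (nat_lit 21760) Net.nil)))))))))

theorem p_g179_ok : Net.ok 24 p_g179 = true := by decide +kernel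

noncomputable def p_g180 : Net := (Net.cons (nat_lit 1) (nat_lit 0x440150) (Net.cons (nat_lit 2) (nat_lit 0x122000) (Net.cons (nat_lit 4) (nat_lit 66816) (Net.cons (nat_lit 8) (nat_lit 216) (Net.cons (nat_lit 16) (nat_lit 217) (Net.cons (nat_lit 8) (nat_lit 244) (Net.cons (nat_lit 4) (nat_lit 327690) (Net.cons (nat_lit 2) (nat_lit 0x133000) (Net.cons (nat_lit 1) (nat_lit 0x440140) Net.nil)))))))))

theorem p_g180_ok : Net.ok 24 p_g180 = true := by decide +kernel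

noncomputable def nt_c15_K : List Net := [p_g179, p_g180]

theorem nt_c15_K_ok : okE 24 nt_c15_K = true := (okE_cons.2 ⟨p_g179_ok, (okE_cons.2 ⟨p_g180_ok, (okE_nil 24)⟩)⟩)

noncomputable def nt_c15_cnt_EG : List Net := [p_g80, p_g81, p_g82, p_g83, p_g79, p_g22, p_g1, p_g2, p_g29, p_g25, p_g26, p_g36, p_g32, p_g42, p_g33, p_g39, p_g50, p_g45, p_g46, p_g47, p_g59, p_g60, p_g61, p_g62, p_g53, p_g54, p_g55, p_g56, p_g143, p_g144, p_g145]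

theorem nt_c15_cnt_EG_ok : okE 24 nt_c15_cnt_EG = true := (okE_cons.2 ⟨p_g80_ok, (okE_cons.2 ⟨p_g81_ok, (okE_cons.2 ⟨p_g82_ok, (okE_cons.2 ⟨p_g83_ok, (okE_cons.2 ⟨p_g79_ok, (okE_cons.2 ⟨p_g22_ok, (okE_cons.2 ⟨p_g1_ok, (okE_cons.2 ⟨p_g2_ok, (okE_cons.2 ⟨p_g29_ok, (okE_cons.2 ⟨p_g25_ok, (okE_cons.2 ⟨p_g26_ok, (okE_cons.2 ⟨p_g36_ok, (okE_cons.2 ⟨p_g32_ok, (okE_cons.2 ⟨p_g42_ok, (okE_cons.2 ⟨p_g33_ok, (okE_cons.2 ⟨p_g39_ok, (okE_cons.2 ⟨p_g50_ok, (okE_cons.2 ⟨p_g45_ok, (okE_cons.2 ⟨p_g46_ok, (okE_cons.2 ⟨p_g47_ok, (okE_cons.2 ⟨p_g59_ok, (okE_cons.2 ⟨p_g60_ok, (okE_cons.2 ⟨p_g61_ok, (okE_cons.2 ⟨p_g62_ok, (okE_cons.2 ⟨p_g53_ok, (okE_cons.2 ⟨p_g54_ok, (okE_cons.2 ⟨p_g55_ok, (okE_cons.2 ⟨p_g56_ok, (okE_cons.2 ⟨p_g143_ok, (okE_cons.2 ⟨p_g144_ok, (okE_cons.2 ⟨p_g145_ok, (okE_nil 24)⟩)⟩)⟩)⟩)⟩)⟩)⟩)⟩)⟩)⟩)⟩)⟩)⟩)⟩)⟩)⟩)⟩)⟩)⟩)⟩)⟩)⟩)⟩)⟩)⟩)⟩)⟩)⟩)⟩)⟩)⟩)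

noncomputable def p_g182 : Net := (Net.cons (nat_lit 1) (nat_lit 0x400000) (Net.cons (nat_lit 2) (nat_lit 0x301030) (Net.cons (nat_lit 4) (nat_lit 262912) (Net.cons (nat_lit 8) (nat_lit 150) (Net.cons (nat_lit 16) (nat_lit 255) (Net.cons (nat_lit 8) (nat_lit 45) (Net.cons (nat_lit 4) (nat_lit 199181) (Net.cons (nat_lit 2) (nat_lit 0x331230) (Net.cons (nat_lit 1) (nat_lit 0x401404) Net.nil)))))))))

theorem p_g182_ok : Net.ok 24 p_g182 = true := by decide +kernel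

noncomputable def p_g183 : Net := (Net.cons (nat_lit 1) (nat_lit 0x110100) (Net.cons (nat_lit 2) (nat_lit 73744) (Net.cons (nat_lit 4) (nat_lit 1024) (Net.cons (nat_lit 8) (nat_lit 57) (Net.cons (nat_lit 16) (nat_lit 57) (Net.cons (nat_lit 8) (nat_lit 83) (Net.cons (nat_lit 4) (nat_lit 331020) (Net.cons (nat_lit 2) (nat_lit 9008) (Net.cons (nat_lit 1) (nat_lit 0x100514) Net.nil)))))))))

theorem p_g183_ok : Net.ok 24 p_g183 = true := by decide +kernel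

noncomputable def nt_c16_K : List Net := [p_g182, p_g183]

theorem nt_c16_K_ok : okE 24 nt_c16_K = true := (okE_cons.2 ⟨p_g182_ok, (okE_cons.2 ⟨p_g183_ok, (okE_nil 24)⟩)⟩)

noncomputable def nt_c16_cnt_EG : List Net := [p_g81, p_g82, p_g83, p_g80, p_g79, p_g22, p_g1, p_g2, p_g29, p_g25, p_g26, p_g36, p_g32, p_g42, p_g33, p_g39, p_g50, p_g45, p_g46, p_g47, p_g59, p_g60, p_g61, p_g62, p_g53, p_g54, p_g55, p_g56]

theorem nt_c16_cnt_EG_ok : okE 24 nt_c16_cnt_EG = true := (okE_cons.2 ⟨p_g81_ok, (okE_cons.2 ⟨p_g82_ok, (okE_cons.2 ⟨p_g83_ok, (okE_cons.2 ⟨p_g80_ok, (okE_cons.2 ⟨p_g79_ok, (okE_cons.2 ⟨p_g22_ok, (okE_cons.2 ⟨p_g1_ok, (okE_cons.2 ⟨p_g2_ok, (okE_cons.2 ⟨p_g29_ok, (okE_cons.2 ⟨p_g25_ok, (okE_cons.2 ⟨p_g26_ok, (okE_cons.2 ⟨p_g36_ok, (okE_cons.2 ⟨p_g32_ok, (okE_cons.2 ⟨p_g42_ok, (okE_cons.2 ⟨p_g33_ok, (okE_cons.2 ⟨p_g39_ok, (okE_cons.2 ⟨p_g50_ok,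 (okE_cons.2 ⟨p_g45_ok, (okE_cons.2 ⟨p_g46_ok, (okE_cons.2 ⟨p_g47_ok, (okE_cons.2 ⟨p_g59_ok, (okE_cons.2 ⟨p_g60_ok, (okE_cons.2 ⟨p_g61_ok, (okE_cons.2 ⟨p_g62_ok, (okE_cons.2 ⟨p_g53_ok, (okE_cons.2 ⟨p_g54_ok, (okE_cons.2 ⟨p_g55_ok, (okE_cons.2 ⟨p_g56_ok, (okE_nil 24)⟩)⟩)⟩)⟩)⟩)⟩)⟩)⟩)⟩)⟩)⟩)⟩)⟩)⟩)⟩)⟩)⟩)⟩)⟩)⟩)⟩)⟩)⟩)⟩)⟩)⟩)⟩)⟩)

noncomputable def p_g185 : Net := (Net.cons (nat_lit 1) (nat_lit 332032) (Net.cons (nat_lit 2) (nat_lit 0x332210) (Net.cons (nat_lit 4) (nat_lit 724480) (Net.cons (nat_lit 8) (nat_lit 89) (Net.cons (nat_lit 16) (nat_lit 121) (Net.cons (nat_lit 8) (nat_lit 101) (Net.cons (nat_lit 4) (nat_lit 132362) (Net.cons (nat_lit 2) (nat_lit 0x212002) (Net.cons (nat_lit 1) (nat_lit 21524) Net.nil)))))))))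

theorem p_g185_ok : Net.ok 24 p_g185 = true := by decide +kernel

noncomputable def nt_c17_K : List Net := [p_g185]

theorem nt_c17_K_ok : okE 24 nt_c17_K = true := (okE_cons.2 ⟨p_g185_ok, (okE_nil 24)⟩)

noncomputable def nt_c17_cnt_EG : List Net := [p_g80, p_g81, p_g82, p_g83, p_g79, p_g22, p_g1, p_g2, p_g29, p_g25, p_g26, p_g36, p_g32, p_g42, p_g33, p_g39, p_g50, p_g45, p_g46, p_g47, p_g59, p_g60, p_g61, p_g62, p_g53, p_g54, p_g55, p_g56]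

theorem nt_c17_cnt_EG_ok : okE 24 nt_c17_cnt_EG = true := (okE_cons.2 ⟨p_g80_ok, (okE_cons.2 ⟨p_g81_ok, (okE_cons.2 ⟨p_g82_ok, (okE_cons.2 ⟨p_g83_ok, (okE_cons.2 ⟨p_g79_ok, (okE_cons.2 ⟨p_g22_ok, (okE_cons.2 ⟨p_g1_ok, (okE_cons.2 ⟨p_g2_ok, (okE_cons.2 ⟨p_g29_ok, (okE_cons.2 ⟨p_g25_ok, (okE_cons.2 ⟨p_g26_ok, (okE_cons.2 ⟨p_g36_ok, (okE_cons.2 ⟨p_g32_ok, (okE_cons.2 ⟨p_g42_ok, (okE_cons.2 ⟨p_g33_ok, (okE_cons.2 ⟨p_g39_ok, (okE_cons.2 ⟨p_g50_ok, (okE_cons.2 ⟨p_g45_ok, (okE_cons.2 ⟨p_g46_ok, (okE_cons.2 ⟨p_g47_ok, (okE_cons.2 ⟨p_g59_ok, (okE_cons.2 ⟨p_g60_ok, (okE_cons.2 ⟨p_g61_ok, (okE_cons.2 ⟨p_g62_ok, (okE_cons.2 ⟨p_g53_ok, (okE_cons.2 ⟨p_g54_ok, (okE_cons.2 ⟨p_g55_ok, (okE_cons.2 ⟨p_g56_ok, (okE_nil 24)⟩)⟩)⟩)⟩)⟩)⟩)⟩)⟩)⟩)⟩)⟩)⟩)⟩)⟩)⟩)⟩)⟩)⟩)⟩)⟩)⟩)⟩)⟩)⟩)⟩)⟩)⟩)⟩)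

noncomputable def p_g187 : Net := (Net.cons (nat_lit 1) (nat_lit 278800) (Net.cons (nat_lit 2) (nat_lit 0x233210) (Net.cons (nat_lit 4) (nat_lit 460032) (Net.cons (nat_lit 8) (nat_lit 8) (Net.cons (nat_lit 16) (nat_lit 203) (Net.cons (nat_lit 8) (nat_lit 133) (Net.cons (nat_lit 4) (nat_lit 590849) (Net.cons (nat_lit 2) (nat_lit 0x111000) (Net.cons (nat_lit 1) (nat_lit 0x501405) Net.nil)))))))))

theorem p_g187_ok : Net.ok 24 p_g187 = true := by decide +kernel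

noncomputable def nt_c18_K : List Net := [p_g187]

theorem nt_c18_K_ok : okE 24 nt_c18_K = true := (okE_cons.2 ⟨p_g187_ok, (okE_nil 24)⟩)

noncomputable def nt_c18_cnt_EG : List Net := [p_g82, p_g83, p_g81, p_g80, p_g79, p_g22, p_g1, p_g2, p_g29, p_g25, p_g26, p_g36, p_g32, p_g42, p_g33, p_g39, p_g50, p_g45, p_g46, p_g47, p_g59, p_g60, p_g61, p_g62, p_g53, p_g54, p_g55, p_g56]

theorem nt_c18_cnt_EG_ok : okE 24 nt_c18_cnt_EG = true := (okE_cons.2 ⟨p_g82_ok, (okE_cons.2 ⟨p_g83_ok, (okE_cons.2 ⟨p_g81_ok, (okE_cons.2 ⟨p_g80_ok, (okE_cons.2 ⟨p_g79_ok, (okE_cons.2 ⟨p_g22_ok, (okE_cons.2 ⟨p_g1_ok, (okE_cons.2 ⟨p_g2_ok, (okE_cons.2 ⟨p_g29_ok, (okE_cons.2 ⟨p_g25_ok, (okE_cons.2 ⟨p_g26_ok, (okE_cons.2 ⟨p_g36_ok, (okE_cons.2 ⟨p_g32_ok, (okE_cons.2 ⟨p_g42_ok, (okE_cons.2 ⟨p_g33_ok, (okE_cons.2 ⟨p_g39_ok, (okE_cons.2 ⟨p_g50_ok, (okE_cons.2 ⟨p_g45_ok, (okE_cons.2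 ⟨p_g46_ok, (okE_cons.2 ⟨p_g47_ok, (okE_cons.2 ⟨p_g59_ok, (okE_cons.2 ⟨p_g60_ok, (okE_cons.2 ⟨p_g61_ok, (okE_cons.2 ⟨p_g62_ok, (okE_cons.2 ⟨p_g53_ok, (okE_cons.2 ⟨p_g54_ok, (okE_cons.2 ⟨p_g55_ok, (okE_cons.2 ⟨p_g56_ok, (okE_nil 24)⟩)⟩)⟩)⟩)⟩)⟩)⟩)⟩)⟩)⟩)⟩)⟩)⟩)⟩)⟩)⟩)⟩)⟩)⟩)⟩)⟩)⟩)⟩)⟩)⟩)⟩)⟩)⟩)

noncomputable def p_g189 : Net := (Net.cons (nat_lit 1) (nat_lit 0x501440) (Net.cons (nat_lit 2) (nat_lit 0x210100) (Net.cons (nat_lit 4) (nat_lit 658176) (Net.cons (nat_lit 8) (nat_lit 18) (Net.cons (nat_lit 16) (nat_lit 247) (Net.cons (nat_lit 8) (nat_lit 131) (Net.cons (nat_lit 4) (nat_lit 855308) (Net.cons (nat_lit 2) (nat_lit 0x120033) (Net.cons (nat_lit 1) (nat_lit 0x501000) Net.nil)))))))))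

theorem p_g189_ok : Net.ok 24 p_g189 = true := by decide +kernel

noncomputable def nt_c19_K : List Net := [p_g189]

theorem nt_c19_K_ok : okE 24 nt_c19_K = true := (okE_cons.2 ⟨p_g189_ok, (okE_nil 24)⟩)

noncomputable def nt_c19_cnt_EG : List Net := [p_g82, p_g83, p_g81, p_g80, p_g79, p_g22, p_g1, p_g2, p_g29, p_g25, p_g26, p_g36, p_g32, p_g42, p_g33, p_g39, p_g50, p_g45, p_g46, p_g47, p_g59, p_g60, p_g61, p_g62, p_g53, p_g54, p_g55, p_g56]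

theorem nt_c19_cnt_EG_ok : okE 24 nt_c19_cnt_EG = true := (okE_cons.2 ⟨p_g82_ok, (okE_cons.2 ⟨p_g83_ok, (okE_cons.2 ⟨p_g81_ok, (okE_cons.2 ⟨p_g80_ok, (okE_cons.2 ⟨p_g79_ok, (okE_cons.2 ⟨p_g22_ok, (okE_cons.2 ⟨p_g1_ok, (okE_cons.2 ⟨p_g2_ok, (okE_cons.2 ⟨p_g29_ok, (okE_cons.2 ⟨p_g25_ok, (okE_cons.2 ⟨p_g26_ok, (okE_cons.2 ⟨p_g36_ok, (okE_cons.2 ⟨p_g32_ok, (okE_cons.2 ⟨p_g42_ok, (okE_cons.2 ⟨p_g33_ok, (okE_cons.2 ⟨p_g39_ok, (okE_cons.2 ⟨p_g50_ok, (okE_cons.2 ⟨p_g45_ok, (okE_cons.2 ⟨p_g46_ok, (okE_cons.2 ⟨p_g47_ok, (okE_cons.2 ⟨p_g59_ok, (okE_cons.2 ⟨p_g60_ok, (okE_cons.2 ⟨p_g61_ok, (okE_cons.2 ⟨p_g62_ok, (okE_cons.2 ⟨p_g53_ok, (okE_cons.2 ⟨p_g54_ok, (okE_cons.2 ⟨p_g55_ok, (okE_cons.2 ⟨p_g56_ok, (okE_nil 24)⟩)⟩)⟩)⟩)⟩)⟩)⟩)⟩)⟩)⟩)⟩)⟩)⟩)⟩)⟩)⟩)⟩)⟩)⟩)⟩)⟩)⟩)⟩)⟩)⟩)⟩)⟩)⟩)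

noncomputable def p_g191 : Net := (Net.cons (nat_lit 1) (nat_lit 0x401110) (Net.cons (nat_lit 2) (nat_lit 0x100010) (Net.cons (nat_lit 4) (nat_lit 327680) (Net.cons (nat_lit 8) (nat_lit 32) (Net.cons (nat_lit 16) (nat_lit 63) (Net.cons (nat_lit 8) (nat_lit 86) (Net.cons (nat_lit 4) (nat_lit 722444) (Net.cons (nat_lit 2) (nat_lit 0x111330) (Net.cons (nat_lit 1) (nat_lit 0x510514) Net.nil)))))))))

theorem p_g191_ok : Net.ok 24 p_g191 = true := by decide +kernel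

noncomputable def nt_c20_K : List Net := [p_g191]

theorem nt_c20_K_ok : okE 24 nt_c20_K = true := (okE_cons.2 ⟨p_g191_ok, (okE_nil 24)⟩)

noncomputable def nt_c20_cnt_EG : List Net := [p_g82, p_g83, p_g81, p_g80, p_g79, p_g22, p_g1, p_g2, p_g29, p_g25, p_g26, p_g36, p_g32, p_g42, p_g33, p_g39, p_g50, p_g45, p_g46, p_g47, p_g59, p_g60, p_g61, p_g62, p_g53, p_g54, p_g55, p_g56]

theorem nt_c20_cnt_EG_ok : okE 24 nt_c20_cnt_EG = true := (okE_cons.2 ⟨p_g82_ok, (okE_cons.2 ⟨p_g83_ok, (okE_cons.2 ⟨p_g81_ok, (okE_cons.2 ⟨p_g80_ok, (okE_cons.2 ⟨p_g79_ok, (okE_cons.2 ⟨p_g22_ok, (okE_cons.2 ⟨p_g1_ok, (okE_cons.2 ⟨p_g2_ok, (okE_cons.2 ⟨p_g29_ok, (okE_cons.2 ⟨p_g25_ok, (okE_cons.2 ⟨p_g26_ok, (okE_cons.2 ⟨p_g36_ok, (okE_cons.2 ⟨p_g32_ok, (okE_cons.2 ⟨p_g42_ok, (okE_cons.2 ⟨p_g33_ok, (okE_cons.2 ⟨p_g39_ok, (okE_cons.2 ⟨p_g50_ok, (okE_cons.2 ⟨p_g45_ok, (okE_cons.2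 ⟨p_g46_ok, (okE_cons.2 ⟨p_g47_ok, (okE_cons.2 ⟨p_g59_ok, (okE_cons.2 ⟨p_g60_ok, (okE_cons.2 ⟨p_g61_ok, (okE_cons.2 ⟨p_g62_ok, (okE_cons.2 ⟨p_g53_ok, (okE_cons.2 ⟨p_g54_ok, (okE_cons.2 ⟨p_g55_ok, (okE_cons.2 ⟨p_g56_ok, (okE_nil 24)⟩)⟩)⟩)⟩)⟩)⟩)⟩)⟩)⟩)⟩)⟩)⟩)⟩)⟩)⟩)⟩)⟩)⟩)⟩)⟩)⟩)⟩)⟩)⟩)⟩)⟩)⟩)⟩)

noncomputable def nt_nc7_6_cnt_EG : List Net := []

theorem nt_nc7_6_cnt_EG_ok : okE 24 nt_nc7_6_cnt_EG = true := (okE_nil 24)

noncomputable def nt_nc13_12_cnt_EG : List Net := [p_g80, p_g81, p_g82, p_g83, p_g79, p_g22, p_g1, p_g2, p_g29, p_g25, p_g26, p_g36, p_g32, p_g42, p_g33, p_g39, p_g50, p_g45, p_g46, p_g47, p_g59, p_g60, p_g61, p_g62, p_g53, p_g54, p_g55, p_g56]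

theorem nt_nc13_12_cnt_EG_ok : okE 24 nt_nc13_12_cnt_EG = true := (okE_cons.2 ⟨p_g80_ok, (okE_cons.2 ⟨p_g81_ok, (okE_cons.2 ⟨p_g82_ok, (okE_cons.2 ⟨p_g83_ok, (okE_cons.2 ⟨p_g79_ok, (okE_cons.2 ⟨p_g22_ok, (okE_cons.2 ⟨p_g1_ok, (okE_cons.2 ⟨p_g2_ok, (okE_cons.2 ⟨p_g29_ok, (okE_cons.2 ⟨p_g25_ok, (okE_cons.2 ⟨p_g26_ok, (okE_cons.2 ⟨p_g36_ok, (okE_cons.2 ⟨p_g32_ok, (okE_cons.2 ⟨p_g42_ok, (okE_cons.2 ⟨p_g33_ok, (okE_cons.2 ⟨p_g39_ok, (okE_cons.2 ⟨p_g50_ok, (okE_cons.2 ⟨p_g45_ok, (okE_cons.2 ⟨p_g46_ok, (okE_cons.2 ⟨p_g47_ok, (okE_cons.2 ⟨p_g59_ok, (okE_cons.2 ⟨p_g60_ok, (okE_cons.2 ⟨p_g61_ok, (okE_cons.2 ⟨p_g62_ok, (okE_cons.2 ⟨p_g53_ok, (okE_cons.2 ⟨p_g54_ok, (okE_cons.2 ⟨p_g55_ok, (okE_cons.2 ⟨p_g56_ok, (okE_nil 24)⟩)⟩)⟩)⟩)⟩)⟩)⟩)⟩)⟩)⟩)⟩)⟩)⟩)⟩)⟩)⟩)⟩)⟩)⟩)⟩)⟩)⟩)⟩)⟩)⟩)⟩)⟩)⟩)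

noncomputable def nt_nc15_14_cnt_EG : List Net := []

theorem nt_nc15_14_cnt_EG_ok : okE 24 nt_nc15_14_cnt_EG = true := (okE_nil 24)

noncomputable def nt_nc20_19_cnt_EG : List Net := [p_g80, p_g81, p_g82, p_g83, p_g79, p_g22, p_g1, p_g2, p_g29, p_g25, p_g26, p_g36, p_g32, p_g42, p_g33, p_g39, p_g50, p_g45, p_g46, p_g47, p_g59, p_g60, p_g61, p_g62, p_g53, p_g54, p_g55, p_g56]

theorem nt_nc20_19_cnt_EG_ok : okE 24 nt_nc20_19_cnt_EG = true := (okE_cons.2 ⟨p_g80_ok, (okE_cons.2 ⟨p_g81_ok, (okE_cons.2 ⟨p_g82_ok, (okE_cons.2 ⟨p_g83_ok, (okE_cons.2 ⟨p_g79_ok, (okE_cons.2 ⟨p_g22_ok, (okE_cons.2 ⟨p_g1_ok, (okE_cons.2 ⟨p_g2_ok, (okE_cons.2 ⟨p_g29_ok, (okE_cons.2 ⟨p_g25_ok, (okE_cons.2 ⟨p_g26_ok, (okE_cons.2 ⟨p_g36_ok, (okE_cons.2 ⟨p_g32_ok, (okE_cons.2 ⟨p_g42_ok, (okE_cons.2 ⟨p_g33_ok, (okE_cons.2 ⟨p_g39_ok, (okE_cons.2 ⟨p_g50_ok, (okE_cons.2 ⟨p_g45_ok,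 (okE_cons.2 ⟨p_g46_ok, (okE_cons.2 ⟨p_g47_ok, (okE_cons.2 ⟨p_g59_ok, (okE_cons.2 ⟨p_g60_ok, (okE_cons.2 ⟨p_g61_ok, (okE_cons.2 ⟨p_g62_ok, (okE_cons.2 ⟨p_g53_ok, (okE_cons.2 ⟨p_g54_ok, (okE_cons.2 ⟨p_g55_ok, (okE_cons.2 ⟨p_g56_ok, (okE_nil 24)⟩)⟩)⟩)⟩)⟩)⟩)⟩)⟩)⟩)⟩)⟩)⟩)⟩)⟩)⟩)⟩)⟩)⟩)⟩)⟩)⟩)⟩)⟩)⟩)⟩)⟩)⟩)⟩)

noncomputable def p_g193 : Net := (Net.cons (nat_lit 1) (nat_lit 0x410040) (Net.cons (nat_lit 2) (nat_lit 0x220010) (Net.cons (nat_lit 4) (nat_lit 65536) (Net.cons (nat_lit 16) (nat_lit 195) (Net.cons (nat_lit 8) (nat_lit 8) (Net.cons (nat_lit 4) (nat_lit 65541) (Net.cons (nat_lit 2) (nat_lit 0x332001) (Net.cons (nat_lit 1) (nat_lit 0x410040) Net.nil))))))))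

theorem p_g193_ok : Net.ok 24 p_g193 = true := by decide +kernel

noncomputable def p_g194 : Net := (Net.cons (nat_lit 1) (nat_lit 87104) (Net.cons (nat_lit 2) (nat_lit 0x300000) (Net.cons (nat_lit 4) (nat_lit 196608) (Net.cons (nat_lit 8) (nat_lit 1) (Net.cons (nat_lit 16) (nat_lit 161) (Net.cons (nat_lit 8) (nat_lit 1) (Net.cons (nat_lit 4) (nat_lit 199172) (Net.cons (nat_lit 2) (nat_lit 0x313200) (Net.cons (nat_lit 1) (nat_lit 87104) Net.nil)))))))))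

theorem p_g194_ok : Net.ok 24 p_g194 = true := by decide +kernel

noncomputable def p_g195 : Net := (Net.cons (nat_lit 1) (nat_lit 0x104010) (Net.cons (nat_lit 2) (nat_lit 0x122000) (Net.cons (nat_lit 4) (nat_lit 851968) (Net.cons (nat_lit 8) (nat_lit 193) (Net.cons (nat_lit 16) (nat_lit 229) (Net.cons (nat_lit 8) (nat_lit 201) (Net.cons (nat_lit 4) (nat_lit 852480) (Net.cons (nat_lit 2) (nat_lit 0x122000) (Net.cons (nat_lit 1) (nat_lit 0x104050) Net.nil)))))))))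

theorem p_g195_ok : Net.ok 24 p_g195 = true := by decide +kernel

noncomputable def p_g196 : Net := (Net.cons (nat_lit 1) (nat_lit 0x101000) (Net.cons (nat_lit 2) (nat_lit 0x223120) (Net.cons (nat_lit 4) (nat_lit 65536) (Net.cons (nat_lit 8) (nat_lit 4) (Net.cons (nat_lit 16) (nat_lit 214) (Net.cons (nat_lit 8) (nat_lit 96) (Net.cons (nat_lit 4) (nat_lit 787460) (Net.cons (nat_lit 2) (nat_lit 0x223120) (Net.cons (nat_lit 1) (nat_lit 69648) Net.nil)))))))))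

theorem p_g196_ok : Net.ok 24 p_g196 = true := by decide +kernel

noncomputable def ch1_Q : List Net := [p_g193, p_g194, p_g195, p_g196]

theorem ch1_Q_ok : okE 24 ch1_Q = true := (okE_cons.2 ⟨p_g193_ok, (okE_cons.2 ⟨p_g194_ok, (okE_cons.2 ⟨p_g195_ok, (okE_cons.2 ⟨p_g196_ok, (okE_nil 24)⟩)⟩)⟩)⟩)

noncomputable def p_V197 : List Net := [p_g193]

theorem p_V197_ok : okE 24 p_V197 = true := (okE_cons.2 ⟨p_g193_ok, (okE_nil 24)⟩)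

noncomputable def p_g199 : Net := (Net.cons (nat_lit 1) (nat_lit 344064) (Net.cons (nat_lit 2) (nat_lit 0x203000) (Net.cons (nat_lit 4) (nat_lit 657664) (Net.cons (nat_lit 8) (nat_lit 9) (Net.cons (nat_lit 16) (nat_lit 185) (Net.cons (nat_lit 8) (nat_lit 129) (Net.cons (nat_lit 4) (nat_lit 132364) (Net.cons (nat_lit 2) (nat_lit 0x203000) (Net.cons (nat_lit 1) (nat_lit 344064) Net.nil)))))))))

theorem p_g199_ok : Net.ok 24 p_g199 = true := by decide +kernel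

noncomputable def p_V200 : List Net := [p_g195, p_g196, p_g199]

theorem p_V200_ok : okE 24 p_V200 = true := (okE_cons.2 ⟨p_g195_ok, (okE_cons.2 ⟨p_g196_ok, (okE_cons.2 ⟨p_g199_ok, (okE_nil 24)⟩)⟩)⟩)

noncomputable def p_V202 : List Net := [p_g194, p_g195, p_g196]

theorem p_V202_ok : okE 24 p_V202 = true := (okE_cons.2 ⟨p_g194_ok, (okE_cons.2 ⟨p_g195_ok, (okE_cons.2 ⟨p_g196_ok, (okE_nil 24)⟩)⟩)⟩)

noncomputable def ch1_o_E2 : List Net := []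

theorem ch1_o_E2_ok : okE 24 ch1_o_E2 = true := (okE_nil 24)

noncomputable def ch1_o_G1 : List Net := [p_g194, p_g195, p_g196]

theorem ch1_o_G1_ok : okE 24 ch1_o_G1 = true := (okE_cons.2 ⟨p_g194_ok, (okE_cons.2 ⟨p_g195_ok, (okE_cons.2 ⟨p_g196_ok, (okE_nil 24)⟩)⟩)⟩)

noncomputable def ch1_o_E1 : List Net := [p_g194, p_g195, p_g196, p_g199]

theorem ch1_o_E1_ok : okE 24 ch1_o_E1 = true := (okE_cons.2 ⟨p_g194_ok, (okE_cons.2 ⟨p_g195_ok, (okE_cons.2 ⟨p_g196_ok, (okE_cons.2 ⟨p_g199_ok, (okE_nil 24)⟩)⟩)⟩)⟩)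

noncomputable def ch1_o_G0 : List Net := [p_g193, p_g194, p_g195, p_g196, p_g199]

theorem ch1_o_G0_ok : okE 24 ch1_o_G0 = true := (okE_cons.2 ⟨p_g193_ok, (okE_cons.2 ⟨p_g194_ok, (okE_cons.2 ⟨p_g195_ok, (okE_cons.2 ⟨p_g196_ok, (okE_cons.2 ⟨p_g199_ok, (okE_nil 24)⟩)⟩)⟩)⟩)⟩)

noncomputable def ch1_o_E0 : List Net := [p_g193, p_g194, p_g195, p_g196, p_g199]

theorem ch1_o_E0_ok : okE 24 ch1_o_E0 = true := (okE_cons.2 ⟨p_g193_ok, (okE_cons.2 ⟨p_g194_ok, (okE_cons.2 ⟨p_g195_ok, (okE_cons.2 ⟨p_g196_ok, (okE_cons.2 ⟨p_g199_ok, (okE_nil 24)⟩)⟩)⟩)⟩)⟩)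

noncomputable def p_g209 : Net := (Net.cons (nat_lit 1) (nat_lit 0x541440) (Net.cons (nat_lit 2) (nat_lit 0x101320) (Net.cons (nat_lit 4) (nat_lit 132096) (Net.cons (nat_lit 8) (nat_lit 37) (Net.cons (nat_lit 16) (nat_lit 229) (Net.cons (nat_lit 8) (nat_lit 7) (Net.cons (nat_lit 4) (nat_lit 394248) (Net.cons (nat_lit 2) (nat_lit 0x120020) (Net.cons (nat_lit 1) (nat_lit 0x500400) Net.nil)))))))))

theorem p_g209_ok : Net.ok 24 p_g209 = true := by decide +kernel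

noncomputable def p_g210 : Net := (Net.cons (nat_lit 1) (nat_lit 0x511504) (Net.cons (nat_lit 2) (nat_lit 205568) (Net.cons (nat_lit 4) (nat_lit 262144) (Net.cons (nat_lit 8) (nat_lit 3) (Net.cons (nat_lit 16) (nat_lit 195) (Net.cons (nat_lit 8) (nat_lit 145) (Net.cons (nat_lit 4) (nat_lit 789772) (Net.cons (nat_lit 2) (nat_lit 0x221212) (Net.cons (nat_lit 1) (nat_lit 0x504050) Net.nil)))))))))

theorem p_g210_ok : Net.ok 24 p_g210 = true := by decide +kernel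

noncomputable def p_g211 : Net := (Net.cons (nat_lit 1) (nat_lit 0x554510) (Net.cons (nat_lit 2) (nat_lit 0x131200) (Net.cons (nat_lit 4) (nat_lit 328448) (Net.cons (nat_lit 16) (nat_lit 105) (Net.cons (nat_lit 8) (nat_lit 112) (Net.cons (nat_lit 4) (nat_lit 197124) (Net.cons (nat_lit 2) (nat_lit 0x101312) (Net.cons (nat_lit 1) (nat_lit 0x410104) Net.nil))))))))

theorem p_g211_ok : Net.ok 24 p_g211 = true := by decide +kernel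

noncomputable def p_g212 : Net := (Net.cons (nat_lit 1) (nat_lit 0x515404) (Net.cons (nat_lit 2) (nat_lit 0x130200) (Net.cons (nat_lit 4) (nat_lit 65792) (Net.cons (nat_lit 8) (nat_lit 2) (Net.cons (nat_lit 16) (nat_lit 39) (Net.cons (nat_lit 8) (nat_lit 154) (Net.cons (nat_lit 4) (nat_lit 69386) (Net.cons (nat_lit 2) (nat_lit 0x112330) (Net.cons (nat_lit 1) (nat_lit 0x505550) Net.nil)))))))))

theorem p_g212_ok : Net.ok 24 p_g212 = true := by decide +kernel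

noncomputable def p_g213 : Net := (Net.cons (nat_lit 1) (nat_lit 0x405500) (Net.cons (nat_lit 2) (nat_lit 0x112200) (Net.cons (nat_lit 4) (nat_lit 65536) (Net.cons (nat_lit 16) (nat_lit 69) (Net.cons (nat_lit 8) (nat_lit 136) (Net.cons (nat_lit 4) (nat_lit 68104) (Net.cons (nat_lit 2) (nat_lit 0x132300) (Net.cons (nat_lit 1) (nat_lit 0x405500) Net.nil))))))))

theorem p_g213_ok : Net.ok 24 p_g213 = true := by decide +kernel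

noncomputable def p_g214 : Net := (Net.cons (nat_lit 1) (nat_lit 0x101100) (Net.cons (nat_lit 2) (nat_lit 0x211100) (Net.cons (nat_lit 4) (nat_lit 395264) (Net.cons (nat_lit 8) (nat_lit 224) (Net.cons (nat_lit 16) (nat_lit 236) (Net.cons (nat_lit 8) (nat_lit 164) (Net.cons (nat_lit 4) (nat_lit 199940) (Net.cons (nat_lit 2) (nat_lit 0x211100) (Net.cons (nat_lit 1) (nat_lit 0x101100) Net.nil)))))))))

theorem p_g214_ok : Net.ok 24 p_g214 = true := by decide +kernel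

noncomputable def ch2_Q : List Net := [p_g104, p_g211, p_g212, p_g213, p_g214]

theorem ch2_Q_ok : okE 24 ch2_Q = true := (okE_cons.2 ⟨p_g104_ok, (okE_cons.2 ⟨p_g211_ok, (okE_cons.2 ⟨p_g212_ok, (okE_cons.2 ⟨p_g213_ok, (okE_cons.2 ⟨p_g214_ok, (okE_nil 24)⟩)⟩)⟩)⟩)⟩)

noncomputable def p_V215 : List Net := [p_g211]

theorem p_V215_ok : okE 24 p_V215 = true := (okE_cons.2 ⟨p_g211_ok, (okE_nil 24)⟩)

noncomputable def p_g217 : Net := (Net.cons (nat_lit 1) (nat_lit 0x101050) (Net.cons (nat_lit 2) (nat_lit 0x110010) (Net.cons (nat_lit 4) (nat_lit 328448) (Net.cons (nat_lit 8) (nat_lit 105) (Net.cons (nat_lit 16) (nat_lit 105) (Net.cons (nat_lit 8) (nat_lit 213) (Net.cons (nat_lit 4) (nat_lit 460042) (Net.cons (nat_lit 2) (nat_lit 0x112212) (Net.cons (nat_lit 1) (nat_lit 0x101040) Net.nil)))))))))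

theorem p_g217_ok : Net.ok 24 p_g217 = true := by decide +kernel

noncomputable def p_g218 : Net := (Net.cons (nat_lit 1) (nat_lit 282944) (Net.cons (nat_lit 2) (nat_lit 0x201110) (Net.cons (nat_lit 4) (nat_lit 458752) (Net.cons (nat_lit 8) (nat_lit 49) (Net.cons (nat_lit 16) (nat_lit 113) (Net.cons (nat_lit 8) (nat_lit 47) (Net.cons (nat_lit 4) (nat_lit 985870) (Net.cons (nat_lit 2) (nat_lit 0x201232) (Net.cons (nat_lit 1) (nat_lit 349200) Net.nil)))))))))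

theorem p_g218_ok : Net.ok 24 p_g218 = true := by decide +kernel

noncomputable def p_g219 : Net := (Net.cons (nat_lit 1) (nat_lit 0x544100) (Net.cons (nat_lit 2) (nat_lit 0x223100) (Net.cons (nat_lit 4) (nat_lit 524288) (Net.cons (nat_lit 8) (nat_lit 129) (Net.cons (nat_lit 16) (nat_lit 165) (Net.cons (nat_lit 8) (nat_lit 103) (Net.cons (nat_lit 4) (nat_lit 3330) (Net.cons (nat_lit 2) (nat_lit 131634) (Net.cons (nat_lit 1) (nat_lit 0x554110) Net.nil)))))))))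

theorem p_g219_ok : Net.ok 24 p_g219 = true := by decide +kernel

noncomputable def p_V220 : List Net := [p_g217, p_g218, p_g219]

theorem p_V220_ok : okE 24 p_V220 = true := (okE_cons.2 ⟨p_g217_ok, (okE_cons.2 ⟨p_g218_ok, (okE_cons.2 ⟨p_g219_ok, (okE_nil 24)⟩)⟩)⟩)

noncomputable def p_V222 : List Net := [p_g217]

theorem p_V222_ok : okE 24 p_V222 = true := (okE_cons.2 ⟨p_g217_ok, (okE_nil 24)⟩)

noncomputable def p_g224 : Net := (Net.cons (nat_lit 1) (nat_lit 0x514140) (Net.cons (nat_lit 2) (nat_lit 0x301100) (Net.cons (nat_lit 4) (nat_lit 589824) (Net.cons (nat_lit 8) (nat_lit 176) (Net.cons (nat_lit 16) (nat_lit 178) (Net.cons (nat_lit 8) (nat_lit 36) (Net.cons (nat_lit 4) (nat_lit 327682) (Net.cons (nat_lit 2) (nat_lit 0x320022) (Net.cons (nat_lit 1) (nat_lit 0x514540) Net.nil)))))))))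

theorem p_g224_ok : Net.ok 24 p_g224 = true := by decide +kernel

noncomputable def p_g225 : Net := (Net.cons (nat_lit 1) (nat_lit 0x111404) (Net.cons (nat_lit 2) (nat_lit 0x213220) (Net.cons (nat_lit 4) (nat_lit 131072) (Net.cons (nat_lit 8) (nat_lit 36) (Net.cons (nat_lit 16) (nat_lit 36) (Net.cons (nat_lit 8) (nat_lit 54) (Net.cons (nat_lit 4) (nat_lit 657420) (Net.cons (nat_lit 2) (nat_lit 0x213220) (Net.cons (nat_lit 1) (nat_lit 0x111404) Net.nil)))))))))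

theorem p_g225_ok : Net.ok 24 p_g225 = true := by decide +kernel

noncomputable def p_V226 : List Net := [p_g224, p_g225, p_g135]

theorem p_V226_ok : okE 24 p_V226 = true := (okE_cons.2 ⟨p_g224_ok, (okE_cons.2 ⟨p_g225_ok, (okE_cons.2 ⟨p_g135_ok, (okE_nil 24)⟩)⟩)⟩)

noncomputable def p_V228 : List Net := [p_g224]

theorem p_V228_ok : okE 24 p_V228 = true := (okE_cons.2 ⟨p_g224_ok, (okE_nil 24)⟩)

noncomputable def p_g230 : Net := (Net.cons (nat_lit 1) (nat_lit 81920) (Net.cons (nat_lit 2) (nat_lit 70176) (Net.cons (nat_lit 4) (nat_lit 263168) (Net.cons (nat_lit 8) (nat_lit 80) (Net.cons (nat_lit 16) (nat_lit 80) (Net.cons (nat_lit 8) (nat_lit 222) (Net.cons (nat_lit 4) (nat_lit 265224) (Net.cons (nat_lit 2) (nat_lit 201264) (Net.cons (nat_lit 1) (nat_lit 81920) Net.nil)))))))))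

theorem p_g230_ok : Net.ok 24 p_g230 = true := by decide +kernel

noncomputable def p_g231 : Net := (Net.cons (nat_lit 1) (nat_lit 81920) (Net.cons (nat_lit 2) (nat_lit 0x122200) (Net.cons (nat_lit 4) (nat_lit 459776) (Net.cons (nat_lit 8) (nat_lit 8) (Net.cons (nat_lit 16) (nat_lit 60) (Net.cons (nat_lit 8) (nat_lit 72) (Net.cons (nat_lit 4) (nat_lit 460288) (Net.cons (nat_lit 2) (nat_lit 0x123202) (Net.cons (nat_lit 1) (nat_lit 81920) Net.nil)))))))))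

theorem p_g231_ok : Net.ok 24 p_g231 = true := by decide +kernel

noncomputable def p_g232 : Net := (Net.cons (nat_lit 1) (nat_lit 81920) (Net.cons (nat_lit 2) (nat_lit 0x132020) (Net.cons (nat_lit 8) (nat_lit 76) (Net.cons (nat_lit 16) (nat_lit 78) (Net.cons (nat_lit 8) (nat_lit 92) (Net.cons (nat_lit 4) (nat_lit 263692) (Net.cons (nat_lit 2) (nat_lit 0x132020) (Net.cons (nat_lit 1) (nat_lit 81920) Net.nil))))))))

theorem p_g232_ok : Net.ok 24 p_g232 = true := by decide +kernel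

noncomputable def p_V233 : List Net := [p_g230, p_g135, p_g231, p_g232]

theorem p_V233_ok : okE 24 p_V233 = true := (okE_cons.2 ⟨p_g230_ok, (okE_cons.2 ⟨p_g135_ok, (okE_cons.2 ⟨p_g231_ok, (okE_cons.2 ⟨p_g232_ok, (okE_nil 24)⟩)⟩)⟩)⟩)

noncomputable def p_g235 : Net := (Net.cons (nat_lit 1) (nat_lit 81920) (Net.cons (nat_lit 2) (nat_lit 139280) (Net.cons (nat_lit 8) (nat_lit 8) (Net.cons (nat_lit 16) (nat_lit 10) (Net.cons (nat_lit 8) (nat_lit 50) (Net.cons (nat_lit 4) (nat_lit 66564) (Net.cons (nat_lit 2) (nat_lit 8722) (Net.cons (nat_lit 1) (nat_lit 81920) Net.nil))))))))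

theorem p_g235_ok : Net.ok 24 p_g235 = true := by decide +kernel

noncomputable def p_g236 : Net := (Net.cons (nat_lit 1) (nat_lit 263172) (Net.cons (nat_lit 2) (nat_lit 0x121200) (Net.cons (nat_lit 4) (nat_lit 66048) (Net.cons (nat_lit 8) (nat_lit 8) (Net.cons (nat_lit 16) (nat_lit 92) (Net.cons (nat_lit 8) (nat_lit 40) (Net.cons (nat_lit 4) (nat_lit 329220) (Net.cons (nat_lit 2) (nat_lit 0x121202) (Net.cons (nat_lit 1) (nat_lit 279556) Net.nil)))))))))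

theorem p_g236_ok : Net.ok 24 p_g236 = true := by decide +kernel

noncomputable def p_V237 : List Net := [p_g109, p_g110, p_g235, p_g236]

theorem p_V237_ok : okE 24 p_V237 = true := (okE_cons.2 ⟨p_g109_ok, (okE_cons.2 ⟨p_g110_ok, (okE_cons.2 ⟨p_g235_ok, (okE_cons.2 ⟨p_g236_ok, (okE_nil 24)⟩)⟩)⟩)⟩)

noncomputable def ch2_o_E4 : List Net := []

theorem ch2_o_E4_ok : okE 24 ch2_o_E4 = true := (okE_nil 24)

noncomputable def ch2_o_G3 : List Net := [p_g109, p_g110, p_g235, p_g236]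

theorem ch2_o_G3_ok : okE 24 ch2_o_G3 = true := (okE_cons.2 ⟨p_g109_ok, (okE_cons.2 ⟨p_g110_ok, (okE_cons.2 ⟨p_g235_ok, (okE_cons.2 ⟨p_g236_ok, (okE_nil 24)⟩)⟩)⟩)⟩)

noncomputable def ch2_o_E3 : List Net := [p_g109, p_g110, p_g235, p_g236, p_g230, p_g135, p_g231, p_g232]

theorem ch2_o_E3_ok : okE 24 ch2_o_E3 = true := (okE_cons.2 ⟨p_g109_ok, (okE_cons.2 ⟨p_g110_ok, (okE_cons.2 ⟨p_g235_ok, (okE_cons.2 ⟨p_g236_ok, (okE_cons.2 ⟨p_g230_ok, (okE_cons.2 ⟨p_g135_ok, (okE_cons.2 ⟨p_g231_ok, (okE_cons.2 ⟨p_g232_ok, (okE_nil 24)⟩)⟩)⟩)⟩)⟩)⟩)⟩)⟩)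

noncomputable def ch2_o_G2 : List Net := [p_g224, p_g109, p_g110, p_g235, p_g236, p_g230, p_g135, p_g231, p_g232]

theorem ch2_o_G2_ok : okE 24 ch2_o_G2 = true := (okE_cons.2 ⟨p_g224_ok, (okE_cons.2 ⟨p_g109_ok, (okE_cons.2 ⟨p_g110_ok, (okE_cons.2 ⟨p_g235_ok, (okE_cons.2 ⟨p_g236_ok, (okE_cons.2 ⟨p_g230_ok, (okE_cons.2 ⟨p_g135_ok, (okE_cons.2 ⟨p_g231_ok, (okE_cons.2 ⟨p_g232_ok, (okE_nil 24)⟩)⟩)⟩)⟩)⟩)⟩)⟩)⟩)⟩)

noncomputable def ch2_o_E2 : List Net := [p_g224, p_g225, p_g109, p_g110, p_g235, p_g236, p_g230, p_g135, p_g231, p_g232]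

theorem ch2_o_E2_ok : okE 24 ch2_o_E2 = true := (okE_cons.2 ⟨p_g224_ok, (okE_cons.2 ⟨p_g225_ok, (okE_cons.2 ⟨p_g109_ok, (okE_cons.2 ⟨p_g110_ok, (okE_cons.2 ⟨p_g235_ok, (okE_cons.2 ⟨p_g236_ok, (okE_cons.2 ⟨p_g230_ok, (okE_cons.2 ⟨p_g135_ok, (okE_cons.2 ⟨p_g231_ok, (okE_cons.2 ⟨p_g232_ok, (okE_nil 24)⟩)⟩)⟩)⟩)⟩)⟩)⟩)⟩)⟩)⟩)

noncomputable def ch2_o_G1 : List Net := [p_g217, p_g224, p_g225, p_g109, p_g110, p_g235, p_g236, p_g230, p_g135, p_g231, p_g232]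

theorem ch2_o_G1_ok : okE 24 ch2_o_G1 = true := (okE_cons.2 ⟨p_g217_ok, (okE_cons.2 ⟨p_g224_ok, (okE_cons.2 ⟨p_g225_ok, (okE_cons.2 ⟨p_g109_ok, (okE_cons.2 ⟨p_g110_ok, (okE_cons.2 ⟨p_g235_ok, (okE_cons.2 ⟨p_g236_ok, (okE_cons.2 ⟨p_g230_ok, (okE_cons.2 ⟨p_g135_ok, (okE_cons.2 ⟨p_g231_ok, (okE_cons.2 ⟨p_g232_ok, (okE_nil 24)⟩)⟩)⟩)⟩)⟩)⟩)⟩)⟩)⟩)⟩)⟩)

noncomputable def ch2_o_E1 : List Net := [p_g217, p_g218, p_g219, p_g224, p_g225, p_g109, p_g110, p_g235, p_g236, p_g230, p_g135, p_g231, p_g232]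

theorem ch2_o_E1_ok : okE 24 ch2_o_E1 = true := (okE_cons.2 ⟨p_g217_ok, (okE_cons.2 ⟨p_g218_ok, (okE_cons.2 ⟨p_g219_ok, (okE_cons.2 ⟨p_g224_ok, (okE_cons.2 ⟨p_g225_ok, (okE_cons.2 ⟨p_g109_ok, (okE_cons.2 ⟨p_g110_ok, (okE_cons.2 ⟨p_g235_ok, (okE_cons.2 ⟨p_g236_ok, (okE_cons.2 ⟨p_g230_ok, (okE_cons.2 ⟨p_g135_ok, (okE_cons.2 ⟨p_g231_ok, (okE_cons.2 ⟨p_g232_ok, (okE_nil 24)⟩)⟩)⟩)⟩)⟩)⟩)⟩)⟩)⟩)⟩)⟩)⟩)⟩)

noncomputable def ch2_o_G0 : List Net := [p_g211, p_g217, p_g218, p_g219, p_g224, p_g225, p_g109, p_g110, p_g235, p_g236, p_g230, p_g135, p_g231, p_g232]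

theorem ch2_o_G0_ok : okE 24 ch2_o_G0 = true := (okE_cons.2 ⟨p_g211_ok, (okE_cons.2 ⟨p_g217_ok, (okE_cons.2 ⟨p_g218_ok, (okE_cons.2 ⟨p_g219_ok, (okE_cons.2 ⟨p_g224_ok, (okE_cons.2 ⟨p_g225_ok, (okE_cons.2 ⟨p_g109_ok, (okE_cons.2 ⟨p_g110_ok, (okE_cons.2 ⟨p_g235_ok, (okE_cons.2 ⟨p_g236_ok, (okE_cons.2 ⟨p_g230_ok, (okE_cons.2 ⟨p_g135_ok, (okE_cons.2 ⟨p_g231_ok, (okE_cons.2 ⟨p_g232_ok, (okE_nil 24)⟩)⟩)⟩)⟩)⟩)⟩)⟩)⟩)⟩)⟩)⟩)⟩)⟩)⟩)

noncomputable def ch2_o_E0 : List Net := [p_g211, p_g104, p_g212, p_g213, p_g214, p_g217, p_g218, p_g219, p_g224, p_g225, p_g109, p_g110, p_g235, p_g236, p_g230, p_g135, p_g231, p_g232]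

theorem ch2_o_E0_ok : okE 24 ch2_o_E0 = true := (okE_cons.2 ⟨p_g211_ok, (okE_cons.2 ⟨p_g104_ok, (okE_cons.2 ⟨p_g212_ok, (okE_cons.2 ⟨p_g213_ok, (okE_cons.2 ⟨p_g214_ok, (okE_cons.2 ⟨p_g217_ok, (okE_cons.2 ⟨p_g218_ok, (okE_cons.2 ⟨p_g219_ok, (okE_cons.2 ⟨p_g224_ok, (okE_cons.2 ⟨p_g225_ok, (okE_cons.2 ⟨p_g109_ok, (okE_cons.2 ⟨p_g110_ok, (okE_cons.2 ⟨p_g235_ok, (okE_cons.2 ⟨p_g236_ok, (okE_cons.2 ⟨p_g230_ok, (okE_cons.2 ⟨p_g135_ok, (okE_cons.2 ⟨p_g231_ok, (okE_cons.2 ⟨p_g232_ok, (okE_nil 24)⟩)⟩)⟩)⟩)⟩)⟩)⟩)⟩)⟩)⟩)⟩)⟩)⟩)⟩)⟩)⟩)⟩)⟩)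

noncomputable def p_g248 : Net := (Net.cons (nat_lit 1) (nat_lit 0x454000) (Net.cons (nat_lit 2) (nat_lit 0x111010) (Net.cons (nat_lit 4) (nat_lit 786432) (Net.cons (nat_lit 8) (nat_lit 65) (Net.cons (nat_lit 16) (nat_lit 203) (Net.cons (nat_lit 8) (nat_lit 199) (Net.cons (nat_lit 4) (nat_lit 524) (Net.cons (nat_lit 2) (nat_lit 0x313012) (Net.cons (nat_lit 1) (nat_lit 0x414100) Net.nil)))))))))

theorem p_g248_ok : Net.ok 24 p_g248 = true := by decide +kernel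

noncomputable def p_g249 : Net := (Net.cons (nat_lit 1) (nat_lit 0x451010) (Net.cons (nat_lit 2) (nat_lit 0x201000) (Net.cons (nat_lit 4) (nat_lit 134400) (Net.cons (nat_lit 8) (nat_lit 42) (Net.cons (nat_lit 16) (nat_lit 170) (Net.cons (nat_lit 8) (nat_lit 188) (Net.cons (nat_lit 4) (nat_lit 1290) (Net.cons (nat_lit 2) (nat_lit 143906) (Net.cons (nat_lit 1) (nat_lit 0x451010) Net.nil)))))))))

theorem p_g249_ok : Net.ok 24 p_g249 = true := by decide +kernel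

noncomputable def p_g250 : Net := (Net.cons (nat_lit 1) (nat_lit 0x411140) (Net.cons (nat_lit 4) (nat_lit 655872) (Net.cons (nat_lit 8) (nat_lit 32) (Net.cons (nat_lit 16) (nat_lit 46) (Net.cons (nat_lit 8) (nat_lit 2) (Net.cons (nat_lit 4) (nat_lit 526594) (Net.cons (nat_lit 2) (nat_lit 16) (Net.cons (nat_lit 1) (nat_lit 0x411140) Net.nil))))))))

theorem p_g250_ok : Net.ok 24 p_g250 = true := by decide +kernel

noncomputable def p_g251 : Net := (Net.cons (nat_lit 1) (nat_lit 0x450100) (Net.cons (nat_lit 2) (nat_lit 8704) (Net.cons (nat_lit 4) (nat_lit 983552) (Net.cons (nat_lit 8) (nat_lit 164) (Net.cons (nat_lit 16) (nat_lit 165) (Net.cons (nat_lit 8) (nat_lit 227) (Net.cons (nat_lit 4) (nat_lit 983552) (Net.cons (nat_lit 2) (nat_lit 0x112301) (Net.cons (nat_lit 1) (nat_lit 0x450100) Net.nil)))))))))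

theorem p_g251_ok : Net.ok 24 p_g251 = true := by decide +kernel

noncomputable def p_g252 : Net := (Net.cons (nat_lit 1) (nat_lit 0x504440) (Net.cons (nat_lit 2) (nat_lit 0x100000) (Net.cons (nat_lit 4) (nat_lit 67584) (Net.cons (nat_lit 8) (nat_lit 128) (Net.cons (nat_lit 16) (nat_lit 141) (Net.cons (nat_lit 8) (nat_lit 8) (Net.cons (nat_lit 4) (nat_lit 721416) (Net.cons (nat_lit 2) (nat_lit 0x100010) (Net.cons (nat_lit 1) (nat_lit 0x504440) Net.nil)))))))))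

theorem p_g252_ok : Net.ok 24 p_g252 = true := by decide +kernel

noncomputable def p_g253 : Net := (Net.cons (nat_lit 1) (nat_lit 0x100410) (Net.cons (nat_lit 2) (nat_lit 0x222310) (Net.cons (nat_lit 4) (nat_lit 132608) (Net.cons (nat_lit 8) (nat_lit 49) (Net.cons (nat_lit 16) (nat_lit 53) (Net.cons (nat_lit 8) (nat_lit 115) (Net.cons (nat_lit 4) (nat_lit 658944) (Net.cons (nat_lit 2) (nat_lit 0x222310) (Net.cons (nat_lit 1) (nat_lit 0x100410) Net.nil)))))))))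

theorem p_g253_ok : Net.ok 24 p_g253 = true := by decide +kernel

noncomputable def ch3_Q : List Net := [p_g249, p_g250, p_g251, p_g252, p_g253]

theorem ch3_Q_ok : okE 24 ch3_Q = true := (okE_cons.2 ⟨p_g249_ok, (okE_cons.2 ⟨p_g250_ok, (okE_cons.2 ⟨p_g251_ok, (okE_cons.2 ⟨p_g252_ok, (okE_cons.2 ⟨p_g253_ok, (okE_nil 24)⟩)⟩)⟩)⟩)⟩)

noncomputable def p_V254 : List Net := [p_g251]

theorem p_V254_ok : okE 24 p_V254 = true := (okE_cons.2 ⟨p_g251_ok, (okE_nil 24)⟩)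

noncomputable def p_g256 : Net := (Net.cons (nat_lit 1) (nat_lit 327684) (Net.cons (nat_lit 2) (nat_lit 0x120200) (Net.cons (nat_lit 4) (nat_lit 393216) (Net.cons (nat_lit 8) (nat_lit 12) (Net.cons (nat_lit 16) (nat_lit 46) (Net.cons (nat_lit 8) (nat_lit 36) (Net.cons (nat_lit 4) (nat_lit 264962) (Net.cons (nat_lit 2) (nat_lit 0x112002) (Net.cons (nat_lit 1) (nat_lit 327684) Net.nil)))))))))

theorem p_g256_ok : Net.ok 24 p_g256 = true := by decide +kernel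

noncomputable def p_g257 : Net := (Net.cons (nat_lit 1) (nat_lit 69888) (Net.cons (nat_lit 2) (nat_lit 0x112300) (Net.cons (nat_lit 4) (nat_lit 131328) (Net.cons (nat_lit 8) (nat_lit 3) (Net.cons (nat_lit 16) (nat_lit 51) (Net.cons (nat_lit 8) (nat_lit 37) (Net.cons (nat_lit 4) (nat_lit 2826) (Net.cons (nat_lit 2) (nat_lit 0x112300) (Net.cons (nat_lit 1) (nat_lit 69888) Net.nil)))))))))

theorem p_g257_ok : Net.ok 24 p_g257 = true := by decide +kernel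

noncomputable def p_g258 : Net := (Net.cons (nat_lit 1) (nat_lit 0x450040) (Net.cons (nat_lit 2) (nat_lit 131584) (Net.cons (nat_lit 4) (nat_lit 524288) (Net.cons (nat_lit 8) (nat_lit 132) (Net.cons (nat_lit 16) (nat_lit 172) (Net.cons (nat_lit 8) (nat_lit 134) (Net.cons (nat_lit 4) (nat_lit 590080) (Net.cons (nat_lit 2) (nat_lit 131600) (Net.cons (nat_lit 1) (nat_lit 0x450040) Net.nil)))))))))

theorem p_g258_ok : Net.ok 24 p_g258 = true := by decide +kernel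

noncomputable def p_g259 : Net := (Net.cons (nat_lit 1) (nat_lit 0x500410) (Net.cons (nat_lit 2) (nat_lit 0x212020) (Net.cons (nat_lit 4) (nat_lit 590336) (Net.cons (nat_lit 8) (nat_lit 13) (Net.cons (nat_lit 16) (nat_lit 45) (Net.cons (nat_lit 8) (nat_lit 31) (Net.cons (nat_lit 4) (nat_lit 590344) (Net.cons (nat_lit 2) (nat_lit 0x232020) (Net.cons (nat_lit 1) (nat_lit 0x500410) Net.nil)))))))))

theorem p_g259_ok : Net.ok 24 p_g259 = true := by decide +kernel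

noncomputable def p_V260 : List Net := [p_g256, p_g257, p_g258, p_g259, p_g250]

theorem p_V260_ok : okE 24 p_V260 = true := (okE_cons.2 ⟨p_g256_ok, (okE_cons.2 ⟨p_g257_ok, (okE_cons.2 ⟨p_g258_ok, (okE_cons.2 ⟨p_g259_ok, (okE_cons.2 ⟨p_g250_ok, (okE_nil 24)⟩)⟩)⟩)⟩)⟩)

noncomputable def p_V262 : List Net := [p_g257, p_g258]

theorem p_V262_ok : okE 24 p_V262 = true := (okE_cons.2 ⟨p_g257_ok, (okE_cons.2 ⟨p_g258_ok, (okE_nil 24)⟩)⟩)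

noncomputable def p_g264 : Net := (Net.cons (nat_lit 1) (nat_lit 0x141000) (Net.cons (nat_lit 2) (nat_lit 0x331100) (Net.cons (nat_lit 4) (nat_lit 1024) (Net.cons (nat_lit 8) (nat_lit 67) (Net.cons (nat_lit 16) (nat_lit 83) (Net.cons (nat_lit 8) (nat_lit 103) (Net.cons (nat_lit 4) (nat_lit 525320) (Net.cons (nat_lit 2) (nat_lit 0x331100) (Net.cons (nat_lit 1) (nat_lit 0x141000) Net.nil)))))))))

theorem p_g264_ok : Net.ok 24 p_g264 = true := by decide +kernel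

noncomputable def p_g265 : Net := (Net.cons (nat_lit 1) (nat_lit 0x550000) (Net.cons (nat_lit 2) (nat_lit 0x301110) (Net.cons (nat_lit 4) (nat_lit 786432) (Net.cons (nat_lit 8) (nat_lit 1) (Net.cons (nat_lit 16) (nat_lit 165) (Net.cons (nat_lit 8) (nat_lit 1) (Net.cons (nat_lit 4) (nat_lit 1548) (Net.cons (nat_lit 2) (nat_lit 0x101130) (Net.cons (nat_lit 1) (nat_lit 0x410014) Net.nil)))))))))

theorem p_g265_ok : Net.ok 24 p_g265 = true := by decide +kernel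

noncomputable def p_V266 : List Net := [p_g264, p_g265]

theorem p_V266_ok : okE 24 p_V266 = true := (okE_cons.2 ⟨p_g264_ok, (okE_cons.2 ⟨p_g265_ok, (okE_nil 24)⟩)⟩)

noncomputable def p_V268 : List Net := [p_g264, p_g265]

theorem p_V268_ok : okE 24 p_V268 = true := (okE_cons.2 ⟨p_g264_ok, (okE_cons.2 ⟨p_g265_ok, (okE_nil 24)⟩)⟩)

noncomputable def ch3_o_E3 : List Net := []

theorem ch3_o_E3_ok : okE 24 ch3_o_E3 = true := (okE_nil 24)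

noncomputable def ch3_o_G2 : List Net := [p_g264, p_g265]

theorem ch3_o_G2_ok : okE 24 ch3_o_G2 = true := (okE_cons.2 ⟨p_g264_ok, (okE_cons.2 ⟨p_g265_ok, (okE_nil 24)⟩)⟩)

noncomputable def ch3_o_E2 : List Net := [p_g264, p_g265]

theorem ch3_o_E2_ok : okE 24 ch3_o_E2 = true := (okE_cons.2 ⟨p_g264_ok, (okE_cons.2 ⟨p_g265_ok, (okE_nil 24)⟩)⟩)

noncomputable def ch3_o_G1 : List Net := [p_g257, p_g258, p_g264, p_g265]

theorem ch3_o_G1_ok : okE 24 ch3_o_G1 = true := (okE_cons.2 ⟨p_g257_ok, (okE_cons.2 ⟨p_g258_ok, (okE_cons.2 ⟨p_g264_ok, (okE_cons.2 ⟨p_g265_ok, (okE_nil 24)⟩)⟩)⟩)⟩)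

noncomputable def ch3_o_E1 : List Net := [p_g257, p_g258, p_g256, p_g259, p_g250, p_g264, p_g265]

theorem ch3_o_E1_ok : okE 24 ch3_o_E1 = true := (okE_cons.2 ⟨p_g257_ok, (okE_cons.2 ⟨p_g258_ok, (okE_cons.2 ⟨p_g256_ok, (okE_cons.2 ⟨p_g259_ok, (okE_cons.2 ⟨p_g250_ok, (okE_cons.2 ⟨p_g264_ok, (okE_cons.2 ⟨p_g265_ok, (okE_nil 24)⟩)⟩)⟩)⟩)⟩)⟩)⟩)

noncomputable def ch3_o_G0 : List Net := [p_g251, p_g257, p_g258, p_g256, p_g259, p_g250, p_g264, p_g265]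

theorem ch3_o_G0_ok : okE 24 ch3_o_G0 = true := (okE_cons.2 ⟨p_g251_ok, (okE_cons.2 ⟨p_g257_ok, (okE_cons.2 ⟨p_g258_ok, (okE_cons.2 ⟨p_g256_ok, (okE_cons.2 ⟨p_g259_ok, (okE_cons.2 ⟨p_g250_ok, (okE_cons.2 ⟨p_g264_ok, (okE_cons.2 ⟨p_g265_ok, (okE_nil 24)⟩)⟩)⟩)⟩)⟩)⟩)⟩)⟩)

noncomputable def ch3_o_E0 : List Net := [p_g251, p_g249, p_g252, p_g253, p_g257, p_g258, p_g256, p_g259, p_g250, p_g264, p_g265]

theorem ch3_o_E0_ok : okE 24 ch3_o_E0 = true := (okE_cons.2 ⟨p_g251_ok, (okE_cons.2 ⟨p_g249_ok, (okE_cons.2 ⟨p_g252_ok, (okE_cons.2 ⟨p_g253_ok, (okE_cons.2 ⟨p_g257_ok, (okE_cons.2 ⟨p_g258_ok, (okE_cons.2 ⟨p_g256_ok, (okE_cons.2 ⟨p_g259_ok, (okE_cons.2 ⟨p_g250_ok, (okE_cons.2 ⟨p_g264_ok, (okE_cons.2 ⟨p_g265_ok, (okE_nil 24)⟩)⟩)⟩)⟩)⟩)⟩)⟩)⟩)⟩)⟩)⟩)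

noncomputable def p_g277 : Net := (Net.cons (nat_lit 1) (nat_lit 0x450414) (Net.cons (nat_lit 2) (nat_lit 0x122300) (Net.cons (nat_lit 4) (nat_lit 593152) (Net.cons (nat_lit 8) (nat_lit 66) (Net.cons (nat_lit 16) (nat_lit 94) (Net.cons (nat_lit 8) (nat_lit 242) (Net.cons (nat_lit 4) (nat_lit 329224) (Net.cons (nat_lit 2) (nat_lit 0x132122) (Net.cons (nat_lit 1) (nat_lit 0x551100) Net.nil)))))))))

theorem p_g277_ok : Net.ok 24 p_g277 = true := by decide +kernel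

theorem p_le6 : grp 24 p_V5 ≤ grp 24 E :=
  grp_le_of_memB p_hn p_hk E_ok p_V5_ok (ws := [nat_lit 0x301010302, nat_lit 0x4010101]) (by decide +kernel)

theorem p_le10 : grp 24 p_V9 ≤ grp 24 p_V5 :=
  grp_le_of_memB p_hn p_hk p_V5_ok p_V9_ok (ws := [nat_lit 0x3030302040104, nat_lit 0x401030104]) (by decide +kernel)

theorem p_le15 : grp 24 p_V14 ≤ grp 24 p_V9 :=
  grp_le_of_memB p_hn p_hk p_V9_ok p_V14_ok (ws := [nat_lit 0x40202030204010401, nat_lit 0x10101010303030101, nat_lit 0x402030202040101]) (by decide +kernel)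

theorem p_le21 : grp 24 p_V20 ≤ grp 24 p_V14 :=
  grp_le_of_memB p_hn p_hk p_V14_ok p_V20_ok (ws := [nat_lit 0x40601010502, nat_lit 0x3060205040404, nat_lit 0x5050206040101, nat_lit 0x203050103020305040405]) (by decide +kernel)

theorem lb_le : grp 24 lb_E ≤ grp 24 E :=
  (grp_cons_le ((le_refl (grp 24 E)) (toPerm_mem_grp (E := E) (by simp [E]))) (grp_cons_le ((le_refl (grp 24 E)) (toPerm_mem_grp (E := E) (by simp [E]))) (grp_cons_le ((p_le6.trans (le_refl (grp 24 E))) (toPerm_mem_grp (E := p_V5) (by simp [p_V5]))) (grp_cons_le ((p_le6.trans (le_refl (grp 24 E))) (toPerm_mem_grp (E := p_V5) (by simp [p_V5]))) (grp_cons_le ((p_le10.trans (p_le6.trans (le_refl (grp 24 E)))) (toPerm_mem_grp (E := p_V9) (by simp [p_V9]))) (grp_cons_le ((p_le10.trans (p_le6.trans (le_refl (grp 24 E)))) (toPerm_mem_grp (E := p_V9) (by simp [p_V9]))) (grp_cons_le ((p_le15.trans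 (p_le10.trans (p_le6.trans (le_refl (grp 24 E))))) (toPerm_mem_grp (E := p_V14) (by simp [p_V14]))) (grp_cons_le ((p_le15.trans (p_le10.trans (p_le6.trans (le_refl (grp 24 E))))) (toPerm_mem_grp (E := p_V14) (by simp [p_V14]))) (grp_cons_le ((p_le15.trans (p_le10.trans (p_le6.trans (le_refl (grp 24 E))))) (toPerm_mem_grp (E := p_V14) (by simp [p_V14]))) (grp_cons_le ((p_le21.trans (p_le15.trans (p_le10.trans (p_le6.trans (le_refl (grp 24 E)))))) (toPerm_mem_grp (E := p_V20) (by simp [p_V20]))) (grp_cons_le ((p_le21.trans (p_le15.trans (p_le10.trans (p_le6.trans (le_refl (grp 24 E)))))) (toPerm_mem_grp (E := p_V20) (by simp [p_V20]))) (grp_cons_le ((p_le21.trans (p_le15.trans (p_le10.trans (p_le6.trans (le_refl (grp 24 E)))))) (toPerm_mem_grp (E := p_V20) (by simp [p_V20]))) (grp_cons_le ((p_le21.trans (p_le15.trans (p_le10.trans (p_le6.trans (le_refl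 (grp 24 E)))))) (toPerm_mem_grp (E := p_V20) (by simp [p_V20]))) (grp_nil_le _))))))))))))))

noncomputable def lb_ch : Ch := (Ch.cons (nat_lit 1) [nat_lit 1, nat_lit 3] (Ch.cons (nat_lit 2) [nat_lit 5, nat_lit 7] (Ch.cons (nat_lit 3) [nat_lit 9, nat_lit 11] (Ch.cons (nat_lit 5) [nat_lit 13, nat_lit 15, nat_lit 17] (Ch.cons (nat_lit 4) [nat_lit 19, nat_lit 21, nat_lit 23, nat_lit 25] Ch.nil)))))

theorem lb_chk : Ch.chk 24 5 (lab 24 5) lb_E lb_ch 443520 = true :=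
  by decide +kernel

theorem lb_ge : 443520 ≤ Nat.card (grp 24 E) :=
  (Ch.le_card_grp p_hn lb_E_ok lb_chk).trans (Subgroup.card_le_of_le lb_le)

theorem eq_lb : grp 24 E = grp 24 lb_E :=
  le_antisymm (grp_mono (List.subset_append_left E [p_g3, p_g4, p_g7, p_g8, p_g11, p_g12, p_g13, p_g16, p_g17, p_g18, p_g19])) lb_le

noncomputable def equiv : Spor.M22 ≃* grp 24 E := (EvG.mathieu_equiv H74.test22 E_ok (cs := [970087432355970798570041715581931584, 971496109422593173262292346354717216]) (by decide +kernel) (H74.card_M22.le.trans lb_ge)).some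

theorem card_G : Nat.card (grp 24 E) = 443520 :=
  (Nat.card_congr equiv.toEquiv).symm.trans H74.card_M22

theorem p_le24 : grp 24 p_V23 ≤ grp 24 EG :=
  grp_le_of_memB p_hn p_hk EG_ok p_V23_ok (ws := [nat_lit 1]) (by decide +kernel)

theorem p_le28 : grp 24 p_V27 ≤ grp 24 EG :=
  grp_le_of_memB p_hn p_hk EG_ok p_V27_ok (ws := [nat_lit 0x306030103010405, nat_lit 0x20303010303]) (by decide +kernel)

theorem p_le31 : grp 24 p_V30 ≤ grp 24 p_V27 :=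
  grp_le_of_memB p_hn p_hk p_V27_ok p_V30_ok (ws := [nat_lit 0x1010303]) (by decide +kernel)

theorem p_le35 : grp 24 p_V34 ≤ grp 24 p_V27 :=
  grp_le_of_memB p_hn p_hk p_V27_ok p_V34_ok (ws := [nat_lit 0x2030303030104, nat_lit 0x20402040404]) (by decide +kernel)

theorem p_le38 : grp 24 p_V37 ≤ grp 24 p_V34 :=
  grp_le_of_memB p_hn p_hk p_V34_ok p_V37_ok (ws := [nat_lit 0x1010404]) (by decide +kernel)

theorem p_le41 : grp 24 p_V40 ≤ grp 24 p_V34 :=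
  grp_le_of_memB p_hn p_hk p_V34_ok p_V40_ok (ws := [nat_lit 3, nat_lit 0x20404020302]) (by decide +kernel)

theorem p_le44 : grp 24 p_V43 ≤ grp 24 p_V40 :=
  grp_le_of_memB p_hn p_hk p_V40_ok p_V43_ok (ws := [nat_lit 4]) (by decide +kernel)

theorem p_le49 : grp 24 p_V48 ≤ grp 24 p_V40 :=
  grp_le_of_memB p_hn p_hk p_V40_ok p_V48_ok (ws := [nat_lit 0x203010101, nat_lit 0x202030103020401040202, nat_lit 0x302040204040101]) (by decide +kernel)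

theorem p_le52 : grp 24 p_V51 ≤ grp 24 p_V48 :=
  grp_le_of_memB p_hn p_hk p_V48_ok p_V51_ok (ws := [nat_lit 2]) (by decide +kernel)

theorem p_le58 : grp 24 p_V57 ≤ grp 24 p_V48 :=
  grp_le_of_memB p_hn p_hk p_V48_ok p_V57_ok (ws := [nat_lit 0x60203060302040601, nat_lit 0x501050401010501, nat_lit 0x60101060301040104020601, nat_lit 0x20503020205030501]) (by decide +kernel)

theorem p_le64 : grp 24 p_V63 ≤ grp 24 p_V57 :=
  grp_le_of_memB p_hn p_hk p_V57_ok p_V63_ok (ws := [nat_lit 66311, nat_lit 197895, nat_lit 66823, nat_lit 66309]) (by decide +kernel)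

theorem N_card6 : Nat.card (grp 24 N_E6) = 1 :=
  card_grp_nil 24

theorem N_leO6 : grp 24 N_E6 ≤ grp 24 EG :=
  grp_nil_le _

theorem N_5_fix : grp 24 N_E6 ≤ MulAction.stabilizer (Equiv.Perm (Fin 24)) (⟨3, by decide⟩ : Fin 24) :=
  grp_le_stab N_E6_ok (by decide : 3 < 24) (by decide +kernel)

noncomputable def N_5_ts : List ℕ := [nat_lit 0, nat_lit 1, nat_lit 3, nat_lit 5, nat_lit 7, nat_lit 259, nat_lit 261, nat_lit 263, nat_lit 773, nat_lit 775, nat_lit 1287, nat_lit 66309, nat_lit 66311, nat_lit 66823, nat_lit 197895, nat_lit 0x1030507]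

noncomputable def N_5_ds : List ℕ := [nat_lit 3, nat_lit 17, nat_lit 6, nat_lit 13, nat_lit 19, nat_lit 7, nat_lit 22, nat_lit 21, nat_lit 8, nat_lit 5, nat_lit 12, nat_lit 11, nat_lit 14, nat_lit 18, nat_lit 16, nat_lit 4]

theorem N_5_dist : Dist 24 N_E6 N_G5 (⟨3, by decide⟩ : Fin 24) N_5_ts N_5_ds :=
  dist_of_distB (k := 4) p_hn N_E6_ok N_G5_ok (by decide : 3 < 24) (by decide +kernel)

noncomputable def N_5_sl0 : SL := (SL.cons (nat_lit 1) (nat_lit 17) Ch.nil [] (SL.cons (nat_lit 3) (nat_lit 6) Ch.nil [] (SL.cons (nat_lit 5) (nat_lit 13) Ch.nil [] (SL.cons (nat_lit 7) (nat_lit 19) Ch.nil [] (SL.cons (nat_lit 259) (nat_lit 7) Ch.nil [] (SL.cons (nat_lit 261) (nat_lit 22) Ch.nil [] (SL.cons (nat_lit 263) (nat_lit 21) Ch.nil [] (SL.cons (nat_lit 773) (nat_lit 8) Ch.nil [] (SL.cons (nat_lit 775) (nat_lit 5) Ch.nil [] (SL.cons (nat_lit 1287) (nat_lit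 12) Ch.nil [] (SL.cons (nat_lit 66309) (nat_lit 11) Ch.nil [] (SL.cons (nat_lit 66311) (nat_lit 14) Ch.nil [] (SL.cons (nat_lit 66823) (nat_lit 18) Ch.nil [] (SL.cons (nat_lit 197895) (nat_lit 16) Ch.nil [] (SL.cons (nat_lit 0x1030507) (nat_lit 4) Ch.nil [] SL.nil)))))))))))))))

theorem N_5_sc0 : SCs 24 N_E6 N_G5 (⟨3, by decide⟩ : Fin 24) (SL.words N_5_sl0) :=
  scs_of_ok p_hn (det_lab p_hk ⊤) N_E6_ok N_G5_ok le_top le_top (by decide : 3 < 24) N_5_fix N_card6.le (by decide +kernel)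

noncomputable def N_5_l : List ℕ := (appL (SL.words N_5_sl0) [])

theorem N_5_scs : SCs 24 N_E6 N_G5 (⟨3, by decide⟩ : Fin 24) N_5_l :=
  (SCs.append N_5_sc0 SCs.nil)

noncomputable def N_5_rl0_0 : RL := (RL.cons (nat_lit 0) (nat_lit 3) (nat_lit 0) (nat_lit 0) (nat_lit 1) (nat_lit 0) (RL.cons (nat_lit 1) (nat_lit 17) (nat_lit 0) (nat_lit 0) (nat_lit 0) (nat_lit 0) (RL.cons (nat_lit 2) (nat_lit 6) (nat_lit 0) (nat_lit 0) (nat_lit 5) (nat_lit 0) (RL.cons (nat_lit 3) (nat_lit 13) (nat_lit 0) (nat_lit 0) (nat_lit 6) (nat_lit 0) (RL.cons (nat_lit 4) (nat_lit 19) (nat_lit 0) (nat_lit 0) (nat_lit 7) (nat_lit 0) (RL.cons (nat_lit 5) (nat_lit 7) (nat_lit 0) (nat_lit 0) (nat_lit 2) (nat_lit 0) (RL.cons (nat_lit 6) (nat_lit 22) (nat_lit 0) (nat_lit 0) (nat_lit 3) (nat_lit 0) (RL.cons (nat_lit 7) (nat_lit 21) (nat_lit 0) (nat_lit 0) (nat_lit 4) (nat_lit 0)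 (RL.cons (nat_lit 8) (nat_lit 8) (nat_lit 0) (nat_lit 0) (nat_lit 11) (nat_lit 0) (RL.cons (nat_lit 9) (nat_lit 5) (nat_lit 0) (nat_lit 0) (nat_lit 12) (nat_lit 0) (RL.cons (nat_lit 10) (nat_lit 12) (nat_lit 0) (nat_lit 0) (nat_lit 13) (nat_lit 0) (RL.cons (nat_lit 11) (nat_lit 11) (nat_lit 0) (nat_lit 0) (nat_lit 8) (nat_lit 0) (RL.cons (nat_lit 12) (nat_lit 14) (nat_lit 0) (nat_lit 0) (nat_lit 9) (nat_lit 0) (RL.cons (nat_lit 13) (nat_lit 18) (nat_lit 0) (nat_lit 0) (nat_lit 10) (nat_lit 0) (RL.cons (nat_lit 14) (nat_lit 16) (nat_lit 0) (nat_lit 0) (nat_lit 15) (nat_lit 0) (RL.cons (nat_lit 15) (nat_lit 4) (nat_lit 0) (nat_lit 0) (nat_lit 14) (nat_lit 0) RL.nil))))))))))))))))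

theorem N_5_good0_0 : GoodSet 24 N_E6 N_G5 (⟨3, by decide⟩ : Fin 24) N_5_ts (nat_lit 1) (RL.pts N_5_rl0_0) :=
  goodSet_of_ok p_hn (det_lab p_hk ⊤) N_E6_ok N_G5_ok le_top le_top (by decide : 3 < 24) (sepAt_lab p_hk _) (by decide +kernel)

theorem N_5_step0 : Step 24 N_E6 N_G5 N_5_ts (2 * 0 + 1) :=
  step_of_cover N_E6_ok N_5_dist (by decide +kernel) N_5_scs (by decide +kernel) N_5_good0_0 (kw := [])
    (conj_mem_of_scs N_E6_ok N_G5_ok (by decide : 3 < 24) N_5_scs (c := 0) (d := 17) (by decide +kernel)) (by decide +kernel)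

noncomputable def N_5_rl1_0 : RL := (RL.cons (nat_lit 0) (nat_lit 3) (nat_lit 0) (nat_lit 0) (nat_lit 2) (nat_lit 0) (RL.cons (nat_lit 1) (nat_lit 17) (nat_lit 0) (nat_lit 0) (nat_lit 5) (nat_lit 0) (RL.cons (nat_lit 2) (nat_lit 6) (nat_lit 0) (nat_lit 0) (nat_lit 0) (nat_lit 0) (RL.cons (nat_lit 3) (nat_lit 13) (nat_lit 0) (nat_lit 0) (nat_lit 8) (nat_lit 0) (RL.cons (nat_lit 4) (nat_lit 19) (nat_lit 0) (nat_lit 0) (nat_lit 9) (nat_lit 0) (RL.cons (nat_lit 5) (nat_lit 7) (nat_lit 0) (nat_lit 0) (nat_lit 1) (nat_lit 0) (RL.cons (nat_lit 6) (nat_lit 22) (nat_lit 0) (nat_lit 0) (nat_lit 11) (nat_lit 0) (RL.cons (nat_lit 7) (nat_lit 21) (nat_lit 0) (nat_lit 0) (nat_lit 12) (nat_lit 0) (RL.cons (nat_lit 8) (nat_lit 8) (nat_lit 0) (nat_lit 0) (nat_lit 3) (nat_lit 0) (RL.cons (nat_lit 9) (nat_lit 5) (nat_lit 0) (nat_lit 0) (nat_lit 4) (nat_lit 0) (RL.cons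 (nat_lit 10) (nat_lit 12) (nat_lit 0) (nat_lit 0) (nat_lit 14) (nat_lit 0) (RL.cons (nat_lit 11) (nat_lit 11) (nat_lit 0) (nat_lit 0) (nat_lit 6) (nat_lit 0) (RL.cons (nat_lit 12) (nat_lit 14) (nat_lit 0) (nat_lit 0) (nat_lit 7) (nat_lit 0) (RL.cons (nat_lit 13) (nat_lit 18) (nat_lit 0) (nat_lit 0) (nat_lit 15) (nat_lit 0) (RL.cons (nat_lit 14) (nat_lit 16) (nat_lit 0) (nat_lit 0) (nat_lit 10) (nat_lit 0) (RL.cons (nat_lit 15) (nat_lit 4) (nat_lit 0) (nat_lit 0) (nat_lit 13) (nat_lit 0) RL.nil))))))))))))))))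

theorem N_5_good1_0 : GoodSet 24 N_E6 N_G5 (⟨3, by decide⟩ : Fin 24) N_5_ts (nat_lit 3) (RL.pts N_5_rl1_0) :=
  goodSet_of_ok p_hn (det_lab p_hk ⊤) N_E6_ok N_G5_ok le_top le_top (by decide : 3 < 24) (sepAt_lab p_hk _) (by decide +kernel)

theorem N_5_step1 : Step 24 N_E6 N_G5 N_5_ts (2 * 1 + 1) :=
  step_of_cover N_E6_ok N_5_dist (by decide +kernel) N_5_scs (by decide +kernel) N_5_good1_0 (kw := [])
    (conj_mem_of_scs N_E6_ok N_G5_ok (by decide : 3 < 24) N_5_scs (c := 1) (d := 6) (by decide +kernel)) (by decide +kernel)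

noncomputable def N_5_rl2_0 : RL := (RL.cons (nat_lit 0) (nat_lit 3) (nat_lit 0) (nat_lit 0) (nat_lit 3) (nat_lit 0) (RL.cons (nat_lit 1) (nat_lit 17) (nat_lit 0) (nat_lit 0) (nat_lit 6) (nat_lit 0) (RL.cons (nat_lit 2) (nat_lit 6) (nat_lit 0) (nat_lit 0) (nat_lit 8) (nat_lit 0) (RL.cons (nat_lit 3) (nat_lit 13) (nat_lit 0) (nat_lit 0) (nat_lit 0) (nat_lit 0) (RL.cons (nat_lit 4) (nat_lit 19) (nat_lit 0) (nat_lit 0) (nat_lit 10) (nat_lit 0) (RL.cons (nat_lit 5) (nat_lit 7) (nat_lit 0) (nat_lit 0) (nat_lit 11) (nat_lit 0) (RL.cons (nat_lit 6) (nat_lit 22) (nat_lit 0) (nat_lit 0) (nat_lit 1) (nat_lit 0) (RL.cons (nat_lit 7) (nat_lit 21) (nat_lit 0) (nat_lit 0) (nat_lit 13) (nat_lit 0) (RL.cons (nat_lit 8) (nat_lit 8) (nat_lit 0) (nat_lit 0) (nat_lit 2) (nat_lit 0) (RL.cons (nat_lit 9) (nat_lit 5) (nat_lit 0) (nat_lit 0) (nat_lit 14) (nat_lit 0) (RL.cons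 (nat_lit 10) (nat_lit 12) (nat_lit 0) (nat_lit 0) (nat_lit 4) (nat_lit 0) (RL.cons (nat_lit 11) (nat_lit 11) (nat_lit 0) (nat_lit 0) (nat_lit 5) (nat_lit 0) (RL.cons (nat_lit 12) (nat_lit 14) (nat_lit 0) (nat_lit 0) (nat_lit 15) (nat_lit 0) (RL.cons (nat_lit 13) (nat_lit 18) (nat_lit 0) (nat_lit 0) (nat_lit 7) (nat_lit 0) (RL.cons (nat_lit 14) (nat_lit 16) (nat_lit 0) (nat_lit 0) (nat_lit 9) (nat_lit 0) (RL.cons (nat_lit 15) (nat_lit 4) (nat_lit 0) (nat_lit 0) (nat_lit 12) (nat_lit 0) RL.nil))))))))))))))))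

theorem N_5_good2_0 : GoodSet 24 N_E6 N_G5 (⟨3, by decide⟩ : Fin 24) N_5_ts (nat_lit 5) (RL.pts N_5_rl2_0) :=
  goodSet_of_ok p_hn (det_lab p_hk ⊤) N_E6_ok N_G5_ok le_top le_top (by decide : 3 < 24) (sepAt_lab p_hk _) (by decide +kernel)

theorem N_5_step2 : Step 24 N_E6 N_G5 N_5_ts (2 * 2 + 1) :=
  step_of_cover N_E6_ok N_5_dist (by decide +kernel) N_5_scs (by decide +kernel) N_5_good2_0 (kw := [])
    (conj_mem_of_scs N_E6_ok N_G5_ok (by decide : 3 < 24) N_5_scs (c := 2) (d := 13) (by decide +kernel)) (by decide +kernel)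

noncomputable def N_5_rl3_0 : RL := (RL.cons (nat_lit 0) (nat_lit 3) (nat_lit 0) (nat_lit 0) (nat_lit 4) (nat_lit 0) (RL.cons (nat_lit 1) (nat_lit 17) (nat_lit 0) (nat_lit 0) (nat_lit 7) (nat_lit 0) (RL.cons (nat_lit 2) (nat_lit 6) (nat_lit 0) (nat_lit 0) (nat_lit 9) (nat_lit 0) (RL.cons (nat_lit 3) (nat_lit 13) (nat_lit 0) (nat_lit 0) (nat_lit 10) (nat_lit 0) (RL.cons (nat_lit 4) (nat_lit 19) (nat_lit 0) (nat_lit 0) (nat_lit 0) (nat_lit 0) (RL.cons (nat_lit 5) (nat_lit 7) (nat_lit 0) (nat_lit 0) (nat_lit 12) (nat_lit 0) (RL.cons (nat_lit 6) (nat_lit 22) (nat_lit 0) (nat_lit 0) (nat_lit 13) (nat_lit 0) (RL.cons (nat_lit 7) (nat_lit 21) (nat_lit 0) (nat_lit 0) (nat_lit 1) (nat_lit 0) (RL.cons (nat_lit 8) (nat_lit 8) (nat_lit 0) (nat_lit 0) (nat_lit 14) (nat_lit 0) (RL.cons (nat_lit 9) (nat_lit 5) (nat_lit 0) (nat_lit 0) (nat_lit 2) (nat_lit 0) (RL.cons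 (nat_lit 10) (nat_lit 12) (nat_lit 0) (nat_lit 0) (nat_lit 3) (nat_lit 0) (RL.cons (nat_lit 11) (nat_lit 11) (nat_lit 0) (nat_lit 0) (nat_lit 15) (nat_lit 0) (RL.cons (nat_lit 12) (nat_lit 14) (nat_lit 0) (nat_lit 0) (nat_lit 5) (nat_lit 0) (RL.cons (nat_lit 13) (nat_lit 18) (nat_lit 0) (nat_lit 0) (nat_lit 6) (nat_lit 0) (RL.cons (nat_lit 14) (nat_lit 16) (nat_lit 0) (nat_lit 0) (nat_lit 8) (nat_lit 0) (RL.cons (nat_lit 15) (nat_lit 4) (nat_lit 0) (nat_lit 0) (nat_lit 11) (nat_lit 0) RL.nil))))))))))))))))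

theorem N_5_good3_0 : GoodSet 24 N_E6 N_G5 (⟨3, by decide⟩ : Fin 24) N_5_ts (nat_lit 7) (RL.pts N_5_rl3_0) :=
  goodSet_of_ok p_hn (det_lab p_hk ⊤) N_E6_ok N_G5_ok le_top le_top (by decide : 3 < 24) (sepAt_lab p_hk _) (by decide +kernel)

theorem N_5_step3 : Step 24 N_E6 N_G5 N_5_ts (2 * 3 + 1) :=
  step_of_cover N_E6_ok N_5_dist (by decide +kernel) N_5_scs (by decide +kernel) N_5_good3_0 (kw := [])
    (conj_mem_of_scs N_E6_ok N_G5_ok (by decide : 3 < 24) N_5_scs (c := 3) (d := 19) (by decide +kernel)) (by decide +kernel)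

theorem N_5_lev : grp 24 N_G5 ⊓ MulAction.stabilizer (Equiv.Perm (Fin 24)) (⟨3, by decide⟩ : Fin 24) = grp 24 N_E6 :=
  sims_level (gs := p_V63) rfl (by decide) N_5_fix N_5_dist (forall_lt_succ' (forall_lt_succ' (forall_lt_succ' (forall_lt_one N_5_step0) N_5_step1) N_5_step2) N_5_step3)

theorem N_5_cardG : Nat.card (grp 24 N_G5) = 16 :=
  card_of_level p_hn N_G5_ok (by decide : 3 < 24) N_5_lev N_card6 (m := 16) (by decide +kernel)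

theorem p_le65 : grp 24 N_E5 ≤ grp 24 N_G5 :=
  grp_le_of_memB p_hn p_hk N_G5_ok N_E5_ok (ws := [nat_lit 1, nat_lit 3, nat_lit 5, nat_lit 7, nat_lit 66823, nat_lit 66311, nat_lit 197895, nat_lit 66309]) (by decide +kernel)

theorem p_le66 : grp 24 N_G5 ≤ grp 24 N_E5 :=
  grp_le_of_memB p_hn p_hk N_E5_ok N_G5_ok (ws := [nat_lit 1, nat_lit 3, nat_lit 5, nat_lit 7]) (by decide +kernel)

theorem N_5_eq : grp 24 N_E5 = grp 24 N_G5 :=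
  le_antisymm p_le65 p_le66

theorem N_card5 : Nat.card (grp 24 N_E5) = 16 :=
  by rw [N_5_eq]; exact N_5_cardG

theorem N_stab5 : grp 24 N_E5 ⊓ MulAction.stabilizer (Equiv.Perm (Fin 24)) (⟨3, by decide⟩ : Fin 24) = grp 24 N_E6 :=
  by rw [N_5_eq]; exact N_5_lev

theorem N_leO5 : grp 24 N_E5 ≤ grp 24 EG :=
  N_5_eq.le.trans (grp_cons_le ((p_le58.trans (p_le49.trans (p_le41.trans (p_le35.trans (p_le28.trans (le_refl (grp 24 EG))))))) (p_le64 (toPerm_mem_grp (E := p_V63) (by simp [p_V63])))) (grp_cons_le ((p_le58.trans (p_le49.trans (p_le41.trans (p_le35.trans (p_le28.trans (le_refl (grp 24 EG))))))) (p_le64 (toPerm_mem_grp (E := p_V63) (by simp [p_V63])))) (grp_cons_le ((p_le58.trans (p_le49.trans (p_le41.trans (p_le35.trans (p_le28.trans (le_refl (grp 24 EG))))))) (p_le64 (toPerm_mem_grp (E := p_V63) (by simp [p_V63])))) (grp_cons_le ((p_le58.trans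 (p_le49.trans (p_le41.trans (p_le35.trans (p_le28.trans (le_refl (grp 24 EG))))))) (p_le64 (toPerm_mem_grp (E := p_V63) (by simp [p_V63])))) N_leO6))))

theorem N_4_fix : grp 24 N_E5 ≤ MulAction.stabilizer (Equiv.Perm (Fin 24)) (⟨9, by decide⟩ : Fin 24) :=
  grp_le_stab N_E5_ok (by decide : 9 < 24) (by decide +kernel)

noncomputable def N_4_ts : List ℕ := [nat_lit 0, nat_lit 1, nat_lit 2]

noncomputable def N_4_ds : List ℕ := [nat_lit 9, nat_lit 10, nat_lit 20]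

theorem N_4_dist : Dist 24 N_E5 N_G4 (⟨9, by decide⟩ : Fin 24) N_4_ts N_4_ds :=
  dist_of_distB (k := 2) p_hn N_E5_ok N_G4_ok (by decide : 9 < 24) (by decide +kernel)

noncomputable def N_4_sl0 : SL := (SL.cons (nat_lit 1) (nat_lit 10) (Ch.cons (nat_lit 3) [nat_lit 7, nat_lit 11, nat_lit 3, nat_lit 13] Ch.nil) [nat_lit 271, nat_lit 1, nat_lit 9, nat_lit 7] (SL.cons (nat_lit 2) (nat_lit 20) (Ch.cons (nat_lit 3) [nat_lit 15, nat_lit 5, nat_lit 11, nat_lit 1] Ch.nil) [nat_lit 259, nat_lit 15, nat_lit 267, nat_lit 11] SL.nil))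

theorem N_4_sc0 : SCs 24 N_E5 N_G4 (⟨9, by decide⟩ : Fin 24) (SL.words N_4_sl0) :=
  scs_of_ok p_hn (det_lab p_hk ⊤) N_E5_ok N_G4_ok le_top le_top (by decide : 9 < 24) N_4_fix N_card5.le (by decide +kernel)

noncomputable def N_4_l : List ℕ := (appL (SL.words N_4_sl0) [])

theorem N_4_scs : SCs 24 N_E5 N_G4 (⟨9, by decide⟩ : Fin 24) N_4_l :=
  (SCs.append N_4_sc0 SCs.nil)

noncomputable def N_4_rl0_0 : RL := (RL.cons (nat_lit 0) (nat_lit 9) (nat_lit 0) (nat_lit 0) (nat_lit 2) (nat_lit 0) (RL.cons (nat_lit 1) (nat_lit 10) (nat_lit 0) (nat_lit 0) (nat_lit 0) (nat_lit 0) (RL.cons (nat_lit 2) (nat_lit 20) (nat_lit 0) (nat_lit 0) (nat_lit 1) (nat_lit 0) RL.nil)))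

theorem N_4_good0_0 : GoodSet 24 N_E5 N_G4 (⟨9, by decide⟩ : Fin 24) N_4_ts (nat_lit 1) (RL.pts N_4_rl0_0) :=
  goodSet_of_ok p_hn (det_lab p_hk ⊤) N_E5_ok N_G4_ok le_top le_top (by decide : 9 < 24) (sepAt_lab p_hk _) (by decide +kernel)

theorem N_4_step0 : Step 24 N_E5 N_G4 N_4_ts (2 * 0 + 1) :=
  step_of_cover N_E5_ok N_4_dist (by decide +kernel) N_4_scs (by decide +kernel) N_4_good0_0 (kw := [nat_lit 7, nat_lit 11, nat_lit 3, nat_lit 13])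
    (conj_mem_of_scs N_E5_ok N_G4_ok (by decide : 9 < 24) N_4_scs (c := 0) (d := 10) (by decide +kernel)) (by decide +kernel)

theorem N_4_lev : grp 24 N_G4 ⊓ MulAction.stabilizer (Equiv.Perm (Fin 24)) (⟨9, by decide⟩ : Fin 24) = grp 24 N_E5 :=
  sims_level (gs := p_V51) rfl (by decide) N_4_fix N_4_dist (forall_lt_one N_4_step0)

theorem N_4_cardG : Nat.card (grp 24 N_G4) = 48 :=
  card_of_level p_hn N_G4_ok (by decide : 9 < 24) N_4_lev N_card5 (m := 3) (by decide +kernel)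

theorem p_le67 : grp 24 N_E4 ≤ grp 24 N_G4 :=
  grp_le_of_memB p_hn p_hk N_G4_ok N_E4_ok (ws := [nat_lit 1, nat_lit 2, nat_lit 199938, nat_lit 1794, nat_lit 3, nat_lit 5, nat_lit 7, nat_lit 9, nat_lit 11, nat_lit 13, nat_lit 15, nat_lit 17]) (by decide +kernel)

theorem p_le68 : grp 24 N_G4 ≤ grp 24 N_E4 :=
  grp_le_of_memB p_hn p_hk N_E4_ok N_G4_ok (ws := [nat_lit 1, nat_lit 9, nat_lit 11, nat_lit 13, nat_lit 15, nat_lit 17, nat_lit 19, nat_lit 21, nat_lit 23]) (by decide +kernel)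

theorem N_4_eq : grp 24 N_E4 = grp 24 N_G4 :=
  le_antisymm p_le67 p_le68

theorem N_card4 : Nat.card (grp 24 N_E4) = 48 :=
  by rw [N_4_eq]; exact N_4_cardG

theorem N_stab4 : grp 24 N_E4 ⊓ MulAction.stabilizer (Equiv.Perm (Fin 24)) (⟨9, by decide⟩ : Fin 24) = grp 24 N_E5 :=
  by rw [N_4_eq]; exact N_4_lev

theorem N_leO4 : grp 24 N_E4 ≤ grp 24 EG :=
  N_4_eq.le.trans (grp_cons_le ((p_le49.trans (p_le41.trans (p_le35.trans (p_le28.trans (le_refl (grp 24 EG)))))) (p_le52 (toPerm_mem_grp (E := p_V51) (by simp [p_V51])))) N_leO5)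

theorem N_3_fix : grp 24 N_E4 ≤ MulAction.stabilizer (Equiv.Perm (Fin 24)) (⟨2, by decide⟩ : Fin 24) :=
  grp_le_stab N_E4_ok (by decide : 2 < 24) (by decide +kernel)

noncomputable def N_3_ts : List ℕ := [nat_lit 0, nat_lit 1, nat_lit 257]

noncomputable def N_3_ds : List ℕ := [nat_lit 2, nat_lit 4, nat_lit 20]

theorem N_3_dist : Dist 24 N_E4 N_G3 (⟨2, by decide⟩ : Fin 24) N_3_ts N_3_ds :=
  dist_of_distB (k := 2) p_hn N_E4_ok N_G3_ok (by decide : 2 < 24) (by decide +kernel)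

noncomputable def N_3_sl0 : SL := (SL.cons (nat_lit 1) (nat_lit 4) (Ch.cons (nat_lit 3) [nat_lit 4354] Ch.nil) [nat_lit 595713] (SL.cons (nat_lit 257) (nat_lit 20) (Ch.cons (nat_lit 3) [nat_lit 17, nat_lit 2317, nat_lit 23, nat_lit 9] Ch.nil) [nat_lit 13, nat_lit 2317, nat_lit 19, nat_lit 15] SL.nil))

theorem N_3_sc0 : SCs 24 N_E4 N_G3 (⟨2, by decide⟩ : Fin 24) (SL.words N_3_sl0) :=
  scs_of_ok p_hn (det_lab p_hk ⊤) N_E4_ok N_G3_ok le_top le_top (by decide : 2 < 24) N_3_fix N_card4.le (by decide +kernel)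

noncomputable def N_3_l : List ℕ := (appL (SL.words N_3_sl0) [])

theorem N_3_scs : SCs 24 N_E4 N_G3 (⟨2, by decide⟩ : Fin 24) N_3_l :=
  (SCs.append N_3_sc0 SCs.nil)

noncomputable def N_3_rl0_0 : RL := (RL.cons (nat_lit 0) (nat_lit 2) (nat_lit 0) (nat_lit 7) (nat_lit 1) (nat_lit 3330) (RL.cons (nat_lit 1) (nat_lit 4) (nat_lit 0) (nat_lit 0) (nat_lit 0) (nat_lit 0) (RL.cons (nat_lit 1) (nat_lit 6) (nat_lit 1) (nat_lit 263) (nat_lit 1) (nat_lit 17) (RL.cons (nat_lit 1) (nat_lit 14) (nat_lit 5) (nat_lit 2) (nat_lit 1) (nat_lit 2305) (RL.cons (nat_lit 1) (nat_lit 7) (nat_lit 7) (nat_lit 0) (nat_lit 2) (nat_lit 592641) (RL.cons (nat_lit 1) (nat_lit 16) (nat_lit 9) (nat_lit 275) (nat_lit 1) (nat_lit 2818) (RL.cons (nat_lit 1) (nat_lit 11) (nat_lit 15) (nat_lit 279) (nat_lit 1) (nat_lit 5378) (RL.cons (nat_lit 2) (nat_lit 20) (nat_lit 0) (nat_lit 0)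 (nat_lit 1) (nat_lit 0) RL.nil))))))))

theorem N_3_good0_0 : GoodSet 24 N_E4 N_G3 (⟨2, by decide⟩ : Fin 24) N_3_ts (nat_lit 1) (RL.pts N_3_rl0_0) :=
  goodSet_of_ok p_hn (det_lab p_hk ⊤) N_E4_ok N_G3_ok le_top le_top (by decide : 2 < 24) (sepAt_lab p_hk _) (by decide +kernel)

theorem N_3_step0 : Step 24 N_E4 N_G3 N_3_ts (2 * 0 + 1) :=
  step_of_cover N_E4_ok N_3_dist (by decide +kernel) N_3_scs (by decide +kernel) N_3_good0_0 (kw := [nat_lit 4354])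
    (conj_mem_of_scs N_E4_ok N_G3_ok (by decide : 2 < 24) N_3_scs (c := 0) (d := 4) (by decide +kernel)) (by decide +kernel)

theorem N_3_lev : grp 24 N_G3 ⊓ MulAction.stabilizer (Equiv.Perm (Fin 24)) (⟨2, by decide⟩ : Fin 24) = grp 24 N_E4 :=
  sims_level (gs := p_V43) rfl (by decide) N_3_fix N_3_dist (forall_lt_one N_3_step0)

theorem N_3_cardG : Nat.card (grp 24 N_G3) = 960 :=
  card_of_level p_hn N_G3_ok (by decide : 2 < 24) N_3_lev N_card4 (m := 20) (by decide +kernel)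

theorem p_le69 : grp 24 N_E3 ≤ grp 24 N_G3 :=
  grp_le_of_memB p_hn p_hk N_G3_ok N_E3_ok (ws := [nat_lit 1, nat_lit 0xd030108, nat_lit 2, nat_lit 3, nat_lit 5, nat_lit 7, nat_lit 9, nat_lit 11, nat_lit 13, nat_lit 15, nat_lit 17, nat_lit 19, nat_lit 21, nat_lit 23, nat_lit 25]) (by decide +kernel)

theorem p_le70 : grp 24 N_G3 ≤ grp 24 N_E3 :=
  grp_le_of_memB p_hn p_hk N_E3_ok N_G3_ok (ws := [nat_lit 1, nat_lit 7, nat_lit 9, nat_lit 11, nat_lit 13, nat_lit 15, nat_lit 17, nat_lit 19, nat_lit 21, nat_lit 23, nat_lit 25, nat_lit 27, nat_lit 29]) (by decide +kernel)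

theorem N_3_eq : grp 24 N_E3 = grp 24 N_G3 :=
  le_antisymm p_le69 p_le70

theorem N_card3 : Nat.card (grp 24 N_E3) = 960 :=
  by rw [N_3_eq]; exact N_3_cardG

theorem N_stab3 : grp 24 N_E3 ⊓ MulAction.stabilizer (Equiv.Perm (Fin 24)) (⟨2, by decide⟩ : Fin 24) = grp 24 N_E4 :=
  by rw [N_3_eq]; exact N_3_lev

theorem N_leO3 : grp 24 N_E3 ≤ grp 24 EG :=
  N_3_eq.le.trans (grp_cons_le ((p_le41.trans (p_le35.trans (p_le28.trans (le_refl (grp 24 EG))))) (p_le44 (toPerm_mem_grp (E := p_V43) (by simp [p_V43])))) N_leO4)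

theorem N_2_fix : grp 24 N_E3 ≤ MulAction.stabilizer (Equiv.Perm (Fin 24)) (⟨15, by decide⟩ : Fin 24) :=
  grp_le_stab N_E3_ok (by decide : 15 < 24) (by decide +kernel)

noncomputable def N_2_ts : List ℕ := [nat_lit 0, nat_lit 1]

noncomputable def N_2_ds : List ℕ := [nat_lit 15, nat_lit 2]

theorem N_2_dist : Dist 24 N_E3 N_G2 (⟨15, by decide⟩ : Fin 24) N_2_ts N_2_ds :=
  dist_of_distB (k := 1) p_hn N_E3_ok N_G2_ok (by decide : 15 < 24) (by decide +kernel)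

noncomputable def N_2_sl0 : SL := (SL.cons (nat_lit 1) (nat_lit 2) (Ch.cons (nat_lit 9) [nat_lit 7, nat_lit 9, nat_lit 11, nat_lit 13] (Ch.cons (nat_lit 3) [nat_lit 15, nat_lit 17, nat_lit 19, nat_lit 21, nat_lit 23, nat_lit 25, nat_lit 27, nat_lit 29] Ch.nil)) [nat_lit 0xf13011b, nat_lit 0x1307010e, nat_lit 4354, nat_lit 990472, nat_lit 0xf1307010108, nat_lit 0xf17070311, nat_lit 0xf1908011b, nat_lit 0xf110702, nat_lit 989956, nat_lit 0xf150101, nat_lit 0xf1d080111, nat_lit 0x1d070107] SL.nil)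

theorem N_2_sc0 : SCs 24 N_E3 N_G2 (⟨15, by decide⟩ : Fin 24) (SL.words N_2_sl0) :=
  scs_of_ok p_hn (det_lab p_hk ⊤) N_E3_ok N_G2_ok le_top le_top (by decide : 15 < 24) N_2_fix N_card3.le (by decide +kernel)

noncomputable def N_2_l : List ℕ := (appL (SL.words N_2_sl0) [])

theorem N_2_scs : SCs 24 N_E3 N_G2 (⟨15, by decide⟩ : Fin 24) N_2_l :=
  (SCs.append N_2_sc0 SCs.nil)

noncomputable def N_2_rl0_0 : RL := (RL.cons (nat_lit 0) (nat_lit 15) (nat_lit 0) (nat_lit 520) (nat_lit 1) (nat_lit 0x1b0208) (RL.cons (nat_lit 1) (nat_lit 2) (nat_lit 0) (nat_lit 0) (nat_lit 0) (nat_lit 0) (RL.cons (nat_lit 1) (nat_lit 4) (nat_lit 1) (nat_lit 281) (nat_lit 1) (nat_lit 0xf1d08010107) (RL.cons (nat_lit 1) (nat_lit 20) (nat_lit 257) (nat_lit 783) (nat_lit 1) (nat_lit 0x8010107) RL.nil))))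

theorem N_2_good0_0 : GoodSet 24 N_E3 N_G2 (⟨15, by decide⟩ : Fin 24) N_2_ts (nat_lit 1) (RL.pts N_2_rl0_0) :=
  goodSet_of_ok p_hn (det_lab p_hk ⊤) N_E3_ok N_G2_ok le_top le_top (by decide : 15 < 24) (sepAt_lab p_hk _) (by decide +kernel)

theorem N_2_step0 : Step 24 N_E3 N_G2 N_2_ts (2 * 0 + 1) :=
  step_of_cover N_E3_ok N_2_dist (by decide +kernel) N_2_scs (by decide +kernel) N_2_good0_0 (kw := [nat_lit 7, nat_lit 9, nat_lit 11, nat_lit 13, nat_lit 15, nat_lit 17, nat_lit 19, nat_lit 21, nat_lit 23, nat_lit 25, nat_lit 27, nat_lit 29])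
    (conj_mem_of_scs N_E3_ok N_G2_ok (by decide : 15 < 24) N_2_scs (c := 0) (d := 2) (by decide +kernel)) (by decide +kernel)

theorem N_2_lev : grp 24 N_G2 ⊓ MulAction.stabilizer (Equiv.Perm (Fin 24)) (⟨15, by decide⟩ : Fin 24) = grp 24 N_E3 :=
  sims_level (gs := p_V37) rfl (by decide) N_2_fix N_2_dist (forall_lt_one N_2_step0)

theorem N_2_cardG : Nat.card (grp 24 N_G2) = 20160 :=
  card_of_level p_hn N_G2_ok (by decide : 15 < 24) N_2_lev N_card3 (m := 21) (by decide +kernel)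

theorem p_le71 : grp 24 N_E2 ≤ grp 24 N_G2 :=
  grp_le_of_memB p_hn p_hk N_G2_ok N_E2_ok (ws := [nat_lit 1, nat_lit 0x1d0a03030a021b, nat_lit 3, nat_lit 5, nat_lit 7, nat_lit 9, nat_lit 11, nat_lit 13, nat_lit 15, nat_lit 17, nat_lit 19, nat_lit 21, nat_lit 23, nat_lit 25, nat_lit 27, nat_lit 29, nat_lit 31]) (by decide +kernel)

theorem p_le72 : grp 24 N_G2 ≤ grp 24 N_E2 :=
  grp_le_of_memB p_hn p_hk N_E2_ok N_G2_ok (ws := [nat_lit 1, nat_lit 5, nat_lit 7, nat_lit 9, nat_lit 11, nat_lit 13, nat_lit 15, nat_lit 17, nat_lit 19, nat_lit 21, nat_lit 23, nat_lit 25, nat_lit 27, nat_lit 29, nat_lit 31, nat_lit 33]) (by decide +kernel)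

theorem N_2_eq : grp 24 N_E2 = grp 24 N_G2 :=
  le_antisymm p_le71 p_le72

theorem N_card2 : Nat.card (grp 24 N_E2) = 20160 :=
  by rw [N_2_eq]; exact N_2_cardG

theorem N_stab2 : grp 24 N_E2 ⊓ MulAction.stabilizer (Equiv.Perm (Fin 24)) (⟨15, by decide⟩ : Fin 24) = grp 24 N_E3 :=
  by rw [N_2_eq]; exact N_2_lev

theorem N_leO2 : grp 24 N_E2 ≤ grp 24 EG :=
  N_2_eq.le.trans (grp_cons_le ((p_le35.trans (p_le28.trans (le_refl (grp 24 EG)))) (p_le38 (toPerm_mem_grp (E := p_V37) (by simp [p_V37])))) N_leO3)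

theorem N_1_fix : grp 24 N_E2 ≤ MulAction.stabilizer (Equiv.Perm (Fin 24)) (⟨1, by decide⟩ : Fin 24) :=
  grp_le_stab N_E2_ok (by decide : 1 < 24) (by decide +kernel)

noncomputable def N_1_ts : List ℕ := [nat_lit 0, nat_lit 1]

noncomputable def N_1_ds : List ℕ := [nat_lit 1, nat_lit 15]

theorem N_1_dist : Dist 24 N_E2 N_G1 (⟨1, by decide⟩ : Fin 24) N_1_ts N_1_ds :=
  dist_of_distB (k := 1) p_hn N_E2_ok N_G1_ok (by decide : 1 < 24) (by decide +kernel)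

noncomputable def N_1_sl0 : SL := (SL.cons (nat_lit 1) (nat_lit 15) (Ch.cons (nat_lit 2) [nat_lit 5, nat_lit 7, nat_lit 9] (Ch.cons (nat_lit 9) [nat_lit 11, nat_lit 13, nat_lit 15, nat_lit 17] (Ch.cons (nat_lit 3) [nat_lit 19, nat_lit 21, nat_lit 23, nat_lit 25, nat_lit 27, nat_lit 29, nat_lit 31, nat_lit 33] Ch.nil))) [nat_lit 0x131d05050b04, nat_lit 0x1317050f0107, nat_lit 0x131905050c0315, nat_lit 0x190b07150108, nat_lit 0x7150217, nat_lit 0x13170b06080101, nat_lit 0x13190b050503, nat_lit 0xb080213, nat_lit 0x19050b04, nat_lit 0xb050b02, nat_lit 0x1f0b060c01, nat_lit 0x19051f03, nat_lit 0x131d0c06080206, nat_lit 0x170b050b0217, nat_lit 0x131d051f0315] SL.nil)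

theorem N_1_sc0 : SCs 24 N_E2 N_G1 (⟨1, by decide⟩ : Fin 24) (SL.words N_1_sl0) :=
  scs_of_ok p_hn (det_lab p_hk ⊤) N_E2_ok N_G1_ok le_top le_top (by decide : 1 < 24) N_1_fix N_card2.le (by decide +kernel)

noncomputable def N_1_l : List ℕ := (appL (SL.words N_1_sl0) [])

theorem N_1_scs : SCs 24 N_E2 N_G1 (⟨1, by decide⟩ : Fin 24) N_1_l :=
  (SCs.append N_1_sc0 SCs.nil)

noncomputable def N_1_rl0_0 : RL := (RL.cons (nat_lit 0) (nat_lit 1) (nat_lit 0) (nat_lit 261) (nat_lit 1) (nat_lit 0x131905050105) (RL.cons (nat_lit 1) (nat_lit 15) (nat_lit 0) (nat_lit 0) (nat_lit 0) (nat_lit 0) (RL.cons (nat_lit 1) (nat_lit 2) (nat_lit 1) (nat_lit 528) (nat_lit 1) (nat_lit 0x150b05120105) RL.nil)))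

theorem N_1_good0_0 : GoodSet 24 N_E2 N_G1 (⟨1, by decide⟩ : Fin 24) N_1_ts (nat_lit 1) (RL.pts N_1_rl0_0) :=
  goodSet_of_ok p_hn (det_lab p_hk ⊤) N_E2_ok N_G1_ok le_top le_top (by decide : 1 < 24) (sepAt_lab p_hk _) (by decide +kernel)

theorem N_1_step0 : Step 24 N_E2 N_G1 N_1_ts (2 * 0 + 1) :=
  step_of_cover N_E2_ok N_1_dist (by decide +kernel) N_1_scs (by decide +kernel) N_1_good0_0 (kw := [nat_lit 5, nat_lit 7, nat_lit 9, nat_lit 11, nat_lit 13, nat_lit 15, nat_lit 17, nat_lit 19, nat_lit 21, nat_lit 23, nat_lit 25, nat_lit 27, nat_lit 29, nat_lit 31, nat_lit 33])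
    (conj_mem_of_scs N_E2_ok N_G1_ok (by decide : 1 < 24) N_1_scs (c := 0) (d := 15) (by decide +kernel)) (by decide +kernel)

theorem N_1_lev : grp 24 N_G1 ⊓ MulAction.stabilizer (Equiv.Perm (Fin 24)) (⟨1, by decide⟩ : Fin 24) = grp 24 N_E2 :=
  sims_level (gs := p_V30) rfl (by decide) N_1_fix N_1_dist (forall_lt_one N_1_step0)

theorem N_1_cardG : Nat.card (grp 24 N_G1) = 443520 :=
  card_of_level p_hn N_G1_ok (by decide : 1 < 24) N_1_lev N_card2 (m := 22) (by decide +kernel)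

theorem p_le73 : grp 24 N_E1 ≤ grp 24 N_G1 :=
  grp_le_of_memB p_hn p_hk N_G1_ok N_E1_ok (ws := [nat_lit 1, nat_lit 0x151b0e07070e040221, nat_lit 0x15230711030302, nat_lit 3, nat_lit 5, nat_lit 7, nat_lit 9, nat_lit 11, nat_lit 13, nat_lit 15, nat_lit 17, nat_lit 19, nat_lit 21, nat_lit 23, nat_lit 25, nat_lit 27, nat_lit 29, nat_lit 31, nat_lit 33, nat_lit 35]) (by decide +kernel)

theorem p_le74 : grp 24 N_G1 ≤ grp 24 N_E1 :=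
  grp_le_of_memB p_hn p_hk N_E1_ok N_G1_ok (ws := [nat_lit 1, nat_lit 7, nat_lit 9, nat_lit 11, nat_lit 13, nat_lit 15, nat_lit 17, nat_lit 19, nat_lit 21, nat_lit 23, nat_lit 25, nat_lit 27, nat_lit 29, nat_lit 31, nat_lit 33, nat_lit 35, nat_lit 37, nat_lit 39]) (by decide +kernel)

theorem N_1_eq : grp 24 N_E1 = grp 24 N_G1 :=
  le_antisymm p_le73 p_le74

theorem N_card1 : Nat.card (grp 24 N_E1) = 443520 :=
  by rw [N_1_eq]; exact N_1_cardG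

theorem N_stab1 : grp 24 N_E1 ⊓ MulAction.stabilizer (Equiv.Perm (Fin 24)) (⟨1, by decide⟩ : Fin 24) = grp 24 N_E2 :=
  by rw [N_1_eq]; exact N_1_lev

theorem N_leO1 : grp 24 N_E1 ≤ grp 24 EG :=
  N_1_eq.le.trans (grp_cons_le ((p_le28.trans (le_refl (grp 24 EG))) (p_le31 (toPerm_mem_grp (E := p_V30) (by simp [p_V30])))) N_leO2)

theorem N_0_fix : grp 24 N_E1 ≤ MulAction.stabilizer (Equiv.Perm (Fin 24)) (⟨0, by decide⟩ : Fin 24) :=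
  grp_le_stab N_E1_ok (by decide : 0 < 24) (by decide +kernel)

noncomputable def N_0_ts : List ℕ := [nat_lit 0, nat_lit 1]

noncomputable def N_0_ds : List ℕ := [nat_lit 0, nat_lit 23]

theorem N_0_dist : Dist 24 N_E1 N_G0 (⟨0, by decide⟩ : Fin 24) N_0_ts N_0_ds :=
  dist_of_distB (k := 1) p_hn N_E1_ok N_G0_ok (by decide : 0 < 24) (by decide +kernel)

noncomputable def N_0_sl0 : SL := (SL.cons (nat_lit 1) (nat_lit 23) (Ch.cons (nat_lit 1) [nat_lit 0x1d0c12081604] (Ch.cons (nat_lit 2) [nat_lit 0x250e07] (Ch.cons (nat_lit 3) [nat_lit 0x19110b070b] (Ch.cons (nat_lit 4) [nat_lit 0x19110e070d, nat_lit 0x120b150a] (Ch.cons (nat_lit 5) [nat_lit 0x1b0c080c] Ch.nil))))) [nat_lit 0x190b2507090208, nat_lit 0x19210b23070b01, nat_lit 0x191f0e080c02, nat_lit 0x19110b18090d0203, nat_lit 0x230b23070c020a, nat_lit 0x23110d19080c030e] SL.nil)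

theorem N_0_sc0 : SCs 24 N_E1 N_G0 (⟨0, by decide⟩ : Fin 24) (SL.words N_0_sl0) :=
  scs_of_ok p_hn (det_lab p_hk ⊤) N_E1_ok N_G0_ok le_top le_top (by decide : 0 < 24) N_0_fix N_card1.le (by decide +kernel)

noncomputable def N_0_l : List ℕ := (appL (SL.words N_0_sl0) [])

theorem N_0_scs : SCs 24 N_E1 N_G0 (⟨0, by decide⟩ : Fin 24) N_0_l :=
  (SCs.append N_0_sc0 SCs.nil)

noncomputable def N_0_rl0_0 : RL := (RL.cons (nat_lit 0) (nat_lit 0) (nat_lit 0) (nat_lit 0) (nat_lit 1) (nat_lit 0x27120c080c04) (RL.cons (nat_lit 1) (nat_lit 23) (nat_lit 0) (nat_lit 0) (nat_lit 0) (nat_lit 0) RL.nil))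

theorem N_0_good0_0 : GoodSet 24 N_E1 N_G0 (⟨0, by decide⟩ : Fin 24) N_0_ts (nat_lit 1) (RL.pts N_0_rl0_0) :=
  goodSet_of_ok p_hn (det_lab p_hk ⊤) N_E1_ok N_G0_ok le_top le_top (by decide : 0 < 24) (sepAt_lab p_hk _) (by decide +kernel)

theorem N_0_step0 : Step 24 N_E1 N_G0 N_0_ts (2 * 0 + 1) :=
  step_of_cover N_E1_ok N_0_dist (by decide +kernel) N_0_scs (by decide +kernel) N_0_good0_0 (kw := [nat_lit 0x1d0c12081604, nat_lit 0x250e07, nat_lit 0x19110b070b, nat_lit 0x19110e070d, nat_lit 0x120b150a, nat_lit 0x1b0c080c])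
    (conj_mem_of_scs N_E1_ok N_G0_ok (by decide : 0 < 24) N_0_scs (c := 0) (d := 23) (by decide +kernel)) (by decide +kernel)

theorem N_0_lev : grp 24 N_G0 ⊓ MulAction.stabilizer (Equiv.Perm (Fin 24)) (⟨0, by decide⟩ : Fin 24) = grp 24 N_E1 :=
  sims_level (gs := p_V23) rfl (by decide) N_0_fix N_0_dist (forall_lt_one N_0_step0)

theorem N_0_cardG : Nat.card (grp 24 N_G0) = 887040 :=
  card_of_level p_hn N_G0_ok (by decide : 0 < 24) N_0_lev N_card1 (m := 2) (by decide +kernel)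

theorem p_le75 : grp 24 N_E0 ≤ grp 24 N_G0 :=
  grp_le_of_memB p_hn p_hk N_G0_ok N_E0_ok (ws := [nat_lit 1, nat_lit 0x1b230d0d1409100309, nat_lit 0x1b21140d0d090f05, nat_lit 3, nat_lit 5, nat_lit 7, nat_lit 9, nat_lit 11, nat_lit 13, nat_lit 15, nat_lit 17, nat_lit 19, nat_lit 21, nat_lit 23, nat_lit 25, nat_lit 27, nat_lit 29, nat_lit 31, nat_lit 33, nat_lit 35, nat_lit 37, nat_lit 39, nat_lit 41]) (by decide +kernel)

theorem p_le76 : grp 24 N_G0 ≤ grp 24 N_E0 :=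
  grp_le_of_memB p_hn p_hk N_E0_ok N_G0_ok (ws := [nat_lit 1, nat_lit 7, nat_lit 9, nat_lit 11, nat_lit 13, nat_lit 15, nat_lit 17, nat_lit 19, nat_lit 21, nat_lit 23, nat_lit 25, nat_lit 27, nat_lit 29, nat_lit 31, nat_lit 33, nat_lit 35, nat_lit 37, nat_lit 39, nat_lit 41, nat_lit 43, nat_lit 45]) (by decide +kernel)

theorem N_0_eq : grp 24 N_E0 = grp 24 N_G0 :=
  le_antisymm p_le75 p_le76

theorem N_card0 : Nat.card (grp 24 N_E0) = 887040 :=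
  by rw [N_0_eq]; exact N_0_cardG

theorem N_stab0 : grp 24 N_E0 ⊓ MulAction.stabilizer (Equiv.Perm (Fin 24)) (⟨0, by decide⟩ : Fin 24) = grp 24 N_E1 :=
  by rw [N_0_eq]; exact N_0_lev

theorem N_leO0 : grp 24 N_E0 ≤ grp 24 EG :=
  N_0_eq.le.trans (grp_cons_le ((le_refl (grp 24 EG)) (p_le24 (toPerm_mem_grp (E := p_V23) (by simp [p_V23])))) N_leO1)

theorem p_le77 : grp 24 EG ≤ grp 24 N_E0 :=
  grp_le_of_memB p_hn p_hk N_E0_ok EG_ok (ws := [nat_lit 1, nat_lit 3, nat_lit 5]) (by decide +kernel)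

theorem N_eq : grp 24 EG = grp 24 N_E0 :=
  le_antisymm p_le77 N_leO0

theorem N_card : Nat.card (grp 24 EG) = 887040 :=
  by rw [N_eq]; exact N_card0

noncomputable def N_ch : Ch := (Ch.cons (nat_lit 0) [nat_lit 1, nat_lit 3, nat_lit 5] (Ch.cons (nat_lit 1) [nat_lit 7, nat_lit 9, nat_lit 11] (Ch.cons (nat_lit 15) [nat_lit 13, nat_lit 15] (Ch.cons (nat_lit 2) [nat_lit 17, nat_lit 19, nat_lit 21] (Ch.cons (nat_lit 9) [nat_lit 23, nat_lit 25, nat_lit 27, nat_lit 29] (Ch.cons (nat_lit 3) [nat_lit 31, nat_lit 33, nat_lit 35, nat_lit 37, nat_lit 39, nat_lit 41, nat_lit 43, nat_lit 45] Ch.nil))))))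

theorem N_exact : Ch.Exact 24 N_E0 N_ch (grp 24 N_E0) :=
  Ch.exact (k := 5) (L := (lab 24 5)) p_hn N_E0_ok (by decide +kernel) (wgrp_le_grp _ _ _) N_card0.le

theorem T_s0 : Stab 24 (grp 24 EG) [] N_E0 887040 :=
  Stab.root' N_E0_ok N_eq N_card

theorem G_le : (grp 24 E) ≤ (grp 24 EG) :=
  grp_mono (List.subset_cons_self p_g22 E)

theorem nrm : (grp 24 EG) ≤ Subgroup.normalizer ((grp 24 E) : Set (Equiv.Perm (Fin 24))) :=
  grp_cons_le (mem_normalizer_grp fun o ho => lb_le (conj_mem_of_normB p_hn p_hk lb_E_ok E_ok p_g22_ok (ws := [nat_lit 0x15190d0911060802, nat_lit 0x13190e0c1005020d]) (by decide +kernel) o ho)) Subgroup.le_normalizer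

theorem p_le78 : grp 24 Z ≤ grp 24 N_E0 :=
  grp_le_of_memB p_hn p_hk N_E0_ok Z_ok (ws := []) (by decide +kernel)

theorem Z_le : grp 24 Z ≤ (grp 24 EG) :=
  (p_le78.trans T_s0.le)

theorem Z_sym : Sym 24 (grp 24 EG) E Z 0 :=
  Sym.of_lab p_hn p_hk E_ok Z_ok Z_le (kT := 0) (by decide +kernel)

theorem p_le85 : grp 24 p_V84 ≤ grp 24 N_E0 :=
  grp_le_of_memB p_hn p_hk N_E0_ok p_V84_ok (ws := [nat_lit 0x1f2d1711111710080e, nat_lit 0x2b18140d0d0925, nat_lit 0x27171111180e23070b, nat_lit 0x1f231811210d0d080e, nat_lit 0x2517111b0e12080901]) (by decide +kernel)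

theorem T_s1 : Stab 24 (grp 24 EG) [nat_lit 8] p_V84 40320 :=
  Stab.step (k := 5) (L := (lab 24 5)) p_hn T_s0 p_V84_ok p_le85 (c := (Ch.cons (nat_lit 6) [nat_lit 1] (Ch.cons (nat_lit 9) [nat_lit 3] (Ch.cons (nat_lit 3) [nat_lit 5] (Ch.cons (nat_lit 14) [nat_lit 7, nat_lit 9] Ch.nil))))) (by decide +kernel)

theorem T_s2 : Stab 24 (grp 24 EG) [nat_lit 6, nat_lit 8] p_V86 1920 :=
  Stab.step (k := 5) (L := (lab 24 5)) p_hn T_s1 p_V86_ok (grp_mono (List.subset_append_right [p_g79] _)) (c := (Ch.cons (nat_lit 9) [nat_lit 1] (Ch.cons (nat_lit 3) [nat_lit 3] (Ch.cons (nat_lit 14) [nat_lit 5, nat_lit 7] Ch.nil)))) (by decide +kernel)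

theorem T_s3 : Stab 24 (grp 24 EG) [nat_lit 9, nat_lit 6, nat_lit 8] p_V87 96 :=
  Stab.step (k := 5) (L := (lab 24 5)) p_hn T_s2 p_V87_ok (grp_mono (List.subset_append_right [p_g80] _)) (c := (Ch.cons (nat_lit 3) [nat_lit 1] (Ch.cons (nat_lit 14) [nat_lit 3, nat_lit 5] Ch.nil))) (by decide +kernel)

theorem T_s4 : Stab 24 (grp 24 EG) [nat_lit 3, nat_lit 9, nat_lit 6, nat_lit 8] p_V88 6 :=
  Stab.step (k := 5) (L := (lab 24 5)) p_hn T_s3 p_V88_ok (grp_mono (List.subset_append_right [p_g81] _)) (c := (Ch.cons (nat_lit 14) [nat_lit 1, nat_lit 3] Ch.nil)) (by decide +kernel)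

theorem T_s5 : Stab 24 (grp 24 EG) [nat_lit 14, nat_lit 3, nat_lit 9, nat_lit 6, nat_lit 8] p_V89 1 :=
  Stab.step (k := 5) (L := (lab 24 5)) p_hn T_s4 p_V89_ok (grp_mono (List.subset_append_right [p_g82, p_g83] _)) (c := Ch.nil) (by decide +kernel)

theorem p_g82_T : Net.toPerm 24 p_g82 ∈ (grp 24 EG) :=
  T_s4.le (toPerm_mem_grp (E := p_V88) (List.Mem.head _))

theorem p_g83_T : Net.toPerm 24 p_g83 ∈ (grp 24 EG) :=
  T_s4.le (toPerm_mem_grp (E := p_V88) (List.Mem.tail _ (List.Mem.head _)))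

theorem p_g81_T : Net.toPerm 24 p_g81 ∈ (grp 24 EG) :=
  T_s3.le (toPerm_mem_grp (E := p_V87) (List.Mem.head _))

theorem p_g80_T : Net.toPerm 24 p_g80 ∈ (grp 24 EG) :=
  T_s2.le (toPerm_mem_grp (E := p_V86) (List.Mem.head _))

theorem p_g79_T : Net.toPerm 24 p_g79 ∈ (grp 24 EG) :=
  T_s1.le (toPerm_mem_grp (E := p_V84) (List.Mem.head _))

theorem p_g22_T : Net.toPerm 24 p_g22 ∈ (grp 24 EG) :=
  T_s0.le (toPerm_mem_grp (E := N_E0) (List.Mem.head _))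

theorem p_g1_T : Net.toPerm 24 p_g1 ∈ (grp 24 EG) :=
  T_s0.le (toPerm_mem_grp (E := N_E0) (List.Mem.tail _ (List.Mem.head _)))

theorem p_g2_T : Net.toPerm 24 p_g2 ∈ (grp 24 EG) :=
  T_s0.le (toPerm_mem_grp (E := N_E0) (List.Mem.tail _ (List.Mem.tail _ (List.Mem.head _))))

theorem p_g29_T : Net.toPerm 24 p_g29 ∈ (grp 24 EG) :=
  T_s0.le (toPerm_mem_grp (E := N_E0) (List.Mem.tail _ (List.Mem.tail _ (List.Mem.tail _ (List.Mem.head _)))))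

theorem p_g25_T : Net.toPerm 24 p_g25 ∈ (grp 24 EG) :=
  T_s0.le (toPerm_mem_grp (E := N_E0) (List.Mem.tail _ (List.Mem.tail _ (List.Mem.tail _ (List.Mem.tail _ (List.Mem.head _))))))

theorem p_g26_T : Net.toPerm 24 p_g26 ∈ (grp 24 EG) :=
  T_s0.le (toPerm_mem_grp (E := N_E0) (List.Mem.tail _ (List.Mem.tail _ (List.Mem.tail _ (List.Mem.tail _ (List.Mem.tail _ (List.Mem.head _)))))))

theorem p_g36_T : Net.toPerm 24 p_g36 ∈ (grp 24 EG) :=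
  T_s0.le (toPerm_mem_grp (E := N_E0) (List.Mem.tail _ (List.Mem.tail _ (List.Mem.tail _ (List.Mem.tail _ (List.Mem.tail _ (List.Mem.tail _ (List.Mem.head _))))))))

theorem p_g32_T : Net.toPerm 24 p_g32 ∈ (grp 24 EG) :=
  T_s0.le (toPerm_mem_grp (E := N_E0) (List.Mem.tail _ (List.Mem.tail _ (List.Mem.tail _ (List.Mem.tail _ (List.Mem.tail _ (List.Mem.tail _ (List.Mem.tail _ (List.Mem.head _)))))))))

theorem p_g42_T : Net.toPerm 24 p_g42 ∈ (grp 24 EG) :=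
  T_s0.le (toPerm_mem_grp (E := N_E0) (List.Mem.tail _ (List.Mem.tail _ (List.Mem.tail _ (List.Mem.tail _ (List.Mem.tail _ (List.Mem.tail _ (List.Mem.tail _ (List.Mem.tail _ (List.Mem.head _))))))))))

theorem p_g33_T : Net.toPerm 24 p_g33 ∈ (grp 24 EG) :=
  T_s0.le (toPerm_mem_grp (E := N_E0) (List.Mem.tail _ (List.Mem.tail _ (List.Mem.tail _ (List.Mem.tail _ (List.Mem.tail _ (List.Mem.tail _ (List.Mem.tail _ (List.Mem.tail _ (List.Mem.tail _ (List.Mem.head _)))))))))))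

theorem p_g39_T : Net.toPerm 24 p_g39 ∈ (grp 24 EG) :=
  T_s0.le (toPerm_mem_grp (E := N_E0) (List.Mem.tail _ (List.Mem.tail _ (List.Mem.tail _ (List.Mem.tail _ (List.Mem.tail _ (List.Mem.tail _ (List.Mem.tail _ (List.Mem.tail _ (List.Mem.tail _ (List.Mem.tail _ (List.Mem.head _))))))))))))

theorem p_g50_T : Net.toPerm 24 p_g50 ∈ (grp 24 EG) :=
  T_s0.le (toPerm_mem_grp (E := N_E0) (List.Mem.tail _ (List.Mem.tail _ (List.Mem.tail _ (List.Mem.tail _ (List.Mem.tail _ (List.Mem.tail _ (List.Mem.tail _ (List.Mem.tail _ (List.Mem.tail _ (List.Mem.tail _ (List.Mem.tail _ (List.Mem.head _)))))))))))))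

theorem p_g45_T : Net.toPerm 24 p_g45 ∈ (grp 24 EG) :=
  T_s0.le (toPerm_mem_grp (E := N_E0) (List.Mem.tail _ (List.Mem.tail _ (List.Mem.tail _ (List.Mem.tail _ (List.Mem.tail _ (List.Mem.tail _ (List.Mem.tail _ (List.Mem.tail _ (List.Mem.tail _ (List.Mem.tail _ (List.Mem.tail _ (List.Mem.tail _ (List.Mem.head _))))))))))))))

theorem p_g46_T : Net.toPerm 24 p_g46 ∈ (grp 24 EG) :=
  T_s0.le (toPerm_mem_grp (E := N_E0) (List.Mem.tail _ (List.Mem.tail _ (List.Mem.tail _ (List.Mem.tail _ (List.Mem.tail _ (List.Mem.tail _ (List.Mem.tail _ (List.Mem.tail _ (List.Mem.tail _ (List.Mem.tail _ (List.Mem.tail _ (List.Mem.tail _ (List.Mem.tail _ (List.Mem.head _)))))))))))))))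

theorem p_g47_T : Net.toPerm 24 p_g47 ∈ (grp 24 EG) :=
  T_s0.le (toPerm_mem_grp (E := N_E0) (List.Mem.tail _ (List.Mem.tail _ (List.Mem.tail _ (List.Mem.tail _ (List.Mem.tail _ (List.Mem.tail _ (List.Mem.tail _ (List.Mem.tail _ (List.Mem.tail _ (List.Mem.tail _ (List.Mem.tail _ (List.Mem.tail _ (List.Mem.tail _ (List.Mem.tail _ (List.Mem.head _))))))))))))))))

theorem p_g59_T : Net.toPerm 24 p_g59 ∈ (grp 24 EG) :=
  T_s0.le (toPerm_mem_grp (E := N_E0) (List.Mem.tail _ (List.Mem.tail _ (List.Mem.tail _ (List.Mem.tail _ (List.Mem.tail _ (List.Mem.tail _ (List.Mem.tail _ (List.Mem.tail _ (List.Mem.tail _ (List.Mem.tail _ (List.Mem.tail _ (List.Mem.tail _ (List.Mem.tail _ (List.Mem.tail _ (List.Mem.tail _ (List.Mem.head _)))))))))))))))))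

theorem p_g60_T : Net.toPerm 24 p_g60 ∈ (grp 24 EG) :=
  T_s0.le (toPerm_mem_grp (E := N_E0) (List.Mem.tail _ (List.Mem.tail _ (List.Mem.tail _ (List.Mem.tail _ (List.Mem.tail _ (List.Mem.tail _ (List.Mem.tail _ (List.Mem.tail _ (List.Mem.tail _ (List.Mem.tail _ (List.Mem.tail _ (List.Mem.tail _ (List.Mem.tail _ (List.Mem.tail _ (List.Mem.tail _ (List.Mem.tail _ (List.Mem.head _))))))))))))))))))

theorem p_g61_T : Net.toPerm 24 p_g61 ∈ (grp 24 EG) :=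
  T_s0.le (toPerm_mem_grp (E := N_E0) (List.Mem.tail _ (List.Mem.tail _ (List.Mem.tail _ (List.Mem.tail _ (List.Mem.tail _ (List.Mem.tail _ (List.Mem.tail _ (List.Mem.tail _ (List.Mem.tail _ (List.Mem.tail _ (List.Mem.tail _ (List.Mem.tail _ (List.Mem.tail _ (List.Mem.tail _ (List.Mem.tail _ (List.Mem.tail _ (List.Mem.tail _ (List.Mem.head _)))))))))))))))))))

theorem p_g62_T : Net.toPerm 24 p_g62 ∈ (grp 24 EG) :=
  T_s0.le (toPerm_mem_grp (E := N_E0) (List.Mem.tail _ (List.Mem.tail _ (List.Mem.tail _ (List.Mem.tail _ (List.Mem.tail _ (List.Mem.tail _ (List.Mem.tail _ (List.Mem.tail _ (List.Mem.tail _ (List.Mem.tail _ (List.Mem.tail _ (List.Mem.tail _ (List.Mem.tail _ (List.Mem.tail _ (List.Mem.tail _ (List.Mem.tail _ (List.Mem.tail _ (List.Mem.tail _ (List.Mem.head _))))))))))))))))))))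

theorem p_g53_T : Net.toPerm 24 p_g53 ∈ (grp 24 EG) :=
  T_s0.le (toPerm_mem_grp (E := N_E0) (List.Mem.tail _ (List.Mem.tail _ (List.Mem.tail _ (List.Mem.tail _ (List.Mem.tail _ (List.Mem.tail _ (List.Mem.tail _ (List.Mem.tail _ (List.Mem.tail _ (List.Mem.tail _ (List.Mem.tail _ (List.Mem.tail _ (List.Mem.tail _ (List.Mem.tail _ (List.Mem.tail _ (List.Mem.tail _ (List.Mem.tail _ (List.Mem.tail _ (List.Mem.tail _ (List.Mem.head _)))))))))))))))))))))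

theorem p_g54_T : Net.toPerm 24 p_g54 ∈ (grp 24 EG) :=
  T_s0.le (toPerm_mem_grp (E := N_E0) (List.Mem.tail _ (List.Mem.tail _ (List.Mem.tail _ (List.Mem.tail _ (List.Mem.tail _ (List.Mem.tail _ (List.Mem.tail _ (List.Mem.tail _ (List.Mem.tail _ (List.Mem.tail _ (List.Mem.tail _ (List.Mem.tail _ (List.Mem.tail _ (List.Mem.tail _ (List.Mem.tail _ (List.Mem.tail _ (List.Mem.tail _ (List.Mem.tail _ (List.Mem.tail _ (List.Mem.tail _ (List.Mem.head _))))))))))))))))))))))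

theorem p_g55_T : Net.toPerm 24 p_g55 ∈ (grp 24 EG) :=
  T_s0.le (toPerm_mem_grp (E := N_E0) (List.Mem.tail _ (List.Mem.tail _ (List.Mem.tail _ (List.Mem.tail _ (List.Mem.tail _ (List.Mem.tail _ (List.Mem.tail _ (List.Mem.tail _ (List.Mem.tail _ (List.Mem.tail _ (List.Mem.tail _ (List.Mem.tail _ (List.Mem.tail _ (List.Mem.tail _ (List.Mem.tail _ (List.Mem.tail _ (List.Mem.tail _ (List.Mem.tail _ (List.Mem.tail _ (List.Mem.tail _ (List.Mem.tail _ (List.Mem.head _)))))))))))))))))))))))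

theorem p_g56_T : Net.toPerm 24 p_g56 ∈ (grp 24 EG) :=
  T_s0.le (toPerm_mem_grp (E := N_E0) (List.Mem.tail _ (List.Mem.tail _ (List.Mem.tail _ (List.Mem.tail _ (List.Mem.tail _ (List.Mem.tail _ (List.Mem.tail _ (List.Mem.tail _ (List.Mem.tail _ (List.Mem.tail _ (List.Mem.tail _ (List.Mem.tail _ (List.Mem.tail _ (List.Mem.tail _ (List.Mem.tail _ (List.Mem.tail _ (List.Mem.tail _ (List.Mem.tail _ (List.Mem.tail _ (List.Mem.tail _ (List.Mem.tail _ (List.Mem.tail _ (List.Mem.head _))))))))))))))))))))))))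

noncomputable def T_s5_O : ℕ := (nat_lit 0x933332e0f83ec67318b26d92000100000040000200000008004000)

theorem T_s5_F : Frame 24 (grp 24 EG) 5 9 T_s5_O 1 1 :=
  IsBase.frame T_s5.isBase (by decide +kernel)

noncomputable def T_s0_O : ℕ := (nat_lit 0x800001)

theorem T_s0_F : Frame 24 (grp 24 EG) 0 1 T_s0_O 0 1 :=
  Stab.frame p_hn T_s0 (by decide +kernel)

noncomputable def Z_cnt_L : List ℕ := [0, 1, T_s0_O, 0, 0, 5, 9, T_s5_O, 1, 0]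

theorem Z_cnt_P : Prob 24 5 (grp 24 EG) Z_cnt_EG E E Z Z_cnt_L 0 0 :=
  Sym.prob p_hn p_hk Z_sym Z_cnt_EG_ok (grp_cons_le p_g82_T (grp_cons_le p_g83_T (grp_cons_le p_g81_T (grp_cons_le p_g80_T (grp_cons_le p_g79_T (grp_cons_le p_g22_T (grp_cons_le p_g1_T (grp_cons_le p_g2_T (grp_cons_le p_g29_T (grp_cons_le p_g25_T (grp_cons_le p_g26_T (grp_cons_le p_g36_T (grp_cons_le p_g32_T (grp_cons_le p_g42_T (grp_cons_le p_g33_T (grp_cons_le p_g39_T (grp_cons_le p_g50_T (grp_cons_le p_g45_T (grp_cons_le p_g46_T (grp_cons_le p_g47_T (grp_cons_le p_g59_T (grp_cons_le p_g60_T (grp_cons_le p_g61_T (grp_cons_le p_g62_T (grp_cons_le p_g53_T (grp_cons_le p_g54_T (grp_cons_le p_g55_T (grp_cons_le p_g56_T (grp_nil_le _))))))))))))))))))))))))))))) (Frames.cons T_s0_F (Frames.cons T_s5_F Frames.nil)) E_ok _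

noncomputable def Z_cnt_t : BT := (BT.fix (nat_lit 1) (BT.frm (nat_lit 0) (nat_lit 0) (nat_lit 0) [] (BT.pln (nat_lit 0) (nat_lit 0) (BT.dif (nat_lit 2) (nat_lit 0) (BT.img (nat_lit 3) (nat_lit 0) (BT.img (nat_lit 3) (nat_lit 0) (BT.img (nat_lit 3) (nat_lit 0) (BT.img (nat_lit 3) (nat_lit 0) (BT.img (nat_lit 3) (nat_lit 0) (BT.img (nat_lit 3) (nat_lit 0) (BT.img (nat_lit 1) (nat_lit 5) (BT.one (nat_lit 1) (nat_lit 0) (nat_lit 0) [nat_lit 1, nat_lit 5, nat_lit 0, nat_lit 6, nat_lit 7]))))))))))))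

theorem Z_cnt : Cnt 24 (grp 24 EG) E E 0 0 0 0 1 :=
  BT.sound Z_cnt_P Known.nil (t := Z_cnt_t) (d := 0) (by decide +kernel)

theorem Z_ge : 1 ≤ Nat.card (grp 24 Z) :=
  Ch.le_card_grp (k := 5) (L := (lab 24 5)) p_hn Z_ok (c := Ch.nil) (by decide +kernel)

theorem Z_eq : (grp 24 EG) ⊓ Subgroup.centralizer (grp 24 E : Set (Equiv.Perm (Fin 24))) = grp 24 Z :=
  cent_grp_eq Z_sym Z_cnt Z_ge

theorem Z_card : Nat.card (grp 24 Z) = 1 :=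
  (Z_sym.mem_iff Z_cnt Z_ge).1

theorem amb : EvG.Amb (grp 24 E) (grp 24 EG) :=
  EvG.Amb.of_out G_le nrm (by rw [Z_eq]; exact Z_card) equiv S2062.result (by rw [card_G, N_card])

theorem p_le97 : grp 24 nt_c1_K ≤ grp 24 N_E0 :=
  grp_le_of_memB p_hn p_hk N_E0_ok nt_c1_K_ok (ws := [nat_lit 0x1f2918111e0d0d070701, nat_lit 0x2d11290f0927, nat_lit 0x1f2312140e25, nat_lit 0x231711290e23, nat_lit 0x1f18130e25, nat_lit 0x2d1812180d]) (by decide +kernel)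

theorem nt_c1_le : grp 24 nt_c1_K ≤ (grp 24 EG) :=
  (p_le97.trans T_s0.le)

theorem nt_c1_mem : Net.toPerm 24 p_g90 ∈ (grp 24 EG) :=
  nt_c1_le (mem_grp_of_memB p_hn p_hk nt_c1_K_ok p_g90_ok (w := (nat_lit 0x90b0603070301)) (by decide +kernel))

theorem nt_c1_sym : Sym 24 (grp 24 EG) [p_g90] nt_c1_K 0 :=
  Sym.of_lab p_hn p_hk (okE_cons.2 ⟨p_g90_ok, okE_nil _⟩) nt_c1_K_ok nt_c1_le (kT := 0) (by decide +kernel)

theorem T_s6 : Stab 24 (grp 24 EG) [nat_lit 0] p_V98 443520 :=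
  Stab.step (k := 5) (L := (lab 24 5)) p_hn T_s0 p_V98_ok (grp_mono (List.subset_append_right [p_g22, p_g1, p_g2] _)) (c := (Ch.cons (nat_lit 1) [nat_lit 1, nat_lit 3, nat_lit 5] (Ch.cons (nat_lit 15) [nat_lit 7, nat_lit 9] (Ch.cons (nat_lit 2) [nat_lit 11, nat_lit 13, nat_lit 15] (Ch.cons (nat_lit 9) [nat_lit 17, nat_lit 19, nat_lit 21, nat_lit 23] (Ch.cons (nat_lit 3) [nat_lit 25, nat_lit 27, nat_lit 29, nat_lit 31, nat_lit 33, nat_lit 35, nat_lit 37, nat_lit 39] Ch.nil)))))) (by decide +kernel)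

theorem T_s7 : Stab 24 (grp 24 EG) [nat_lit 1, nat_lit 0] p_V99 20160 :=
  Stab.step (k := 5) (L := (lab 24 5)) p_hn T_s6 p_V99_ok (grp_mono (List.subset_append_right [p_g29, p_g25, p_g26] _)) (c := (Ch.cons (nat_lit 15) [nat_lit 1, nat_lit 3] (Ch.cons (nat_lit 2) [nat_lit 5, nat_lit 7, nat_lit 9] (Ch.cons (nat_lit 9) [nat_lit 11, nat_lit 13, nat_lit 15, nat_lit 17] (Ch.cons (nat_lit 3) [nat_lit 19, nat_lit 21, nat_lit 23, nat_lit 25, nat_lit 27, nat_lit 29, nat_lit 31, nat_lit 33] Ch.nil))))) (by decide +kernel)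

theorem T_s8 : Stab 24 (grp 24 EG) [nat_lit 15, nat_lit 1, nat_lit 0] p_V100 960 :=
  Stab.step (k := 5) (L := (lab 24 5)) p_hn T_s7 p_V100_ok (grp_mono (List.subset_append_right [p_g36, p_g32] _)) (c := (Ch.cons (nat_lit 2) [nat_lit 1, nat_lit 3, nat_lit 5] (Ch.cons (nat_lit 9) [nat_lit 7, nat_lit 9, nat_lit 11, nat_lit 13] (Ch.cons (nat_lit 3) [nat_lit 15, nat_lit 17, nat_lit 19, nat_lit 21, nat_lit 23, nat_lit 25, nat_lit 27, nat_lit 29] Ch.nil)))) (by decide +kernel)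

theorem T_s9 : Stab 24 (grp 24 EG) [nat_lit 2, nat_lit 15, nat_lit 1, nat_lit 0] p_V101 48 :=
  Stab.step (k := 5) (L := (lab 24 5)) p_hn T_s8 p_V101_ok (grp_mono (List.subset_append_right [p_g42, p_g33, p_g39] _)) (c := (Ch.cons (nat_lit 9) [nat_lit 1, nat_lit 3, nat_lit 5, nat_lit 7] (Ch.cons (nat_lit 3) [nat_lit 9, nat_lit 11, nat_lit 13, nat_lit 15, nat_lit 17, nat_lit 19, nat_lit 21, nat_lit 23] Ch.nil))) (by decide +kernel)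

theorem T_s10 : Stab 24 (grp 24 EG) [nat_lit 9, nat_lit 2, nat_lit 15, nat_lit 1, nat_lit 0] p_V102 16 :=
  Stab.step (k := 5) (L := (lab 24 5)) p_hn T_s9 p_V102_ok (grp_mono (List.subset_append_right [p_g50, p_g45, p_g46, p_g47] _)) (c := (Ch.cons (nat_lit 3) [nat_lit 1, nat_lit 3, nat_lit 5, nat_lit 7, nat_lit 9, nat_lit 11, nat_lit 13, nat_lit 15] Ch.nil)) (by decide +kernel)

theorem T_s11 : Stab 24 (grp 24 EG) [nat_lit 3, nat_lit 9, nat_lit 2, nat_lit 15, nat_lit 1, nat_lit 0] p_V103 1 :=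
  Stab.step (k := 5) (L := (lab 24 5)) p_hn T_s10 p_V103_ok (grp_mono (List.subset_append_right [p_g59, p_g60, p_g61, p_g62, p_g53, p_g54, p_g55, p_g56] _)) (c := Ch.nil) (by decide +kernel)

noncomputable def T_s11_O : ℕ := (nat_lit 0x933332e0f83ec67318b26d92000001000002008000000004000200000008)

theorem T_s11_F : Frame 24 (grp 24 EG) 6 10 T_s11_O 1 1 :=
  IsBase.frame T_s11.isBase (by decide +kernel)

noncomputable def T_s9_O : ℕ := (nat_lit 0x800000100600000001000002008000000004)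

theorem T_s9_F : Frame 24 (grp 24 EG) 4 6 T_s9_O 0 1 :=
  Stab.frame p_hn T_s9 (by decide +kernel)

noncomputable def nt_c1_cnt_L : List ℕ := [0, 1, T_s0_O, 0, 0, 4, 6, T_s9_O, 0, 0, 6, 10, T_s11_O, 1, 0]

theorem nt_c1_cnt_P : Prob 24 5 (grp 24 EG) nt_c1_cnt_EG [p_g90] [p_g90] nt_c1_K nt_c1_cnt_L 0 0 :=
  Sym.prob p_hn p_hk nt_c1_sym nt_c1_cnt_EG_ok (grp_cons_le p_g42_T (grp_cons_le p_g33_T (grp_cons_le p_g39_T (grp_cons_le p_g50_T (grp_cons_le p_g45_T (grp_cons_le p_g46_T (grp_cons_le p_g47_T (grp_cons_le p_g59_T (grp_cons_le p_g60_T (grp_cons_le p_g61_T (grp_cons_le p_g62_T (grp_cons_le p_g53_T (grp_cons_le p_g54_T (grp_cons_le p_g55_T (grp_cons_le p_g56_T (grp_cons_le p_g36_T (grp_cons_le p_g32_T (grp_cons_le p_g29_T (grp_cons_le p_g25_T (grp_cons_le p_g26_T (grp_cons_le p_g22_T (grp_cons_le p_g1_T (grp_cons_le p_g2_T (grp_nil_le _))))))))))))))))))))))))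 (Frames.cons T_s0_F (Frames.cons T_s9_F (Frames.cons T_s11_F Frames.nil))) (okE_cons.2 ⟨p_g90_ok, okE_nil _⟩) _

noncomputable def nt_c1_cnt_t : BT := (BT.frm (nat_lit 0) (nat_lit 0) (nat_lit 0) [] (BT.pln (nat_lit 0) (nat_lit 0) (BT.br (nat_lit 0) (nat_lit 23) [nat_lit 1] (BT.kid (nat_lit 23) (nat_lit 1344) (BT.fix (nat_lit 1) (BT.dif (nat_lit 6) (nat_lit 0) (BT.dif (nat_lit 0) (nat_lit 3) (BT.br (nat_lit 0) (nat_lit 19) [nat_lit 3, nat_lit 5, nat_lit 7] (BT.kid (nat_lit 19) (nat_lit 96) (BT.dif (nat_lit 1) (nat_lit 0) (BT.img (nat_lit 1) (nat_lit 1) (BT.dif (nat_lit 1) (nat_lit 0) (BT.br (nat_lit 0) (nat_lit 20) [nat_lit 5, nat_lit 7, nat_lit 9] (BT.kid (nat_lit 20) (nat_lit 8) (BT.dif (nat_lit 5) (nat_lit 0) (BT.dif (nat_lit 0) (nat_lit 5) (BT.dif (nat_lit 0) (nat_lit 4) (BT.frm (nat_lit 1) (nat_lit 0x119200b242629) (nat_lit 0x119200b242629) [nat_lit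 3, nat_lit 5, nat_lit 7, nat_lit 11] (BT.pln (nat_lit 0) (nat_lit 4) (BT.dif (nat_lit 2) (nat_lit 0) (BT.br (nat_lit 0) (nat_lit 8) [nat_lit 7, nat_lit 9, nat_lit 11] (BT.kid (nat_lit 8) (nat_lit 1) (BT.img (nat_lit 1) (nat_lit 7) (BT.one (nat_lit 2) (nat_lit 0xf17070119200b242629) (nat_lit 0xf17070119200b242629) [nat_lit 1, nat_lit 0, nat_lit 8, nat_lit 10, nat_lit 12, nat_lit 16])) BT.nil)))))))) BT.nil))))) BT.nil))))) BT.nil))))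

theorem nt_c1_cnt : Cnt 24 (grp 24 EG) [p_g90] [p_g90] 0 0 0 0 2688 :=
  BT.sound nt_c1_cnt_P Known.nil (t := nt_c1_cnt_t) (d := 0) (by decide +kernel)

theorem nt_c1_ge : 2688 ≤ Nat.card (grp 24 nt_c1_K) :=
  Ch.le_card_grp (k := 5) (L := (lab 24 5)) p_hn nt_c1_K_ok (c := (Ch.cons (nat_lit 23) [nat_lit 1] (Ch.cons (nat_lit 19) [nat_lit 3] (Ch.cons (nat_lit 20) [nat_lit 5] (Ch.cons (nat_lit 8) [nat_lit 7, nat_lit 9, nat_lit 11] Ch.nil))))) (by decide +kernel)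

theorem nt_c1_eq : (grp 24 EG) ⊓ Subgroup.centralizer {Net.toPerm 24 p_g90} = grp 24 nt_c1_K :=
  cent_eq nt_c1_sym nt_c1_cnt nt_c1_ge

theorem nt_c1_card : Nat.card ↥((grp 24 EG) ⊓ Subgroup.centralizer {Net.toPerm 24 p_g90}) = 2688 :=
  card_cent nt_c1_sym nt_c1_cnt nt_c1_ge

theorem nt_c1_ord : orderOf (Net.toPerm 24 p_g90) = 2 :=
  orderOf_net p_hn p_hk p_g90_ok (by decide) (ps := [2]) (by set_option linter.unusedSimpArgs false in simp [Nat.primeFactorsList_ofNat]) (by decide +kernel)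

theorem p_le112 : grp 24 nt_c2_K ≤ grp 24 N_E0 :=
  grp_le_of_memB p_hn p_hk N_E0_ok nt_c2_K_ok (ws := [nat_lit 0x1f171111180d11091401, nat_lit 0x2517140e0a, nat_lit 0x2711210e25081b, nat_lit 0x251711110f13070c, nat_lit 0x2511290e25081b, nat_lit 0x2b1712140e1b08, nat_lit 0x2117131f10180927, nat_lit 0x2d1711170d1107]) (by decide +kernel)

theorem nt_c2_le : grp 24 nt_c2_K ≤ (grp 24 EG) :=
  (p_le112.trans T_s0.le)

theorem nt_c2_mem : Net.toPerm 24 p_g104 ∈ (grp 24 EG) :=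
  nt_c2_le (toPerm_mem_grp (E := nt_c2_K) (List.Mem.tail _ (List.Mem.tail _ (List.Mem.tail _ (List.Mem.tail _ (List.Mem.tail _ (List.Mem.head _)))))))

theorem nt_c2_sym : Sym 24 (grp 24 EG) [p_g104] nt_c2_K 0 :=
  Sym.of_lab p_hn p_hk (okE_cons.2 ⟨p_g104_ok, okE_nil _⟩) nt_c2_K_ok nt_c2_le (kT := 0) (by decide +kernel)

noncomputable def nt_c2_cnt_L : List ℕ := [0, 1, T_s0_O, 0, 0, 6, 10, T_s11_O, 1, 0]

theorem nt_c2_cnt_P : Prob 24 5 (grp 24 EG) nt_c2_cnt_EG [p_g104] [p_g104] nt_c2_K nt_c2_cnt_L 0 0 :=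
  Sym.prob p_hn p_hk nt_c2_sym nt_c2_cnt_EG_ok (grp_cons_le p_g59_T (grp_cons_le p_g60_T (grp_cons_le p_g61_T (grp_cons_le p_g62_T (grp_cons_le p_g53_T (grp_cons_le p_g54_T (grp_cons_le p_g55_T (grp_cons_le p_g56_T (grp_cons_le p_g50_T (grp_cons_le p_g45_T (grp_cons_le p_g46_T (grp_cons_le p_g47_T (grp_cons_le p_g42_T (grp_cons_le p_g33_T (grp_cons_le p_g39_T (grp_cons_le p_g36_T (grp_cons_le p_g32_T (grp_cons_le p_g29_T (grp_cons_le p_g25_T (grp_cons_le p_g26_T (grp_cons_le p_g22_T (grp_cons_le p_g1_T (grp_cons_le p_g2_T (grp_nil_le _)))))))))))))))))))))))) (Frames.cons T_s0_F (Frames.cons T_s11_F Frames.nil)) (okE_cons.2 ⟨p_g104_ok, okE_nil _⟩) _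

noncomputable def nt_c2_cnt_t : BT := (BT.frm (nat_lit 0) (nat_lit 0) (nat_lit 0) [] (BT.pln (nat_lit 0) (nat_lit 0) (BT.br (nat_lit 0) (nat_lit 23) [nat_lit 1] (BT.kid (nat_lit 23) (nat_lit 384) (BT.fix (nat_lit 1) (BT.dif (nat_lit 0) (nat_lit 2) (BT.br (nat_lit 0) (nat_lit 7) [nat_lit 3, nat_lit 7] (BT.kid (nat_lit 7) (nat_lit 64) (BT.dif (nat_lit 1) (nat_lit 0) (BT.br (nat_lit 0) (nat_lit 8) [nat_lit 5, nat_lit 7] (BT.dead (nat_lit 13) (BT.dif (nat_lit 3) (nat_lit 0) (BT.dif (nat_lit 0) (nat_lit 3) (BT.br (nat_lit 0) (nat_lit 13) [] (BT.dead (nat_lit 21) (BT.dif (nat_lit 6) (nat_lit 0) (BT.dif (nat_lit 0) (nat_lit 6) (BT.dif (nat_lit 0) (nat_lit 5) (BT.br (nat_lit 0) (nat_lit 18) [] (BT.dead (nat_lit 18) (BT.dif (nat_lit 17) (nat_lit 11) (BT.br (nat_lit 0) (nat_lit 16) [nat_lit 9, nat_lit 11, nat_lit 13, nat_lit 15] (BT.dead (nat_lit 16) (BT.frm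 (nat_lit 1) (nat_lit 0xd12190d201a242729) (nat_lit 0x10f1119111f19242729) [nat_lit 0, nat_lit 2, nat_lit 6, nat_lit 9, nat_lit 11, nat_lit 14] (BT.pln (nat_lit 0) (nat_lit 6) (BT.img (nat_lit 1) (nat_lit 2) (BT.and (nat_lit 1) (nat_lit 0) (BT.cnt (nat_lit 0)))))) BT.nil))) (BT.dead (nat_lit 8) (BT.dif (nat_lit 17) (nat_lit 11) (BT.br (nat_lit 0) (nat_lit 16) [nat_lit 9, nat_lit 11, nat_lit 13, nat_lit 15] (BT.dead (nat_lit 16) (BT.frm (nat_lit 1) (nat_lit 0xd12190d201a242729) (nat_lit 0x1091219111f19242729) [nat_lit 0, nat_lit 2, nat_lit 6, nat_lit 9, nat_lit 11, nat_lit 14] (BT.pln (nat_lit 0) (nat_lit 7) (BT.img (nat_lit 1) (nat_lit 2) (BT.and (nat_lit 1) (nat_lit 0) (BT.cnt (nat_lit 0)))))) BT.nil))) (BT.dead (nat_lit 22) (BT.dif (nat_lit 17) (nat_lit 11) (BT.br (nat_lit 0) (nat_lit 16) [nat_lit 9, nat_lit 11, nat_lit 13, nat_lit 15] (BT.dead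 (nat_lit 16) (BT.frm (nat_lit 1) (nat_lit 0xd12190d201a242729) (nat_lit 0xf19111f19242729) [nat_lit 0, nat_lit 2, nat_lit 6, nat_lit 9, nat_lit 11, nat_lit 14] (BT.pln (nat_lit 0) (nat_lit 7) (BT.img (nat_lit 1) (nat_lit 2) (BT.and (nat_lit 1) (nat_lit 0) (BT.cnt (nat_lit 0)))))) BT.nil))) BT.nil))))))) (BT.dead (nat_lit 22) (BT.dif (nat_lit 6) (nat_lit 0) (BT.dif (nat_lit 0) (nat_lit 6) (BT.dif (nat_lit 0) (nat_lit 5) (BT.br (nat_lit 0) (nat_lit 18) [] (BT.dead (nat_lit 21) (BT.dif (nat_lit 17) (nat_lit 11) (BT.br (nat_lit 0) (nat_lit 16) [nat_lit 9, nat_lit 11, nat_lit 13, nat_lit 15] (BT.dead (nat_lit 16) (BT.frm (nat_lit 1) (nat_lit 0xd12190d201a242729) (nat_lit 0x10311191b1f19242729) [nat_lit 0, nat_lit 2, nat_lit 6, nat_lit 9, nat_lit 11, nat_lit 14] (BT.pln (nat_lit 0) (nat_lit 6) (BT.img (nat_lit 1) (nat_lit 2) (BT.and (nat_lit 1) (nat_lit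 0) (BT.cnt (nat_lit 0)))))) BT.nil))) (BT.dead (nat_lit 8) (BT.dif (nat_lit 17) (nat_lit 11) (BT.br (nat_lit 0) (nat_lit 16) [nat_lit 9, nat_lit 11, nat_lit 13, nat_lit 15] (BT.dead (nat_lit 16) (BT.frm (nat_lit 1) (nat_lit 0xd12190d201a242729) (nat_lit 0x10512191b1f19242729) [nat_lit 0, nat_lit 2, nat_lit 6, nat_lit 9, nat_lit 11, nat_lit 14] (BT.pln (nat_lit 0) (nat_lit 6) (BT.img (nat_lit 1) (nat_lit 2) (BT.and (nat_lit 1) (nat_lit 0) (BT.cnt (nat_lit 0)))))) BT.nil))) (BT.dead (nat_lit 18) (BT.dif (nat_lit 17) (nat_lit 11) (BT.br (nat_lit 0) (nat_lit 16) [nat_lit 9, nat_lit 11, nat_lit 13, nat_lit 15] (BT.dead (nat_lit 16) (BT.frm (nat_lit 1) (nat_lit 0xd12190d201a242729) (nat_lit 0xb191b1f19242729) [nat_lit 0, nat_lit 2, nat_lit 6, nat_lit 9, nat_lit 11, nat_lit 14] (BT.pln (nat_lit 0) (nat_lit 6) (BT.img (nat_lit 1) (nat_lit 2) (BT.and (nat_lit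 1) (nat_lit 0) (BT.cnt (nat_lit 0)))))) BT.nil))) BT.nil))))))) (BT.dead (nat_lit 8) (BT.dif (nat_lit 6) (nat_lit 0) (BT.dif (nat_lit 0) (nat_lit 6) (BT.dif (nat_lit 0) (nat_lit 5) (BT.br (nat_lit 0) (nat_lit 18) [] (BT.dead (nat_lit 22) (BT.dif (nat_lit 17) (nat_lit 11) (BT.br (nat_lit 0) (nat_lit 16) [nat_lit 9, nat_lit 11, nat_lit 13, nat_lit 15] (BT.dead (nat_lit 16) (BT.frm (nat_lit 1) (nat_lit 0xd12190d201a242729) (nat_lit 0x51219151f19242729) [nat_lit 0, nat_lit 2, nat_lit 6, nat_lit 9, nat_lit 11, nat_lit 14] (BT.pln (nat_lit 0) (nat_lit 7) (BT.img (nat_lit 1) (nat_lit 2) (BT.and (nat_lit 1) (nat_lit 0) (BT.cnt (nat_lit 0)))))) BT.nil))) (BT.dead (nat_lit 18) (BT.dif (nat_lit 17) (nat_lit 11) (BT.br (nat_lit 0) (nat_lit 16) [nat_lit 9, nat_lit 11, nat_lit 13, nat_lit 15] (BT.dead (nat_lit 16) (BT.frm (nat_lit 1) (nat_lit 0xd12190d201a242729)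 (nat_lit 0x71119151f19242729) [nat_lit 0, nat_lit 2, nat_lit 6, nat_lit 9, nat_lit 11, nat_lit 14] (BT.pln (nat_lit 0) (nat_lit 6) (BT.img (nat_lit 1) (nat_lit 2) (BT.and (nat_lit 1) (nat_lit 0) (BT.cnt (nat_lit 0)))))) BT.nil))) (BT.dead (nat_lit 21) (BT.dif (nat_lit 17) (nat_lit 11) (BT.br (nat_lit 0) (nat_lit 16) [nat_lit 9, nat_lit 11, nat_lit 13, nat_lit 15] (BT.dead (nat_lit 16) (BT.frm (nat_lit 1) (nat_lit 0xd12190d201a242729) (nat_lit 0x119151f19242729) [nat_lit 0, nat_lit 2, nat_lit 6, nat_lit 9, nat_lit 11, nat_lit 14] (BT.pln (nat_lit 0) (nat_lit 6) (BT.img (nat_lit 1) (nat_lit 2) (BT.and (nat_lit 1) (nat_lit 0) (BT.cnt (nat_lit 0)))))) BT.nil))) BT.nil))))))) (BT.dead (nat_lit 18) (BT.dif (nat_lit 6) (nat_lit 0) (BT.dif (nat_lit 0) (nat_lit 6) (BT.dif (nat_lit 0) (nat_lit 5) (BT.br (nat_lit 0) (nat_lit 18) [] (BT.dead (nat_lit 22) (BT.dif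 (nat_lit 17) (nat_lit 11) (BT.br (nat_lit 0) (nat_lit 16) [nat_lit 9, nat_lit 11, nat_lit 13, nat_lit 15] (BT.dead (nat_lit 16) (BT.frm (nat_lit 1) (nat_lit 0xd12190d201a242729) (nat_lit 0x10d111c1f19242729) [nat_lit 0, nat_lit 2, nat_lit 6, nat_lit 9, nat_lit 11, nat_lit 14] (BT.pln (nat_lit 0) (nat_lit 7) (BT.img (nat_lit 1) (nat_lit 2) (BT.and (nat_lit 1) (nat_lit 0) (BT.cnt (nat_lit 0)))))) BT.nil))) (BT.dead (nat_lit 21) (BT.dif (nat_lit 17) (nat_lit 11) (BT.br (nat_lit 0) (nat_lit 16) [nat_lit 9, nat_lit 11, nat_lit 13, nat_lit 15] (BT.dead (nat_lit 16) (BT.frm (nat_lit 1) (nat_lit 0xd12190d201a242729) (nat_lit 0x31c1f19242729) [nat_lit 0, nat_lit 2, nat_lit 6, nat_lit 9, nat_lit 11, nat_lit 14] (BT.pln (nat_lit 0) (nat_lit 6) (BT.img (nat_lit 1) (nat_lit 2) (BT.and (nat_lit 1) (nat_lit 0) (BT.cnt (nat_lit 0)))))) BT.nil))) (BT.dead (nat_lit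 8) (BT.dif (nat_lit 17) (nat_lit 11) (BT.br (nat_lit 0) (nat_lit 16) [nat_lit 9, nat_lit 11, nat_lit 13, nat_lit 15] (BT.dead (nat_lit 16) (BT.frm (nat_lit 1) (nat_lit 0xd12190d201a242729) (nat_lit 0x121c1f19242729) [nat_lit 0, nat_lit 2, nat_lit 6, nat_lit 9, nat_lit 11, nat_lit 14] (BT.pln (nat_lit 0) (nat_lit 8) (BT.img (nat_lit 1) (nat_lit 2) (BT.and (nat_lit 1) (nat_lit 0) (BT.cnt (nat_lit 0)))))) BT.nil))) BT.nil))))))) BT.nil))))))) (BT.kid (nat_lit 8) (nat_lit 64) (BT.dif (nat_lit 3) (nat_lit 0) (BT.dif (nat_lit 0) (nat_lit 3) (BT.br (nat_lit 0) (nat_lit 13) [nat_lit 5, nat_lit 7] (BT.kid (nat_lit 13) (nat_lit 16) (BT.dif (nat_lit 6) (nat_lit 0) (BT.dif (nat_lit 0) (nat_lit 6) (BT.dif (nat_lit 0) (nat_lit 5) (BT.br (nat_lit 0) (nat_lit 18) [] (BT.dead (nat_lit 22) (BT.dif (nat_lit 17) (nat_lit 11) (BT.br (nat_lit 0) (nat_lit 16) [nat_lit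 9, nat_lit 11, nat_lit 13, nat_lit 15] (BT.dead (nat_lit 16) (BT.frm (nat_lit 1) (nat_lit 0xd12190d201a242729) (nat_lit 0x10711190d201a242729) [nat_lit 0, nat_lit 2, nat_lit 6, nat_lit 9, nat_lit 11, nat_lit 14] (BT.pln (nat_lit 0) (nat_lit 6) (BT.img (nat_lit 1) (nat_lit 2) (BT.and (nat_lit 1) (nat_lit 0) (BT.cnt (nat_lit 0)))))) BT.nil))) (BT.dead (nat_lit 21) (BT.dif (nat_lit 17) (nat_lit 11) (BT.br (nat_lit 0) (nat_lit 16) [nat_lit 9, nat_lit 11, nat_lit 13, nat_lit 15] (BT.dead (nat_lit 16) (BT.frm (nat_lit 1) (nat_lit 0xd12190d201a242729) (nat_lit 0x10b190d201a242729) [nat_lit 0, nat_lit 2, nat_lit 6, nat_lit 9, nat_lit 11, nat_lit 14] (BT.pln (nat_lit 0) (nat_lit 9) (BT.img (nat_lit 1) (nat_lit 2) (BT.and (nat_lit 1) (nat_lit 0) (BT.cnt (nat_lit 0)))))) BT.nil))) (BT.kid (nat_lit 18) (nat_lit 16) (BT.dif (nat_lit 17) (nat_lit 11) (BT.br (nat_lit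 0) (nat_lit 16) [nat_lit 9, nat_lit 11, nat_lit 13, nat_lit 15] (BT.kid (nat_lit 16) (nat_lit 1) (BT.one (nat_lit 1) (nat_lit 0xd12190d201a242729) (nat_lit 0xd12190d201a242729) [nat_lit 0, nat_lit 2, nat_lit 6, nat_lit 9, nat_lit 11, nat_lit 14]) BT.nil))) BT.nil))))))) BT.nil)))) BT.nil)))) BT.nil)))) BT.nil))))

theorem nt_c2_cnt : Cnt 24 (grp 24 EG) [p_g104] [p_g104] 0 0 0 0 768 :=
  BT.sound nt_c2_cnt_P Known.nil (t := nt_c2_cnt_t) (d := 0) (by decide +kernel)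

theorem nt_c2_ge : 768 ≤ Nat.card (grp 24 nt_c2_K) :=
  Ch.le_card_grp (k := 5) (L := (lab 24 5)) p_hn nt_c2_K_ok (c := (Ch.cons (nat_lit 23) [nat_lit 1] (Ch.cons (nat_lit 7) [nat_lit 3] (Ch.cons (nat_lit 13) [nat_lit 5, nat_lit 7] (Ch.cons (nat_lit 16) [nat_lit 9, nat_lit 11, nat_lit 13, nat_lit 15] Ch.nil))))) (by decide +kernel)

theorem nt_c2_eq : (grp 24 EG) ⊓ Subgroup.centralizer {Net.toPerm 24 p_g104} = grp 24 nt_c2_K :=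
  cent_eq nt_c2_sym nt_c2_cnt nt_c2_ge

theorem nt_c2_card : Nat.card ↥((grp 24 EG) ⊓ Subgroup.centralizer {Net.toPerm 24 p_g104}) = 768 :=
  card_cent nt_c2_sym nt_c2_cnt nt_c2_ge

theorem nt_c2_ord : orderOf (Net.toPerm 24 p_g104) = 2 :=
  orderOf_net p_hn p_hk p_g104_ok (by decide) (ps := [2]) (by set_option linter.unusedSimpArgs false in simp [Nat.primeFactorsList_ofNat]) (by decide +kernel)

theorem p_le118 : grp 24 nt_c3_K ≤ grp 24 N_E0 :=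
  grp_le_of_memB p_hn p_hk N_E0_ok nt_c3_K_ok (ws := [nat_lit 0x231712180f0d070c01, nat_lit 0x1f29111b0e250821, nat_lit 0x1f271812140f21070d, nat_lit 0x1f2d130e120a]) (by decide +kernel)

theorem nt_c3_le : grp 24 nt_c3_K ≤ (grp 24 EG) :=
  (p_le118.trans T_s0.le)

theorem nt_c3_mem : Net.toPerm 24 p_g113 ∈ (grp 24 EG) :=
  nt_c3_le (mem_grp_of_memB p_hn p_hk nt_c3_K_ok p_g113_ok (w := (nat_lit 0x608030601)) (by decide +kernel))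

theorem nt_c3_sym : Sym 24 (grp 24 EG) [p_g113] nt_c3_K 0 :=
  Sym.of_lab p_hn p_hk (okE_cons.2 ⟨p_g113_ok, okE_nil _⟩) nt_c3_K_ok nt_c3_le (kT := 0) (by decide +kernel)

theorem p_le120 : grp 24 p_V119 ≤ grp 24 p_V101 :=
  grp_le_of_memB p_hn p_hk p_V101_ok p_V119_ok (ws := [nat_lit 1]) (by decide +kernel)

theorem T_s12 : Stab 24 (grp 24 EG) [nat_lit 18, nat_lit 2, nat_lit 15, nat_lit 1, nat_lit 0] p_V119 3 :=
  Stab.step (k := 5) (L := (lab 24 5)) p_hn T_s9 p_V119_ok p_le120 (c := (Ch.cons (nat_lit 4) [nat_lit 1] Ch.nil)) (by decide +kernel)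

theorem T_s13 : Stab 24 (grp 24 EG) [nat_lit 4, nat_lit 18, nat_lit 2, nat_lit 15, nat_lit 1, nat_lit 0] p_V121 1 :=
  Stab.step (k := 5) (L := (lab 24 5)) p_hn T_s12 p_V121_ok (grp_mono (List.subset_append_right [p_g50] _)) (c := Ch.nil) (by decide +kernel)

noncomputable def T_s13_O : ℕ := (nat_lit 0x933332e0f83ec67318b26d92000001000002008000000004040000000010)

theorem T_s13_F : Frame 24 (grp 24 EG) 6 10 T_s13_O 1 1 :=
  IsBase.frame T_s13.isBase (by decide +kernel)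

noncomputable def T_s12_O : ℕ := (nat_lit 0x8000000a2000100600001900404080210020000001000002008000000004040000)

theorem T_s12_F : Frame 24 (grp 24 EG) 5 11 T_s12_O 0 1 :=
  Stab.frame p_hn T_s12 (by decide +kernel)

noncomputable def nt_c3_cnt_L : List ℕ := [0, 1, T_s0_O, 0, 0, 4, 6, T_s9_O, 0, 0, 5, 11, T_s12_O, 0, 0, 6, 10, T_s13_O, 1, 0]

theorem nt_c3_cnt_P : Prob 24 5 (grp 24 EG) nt_c3_cnt_EG [p_g113] [p_g113] nt_c3_K nt_c3_cnt_L 0 0 :=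
  Sym.prob p_hn p_hk nt_c3_sym nt_c3_cnt_EG_ok (grp_cons_le p_g42_T (grp_cons_le p_g33_T (grp_cons_le p_g39_T (grp_cons_le p_g50_T (grp_cons_le p_g45_T (grp_cons_le p_g46_T (grp_cons_le p_g47_T (grp_cons_le p_g59_T (grp_cons_le p_g60_T (grp_cons_le p_g61_T (grp_cons_le p_g62_T (grp_cons_le p_g53_T (grp_cons_le p_g54_T (grp_cons_le p_g55_T (grp_cons_le p_g56_T (grp_cons_le p_g36_T (grp_cons_le p_g32_T (grp_cons_le p_g29_T (grp_cons_le p_g25_T (grp_cons_le p_g26_T (grp_cons_le p_g22_T (grp_cons_le p_g1_T (grp_cons_le p_g2_T (grp_nil_le _)))))))))))))))))))))))) (Frames.cons T_s0_F (Frames.cons T_s9_F (Frames.cons T_s12_F (Frames.cons T_s13_F Frames.nil)))) (okE_cons.2 ⟨p_g113_ok, okE_nil _⟩) _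

noncomputable def nt_c3_cnt_t : BT := (BT.frm (nat_lit 0) (nat_lit 0) (nat_lit 0) [] (BT.pln (nat_lit 0) (nat_lit 0) (BT.br (nat_lit 0) (nat_lit 23) [nat_lit 1] (BT.kid (nat_lit 23) (nat_lit 320) (BT.dif (nat_lit 5) (nat_lit 1) (BT.br (nat_lit 0) (nat_lit 22) [nat_lit 3, nat_lit 5] (BT.dead (nat_lit 6) (BT.dif (nat_lit 1) (nat_lit 0) (BT.img (nat_lit 1) (nat_lit 1) (BT.dif (nat_lit 1) (nat_lit 0) (BT.br (nat_lit 0) (nat_lit 21) [nat_lit 0x5050306, nat_lit 0x5050308] (BT.dead (nat_lit 22) (BT.frm (nat_lit 1) (nat_lit 0x11121112629) (nat_lit 0x111200b2829) [nat_lit 0, nat_lit 2, nat_lit 4, nat_lit 6] (BT.pln (nat_lit 0) (nat_lit 4) (BT.img (nat_lit 1) (nat_lit 2) (BT.and (nat_lit 1) (nat_lit 0) (BT.cnt (nat_lit 0)))))) BT.nil))))) (BT.kid (nat_lit 22) (nat_lit 16) (BT.dif (nat_lit 1) (nat_lit 0) (BT.img (nat_lit 1) (nat_lit 1) (BT.dif (nat_lit 1)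 (nat_lit 0) (BT.br (nat_lit 0) (nat_lit 21) [nat_lit 5, nat_lit 7] (BT.dead (nat_lit 6) (BT.frm (nat_lit 1) (nat_lit 0x11121112629) (nat_lit 0x221112629) [nat_lit 0, nat_lit 2, nat_lit 4, nat_lit 6] (BT.pln (nat_lit 0) (nat_lit 4) (BT.img (nat_lit 1) (nat_lit 2) (BT.and (nat_lit 1) (nat_lit 0) (BT.cnt (nat_lit 0)))))) (BT.dead (nat_lit 4) (BT.frm (nat_lit 1) (nat_lit 0x11121112629) (nat_lit 0x121112629) [nat_lit 0, nat_lit 2, nat_lit 4, nat_lit 6] (BT.pln (nat_lit 0) (nat_lit 4) (BT.img (nat_lit 1) (nat_lit 2) (BT.and (nat_lit 1) (nat_lit 0) (BT.cnt (nat_lit 0)))))) (BT.kid (nat_lit 21) (nat_lit 1) (BT.dif (nat_lit 5) (nat_lit 0) (BT.dif (nat_lit 0) (nat_lit 5) (BT.dif (nat_lit 0) (nat_lit 4) (BT.img (nat_lit 1) (nat_lit 3) (BT.dif (nat_lit 1) (nat_lit 0) (BT.frm (nat_lit 1) (nat_lit 0x11121112629) (nat_lit 0x11121112629) [nat_lit 5, nat_lit 7, nat_lit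 9, nat_lit 11] (BT.pln (nat_lit 0) (nat_lit 4) (BT.dif (nat_lit 2) (nat_lit 0) (BT.img (nat_lit 1) (nat_lit 1) (BT.dif (nat_lit 1) (nat_lit 0) (BT.frm (nat_lit 2) (nat_lit 0xb17011121112629) (nat_lit 0xb17011121112629) [nat_lit 6, nat_lit 10, nat_lit 12, nat_lit 14, nat_lit 16] (BT.pln (nat_lit 0) (nat_lit 5) (BT.dif (nat_lit 2) (nat_lit 0) (BT.pln (nat_lit 2) (nat_lit 6) (BT.dif (nat_lit 1) (nat_lit 0) (BT.pln (nat_lit 4) (nat_lit 7) (BT.dif (nat_lit 1) (nat_lit 0) (BT.br (nat_lit 0) (nat_lit 18) [] (BT.dead (nat_lit 14) (BT.frm (nat_lit 3) (nat_lit 0x70b17011121112629) (nat_lit 0x80b17011121112629) [nat_lit 0, nat_lit 14, nat_lit 18, nat_lit 20, nat_lit 22, nat_lit 24] (BT.pln (nat_lit 0) (nat_lit 6) (BT.img (nat_lit 1) (nat_lit 2) (BT.and (nat_lit 1) (nat_lit 0) (BT.cnt (nat_lit 0)))))) (BT.dead (nat_lit 9) (BT.frm (nat_lit 3) (nat_lit 0x70b17011121112629)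 (nat_lit 0xb17011121112629) [nat_lit 0, nat_lit 14, nat_lit 18, nat_lit 20, nat_lit 22, nat_lit 24] (BT.pln (nat_lit 0) (nat_lit 6) (BT.img (nat_lit 1) (nat_lit 2) (BT.and (nat_lit 1) (nat_lit 0) (BT.cnt (nat_lit 0)))))) (BT.kid (nat_lit 18) (nat_lit 1) (BT.one (nat_lit 3) (nat_lit 0x70b17011121112629) (nat_lit 0x70b17011121112629) [nat_lit 0, nat_lit 14, nat_lit 18, nat_lit 20, nat_lit 22, nat_lit 24]) BT.nil))))))))))))))))))))) BT.nil))))))) BT.nil)))) BT.nil))))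

theorem nt_c3_cnt : Cnt 24 (grp 24 EG) [p_g113] [p_g113] 0 0 0 0 640 :=
  BT.sound nt_c3_cnt_P Known.nil (t := nt_c3_cnt_t) (d := 0) (by decide +kernel)

theorem nt_c3_ge : 640 ≤ Nat.card (grp 24 nt_c3_K) :=
  Ch.le_card_grp (k := 5) (L := (lab 24 5)) p_hn nt_c3_K_ok (c := (Ch.cons (nat_lit 23) [nat_lit 1] (Ch.cons (nat_lit 22) [nat_lit 3] (Ch.cons (nat_lit 21) [nat_lit 5, nat_lit 7] Ch.nil)))) (by decide +kernel)

theorem nt_c3_eq : (grp 24 EG) ⊓ Subgroup.centralizer {Net.toPerm 24 p_g113} = grp 24 nt_c3_K :=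
  cent_eq nt_c3_sym nt_c3_cnt nt_c3_ge

theorem nt_c3_card : Nat.card ↥((grp 24 EG) ⊓ Subgroup.centralizer {Net.toPerm 24 p_g113}) = 640 :=
  card_cent nt_c3_sym nt_c3_cnt nt_c3_ge

theorem nt_c3_ord : orderOf (Net.toPerm 24 p_g113) = 2 :=
  orderOf_net p_hn p_hk p_g113_ok (by decide) (ps := [2]) (by set_option linter.unusedSimpArgs false in simp [Nat.primeFactorsList_ofNat]) (by decide +kernel)

theorem p_le126 : grp 24 nt_c4_K ≤ grp 24 N_E0 :=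
  grp_le_of_memB p_hn p_hk N_E0_ok nt_c4_K_ok (ws := [nat_lit 0x271812180e23090b01, nat_lit 0x2b181111170e080b01, nat_lit 0x1f2d18111b0d13080a01, nat_lit 0x1f29120e0809]) (by decide +kernel)

theorem nt_c4_le : grp 24 nt_c4_K ≤ (grp 24 EG) :=
  (p_le126.trans T_s0.le)

theorem nt_c4_mem : Net.toPerm 24 p_g122 ∈ (grp 24 EG) :=
  nt_c4_le (toPerm_mem_grp (E := nt_c4_K) (List.Mem.tail _ (List.Mem.tail _ (List.Mem.tail _ (List.Mem.head _)))))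

theorem nt_c4_sym : Sym 24 (grp 24 EG) [p_g122] nt_c4_K 0 :=
  Sym.of_lab p_hn p_hk (okE_cons.2 ⟨p_g122_ok, okE_nil _⟩) nt_c4_K_ok nt_c4_le (kT := 0) (by decide +kernel)

theorem p_le129 : grp 24 p_V128 ≤ grp 24 p_V88 :=
  grp_le_of_memB p_hn p_hk p_V88_ok p_V128_ok (ws := [nat_lit 515]) (by decide +kernel)

theorem T_s14 : Stab 24 (grp 24 EG) [nat_lit 13, nat_lit 3, nat_lit 9, nat_lit 6, nat_lit 8] p_V128 2 :=
  Stab.step (k := 5) (L := (lab 24 5)) p_hn T_s4 p_V128_ok p_le129 (c := (Ch.cons (nat_lit 22) [nat_lit 1] Ch.nil)) (by decide +kernel)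

theorem T_s15 : Stab 24 (grp 24 EG) [nat_lit 22, nat_lit 13, nat_lit 3, nat_lit 9, nat_lit 6, nat_lit 8] p_V130 1 :=
  Stab.step (k := 5) (L := (lab 24 5)) p_hn T_s14 p_V130_ok (grp_mono (List.subset_append_right [p_g127] _)) (c := Ch.nil) (by decide +kernel)

theorem p_g127_T : Net.toPerm 24 p_g127 ∈ (grp 24 EG) :=
  T_s14.le (toPerm_mem_grp (E := p_V128) (List.Mem.head _))

noncomputable def T_s15_O : ℕ := (nat_lit 0x933332e0f83ec67318b26d92000100000040000200000008002000400000)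

theorem T_s15_F : Frame 24 (grp 24 EG) 6 10 T_s15_O 1 1 :=
  IsBase.frame T_s15.isBase (by decide +kernel)

noncomputable def T_s14_O : ℕ := (nat_lit 0x100000008000000004420000044000011000000880080020200010000402000100000040000200000008002000)

theorem T_s14_F : Frame 24 (grp 24 EG) 5 15 T_s14_O 0 1 :=
  Stab.frame p_hn T_s14 (by decide +kernel)

noncomputable def T_s4_O : ℕ := (nat_lit 0x800001100880088020200014002402000100000040000200000008)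

theorem T_s4_F : Frame 24 (grp 24 EG) 4 9 T_s4_O 0 1 :=
  Stab.frame p_hn T_s4 (by decide +kernel)

noncomputable def nt_c4_cnt_L : List ℕ := [0, 1, T_s0_O, 0, 0, 4, 9, T_s4_O, 0, 0, 5, 15, T_s14_O, 0, 0, 6, 10, T_s15_O, 1, 0]

theorem nt_c4_cnt_P : Prob 24 5 (grp 24 EG) nt_c4_cnt_EG [p_g122] [p_g122] nt_c4_K nt_c4_cnt_L 0 0 :=
  Sym.prob p_hn p_hk nt_c4_sym nt_c4_cnt_EG_ok (grp_cons_le p_g81_T (grp_cons_le p_g82_T (grp_cons_le p_g83_T (grp_cons_le p_g80_T (grp_cons_le p_g79_T (grp_cons_le p_g22_T (grp_cons_le p_g1_T (grp_cons_le p_g2_T (grp_cons_le p_g29_T (grp_cons_le p_g25_T (grp_cons_le p_g26_T (grp_cons_le p_g36_T (grp_cons_le p_g32_T (grp_cons_le p_g42_T (grp_cons_le p_g33_T (grp_cons_le p_g39_T (grp_cons_le p_g50_T (grp_cons_le p_g45_T (grp_cons_le p_g46_T (grp_cons_le p_g47_T (grp_cons_le p_g59_T (grp_cons_le p_g60_T (grp_cons_le p_g61_T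 (grp_cons_le p_g62_T (grp_cons_le p_g53_T (grp_cons_le p_g54_T (grp_cons_le p_g55_T (grp_cons_le p_g56_T (grp_cons_le p_g127_T (grp_nil_le _)))))))))))))))))))))))))))))) (Frames.cons T_s0_F (Frames.cons T_s4_F (Frames.cons T_s14_F (Frames.cons T_s15_F Frames.nil)))) (okE_cons.2 ⟨p_g122_ok, okE_nil _⟩) _

noncomputable def nt_c4_cnt_t : BT := (BT.fix (nat_lit 1) (BT.frm (nat_lit 0) (nat_lit 0) (nat_lit 0) [] (BT.pln (nat_lit 0) (nat_lit 0) (BT.dif (nat_lit 2) (nat_lit 0) (BT.br (nat_lit 0) (nat_lit 4) [nat_lit 1] (BT.kid (nat_lit 4) (nat_lit 18) (BT.dif (nat_lit 1) (nat_lit 0) (BT.br (nat_lit 0) (nat_lit 5) [nat_lit 3, nat_lit 5] (BT.kid (nat_lit 5) (nat_lit 6) (BT.dif (nat_lit 3) (nat_lit 0) (BT.dif (nat_lit 0) (nat_lit 3) (BT.br (nat_lit 0) (nat_lit 15) [nat_lit 5] (BT.kid (nat_lit 15) (nat_lit 3) (BT.dif (nat_lit 12) (nat_lit 9) (BT.dif (nat_lit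 5) (nat_lit 4) (BT.dif (nat_lit 0) (nat_lit 2) (BT.frm (nat_lit 1) (nat_lit 0x903071a) (nat_lit 0x903071a) [nat_lit 0, nat_lit 3, nat_lit 6, nat_lit 8] (BT.pln (nat_lit 0) (nat_lit 4) (BT.and (nat_lit 4) (nat_lit 0) (BT.br (nat_lit 0) (nat_lit 22) [nat_lit 7] (BT.kid (nat_lit 22) (nat_lit 1) (BT.frm (nat_lit 2) (nat_lit 0x903071a) (nat_lit 0x903071a) [nat_lit 0, nat_lit 4, nat_lit 7, nat_lit 10, nat_lit 12] (BT.pln (nat_lit 0) (nat_lit 11) (BT.pln (nat_lit 1) (nat_lit 10) (BT.img (nat_lit 1) (nat_lit 0) (BT.dif (nat_lit 2) (nat_lit 0) (BT.one (nat_lit 3) (nat_lit 0x903071a) (nat_lit 0x903071a) [nat_lit 0, nat_lit 5, nat_lit 9, nat_lit 12, nat_lit 15, nat_lit 17])))))) BT.nil)))))))) BT.nil)))) BT.nil))) BT.nil))))))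

theorem nt_c4_cnt : Cnt 24 (grp 24 EG) [p_g122] [p_g122] 0 0 0 0 72 :=
  BT.sound nt_c4_cnt_P Known.nil (t := nt_c4_cnt_t) (d := 0) (by decide +kernel)

theorem nt_c4_ge : 72 ≤ Nat.card (grp 24 nt_c4_K) :=
  Ch.le_card_grp (k := 5) (L := (lab 24 5)) p_hn nt_c4_K_ok (c := (Ch.cons (nat_lit 4) [nat_lit 1] (Ch.cons (nat_lit 5) [nat_lit 3] (Ch.cons (nat_lit 15) [nat_lit 5] (Ch.cons (nat_lit 22) [nat_lit 7] Ch.nil))))) (by decide +kernel)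

theorem nt_c4_eq : (grp 24 EG) ⊓ Subgroup.centralizer {Net.toPerm 24 p_g122} = grp 24 nt_c4_K :=
  cent_eq nt_c4_sym nt_c4_cnt nt_c4_ge

theorem nt_c4_card : Nat.card ↥((grp 24 EG) ⊓ Subgroup.centralizer {Net.toPerm 24 p_g122}) = 72 :=
  card_cent nt_c4_sym nt_c4_cnt nt_c4_ge

theorem nt_c4_ord : orderOf (Net.toPerm 24 p_g122) = 3 :=
  orderOf_net p_hn p_hk p_g122_ok (by decide) (ps := [3]) (by set_option linter.unusedSimpArgs false in simp [Nat.primeFactorsList_ofNat]) (by decide +kernel)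

theorem p_le136 : grp 24 nt_c5_K ≤ grp 24 N_E0 :=
  grp_le_of_memB p_hn p_hk N_E0_ok nt_c5_K_ok (ws := [nat_lit 0x1f25130f0d0c01, nat_lit 0x25181008, nat_lit 0x2118130f0d090b, nat_lit 0x2b1712140e1b08, nat_lit 0x1f27181111170e1c0808, nat_lit 0x2b1811130f1309]) (by decide +kernel)

theorem nt_c5_le : grp 24 nt_c5_K ≤ (grp 24 EG) :=
  (p_le136.trans T_s0.le)

theorem nt_c5_mem : Net.toPerm 24 p_g131 ∈ (grp 24 EG) :=
  nt_c5_le (toPerm_mem_grp (E := nt_c5_K) (List.Mem.head _))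

theorem nt_c5_sym : Sym 24 (grp 24 EG) [p_g131] nt_c5_K 0 :=
  Sym.of_lab p_hn p_hk (okE_cons.2 ⟨p_g131_ok, okE_nil _⟩) nt_c5_K_ok nt_c5_le (kT := 0) (by decide +kernel)

noncomputable def nt_c5_cnt_L : List ℕ := [0, 1, T_s0_O, 0, 0, 6, 10, T_s11_O, 1, 0]

theorem nt_c5_cnt_P : Prob 24 5 (grp 24 EG) nt_c5_cnt_EG [p_g131] [p_g131] nt_c5_K nt_c5_cnt_L 0 0 :=
  Sym.prob p_hn p_hk nt_c5_sym nt_c5_cnt_EG_ok (grp_cons_le p_g59_T (grp_cons_le p_g60_T (grp_cons_le p_g61_T (grp_cons_le p_g62_T (grp_cons_le p_g53_T (grp_cons_le p_g54_T (grp_cons_le p_g55_T (grp_cons_le p_g56_T (grp_cons_le p_g50_T (grp_cons_le p_g45_T (grp_cons_le p_g46_T (grp_cons_le p_g47_T (grp_cons_le p_g42_T (grp_cons_le p_g33_T (grp_cons_le p_g39_T (grp_cons_le p_g36_T (grp_cons_le p_g32_T (grp_cons_le p_g29_T (grp_cons_le p_g25_T (grp_cons_le p_g26_T (grp_cons_le p_g22_T (grp_cons_le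 p_g1_T (grp_cons_le p_g2_T (grp_nil_le _)))))))))))))))))))))))) (Frames.cons T_s0_F (Frames.cons T_s11_F Frames.nil)) (okE_cons.2 ⟨p_g131_ok, okE_nil _⟩) _

noncomputable def nt_c5_cnt_t : BT := (BT.frm (nat_lit 0) (nat_lit 0) (nat_lit 0) [] (BT.pln (nat_lit 0) (nat_lit 0) (BT.br (nat_lit 0) (nat_lit 23) [nat_lit 1] (BT.kid (nat_lit 23) (nat_lit 48) (BT.fix (nat_lit 257) (BT.dif (nat_lit 0) (nat_lit 2) (BT.br (nat_lit 0) (nat_lit 7) [nat_lit 3] (BT.dead (nat_lit 21) (BT.dif (nat_lit 1) (nat_lit 0) (BT.img (nat_lit 1) (nat_lit 1) (BT.dif (nat_lit 1) (nat_lit 0) (BT.br (nat_lit 0) (nat_lit 8) [nat_lit 1284] (BT.dead (nat_lit 7) (BT.dif (nat_lit 12) (nat_lit 6) (BT.br (nat_lit 0) (nat_lit 16) [nat_lit 9, nat_lit 1803, nat_lit 7] (BT.dead (nat_lit 5) (BT.img (nat_lit 1) (nat_lit 2) (BT.frm (nat_lit 1) (nat_lit 0x10512191c2103242729) (nat_lit 0x109121a1f1a232829)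 [nat_lit 1, nat_lit 0, nat_lit 3, nat_lit 5, nat_lit 7, nat_lit 10] (BT.pln (nat_lit 0) (nat_lit 7) (BT.img (nat_lit 1) (nat_lit 3) (BT.img (nat_lit 1) (nat_lit 0) (BT.img (nat_lit 1) (nat_lit 0) (BT.and (nat_lit 3) (nat_lit 0) (BT.cnt (nat_lit 0))))))))) (BT.dead (nat_lit 16) (BT.img (nat_lit 1) (nat_lit 2) (BT.frm (nat_lit 1) (nat_lit 0x10512191c2103242729) (nat_lit 0x1121a1f1a232829) [nat_lit 1, nat_lit 0, nat_lit 3, nat_lit 5, nat_lit 7, nat_lit 10] (BT.pln (nat_lit 0) (nat_lit 6) (BT.img (nat_lit 1) (nat_lit 3) (BT.and (nat_lit 1) (nat_lit 0) (BT.cnt (nat_lit 0))))))) BT.nil)))) (BT.dead (nat_lit 13) (BT.dif (nat_lit 12) (nat_lit 6) (BT.br (nat_lit 0) (nat_lit 16) [nat_lit 7, nat_lit 2315, nat_lit 11] (BT.dead (nat_lit 16) (BT.img (nat_lit 1) (nat_lit 2) (BT.frm (nat_lit 1) (nat_lit 0x10512191c2103242729) (nat_lit 0x10919181f1a232829) [nat_lit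 1, nat_lit 0, nat_lit 3, nat_lit 5, nat_lit 7, nat_lit 10] (BT.pln (nat_lit 0) (nat_lit 6) (BT.img (nat_lit 1) (nat_lit 3) (BT.and (nat_lit 1) (nat_lit 0) (BT.cnt (nat_lit 0))))))) (BT.dead (nat_lit 5) (BT.img (nat_lit 1) (nat_lit 2) (BT.frm (nat_lit 1) (nat_lit 0x10512191c2103242729) (nat_lit 0x519181f1a232829) [nat_lit 1, nat_lit 0, nat_lit 3, nat_lit 5, nat_lit 7, nat_lit 10] (BT.pln (nat_lit 0) (nat_lit 7) (BT.img (nat_lit 1) (nat_lit 3) (BT.and (nat_lit 1) (nat_lit 0) (BT.cnt (nat_lit 0))))))) BT.nil)))) BT.nil)))))) (BT.kid (nat_lit 7) (nat_lit 16) (BT.dif (nat_lit 1) (nat_lit 0) (BT.img (nat_lit 1) (nat_lit 1) (BT.dif (nat_lit 1) (nat_lit 0) (BT.br (nat_lit 0) (nat_lit 8) [nat_lit 5] (BT.dead (nat_lit 21) (BT.dif (nat_lit 12) (nat_lit 6) (BT.br (nat_lit 0) (nat_lit 16) [nat_lit 1801, nat_lit 9, nat_lit 11] (BT.dead (nat_lit 16) (BT.img (nat_lit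 1) (nat_lit 2) (BT.frm (nat_lit 1) (nat_lit 0x10512191c2103242729) (nat_lit 0x107121a1c2103242729) [nat_lit 1, nat_lit 0, nat_lit 3, nat_lit 5, nat_lit 7, nat_lit 10] (BT.pln (nat_lit 0) (nat_lit 6) (BT.img (nat_lit 1) (nat_lit 3) (BT.and (nat_lit 1) (nat_lit 0) (BT.cnt (nat_lit 0))))))) (BT.dead (nat_lit 5) (BT.img (nat_lit 1) (nat_lit 2) (BT.frm (nat_lit 1) (nat_lit 0x10512191c2103242729) (nat_lit 0x9121a1c2103242729) [nat_lit 1, nat_lit 0, nat_lit 3, nat_lit 5, nat_lit 7, nat_lit 10] (BT.pln (nat_lit 0) (nat_lit 7) (BT.img (nat_lit 1) (nat_lit 3) (BT.img (nat_lit 1) (nat_lit 0) (BT.img (nat_lit 1) (nat_lit 0) (BT.and (nat_lit 3) (nat_lit 0) (BT.cnt (nat_lit 0))))))))) BT.nil)))) (BT.kid (nat_lit 8) (nat_lit 8) (BT.dif (nat_lit 12) (nat_lit 6) (BT.br (nat_lit 0) (nat_lit 16) [nat_lit 7, nat_lit 9, nat_lit 11] (BT.dead (nat_lit 5) (BT.img (nat_lit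 1) (nat_lit 2) (BT.frm (nat_lit 1) (nat_lit 0x10512191c2103242729) (nat_lit 0x912191c2103242729) [nat_lit 1, nat_lit 0, nat_lit 3, nat_lit 5, nat_lit 7, nat_lit 10] (BT.pln (nat_lit 0) (nat_lit 6) (BT.img (nat_lit 1) (nat_lit 3) (BT.and (nat_lit 1) (nat_lit 0) (BT.cnt (nat_lit 0))))))) (BT.kid (nat_lit 16) (nat_lit 1) (BT.img (nat_lit 1) (nat_lit 2) (BT.one (nat_lit 1) (nat_lit 0x10512191c2103242729) (nat_lit 0x10512191c2103242729) [nat_lit 1, nat_lit 0, nat_lit 3, nat_lit 5, nat_lit 7, nat_lit 10])) BT.nil)))) BT.nil)))))) BT.nil))))) BT.nil))))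

theorem nt_c5_cnt : Cnt 24 (grp 24 EG) [p_g131] [p_g131] 0 0 0 0 96 :=
  BT.sound nt_c5_cnt_P Known.nil (t := nt_c5_cnt_t) (d := 0) (by decide +kernel)

theorem nt_c5_ge : 96 ≤ Nat.card (grp 24 nt_c5_K) :=
  Ch.le_card_grp (k := 5) (L := (lab 24 5)) p_hn nt_c5_K_ok (c := (Ch.cons (nat_lit 23) [nat_lit 1] (Ch.cons (nat_lit 7) [nat_lit 3] (Ch.cons (nat_lit 8) [nat_lit 5] (Ch.cons (nat_lit 16) [nat_lit 7, nat_lit 9, nat_lit 11] Ch.nil))))) (by decide +kernel)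

theorem nt_c5_eq : (grp 24 EG) ⊓ Subgroup.centralizer {Net.toPerm 24 p_g131} = grp 24 nt_c5_K :=
  cent_eq nt_c5_sym nt_c5_cnt nt_c5_ge

theorem nt_c5_card : Nat.card ↥((grp 24 EG) ⊓ Subgroup.centralizer {Net.toPerm 24 p_g131}) = 96 :=
  card_cent nt_c5_sym nt_c5_cnt nt_c5_ge

theorem nt_c5_ord : orderOf (Net.toPerm 24 p_g131) = 4 :=
  orderOf_net p_hn p_hk p_g131_ok (by decide) (ps := [2]) (by set_option linter.unusedSimpArgs false in simp [Nat.primeFactorsList_ofNat]) (by decide +kernel)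

theorem p_le142 : grp 24 nt_c6_K ≤ grp 24 N_E0 :=
  grp_le_of_memB p_hn p_hk N_E0_ok nt_c6_K_ok (ws := [nat_lit 0x1f2118140f130914, nat_lit 0x29171111180d0d0c01, nat_lit 0x2712140e23070b01, nat_lit 0x2d11170f13091401, nat_lit 0x18131f0d0d080e01]) (by decide +kernel)

theorem nt_c6_le : grp 24 nt_c6_K ≤ (grp 24 EG) :=
  (p_le142.trans T_s0.le)

theorem nt_c6_mem : Net.toPerm 24 p_g137 ∈ (grp 24 EG) :=
  nt_c6_le (toPerm_mem_grp (E := nt_c6_K) (List.Mem.head _))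

theorem nt_c6_sym : Sym 24 (grp 24 EG) [p_g137] nt_c6_K 0 :=
  Sym.of_lab p_hn p_hk (okE_cons.2 ⟨p_g137_ok, okE_nil _⟩) nt_c6_K_ok nt_c6_le (kT := 0) (by decide +kernel)

theorem p_le147 : grp 24 p_V146 ≤ grp 24 p_V87 :=
  grp_le_of_memB p_hn p_hk p_V87_ok p_V146_ok (ws := [nat_lit 196869, nat_lit 0x4020502, nat_lit 66818]) (by decide +kernel)

theorem T_s16 : Stab 24 (grp 24 EG) [nat_lit 20, nat_lit 9, nat_lit 6, nat_lit 8] p_V146 32 :=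
  Stab.step (k := 5) (L := (lab 24 5)) p_hn T_s3 p_V146_ok p_le147 (c := (Ch.cons (nat_lit 21) [nat_lit 1, nat_lit 3] (Ch.cons (nat_lit 19) [nat_lit 5] Ch.nil))) (by decide +kernel)

theorem T_s17 : Stab 24 (grp 24 EG) [nat_lit 21, nat_lit 20, nat_lit 9, nat_lit 6, nat_lit 8] p_V148 2 :=
  Stab.step (k := 5) (L := (lab 24 5)) p_hn T_s16 p_V148_ok (grp_mono (List.subset_append_right [p_g143, p_g144] _)) (c := (Ch.cons (nat_lit 19) [nat_lit 1] Ch.nil)) (by decide +kernel)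

theorem T_s18 : Stab 24 (grp 24 EG) [nat_lit 19, nat_lit 21, nat_lit 20, nat_lit 9, nat_lit 6, nat_lit 8] p_V149 1 :=
  Stab.step (k := 5) (L := (lab 24 5)) p_hn T_s17 p_V149_ok (grp_mono (List.subset_append_right [p_g145] _)) (c := Ch.nil) (by decide +kernel)

theorem p_g143_T : Net.toPerm 24 p_g143 ∈ (grp 24 EG) :=
  T_s16.le (toPerm_mem_grp (E := p_V146) (List.Mem.head _))

theorem p_g144_T : Net.toPerm 24 p_g144 ∈ (grp 24 EG) :=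
  T_s16.le (toPerm_mem_grp (E := p_V146) (List.Mem.tail _ (List.Mem.head _)))

theorem p_g145_T : Net.toPerm 24 p_g145 ∈ (grp 24 EG) :=
  T_s16.le (toPerm_mem_grp (E := p_V146) (List.Mem.tail _ (List.Mem.tail _ (List.Mem.head _))))

noncomputable def T_s18_O : ℕ := (nat_lit 0x933332e0f83ec67318b26d92000100000040000200100000200000080000)

theorem T_s18_F : Frame 24 (grp 24 EG) 6 10 T_s18_O 1 1 :=
  IsBase.frame T_s18.isBase (by decide +kernel)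

noncomputable def T_s17_O : ℕ := (nat_lit 0x100000010000000100c000000a00040040000088000402000000c020002000100000040000200100000200000)

theorem T_s17_F : Frame 24 (grp 24 EG) 5 15 T_s17_O 0 1 :=
  Stab.frame p_hn T_s17 (by decide +kernel)

noncomputable def nt_c6_cnt_L : List ℕ := [0, 1, T_s0_O, 0, 0, 5, 15, T_s17_O, 0, 0, 6, 10, T_s18_O, 1, 0]

theorem nt_c6_cnt_P : Prob 24 5 (grp 24 EG) nt_c6_cnt_EG [p_g137] [p_g137] nt_c6_K nt_c6_cnt_L 0 0 :=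
  Sym.prob p_hn p_hk nt_c6_sym nt_c6_cnt_EG_ok (grp_cons_le p_g143_T (grp_cons_le p_g144_T (grp_cons_le p_g145_T (grp_cons_le p_g81_T (grp_cons_le p_g82_T (grp_cons_le p_g83_T (grp_cons_le p_g80_T (grp_cons_le p_g79_T (grp_cons_le p_g22_T (grp_cons_le p_g1_T (grp_cons_le p_g2_T (grp_cons_le p_g29_T (grp_cons_le p_g25_T (grp_cons_le p_g26_T (grp_cons_le p_g36_T (grp_cons_le p_g32_T (grp_cons_le p_g42_T (grp_cons_le p_g33_T (grp_cons_le p_g39_T (grp_cons_le p_g50_T (grp_cons_le p_g45_T (grp_cons_le p_g46_T (grp_cons_le p_g47_T (grp_cons_le p_g59_T (grp_cons_le p_g60_T (grp_cons_le p_g61_T (grp_cons_le p_g62_T (grp_cons_le p_g53_T (grp_cons_le p_g54_T (grp_cons_le p_g55_T (grp_cons_le p_g56_T (grp_nil_le _)))))))))))))))))))))))))))))))) (Frames.cons T_s0_F (Frames.cons T_s17_F (Frames.cons T_s18_F Frames.nil))) (okE_cons.2 ⟨p_g137_ok, okE_nil _⟩) _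

noncomputable def nt_c6_cnt_t : BT := (BT.fix (nat_lit 257) (BT.fix (nat_lit 1) (BT.dif (nat_lit 1) (nat_lit 0) (BT.br (nat_lit 0) (nat_lit 21) [nat_lit 3] (BT.kid (nat_lit 21) (nat_lit 16) (BT.dif (nat_lit 1) (nat_lit 0) (BT.img (nat_lit 1) (nat_lit 1) (BT.dif (nat_lit 1) (nat_lit 0) (BT.br (nat_lit 0) (nat_lit 7) [nat_lit 5] (BT.kid (nat_lit 7) (nat_lit 8) (BT.dif (nat_lit 10) (nat_lit 7) (BT.br (nat_lit 0) (nat_lit 20) [nat_lit 7, nat_lit 9] (BT.dead (nat_lit 1) (BT.frm (nat_lit 0) (nat_lit 0) (nat_lit 0) [] (BT.pln (nat_lit 0) (nat_lit 0) (BT.dif (nat_lit 11) (nat_lit 0) (BT.dif (nat_lit 0) (nat_lit 9) (BT.dif (nat_lit 0) (nat_lit 6) (BT.dif (nat_lit 0) (nat_lit 13) (BT.dif (nat_lit 0) (nat_lit 10) (BT.frm (nat_lit 1) (nat_lit 0x10103080e0e100a1c) (nat_lit 0x1010303080e0e100a1c) [nat_lit 7, nat_lit 0, nat_lit 9, nat_lit 11, nat_lit 13] (BT.pln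 (nat_lit 0) (nat_lit 7) (BT.img (nat_lit 1) (nat_lit 9) (BT.and (nat_lit 1) (nat_lit 0) (BT.cnt (nat_lit 0))))))))))))) (BT.kid (nat_lit 20) (nat_lit 1) (BT.img (nat_lit 1) (nat_lit 0) (BT.frm (nat_lit 0) (nat_lit 0) (nat_lit 0) [] (BT.pln (nat_lit 0) (nat_lit 0) (BT.dif (nat_lit 12) (nat_lit 0) (BT.dif (nat_lit 0) (nat_lit 10) (BT.dif (nat_lit 0) (nat_lit 7) (BT.dif (nat_lit 0) (nat_lit 14) (BT.dif (nat_lit 0) (nat_lit 11) (BT.one (nat_lit 2) (nat_lit 0x10103080e0e100a1c) (nat_lit 0x10103080e0e100a1c) [nat_lit 7, nat_lit 8, nat_lit 0, nat_lit 10, nat_lit 12, nat_lit 14]))))))))) BT.nil)))) BT.nil))))) BT.nil)))))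

theorem nt_c6_cnt : Cnt 24 (grp 24 EG) [p_g137] [p_g137] 0 0 0 0 64 :=
  BT.sound nt_c6_cnt_P Known.nil (t := nt_c6_cnt_t) (d := 0) (by decide +kernel)

theorem nt_c6_ge : 64 ≤ Nat.card (grp 24 nt_c6_K) :=
  Ch.le_card_grp (k := 5) (L := (lab 24 5)) p_hn nt_c6_K_ok (c := (Ch.cons (nat_lit 21) [nat_lit 1, nat_lit 3] (Ch.cons (nat_lit 7) [nat_lit 5] (Ch.cons (nat_lit 20) [nat_lit 7, nat_lit 9] Ch.nil)))) (by decide +kernel)

theorem nt_c6_eq : (grp 24 EG) ⊓ Subgroup.centralizer {Net.toPerm 24 p_g137} = grp 24 nt_c6_K :=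
  cent_eq nt_c6_sym nt_c6_cnt nt_c6_ge

theorem nt_c6_card : Nat.card ↥((grp 24 EG) ⊓ Subgroup.centralizer {Net.toPerm 24 p_g137}) = 64 :=
  card_cent nt_c6_sym nt_c6_cnt nt_c6_ge

theorem nt_c6_ord : orderOf (Net.toPerm 24 p_g137) = 4 :=
  orderOf_net p_hn p_hk p_g137_ok (by decide) (ps := [2]) (by set_option linter.unusedSimpArgs false in simp [Nat.primeFactorsList_ofNat]) (by decide +kernel)

theorem p_le154 : grp 24 nt_c7_K ≤ grp 24 N_E0 :=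
  grp_le_of_memB p_hn p_hk N_E0_ok nt_c7_K_ok (ws := [nat_lit 0x2917130e120801, nat_lit 0x1f2d112b1018080801, nat_lit 0x1f21170d140a, nat_lit 0x2311110e091401]) (by decide +kernel)

theorem nt_c7_le : grp 24 nt_c7_K ≤ (grp 24 EG) :=
  (p_le154.trans T_s0.le)

theorem nt_c7_mem : Net.toPerm 24 p_g150 ∈ (grp 24 EG) :=
  nt_c7_le (toPerm_mem_grp (E := nt_c7_K) (List.Mem.head _))

theorem nt_c7_sym : Sym 24 (grp 24 EG) [p_g150] nt_c7_K 0 :=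
  Sym.of_lab p_hn p_hk (okE_cons.2 ⟨p_g150_ok, okE_nil _⟩) nt_c7_K_ok nt_c7_le (kT := 0) (by decide +kernel)

theorem p_le156 : grp 24 p_V155 ≤ grp 24 p_V128 :=
  grp_le_of_memB p_hn p_hk p_V128_ok p_V155_ok (ws := []) (by decide +kernel)

theorem T_s19 : Stab 24 (grp 24 EG) [nat_lit 12, nat_lit 13, nat_lit 3, nat_lit 9, nat_lit 6, nat_lit 8] p_V155 1 :=
  Stab.step (k := 5) (L := (lab 24 5)) p_hn T_s14 p_V155_ok p_le156 (c := Ch.nil) (by decide +kernel)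

noncomputable def T_s19_O : ℕ := (nat_lit 0x933332e0f83ec67318b26d92000100000040000200000008002000001000)

theorem T_s19_F : Frame 24 (grp 24 EG) 6 10 T_s19_O 1 1 :=
  IsBase.frame T_s19.isBase (by decide +kernel)

noncomputable def nt_c7_cnt_L : List ℕ := [0, 1, T_s0_O, 0, 0, 5, 15, T_s14_O, 0, 0, 6, 10, T_s19_O, 1, 0]

theorem nt_c7_cnt_P : Prob 24 5 (grp 24 EG) nt_c7_cnt_EG [p_g150] [p_g150] nt_c7_K nt_c7_cnt_L 0 0 :=
  Sym.prob p_hn p_hk nt_c7_sym nt_c7_cnt_EG_ok (grp_cons_le p_g82_T (grp_cons_le p_g83_T (grp_cons_le p_g81_T (grp_cons_le p_g80_T (grp_cons_le p_g79_T (grp_cons_le p_g22_T (grp_cons_le p_g1_T (grp_cons_le p_g2_T (grp_cons_le p_g29_T (grp_cons_le p_g25_T (grp_cons_le p_g26_T (grp_cons_le p_g36_T (grp_cons_le p_g32_T (grp_cons_le p_g42_T (grp_cons_le p_g33_T (grp_cons_le p_g39_T (grp_cons_le p_g50_T (grp_cons_le p_g45_T (grp_cons_le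 p_g46_T (grp_cons_le p_g47_T (grp_cons_le p_g59_T (grp_cons_le p_g60_T (grp_cons_le p_g61_T (grp_cons_le p_g62_T (grp_cons_le p_g53_T (grp_cons_le p_g54_T (grp_cons_le p_g55_T (grp_cons_le p_g56_T (grp_cons_le p_g127_T (grp_nil_le _)))))))))))))))))))))))))))))) (Frames.cons T_s0_F (Frames.cons T_s14_F (Frames.cons T_s19_F Frames.nil))) (okE_cons.2 ⟨p_g150_ok, okE_nil _⟩) _

noncomputable def nt_c7_cnt_t : BT := (BT.fix (nat_lit 257) (BT.frm (nat_lit 0) (nat_lit 0) (nat_lit 0) [] (BT.pln (nat_lit 0) (nat_lit 0) (BT.dif (nat_lit 2) (nat_lit 0) (BT.fix (nat_lit 1) (BT.dif (nat_lit 1) (nat_lit 0) (BT.br (nat_lit 0) (nat_lit 13) [nat_lit 1] (BT.kid (nat_lit 13) (nat_lit 32) (BT.dif (nat_lit 9) (nat_lit 6) (BT.br (nat_lit 0) (nat_lit 19) [nat_lit 3, nat_lit 5] (BT.kid (nat_lit 19) (nat_lit 2) (BT.img (nat_lit 1) (nat_lit 0) (BT.img (nat_lit 1) (nat_lit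 0) (BT.img (nat_lit 1) (nat_lit 0) (BT.dif (nat_lit 6) (nat_lit 5) (BT.frm (nat_lit 1) (nat_lit 0x20503050808060908082b) (nat_lit 0x20503050808060908082b) [nat_lit 1, nat_lit 3, nat_lit 4, nat_lit 0, nat_lit 6] (BT.pln (nat_lit 0) (nat_lit 9) (BT.and (nat_lit 7) (nat_lit 0) (BT.br (nat_lit 0) (nat_lit 14) [nat_lit 7] (BT.kid (nat_lit 14) (nat_lit 1) (BT.one (nat_lit 2) (nat_lit 0x39020503050808060908082b) (nat_lit 0x39020503050808060908082b) [nat_lit 0, nat_lit 5, nat_lit 7, nat_lit 8, nat_lit 4, nat_lit 10]) BT.nil))))))))) BT.nil))) BT.nil))))))))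

theorem nt_c7_cnt : Cnt 24 (grp 24 EG) [p_g150] [p_g150] 0 0 0 0 64 :=
  BT.sound nt_c7_cnt_P Known.nil (t := nt_c7_cnt_t) (d := 0) (by decide +kernel)

theorem nt_c7_ge : 64 ≤ Nat.card (grp 24 nt_c7_K) :=
  Ch.le_card_grp (k := 5) (L := (lab 24 5)) p_hn nt_c7_K_ok (c := (Ch.cons (nat_lit 13) [nat_lit 1] (Ch.cons (nat_lit 19) [nat_lit 3, nat_lit 5] (Ch.cons (nat_lit 14) [nat_lit 7] Ch.nil)))) (by decide +kernel)

theorem nt_c7_eq : (grp 24 EG) ⊓ Subgroup.centralizer {Net.toPerm 24 p_g150} = grp 24 nt_c7_K :=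
  cent_eq nt_c7_sym nt_c7_cnt nt_c7_ge

theorem nt_c7_card : Nat.card ↥((grp 24 EG) ⊓ Subgroup.centralizer {Net.toPerm 24 p_g150}) = 64 :=
  card_cent nt_c7_sym nt_c7_cnt nt_c7_ge

theorem nt_c7_ord : orderOf (Net.toPerm 24 p_g150) = 4 :=
  orderOf_net p_hn p_hk p_g150_ok (by decide) (ps := [2]) (by set_option linter.unusedSimpArgs false in simp [Nat.primeFactorsList_ofNat]) (by decide +kernel)

theorem p_le161 : grp 24 nt_c8_K ≤ grp 24 N_E0 :=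
  grp_le_of_memB p_hn p_hk N_E0_ok nt_c8_K_ok (ws := [nat_lit 0x1f18111e101808, nat_lit 0x1f231711290d13070701, nat_lit 0x2511140d120901, nat_lit 0x1f2d181111180e1c0a01]) (by decide +kernel)

theorem nt_c8_le : grp 24 nt_c8_K ≤ (grp 24 EG) :=
  (p_le161.trans T_s0.le)

theorem nt_c8_mem : Net.toPerm 24 p_g157 ∈ (grp 24 EG) :=
  nt_c8_le (toPerm_mem_grp (E := nt_c8_K) (List.Mem.head _))

theorem nt_c8_sym : Sym 24 (grp 24 EG) [p_g157] nt_c8_K 0 :=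
  Sym.of_lab p_hn p_hk (okE_cons.2 ⟨p_g157_ok, okE_nil _⟩) nt_c8_K_ok nt_c8_le (kT := 0) (by decide +kernel)

noncomputable def nt_c8_cnt_L : List ℕ := [0, 1, T_s0_O, 0, 0, 5, 15, T_s17_O, 0, 0, 6, 10, T_s18_O, 1, 0]

theorem nt_c8_cnt_P : Prob 24 5 (grp 24 EG) nt_c8_cnt_EG [p_g157] [p_g157] nt_c8_K nt_c8_cnt_L 0 0 :=
  Sym.prob p_hn p_hk nt_c8_sym nt_c8_cnt_EG_ok (grp_cons_le p_g143_T (grp_cons_le p_g144_T (grp_cons_le p_g145_T (grp_cons_le p_g81_T (grp_cons_le p_g82_T (grp_cons_le p_g83_T (grp_cons_le p_g80_T (grp_cons_le p_g79_T (grp_cons_le p_g22_T (grp_cons_le p_g1_T (grp_cons_le p_g2_T (grp_cons_le p_g29_T (grp_cons_le p_g25_T (grp_cons_le p_g26_T (grp_cons_le p_g36_T (grp_cons_le p_g32_T (grp_cons_le p_g42_T (grp_cons_le p_g33_T (grp_cons_le p_g39_T (grp_cons_le p_g50_T (grp_cons_le p_g45_T (grp_cons_le p_g46_T (grp_cons_le p_g47_T (grp_cons_le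 p_g59_T (grp_cons_le p_g60_T (grp_cons_le p_g61_T (grp_cons_le p_g62_T (grp_cons_le p_g53_T (grp_cons_le p_g54_T (grp_cons_le p_g55_T (grp_cons_le p_g56_T (grp_nil_le _)))))))))))))))))))))))))))))))) (Frames.cons T_s0_F (Frames.cons T_s17_F (Frames.cons T_s18_F Frames.nil))) (okE_cons.2 ⟨p_g157_ok, okE_nil _⟩) _

noncomputable def nt_c8_cnt_t : BT := (BT.fix (nat_lit 257) (BT.fix (nat_lit 1) (BT.dif (nat_lit 1) (nat_lit 0) (BT.br (nat_lit 0) (nat_lit 21) [nat_lit 1, nat_lit 3] (BT.kid (nat_lit 21) (nat_lit 8) (BT.dif (nat_lit 1) (nat_lit 0) (BT.img (nat_lit 1) (nat_lit 1) (BT.dif (nat_lit 1) (nat_lit 0) (BT.br (nat_lit 0) (nat_lit 9) [] (BT.dead (nat_lit 20) (BT.dif (nat_lit 10) (nat_lit 7) (BT.br (nat_lit 0) (nat_lit 17) [nat_lit 5, nat_lit 7] (BT.dead (nat_lit 3) (BT.frm (nat_lit 0) (nat_lit 0) (nat_lit 0) [] (BT.pln (nat_lit 0) (nat_lit 0) (BT.dif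 (nat_lit 11) (nat_lit 0) (BT.dif (nat_lit 0) (nat_lit 9) (BT.dif (nat_lit 0) (nat_lit 6) (BT.dif (nat_lit 0) (nat_lit 13) (BT.dif (nat_lit 0) (nat_lit 10) (BT.frm (nat_lit 1) (nat_lit 0x3080e08100d0f1c) (nat_lit 0x10103070e07100d0f1c) [nat_lit 7, nat_lit 0, nat_lit 9, nat_lit 11, nat_lit 13] (BT.pln (nat_lit 0) (nat_lit 5) (BT.img (nat_lit 1) (nat_lit 9) (BT.and (nat_lit 1) (nat_lit 0) (BT.cnt (nat_lit 0))))))))))))) (BT.dead (nat_lit 17) (BT.frm (nat_lit 0) (nat_lit 0) (nat_lit 0) [] (BT.pln (nat_lit 0) (nat_lit 0) (BT.dif (nat_lit 11) (nat_lit 0) (BT.dif (nat_lit 0) (nat_lit 9) (BT.dif (nat_lit 0) (nat_lit 6) (BT.dif (nat_lit 0) (nat_lit 13) (BT.dif (nat_lit 0) (nat_lit 10) (BT.frm (nat_lit 1) (nat_lit 0x3080e08100d0f1c) (nat_lit 0x104070e07100d0f1c) [nat_lit 7, nat_lit 0, nat_lit 9, nat_lit 11, nat_lit 13] (BT.pln (nat_lit 0) (nat_lit 5) (BT.img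 (nat_lit 1) (nat_lit 9) (BT.img (nat_lit 1) (nat_lit 0) (BT.img (nat_lit 1) (nat_lit 0) (BT.and (nat_lit 3) (nat_lit 0) (BT.cnt (nat_lit 0))))))))))))))) BT.nil)))) (BT.kid (nat_lit 9) (nat_lit 8) (BT.dif (nat_lit 10) (nat_lit 7) (BT.br (nat_lit 0) (nat_lit 17) [nat_lit 5, nat_lit 7] (BT.dead (nat_lit 3) (BT.frm (nat_lit 0) (nat_lit 0) (nat_lit 0) [] (BT.pln (nat_lit 0) (nat_lit 0) (BT.dif (nat_lit 11) (nat_lit 0) (BT.dif (nat_lit 0) (nat_lit 9) (BT.dif (nat_lit 0) (nat_lit 6) (BT.dif (nat_lit 0) (nat_lit 13) (BT.dif (nat_lit 0) (nat_lit 10) (BT.frm (nat_lit 1) (nat_lit 0x3080e08100d0f1c) (nat_lit 0x104080e08100d0f1c) [nat_lit 7, nat_lit 0, nat_lit 9, nat_lit 11, nat_lit 13] (BT.pln (nat_lit 0) (nat_lit 6) (BT.img (nat_lit 1) (nat_lit 9) (BT.and (nat_lit 1) (nat_lit 0) (BT.cnt (nat_lit 0))))))))))))) (BT.kid (nat_lit 17) (nat_lit 1) (BT.frm (nat_lit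 0) (nat_lit 0) (nat_lit 0) [] (BT.pln (nat_lit 0) (nat_lit 0) (BT.dif (nat_lit 11) (nat_lit 0) (BT.dif (nat_lit 0) (nat_lit 9) (BT.dif (nat_lit 0) (nat_lit 6) (BT.dif (nat_lit 0) (nat_lit 13) (BT.dif (nat_lit 0) (nat_lit 10) (BT.frm (nat_lit 1) (nat_lit 0x3080e08100d0f1c) (nat_lit 0x3080e08100d0f1c) [nat_lit 7, nat_lit 0, nat_lit 9, nat_lit 11, nat_lit 13] (BT.pln (nat_lit 0) (nat_lit 11) (BT.pln (nat_lit 1) (nat_lit 9) (BT.img (nat_lit 1) (nat_lit 1) (BT.dif (nat_lit 1) (nat_lit 0) (BT.img (nat_lit 1) (nat_lit 0) (BT.and (nat_lit 4) (nat_lit 0) (BT.one (nat_lit 2) (nat_lit 0x3080e08100d0f1c) (nat_lit 0x3080e08100d0f1c) [nat_lit 0, nat_lit 14, nat_lit 7, nat_lit 16, nat_lit 18, nat_lit 20]))))))))))))))) BT.nil)))) BT.nil)))))) BT.nil)))))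

theorem nt_c8_cnt : Cnt 24 (grp 24 EG) [p_g157] [p_g157] 0 0 0 0 32 :=
  BT.sound nt_c8_cnt_P Known.nil (t := nt_c8_cnt_t) (d := 0) (by decide +kernel)

theorem nt_c8_ge : 32 ≤ Nat.card (grp 24 nt_c8_K) :=
  Ch.le_card_grp (k := 5) (L := (lab 24 5)) p_hn nt_c8_K_ok (c := (Ch.cons (nat_lit 21) [nat_lit 1, nat_lit 3] (Ch.cons (nat_lit 17) [nat_lit 5, nat_lit 7] Ch.nil))) (by decide +kernel)

theorem nt_c8_eq : (grp 24 EG) ⊓ Subgroup.centralizer {Net.toPerm 24 p_g157} = grp 24 nt_c8_K :=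
  cent_eq nt_c8_sym nt_c8_cnt nt_c8_ge

theorem nt_c8_card : Nat.card ↥((grp 24 EG) ⊓ Subgroup.centralizer {Net.toPerm 24 p_g157}) = 32 :=
  card_cent nt_c8_sym nt_c8_cnt nt_c8_ge

theorem nt_c8_ord : orderOf (Net.toPerm 24 p_g157) = 4 :=
  orderOf_net p_hn p_hk p_g157_ok (by decide) (ps := [2]) (by set_option linter.unusedSimpArgs false in simp [Nat.primeFactorsList_ofNat]) (by decide +kernel)

theorem p_le164 : grp 24 nt_c9_K ≤ grp 24 N_E0 :=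
  grp_le_of_memB p_hn p_hk N_E0_ok nt_c9_K_ok (ws := [nat_lit 0x29181401, nat_lit 0x1f2b120e1b080e]) (by decide +kernel)

theorem nt_c9_le : grp 24 nt_c9_K ≤ (grp 24 EG) :=
  (p_le164.trans T_s0.le)

theorem nt_c9_mem : Net.toPerm 24 p_g162 ∈ (grp 24 EG) :=
  nt_c9_le (toPerm_mem_grp (E := nt_c9_K) (List.Mem.tail _ (List.Mem.head _)))

theorem nt_c9_sym : Sym 24 (grp 24 EG) [p_g162] nt_c9_K 0 :=
  Sym.of_lab p_hn p_hk (okE_cons.2 ⟨p_g162_ok, okE_nil _⟩) nt_c9_K_ok nt_c9_le (kT := 0) (by decide +kernel)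

noncomputable def nt_c9_cnt_L : List ℕ := [0, 1, T_s0_O, 0, 0, 4, 9, T_s4_O, 0, 0, 5, 9, T_s5_O, 1, 0]

theorem nt_c9_cnt_P : Prob 24 5 (grp 24 EG) nt_c9_cnt_EG [p_g162] [p_g162] nt_c9_K nt_c9_cnt_L 0 0 :=
  Sym.prob p_hn p_hk nt_c9_sym nt_c9_cnt_EG_ok (grp_cons_le p_g81_T (grp_cons_le p_g82_T (grp_cons_le p_g83_T (grp_cons_le p_g80_T (grp_cons_le p_g79_T (grp_cons_le p_g22_T (grp_cons_le p_g1_T (grp_cons_le p_g2_T (grp_cons_le p_g29_T (grp_cons_le p_g25_T (grp_cons_le p_g26_T (grp_cons_le p_g36_T (grp_cons_le p_g32_T (grp_cons_le p_g42_T (grp_cons_le p_g33_T (grp_cons_le p_g39_T (grp_cons_le p_g50_T (grp_cons_le p_g45_T (grp_cons_le p_g46_T (grp_cons_le p_g47_T (grp_cons_le p_g59_T (grp_cons_le p_g60_T (grp_cons_le p_g61_T (grp_cons_le p_g62_T (grp_cons_le p_g53_T (grp_cons_le p_g54_T (grp_cons_le p_g55_T (grp_cons_le p_g56_T (grp_nil_le _)))))))))))))))))))))))))))))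 (Frames.cons T_s0_F (Frames.cons T_s4_F (Frames.cons T_s5_F Frames.nil))) (okE_cons.2 ⟨p_g162_ok, okE_nil _⟩) _

noncomputable def nt_c9_cnt_t : BT := (BT.fix (nat_lit 1) (BT.frm (nat_lit 0) (nat_lit 0) (nat_lit 0) [] (BT.pln (nat_lit 0) (nat_lit 0) (BT.dif (nat_lit 2) (nat_lit 0) (BT.br (nat_lit 0) (nat_lit 6) [nat_lit 1] (BT.kid (nat_lit 6) (nat_lit 5) (BT.dif (nat_lit 7) (nat_lit 4) (BT.br (nat_lit 0) (nat_lit 20) [nat_lit 3] (BT.dead (nat_lit 4) (BT.img (nat_lit 1) (nat_lit 0) (BT.img (nat_lit 1) (nat_lit 0) (BT.dif (nat_lit 5) (nat_lit 4) (BT.frm (nat_lit 2) (nat_lit 0x3020707030a0b) (nat_lit 0x10305010808030a0b) [nat_lit 1, nat_lit 2, nat_lit 3, nat_lit 0, nat_lit 5] (BT.pln (nat_lit 0) (nat_lit 5) (BT.img (nat_lit 1) (nat_lit 3) (BT.and (nat_lit 1) (nat_lit 0) (BT.cnt (nat_lit 0))))))))) (BT.dead (nat_lit 22) (BT.img (nat_lit 1) (nat_lit 0)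 (BT.dif (nat_lit 4) (nat_lit 3) (BT.frm (nat_lit 1) (nat_lit 0x20707030a0b) (nat_lit 0x205010308020a0b) [nat_lit 1, nat_lit 2, nat_lit 0, nat_lit 4] (BT.pln (nat_lit 0) (nat_lit 6) (BT.img (nat_lit 1) (nat_lit 3) (BT.and (nat_lit 1) (nat_lit 0) (BT.cnt (nat_lit 0)))))))) (BT.dead (nat_lit 1) (BT.img (nat_lit 1) (nat_lit 0) (BT.dif (nat_lit 4) (nat_lit 3) (BT.frm (nat_lit 1) (nat_lit 0x20707030a0b) (nat_lit 0x20704080a0b) [nat_lit 1, nat_lit 2, nat_lit 0, nat_lit 4] (BT.pln (nat_lit 0) (nat_lit 5) (BT.img (nat_lit 1) (nat_lit 3) (BT.and (nat_lit 1) (nat_lit 0) (BT.cnt (nat_lit 0)))))))) (BT.kid (nat_lit 20) (nat_lit 1) (BT.img (nat_lit 1) (nat_lit 0) (BT.img (nat_lit 1) (nat_lit 0) (BT.dif (nat_lit 5) (nat_lit 4) (BT.one (nat_lit 2) (nat_lit 0x3020707030a0b) (nat_lit 0x3020707030a0b) [nat_lit 1, nat_lit 2, nat_lit 3, nat_lit 0, nat_lit 5])))) BT.nil))))))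 BT.nil))))))

theorem nt_c9_cnt : Cnt 24 (grp 24 EG) [p_g162] [p_g162] 0 0 0 0 10 :=
  BT.sound nt_c9_cnt_P Known.nil (t := nt_c9_cnt_t) (d := 0) (by decide +kernel)

theorem nt_c9_ge : 10 ≤ Nat.card (grp 24 nt_c9_K) :=
  Ch.le_card_grp (k := 5) (L := (lab 24 5)) p_hn nt_c9_K_ok (c := (Ch.cons (nat_lit 6) [nat_lit 1] (Ch.cons (nat_lit 20) [nat_lit 3] Ch.nil))) (by decide +kernel)

theorem nt_c9_eq : (grp 24 EG) ⊓ Subgroup.centralizer {Net.toPerm 24 p_g162} = grp 24 nt_c9_K :=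
  cent_eq nt_c9_sym nt_c9_cnt nt_c9_ge

theorem nt_c9_card : Nat.card ↥((grp 24 EG) ⊓ Subgroup.centralizer {Net.toPerm 24 p_g162}) = 10 :=
  card_cent nt_c9_sym nt_c9_cnt nt_c9_ge

theorem nt_c9_ord : orderOf (Net.toPerm 24 p_g162) = 5 :=
  orderOf_net p_hn p_hk p_g162_ok (by decide) (ps := [5]) (by set_option linter.unusedSimpArgs false in simp [Nat.primeFactorsList_ofNat]) (by decide +kernel)

theorem p_le168 : grp 24 nt_c10_K ≤ grp 24 N_E0 :=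
  grp_le_of_memB p_hn p_hk N_E0_ok nt_c10_K_ok (ws := [nat_lit 0x1f25111b0e1c070d, nat_lit 0x1f2718130e1f0a01, nat_lit 0x1f271712180f1301]) (by decide +kernel)

theorem nt_c10_le : grp 24 nt_c10_K ≤ (grp 24 EG) :=
  (p_le168.trans T_s0.le)

theorem nt_c10_mem : Net.toPerm 24 p_g165 ∈ (grp 24 EG) :=
  nt_c10_le (toPerm_mem_grp (E := nt_c10_K) (List.Mem.head _))

theorem nt_c10_sym : Sym 24 (grp 24 EG) [p_g165] nt_c10_K 0 :=
  Sym.of_lab p_hn p_hk (okE_cons.2 ⟨p_g165_ok, okE_nil _⟩) nt_c10_K_ok nt_c10_le (kT := 0) (by decide +kernel)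

noncomputable def nt_c10_cnt_L : List ℕ := [0, 1, T_s0_O, 0, 0, 5, 15, T_s14_O, 0, 0, 6, 10, T_s15_O, 1, 0]

theorem nt_c10_cnt_P : Prob 24 5 (grp 24 EG) nt_c10_cnt_EG [p_g165] [p_g165] nt_c10_K nt_c10_cnt_L 0 0 :=
  Sym.prob p_hn p_hk nt_c10_sym nt_c10_cnt_EG_ok (grp_cons_le p_g82_T (grp_cons_le p_g83_T (grp_cons_le p_g81_T (grp_cons_le p_g80_T (grp_cons_le p_g79_T (grp_cons_le p_g22_T (grp_cons_le p_g1_T (grp_cons_le p_g2_T (grp_cons_le p_g29_T (grp_cons_le p_g25_T (grp_cons_le p_g26_T (grp_cons_le p_g36_T (grp_cons_le p_g32_T (grp_cons_le p_g42_T (grp_cons_le p_g33_T (grp_cons_le p_g39_T (grp_cons_le p_g50_T (grp_cons_le p_g45_T (grp_cons_le p_g46_T (grp_cons_le p_g47_T (grp_cons_le p_g59_T (grp_cons_le p_g60_T (grp_cons_le p_g61_T (grp_cons_le p_g62_T (grp_cons_le p_g53_T (grp_cons_le p_g54_T (grp_cons_le p_g55_T (grp_cons_le p_g56_T (grp_cons_le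 p_g127_T (grp_nil_le _)))))))))))))))))))))))))))))) (Frames.cons T_s0_F (Frames.cons T_s14_F (Frames.cons T_s15_F Frames.nil))) (okE_cons.2 ⟨p_g165_ok, okE_nil _⟩) _

noncomputable def nt_c10_cnt_t : BT := (BT.frm (nat_lit 0) (nat_lit 0) (nat_lit 0) [] (BT.pln (nat_lit 0) (nat_lit 0) (BT.dif (nat_lit 4) (nat_lit 0) (BT.fix (nat_lit 65793) (BT.dif (nat_lit 1) (nat_lit 0) (BT.fix (nat_lit 257) (BT.dif (nat_lit 1) (nat_lit 0) (BT.br (nat_lit 0) (nat_lit 22) [nat_lit 1, nat_lit 3] (BT.kid (nat_lit 22) (nat_lit 2) (BT.dif (nat_lit 10) (nat_lit 4) (BT.dif (nat_lit 0) (nat_lit 3) (BT.img (nat_lit 1) (nat_lit 2) (BT.img (nat_lit 1) (nat_lit 0) (BT.img (nat_lit 1) (nat_lit 0) (BT.img (nat_lit 1) (nat_lit 0) (BT.frm (nat_lit 1) (nat_lit 0x2050306070b1b) (nat_lit 0x2050306070b1b) [nat_lit 0, nat_lit 1, nat_lit 2, nat_lit 3, nat_lit 6] (BT.pln (nat_lit 0) (nat_lit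 11) (BT.and (nat_lit 6) (nat_lit 0) (BT.br (nat_lit 0) (nat_lit 18) [nat_lit 5] (BT.kid (nat_lit 18) (nat_lit 1) (BT.one (nat_lit 2) (nat_lit 0x2050306070b1b) (nat_lit 0x2050306070b1b) [nat_lit 0, nat_lit 4, nat_lit 5, nat_lit 6, nat_lit 7, nat_lit 10]) BT.nil))))))))))) BT.nil)))))))))

theorem nt_c10_cnt : Cnt 24 (grp 24 EG) [p_g165] [p_g165] 0 0 0 0 24 :=
  BT.sound nt_c10_cnt_P Known.nil (t := nt_c10_cnt_t) (d := 0) (by decide +kernel)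

theorem nt_c10_ge : 24 ≤ Nat.card (grp 24 nt_c10_K) :=
  Ch.le_card_grp (k := 5) (L := (lab 24 5)) p_hn nt_c10_K_ok (c := (Ch.cons (nat_lit 22) [nat_lit 1, nat_lit 3] (Ch.cons (nat_lit 18) [nat_lit 5] Ch.nil))) (by decide +kernel)

theorem nt_c10_eq : (grp 24 EG) ⊓ Subgroup.centralizer {Net.toPerm 24 p_g165} = grp 24 nt_c10_K :=
  cent_eq nt_c10_sym nt_c10_cnt nt_c10_ge

theorem nt_c10_card : Nat.card ↥((grp 24 EG) ⊓ Subgroup.centralizer {Net.toPerm 24 p_g165}) = 24 :=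
  card_cent nt_c10_sym nt_c10_cnt nt_c10_ge

theorem nt_c10_ord : orderOf (Net.toPerm 24 p_g165) = 6 :=
  orderOf_net p_hn p_hk p_g165_ok (by decide) (ps := [2, 3]) (by set_option linter.unusedSimpArgs false in simp [Nat.primeFactorsList_ofNat]) (by decide +kernel)

theorem p_le171 : grp 24 nt_c11_K ≤ grp 24 N_E0 :=
  grp_le_of_memB p_hn p_hk N_E0_ok nt_c11_K_ok (ws := [nat_lit 0x1f231713210e25092501, nat_lit 0x11110d12080a01]) (by decide +kernel)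

theorem nt_c11_le : grp 24 nt_c11_K ≤ (grp 24 EG) :=
  (p_le171.trans T_s0.le)

theorem nt_c11_mem : Net.toPerm 24 p_g169 ∈ (grp 24 EG) :=
  nt_c11_le (toPerm_mem_grp (E := nt_c11_K) (List.Mem.head _))

theorem nt_c11_sym : Sym 24 (grp 24 EG) [p_g169] nt_c11_K 0 :=
  Sym.of_lab p_hn p_hk (okE_cons.2 ⟨p_g169_ok, okE_nil _⟩) nt_c11_K_ok nt_c11_le (kT := 0) (by decide +kernel)

noncomputable def nt_c11_cnt_L : List ℕ := [0, 1, T_s0_O, 0, 0, 4, 9, T_s4_O, 0, 0, 5, 9, T_s5_O, 1, 0]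

theorem nt_c11_cnt_P : Prob 24 5 (grp 24 EG) nt_c11_cnt_EG [p_g169] [p_g169] nt_c11_K nt_c11_cnt_L 0 0 :=
  Sym.prob p_hn p_hk nt_c11_sym nt_c11_cnt_EG_ok (grp_cons_le p_g81_T (grp_cons_le p_g82_T (grp_cons_le p_g83_T (grp_cons_le p_g80_T (grp_cons_le p_g79_T (grp_cons_le p_g22_T (grp_cons_le p_g1_T (grp_cons_le p_g2_T (grp_cons_le p_g29_T (grp_cons_le p_g25_T (grp_cons_le p_g26_T (grp_cons_le p_g36_T (grp_cons_le p_g32_T (grp_cons_le p_g42_T (grp_cons_le p_g33_T (grp_cons_le p_g39_T (grp_cons_le p_g50_T (grp_cons_le p_g45_T (grp_cons_le p_g46_T (grp_cons_le p_g47_T (grp_cons_le p_g59_T (grp_cons_le p_g60_T (grp_cons_le p_g61_T (grp_cons_le p_g62_T (grp_cons_le p_g53_T (grp_cons_le p_g54_T (grp_cons_le p_g55_T (grp_cons_le p_g56_T (grp_nil_le _))))))))))))))))))))))))))))) (Frames.cons T_s0_F (Frames.cons T_s4_F (Frames.cons T_s5_F Frames.nil)))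 (okE_cons.2 ⟨p_g169_ok, okE_nil _⟩) _

noncomputable def nt_c11_cnt_t : BT := (BT.fix (nat_lit 257) (BT.frm (nat_lit 0) (nat_lit 0) (nat_lit 0) [] (BT.pln (nat_lit 0) (nat_lit 0) (BT.dif (nat_lit 2) (nat_lit 0) (BT.fix (nat_lit 1) (BT.dif (nat_lit 1) (nat_lit 0) (BT.br (nat_lit 0) (nat_lit 10) [nat_lit 1] (BT.kid (nat_lit 10) (nat_lit 6) (BT.dif (nat_lit 9) (nat_lit 6) (BT.fix (nat_lit 65793) (BT.dif (nat_lit 1) (nat_lit 0) (BT.br (nat_lit 0) (nat_lit 21) [nat_lit 3] (BT.dead (nat_lit 22) (BT.img (nat_lit 1) (nat_lit 0) (BT.dif (nat_lit 8) (nat_lit 5) (BT.dif (nat_lit 0) (nat_lit 8) (BT.frm (nat_lit 1) (nat_lit 0x1050204070109031c) (nat_lit 0x20502070409031c) [nat_lit 2, nat_lit 3, nat_lit 0, nat_lit 7] (BT.pln (nat_lit 0) (nat_lit 5) (BT.and (nat_lit 0) (nat_lit 11) (BT.cnt (nat_lit 0)))))))) (BT.dead (nat_lit 17) (BT.img (nat_lit 1) (nat_lit 0)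 (BT.dif (nat_lit 8) (nat_lit 5) (BT.dif (nat_lit 0) (nat_lit 8) (BT.frm (nat_lit 1) (nat_lit 0x1050204070109031c) (nat_lit 0x20507070209031c) [nat_lit 2, nat_lit 3, nat_lit 0, nat_lit 7] (BT.pln (nat_lit 0) (nat_lit 5) (BT.and (nat_lit 0) (nat_lit 11) (BT.cnt (nat_lit 0)))))))) (BT.kid (nat_lit 21) (nat_lit 1) (BT.img (nat_lit 1) (nat_lit 0) (BT.img (nat_lit 1) (nat_lit 0) (BT.dif (nat_lit 9) (nat_lit 6) (BT.dif (nat_lit 0) (nat_lit 9) (BT.one (nat_lit 2) (nat_lit 0x30501050204070109031c) (nat_lit 0x30501050204070109031c) [nat_lit 2, nat_lit 3, nat_lit 4, nat_lit 0, nat_lit 8]))))) BT.nil))))))) BT.nil))))))))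

theorem nt_c11_cnt : Cnt 24 (grp 24 EG) [p_g169] [p_g169] 0 0 0 0 12 :=
  BT.sound nt_c11_cnt_P Known.nil (t := nt_c11_cnt_t) (d := 0) (by decide +kernel)

theorem nt_c11_ge : 12 ≤ Nat.card (grp 24 nt_c11_K) :=
  Ch.le_card_grp (k := 5) (L := (lab 24 5)) p_hn nt_c11_K_ok (c := (Ch.cons (nat_lit 10) [nat_lit 1] (Ch.cons (nat_lit 21) [nat_lit 3] Ch.nil))) (by decide +kernel)

theorem nt_c11_eq : (grp 24 EG) ⊓ Subgroup.centralizer {Net.toPerm 24 p_g169} = grp 24 nt_c11_K :=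
  cent_eq nt_c11_sym nt_c11_cnt nt_c11_ge

theorem nt_c11_card : Nat.card ↥((grp 24 EG) ⊓ Subgroup.centralizer {Net.toPerm 24 p_g169}) = 12 :=
  card_cent nt_c11_sym nt_c11_cnt nt_c11_ge

theorem nt_c11_ord : orderOf (Net.toPerm 24 p_g169) = 6 :=
  orderOf_net p_hn p_hk p_g169_ok (by decide) (ps := [2, 3]) (by set_option linter.unusedSimpArgs false in simp [Nat.primeFactorsList_ofNat]) (by decide +kernel)

theorem p_le173 : grp 24 nt_c12_K ≤ grp 24 N_E0 :=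
  grp_le_of_memB p_hn p_hk N_E0_ok nt_c12_K_ok (ws := [nat_lit 0x210f090b, nat_lit 0x2717140d0d080a01]) (by decide +kernel)

theorem nt_c12_le : grp 24 nt_c12_K ≤ (grp 24 EG) :=
  (p_le173.trans T_s0.le)

theorem nt_c12_mem : Net.toPerm 24 p_g172 ∈ (grp 24 EG) :=
  nt_c12_le (toPerm_mem_grp (E := nt_c12_K) (List.Mem.head _))

theorem nt_c12_sym : Sym 24 (grp 24 EG) [p_g172] nt_c12_K 0 :=
  Sym.of_lab p_hn p_hk (okE_cons.2 ⟨p_g172_ok, okE_nil _⟩) nt_c12_K_ok nt_c12_le (kT := 0) (by decide +kernel)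

noncomputable def nt_c12_cnt_L : List ℕ := [0, 1, T_s0_O, 0, 0, 4, 9, T_s4_O, 0, 0, 5, 15, T_s14_O, 0, 0, 6, 10, T_s15_O, 1, 0]

theorem nt_c12_cnt_P : Prob 24 5 (grp 24 EG) nt_c12_cnt_EG [p_g172] [p_g172] nt_c12_K nt_c12_cnt_L 0 0 :=
  Sym.prob p_hn p_hk nt_c12_sym nt_c12_cnt_EG_ok (grp_cons_le p_g81_T (grp_cons_le p_g82_T (grp_cons_le p_g83_T (grp_cons_le p_g80_T (grp_cons_le p_g79_T (grp_cons_le p_g22_T (grp_cons_le p_g1_T (grp_cons_le p_g2_T (grp_cons_le p_g29_T (grp_cons_le p_g25_T (grp_cons_le p_g26_T (grp_cons_le p_g36_T (grp_cons_le p_g32_T (grp_cons_le p_g42_T (grp_cons_le p_g33_T (grp_cons_le p_g39_T (grp_cons_le p_g50_T (grp_cons_le p_g45_T (grp_cons_le p_g46_T (grp_cons_le p_g47_T (grp_cons_le p_g59_T (grp_cons_le p_g60_T (grp_cons_le p_g61_T (grp_cons_le p_g62_T (grp_cons_le p_g53_T (grp_cons_le p_g54_T (grp_cons_le p_g55_T (grp_cons_le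 p_g56_T (grp_cons_le p_g127_T (grp_nil_le _)))))))))))))))))))))))))))))) (Frames.cons T_s0_F (Frames.cons T_s4_F (Frames.cons T_s14_F (Frames.cons T_s15_F Frames.nil)))) (okE_cons.2 ⟨p_g172_ok, okE_nil _⟩) _

noncomputable def nt_c12_cnt_t : BT := (BT.fix (nat_lit 1) (BT.dif (nat_lit 3) (nat_lit 0) (BT.br (nat_lit 0) (nat_lit 21) [nat_lit 1, nat_lit 3] (BT.dead (nat_lit 1) (BT.img (nat_lit 1) (nat_lit 0) (BT.img (nat_lit 1) (nat_lit 0) (BT.frm (nat_lit 0) (nat_lit 0) (nat_lit 0) [] (BT.pln (nat_lit 0) (nat_lit 0) (BT.dif (nat_lit 6) (nat_lit 0) (BT.frm (nat_lit 1) (nat_lit 0x205010307070209010b0e) (nat_lit 0x1030502090b0e) [nat_lit 3, nat_lit 4, nat_lit 5, nat_lit 0] (BT.pln (nat_lit 0) (nat_lit 6) (BT.img (nat_lit 1) (nat_lit 5) (BT.img (nat_lit 1) (nat_lit 0) (BT.and (nat_lit 2) (nat_lit 0) (BT.cnt (nat_lit 0)))))))))))) (BT.kid (nat_lit 21) (nat_lit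 2) (BT.img (nat_lit 1) (nat_lit 0) (BT.img (nat_lit 1) (nat_lit 0) (BT.img (nat_lit 1) (nat_lit 0) (BT.frm (nat_lit 0) (nat_lit 0) (nat_lit 0) [] (BT.pln (nat_lit 0) (nat_lit 0) (BT.dif (nat_lit 7) (nat_lit 0) (BT.frm (nat_lit 2) (nat_lit 0x205010307070209010b0e) (nat_lit 0x205010307070209010b0e) [nat_lit 3, nat_lit 4, nat_lit 5, nat_lit 6, nat_lit 0] (BT.pln (nat_lit 0) (nat_lit 11) (BT.br (nat_lit 0) (nat_lit 20) [nat_lit 3] (BT.kid (nat_lit 20) (nat_lit 1) (BT.one (nat_lit 3) (nat_lit 0x390205010307070209010b0e) (nat_lit 0x390205010307070209010b0e) [nat_lit 0, nat_lit 6, nat_lit 7, nat_lit 8, nat_lit 9, nat_lit 3]) BT.nil)))))))))) BT.nil)))))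

theorem nt_c12_cnt : Cnt 24 (grp 24 EG) [p_g172] [p_g172] 0 0 0 0 14 :=
  BT.sound nt_c12_cnt_P Known.nil (t := nt_c12_cnt_t) (d := 0) (by decide +kernel)

theorem nt_c12_ge : 14 ≤ Nat.card (grp 24 nt_c12_K) :=
  Ch.le_card_grp (k := 5) (L := (lab 24 5)) p_hn nt_c12_K_ok (c := (Ch.cons (nat_lit 21) [nat_lit 1] (Ch.cons (nat_lit 20) [nat_lit 3] Ch.nil))) (by decide +kernel)

theorem nt_c12_eq : (grp 24 EG) ⊓ Subgroup.centralizer {Net.toPerm 24 p_g172} = grp 24 nt_c12_K :=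
  cent_eq nt_c12_sym nt_c12_cnt nt_c12_ge

theorem nt_c12_card : Nat.card ↥((grp 24 EG) ⊓ Subgroup.centralizer {Net.toPerm 24 p_g172}) = 14 :=
  card_cent nt_c12_sym nt_c12_cnt nt_c12_ge

theorem nt_c12_ord : orderOf (Net.toPerm 24 p_g172) = 7 :=
  orderOf_net p_hn p_hk p_g172_ok (by decide) (ps := [7]) (by set_option linter.unusedSimpArgs false in simp [Nat.primeFactorsList_ofNat]) (by decide +kernel)

theorem p_le175 : grp 24 nt_c13_K ≤ grp 24 N_E0 :=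
  grp_le_of_memB p_hn p_hk N_E0_ok nt_c13_K_ok (ws := [nat_lit 0x27120927, nat_lit 0x2717140d0d080a01]) (by decide +kernel)

theorem nt_c13_le : grp 24 nt_c13_K ≤ (grp 24 EG) :=
  (p_le175.trans T_s0.le)

theorem nt_c13_mem : Net.toPerm 24 p_g174 ∈ (grp 24 EG) :=
  nt_c13_le (toPerm_mem_grp (E := nt_c13_K) (List.Mem.head _))

theorem nt_c13_sym : Sym 24 (grp 24 EG) [p_g174] nt_c13_K 0 :=
  Sym.of_lab p_hn p_hk (okE_cons.2 ⟨p_g174_ok, okE_nil _⟩) nt_c13_K_ok nt_c13_le (kT := 0) (by decide +kernel)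

noncomputable def nt_c13_cnt_L : List ℕ := [0, 1, T_s0_O, 0, 0, 4, 9, T_s4_O, 0, 0, 5, 15, T_s14_O, 0, 0, 6, 10, T_s15_O, 1, 0]

theorem nt_c13_cnt_P : Prob 24 5 (grp 24 EG) nt_c13_cnt_EG [p_g174] [p_g174] nt_c13_K nt_c13_cnt_L 0 0 :=
  Sym.prob p_hn p_hk nt_c13_sym nt_c13_cnt_EG_ok (grp_cons_le p_g81_T (grp_cons_le p_g82_T (grp_cons_le p_g83_T (grp_cons_le p_g80_T (grp_cons_le p_g79_T (grp_cons_le p_g22_T (grp_cons_le p_g1_T (grp_cons_le p_g2_T (grp_cons_le p_g29_T (grp_cons_le p_g25_T (grp_cons_le p_g26_T (grp_cons_le p_g36_T (grp_cons_le p_g32_T (grp_cons_le p_g42_T (grp_cons_le p_g33_T (grp_cons_le p_g39_T (grp_cons_le p_g50_T (grp_cons_le p_g45_T (grp_cons_le p_g46_T (grp_cons_le p_g47_T (grp_cons_le p_g59_T (grp_cons_le p_g60_T (grp_cons_le p_g61_T (grp_cons_le p_g62_T (grp_cons_le p_g53_T (grp_cons_le p_g54_T (grp_cons_le p_g55_T (grp_cons_le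 p_g56_T (grp_cons_le p_g127_T (grp_nil_le _)))))))))))))))))))))))))))))) (Frames.cons T_s0_F (Frames.cons T_s4_F (Frames.cons T_s14_F (Frames.cons T_s15_F Frames.nil)))) (okE_cons.2 ⟨p_g174_ok, okE_nil _⟩) _

noncomputable def nt_c13_cnt_t : BT := (BT.fix (nat_lit 1) (BT.dif (nat_lit 3) (nat_lit 0) (BT.br (nat_lit 0) (nat_lit 21) [nat_lit 1, nat_lit 3] (BT.dead (nat_lit 1) (BT.img (nat_lit 1) (nat_lit 0) (BT.img (nat_lit 1) (nat_lit 0) (BT.frm (nat_lit 0) (nat_lit 0) (nat_lit 0) [] (BT.pln (nat_lit 0) (nat_lit 0) (BT.dif (nat_lit 6) (nat_lit 0) (BT.frm (nat_lit 1) (nat_lit 0x10502070309010b0e) (nat_lit 0x10703090b0e) [nat_lit 3, nat_lit 4, nat_lit 5, nat_lit 0] (BT.pln (nat_lit 0) (nat_lit 6) (BT.img (nat_lit 1) (nat_lit 5) (BT.img (nat_lit 1) (nat_lit 0) (BT.img (nat_lit 1) (nat_lit 0) (BT.and (nat_lit 3) (nat_lit 0) (BT.cnt (nat_lit 0)))))))))))))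 (BT.kid (nat_lit 21) (nat_lit 2) (BT.img (nat_lit 1) (nat_lit 0) (BT.img (nat_lit 1) (nat_lit 0) (BT.img (nat_lit 1) (nat_lit 0) (BT.img (nat_lit 1) (nat_lit 0) (BT.img (nat_lit 1) (nat_lit 0) (BT.img (nat_lit 1) (nat_lit 0) (BT.frm (nat_lit 0) (nat_lit 0) (nat_lit 0) [] (BT.pln (nat_lit 0) (nat_lit 0) (BT.dif (nat_lit 10) (nat_lit 0) (BT.frm (nat_lit 2) (nat_lit 0x10502070309010b0e) (nat_lit 0x10502070309010b0e) [nat_lit 3, nat_lit 7, nat_lit 8, nat_lit 9, nat_lit 0] (BT.pln (nat_lit 0) (nat_lit 11) (BT.br (nat_lit 0) (nat_lit 14) [nat_lit 3] (BT.kid (nat_lit 14) (nat_lit 1) (BT.one (nat_lit 3) (nat_lit 0x10502070309010b0e) (nat_lit 0x10502070309010b0e) [nat_lit 0, nat_lit 6, nat_lit 10, nat_lit 11, nat_lit 12, nat_lit 3]) BT.nil))))))))))))) BT.nil)))))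

theorem nt_c13_cnt : Cnt 24 (grp 24 EG) [p_g174] [p_g174] 0 0 0 0 14 :=
  BT.sound nt_c13_cnt_P Known.nil (t := nt_c13_cnt_t) (d := 0) (by decide +kernel)

theorem nt_c13_ge : 14 ≤ Nat.card (grp 24 nt_c13_K) :=
  Ch.le_card_grp (k := 5) (L := (lab 24 5)) p_hn nt_c13_K_ok (c := (Ch.cons (nat_lit 21) [nat_lit 1] (Ch.cons (nat_lit 14) [nat_lit 3] Ch.nil))) (by decide +kernel)

theorem nt_c13_eq : (grp 24 EG) ⊓ Subgroup.centralizer {Net.toPerm 24 p_g174} = grp 24 nt_c13_K :=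
  cent_eq nt_c13_sym nt_c13_cnt nt_c13_ge

theorem nt_c13_card : Nat.card ↥((grp 24 EG) ⊓ Subgroup.centralizer {Net.toPerm 24 p_g174}) = 14 :=
  card_cent nt_c13_sym nt_c13_cnt nt_c13_ge

theorem nt_c13_ord : orderOf (Net.toPerm 24 p_g174) = 7 :=
  orderOf_net p_hn p_hk p_g174_ok (by decide) (ps := [7]) (by set_option linter.unusedSimpArgs false in simp [Nat.primeFactorsList_ofNat]) (by decide +kernel)

theorem p_le178 : grp 24 nt_c14_K ≤ grp 24 N_E0 :=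
  grp_le_of_memB p_hn p_hk N_E0_ok nt_c14_K_ok (ws := [nat_lit 0x2d11131018090b01, nat_lit 0x231713080901]) (by decide +kernel)

theorem nt_c14_le : grp 24 nt_c14_K ≤ (grp 24 EG) :=
  (p_le178.trans T_s0.le)

theorem nt_c14_mem : Net.toPerm 24 p_g176 ∈ (grp 24 EG) :=
  nt_c14_le (toPerm_mem_grp (E := nt_c14_K) (List.Mem.head _))

theorem nt_c14_sym : Sym 24 (grp 24 EG) [p_g176] nt_c14_K 0 :=
  Sym.of_lab p_hn p_hk (okE_cons.2 ⟨p_g176_ok, okE_nil _⟩) nt_c14_K_ok nt_c14_le (kT := 0) (by decide +kernel)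

noncomputable def T_s3_O : ℕ := (nat_lit 0x800001100880000100000040000200)

theorem T_s3_F : Frame 24 (grp 24 EG) 3 5 T_s3_O 0 1 :=
  Stab.frame p_hn T_s3 (by decide +kernel)

noncomputable def nt_c14_cnt_L : List ℕ := [3, 5, T_s3_O, 0, 0, 5, 15, T_s17_O, 0, 0, 6, 10, T_s18_O, 1, 0]

theorem nt_c14_cnt_P : Prob 24 5 (grp 24 EG) nt_c14_cnt_EG [p_g176] [p_g176] nt_c14_K nt_c14_cnt_L 0 0 :=
  Sym.prob p_hn p_hk nt_c14_sym nt_c14_cnt_EG_ok (grp_cons_le p_g80_T (grp_cons_le p_g81_T (grp_cons_le p_g82_T (grp_cons_le p_g83_T (grp_cons_le p_g79_T (grp_cons_le p_g22_T (grp_cons_le p_g1_T (grp_cons_le p_g2_T (grp_cons_le p_g29_T (grp_cons_le p_g25_T (grp_cons_le p_g26_T (grp_cons_le p_g36_T (grp_cons_le p_g32_T (grp_cons_le p_g42_T (grp_cons_le p_g33_T (grp_cons_le p_g39_T (grp_cons_le p_g50_T (grp_cons_le p_g45_T (grp_cons_le p_g46_T (grp_cons_le p_g47_T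 (grp_cons_le p_g59_T (grp_cons_le p_g60_T (grp_cons_le p_g61_T (grp_cons_le p_g62_T (grp_cons_le p_g53_T (grp_cons_le p_g54_T (grp_cons_le p_g55_T (grp_cons_le p_g56_T (grp_cons_le p_g143_T (grp_cons_le p_g144_T (grp_cons_le p_g145_T (grp_nil_le _)))))))))))))))))))))))))))))))) (Frames.cons T_s3_F (Frames.cons T_s17_F (Frames.cons T_s18_F Frames.nil))) (okE_cons.2 ⟨p_g176_ok, okE_nil _⟩) _

noncomputable def nt_c14_cnt_t : BT := (BT.fix (nat_lit 0x1010101) (BT.fix (nat_lit 257) (BT.dif (nat_lit 1) (nat_lit 0) (BT.br (nat_lit 0) (nat_lit 19) [nat_lit 1] (BT.kid (nat_lit 19) (nat_lit 4) (BT.dif (nat_lit 6) (nat_lit 3) (BT.br (nat_lit 0) (nat_lit 21) [nat_lit 3] (BT.dead (nat_lit 5) (BT.img (nat_lit 1) (nat_lit 2) (BT.img (nat_lit 1) (nat_lit 0) (BT.frm (nat_lit 0) (nat_lit 0x20409050135) (nat_lit 0x20409050135) [nat_lit 0, nat_lit 1, nat_lit 4] (BT.pln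 (nat_lit 0) (nat_lit 3) (BT.fix (nat_lit 1) (BT.dif (nat_lit 1) (nat_lit 0) (BT.frm (nat_lit 1) (nat_lit 0x39393b04020409050135) (nat_lit 0x393b04020409050135) [nat_lit 6, nat_lit 0, nat_lit 4, nat_lit 5, nat_lit 8] (BT.pln (nat_lit 0) (nat_lit 5) (BT.img (nat_lit 1) (nat_lit 8) (BT.and (nat_lit 1) (nat_lit 0) (BT.cnt (nat_lit 0)))))))))))) (BT.dead (nat_lit 1) (BT.img (nat_lit 1) (nat_lit 2) (BT.img (nat_lit 1) (nat_lit 0) (BT.frm (nat_lit 0) (nat_lit 0x20409050135) (nat_lit 0x20409050135) [nat_lit 0, nat_lit 1, nat_lit 4] (BT.pln (nat_lit 0) (nat_lit 3) (BT.fix (nat_lit 1) (BT.dif (nat_lit 1) (nat_lit 0) (BT.frm (nat_lit 1) (nat_lit 0x39393b04020409050135) (nat_lit 0x3b3b04020409050135) [nat_lit 6, nat_lit 0, nat_lit 4, nat_lit 5, nat_lit 8] (BT.pln (nat_lit 0) (nat_lit 5) (BT.img (nat_lit 1) (nat_lit 8) (BT.and (nat_lit 1) (nat_lit 0) (BT.cnt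 (nat_lit 0)))))))))))) (BT.dead (nat_lit 22) (BT.img (nat_lit 1) (nat_lit 2) (BT.img (nat_lit 1) (nat_lit 0) (BT.frm (nat_lit 0) (nat_lit 0x20409050135) (nat_lit 0x20409050135) [nat_lit 0, nat_lit 1, nat_lit 4] (BT.pln (nat_lit 0) (nat_lit 3) (BT.fix (nat_lit 1) (BT.dif (nat_lit 1) (nat_lit 0) (BT.frm (nat_lit 1) (nat_lit 0x39393b04020409050135) (nat_lit 0x3b04020409050135) [nat_lit 6, nat_lit 0, nat_lit 4, nat_lit 5, nat_lit 8] (BT.pln (nat_lit 0) (nat_lit 5) (BT.img (nat_lit 1) (nat_lit 8) (BT.and (nat_lit 1) (nat_lit 0) (BT.cnt (nat_lit 0)))))))))))) (BT.kid (nat_lit 21) (nat_lit 1) (BT.img (nat_lit 1) (nat_lit 0) (BT.img (nat_lit 1) (nat_lit 0) (BT.img (nat_lit 1) (nat_lit 0) (BT.img (nat_lit 1) (nat_lit 0) (BT.img (nat_lit 1) (nat_lit 0) (BT.img (nat_lit 1) (nat_lit 0) (BT.img (nat_lit 1) (nat_lit 0) (BT.img (nat_lit 1) (nat_lit 9) (BT.img (nat_lit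 1) (nat_lit 0) (BT.frm (nat_lit 0) (nat_lit 0x20409050135) (nat_lit 0x20409050135) [nat_lit 0, nat_lit 1, nat_lit 11] (BT.pln (nat_lit 0) (nat_lit 3) (BT.fix (nat_lit 1) (BT.dif (nat_lit 1) (nat_lit 0) (BT.one (nat_lit 2) (nat_lit 0x3d39393b04020409050135) (nat_lit 0x3d39393b04020409050135) [nat_lit 6, nat_lit 13, nat_lit 0, nat_lit 4, nat_lit 5, nat_lit 15])))))))))))))) BT.nil)))))) BT.nil)))))

theorem nt_c14_cnt : Cnt 24 (grp 24 EG) [p_g176] [p_g176] 0 0 0 0 16 :=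
  BT.sound nt_c14_cnt_P Known.nil (t := nt_c14_cnt_t) (d := 0) (by decide +kernel)

theorem nt_c14_ge : 16 ≤ Nat.card (grp 24 nt_c14_K) :=
  Ch.le_card_grp (k := 5) (L := (lab 24 5)) p_hn nt_c14_K_ok (c := (Ch.cons (nat_lit 19) [nat_lit 1] (Ch.cons (nat_lit 21) [nat_lit 3] Ch.nil))) (by decide +kernel)

theorem nt_c14_eq : (grp 24 EG) ⊓ Subgroup.centralizer {Net.toPerm 24 p_g176} = grp 24 nt_c14_K :=
  cent_eq nt_c14_sym nt_c14_cnt nt_c14_ge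

theorem nt_c14_card : Nat.card ↥((grp 24 EG) ⊓ Subgroup.centralizer {Net.toPerm 24 p_g176}) = 16 :=
  card_cent nt_c14_sym nt_c14_cnt nt_c14_ge

theorem nt_c14_ord : orderOf (Net.toPerm 24 p_g176) = 8 :=
  orderOf_net p_hn p_hk p_g176_ok (by decide) (ps := [2]) (by set_option linter.unusedSimpArgs false in simp [Nat.primeFactorsList_ofNat]) (by decide +kernel)

theorem p_le181 : grp 24 nt_c15_K ≤ grp 24 N_E0 :=
  grp_le_of_memB p_hn p_hk N_E0_ok nt_c15_K_ok (ws := [nat_lit 0x1f2b11210f0d080b, nat_lit 0x1f2518130f070b01]) (by decide +kernel)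

theorem nt_c15_le : grp 24 nt_c15_K ≤ (grp 24 EG) :=
  (p_le181.trans T_s0.le)

theorem nt_c15_mem : Net.toPerm 24 p_g179 ∈ (grp 24 EG) :=
  nt_c15_le (toPerm_mem_grp (E := nt_c15_K) (List.Mem.head _))

theorem nt_c15_sym : Sym 24 (grp 24 EG) [p_g179] nt_c15_K 0 :=
  Sym.of_lab p_hn p_hk (okE_cons.2 ⟨p_g179_ok, okE_nil _⟩) nt_c15_K_ok nt_c15_le (kT := 0) (by decide +kernel)

noncomputable def nt_c15_cnt_L : List ℕ := [3, 5, T_s3_O, 0, 0, 5, 15, T_s17_O, 0, 0, 6, 10, T_s18_O, 1, 0]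

theorem nt_c15_cnt_P : Prob 24 5 (grp 24 EG) nt_c15_cnt_EG [p_g179] [p_g179] nt_c15_K nt_c15_cnt_L 0 0 :=
  Sym.prob p_hn p_hk nt_c15_sym nt_c15_cnt_EG_ok (grp_cons_le p_g80_T (grp_cons_le p_g81_T (grp_cons_le p_g82_T (grp_cons_le p_g83_T (grp_cons_le p_g79_T (grp_cons_le p_g22_T (grp_cons_le p_g1_T (grp_cons_le p_g2_T (grp_cons_le p_g29_T (grp_cons_le p_g25_T (grp_cons_le p_g26_T (grp_cons_le p_g36_T (grp_cons_le p_g32_T (grp_cons_le p_g42_T (grp_cons_le p_g33_T (grp_cons_le p_g39_T (grp_cons_le p_g50_T (grp_cons_le p_g45_T (grp_cons_le p_g46_T (grp_cons_le p_g47_T (grp_cons_le p_g59_T (grp_cons_le p_g60_T (grp_cons_le p_g61_T (grp_cons_le p_g62_T (grp_cons_le p_g53_T (grp_cons_le p_g54_T (grp_cons_le p_g55_T (grp_cons_le p_g56_T (grp_cons_le p_g143_T (grp_cons_le p_g144_T (grp_cons_le p_g145_T (grp_nil_le _)))))))))))))))))))))))))))))))) (Frames.cons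 T_s3_F (Frames.cons T_s17_F (Frames.cons T_s18_F Frames.nil))) (okE_cons.2 ⟨p_g179_ok, okE_nil _⟩) _

noncomputable def nt_c15_cnt_t : BT := (BT.fix (nat_lit 0x1010101) (BT.fix (nat_lit 257) (BT.dif (nat_lit 1) (nat_lit 0) (BT.br (nat_lit 0) (nat_lit 21) [nat_lit 1] (BT.kid (nat_lit 21) (nat_lit 4) (BT.dif (nat_lit 6) (nat_lit 3) (BT.br (nat_lit 0) (nat_lit 20) [nat_lit 3] (BT.dead (nat_lit 1) (BT.img (nat_lit 1) (nat_lit 2) (BT.img (nat_lit 1) (nat_lit 0) (BT.frm (nat_lit 0) (nat_lit 0x10602090916) (nat_lit 0x10602090916) [nat_lit 0, nat_lit 1, nat_lit 4] (BT.pln (nat_lit 0) (nat_lit 3) (BT.dif (nat_lit 0) (nat_lit 8) (BT.frm (nat_lit 1) (nat_lit 0x3a3b3b04010602090916) (nat_lit 0x39393b3b04010602090916) [nat_lit 5, nat_lit 0, nat_lit 3, nat_lit 4, nat_lit 7] (BT.pln (nat_lit 0) (nat_lit 5) (BT.img (nat_lit 1) (nat_lit 7) (BT.img (nat_lit 1) (nat_lit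 0) (BT.img (nat_lit 1) (nat_lit 0) (BT.and (nat_lit 3) (nat_lit 0) (BT.cnt (nat_lit 0))))))))))))) (BT.dead (nat_lit 2) (BT.img (nat_lit 1) (nat_lit 2) (BT.img (nat_lit 1) (nat_lit 0) (BT.frm (nat_lit 0) (nat_lit 0x10602090916) (nat_lit 0x10602090916) [nat_lit 0, nat_lit 1, nat_lit 4] (BT.pln (nat_lit 0) (nat_lit 3) (BT.dif (nat_lit 0) (nat_lit 8) (BT.frm (nat_lit 1) (nat_lit 0x3a3b3b04010602090916) (nat_lit 0x393904010602090916) [nat_lit 5, nat_lit 0, nat_lit 3, nat_lit 4, nat_lit 7] (BT.pln (nat_lit 0) (nat_lit 5) (BT.img (nat_lit 1) (nat_lit 7) (BT.img (nat_lit 1) (nat_lit 0) (BT.img (nat_lit 1) (nat_lit 0) (BT.img (nat_lit 1) (nat_lit 0) (BT.img (nat_lit 1) (nat_lit 0) (BT.and (nat_lit 5) (nat_lit 0) (BT.cnt (nat_lit 0))))))))))))))) (BT.dead (nat_lit 3) (BT.img (nat_lit 1) (nat_lit 2) (BT.img (nat_lit 1) (nat_lit 0) (BT.frm (nat_lit 0) (nat_lit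 0x10602090916) (nat_lit 0x10602090916) [nat_lit 0, nat_lit 1, nat_lit 4] (BT.pln (nat_lit 0) (nat_lit 3) (BT.dif (nat_lit 0) (nat_lit 8) (BT.frm (nat_lit 1) (nat_lit 0x3a3b3b04010602090916) (nat_lit 0x3a04010602090916) [nat_lit 5, nat_lit 0, nat_lit 3, nat_lit 4, nat_lit 7] (BT.pln (nat_lit 0) (nat_lit 5) (BT.img (nat_lit 1) (nat_lit 7) (BT.and (nat_lit 1) (nat_lit 0) (BT.cnt (nat_lit 0))))))))))) (BT.kid (nat_lit 20) (nat_lit 1) (BT.img (nat_lit 1) (nat_lit 0) (BT.img (nat_lit 1) (nat_lit 0) (BT.img (nat_lit 1) (nat_lit 0) (BT.img (nat_lit 1) (nat_lit 5) (BT.img (nat_lit 1) (nat_lit 0) (BT.frm (nat_lit 0) (nat_lit 0x10602090916) (nat_lit 0x10602090916) [nat_lit 0, nat_lit 1, nat_lit 7] (BT.pln (nat_lit 0) (nat_lit 3) (BT.dif (nat_lit 0) (nat_lit 11) (BT.one (nat_lit 2) (nat_lit 0x3d3a3b3b04010602090916) (nat_lit 0x3d3a3b3b04010602090916) [nat_lit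 5, nat_lit 8, nat_lit 0, nat_lit 3, nat_lit 4, nat_lit 10]))))))))) BT.nil)))))) BT.nil)))))

theorem nt_c15_cnt : Cnt 24 (grp 24 EG) [p_g179] [p_g179] 0 0 0 0 16 :=
  BT.sound nt_c15_cnt_P Known.nil (t := nt_c15_cnt_t) (d := 0) (by decide +kernel)

theorem nt_c15_ge : 16 ≤ Nat.card (grp 24 nt_c15_K) :=
  Ch.le_card_grp (k := 5) (L := (lab 24 5)) p_hn nt_c15_K_ok (c := (Ch.cons (nat_lit 21) [nat_lit 1] (Ch.cons (nat_lit 20) [nat_lit 3] Ch.nil))) (by decide +kernel)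

theorem nt_c15_eq : (grp 24 EG) ⊓ Subgroup.centralizer {Net.toPerm 24 p_g179} = grp 24 nt_c15_K :=
  cent_eq nt_c15_sym nt_c15_cnt nt_c15_ge

theorem nt_c15_card : Nat.card ↥((grp 24 EG) ⊓ Subgroup.centralizer {Net.toPerm 24 p_g179}) = 16 :=
  card_cent nt_c15_sym nt_c15_cnt nt_c15_ge

theorem nt_c15_ord : orderOf (Net.toPerm 24 p_g179) = 8 :=
  orderOf_net p_hn p_hk p_g179_ok (by decide) (ps := [2]) (by set_option linter.unusedSimpArgs false in simp [Nat.primeFactorsList_ofNat]) (by decide +kernel)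

theorem p_le184 : grp 24 nt_c16_K ≤ grp 24 N_E0 :=
  grp_le_of_memB p_hn p_hk N_E0_ok nt_c16_K_ok (ws := [nat_lit 0x2718112b0e23081001, nat_lit 0x1f111b0d0914]) (by decide +kernel)

theorem nt_c16_le : grp 24 nt_c16_K ≤ (grp 24 EG) :=
  (p_le184.trans T_s0.le)

theorem nt_c16_mem : Net.toPerm 24 p_g182 ∈ (grp 24 EG) :=
  nt_c16_le (toPerm_mem_grp (E := nt_c16_K) (List.Mem.head _))

theorem nt_c16_sym : Sym 24 (grp 24 EG) [p_g182] nt_c16_K 0 :=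
  Sym.of_lab p_hn p_hk (okE_cons.2 ⟨p_g182_ok, okE_nil _⟩) nt_c16_K_ok nt_c16_le (kT := 0) (by decide +kernel)

noncomputable def nt_c16_cnt_L : List ℕ := [0, 1, T_s0_O, 0, 0, 4, 9, T_s4_O, 0, 0, 5, 9, T_s5_O, 1, 0]

theorem nt_c16_cnt_P : Prob 24 5 (grp 24 EG) nt_c16_cnt_EG [p_g182] [p_g182] nt_c16_K nt_c16_cnt_L 0 0 :=
  Sym.prob p_hn p_hk nt_c16_sym nt_c16_cnt_EG_ok (grp_cons_le p_g81_T (grp_cons_le p_g82_T (grp_cons_le p_g83_T (grp_cons_le p_g80_T (grp_cons_le p_g79_T (grp_cons_le p_g22_T (grp_cons_le p_g1_T (grp_cons_le p_g2_T (grp_cons_le p_g29_T (grp_cons_le p_g25_T (grp_cons_le p_g26_T (grp_cons_le p_g36_T (grp_cons_le p_g32_T (grp_cons_le p_g42_T (grp_cons_le p_g33_T (grp_cons_le p_g39_T (grp_cons_le p_g50_T (grp_cons_le p_g45_T (grp_cons_le p_g46_T (grp_cons_le p_g47_T (grp_cons_le p_g59_T (grp_cons_le p_g60_T (grp_cons_le p_g61_T (grp_cons_le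 p_g62_T (grp_cons_le p_g53_T (grp_cons_le p_g54_T (grp_cons_le p_g55_T (grp_cons_le p_g56_T (grp_nil_le _))))))))))))))))))))))))))))) (Frames.cons T_s0_F (Frames.cons T_s4_F (Frames.cons T_s5_F Frames.nil))) (okE_cons.2 ⟨p_g182_ok, okE_nil _⟩) _

noncomputable def nt_c16_cnt_t : BT := (BT.fix (nat_lit 257) (BT.frm (nat_lit 0) (nat_lit 0) (nat_lit 0) [] (BT.pln (nat_lit 0) (nat_lit 0) (BT.dif (nat_lit 2) (nat_lit 0) (BT.br (nat_lit 0) (nat_lit 6) [nat_lit 1] (BT.kid (nat_lit 6) (nat_lit 5) (BT.dif (nat_lit 7) (nat_lit 4) (BT.br (nat_lit 0) (nat_lit 20) [nat_lit 3] (BT.dead (nat_lit 1) (BT.img (nat_lit 1) (nat_lit 0) (BT.dif (nat_lit 4) (nat_lit 3) (BT.frm (nat_lit 1) (nat_lit 0x10707030a0b) (nat_lit 0x10502040704080a0b) [nat_lit 1, nat_lit 2, nat_lit 0, nat_lit 4] (BT.pln (nat_lit 0) (nat_lit 5) (BT.img (nat_lit 1) (nat_lit 3) (BT.img (nat_lit 1)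 (nat_lit 0) (BT.and (nat_lit 2) (nat_lit 0) (BT.cnt (nat_lit 0))))))))) (BT.dead (nat_lit 4) (BT.img (nat_lit 1) (nat_lit 0) (BT.dif (nat_lit 4) (nat_lit 3) (BT.frm (nat_lit 1) (nat_lit 0x10707030a0b) (nat_lit 0x105010808030a0b) [nat_lit 1, nat_lit 2, nat_lit 0, nat_lit 4] (BT.pln (nat_lit 0) (nat_lit 5) (BT.img (nat_lit 1) (nat_lit 3) (BT.img (nat_lit 1) (nat_lit 0) (BT.and (nat_lit 2) (nat_lit 0) (BT.cnt (nat_lit 0))))))))) (BT.dead (nat_lit 22) (BT.img (nat_lit 1) (nat_lit 0) (BT.dif (nat_lit 4) (nat_lit 3) (BT.frm (nat_lit 1) (nat_lit 0x10707030a0b) (nat_lit 0x1030508020a0b) [nat_lit 1, nat_lit 2, nat_lit 0, nat_lit 4] (BT.pln (nat_lit 0) (nat_lit 5) (BT.img (nat_lit 1) (nat_lit 3) (BT.and (nat_lit 1) (nat_lit 0) (BT.cnt (nat_lit 0)))))))) (BT.kid (nat_lit 20) (nat_lit 1) (BT.img (nat_lit 1) (nat_lit 0) (BT.img (nat_lit 1) (nat_lit 0) (BT.dif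 (nat_lit 5) (nat_lit 4) (BT.one (nat_lit 2) (nat_lit 0x405010707030a0b) (nat_lit 0x405010707030a0b) [nat_lit 1, nat_lit 2, nat_lit 3, nat_lit 0, nat_lit 5])))) BT.nil)))))) BT.nil))))))

theorem nt_c16_cnt : Cnt 24 (grp 24 EG) [p_g182] [p_g182] 0 0 0 0 10 :=
  BT.sound nt_c16_cnt_P Known.nil (t := nt_c16_cnt_t) (d := 0) (by decide +kernel)

theorem nt_c16_ge : 10 ≤ Nat.card (grp 24 nt_c16_K) :=
  Ch.le_card_grp (k := 5) (L := (lab 24 5)) p_hn nt_c16_K_ok (c := (Ch.cons (nat_lit 6) [nat_lit 1] (Ch.cons (nat_lit 20) [nat_lit 3] Ch.nil))) (by decide +kernel)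

theorem nt_c16_eq : (grp 24 EG) ⊓ Subgroup.centralizer {Net.toPerm 24 p_g182} = grp 24 nt_c16_K :=
  cent_eq nt_c16_sym nt_c16_cnt nt_c16_ge

theorem nt_c16_card : Nat.card ↥((grp 24 EG) ⊓ Subgroup.centralizer {Net.toPerm 24 p_g182}) = 10 :=
  card_cent nt_c16_sym nt_c16_cnt nt_c16_ge

theorem nt_c16_ord : orderOf (Net.toPerm 24 p_g182) = 10 :=
  orderOf_net p_hn p_hk p_g182_ok (by decide) (ps := [2, 5]) (by set_option linter.unusedSimpArgs false in simp [Nat.primeFactorsList_ofNat]) (by decide +kernel)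

theorem p_le186 : grp 24 nt_c17_K ≤ grp 24 N_E0 :=
  grp_le_of_memB p_hn p_hk N_E0_ok nt_c17_K_ok (ws := [nat_lit 0x180d1408]) (by decide +kernel)

theorem nt_c17_le : grp 24 nt_c17_K ≤ (grp 24 EG) :=
  (p_le186.trans T_s0.le)

theorem nt_c17_mem : Net.toPerm 24 p_g185 ∈ (grp 24 EG) :=
  nt_c17_le (toPerm_mem_grp (E := nt_c17_K) (List.Mem.head _))

theorem nt_c17_sym : Sym 24 (grp 24 EG) [p_g185] nt_c17_K 0 :=
  Sym.of_lab p_hn p_hk (okE_cons.2 ⟨p_g185_ok, okE_nil _⟩) nt_c17_K_ok nt_c17_le (kT := 0) (by decide +kernel)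

noncomputable def nt_c17_cnt_L : List ℕ := [0, 1, T_s0_O, 0, 0, 3, 5, T_s3_O, 0, 0, 5, 9, T_s5_O, 1, 0]

theorem nt_c17_cnt_P : Prob 24 5 (grp 24 EG) nt_c17_cnt_EG [p_g185] [p_g185] nt_c17_K nt_c17_cnt_L 0 0 :=
  Sym.prob p_hn p_hk nt_c17_sym nt_c17_cnt_EG_ok (grp_cons_le p_g80_T (grp_cons_le p_g81_T (grp_cons_le p_g82_T (grp_cons_le p_g83_T (grp_cons_le p_g79_T (grp_cons_le p_g22_T (grp_cons_le p_g1_T (grp_cons_le p_g2_T (grp_cons_le p_g29_T (grp_cons_le p_g25_T (grp_cons_le p_g26_T (grp_cons_le p_g36_T (grp_cons_le p_g32_T (grp_cons_le p_g42_T (grp_cons_le p_g33_T (grp_cons_le p_g39_T (grp_cons_le p_g50_T (grp_cons_le p_g45_T (grp_cons_le p_g46_T (grp_cons_le p_g47_T (grp_cons_le p_g59_T (grp_cons_le p_g60_T (grp_cons_le p_g61_T (grp_cons_le p_g62_T (grp_cons_le p_g53_T (grp_cons_le p_g54_T (grp_cons_le p_g55_T (grp_cons_le p_g56_T (grp_nil_le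 _))))))))))))))))))))))))))))) (Frames.cons T_s0_F (Frames.cons T_s3_F (Frames.cons T_s5_F Frames.nil))) (okE_cons.2 ⟨p_g185_ok, okE_nil _⟩) _

noncomputable def nt_c17_cnt_t : BT := (BT.frm (nat_lit 0) (nat_lit 0) (nat_lit 0) [] (BT.pln (nat_lit 0) (nat_lit 0) (BT.dif (nat_lit 4) (nat_lit 0) (BT.br (nat_lit 0) (nat_lit 22) [nat_lit 1] (BT.dead (nat_lit 1) (BT.img (nat_lit 1) (nat_lit 0) (BT.img (nat_lit 1) (nat_lit 0) (BT.frm (nat_lit 1) (nat_lit 0x204010902020b1b) (nat_lit 0x101090915) [nat_lit 0, nat_lit 1, nat_lit 2] (BT.pln (nat_lit 0) (nat_lit 3) (BT.img (nat_lit 1) (nat_lit 2) (BT.img (nat_lit 1) (nat_lit 0) (BT.and (nat_lit 2) (nat_lit 0) (BT.cnt (nat_lit 0))))))))) (BT.kid (nat_lit 22) (nat_lit 1) (BT.img (nat_lit 1) (nat_lit 0) (BT.img (nat_lit 1) (nat_lit 0) (BT.img (nat_lit 1) (nat_lit 0) (BT.img (nat_lit 1) (nat_lit 0) (BT.img (nat_lit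 1) (nat_lit 0) (BT.one (nat_lit 2) (nat_lit 0x30703050204010902020b1b) (nat_lit 0x30703050204010902020b1b) [nat_lit 0, nat_lit 2, nat_lit 3, nat_lit 4, nat_lit 5])))))) BT.nil))))))

theorem nt_c17_cnt : Cnt 24 (grp 24 EG) [p_g185] [p_g185] 0 0 0 0 11 :=
  BT.sound nt_c17_cnt_P Known.nil (t := nt_c17_cnt_t) (d := 0) (by decide +kernel)

theorem nt_c17_ge : 11 ≤ Nat.card (grp 24 nt_c17_K) :=
  Ch.le_card_grp (k := 5) (L := (lab 24 5)) p_hn nt_c17_K_ok (c := (Ch.cons (nat_lit 22) [nat_lit 1] Ch.nil)) (by decide +kernel)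

theorem nt_c17_eq : (grp 24 EG) ⊓ Subgroup.centralizer {Net.toPerm 24 p_g185} = grp 24 nt_c17_K :=
  cent_eq nt_c17_sym nt_c17_cnt nt_c17_ge

theorem nt_c17_card : Nat.card ↥((grp 24 EG) ⊓ Subgroup.centralizer {Net.toPerm 24 p_g185}) = 11 :=
  card_cent nt_c17_sym nt_c17_cnt nt_c17_ge

theorem nt_c17_ord : orderOf (Net.toPerm 24 p_g185) = 11 :=
  orderOf_net p_hn p_hk p_g185_ok (by decide) (ps := [11]) (by set_option linter.unusedSimpArgs false in simp [Nat.primeFactorsList_ofNat]) (by decide +kernel)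

theorem p_le188 : grp 24 nt_c18_K ≤ grp 24 N_E0 :=
  grp_le_of_memB p_hn p_hk N_E0_ok nt_c18_K_ok (ws := [nat_lit 0x2b181111170d130901]) (by decide +kernel)

theorem nt_c18_le : grp 24 nt_c18_K ≤ (grp 24 EG) :=
  (p_le188.trans T_s0.le)

theorem nt_c18_mem : Net.toPerm 24 p_g187 ∈ (grp 24 EG) :=
  nt_c18_le (toPerm_mem_grp (E := nt_c18_K) (List.Mem.head _))

theorem nt_c18_sym : Sym 24 (grp 24 EG) [p_g187] nt_c18_K 0 :=
  Sym.of_lab p_hn p_hk (okE_cons.2 ⟨p_g187_ok, okE_nil _⟩) nt_c18_K_ok nt_c18_le (kT := 0) (by decide +kernel)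

noncomputable def nt_c18_cnt_L : List ℕ := [0, 1, T_s0_O, 0, 0, 5, 9, T_s5_O, 1, 0]

theorem nt_c18_cnt_P : Prob 24 5 (grp 24 EG) nt_c18_cnt_EG [p_g187] [p_g187] nt_c18_K nt_c18_cnt_L 0 0 :=
  Sym.prob p_hn p_hk nt_c18_sym nt_c18_cnt_EG_ok (grp_cons_le p_g82_T (grp_cons_le p_g83_T (grp_cons_le p_g81_T (grp_cons_le p_g80_T (grp_cons_le p_g79_T (grp_cons_le p_g22_T (grp_cons_le p_g1_T (grp_cons_le p_g2_T (grp_cons_le p_g29_T (grp_cons_le p_g25_T (grp_cons_le p_g26_T (grp_cons_le p_g36_T (grp_cons_le p_g32_T (grp_cons_le p_g42_T (grp_cons_le p_g33_T (grp_cons_le p_g39_T (grp_cons_le p_g50_T (grp_cons_le p_g45_T (grp_cons_le p_g46_T (grp_cons_le p_g47_T (grp_cons_le p_g59_T (grp_cons_le p_g60_T (grp_cons_le p_g61_T (grp_cons_le p_g62_T (grp_cons_le p_g53_T (grp_cons_le p_g54_T (grp_cons_le p_g55_T (grp_cons_le p_g56_T (grp_nil_le _)))))))))))))))))))))))))))))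 (Frames.cons T_s0_F (Frames.cons T_s5_F Frames.nil)) (okE_cons.2 ⟨p_g187_ok, okE_nil _⟩) _

noncomputable def nt_c18_cnt_t : BT := (BT.frm (nat_lit 0) (nat_lit 0) (nat_lit 0) [] (BT.pln (nat_lit 0) (nat_lit 0) (BT.dif (nat_lit 4) (nat_lit 0) (BT.fix (nat_lit 0x10101010101) (BT.dif (nat_lit 1) (nat_lit 0) (BT.fix (nat_lit 0x1010101) (BT.dif (nat_lit 1) (nat_lit 0) (BT.br (nat_lit 0) (nat_lit 22) [nat_lit 1] (BT.kid (nat_lit 22) (nat_lit 1) (BT.img (nat_lit 1) (nat_lit 0) (BT.img (nat_lit 1) (nat_lit 0) (BT.img (nat_lit 1) (nat_lit 0) (BT.img (nat_lit 1) (nat_lit 0) (BT.one (nat_lit 1) (nat_lit 0x5010707010908050b1b) (nat_lit 0x5010707010908050b1b) [nat_lit 0, nat_lit 1, nat_lit 2, nat_lit 3, nat_lit 4]))))) BT.nil)))))))))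

theorem nt_c18_cnt : Cnt 24 (grp 24 EG) [p_g187] [p_g187] 0 0 0 0 12 :=
  BT.sound nt_c18_cnt_P Known.nil (t := nt_c18_cnt_t) (d := 0) (by decide +kernel)

theorem nt_c18_ge : 12 ≤ Nat.card (grp 24 nt_c18_K) :=
  Ch.le_card_grp (k := 5) (L := (lab 24 5)) p_hn nt_c18_K_ok (c := (Ch.cons (nat_lit 22) [nat_lit 1] Ch.nil)) (by decide +kernel)

theorem nt_c18_eq : (grp 24 EG) ⊓ Subgroup.centralizer {Net.toPerm 24 p_g187} = grp 24 nt_c18_K :=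
  cent_eq nt_c18_sym nt_c18_cnt nt_c18_ge

theorem nt_c18_card : Nat.card ↥((grp 24 EG) ⊓ Subgroup.centralizer {Net.toPerm 24 p_g187}) = 12 :=
  card_cent nt_c18_sym nt_c18_cnt nt_c18_ge

theorem nt_c18_ord : orderOf (Net.toPerm 24 p_g187) = 12 :=
  orderOf_net p_hn p_hk p_g187_ok (by decide) (ps := [2, 3]) (by set_option linter.unusedSimpArgs false in simp [Nat.primeFactorsList_ofNat]) (by decide +kernel)

theorem p_le190 : grp 24 nt_c19_K ≤ grp 24 N_E0 :=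
  grp_le_of_memB p_hn p_hk N_E0_ok nt_c19_K_ok (ws := [nat_lit 0x11130e12092501]) (by decide +kernel)

theorem nt_c19_le : grp 24 nt_c19_K ≤ (grp 24 EG) :=
  (p_le190.trans T_s0.le)

theorem nt_c19_mem : Net.toPerm 24 p_g189 ∈ (grp 24 EG) :=
  nt_c19_le (toPerm_mem_grp (E := nt_c19_K) (List.Mem.head _))

theorem nt_c19_sym : Sym 24 (grp 24 EG) [p_g189] nt_c19_K 0 :=
  Sym.of_lab p_hn p_hk (okE_cons.2 ⟨p_g189_ok, okE_nil _⟩) nt_c19_K_ok nt_c19_le (kT := 0) (by decide +kernel)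

noncomputable def nt_c19_cnt_L : List ℕ := [0, 1, T_s0_O, 0, 0, 5, 9, T_s5_O, 1, 0]

theorem nt_c19_cnt_P : Prob 24 5 (grp 24 EG) nt_c19_cnt_EG [p_g189] [p_g189] nt_c19_K nt_c19_cnt_L 0 0 :=
  Sym.prob p_hn p_hk nt_c19_sym nt_c19_cnt_EG_ok (grp_cons_le p_g82_T (grp_cons_le p_g83_T (grp_cons_le p_g81_T (grp_cons_le p_g80_T (grp_cons_le p_g79_T (grp_cons_le p_g22_T (grp_cons_le p_g1_T (grp_cons_le p_g2_T (grp_cons_le p_g29_T (grp_cons_le p_g25_T (grp_cons_le p_g26_T (grp_cons_le p_g36_T (grp_cons_le p_g32_T (grp_cons_le p_g42_T (grp_cons_le p_g33_T (grp_cons_le p_g39_T (grp_cons_le p_g50_T (grp_cons_le p_g45_T (grp_cons_le p_g46_T (grp_cons_le p_g47_T (grp_cons_le p_g59_T (grp_cons_le p_g60_T (grp_cons_le p_g61_T (grp_cons_le p_g62_T (grp_cons_le p_g53_T (grp_cons_le p_g54_T (grp_cons_le p_g55_T (grp_cons_le p_g56_T (grp_nil_le _)))))))))))))))))))))))))))))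 (Frames.cons T_s0_F (Frames.cons T_s5_F Frames.nil)) (okE_cons.2 ⟨p_g189_ok, okE_nil _⟩) _

noncomputable def nt_c19_cnt_t : BT := (BT.frm (nat_lit 0) (nat_lit 0) (nat_lit 0) [] (BT.pln (nat_lit 0) (nat_lit 0) (BT.dif (nat_lit 4) (nat_lit 0) (BT.fix (nat_lit 0x1010101010101) (BT.dif (nat_lit 1) (nat_lit 0) (BT.br (nat_lit 0) (nat_lit 22) [nat_lit 1] (BT.kid (nat_lit 22) (nat_lit 1) (BT.img (nat_lit 1) (nat_lit 0) (BT.img (nat_lit 1) (nat_lit 0) (BT.img (nat_lit 1) (nat_lit 0) (BT.fix (nat_lit 1) (BT.one (nat_lit 1) (nat_lit 0x5010808060908090b0e) (nat_lit 0x5010808060908090b0e) [nat_lit 1, nat_lit 2, nat_lit 3, nat_lit 4, nat_lit 0]))))) BT.nil)))))))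

theorem nt_c19_cnt : Cnt 24 (grp 24 EG) [p_g189] [p_g189] 0 0 0 0 14 :=
  BT.sound nt_c19_cnt_P Known.nil (t := nt_c19_cnt_t) (d := 0) (by decide +kernel)

theorem nt_c19_ge : 14 ≤ Nat.card (grp 24 nt_c19_K) :=
  Ch.le_card_grp (k := 5) (L := (lab 24 5)) p_hn nt_c19_K_ok (c := (Ch.cons (nat_lit 22) [nat_lit 1] Ch.nil)) (by decide +kernel)

theorem nt_c19_eq : (grp 24 EG) ⊓ Subgroup.centralizer {Net.toPerm 24 p_g189} = grp 24 nt_c19_K :=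
  cent_eq nt_c19_sym nt_c19_cnt nt_c19_ge

theorem nt_c19_card : Nat.card ↥((grp 24 EG) ⊓ Subgroup.centralizer {Net.toPerm 24 p_g189}) = 14 :=
  card_cent nt_c19_sym nt_c19_cnt nt_c19_ge

theorem nt_c19_ord : orderOf (Net.toPerm 24 p_g189) = 14 :=
  orderOf_net p_hn p_hk p_g189_ok (by decide) (ps := [2, 7]) (by set_option linter.unusedSimpArgs false in simp [Nat.primeFactorsList_ofNat]) (by decide +kernel)

theorem p_le192 : grp 24 nt_c20_K ≤ grp 24 N_E0 :=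
  grp_le_of_memB p_hn p_hk N_E0_ok nt_c20_K_ok (ws := [nat_lit 0x2d11210d11081b01]) (by decide +kernel)

theorem nt_c20_le : grp 24 nt_c20_K ≤ (grp 24 EG) :=
  (p_le192.trans T_s0.le)

theorem nt_c20_mem : Net.toPerm 24 p_g191 ∈ (grp 24 EG) :=
  nt_c20_le (toPerm_mem_grp (E := nt_c20_K) (List.Mem.head _))

theorem nt_c20_sym : Sym 24 (grp 24 EG) [p_g191] nt_c20_K 0 :=
  Sym.of_lab p_hn p_hk (okE_cons.2 ⟨p_g191_ok, okE_nil _⟩) nt_c20_K_ok nt_c20_le (kT := 0) (by decide +kernel)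

noncomputable def nt_c20_cnt_L : List ℕ := [0, 1, T_s0_O, 0, 0, 5, 9, T_s5_O, 1, 0]

theorem nt_c20_cnt_P : Prob 24 5 (grp 24 EG) nt_c20_cnt_EG [p_g191] [p_g191] nt_c20_K nt_c20_cnt_L 0 0 :=
  Sym.prob p_hn p_hk nt_c20_sym nt_c20_cnt_EG_ok (grp_cons_le p_g82_T (grp_cons_le p_g83_T (grp_cons_le p_g81_T (grp_cons_le p_g80_T (grp_cons_le p_g79_T (grp_cons_le p_g22_T (grp_cons_le p_g1_T (grp_cons_le p_g2_T (grp_cons_le p_g29_T (grp_cons_le p_g25_T (grp_cons_le p_g26_T (grp_cons_le p_g36_T (grp_cons_le p_g32_T (grp_cons_le p_g42_T (grp_cons_le p_g33_T (grp_cons_le p_g39_T (grp_cons_le p_g50_T (grp_cons_le p_g45_T (grp_cons_le p_g46_T (grp_cons_le p_g47_T (grp_cons_le p_g59_T (grp_cons_le p_g60_T (grp_cons_le p_g61_T (grp_cons_le p_g62_T (grp_cons_le p_g53_T (grp_cons_le p_g54_T (grp_cons_le p_g55_T (grp_cons_le p_g56_T (grp_nil_le _)))))))))))))))))))))))))))))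 (Frames.cons T_s0_F (Frames.cons T_s5_F Frames.nil)) (okE_cons.2 ⟨p_g191_ok, okE_nil _⟩) _

noncomputable def nt_c20_cnt_t : BT := (BT.frm (nat_lit 0) (nat_lit 0) (nat_lit 0) [] (BT.pln (nat_lit 0) (nat_lit 0) (BT.dif (nat_lit 4) (nat_lit 0) (BT.fix (nat_lit 0x1010101010101) (BT.dif (nat_lit 1) (nat_lit 0) (BT.br (nat_lit 0) (nat_lit 22) [nat_lit 1] (BT.kid (nat_lit 22) (nat_lit 1) (BT.img (nat_lit 1) (nat_lit 0) (BT.img (nat_lit 1) (nat_lit 0) (BT.img (nat_lit 1) (nat_lit 0) (BT.fix (nat_lit 1) (BT.one (nat_lit 1) (nat_lit 0x2050306020808010908090b0e) (nat_lit 0x2050306020808010908090b0e) [nat_lit 1, nat_lit 2, nat_lit 3, nat_lit 4, nat_lit 0]))))) BT.nil)))))))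

theorem nt_c20_cnt : Cnt 24 (grp 24 EG) [p_g191] [p_g191] 0 0 0 0 14 :=
  BT.sound nt_c20_cnt_P Known.nil (t := nt_c20_cnt_t) (d := 0) (by decide +kernel)

theorem nt_c20_ge : 14 ≤ Nat.card (grp 24 nt_c20_K) :=
  Ch.le_card_grp (k := 5) (L := (lab 24 5)) p_hn nt_c20_K_ok (c := (Ch.cons (nat_lit 22) [nat_lit 1] Ch.nil)) (by decide +kernel)

theorem nt_c20_eq : (grp 24 EG) ⊓ Subgroup.centralizer {Net.toPerm 24 p_g191} = grp 24 nt_c20_K :=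
  cent_eq nt_c20_sym nt_c20_cnt nt_c20_ge

theorem nt_c20_card : Nat.card ↥((grp 24 EG) ⊓ Subgroup.centralizer {Net.toPerm 24 p_g191}) = 14 :=
  card_cent nt_c20_sym nt_c20_cnt nt_c20_ge

theorem nt_c20_ord : orderOf (Net.toPerm 24 p_g191) = 14 :=
  orderOf_net p_hn p_hk p_g191_ok (by decide) (ps := [2, 7]) (by set_option linter.unusedSimpArgs false in simp [Nat.primeFactorsList_ofNat]) (by decide +kernel)

noncomputable def nt_xs : List Net := [Net.nil, p_g90, p_g104, p_g113, p_g122, p_g131, p_g137, p_g150, p_g157, p_g162, p_g165, p_g169, p_g172, p_g174, p_g176, p_g179, p_g182, p_g185, p_g187, p_g189, p_g191]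

noncomputable def nt_cs : List ℕ := [887040, 2688, 768, 640, 72, 96, 64, 64, 32, 10, 24, 12, 14, 14, 16, 16, 10, 11, 12, 14, 14]

noncomputable def nt_os : List ℕ := [1, 2, 2, 2, 3, 4, 4, 4, 4, 5, 6, 6, 7, 7, 8, 8, 10, 11, 12, 14, 14]

theorem nt_reps : Reps 24 (grp 24 EG) nt_xs nt_cs nt_os :=
  (Reps.cons rfl (one_mem _) (card_cent_nil N_card) orderOf_one (Reps.cons p_g90_ok nt_c1_mem nt_c1_card nt_c1_ord (Reps.cons p_g104_ok nt_c2_mem nt_c2_card nt_c2_ord (Reps.cons p_g113_ok nt_c3_mem nt_c3_card nt_c3_ord (Reps.cons p_g122_ok nt_c4_mem nt_c4_card nt_c4_ord (Reps.cons p_g131_ok nt_c5_mem nt_c5_card nt_c5_ord (Reps.cons p_g137_ok nt_c6_mem nt_c6_card nt_c6_ord (Reps.cons p_g150_ok nt_c7_mem nt_c7_card nt_c7_ord (Reps.cons p_g157_ok nt_c8_mem nt_c8_card nt_c8_ord (Reps.cons p_g162_ok nt_c9_mem nt_c9_card nt_c9_ord (Reps.cons p_g165_ok nt_c10_mem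 nt_c10_card nt_c10_ord (Reps.cons p_g169_ok nt_c11_mem nt_c11_card nt_c11_ord (Reps.cons p_g172_ok nt_c12_mem nt_c12_card nt_c12_ord (Reps.cons p_g174_ok nt_c13_mem nt_c13_card nt_c13_ord (Reps.cons p_g176_ok nt_c14_mem nt_c14_card nt_c14_ord (Reps.cons p_g179_ok nt_c15_mem nt_c15_card nt_c15_ord (Reps.cons p_g182_ok nt_c16_mem nt_c16_card nt_c16_ord (Reps.cons p_g185_ok nt_c17_mem nt_c17_card nt_c17_ord (Reps.cons p_g187_ok nt_c18_mem nt_c18_card nt_c18_ord (Reps.cons p_g189_ok nt_c19_mem nt_c19_card nt_c19_ord (Reps.cons p_g191_ok nt_c20_mem nt_c20_card nt_c20_ord Reps.nil)))))))))))))))))))))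

noncomputable def nt_nc7_6_cnt_L : List ℕ := [0, 1, T_s0_O, 0, 0]

theorem nt_nc7_6_cnt_P : Prob 24 5 (grp 24 EG) nt_nc7_6_cnt_EG [p_g150] [p_g137] nt_c6_K nt_nc7_6_cnt_L 0 0 :=
  Sym.prob p_hn p_hk nt_c6_sym nt_nc7_6_cnt_EG_ok (grp_nil_le _) (Frames.cons T_s0_F Frames.nil) (okE_cons.2 ⟨p_g150_ok, okE_nil _⟩) _

noncomputable def nt_nc7_6_cnt_t : BT := (BT.frm (nat_lit 0) (nat_lit 0) (nat_lit 0) [] (BT.pln (nat_lit 0) (nat_lit 0) (BT.fix (nat_lit 1) (BT.and (nat_lit 1) (nat_lit 0) (BT.cnt (nat_lit 0))))))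

theorem nt_nc7_6_cnt : Cnt 24 (grp 24 EG) [p_g150] [p_g137] 0 0 0 0 0 :=
  BT.sound nt_nc7_6_cnt_P Known.nil (t := nt_nc7_6_cnt_t) (d := 0) (by decide +kernel)

theorem nt_nc7_6 : ¬ CjIn (grp 24 EG) (Net.toPerm 24 p_g150) (Net.toPerm 24 p_g137) :=
  not_cjIn nt_nc7_6_cnt

noncomputable def nt_nc13_12_cnt_L : List ℕ := [0, 1, T_s0_O, 0, 0, 3, 5, T_s3_O, 0, 0]

theorem nt_nc13_12_cnt_P : Prob 24 5 (grp 24 EG) nt_nc13_12_cnt_EG [p_g174] [p_g172] nt_c12_K nt_nc13_12_cnt_L 0 0 :=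
  Sym.prob p_hn p_hk nt_c12_sym nt_nc13_12_cnt_EG_ok (grp_cons_le p_g80_T (grp_cons_le p_g81_T (grp_cons_le p_g82_T (grp_cons_le p_g83_T (grp_cons_le p_g79_T (grp_cons_le p_g22_T (grp_cons_le p_g1_T (grp_cons_le p_g2_T (grp_cons_le p_g29_T (grp_cons_le p_g25_T (grp_cons_le p_g26_T (grp_cons_le p_g36_T (grp_cons_le p_g32_T (grp_cons_le p_g42_T (grp_cons_le p_g33_T (grp_cons_le p_g39_T (grp_cons_le p_g50_T (grp_cons_le p_g45_T (grp_cons_le p_g46_T (grp_cons_le p_g47_T (grp_cons_le p_g59_T (grp_cons_le p_g60_T (grp_cons_le p_g61_T (grp_cons_le p_g62_T (grp_cons_le p_g53_T (grp_cons_le p_g54_T (grp_cons_le p_g55_T (grp_cons_le p_g56_T (grp_nil_le _))))))))))))))))))))))))))))) (Frames.cons T_s0_F (Frames.cons T_s3_F Frames.nil)) (okE_cons.2 ⟨p_g174_ok, okE_nil _⟩) _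

noncomputable def nt_nc13_12_cnt_t : BT := (BT.fix (nat_lit 1) (BT.dif (nat_lit 3) (nat_lit 0) (BT.br (nat_lit 0) (nat_lit 21) [nat_lit 1, nat_lit 3] (BT.dead (nat_lit 21) (BT.img (nat_lit 1) (nat_lit 0) (BT.frm (nat_lit 0) (nat_lit 0) (nat_lit 0) [] (BT.pln (nat_lit 0) (nat_lit 0) (BT.dif (nat_lit 5) (nat_lit 0) (BT.frm (nat_lit 1) (nat_lit 0x10509030b0e) (nat_lit 0x1010409030b0e) [nat_lit 3, nat_lit 4, nat_lit 0] (BT.pln (nat_lit 0) (nat_lit 3) (BT.img (nat_lit 1) (nat_lit 5) (BT.img (nat_lit 1) (nat_lit 0) (BT.and (nat_lit 2) (nat_lit 0) (BT.cnt (nat_lit 0))))))))))) (BT.dead (nat_lit 1) (BT.img (nat_lit 1) (nat_lit 0) (BT.frm (nat_lit 0) (nat_lit 0) (nat_lit 0) [] (BT.pln (nat_lit 0) (nat_lit 0) (BT.dif (nat_lit 5) (nat_lit 0) (BT.frm (nat_lit 1) (nat_lit 0x10509030b0e) (nat_lit 592654) [nat_lit 3, nat_lit 4, nat_lit 0] (BT.pln (nat_lit 0) (nat_lit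 3) (BT.img (nat_lit 1) (nat_lit 5) (BT.img (nat_lit 1) (nat_lit 0) (BT.and (nat_lit 2) (nat_lit 0) (BT.cnt (nat_lit 0))))))))))) BT.nil)))))

theorem nt_nc13_12_cnt : Cnt 24 (grp 24 EG) [p_g174] [p_g172] 0 0 0 0 0 :=
  BT.sound nt_nc13_12_cnt_P Known.nil (t := nt_nc13_12_cnt_t) (d := 0) (by decide +kernel)

theorem nt_nc13_12 : ¬ CjIn (grp 24 EG) (Net.toPerm 24 p_g174) (Net.toPerm 24 p_g172) :=
  not_cjIn nt_nc13_12_cnt

noncomputable def nt_nc15_14_cnt_L : List ℕ := [0, 1, T_s0_O, 0, 0]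

theorem nt_nc15_14_cnt_P : Prob 24 5 (grp 24 EG) nt_nc15_14_cnt_EG [p_g179] [p_g176] nt_c14_K nt_nc15_14_cnt_L 0 0 :=
  Sym.prob p_hn p_hk nt_c14_sym nt_nc15_14_cnt_EG_ok (grp_nil_le _) (Frames.cons T_s0_F Frames.nil) (okE_cons.2 ⟨p_g179_ok, okE_nil _⟩) _

noncomputable def nt_nc15_14_cnt_t : BT := (BT.frm (nat_lit 0) (nat_lit 0) (nat_lit 0) [] (BT.pln (nat_lit 0) (nat_lit 0) (BT.fix (nat_lit 1) (BT.and (nat_lit 1) (nat_lit 0) (BT.cnt (nat_lit 0))))))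

theorem nt_nc15_14_cnt : Cnt 24 (grp 24 EG) [p_g179] [p_g176] 0 0 0 0 0 :=
  BT.sound nt_nc15_14_cnt_P Known.nil (t := nt_nc15_14_cnt_t) (d := 0) (by decide +kernel)

theorem nt_nc15_14 : ¬ CjIn (grp 24 EG) (Net.toPerm 24 p_g179) (Net.toPerm 24 p_g176) :=
  not_cjIn nt_nc15_14_cnt

noncomputable def nt_nc20_19_cnt_L : List ℕ := [0, 1, T_s0_O, 0, 0, 3, 5, T_s3_O, 0, 0]

theorem nt_nc20_19_cnt_P : Prob 24 5 (grp 24 EG) nt_nc20_19_cnt_EG [p_g191] [p_g189] nt_c19_K nt_nc20_19_cnt_L 0 0 :=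
  Sym.prob p_hn p_hk nt_c19_sym nt_nc20_19_cnt_EG_ok (grp_cons_le p_g80_T (grp_cons_le p_g81_T (grp_cons_le p_g82_T (grp_cons_le p_g83_T (grp_cons_le p_g79_T (grp_cons_le p_g22_T (grp_cons_le p_g1_T (grp_cons_le p_g2_T (grp_cons_le p_g29_T (grp_cons_le p_g25_T (grp_cons_le p_g26_T (grp_cons_le p_g36_T (grp_cons_le p_g32_T (grp_cons_le p_g42_T (grp_cons_le p_g33_T (grp_cons_le p_g39_T (grp_cons_le p_g50_T (grp_cons_le p_g45_T (grp_cons_le p_g46_T (grp_cons_le p_g47_T (grp_cons_le p_g59_T (grp_cons_le p_g60_T (grp_cons_le p_g61_T (grp_cons_le p_g62_T (grp_cons_le p_g53_T (grp_cons_le p_g54_T (grp_cons_le p_g55_T (grp_cons_le p_g56_T (grp_nil_le _))))))))))))))))))))))))))))) (Frames.cons T_s0_F (Frames.cons T_s3_F Frames.nil)) (okE_cons.2 ⟨p_g191_ok, okE_nil _⟩) _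

noncomputable def nt_nc20_19_cnt_t : BT := (BT.frm (nat_lit 0) (nat_lit 0) (nat_lit 0) [] (BT.pln (nat_lit 0) (nat_lit 0) (BT.dif (nat_lit 4) (nat_lit 0) (BT.fix (nat_lit 0x1010101010101) (BT.dif (nat_lit 1) (nat_lit 0) (BT.br (nat_lit 0) (nat_lit 22) [nat_lit 1] (BT.dead (nat_lit 22) (BT.img (nat_lit 1) (nat_lit 0) (BT.fix (nat_lit 1) (BT.frm (nat_lit 1) (nat_lit 0x202050902090b0e) (nat_lit 0x202040902090b0e) [nat_lit 1, nat_lit 2, nat_lit 0] (BT.pln (nat_lit 0) (nat_lit 3) (BT.img (nat_lit 1) (nat_lit 3) (BT.img (nat_lit 1) (nat_lit 0) (BT.img (nat_lit 1) (nat_lit 0) (BT.and (nat_lit 3) (nat_lit 0) (BT.cnt (nat_lit 0)))))))))) BT.nil)))))))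

theorem nt_nc20_19_cnt : Cnt 24 (grp 24 EG) [p_g191] [p_g189] 0 0 0 0 0 :=
  BT.sound nt_nc20_19_cnt_P Known.nil (t := nt_nc20_19_cnt_t) (d := 0) (by decide +kernel)

theorem nt_nc20_19 : ¬ CjIn (grp 24 EG) (Net.toPerm 24 p_g191) (Net.toPerm 24 p_g189) :=
  not_cjIn nt_nc20_19_cnt

theorem nt_exc : Exc 24 (grp 24 EG) nt_xs [20019, 15014, 13012, 7006] :=
  (Exc.cons 20 19 (by decide) nt_nc20_19 (Exc.cons 15 14 (by decide) nt_nc15_14 (Exc.cons 13 12 (by decide) nt_nc13_12 (Exc.cons 7 6 (by decide) nt_nc7_6 Exc.nil))))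

theorem nt : Table 24 (grp 24 EG) nt_xs nt_cs nt_os :=
  Reps.table (D := 1) p_hn p_hk nt_reps nt_exc N_card (by decide +kernel)

theorem reps : ∀ σ ∈ (grp 24 EG), orderOf σ = 2 → ∃ t ∈ ({Net.toPerm 24 p_g90, Net.toPerm 24 p_g104, Net.toPerm 24 p_g113} : Set (Equiv.Perm (Fin 24))), CjIn (grp 24 EG) t σ :=
  fun σ hσ ho => by
  obtain ⟨i, hi, hc, h1, -⟩ := nt.exists hσ
  rw [ho] at h1
  rcases (by decide +kernel : ∀ i < nt_xs.length, 2 = nthN nt_os i → 1 = i ∨ 2 = i ∨ 3 = i) i hi h1 with rfl | rfl | rfl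
  · exact ⟨_, (.inl rfl), hc⟩
  · exact ⟨_, (.inr (.inl rfl)), hc⟩
  · exact ⟨_, (.inr (.inr rfl)), hc⟩

theorem ch1_le : grp 24 ch1_Q ≤ grp 24 nt_c1_K :=
  grp_le_of_memB p_hn p_hk nt_c1_K_ok ch1_Q_ok (ws := [nat_lit 0x70b0603070301, nat_lit 1801, nat_lit 0x5070906, nat_lit 0x90b0507030703]) (by decide +kernel)

theorem p_le198 : grp 24 p_V197 ≤ grp 24 ch1_Q :=
  grp_le_of_memB p_hn p_hk ch1_Q_ok p_V197_ok (ws := [nat_lit 1]) (by decide +kernel)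

theorem p_le201 : grp 24 p_V200 ≤ grp 24 ch1_Q :=
  grp_le_of_memB p_hn p_hk ch1_Q_ok p_V200_ok (ws := [nat_lit 0x50305070703020602, nat_lit 0x301010105020705010402, nat_lit 0x20502020301]) (by decide +kernel)

theorem p_le203 : grp 24 p_V202 ≤ grp 24 p_V200 :=
  grp_le_of_memB p_hn p_hk p_V200_ok p_V202_ok (ws := [nat_lit 261, nat_lit 1, nat_lit 3]) (by decide +kernel)

theorem ch1_o_card2 : Nat.card (grp 24 ch1_o_E2) = 1 :=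
  card_grp_nil 24

theorem ch1_o_leO2 : grp 24 ch1_o_E2 ≤ grp 24 ch1_Q :=
  grp_nil_le _

theorem ch1_o_1_fix : grp 24 ch1_o_E2 ≤ MulAction.stabilizer (Equiv.Perm (Fin 24)) (⟨2, by decide⟩ : Fin 24) :=
  grp_le_stab ch1_o_E2_ok (by decide : 2 < 24) (by decide +kernel)

noncomputable def ch1_o_1_ts : List ℕ := [nat_lit 0, nat_lit 1, nat_lit 3, nat_lit 5, nat_lit 259, nat_lit 261, nat_lit 773, nat_lit 66309]

noncomputable def ch1_o_1_ds : List ℕ := [nat_lit 2, nat_lit 7, nat_lit 21, nat_lit 13, nat_lit 6, nat_lit 15, nat_lit 17, nat_lit 18]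

theorem ch1_o_1_dist : Dist 24 ch1_o_E2 ch1_o_G1 (⟨2, by decide⟩ : Fin 24) ch1_o_1_ts ch1_o_1_ds :=
  dist_of_distB (k := 3) p_hn ch1_o_E2_ok ch1_o_G1_ok (by decide : 2 < 24) (by decide +kernel)

noncomputable def ch1_o_1_sl0 : SL := (SL.cons (nat_lit 1) (nat_lit 7) Ch.nil [] (SL.cons (nat_lit 3) (nat_lit 21) Ch.nil [] (SL.cons (nat_lit 5) (nat_lit 13) Ch.nil [] (SL.cons (nat_lit 259) (nat_lit 6) Ch.nil [] (SL.cons (nat_lit 261) (nat_lit 15) Ch.nil [] (SL.cons (nat_lit 773) (nat_lit 17) Ch.nil [] (SL.cons (nat_lit 66309) (nat_lit 18) Ch.nil [] SL.nil)))))))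

theorem ch1_o_1_sc0 : SCs 24 ch1_o_E2 ch1_o_G1 (⟨2, by decide⟩ : Fin 24) (SL.words ch1_o_1_sl0) :=
  scs_of_ok p_hn (det_lab p_hk ⊤) ch1_o_E2_ok ch1_o_G1_ok le_top le_top (by decide : 2 < 24) ch1_o_1_fix ch1_o_card2.le (by decide +kernel)

noncomputable def ch1_o_1_l : List ℕ := (appL (SL.words ch1_o_1_sl0) [])

theorem ch1_o_1_scs : SCs 24 ch1_o_E2 ch1_o_G1 (⟨2, by decide⟩ : Fin 24) ch1_o_1_l :=
  (SCs.append ch1_o_1_sc0 SCs.nil)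

noncomputable def ch1_o_1_rl0_0 : RL := (RL.cons (nat_lit 0) (nat_lit 2) (nat_lit 0) (nat_lit 0) (nat_lit 1) (nat_lit 0) (RL.cons (nat_lit 1) (nat_lit 7) (nat_lit 0) (nat_lit 0) (nat_lit 0) (nat_lit 0) (RL.cons (nat_lit 2) (nat_lit 21) (nat_lit 0) (nat_lit 0) (nat_lit 4) (nat_lit 0) (RL.cons (nat_lit 3) (nat_lit 13) (nat_lit 0) (nat_lit 0) (nat_lit 5) (nat_lit 0) (RL.cons (nat_lit 4) (nat_lit 6) (nat_lit 0) (nat_lit 0) (nat_lit 2) (nat_lit 0) (RL.cons (nat_lit 5) (nat_lit 15) (nat_lit 0) (nat_lit 0) (nat_lit 3) (nat_lit 0) (RL.cons (nat_lit 6) (nat_lit 17) (nat_lit 0) (nat_lit 0) (nat_lit 7) (nat_lit 0) (RL.cons (nat_lit 7) (nat_lit 18) (nat_lit 0) (nat_lit 0) (nat_lit 6) (nat_lit 0) RL.nil))))))))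

theorem ch1_o_1_good0_0 : GoodSet 24 ch1_o_E2 ch1_o_G1 (⟨2, by decide⟩ : Fin 24) ch1_o_1_ts (nat_lit 1) (RL.pts ch1_o_1_rl0_0) :=
  goodSet_of_ok p_hn (det_lab p_hk ⊤) ch1_o_E2_ok ch1_o_G1_ok le_top le_top (by decide : 2 < 24) (sepAt_lab p_hk _) (by decide +kernel)

theorem ch1_o_1_step0 : Step 24 ch1_o_E2 ch1_o_G1 ch1_o_1_ts (2 * 0 + 1) :=
  step_of_cover ch1_o_E2_ok ch1_o_1_dist (by decide +kernel) ch1_o_1_scs (by decide +kernel) ch1_o_1_good0_0 (kw := [])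
    (conj_mem_of_scs ch1_o_E2_ok ch1_o_G1_ok (by decide : 2 < 24) ch1_o_1_scs (c := 0) (d := 7) (by decide +kernel)) (by decide +kernel)

noncomputable def ch1_o_1_rl1_0 : RL := (RL.cons (nat_lit 0) (nat_lit 2) (nat_lit 0) (nat_lit 0) (nat_lit 2) (nat_lit 0) (RL.cons (nat_lit 1) (nat_lit 7) (nat_lit 0) (nat_lit 0) (nat_lit 4) (nat_lit 0) (RL.cons (nat_lit 2) (nat_lit 21) (nat_lit 0) (nat_lit 0) (nat_lit 0) (nat_lit 0) (RL.cons (nat_lit 3) (nat_lit 13) (nat_lit 0) (nat_lit 0) (nat_lit 6) (nat_lit 0) (RL.cons (nat_lit 4) (nat_lit 6) (nat_lit 0) (nat_lit 0) (nat_lit 1) (nat_lit 0) (RL.cons (nat_lit 5) (nat_lit 15) (nat_lit 0) (nat_lit 0) (nat_lit 7) (nat_lit 0) (RL.cons (nat_lit 6) (nat_lit 17) (nat_lit 0) (nat_lit 0) (nat_lit 3) (nat_lit 0) (RL.cons (nat_lit 7) (nat_lit 18) (nat_lit 0) (nat_lit 0) (nat_lit 5) (nat_lit 0) RL.nil))))))))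

theorem ch1_o_1_good1_0 : GoodSet 24 ch1_o_E2 ch1_o_G1 (⟨2, by decide⟩ : Fin 24) ch1_o_1_ts (nat_lit 3) (RL.pts ch1_o_1_rl1_0) :=
  goodSet_of_ok p_hn (det_lab p_hk ⊤) ch1_o_E2_ok ch1_o_G1_ok le_top le_top (by decide : 2 < 24) (sepAt_lab p_hk _) (by decide +kernel)

theorem ch1_o_1_step1 : Step 24 ch1_o_E2 ch1_o_G1 ch1_o_1_ts (2 * 1 + 1) :=
  step_of_cover ch1_o_E2_ok ch1_o_1_dist (by decide +kernel) ch1_o_1_scs (by decide +kernel) ch1_o_1_good1_0 (kw := [])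
    (conj_mem_of_scs ch1_o_E2_ok ch1_o_G1_ok (by decide : 2 < 24) ch1_o_1_scs (c := 1) (d := 21) (by decide +kernel)) (by decide +kernel)

noncomputable def ch1_o_1_rl2_0 : RL := (RL.cons (nat_lit 0) (nat_lit 2) (nat_lit 0) (nat_lit 0) (nat_lit 3) (nat_lit 0) (RL.cons (nat_lit 1) (nat_lit 7) (nat_lit 0) (nat_lit 0) (nat_lit 5) (nat_lit 0) (RL.cons (nat_lit 2) (nat_lit 21) (nat_lit 0) (nat_lit 0) (nat_lit 6) (nat_lit 0) (RL.cons (nat_lit 3) (nat_lit 13) (nat_lit 0) (nat_lit 0) (nat_lit 0) (nat_lit 0) (RL.cons (nat_lit 4) (nat_lit 6) (nat_lit 0) (nat_lit 0) (nat_lit 7) (nat_lit 0) (RL.cons (nat_lit 5) (nat_lit 15) (nat_lit 0) (nat_lit 0) (nat_lit 1) (nat_lit 0) (RL.cons (nat_lit 6) (nat_lit 17) (nat_lit 0) (nat_lit 0) (nat_lit 2) (nat_lit 0) (RL.cons (nat_lit 7) (nat_lit 18) (nat_lit 0) (nat_lit 0) (nat_lit 4) (nat_lit 0) RL.nil))))))))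

theorem ch1_o_1_good2_0 : GoodSet 24 ch1_o_E2 ch1_o_G1 (⟨2, by decide⟩ : Fin 24) ch1_o_1_ts (nat_lit 5) (RL.pts ch1_o_1_rl2_0) :=
  goodSet_of_ok p_hn (det_lab p_hk ⊤) ch1_o_E2_ok ch1_o_G1_ok le_top le_top (by decide : 2 < 24) (sepAt_lab p_hk _) (by decide +kernel)

theorem ch1_o_1_step2 : Step 24 ch1_o_E2 ch1_o_G1 ch1_o_1_ts (2 * 2 + 1) :=
  step_of_cover ch1_o_E2_ok ch1_o_1_dist (by decide +kernel) ch1_o_1_scs (by decide +kernel) ch1_o_1_good2_0 (kw := [])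
    (conj_mem_of_scs ch1_o_E2_ok ch1_o_G1_ok (by decide : 2 < 24) ch1_o_1_scs (c := 2) (d := 13) (by decide +kernel)) (by decide +kernel)

theorem ch1_o_1_lev : grp 24 ch1_o_G1 ⊓ MulAction.stabilizer (Equiv.Perm (Fin 24)) (⟨2, by decide⟩ : Fin 24) = grp 24 ch1_o_E2 :=
  sims_level (gs := p_V202) rfl (by decide) ch1_o_1_fix ch1_o_1_dist (forall_lt_succ' (forall_lt_succ' (forall_lt_one ch1_o_1_step0) ch1_o_1_step1) ch1_o_1_step2)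

theorem ch1_o_1_cardG : Nat.card (grp 24 ch1_o_G1) = 8 :=
  card_of_level p_hn ch1_o_G1_ok (by decide : 2 < 24) ch1_o_1_lev ch1_o_card2 (m := 8) (by decide +kernel)

theorem p_le204 : grp 24 ch1_o_E1 ≤ grp 24 ch1_o_G1 :=
  grp_le_of_memB p_hn p_hk ch1_o_G1_ok ch1_o_E1_ok (ws := [nat_lit 1, nat_lit 3, nat_lit 5, nat_lit 259]) (by decide +kernel)

theorem p_le205 : grp 24 ch1_o_G1 ≤ grp 24 ch1_o_E1 :=
  grp_le_of_memB p_hn p_hk ch1_o_E1_ok ch1_o_G1_ok (ws := [nat_lit 1, nat_lit 3, nat_lit 5]) (by decide +kernel)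

theorem ch1_o_1_eq : grp 24 ch1_o_E1 = grp 24 ch1_o_G1 :=
  le_antisymm p_le204 p_le205

theorem ch1_o_card1 : Nat.card (grp 24 ch1_o_E1) = 8 :=
  by rw [ch1_o_1_eq]; exact ch1_o_1_cardG

theorem ch1_o_stab1 : grp 24 ch1_o_E1 ⊓ MulAction.stabilizer (Equiv.Perm (Fin 24)) (⟨2, by decide⟩ : Fin 24) = grp 24 ch1_o_E2 :=
  by rw [ch1_o_1_eq]; exact ch1_o_1_lev

theorem ch1_o_leO1 : grp 24 ch1_o_E1 ≤ grp 24 ch1_Q :=
  ch1_o_1_eq.le.trans (grp_cons_le ((p_le201.trans (le_refl (grp 24 ch1_Q))) (p_le203 (toPerm_mem_grp (E := p_V202) (by simp [p_V202])))) (grp_cons_le ((p_le201.trans (le_refl (grp 24 ch1_Q))) (p_le203 (toPerm_mem_grp (E := p_V202) (by simp [p_V202])))) (grp_cons_le ((p_le201.trans (le_refl (grp 24 ch1_Q))) (p_le203 (toPerm_mem_grp (E := p_V202) (by simp [p_V202])))) ch1_o_leO2)))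

theorem ch1_o_0_fix : grp 24 ch1_o_E1 ≤ MulAction.stabilizer (Equiv.Perm (Fin 24)) (⟨0, by decide⟩ : Fin 24) :=
  grp_le_stab ch1_o_E1_ok (by decide : 0 < 24) (by decide +kernel)

noncomputable def ch1_o_0_ts : List ℕ := [nat_lit 0, nat_lit 1]

noncomputable def ch1_o_0_ds : List ℕ := [nat_lit 0, nat_lit 23]

theorem ch1_o_0_dist : Dist 24 ch1_o_E1 ch1_o_G0 (⟨0, by decide⟩ : Fin 24) ch1_o_0_ts ch1_o_0_ds :=
  dist_of_distB (k := 1) p_hn ch1_o_E1_ok ch1_o_G0_ok (by decide : 0 < 24) (by decide +kernel)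

noncomputable def ch1_o_0_sl0 : SL := (SL.cons (nat_lit 1) (nat_lit 23) (Ch.cons (nat_lit 2) [nat_lit 1, nat_lit 7, nat_lit 5] Ch.nil) [nat_lit 1, nat_lit 7, nat_lit 5] SL.nil)

theorem ch1_o_0_sc0 : SCs 24 ch1_o_E1 ch1_o_G0 (⟨0, by decide⟩ : Fin 24) (SL.words ch1_o_0_sl0) :=
  scs_of_ok p_hn (det_lab p_hk ⊤) ch1_o_E1_ok ch1_o_G0_ok le_top le_top (by decide : 0 < 24) ch1_o_0_fix ch1_o_card1.le (by decide +kernel)

noncomputable def ch1_o_0_l : List ℕ := (appL (SL.words ch1_o_0_sl0) [])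

theorem ch1_o_0_scs : SCs 24 ch1_o_E1 ch1_o_G0 (⟨0, by decide⟩ : Fin 24) ch1_o_0_l :=
  (SCs.append ch1_o_0_sc0 SCs.nil)

noncomputable def ch1_o_0_rl0_0 : RL := (RL.cons (nat_lit 0) (nat_lit 0) (nat_lit 0) (nat_lit 0) (nat_lit 1) (nat_lit 0) (RL.cons (nat_lit 1) (nat_lit 23) (nat_lit 0) (nat_lit 0) (nat_lit 0) (nat_lit 0) RL.nil))

theorem ch1_o_0_good0_0 : GoodSet 24 ch1_o_E1 ch1_o_G0 (⟨0, by decide⟩ : Fin 24) ch1_o_0_ts (nat_lit 1) (RL.pts ch1_o_0_rl0_0) :=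
  goodSet_of_ok p_hn (det_lab p_hk ⊤) ch1_o_E1_ok ch1_o_G0_ok le_top le_top (by decide : 0 < 24) (sepAt_lab p_hk _) (by decide +kernel)

theorem ch1_o_0_step0 : Step 24 ch1_o_E1 ch1_o_G0 ch1_o_0_ts (2 * 0 + 1) :=
  step_of_cover ch1_o_E1_ok ch1_o_0_dist (by decide +kernel) ch1_o_0_scs (by decide +kernel) ch1_o_0_good0_0 (kw := [nat_lit 1, nat_lit 7, nat_lit 5])
    (conj_mem_of_scs ch1_o_E1_ok ch1_o_G0_ok (by decide : 0 < 24) ch1_o_0_scs (c := 0) (d := 23) (by decide +kernel)) (by decide +kernel)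

theorem ch1_o_0_lev : grp 24 ch1_o_G0 ⊓ MulAction.stabilizer (Equiv.Perm (Fin 24)) (⟨0, by decide⟩ : Fin 24) = grp 24 ch1_o_E1 :=
  sims_level (gs := p_V197) rfl (by decide) ch1_o_0_fix ch1_o_0_dist (forall_lt_one ch1_o_0_step0)

theorem ch1_o_0_cardG : Nat.card (grp 24 ch1_o_G0) = 16 :=
  card_of_level p_hn ch1_o_G0_ok (by decide : 0 < 24) ch1_o_0_lev ch1_o_card1 (m := 2) (by decide +kernel)

theorem p_le206 : grp 24 ch1_o_E0 ≤ grp 24 ch1_o_G0 :=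
  grp_le_of_memB p_hn p_hk ch1_o_G0_ok ch1_o_E0_ok (ws := [nat_lit 1, nat_lit 3, nat_lit 5, nat_lit 7, nat_lit 9]) (by decide +kernel)

theorem p_le207 : grp 24 ch1_o_G0 ≤ grp 24 ch1_o_E0 :=
  grp_le_of_memB p_hn p_hk ch1_o_E0_ok ch1_o_G0_ok (ws := [nat_lit 1, nat_lit 3, nat_lit 5, nat_lit 7, nat_lit 9]) (by decide +kernel)

theorem ch1_o_0_eq : grp 24 ch1_o_E0 = grp 24 ch1_o_G0 :=
  le_antisymm p_le206 p_le207

theorem ch1_o_card0 : Nat.card (grp 24 ch1_o_E0) = 16 :=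
  by rw [ch1_o_0_eq]; exact ch1_o_0_cardG

theorem ch1_o_stab0 : grp 24 ch1_o_E0 ⊓ MulAction.stabilizer (Equiv.Perm (Fin 24)) (⟨0, by decide⟩ : Fin 24) = grp 24 ch1_o_E1 :=
  by rw [ch1_o_0_eq]; exact ch1_o_0_lev

theorem ch1_o_leO0 : grp 24 ch1_o_E0 ≤ grp 24 ch1_Q :=
  ch1_o_0_eq.le.trans (grp_cons_le ((le_refl (grp 24 ch1_Q)) (p_le198 (toPerm_mem_grp (E := p_V197) (by simp [p_V197])))) ch1_o_leO1)

theorem p_le208 : grp 24 ch1_Q ≤ grp 24 ch1_o_E0 :=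
  grp_le_of_memB p_hn p_hk ch1_o_E0_ok ch1_Q_ok (ws := [nat_lit 1, nat_lit 3, nat_lit 5, nat_lit 7]) (by decide +kernel)

theorem ch1_o_eq : grp 24 ch1_Q = grp 24 ch1_o_E0 :=
  le_antisymm p_le208 ch1_o_leO0

theorem ch1_o_card : Nat.card (grp 24 ch1_Q) = 16 :=
  by rw [ch1_o_eq]; exact ch1_o_card0

noncomputable def ch1_o_ch : Ch := (Ch.cons (nat_lit 0) [nat_lit 1] (Ch.cons (nat_lit 2) [nat_lit 3, nat_lit 5, nat_lit 7, nat_lit 9] Ch.nil))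

theorem ch1_o_exact : Ch.Exact 24 ch1_o_E0 ch1_o_ch (grp 24 ch1_o_E0) :=
  Ch.exact (k := 5) (L := (lab 24 5)) p_hn ch1_o_E0_ok (by decide +kernel) (wgrp_le_grp _ _ _) ch1_o_card0.le

theorem ch1_n : grp 24 nt_c1_K ≤ Subgroup.normalizer (grp 24 ch1_Q : Set (Equiv.Perm (Fin 24))) :=
  EvG.le_norm p_hn p_hk nt_c1_K_ok ch1_Q_ok ch1_o_E0_ok ch1_o_eq.ge (W := [[nat_lit 1281, nat_lit 9, nat_lit 3, nat_lit 1801], [nat_lit 461057, nat_lit 1287, nat_lit 5, nat_lit 1801], [nat_lit 1281, nat_lit 9, nat_lit 3, nat_lit 775], [nat_lit 1, nat_lit 3, nat_lit 5, nat_lit 775], [nat_lit 1, nat_lit 3, nat_lit 5, nat_lit 775], [nat_lit 1, nat_lit 3, nat_lit 9, nat_lit 7]]) (by decide +kernel)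

theorem ch1_x3 : Net.toPerm 24 p_g209 ∈ (grp 24 EG) ⊓ Subgroup.centralizer {Net.toPerm 24 p_g90} :=
  nt_c1_eq.ge (mem_grp_of_memB p_hn p_hk nt_c1_K_ok p_g209_ok (w := (nat_lit 0x90b050406)) (by decide +kernel))

theorem ch1_ord3 : orderOf (Net.toPerm 24 p_g209) = 3 :=
  orderOf_net p_hn p_hk p_g209_ok (by decide) (ps := [3]) (by set_option linter.unusedSimpArgs false in simp [Nat.primeFactorsList_ofNat]) (by decide +kernel)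

theorem ch1_x7 : Net.toPerm 24 p_g210 ∈ (grp 24 EG) ⊓ Subgroup.centralizer {Net.toPerm 24 p_g90} :=
  nt_c1_eq.ge (mem_grp_of_memB p_hn p_hk nt_c1_K_ok p_g210_ok (w := (nat_lit 0x70b05090305)) (by decide +kernel))

theorem ch1_ord7 : orderOf (Net.toPerm 24 p_g210) = 7 :=
  orderOf_net p_hn p_hk p_g210_ok (by decide) (ps := [7]) (by set_option linter.unusedSimpArgs false in simp [Nat.primeFactorsList_ofNat]) (by decide +kernel)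

theorem ch1 : IsOfCharacteristicTwo ↥((grp 24 EG) ⊓ Subgroup.centralizer {Net.toPerm 24 p_g90}) :=
  H44.Ki.charTwo_of_primes (ch1_le.trans nt_c1_eq.ge) (nt_c1_eq.le.trans ch1_n)
    (IsPGroup.of_card (n := 4) ch1_o_card) fun p hp hd => by
  rw [nt_c1_card] at hd ⊢
  have h := (Nat.mem_primeFactorsList (by norm_num)).2 ⟨hp, hd⟩
  simp [Nat.primeFactorsList_ofNat] at h
  rcases h with rfl | rfl | rfl
  · exact .inl rfl
  · exact .inr ⟨by norm_num, _, ch1_x3, ch1_ord3 ▸ pow_orderOf_eq_one _, _, (toPerm_mem_grp (E := ch1_Q) (List.Mem.head _)),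
      EvG.ncomm_net (k := 5) p_hn (by decide +kernel)⟩
  · exact .inr ⟨by norm_num, _, ch1_x7, ch1_ord7 ▸ pow_orderOf_eq_one _, _, (toPerm_mem_grp (E := ch1_Q) (List.Mem.head _)),
      EvG.ncomm_net (k := 5) p_hn (by decide +kernel)⟩

theorem ch2_le : grp 24 ch2_Q ≤ grp 24 nt_c2_K :=
  grp_le_of_memB p_hn p_hk nt_c2_K_ok ch2_Q_ok (ws := [nat_lit 11, nat_lit 0x90b0d0f050401, nat_lit 0x90b0f0507030701, nat_lit 0xb0d0f0507030701, nat_lit 722183]) (by decide +kernel)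

theorem p_le216 : grp 24 p_V215 ≤ grp 24 ch2_Q :=
  grp_le_of_memB p_hn p_hk ch2_Q_ok p_V215_ok (ws := [nat_lit 3]) (by decide +kernel)

theorem p_le221 : grp 24 p_V220 ≤ grp 24 ch2_Q :=
  grp_le_of_memB p_hn p_hk ch2_Q_ok p_V220_ok (ws := [nat_lit 0x409020604090702050904, nat_lit 0x50a050103090205, nat_lit 0x902060a030a]) (by decide +kernel)

theorem p_le223 : grp 24 p_V222 ≤ grp 24 p_V220 :=
  grp_le_of_memB p_hn p_hk p_V220_ok p_V222_ok (ws := [nat_lit 1]) (by decide +kernel)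

theorem p_le227 : grp 24 p_V226 ≤ grp 24 p_V220 :=
  grp_le_of_memB p_hn p_hk p_V220_ok p_V226_ok (ws := [nat_lit 1026, nat_lit 0x603050305010502, nat_lit 0x105030306020602]) (by decide +kernel)

theorem p_le229 : grp 24 p_V228 ≤ grp 24 p_V226 :=
  grp_le_of_memB p_hn p_hk p_V226_ok p_V228_ok (ws := [nat_lit 1]) (by decide +kernel)

theorem p_le234 : grp 24 p_V233 ≤ grp 24 p_V226 :=
  grp_le_of_memB p_hn p_hk p_V226_ok p_V233_ok (ws := [nat_lit 0x503060202050202, nat_lit 0x603030606, nat_lit 0x50503020303030105, nat_lit 0x50302050302060202]) (by decide +kernel)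

theorem p_le238 : grp 24 p_V237 ≤ grp 24 p_V233 :=
  grp_le_of_memB p_hn p_hk p_V233_ok p_V237_ok (ws := [nat_lit 261, nat_lit 197895, nat_lit 263, nat_lit 0x1030507]) (by decide +kernel)

theorem ch2_o_card4 : Nat.card (grp 24 ch2_o_E4) = 1 :=
  card_grp_nil 24

theorem ch2_o_leO4 : grp 24 ch2_o_E4 ≤ grp 24 ch2_Q :=
  grp_nil_le _

theorem ch2_o_3_fix : grp 24 ch2_o_E4 ≤ MulAction.stabilizer (Equiv.Perm (Fin 24)) (⟨1, by decide⟩ : Fin 24) :=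
  grp_le_stab ch2_o_E4_ok (by decide : 1 < 24) (by decide +kernel)

noncomputable def ch2_o_3_ts : List ℕ := [nat_lit 0, nat_lit 1, nat_lit 3, nat_lit 5, nat_lit 7, nat_lit 259, nat_lit 261, nat_lit 263, nat_lit 773, nat_lit 775, nat_lit 1287, nat_lit 66309, nat_lit 66311, nat_lit 66823, nat_lit 197895, nat_lit 0x1030507]

noncomputable def ch2_o_3_ds : List ℕ := [nat_lit 1, nat_lit 14, nat_lit 12, nat_lit 16, nat_lit 2, nat_lit 20, nat_lit 5, nat_lit 15, nat_lit 6, nat_lit 11, nat_lit 4, nat_lit 17, nat_lit 3, nat_lit 10, nat_lit 19, nat_lit 9]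

theorem ch2_o_3_dist : Dist 24 ch2_o_E4 ch2_o_G3 (⟨1, by decide⟩ : Fin 24) ch2_o_3_ts ch2_o_3_ds :=
  dist_of_distB (k := 4) p_hn ch2_o_E4_ok ch2_o_G3_ok (by decide : 1 < 24) (by decide +kernel)

noncomputable def ch2_o_3_sl0 : SL := (SL.cons (nat_lit 1) (nat_lit 14) Ch.nil [] (SL.cons (nat_lit 3) (nat_lit 12) Ch.nil [] (SL.cons (nat_lit 5) (nat_lit 16) Ch.nil [] (SL.cons (nat_lit 7) (nat_lit 2) Ch.nil [] (SL.cons (nat_lit 259) (nat_lit 20) Ch.nil [] (SL.cons (nat_lit 261) (nat_lit 5) Ch.nil [] (SL.cons (nat_lit 263) (nat_lit 15) Ch.nil [] (SL.cons (nat_lit 773) (nat_lit 6) Ch.nil [] (SL.cons (nat_lit 775) (nat_lit 11) Ch.nil [] (SL.cons (nat_lit 1287) (nat_lit 4) Ch.nil [] (SL.cons (nat_lit 66309) (nat_lit 17) Ch.nil [] (SL.cons (nat_lit 66311) (nat_lit 3) Ch.nil [] (SL.cons (nat_lit 66823) (nat_lit 10) Ch.nil [] (SL.cons (nat_lit 197895) (nat_lit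 19) Ch.nil [] (SL.cons (nat_lit 0x1030507) (nat_lit 9) Ch.nil [] SL.nil)))))))))))))))

theorem ch2_o_3_sc0 : SCs 24 ch2_o_E4 ch2_o_G3 (⟨1, by decide⟩ : Fin 24) (SL.words ch2_o_3_sl0) :=
  scs_of_ok p_hn (det_lab p_hk ⊤) ch2_o_E4_ok ch2_o_G3_ok le_top le_top (by decide : 1 < 24) ch2_o_3_fix ch2_o_card4.le (by decide +kernel)

noncomputable def ch2_o_3_l : List ℕ := (appL (SL.words ch2_o_3_sl0) [])

theorem ch2_o_3_scs : SCs 24 ch2_o_E4 ch2_o_G3 (⟨1, by decide⟩ : Fin 24) ch2_o_3_l :=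
  (SCs.append ch2_o_3_sc0 SCs.nil)

noncomputable def ch2_o_3_rl0_0 : RL := (RL.cons (nat_lit 0) (nat_lit 1) (nat_lit 0) (nat_lit 0) (nat_lit 1) (nat_lit 0) (RL.cons (nat_lit 1) (nat_lit 14) (nat_lit 0) (nat_lit 0) (nat_lit 0) (nat_lit 0) (RL.cons (nat_lit 2) (nat_lit 12) (nat_lit 0) (nat_lit 0) (nat_lit 5) (nat_lit 0) (RL.cons (nat_lit 3) (nat_lit 16) (nat_lit 0) (nat_lit 0) (nat_lit 6) (nat_lit 0) (RL.cons (nat_lit 4) (nat_lit 2) (nat_lit 0) (nat_lit 0) (nat_lit 7) (nat_lit 0) (RL.cons (nat_lit 5) (nat_lit 20) (nat_lit 0) (nat_lit 0) (nat_lit 2) (nat_lit 0) (RL.cons (nat_lit 6) (nat_lit 5) (nat_lit 0) (nat_lit 0) (nat_lit 3) (nat_lit 0) (RL.cons (nat_lit 7) (nat_lit 15) (nat_lit 0) (nat_lit 0) (nat_lit 4) (nat_lit 0) (RL.cons (nat_lit 8) (nat_lit 6) (nat_lit 0) (nat_lit 0) (nat_lit 11) (nat_lit 0) (RL.cons (nat_lit 9) (nat_lit 11) (nat_lit 0) (nat_lit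 0) (nat_lit 12) (nat_lit 0) (RL.cons (nat_lit 10) (nat_lit 4) (nat_lit 0) (nat_lit 0) (nat_lit 13) (nat_lit 0) (RL.cons (nat_lit 11) (nat_lit 17) (nat_lit 0) (nat_lit 0) (nat_lit 8) (nat_lit 0) (RL.cons (nat_lit 12) (nat_lit 3) (nat_lit 0) (nat_lit 0) (nat_lit 9) (nat_lit 0) (RL.cons (nat_lit 13) (nat_lit 10) (nat_lit 0) (nat_lit 0) (nat_lit 10) (nat_lit 0) (RL.cons (nat_lit 14) (nat_lit 19) (nat_lit 0) (nat_lit 0) (nat_lit 15) (nat_lit 0) (RL.cons (nat_lit 15) (nat_lit 9) (nat_lit 0) (nat_lit 0) (nat_lit 14) (nat_lit 0) RL.nil))))))))))))))))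

theorem ch2_o_3_good0_0 : GoodSet 24 ch2_o_E4 ch2_o_G3 (⟨1, by decide⟩ : Fin 24) ch2_o_3_ts (nat_lit 1) (RL.pts ch2_o_3_rl0_0) :=
  goodSet_of_ok p_hn (det_lab p_hk ⊤) ch2_o_E4_ok ch2_o_G3_ok le_top le_top (by decide : 1 < 24) (sepAt_lab p_hk _) (by decide +kernel)

theorem ch2_o_3_step0 : Step 24 ch2_o_E4 ch2_o_G3 ch2_o_3_ts (2 * 0 + 1) :=
  step_of_cover ch2_o_E4_ok ch2_o_3_dist (by decide +kernel) ch2_o_3_scs (by decide +kernel) ch2_o_3_good0_0 (kw := [])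
    (conj_mem_of_scs ch2_o_E4_ok ch2_o_G3_ok (by decide : 1 < 24) ch2_o_3_scs (c := 0) (d := 14) (by decide +kernel)) (by decide +kernel)

noncomputable def ch2_o_3_rl1_0 : RL := (RL.cons (nat_lit 0) (nat_lit 1) (nat_lit 0) (nat_lit 0) (nat_lit 2) (nat_lit 0) (RL.cons (nat_lit 1) (nat_lit 14) (nat_lit 0) (nat_lit 0) (nat_lit 5) (nat_lit 0) (RL.cons (nat_lit 2) (nat_lit 12) (nat_lit 0) (nat_lit 0) (nat_lit 0) (nat_lit 0) (RL.cons (nat_lit 3) (nat_lit 16) (nat_lit 0) (nat_lit 0) (nat_lit 8) (nat_lit 0) (RL.cons (nat_lit 4) (nat_lit 2) (nat_lit 0) (nat_lit 0) (nat_lit 9) (nat_lit 0) (RL.cons (nat_lit 5) (nat_lit 20) (nat_lit 0) (nat_lit 0) (nat_lit 1) (nat_lit 0) (RL.cons (nat_lit 6) (nat_lit 5) (nat_lit 0) (nat_lit 0) (nat_lit 11) (nat_lit 0) (RL.cons (nat_lit 7) (nat_lit 15) (nat_lit 0) (nat_lit 0) (nat_lit 12) (nat_lit 0) (RL.cons (nat_lit 8) (nat_lit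 6) (nat_lit 0) (nat_lit 0) (nat_lit 3) (nat_lit 0) (RL.cons (nat_lit 9) (nat_lit 11) (nat_lit 0) (nat_lit 0) (nat_lit 4) (nat_lit 0) (RL.cons (nat_lit 10) (nat_lit 4) (nat_lit 0) (nat_lit 0) (nat_lit 14) (nat_lit 0) (RL.cons (nat_lit 11) (nat_lit 17) (nat_lit 0) (nat_lit 0) (nat_lit 6) (nat_lit 0) (RL.cons (nat_lit 12) (nat_lit 3) (nat_lit 0) (nat_lit 0) (nat_lit 7) (nat_lit 0) (RL.cons (nat_lit 13) (nat_lit 10) (nat_lit 0) (nat_lit 0) (nat_lit 15) (nat_lit 0) (RL.cons (nat_lit 14) (nat_lit 19) (nat_lit 0) (nat_lit 0) (nat_lit 10) (nat_lit 0) (RL.cons (nat_lit 15) (nat_lit 9) (nat_lit 0) (nat_lit 0) (nat_lit 13) (nat_lit 0) RL.nil))))))))))))))))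

theorem ch2_o_3_good1_0 : GoodSet 24 ch2_o_E4 ch2_o_G3 (⟨1, by decide⟩ : Fin 24) ch2_o_3_ts (nat_lit 3) (RL.pts ch2_o_3_rl1_0) :=
  goodSet_of_ok p_hn (det_lab p_hk ⊤) ch2_o_E4_ok ch2_o_G3_ok le_top le_top (by decide : 1 < 24) (sepAt_lab p_hk _) (by decide +kernel)

theorem ch2_o_3_step1 : Step 24 ch2_o_E4 ch2_o_G3 ch2_o_3_ts (2 * 1 + 1) :=
  step_of_cover ch2_o_E4_ok ch2_o_3_dist (by decide +kernel) ch2_o_3_scs (by decide +kernel) ch2_o_3_good1_0 (kw := [])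
    (conj_mem_of_scs ch2_o_E4_ok ch2_o_G3_ok (by decide : 1 < 24) ch2_o_3_scs (c := 1) (d := 12) (by decide +kernel)) (by decide +kernel)

noncomputable def ch2_o_3_rl2_0 : RL := (RL.cons (nat_lit 0) (nat_lit 1) (nat_lit 0) (nat_lit 0) (nat_lit 3) (nat_lit 0) (RL.cons (nat_lit 1) (nat_lit 14) (nat_lit 0) (nat_lit 0) (nat_lit 6) (nat_lit 0) (RL.cons (nat_lit 2) (nat_lit 12) (nat_lit 0) (nat_lit 0) (nat_lit 8) (nat_lit 0) (RL.cons (nat_lit 3) (nat_lit 16) (nat_lit 0) (nat_lit 0) (nat_lit 0) (nat_lit 0) (RL.cons (nat_lit 4) (nat_lit 2) (nat_lit 0) (nat_lit 0) (nat_lit 10) (nat_lit 0) (RL.cons (nat_lit 5) (nat_lit 20) (nat_lit 0) (nat_lit 0) (nat_lit 11) (nat_lit 0) (RL.cons (nat_lit 6) (nat_lit 5) (nat_lit 0) (nat_lit 0) (nat_lit 1) (nat_lit 0) (RL.cons (nat_lit 7) (nat_lit 15) (nat_lit 0) (nat_lit 0) (nat_lit 13) (nat_lit 0) (RL.cons (nat_lit 8) (nat_lit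 6) (nat_lit 0) (nat_lit 0) (nat_lit 2) (nat_lit 0) (RL.cons (nat_lit 9) (nat_lit 11) (nat_lit 0) (nat_lit 0) (nat_lit 14) (nat_lit 0) (RL.cons (nat_lit 10) (nat_lit 4) (nat_lit 0) (nat_lit 0) (nat_lit 4) (nat_lit 0) (RL.cons (nat_lit 11) (nat_lit 17) (nat_lit 0) (nat_lit 0) (nat_lit 5) (nat_lit 0) (RL.cons (nat_lit 12) (nat_lit 3) (nat_lit 0) (nat_lit 0) (nat_lit 15) (nat_lit 0) (RL.cons (nat_lit 13) (nat_lit 10) (nat_lit 0) (nat_lit 0) (nat_lit 7) (nat_lit 0) (RL.cons (nat_lit 14) (nat_lit 19) (nat_lit 0) (nat_lit 0) (nat_lit 9) (nat_lit 0) (RL.cons (nat_lit 15) (nat_lit 9) (nat_lit 0) (nat_lit 0) (nat_lit 12) (nat_lit 0) RL.nil))))))))))))))))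

theorem ch2_o_3_good2_0 : GoodSet 24 ch2_o_E4 ch2_o_G3 (⟨1, by decide⟩ : Fin 24) ch2_o_3_ts (nat_lit 5) (RL.pts ch2_o_3_rl2_0) :=
  goodSet_of_ok p_hn (det_lab p_hk ⊤) ch2_o_E4_ok ch2_o_G3_ok le_top le_top (by decide : 1 < 24) (sepAt_lab p_hk _) (by decide +kernel)

theorem ch2_o_3_step2 : Step 24 ch2_o_E4 ch2_o_G3 ch2_o_3_ts (2 * 2 + 1) :=
  step_of_cover ch2_o_E4_ok ch2_o_3_dist (by decide +kernel) ch2_o_3_scs (by decide +kernel) ch2_o_3_good2_0 (kw := [])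
    (conj_mem_of_scs ch2_o_E4_ok ch2_o_G3_ok (by decide : 1 < 24) ch2_o_3_scs (c := 2) (d := 16) (by decide +kernel)) (by decide +kernel)

noncomputable def ch2_o_3_rl3_0 : RL := (RL.cons (nat_lit 0) (nat_lit 1) (nat_lit 0) (nat_lit 0) (nat_lit 4) (nat_lit 0) (RL.cons (nat_lit 1) (nat_lit 14) (nat_lit 0) (nat_lit 0) (nat_lit 7) (nat_lit 0) (RL.cons (nat_lit 2) (nat_lit 12) (nat_lit 0) (nat_lit 0) (nat_lit 9) (nat_lit 0) (RL.cons (nat_lit 3) (nat_lit 16) (nat_lit 0) (nat_lit 0) (nat_lit 10) (nat_lit 0) (RL.cons (nat_lit 4) (nat_lit 2) (nat_lit 0) (nat_lit 0) (nat_lit 0) (nat_lit 0) (RL.cons (nat_lit 5) (nat_lit 20) (nat_lit 0) (nat_lit 0) (nat_lit 12) (nat_lit 0) (RL.cons (nat_lit 6) (nat_lit 5) (nat_lit 0) (nat_lit 0) (nat_lit 13) (nat_lit 0) (RL.cons (nat_lit 7) (nat_lit 15) (nat_lit 0) (nat_lit 0) (nat_lit 1) (nat_lit 0) (RL.cons (nat_lit 8) (nat_lit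 6) (nat_lit 0) (nat_lit 0) (nat_lit 14) (nat_lit 0) (RL.cons (nat_lit 9) (nat_lit 11) (nat_lit 0) (nat_lit 0) (nat_lit 2) (nat_lit 0) (RL.cons (nat_lit 10) (nat_lit 4) (nat_lit 0) (nat_lit 0) (nat_lit 3) (nat_lit 0) (RL.cons (nat_lit 11) (nat_lit 17) (nat_lit 0) (nat_lit 0) (nat_lit 15) (nat_lit 0) (RL.cons (nat_lit 12) (nat_lit 3) (nat_lit 0) (nat_lit 0) (nat_lit 5) (nat_lit 0) (RL.cons (nat_lit 13) (nat_lit 10) (nat_lit 0) (nat_lit 0) (nat_lit 6) (nat_lit 0) (RL.cons (nat_lit 14) (nat_lit 19) (nat_lit 0) (nat_lit 0) (nat_lit 8) (nat_lit 0) (RL.cons (nat_lit 15) (nat_lit 9) (nat_lit 0) (nat_lit 0) (nat_lit 11) (nat_lit 0) RL.nil))))))))))))))))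

theorem ch2_o_3_good3_0 : GoodSet 24 ch2_o_E4 ch2_o_G3 (⟨1, by decide⟩ : Fin 24) ch2_o_3_ts (nat_lit 7) (RL.pts ch2_o_3_rl3_0) :=
  goodSet_of_ok p_hn (det_lab p_hk ⊤) ch2_o_E4_ok ch2_o_G3_ok le_top le_top (by decide : 1 < 24) (sepAt_lab p_hk _) (by decide +kernel)

theorem ch2_o_3_step3 : Step 24 ch2_o_E4 ch2_o_G3 ch2_o_3_ts (2 * 3 + 1) :=
  step_of_cover ch2_o_E4_ok ch2_o_3_dist (by decide +kernel) ch2_o_3_scs (by decide +kernel) ch2_o_3_good3_0 (kw := [])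
    (conj_mem_of_scs ch2_o_E4_ok ch2_o_G3_ok (by decide : 1 < 24) ch2_o_3_scs (c := 3) (d := 2) (by decide +kernel)) (by decide +kernel)

theorem ch2_o_3_lev : grp 24 ch2_o_G3 ⊓ MulAction.stabilizer (Equiv.Perm (Fin 24)) (⟨1, by decide⟩ : Fin 24) = grp 24 ch2_o_E4 :=
  sims_level (gs := p_V237) rfl (by decide) ch2_o_3_fix ch2_o_3_dist (forall_lt_succ' (forall_lt_succ' (forall_lt_succ' (forall_lt_one ch2_o_3_step0) ch2_o_3_step1) ch2_o_3_step2) ch2_o_3_step3)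

theorem ch2_o_3_cardG : Nat.card (grp 24 ch2_o_G3) = 16 :=
  card_of_level p_hn ch2_o_G3_ok (by decide : 1 < 24) ch2_o_3_lev ch2_o_card4 (m := 16) (by decide +kernel)

theorem p_le239 : grp 24 ch2_o_E3 ≤ grp 24 ch2_o_G3 :=
  grp_le_of_memB p_hn p_hk ch2_o_G3_ok ch2_o_E3_ok (ws := [nat_lit 1, nat_lit 3, nat_lit 5, nat_lit 7, nat_lit 775, nat_lit 66309, nat_lit 66311, nat_lit 197895]) (by decide +kernel)

theorem p_le240 : grp 24 ch2_o_G3 ≤ grp 24 ch2_o_E3 :=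
  grp_le_of_memB p_hn p_hk ch2_o_E3_ok ch2_o_G3_ok (ws := [nat_lit 1, nat_lit 3, nat_lit 5, nat_lit 7]) (by decide +kernel)

theorem ch2_o_3_eq : grp 24 ch2_o_E3 = grp 24 ch2_o_G3 :=
  le_antisymm p_le239 p_le240

theorem ch2_o_card3 : Nat.card (grp 24 ch2_o_E3) = 16 :=
  by rw [ch2_o_3_eq]; exact ch2_o_3_cardG

theorem ch2_o_stab3 : grp 24 ch2_o_E3 ⊓ MulAction.stabilizer (Equiv.Perm (Fin 24)) (⟨1, by decide⟩ : Fin 24) = grp 24 ch2_o_E4 :=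
  by rw [ch2_o_3_eq]; exact ch2_o_3_lev

theorem ch2_o_leO3 : grp 24 ch2_o_E3 ≤ grp 24 ch2_Q :=
  ch2_o_3_eq.le.trans (grp_cons_le ((p_le234.trans (p_le227.trans (p_le221.trans (le_refl (grp 24 ch2_Q))))) (p_le238 (toPerm_mem_grp (E := p_V237) (by simp [p_V237])))) (grp_cons_le ((p_le234.trans (p_le227.trans (p_le221.trans (le_refl (grp 24 ch2_Q))))) (p_le238 (toPerm_mem_grp (E := p_V237) (by simp [p_V237])))) (grp_cons_le ((p_le234.trans (p_le227.trans (p_le221.trans (le_refl (grp 24 ch2_Q))))) (p_le238 (toPerm_mem_grp (E := p_V237) (by simp [p_V237])))) (grp_cons_le ((p_le234.trans (p_le227.trans (p_le221.trans (le_refl (grp 24 ch2_Q))))) (p_le238 (toPerm_mem_grp (E := p_V237) (by simp [p_V237])))) ch2_o_leO4))))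

theorem ch2_o_2_fix : grp 24 ch2_o_E3 ≤ MulAction.stabilizer (Equiv.Perm (Fin 24)) (⟨13, by decide⟩ : Fin 24) :=
  grp_le_stab ch2_o_E3_ok (by decide : 13 < 24) (by decide +kernel)

noncomputable def ch2_o_2_ts : List ℕ := [nat_lit 0, nat_lit 1]

noncomputable def ch2_o_2_ds : List ℕ := [nat_lit 13, nat_lit 22]

theorem ch2_o_2_dist : Dist 24 ch2_o_E3 ch2_o_G2 (⟨13, by decide⟩ : Fin 24) ch2_o_2_ts ch2_o_2_ds :=
  dist_of_distB (k := 1) p_hn ch2_o_E3_ok ch2_o_G2_ok (by decide : 13 < 24) (by decide +kernel)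

noncomputable def ch2_o_2_sl0 : SL := (SL.cons (nat_lit 1) (nat_lit 22) (Ch.cons (nat_lit 1) [nat_lit 3, nat_lit 263, nat_lit 1, nat_lit 15] Ch.nil) [nat_lit 11, nat_lit 263, nat_lit 2315, nat_lit 13] SL.nil)

theorem ch2_o_2_sc0 : SCs 24 ch2_o_E3 ch2_o_G2 (⟨13, by decide⟩ : Fin 24) (SL.words ch2_o_2_sl0) :=
  scs_of_ok p_hn (det_lab p_hk ⊤) ch2_o_E3_ok ch2_o_G2_ok le_top le_top (by decide : 13 < 24) ch2_o_2_fix ch2_o_card3.le (by decide +kernel)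

noncomputable def ch2_o_2_l : List ℕ := (appL (SL.words ch2_o_2_sl0) [])

theorem ch2_o_2_scs : SCs 24 ch2_o_E3 ch2_o_G2 (⟨13, by decide⟩ : Fin 24) ch2_o_2_l :=
  (SCs.append ch2_o_2_sc0 SCs.nil)

noncomputable def ch2_o_2_rl0_0 : RL := (RL.cons (nat_lit 0) (nat_lit 13) (nat_lit 0) (nat_lit 0) (nat_lit 1) (nat_lit 261) (RL.cons (nat_lit 1) (nat_lit 22) (nat_lit 0) (nat_lit 0) (nat_lit 0) (nat_lit 0) RL.nil))

theorem ch2_o_2_good0_0 : GoodSet 24 ch2_o_E3 ch2_o_G2 (⟨13, by decide⟩ : Fin 24) ch2_o_2_ts (nat_lit 1) (RL.pts ch2_o_2_rl0_0) :=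
  goodSet_of_ok p_hn (det_lab p_hk ⊤) ch2_o_E3_ok ch2_o_G2_ok le_top le_top (by decide : 13 < 24) (sepAt_lab p_hk _) (by decide +kernel)

theorem ch2_o_2_step0 : Step 24 ch2_o_E3 ch2_o_G2 ch2_o_2_ts (2 * 0 + 1) :=
  step_of_cover ch2_o_E3_ok ch2_o_2_dist (by decide +kernel) ch2_o_2_scs (by decide +kernel) ch2_o_2_good0_0 (kw := [nat_lit 3, nat_lit 263, nat_lit 1, nat_lit 15])
    (conj_mem_of_scs ch2_o_E3_ok ch2_o_G2_ok (by decide : 13 < 24) ch2_o_2_scs (c := 0) (d := 22) (by decide +kernel)) (by decide +kernel)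

theorem ch2_o_2_lev : grp 24 ch2_o_G2 ⊓ MulAction.stabilizer (Equiv.Perm (Fin 24)) (⟨13, by decide⟩ : Fin 24) = grp 24 ch2_o_E3 :=
  sims_level (gs := p_V228) rfl (by decide) ch2_o_2_fix ch2_o_2_dist (forall_lt_one ch2_o_2_step0)

theorem ch2_o_2_cardG : Nat.card (grp 24 ch2_o_G2) = 32 :=
  card_of_level p_hn ch2_o_G2_ok (by decide : 13 < 24) ch2_o_2_lev ch2_o_card3 (m := 2) (by decide +kernel)

theorem p_le241 : grp 24 ch2_o_E2 ≤ grp 24 ch2_o_G2 :=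
  grp_le_of_memB p_hn p_hk ch2_o_G2_ok ch2_o_E2_ok (ws := [nat_lit 1, nat_lit 2829, nat_lit 3, nat_lit 5, nat_lit 7, nat_lit 9, nat_lit 11, nat_lit 13, nat_lit 15, nat_lit 17]) (by decide +kernel)

theorem p_le242 : grp 24 ch2_o_G2 ≤ grp 24 ch2_o_E2 :=
  grp_le_of_memB p_hn p_hk ch2_o_E2_ok ch2_o_G2_ok (ws := [nat_lit 1, nat_lit 5, nat_lit 7, nat_lit 9, nat_lit 11, nat_lit 13, nat_lit 15, nat_lit 17, nat_lit 19]) (by decide +kernel)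

theorem ch2_o_2_eq : grp 24 ch2_o_E2 = grp 24 ch2_o_G2 :=
  le_antisymm p_le241 p_le242

theorem ch2_o_card2 : Nat.card (grp 24 ch2_o_E2) = 32 :=
  by rw [ch2_o_2_eq]; exact ch2_o_2_cardG

theorem ch2_o_stab2 : grp 24 ch2_o_E2 ⊓ MulAction.stabilizer (Equiv.Perm (Fin 24)) (⟨13, by decide⟩ : Fin 24) = grp 24 ch2_o_E3 :=
  by rw [ch2_o_2_eq]; exact ch2_o_2_lev

theorem ch2_o_leO2 : grp 24 ch2_o_E2 ≤ grp 24 ch2_Q :=
  ch2_o_2_eq.le.trans (grp_cons_le ((p_le227.trans (p_le221.trans (le_refl (grp 24 ch2_Q)))) (p_le229 (toPerm_mem_grp (E := p_V228) (by simp [p_V228])))) ch2_o_leO3)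

theorem ch2_o_1_fix : grp 24 ch2_o_E2 ≤ MulAction.stabilizer (Equiv.Perm (Fin 24)) (⟨7, by decide⟩ : Fin 24) :=
  grp_le_stab ch2_o_E2_ok (by decide : 7 < 24) (by decide +kernel)

noncomputable def ch2_o_1_ts : List ℕ := [nat_lit 0, nat_lit 1]

noncomputable def ch2_o_1_ds : List ℕ := [nat_lit 7, nat_lit 8]

theorem ch2_o_1_dist : Dist 24 ch2_o_E2 ch2_o_G1 (⟨7, by decide⟩ : Fin 24) ch2_o_1_ts ch2_o_1_ds :=
  dist_of_distB (k := 1) p_hn ch2_o_E2_ok ch2_o_G1_ok (by decide : 7 < 24) (by decide +kernel)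

noncomputable def ch2_o_1_sl0 : SL := (SL.cons (nat_lit 1) (nat_lit 8) (Ch.cons (nat_lit 1) [nat_lit 1299, nat_lit 17] (Ch.cons (nat_lit 2) [nat_lit 4353] Ch.nil)) [nat_lit 7, nat_lit 13, nat_lit 4353] SL.nil)

theorem ch2_o_1_sc0 : SCs 24 ch2_o_E2 ch2_o_G1 (⟨7, by decide⟩ : Fin 24) (SL.words ch2_o_1_sl0) :=
  scs_of_ok p_hn (det_lab p_hk ⊤) ch2_o_E2_ok ch2_o_G1_ok le_top le_top (by decide : 7 < 24) ch2_o_1_fix ch2_o_card2.le (by decide +kernel)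

noncomputable def ch2_o_1_l : List ℕ := (appL (SL.words ch2_o_1_sl0) [])

theorem ch2_o_1_scs : SCs 24 ch2_o_E2 ch2_o_G1 (⟨7, by decide⟩ : Fin 24) ch2_o_1_l :=
  (SCs.append ch2_o_1_sc0 SCs.nil)

noncomputable def ch2_o_1_rl0_0 : RL := (RL.cons (nat_lit 0) (nat_lit 7) (nat_lit 0) (nat_lit 0) (nat_lit 1) (nat_lit 1811) (RL.cons (nat_lit 1) (nat_lit 8) (nat_lit 0) (nat_lit 0) (nat_lit 0) (nat_lit 0) RL.nil))

theorem ch2_o_1_good0_0 : GoodSet 24 ch2_o_E2 ch2_o_G1 (⟨7, by decide⟩ : Fin 24) ch2_o_1_ts (nat_lit 1) (RL.pts ch2_o_1_rl0_0) :=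
  goodSet_of_ok p_hn (det_lab p_hk ⊤) ch2_o_E2_ok ch2_o_G1_ok le_top le_top (by decide : 7 < 24) (sepAt_lab p_hk _) (by decide +kernel)

theorem ch2_o_1_step0 : Step 24 ch2_o_E2 ch2_o_G1 ch2_o_1_ts (2 * 0 + 1) :=
  step_of_cover ch2_o_E2_ok ch2_o_1_dist (by decide +kernel) ch2_o_1_scs (by decide +kernel) ch2_o_1_good0_0 (kw := [nat_lit 1299, nat_lit 17, nat_lit 4353])
    (conj_mem_of_scs ch2_o_E2_ok ch2_o_G1_ok (by decide : 7 < 24) ch2_o_1_scs (c := 0) (d := 8) (by decide +kernel)) (by decide +kernel)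

theorem ch2_o_1_lev : grp 24 ch2_o_G1 ⊓ MulAction.stabilizer (Equiv.Perm (Fin 24)) (⟨7, by decide⟩ : Fin 24) = grp 24 ch2_o_E2 :=
  sims_level (gs := p_V222) rfl (by decide) ch2_o_1_fix ch2_o_1_dist (forall_lt_one ch2_o_1_step0)

theorem ch2_o_1_cardG : Nat.card (grp 24 ch2_o_G1) = 64 :=
  card_of_level p_hn ch2_o_G1_ok (by decide : 7 < 24) ch2_o_1_lev ch2_o_card2 (m := 2) (by decide +kernel)

theorem p_le243 : grp 24 ch2_o_E1 ≤ grp 24 ch2_o_G1 :=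
  grp_le_of_memB p_hn p_hk ch2_o_G1_ok ch2_o_E1_ok (ws := [nat_lit 1, nat_lit 721665, nat_lit 2305, nat_lit 3, nat_lit 5, nat_lit 7, nat_lit 9, nat_lit 11, nat_lit 13, nat_lit 15, nat_lit 17, nat_lit 19, nat_lit 21]) (by decide +kernel)

theorem p_le244 : grp 24 ch2_o_G1 ≤ grp 24 ch2_o_E1 :=
  grp_le_of_memB p_hn p_hk ch2_o_E1_ok ch2_o_G1_ok (ws := [nat_lit 1, nat_lit 7, nat_lit 9, nat_lit 11, nat_lit 13, nat_lit 15, nat_lit 17, nat_lit 19, nat_lit 21, nat_lit 23, nat_lit 25]) (by decide +kernel)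

theorem ch2_o_1_eq : grp 24 ch2_o_E1 = grp 24 ch2_o_G1 :=
  le_antisymm p_le243 p_le244

theorem ch2_o_card1 : Nat.card (grp 24 ch2_o_E1) = 64 :=
  by rw [ch2_o_1_eq]; exact ch2_o_1_cardG

theorem ch2_o_stab1 : grp 24 ch2_o_E1 ⊓ MulAction.stabilizer (Equiv.Perm (Fin 24)) (⟨7, by decide⟩ : Fin 24) = grp 24 ch2_o_E2 :=
  by rw [ch2_o_1_eq]; exact ch2_o_1_lev

theorem ch2_o_leO1 : grp 24 ch2_o_E1 ≤ grp 24 ch2_Q :=
  ch2_o_1_eq.le.trans (grp_cons_le ((p_le221.trans (le_refl (grp 24 ch2_Q))) (p_le223 (toPerm_mem_grp (E := p_V222) (by simp [p_V222])))) ch2_o_leO2)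

theorem ch2_o_0_fix : grp 24 ch2_o_E1 ≤ MulAction.stabilizer (Equiv.Perm (Fin 24)) (⟨0, by decide⟩ : Fin 24) :=
  grp_le_stab ch2_o_E1_ok (by decide : 0 < 24) (by decide +kernel)

noncomputable def ch2_o_0_ts : List ℕ := [nat_lit 0, nat_lit 1]

noncomputable def ch2_o_0_ds : List ℕ := [nat_lit 0, nat_lit 23]

theorem ch2_o_0_dist : Dist 24 ch2_o_E1 ch2_o_G0 (⟨0, by decide⟩ : Fin 24) ch2_o_0_ts ch2_o_0_ds :=
  dist_of_distB (k := 1) p_hn ch2_o_E1_ok ch2_o_G0_ok (by decide : 0 < 24) (by decide +kernel)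

noncomputable def ch2_o_0_sl0 : SL := (SL.cons (nat_lit 1) (nat_lit 23) (Ch.cons (nat_lit 1) [nat_lit 727303, nat_lit 4359] (Ch.cons (nat_lit 3) [nat_lit 853761, nat_lit 5895] Ch.nil)) [nat_lit 727303, nat_lit 724743, nat_lit 853761, nat_lit 5383] SL.nil)

theorem ch2_o_0_sc0 : SCs 24 ch2_o_E1 ch2_o_G0 (⟨0, by decide⟩ : Fin 24) (SL.words ch2_o_0_sl0) :=
  scs_of_ok p_hn (det_lab p_hk ⊤) ch2_o_E1_ok ch2_o_G0_ok le_top le_top (by decide : 0 < 24) ch2_o_0_fix ch2_o_card1.le (by decide +kernel)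

noncomputable def ch2_o_0_l : List ℕ := (appL (SL.words ch2_o_0_sl0) [])

theorem ch2_o_0_scs : SCs 24 ch2_o_E1 ch2_o_G0 (⟨0, by decide⟩ : Fin 24) ch2_o_0_l :=
  (SCs.append ch2_o_0_sc0 SCs.nil)

noncomputable def ch2_o_0_rl0_0 : RL := (RL.cons (nat_lit 0) (nat_lit 0) (nat_lit 0) (nat_lit 0) (nat_lit 1) (nat_lit 3353) (RL.cons (nat_lit 1) (nat_lit 23) (nat_lit 0) (nat_lit 0) (nat_lit 0) (nat_lit 0) RL.nil))

theorem ch2_o_0_good0_0 : GoodSet 24 ch2_o_E1 ch2_o_G0 (⟨0, by decide⟩ : Fin 24) ch2_o_0_ts (nat_lit 1) (RL.pts ch2_o_0_rl0_0) :=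
  goodSet_of_ok p_hn (det_lab p_hk ⊤) ch2_o_E1_ok ch2_o_G0_ok le_top le_top (by decide : 0 < 24) (sepAt_lab p_hk _) (by decide +kernel)

theorem ch2_o_0_step0 : Step 24 ch2_o_E1 ch2_o_G0 ch2_o_0_ts (2 * 0 + 1) :=
  step_of_cover ch2_o_E1_ok ch2_o_0_dist (by decide +kernel) ch2_o_0_scs (by decide +kernel) ch2_o_0_good0_0 (kw := [nat_lit 727303, nat_lit 4359, nat_lit 853761, nat_lit 5895])
    (conj_mem_of_scs ch2_o_E1_ok ch2_o_G0_ok (by decide : 0 < 24) ch2_o_0_scs (c := 0) (d := 23) (by decide +kernel)) (by decide +kernel)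

theorem ch2_o_0_lev : grp 24 ch2_o_G0 ⊓ MulAction.stabilizer (Equiv.Perm (Fin 24)) (⟨0, by decide⟩ : Fin 24) = grp 24 ch2_o_E1 :=
  sims_level (gs := p_V215) rfl (by decide) ch2_o_0_fix ch2_o_0_dist (forall_lt_one ch2_o_0_step0)

theorem ch2_o_0_cardG : Nat.card (grp 24 ch2_o_G0) = 128 :=
  card_of_level p_hn ch2_o_G0_ok (by decide : 0 < 24) ch2_o_0_lev ch2_o_card1 (m := 2) (by decide +kernel)

theorem p_le245 : grp 24 ch2_o_E0 ≤ grp 24 ch2_o_G0 :=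
  grp_le_of_memB p_hn p_hk ch2_o_G0_ok ch2_o_E0_ok (ws := [nat_lit 1, nat_lit 3867, nat_lit 0xd11090301, nat_lit 0xd17090301, nat_lit 6409, nat_lit 3, nat_lit 5, nat_lit 7, nat_lit 9, nat_lit 11, nat_lit 13, nat_lit 15, nat_lit 17, nat_lit 19, nat_lit 21, nat_lit 23, nat_lit 25, nat_lit 27]) (by decide +kernel)

theorem p_le246 : grp 24 ch2_o_G0 ≤ grp 24 ch2_o_E0 :=
  grp_le_of_memB p_hn p_hk ch2_o_E0_ok ch2_o_G0_ok (ws := [nat_lit 1, nat_lit 11, nat_lit 13, nat_lit 15, nat_lit 17, nat_lit 19, nat_lit 21, nat_lit 23, nat_lit 25, nat_lit 27, nat_lit 29, nat_lit 31, nat_lit 33, nat_lit 35]) (by decide +kernel)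

theorem ch2_o_0_eq : grp 24 ch2_o_E0 = grp 24 ch2_o_G0 :=
  le_antisymm p_le245 p_le246

theorem ch2_o_card0 : Nat.card (grp 24 ch2_o_E0) = 128 :=
  by rw [ch2_o_0_eq]; exact ch2_o_0_cardG

theorem ch2_o_stab0 : grp 24 ch2_o_E0 ⊓ MulAction.stabilizer (Equiv.Perm (Fin 24)) (⟨0, by decide⟩ : Fin 24) = grp 24 ch2_o_E1 :=
  by rw [ch2_o_0_eq]; exact ch2_o_0_lev

theorem ch2_o_leO0 : grp 24 ch2_o_E0 ≤ grp 24 ch2_Q :=
  ch2_o_0_eq.le.trans (grp_cons_le ((le_refl (grp 24 ch2_Q)) (p_le216 (toPerm_mem_grp (E := p_V215) (by simp [p_V215])))) ch2_o_leO1)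

theorem p_le247 : grp 24 ch2_Q ≤ grp 24 ch2_o_E0 :=
  grp_le_of_memB p_hn p_hk ch2_o_E0_ok ch2_Q_ok (ws := [nat_lit 3, nat_lit 1, nat_lit 5, nat_lit 7, nat_lit 9]) (by decide +kernel)

theorem ch2_o_eq : grp 24 ch2_Q = grp 24 ch2_o_E0 :=
  le_antisymm p_le247 ch2_o_leO0

theorem ch2_o_card : Nat.card (grp 24 ch2_Q) = 128 :=
  by rw [ch2_o_eq]; exact ch2_o_card0

noncomputable def ch2_o_ch : Ch := (Ch.cons (nat_lit 0) [nat_lit 1, nat_lit 3, nat_lit 5, nat_lit 7, nat_lit 9] (Ch.cons (nat_lit 7) [nat_lit 11, nat_lit 13, nat_lit 15] (Ch.cons (nat_lit 13) [nat_lit 17, nat_lit 19] (Ch.cons (nat_lit 1) [nat_lit 21, nat_lit 23, nat_lit 25, nat_lit 27, nat_lit 29, nat_lit 31, nat_lit 33, nat_lit 35] Ch.nil))))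

theorem ch2_o_exact : Ch.Exact 24 ch2_o_E0 ch2_o_ch (grp 24 ch2_o_E0) :=
  Ch.exact (k := 5) (L := (lab 24 5)) p_hn ch2_o_E0_ok (by decide +kernel) (wgrp_le_grp _ _ _) ch2_o_card0.le

theorem ch2_n : grp 24 nt_c2_K ≤ Subgroup.normalizer (grp 24 ch2_Q : Set (Equiv.Perm (Fin 24))) :=
  EvG.le_norm p_hn p_hk nt_c2_K_ok ch2_Q_ok ch2_o_E0_ok ch2_o_eq.ge (W := [[nat_lit 5923, nat_lit 0x23110b01, nat_lit 0x151f01, nat_lit 6913, nat_lit 0x15190b], [nat_lit 5923, nat_lit 0x17110b01, nat_lit 0x191101, nat_lit 0x1f1101, nat_lit 0x1d110b], [nat_lit 5923, nat_lit 0x231101, nat_lit 0x1519110b01, nat_lit 0x1d110b01, nat_lit 7953], [nat_lit 5923, nat_lit 0x231101, nat_lit 0x1723110b01, nat_lit 0x1d110b01, nat_lit 7953], [nat_lit 5923, nat_lit 1, nat_lit 0x151b110b01, nat_lit 0x1d110b01, nat_lit 7953], [nat_lit 5923, nat_lit 1, nat_lit 0x1519110b01, nat_lit 0x151f110b01,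 nat_lit 8465], [nat_lit 5923, nat_lit 5377, nat_lit 0x1723110b01, nat_lit 0x1523110b01, nat_lit 8977], [nat_lit 5923, nat_lit 0x172301, nat_lit 0x1519110b01, nat_lit 0x151f110b01, nat_lit 8465]]) (by decide +kernel)

theorem ch2_x3 : Net.toPerm 24 p_g248 ∈ (grp 24 EG) ⊓ Subgroup.centralizer {Net.toPerm 24 p_g104} :=
  nt_c2_eq.ge (mem_grp_of_memB p_hn p_hk nt_c2_K_ok p_g248_ok (w := (nat_lit 724228)) (by decide +kernel))

theorem ch2_ord3 : orderOf (Net.toPerm 24 p_g248) = 3 :=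
  orderOf_net p_hn p_hk p_g248_ok (by decide) (ps := [3]) (by set_option linter.unusedSimpArgs false in simp [Nat.primeFactorsList_ofNat]) (by decide +kernel)

theorem ch2 : IsOfCharacteristicTwo ↥((grp 24 EG) ⊓ Subgroup.centralizer {Net.toPerm 24 p_g104}) :=
  H44.Ki.charTwo_of_primes (ch2_le.trans nt_c2_eq.ge) (nt_c2_eq.le.trans ch2_n)
    (IsPGroup.of_card (n := 7) ch2_o_card) fun p hp hd => by
  rw [nt_c2_card] at hd ⊢
  have h := (Nat.mem_primeFactorsList (by norm_num)).2 ⟨hp, hd⟩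
  simp [Nat.primeFactorsList_ofNat] at h
  rcases h with rfl | rfl
  · exact .inl rfl
  · exact .inr ⟨by norm_num, _, ch2_x3, ch2_ord3 ▸ pow_orderOf_eq_one _, _, (toPerm_mem_grp (E := ch2_Q) (List.Mem.tail _ (List.Mem.head _))),
      EvG.ncomm_net (k := 5) p_hn (by decide +kernel)⟩

theorem ch3_le : grp 24 ch3_Q ≤ grp 24 nt_c3_K :=
  grp_le_of_memB p_hn p_hk nt_c3_K_ok ch3_Q_ok (ws := [nat_lit 0x50508040504, nat_lit 0x50507030803, nat_lit 0x803030301, nat_lit 0x505030601, nat_lit 0x5050707]) (by decide +kernel)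

theorem p_le255 : grp 24 p_V254 ≤ grp 24 ch3_Q :=
  grp_le_of_memB p_hn p_hk ch3_Q_ok p_V254_ok (ws := [nat_lit 5]) (by decide +kernel)

theorem p_le261 : grp 24 p_V260 ≤ grp 24 ch3_Q :=
  grp_le_of_memB p_hn p_hk ch3_Q_ok p_V260_ok (ws := [nat_lit 0x3070a0407020307040707040206, nat_lit 0x109040a08040607030704040706, nat_lit 0x50a0709030702090106, nat_lit 0x60306020908090905, nat_lit 0xa0703080603060709080a040a]) (by decide +kernel)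

theorem p_le263 : grp 24 p_V262 ≤ grp 24 p_V260 :=
  grp_le_of_memB p_hn p_hk p_V260_ok p_V262_ok (ws := [nat_lit 3, nat_lit 5]) (by decide +kernel)

theorem p_le267 : grp 24 p_V266 ≤ grp 24 p_V260 :=
  grp_le_of_memB p_hn p_hk p_V260_ok p_V266_ok (ws := [nat_lit 656133, nat_lit 0x90503060405020207]) (by decide +kernel)

theorem p_le269 : grp 24 p_V268 ≤ grp 24 p_V266 :=
  grp_le_of_memB p_hn p_hk p_V266_ok p_V268_ok (ws := [nat_lit 1, nat_lit 3]) (by decide +kernel)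

theorem ch3_o_card3 : Nat.card (grp 24 ch3_o_E3) = 1 :=
  card_grp_nil 24

theorem ch3_o_leO3 : grp 24 ch3_o_E3 ≤ grp 24 ch3_Q :=
  grp_nil_le _

theorem ch3_o_2_fix : grp 24 ch3_o_E3 ≤ MulAction.stabilizer (Equiv.Perm (Fin 24)) (⟨2, by decide⟩ : Fin 24) :=
  grp_le_stab ch3_o_E3_ok (by decide : 2 < 24) (by decide +kernel)

noncomputable def ch3_o_2_ts : List ℕ := [nat_lit 0, nat_lit 1, nat_lit 3, nat_lit 259]

noncomputable def ch3_o_2_ds : List ℕ := [nat_lit 2, nat_lit 13, nat_lit 18, nat_lit 9]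

theorem ch3_o_2_dist : Dist 24 ch3_o_E3 ch3_o_G2 (⟨2, by decide⟩ : Fin 24) ch3_o_2_ts ch3_o_2_ds :=
  dist_of_distB (k := 2) p_hn ch3_o_E3_ok ch3_o_G2_ok (by decide : 2 < 24) (by decide +kernel)

noncomputable def ch3_o_2_sl0 : SL := (SL.cons (nat_lit 1) (nat_lit 13) Ch.nil [] (SL.cons (nat_lit 3) (nat_lit 18) Ch.nil [] (SL.cons (nat_lit 259) (nat_lit 9) Ch.nil [] SL.nil)))

theorem ch3_o_2_sc0 : SCs 24 ch3_o_E3 ch3_o_G2 (⟨2, by decide⟩ : Fin 24) (SL.words ch3_o_2_sl0) :=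
  scs_of_ok p_hn (det_lab p_hk ⊤) ch3_o_E3_ok ch3_o_G2_ok le_top le_top (by decide : 2 < 24) ch3_o_2_fix ch3_o_card3.le (by decide +kernel)

noncomputable def ch3_o_2_l : List ℕ := (appL (SL.words ch3_o_2_sl0) [])

theorem ch3_o_2_scs : SCs 24 ch3_o_E3 ch3_o_G2 (⟨2, by decide⟩ : Fin 24) ch3_o_2_l :=
  (SCs.append ch3_o_2_sc0 SCs.nil)

noncomputable def ch3_o_2_rl0_0 : RL := (RL.cons (nat_lit 0) (nat_lit 2) (nat_lit 0) (nat_lit 0) (nat_lit 1) (nat_lit 0) (RL.cons (nat_lit 1) (nat_lit 13) (nat_lit 0) (nat_lit 0) (nat_lit 0) (nat_lit 0) (RL.cons (nat_lit 2) (nat_lit 18) (nat_lit 0) (nat_lit 0) (nat_lit 3) (nat_lit 0) (RL.cons (nat_lit 3) (nat_lit 9) (nat_lit 0) (nat_lit 0) (nat_lit 2) (nat_lit 0) RL.nil))))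

theorem ch3_o_2_good0_0 : GoodSet 24 ch3_o_E3 ch3_o_G2 (⟨2, by decide⟩ : Fin 24) ch3_o_2_ts (nat_lit 1) (RL.pts ch3_o_2_rl0_0) :=
  goodSet_of_ok p_hn (det_lab p_hk ⊤) ch3_o_E3_ok ch3_o_G2_ok le_top le_top (by decide : 2 < 24) (sepAt_lab p_hk _) (by decide +kernel)

theorem ch3_o_2_step0 : Step 24 ch3_o_E3 ch3_o_G2 ch3_o_2_ts (2 * 0 + 1) :=
  step_of_cover ch3_o_E3_ok ch3_o_2_dist (by decide +kernel) ch3_o_2_scs (by decide +kernel) ch3_o_2_good0_0 (kw := [])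
    (conj_mem_of_scs ch3_o_E3_ok ch3_o_G2_ok (by decide : 2 < 24) ch3_o_2_scs (c := 0) (d := 13) (by decide +kernel)) (by decide +kernel)

noncomputable def ch3_o_2_rl1_0 : RL := (RL.cons (nat_lit 0) (nat_lit 2) (nat_lit 0) (nat_lit 0) (nat_lit 2) (nat_lit 0) (RL.cons (nat_lit 1) (nat_lit 13) (nat_lit 0) (nat_lit 0) (nat_lit 3) (nat_lit 0) (RL.cons (nat_lit 2) (nat_lit 18) (nat_lit 0) (nat_lit 0) (nat_lit 0) (nat_lit 0) (RL.cons (nat_lit 3) (nat_lit 9) (nat_lit 0) (nat_lit 0) (nat_lit 1) (nat_lit 0) RL.nil))))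

theorem ch3_o_2_good1_0 : GoodSet 24 ch3_o_E3 ch3_o_G2 (⟨2, by decide⟩ : Fin 24) ch3_o_2_ts (nat_lit 3) (RL.pts ch3_o_2_rl1_0) :=
  goodSet_of_ok p_hn (det_lab p_hk ⊤) ch3_o_E3_ok ch3_o_G2_ok le_top le_top (by decide : 2 < 24) (sepAt_lab p_hk _) (by decide +kernel)

theorem ch3_o_2_step1 : Step 24 ch3_o_E3 ch3_o_G2 ch3_o_2_ts (2 * 1 + 1) :=
  step_of_cover ch3_o_E3_ok ch3_o_2_dist (by decide +kernel) ch3_o_2_scs (by decide +kernel) ch3_o_2_good1_0 (kw := [])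
    (conj_mem_of_scs ch3_o_E3_ok ch3_o_G2_ok (by decide : 2 < 24) ch3_o_2_scs (c := 1) (d := 18) (by decide +kernel)) (by decide +kernel)

theorem ch3_o_2_lev : grp 24 ch3_o_G2 ⊓ MulAction.stabilizer (Equiv.Perm (Fin 24)) (⟨2, by decide⟩ : Fin 24) = grp 24 ch3_o_E3 :=
  sims_level (gs := p_V268) rfl (by decide) ch3_o_2_fix ch3_o_2_dist (forall_lt_succ' (forall_lt_one ch3_o_2_step0) ch3_o_2_step1)

theorem ch3_o_2_cardG : Nat.card (grp 24 ch3_o_G2) = 4 :=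
  card_of_level p_hn ch3_o_G2_ok (by decide : 2 < 24) ch3_o_2_lev ch3_o_card3 (m := 4) (by decide +kernel)

theorem p_le270 : grp 24 ch3_o_E2 ≤ grp 24 ch3_o_G2 :=
  grp_le_of_memB p_hn p_hk ch3_o_G2_ok ch3_o_E2_ok (ws := [nat_lit 1, nat_lit 3]) (by decide +kernel)

theorem p_le271 : grp 24 ch3_o_G2 ≤ grp 24 ch3_o_E2 :=
  grp_le_of_memB p_hn p_hk ch3_o_E2_ok ch3_o_G2_ok (ws := [nat_lit 1, nat_lit 3]) (by decide +kernel)

theorem ch3_o_2_eq : grp 24 ch3_o_E2 = grp 24 ch3_o_G2 :=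
  le_antisymm p_le270 p_le271

theorem ch3_o_card2 : Nat.card (grp 24 ch3_o_E2) = 4 :=
  by rw [ch3_o_2_eq]; exact ch3_o_2_cardG

theorem ch3_o_stab2 : grp 24 ch3_o_E2 ⊓ MulAction.stabilizer (Equiv.Perm (Fin 24)) (⟨2, by decide⟩ : Fin 24) = grp 24 ch3_o_E3 :=
  by rw [ch3_o_2_eq]; exact ch3_o_2_lev

theorem ch3_o_leO2 : grp 24 ch3_o_E2 ≤ grp 24 ch3_Q :=
  ch3_o_2_eq.le.trans (grp_cons_le ((p_le267.trans (p_le261.trans (le_refl (grp 24 ch3_Q)))) (p_le269 (toPerm_mem_grp (E := p_V268) (by simp [p_V268])))) (grp_cons_le ((p_le267.trans (p_le261.trans (le_refl (grp 24 ch3_Q)))) (p_le269 (toPerm_mem_grp (E := p_V268) (by simp [p_V268])))) ch3_o_leO3))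

theorem ch3_o_1_fix : grp 24 ch3_o_E2 ≤ MulAction.stabilizer (Equiv.Perm (Fin 24)) (⟨1, by decide⟩ : Fin 24) :=
  grp_le_stab ch3_o_E2_ok (by decide : 1 < 24) (by decide +kernel)

noncomputable def ch3_o_1_ts : List ℕ := [nat_lit 0, nat_lit 1, nat_lit 3, nat_lit 259]

noncomputable def ch3_o_1_ds : List ℕ := [nat_lit 1, nat_lit 15, nat_lit 11, nat_lit 16]

theorem ch3_o_1_dist : Dist 24 ch3_o_E2 ch3_o_G1 (⟨1, by decide⟩ : Fin 24) ch3_o_1_ts ch3_o_1_ds :=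
  dist_of_distB (k := 2) p_hn ch3_o_E2_ok ch3_o_G1_ok (by decide : 1 < 24) (by decide +kernel)

noncomputable def ch3_o_1_sl0 : SL := (SL.cons (nat_lit 1) (nat_lit 15) (Ch.cons (nat_lit 2) [nat_lit 1, nat_lit 3] Ch.nil) [nat_lit 1, nat_lit 3] (SL.cons (nat_lit 3) (nat_lit 11) (Ch.cons (nat_lit 2) [nat_lit 3, nat_lit 259] Ch.nil) [nat_lit 3, nat_lit 259] (SL.cons (nat_lit 259) (nat_lit 16) (Ch.cons (nat_lit 2) [nat_lit 1, nat_lit 3] Ch.nil) [nat_lit 1, nat_lit 3] SL.nil)))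

theorem ch3_o_1_sc0 : SCs 24 ch3_o_E2 ch3_o_G1 (⟨1, by decide⟩ : Fin 24) (SL.words ch3_o_1_sl0) :=
  scs_of_ok p_hn (det_lab p_hk ⊤) ch3_o_E2_ok ch3_o_G1_ok le_top le_top (by decide : 1 < 24) ch3_o_1_fix ch3_o_card2.le (by decide +kernel)

noncomputable def ch3_o_1_l : List ℕ := (appL (SL.words ch3_o_1_sl0) [])

theorem ch3_o_1_scs : SCs 24 ch3_o_E2 ch3_o_G1 (⟨1, by decide⟩ : Fin 24) ch3_o_1_l :=
  (SCs.append ch3_o_1_sc0 SCs.nil)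

noncomputable def ch3_o_1_rl0_0 : RL := (RL.cons (nat_lit 0) (nat_lit 1) (nat_lit 0) (nat_lit 0) (nat_lit 1) (nat_lit 0) (RL.cons (nat_lit 1) (nat_lit 15) (nat_lit 0) (nat_lit 0) (nat_lit 0) (nat_lit 0) (RL.cons (nat_lit 2) (nat_lit 11) (nat_lit 0) (nat_lit 0) (nat_lit 3) (nat_lit 0) (RL.cons (nat_lit 3) (nat_lit 16) (nat_lit 0) (nat_lit 0) (nat_lit 2) (nat_lit 0) RL.nil))))

theorem ch3_o_1_good0_0 : GoodSet 24 ch3_o_E2 ch3_o_G1 (⟨1, by decide⟩ : Fin 24) ch3_o_1_ts (nat_lit 1) (RL.pts ch3_o_1_rl0_0) :=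
  goodSet_of_ok p_hn (det_lab p_hk ⊤) ch3_o_E2_ok ch3_o_G1_ok le_top le_top (by decide : 1 < 24) (sepAt_lab p_hk _) (by decide +kernel)

theorem ch3_o_1_step0 : Step 24 ch3_o_E2 ch3_o_G1 ch3_o_1_ts (2 * 0 + 1) :=
  step_of_cover ch3_o_E2_ok ch3_o_1_dist (by decide +kernel) ch3_o_1_scs (by decide +kernel) ch3_o_1_good0_0 (kw := [nat_lit 1, nat_lit 3])
    (conj_mem_of_scs ch3_o_E2_ok ch3_o_G1_ok (by decide : 1 < 24) ch3_o_1_scs (c := 0) (d := 15) (by decide +kernel)) (by decide +kernel)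

noncomputable def ch3_o_1_rl1_0 : RL := (RL.cons (nat_lit 0) (nat_lit 1) (nat_lit 0) (nat_lit 0) (nat_lit 2) (nat_lit 0) (RL.cons (nat_lit 1) (nat_lit 15) (nat_lit 0) (nat_lit 0) (nat_lit 3) (nat_lit 0) (RL.cons (nat_lit 2) (nat_lit 11) (nat_lit 0) (nat_lit 0) (nat_lit 0) (nat_lit 0) (RL.cons (nat_lit 3) (nat_lit 16) (nat_lit 0) (nat_lit 0) (nat_lit 1) (nat_lit 0) RL.nil))))

theorem ch3_o_1_good1_0 : GoodSet 24 ch3_o_E2 ch3_o_G1 (⟨1, by decide⟩ : Fin 24) ch3_o_1_ts (nat_lit 3) (RL.pts ch3_o_1_rl1_0) :=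
  goodSet_of_ok p_hn (det_lab p_hk ⊤) ch3_o_E2_ok ch3_o_G1_ok le_top le_top (by decide : 1 < 24) (sepAt_lab p_hk _) (by decide +kernel)

theorem ch3_o_1_step1 : Step 24 ch3_o_E2 ch3_o_G1 ch3_o_1_ts (2 * 1 + 1) :=
  step_of_cover ch3_o_E2_ok ch3_o_1_dist (by decide +kernel) ch3_o_1_scs (by decide +kernel) ch3_o_1_good1_0 (kw := [nat_lit 3, nat_lit 259])
    (conj_mem_of_scs ch3_o_E2_ok ch3_o_G1_ok (by decide : 1 < 24) ch3_o_1_scs (c := 1) (d := 11) (by decide +kernel)) (by decide +kernel)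

theorem ch3_o_1_lev : grp 24 ch3_o_G1 ⊓ MulAction.stabilizer (Equiv.Perm (Fin 24)) (⟨1, by decide⟩ : Fin 24) = grp 24 ch3_o_E2 :=
  sims_level (gs := p_V262) rfl (by decide) ch3_o_1_fix ch3_o_1_dist (forall_lt_succ' (forall_lt_one ch3_o_1_step0) ch3_o_1_step1)

theorem ch3_o_1_cardG : Nat.card (grp 24 ch3_o_G1) = 16 :=
  card_of_level p_hn ch3_o_G1_ok (by decide : 1 < 24) ch3_o_1_lev ch3_o_card2 (m := 4) (by decide +kernel)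

theorem p_le272 : grp 24 ch3_o_E1 ≤ grp 24 ch3_o_G1 :=
  grp_le_of_memB p_hn p_hk ch3_o_G1_ok ch3_o_E1_ok (ws := [nat_lit 1, nat_lit 3, nat_lit 459011, nat_lit 329473, nat_lit 327939, nat_lit 5, nat_lit 7]) (by decide +kernel)

theorem p_le273 : grp 24 ch3_o_G1 ≤ grp 24 ch3_o_E1 :=
  grp_le_of_memB p_hn p_hk ch3_o_E1_ok ch3_o_G1_ok (ws := [nat_lit 1, nat_lit 3, nat_lit 11, nat_lit 13]) (by decide +kernel)

theorem ch3_o_1_eq : grp 24 ch3_o_E1 = grp 24 ch3_o_G1 :=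
  le_antisymm p_le272 p_le273

theorem ch3_o_card1 : Nat.card (grp 24 ch3_o_E1) = 16 :=
  by rw [ch3_o_1_eq]; exact ch3_o_1_cardG

theorem ch3_o_stab1 : grp 24 ch3_o_E1 ⊓ MulAction.stabilizer (Equiv.Perm (Fin 24)) (⟨1, by decide⟩ : Fin 24) = grp 24 ch3_o_E2 :=
  by rw [ch3_o_1_eq]; exact ch3_o_1_lev

theorem ch3_o_leO1 : grp 24 ch3_o_E1 ≤ grp 24 ch3_Q :=
  ch3_o_1_eq.le.trans (grp_cons_le ((p_le261.trans (le_refl (grp 24 ch3_Q))) (p_le263 (toPerm_mem_grp (E := p_V262) (by simp [p_V262])))) (grp_cons_le ((p_le261.trans (le_refl (grp 24 ch3_Q))) (p_le263 (toPerm_mem_grp (E := p_V262) (by simp [p_V262])))) ch3_o_leO2))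

theorem ch3_o_0_fix : grp 24 ch3_o_E1 ≤ MulAction.stabilizer (Equiv.Perm (Fin 24)) (⟨0, by decide⟩ : Fin 24) :=
  grp_le_stab ch3_o_E1_ok (by decide : 0 < 24) (by decide +kernel)

noncomputable def ch3_o_0_ts : List ℕ := [nat_lit 0, nat_lit 1]

noncomputable def ch3_o_0_ds : List ℕ := [nat_lit 0, nat_lit 23]

theorem ch3_o_0_dist : Dist 24 ch3_o_E1 ch3_o_G0 (⟨0, by decide⟩ : Fin 24) ch3_o_0_ts ch3_o_0_ds :=
  dist_of_distB (k := 1) p_hn ch3_o_E1_ok ch3_o_G0_ok (by decide : 0 < 24) (by decide +kernel)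

noncomputable def ch3_o_0_sl0 : SL := (SL.cons (nat_lit 1) (nat_lit 23) (Ch.cons (nat_lit 1) [nat_lit 3331, nat_lit 1] (Ch.cons (nat_lit 2) [nat_lit 11, nat_lit 13] Ch.nil)) [nat_lit 3331, nat_lit 1, nat_lit 11, nat_lit 13] SL.nil)

theorem ch3_o_0_sc0 : SCs 24 ch3_o_E1 ch3_o_G0 (⟨0, by decide⟩ : Fin 24) (SL.words ch3_o_0_sl0) :=
  scs_of_ok p_hn (det_lab p_hk ⊤) ch3_o_E1_ok ch3_o_G0_ok le_top le_top (by decide : 0 < 24) ch3_o_0_fix ch3_o_card1.le (by decide +kernel)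

noncomputable def ch3_o_0_l : List ℕ := (appL (SL.words ch3_o_0_sl0) [])

theorem ch3_o_0_scs : SCs 24 ch3_o_E1 ch3_o_G0 (⟨0, by decide⟩ : Fin 24) ch3_o_0_l :=
  (SCs.append ch3_o_0_sc0 SCs.nil)

noncomputable def ch3_o_0_rl0_0 : RL := (RL.cons (nat_lit 0) (nat_lit 0) (nat_lit 0) (nat_lit 0) (nat_lit 1) (nat_lit 0) (RL.cons (nat_lit 1) (nat_lit 23) (nat_lit 0) (nat_lit 0) (nat_lit 0) (nat_lit 0) RL.nil))

theorem ch3_o_0_good0_0 : GoodSet 24 ch3_o_E1 ch3_o_G0 (⟨0, by decide⟩ : Fin 24) ch3_o_0_ts (nat_lit 1) (RL.pts ch3_o_0_rl0_0) :=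
  goodSet_of_ok p_hn (det_lab p_hk ⊤) ch3_o_E1_ok ch3_o_G0_ok le_top le_top (by decide : 0 < 24) (sepAt_lab p_hk _) (by decide +kernel)

theorem ch3_o_0_step0 : Step 24 ch3_o_E1 ch3_o_G0 ch3_o_0_ts (2 * 0 + 1) :=
  step_of_cover ch3_o_E1_ok ch3_o_0_dist (by decide +kernel) ch3_o_0_scs (by decide +kernel) ch3_o_0_good0_0 (kw := [nat_lit 3331, nat_lit 1, nat_lit 11, nat_lit 13])
    (conj_mem_of_scs ch3_o_E1_ok ch3_o_G0_ok (by decide : 0 < 24) ch3_o_0_scs (c := 0) (d := 23) (by decide +kernel)) (by decide +kernel)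

theorem ch3_o_0_lev : grp 24 ch3_o_G0 ⊓ MulAction.stabilizer (Equiv.Perm (Fin 24)) (⟨0, by decide⟩ : Fin 24) = grp 24 ch3_o_E1 :=
  sims_level (gs := p_V254) rfl (by decide) ch3_o_0_fix ch3_o_0_dist (forall_lt_one ch3_o_0_step0)

theorem ch3_o_0_cardG : Nat.card (grp 24 ch3_o_G0) = 32 :=
  card_of_level p_hn ch3_o_G0_ok (by decide : 0 < 24) ch3_o_0_lev ch3_o_card1 (m := 2) (by decide +kernel)

theorem p_le274 : grp 24 ch3_o_E0 ≤ grp 24 ch3_o_G0 :=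
  grp_le_of_memB p_hn p_hk ch3_o_G0_ok ch3_o_E0_ok (ws := [nat_lit 1, nat_lit 3333, nat_lit 983809, nat_lit 3331, nat_lit 3, nat_lit 5, nat_lit 7, nat_lit 9, nat_lit 11, nat_lit 13, nat_lit 15]) (by decide +kernel)

theorem p_le275 : grp 24 ch3_o_G0 ≤ grp 24 ch3_o_E0 :=
  grp_le_of_memB p_hn p_hk ch3_o_E0_ok ch3_o_G0_ok (ws := [nat_lit 1, nat_lit 9, nat_lit 11, nat_lit 13, nat_lit 15, nat_lit 17, nat_lit 19, nat_lit 21]) (by decide +kernel)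

theorem ch3_o_0_eq : grp 24 ch3_o_E0 = grp 24 ch3_o_G0 :=
  le_antisymm p_le274 p_le275

theorem ch3_o_card0 : Nat.card (grp 24 ch3_o_E0) = 32 :=
  by rw [ch3_o_0_eq]; exact ch3_o_0_cardG

theorem ch3_o_stab0 : grp 24 ch3_o_E0 ⊓ MulAction.stabilizer (Equiv.Perm (Fin 24)) (⟨0, by decide⟩ : Fin 24) = grp 24 ch3_o_E1 :=
  by rw [ch3_o_0_eq]; exact ch3_o_0_lev

theorem ch3_o_leO0 : grp 24 ch3_o_E0 ≤ grp 24 ch3_Q :=
  ch3_o_0_eq.le.trans (grp_cons_le ((le_refl (grp 24 ch3_Q)) (p_le255 (toPerm_mem_grp (E := p_V254) (by simp [p_V254])))) ch3_o_leO1)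

theorem p_le276 : grp 24 ch3_Q ≤ grp 24 ch3_o_E0 :=
  grp_le_of_memB p_hn p_hk ch3_o_E0_ok ch3_Q_ok (ws := [nat_lit 3, nat_lit 17, nat_lit 1, nat_lit 5, nat_lit 7]) (by decide +kernel)

theorem ch3_o_eq : grp 24 ch3_Q = grp 24 ch3_o_E0 :=
  le_antisymm p_le276 ch3_o_leO0

theorem ch3_o_card : Nat.card (grp 24 ch3_Q) = 32 :=
  by rw [ch3_o_eq]; exact ch3_o_card0

noncomputable def ch3_o_ch : Ch := (Ch.cons (nat_lit 0) [nat_lit 1, nat_lit 3, nat_lit 5, nat_lit 7] (Ch.cons (nat_lit 1) [nat_lit 9, nat_lit 11, nat_lit 13, nat_lit 15, nat_lit 17] (Ch.cons (nat_lit 2) [nat_lit 19, nat_lit 21] Ch.nil)))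

theorem ch3_o_exact : Ch.Exact 24 ch3_o_E0 ch3_o_ch (grp 24 ch3_o_E0) :=
  Ch.exact (k := 5) (L := (lab 24 5)) p_hn ch3_o_E0_ok (by decide +kernel) (wgrp_le_grp _ _ _) ch3_o_card0.le

theorem ch3_n : grp 24 nt_c3_K ≤ Subgroup.normalizer (grp 24 ch3_Q : Set (Equiv.Perm (Fin 24))) :=
  EvG.le_norm p_hn p_hk nt_c3_K_ok ch3_Q_ok ch3_o_E0_ok ch3_o_eq.ge (W := [[nat_lit 19, nat_lit 21, nat_lit 0x131501, nat_lit 0x150d01, nat_lit 4875], [nat_lit 4875, nat_lit 9, nat_lit 0x150901, nat_lit 2305, nat_lit 5387], [nat_lit 19, nat_lit 4885, nat_lit 3329, nat_lit 0x131501, nat_lit 4873], [nat_lit 19, nat_lit 4885, nat_lit 3329, nat_lit 0x131501, nat_lit 4873]]) (by decide +kernel)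

theorem ch3_x5 : Net.toPerm 24 p_g277 ∈ (grp 24 EG) ⊓ Subgroup.centralizer {Net.toPerm 24 p_g113} :=
  nt_c3_eq.ge (mem_grp_of_memB p_hn p_hk nt_c3_K_ok p_g277_ok (w := (nat_lit 0x50508030607)) (by decide +kernel))

theorem ch3_ord5 : orderOf (Net.toPerm 24 p_g277) = 5 :=
  orderOf_net p_hn p_hk p_g277_ok (by decide) (ps := [5]) (by set_option linter.unusedSimpArgs false in simp [Nat.primeFactorsList_ofNat]) (by decide +kernel)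

theorem ch3 : IsOfCharacteristicTwo ↥((grp 24 EG) ⊓ Subgroup.centralizer {Net.toPerm 24 p_g113}) :=
  H44.Ki.charTwo_of_primes (ch3_le.trans nt_c3_eq.ge) (nt_c3_eq.le.trans ch3_n)
    (IsPGroup.of_card (n := 5) ch3_o_card) fun p hp hd => by
  rw [nt_c3_card] at hd ⊢
  have h := (Nat.mem_primeFactorsList (by norm_num)).2 ⟨hp, hd⟩
  simp [Nat.primeFactorsList_ofNat] at h
  rcases h with rfl | rfl
  · exact .inl rfl
  · exact .inr ⟨by norm_num, _, ch3_x5, ch3_ord5 ▸ pow_orderOf_eq_one _, _, (toPerm_mem_grp (E := ch3_Q) (List.Mem.head _)),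
      EvG.ncomm_net (k := 5) p_hn (by decide +kernel)⟩

theorem noPair : H62.EV.NoPair (grp 24 E) :=
  amb.noPair reps fun t ht => by
  rcases ht with rfl | rfl | rfl
  · exact ch1
  · exact ch2
  · exact ch3

end Cfsg.Agent.H17.EvM22
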