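import Mathlib
import Cfsg.Agent.H43.Cent
import Cfsg.Agent.H43.MpHS
import Cfsg.Agent.H43.HSO
import Cfsg.Agent.H17.EvG

set_option autoImplicit false
set_option maxRecDepth 200000
set_option linter.style.longLine false

namespace Cfsg.Agent.H17.EvHT

open Cfsg.Agent.H43

theorem t_hn : NOk 100 := by decide

theorem t_hk : 100 ≤ 2 ^ 7 := by decide

noncomputable def EG : List Net := [MpHS.a, HSM.g1, HSM.g2]

theorem EG_ok : okE 100 EG = true := (okE_cons.2 ⟨MpHS.a_ok, (okE_cons.2 ⟨HSM.g1_ok, (okE_cons.2 ⟨HSM.g2_ok, (okE_nil 100)⟩)⟩)⟩)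

noncomputable def t_g1 : Net := (Net.cons (nat_lit 1) (nat_lit 0x54151445054011004451400) (Net.cons (nat_lit 2) (nat_lit 0x1032002230002002001311100) (Net.cons (nat_lit 4) (nat_lit 0x70102080d0d050a050c0d00) (Net.cons (nat_lit 8) (nat_lit 0xc70006008a00800008000d) (Net.cons (nat_lit 16) (nat_lit 0x4c4500001cd20000000b) (Net.cons (nat_lit 32) (nat_lit 0x500000000080a2490) (Net.cons (nat_lit 64) (nat_lit 0x45ddfecbb) (Net.cons (nat_lit 32) (nat_lit 0xb000000009a1f44f7) (Net.cons (nat_lit 16) (nat_lit 0x1353000086e000008414) (Net.cons (nat_lit 8) (nat_lit 0xbf00410015004100ef008f) (Net.cons (nat_lit 4) (nat_lit 0x3060c02090900020d0802) (Net.cons (nat_lit 2) (nat_lit 0x2211022221101211211022220) (Net.cons (nat_lit 1) (nat_lit 0x4101104150155141414411044) Net.nil)))))))))))))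

theorem t_g1_ok : Net.ok 100 t_g1 = true := by decide +kernel

noncomputable def t_g2 : Net := (Net.cons (nat_lit 1) (nat_lit 0x5451441410151515440504050) (Net.cons (nat_lit 2) (nat_lit 0x2310211112211333202011020) (Net.cons (nat_lit 4) (nat_lit 0xc02060a0c0b060a0e0b0c04) (Net.cons (nat_lit 8) (nat_lit 0xc005600d50067001a0003) (Net.cons (nat_lit 16) (nat_lit 0xc08a000015030000000d) (Net.cons (nat_lit 32) (nat_lit 0x800000000440c1b80) (Net.cons (nat_lit 64) (nat_lit 0x5d74ddb88) (Net.cons (nat_lit 32) (nat_lit 0xe00000000b8d879ab) (Net.cons (nat_lit 16) (nat_lit 0xe7a6000072e5000024d1) (Net.cons (nat_lit 8) (nat_lit 0x5a00d20003005000260035) (Net.cons (nat_lit 4) (nat_lit 0x50603070104000404060e00) (Net.cons (nat_lit 2) (nat_lit 0x133231233020122220301010) (Net.cons (nat_lit 1) (nat_lit 0x1145051504545411405041414) Net.nil)))))))))))))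

theorem t_g2_ok : Net.ok 100 t_g2 = true := by decide +kernel

noncomputable def t_V3 : List Net := [t_g1, t_g2]

theorem t_V3_ok : okE 100 t_V3 = true := (okE_cons.2 ⟨t_g1_ok, (okE_cons.2 ⟨t_g2_ok, (okE_nil 100)⟩)⟩)

noncomputable def t_g5 : Net := (Net.cons (nat_lit 1) (nat_lit 0x4000544111500010551054050) (Net.cons (nat_lit 2) (nat_lit 0x2100012003013213003000200) (Net.cons (nat_lit 4) (nat_lit 0x102020b0c00000200010e0c) (Net.cons (nat_lit 8) (nat_lit 0xcd00eb00bc00180080000a) (Net.cons (nat_lit 16) (nat_lit 0x47ec000012830000000c) (Net.cons (nat_lit 32) (nat_lit 0x8000000005848a1c0) (Net.cons (nat_lit 64) (nat_lit 0x6ff4eb5fa) (Net.cons (nat_lit 32) (nat_lit 0x2000000009661d13c) (Net.cons (nat_lit 16) (nat_lit 0xf9720000d70d0000910c) (Net.cons (nat_lit 8) (nat_lit 0x8800ab00d000ae007000aa) (Net.cons (nat_lit 4) (nat_lit 0x90b050302090e080e030300) (Net.cons (nat_lit 2) (nat_lit 0x23233111020110032322020) (Net.cons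 (nat_lit 1) (nat_lit 0x4440500501101544500400500) Net.nil)))))))))))))

theorem t_g5_ok : Net.ok 100 t_g5 = true := by decide +kernel

noncomputable def t_g6 : Net := (Net.cons (nat_lit 1) (nat_lit 0x1511501011441504455014440) (Net.cons (nat_lit 2) (nat_lit 0x110123221100311201221330) (Net.cons (nat_lit 4) (nat_lit 0x1050206090f060f07030300) (Net.cons (nat_lit 8) (nat_lit 0x590026003200ce00160002) (Net.cons (nat_lit 16) (nat_lit 0xc30300002c8800000000) (Net.cons (nat_lit 32) (nat_lit 0xb000000000114a400) (Net.cons (nat_lit 64) (nat_lit 0x95fddb542) (Net.cons (nat_lit 32) (nat_lit 0x8000000002b60a0d2) (Net.cons (nat_lit 16) (nat_lit 0xa67900008ec70000b5ec) (Net.cons (nat_lit 8) (nat_lit 0x30001e0000008e00a8002e) (Net.cons (nat_lit 4) (nat_lit 0xe0c020f070604070e030004) (Net.cons (nat_lit 2) (nat_lit 0x2031011230213333331203220) (Net.cons (nat_lit 1) (nat_lit 0x51011540154514504040100) Net.nil)))))))))))))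

theorem t_g6_ok : Net.ok 100 t_g6 = true := by decide +kernel

noncomputable def t_V7 : List Net := [t_g5, t_g6]

theorem t_V7_ok : okE 100 t_V7 = true := (okE_cons.2 ⟨t_g5_ok, (okE_cons.2 ⟨t_g6_ok, (okE_nil 100)⟩)⟩)

noncomputable def t_g9 : Net := (Net.cons (nat_lit 1) (nat_lit 0x4411450514044140450401000) (Net.cons (nat_lit 2) (nat_lit 0x2100200002220332120001020) (Net.cons (nat_lit 4) (nat_lit 0xd0808070c08020d02040808) (Net.cons (nat_lit 8) (nat_lit 0xbc00a400ed006100480001) (Net.cons (nat_lit 16) (nat_lit 0x5b7a0000cfe50000000d) (Net.cons (nat_lit 32) (nat_lit 0x72810540) (Net.cons (nat_lit 64) (nat_lit 0x57f8185fc) (Net.cons (nat_lit 32) (nat_lit 0xe000000007672cfd0) (Net.cons (nat_lit 16) (nat_lit 0xf2ff000048cc00006ead) (Net.cons (nat_lit 8) (nat_lit 0xf3000b0063006400880079) (Net.cons (nat_lit 4) (nat_lit 0xc0a000e0f06070b04050600) (Net.cons (nat_lit 2) (nat_lit 0x3221301113101031000033130) (Net.cons (nat_lit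 1) (nat_lit 0x4001101010001155054145450) Net.nil)))))))))))))

theorem t_g9_ok : Net.ok 100 t_g9 = true := by decide +kernel

noncomputable def t_g10 : Net := (Net.cons (nat_lit 1) (nat_lit 0x15111044405555400545000) (Net.cons (nat_lit 2) (nat_lit 0x1133201003230203131322200) (Net.cons (nat_lit 4) (nat_lit 0x106020e0e080b030e020002) (Net.cons (nat_lit 8) (nat_lit 0x14001400da00fa00080008) (Net.cons (nat_lit 16) (nat_lit 0x8a52000034a500000000) (Net.cons (nat_lit 32) (nat_lit 0x10000000096242a40) (Net.cons (nat_lit 64) (nat_lit 0x1b7353fd8) (Net.cons (nat_lit 32) (nat_lit 0xa00000000b24bb998) (Net.cons (nat_lit 16) (nat_lit 0xb83b0000dc3c0000f45a) (Net.cons (nat_lit 8) (nat_lit 0xaf008500ee004500dc0048) (Net.cons (nat_lit 4) (nat_lit 0x2030b0b0707050607030c02) (Net.cons (nat_lit 2) (nat_lit 0x1310120030120002333020130) (Net.cons (nat_lit 1) (nat_lit 0x4055101004555505514041040) Net.nil)))))))))))))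

theorem t_g10_ok : Net.ok 100 t_g10 = true := by decide +kernel

noncomputable def t_V11 : List Net := [t_g9, t_g10]

theorem t_V11_ok : okE 100 t_V11 = true := (okE_cons.2 ⟨t_g9_ok, (okE_cons.2 ⟨t_g10_ok, (okE_nil 100)⟩)⟩)

noncomputable def t_g13 : Net := (Net.cons (nat_lit 1) (nat_lit 0x1555544045114150440551540) (Net.cons (nat_lit 2) (nat_lit 0x332221301032130120120300) (Net.cons (nat_lit 4) (nat_lit 0x803030401000b0804020505) (Net.cons (nat_lit 8) (nat_lit 0xbb006d00d4001f0055000e) (Net.cons (nat_lit 16) (nat_lit 0x3e1c000030b70000000c) (Net.cons (nat_lit 32) (nat_lit 0x80000000002363640) (Net.cons (nat_lit 64) (nat_lit 0x7af3f7669) (Net.cons (nat_lit 32) (nat_lit 0x900000000a0e8c648) (Net.cons (nat_lit 16) (nat_lit 0xf79e0000c99300004027) (Net.cons (nat_lit 8) (nat_lit 0x93007600b90064009800ab) (Net.cons (nat_lit 4) (nat_lit 0x7050d0e00050202020e05) (Net.cons (nat_lit 2) (nat_lit 0x1311110322123101101013230) (Net.cons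 (nat_lit 1) (nat_lit 0x1055441104005055400005040) Net.nil)))))))))))))

theorem t_g13_ok : Net.ok 100 t_g13 = true := by decide +kernel

noncomputable def t_g14 : Net := (Net.cons (nat_lit 1) (nat_lit 0x4455054515154040545514100) (Net.cons (nat_lit 2) (nat_lit 0x2300101020233003003011000) (Net.cons (nat_lit 4) (nat_lit 0xa0c0b0b0a070e07060a0f00) (Net.cons (nat_lit 8) (nat_lit 0x6b001500940001004f0008) (Net.cons (nat_lit 16) (nat_lit 0x1b5a0000031a00000002) (Net.cons (nat_lit 32) (nat_lit 0xb00000000822e9050) (Net.cons (nat_lit 64) (nat_lit 0x5af7ef6da) (Net.cons (nat_lit 32) (nat_lit 0xd00000000506ff318) (Net.cons (nat_lit 16) (nat_lit 0xda8400003f580000e61a) (Net.cons (nat_lit 8) (nat_lit 0x7d00d700ce005300770018) (Net.cons (nat_lit 4) (nat_lit 0x60b03070902000b09060100) (Net.cons (nat_lit 2) (nat_lit 0x300320202212100030130300) (Net.cons (nat_lit 1) (nat_lit 0x155155051005541105055100) Net.nil)))))))))))))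

theorem t_g14_ok : Net.ok 100 t_g14 = true := by decide +kernel

noncomputable def t_g15 : Net := (Net.cons (nat_lit 1) (nat_lit 0x5501551141404014554115440) (Net.cons (nat_lit 2) (nat_lit 0x132021313013222301200100) (Net.cons (nat_lit 4) (nat_lit 0x901080d060d0c0c00000908) (Net.cons (nat_lit 8) (nat_lit 0xc400a800e9000800000001) (Net.cons (nat_lit 16) (nat_lit 0x813c0000a56700000005) (Net.cons (nat_lit 32) (nat_lit 0x6000000009c540080) (Net.cons (nat_lit 64) (nat_lit 0xbbd768684) (Net.cons (nat_lit 32) (nat_lit 0xe000000002dced2fd) (Net.cons (nat_lit 16) (nat_lit 0x25940000776a0000265c) (Net.cons (nat_lit 8) (nat_lit 0xa500b8007900d300ee0051) (Net.cons (nat_lit 4) (nat_lit 0x80905090d0c0a0305050108) (Net.cons (nat_lit 2) (nat_lit 0x33200200212032213210100) (Net.cons (nat_lit 1) (nat_lit 0x5000141505005455044145100) Net.nil)))))))))))))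

theorem t_g15_ok : Net.ok 100 t_g15 = true := by decide +kernel

noncomputable def t_V16 : List Net := [t_g13, t_g14, t_g15]

theorem t_V16_ok : okE 100 t_V16 = true := (okE_cons.2 ⟨t_g13_ok, (okE_cons.2 ⟨t_g14_ok, (okE_cons.2 ⟨t_g15_ok, (okE_nil 100)⟩)⟩)⟩)

noncomputable def t_g18 : Net := (Net.cons (nat_lit 1) (nat_lit 0x5515550150111510501004440) (Net.cons (nat_lit 2) (nat_lit 0x3130122322123100113001000) (Net.cons (nat_lit 4) (nat_lit 0x701010d040405020c0a0c00) (Net.cons (nat_lit 8) (nat_lit 0xcf008800aa004500850004) (Net.cons (nat_lit 16) (nat_lit 0x66780000201800000001) (Net.cons (nat_lit 32) (nat_lit 0x40000000043233820) (Net.cons (nat_lit 64) (nat_lit 0xdc72ff9f1) (Net.cons (nat_lit 32) (nat_lit 0x900000000ca4d0b74) (Net.cons (nat_lit 16) (nat_lit 0x42d40000393900005181) (Net.cons (nat_lit 8) (nat_lit 0x1700e000020005008f00f4) (Net.cons (nat_lit 4) (nat_lit 0x60a040b0807070c010c0e00) (Net.cons (nat_lit 2) (nat_lit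 0x3202022220030021300001330) (Net.cons (nat_lit 1) (nat_lit 0x5405444515405544000014540) Net.nil)))))))))))))

theorem t_g18_ok : Net.ok 100 t_g18 = true := by decide +kernel

noncomputable def t_g19 : Net := (Net.cons (nat_lit 1) (nat_lit 0x4544451050511404041400000) (Net.cons (nat_lit 2) (nat_lit 0x2120333022021023302022200) (Net.cons (nat_lit 4) (nat_lit 0xe06040f0e02030901090500) (Net.cons (nat_lit 8) (nat_lit 0xb00220008001d00810000) (Net.cons (nat_lit 16) (nat_lit 0x72830000aca00000000e) (Net.cons (nat_lit 32) (nat_lit 0x60000000073030c40) (Net.cons (nat_lit 64) (nat_lit 0x87f43ced6) (Net.cons (nat_lit 32) (nat_lit 0xd00000000f06336dc) (Net.cons (nat_lit 16) (nat_lit 0xa03a000076950000938e) (Net.cons (nat_lit 8) (nat_lit 0xbf000000c30077004f0070) (Net.cons (nat_lit 4) (nat_lit 0x6010300090d0809090f0600) (Net.cons (nat_lit 2) (nat_lit 0x2001013021121332301100300) (Net.cons (nat_lit 1) (nat_lit 0x4444454110400110444401400)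 Net.nil)))))))))))))

theorem t_g19_ok : Net.ok 100 t_g19 = true := by decide +kernel

noncomputable def t_g20 : Net := (Net.cons (nat_lit 1) (nat_lit 0x5415014545545004054010400) (Net.cons (nat_lit 2) (nat_lit 0x12313321223212313230300) (Net.cons (nat_lit 4) (nat_lit 0x1090c09090f000001010501) (Net.cons (nat_lit 8) (nat_lit 0x1a00290031008c003d0000) (Net.cons (nat_lit 16) (nat_lit 0x1ed90000130f00000004) (Net.cons (nat_lit 32) (nat_lit 0x3000000008c608230) (Net.cons (nat_lit 64) (nat_lit 0xeaf6092b5) (Net.cons (nat_lit 32) (nat_lit 0xa00000000928b01d4) (Net.cons (nat_lit 16) (nat_lit 0xe0000082000000d65) (Net.cons (nat_lit 8) (nat_lit 0xa60069007c00fd00a10061) (Net.cons (nat_lit 4) (nat_lit 0x901060003070d0303030101) (Net.cons (nat_lit 2) (nat_lit 0x1221202113012302132221210) (Net.cons (nat_lit 1) (nat_lit 0x5555004041115110414400100) Net.nil)))))))))))))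

theorem t_g20_ok : Net.ok 100 t_g20 = true := by decide +kernel

noncomputable def t_V21 : List Net := [t_g18, t_g19, t_g20]

theorem t_V21_ok : okE 100 t_V21 = true := (okE_cons.2 ⟨t_g18_ok, (okE_cons.2 ⟨t_g19_ok, (okE_cons.2 ⟨t_g20_ok, (okE_nil 100)⟩)⟩)⟩)

noncomputable def t_g23 : Net := (Net.cons (nat_lit 1) (nat_lit 0x5115115100405114540000500) (Net.cons (nat_lit 2) (nat_lit 0x2023133211301031001102300) (Net.cons (nat_lit 4) (nat_lit 0x707060800030d0300000600) (Net.cons (nat_lit 8) (nat_lit 0x5000910093008900100000) (Net.cons (nat_lit 16) (nat_lit 0xb6260000d81a00000000) (Net.cons (nat_lit 32) (nat_lit 0x20000000015402340) (Net.cons (nat_lit 64) (nat_lit 0xb97e03b40) (Net.cons (nat_lit 32) (nat_lit 0x6000000004f56b1c0) (Net.cons (nat_lit 16) (nat_lit 0xe43700004a9a00001300) (Net.cons (nat_lit 8) (nat_lit 0x50009100130009001000e0) (Net.cons (nat_lit 4) (nat_lit 0x707060801030d0300000600) (Net.cons (nat_lit 2) (nat_lit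 0x2023133211301031001102300) (Net.cons (nat_lit 1) (nat_lit 0x5115115100405114540000500) Net.nil)))))))))))))

theorem t_g23_ok : Net.ok 100 t_g23 = true := by decide +kernel

noncomputable def t_g24 : Net := (Net.cons (nat_lit 1) (nat_lit 0x5014410540455504005140100) (Net.cons (nat_lit 2) (nat_lit 0x13203320020321032220200) (Net.cons (nat_lit 4) (nat_lit 0xf090201010705040c070d02) (Net.cons (nat_lit 8) (nat_lit 0xa6005c000400cd0043000a) (Net.cons (nat_lit 16) (nat_lit 0x10800000530f00000008) (Net.cons (nat_lit 32) (nat_lit 0xc005700) (Net.cons (nat_lit 64) (nat_lit 0xfaf86571a) (Net.cons (nat_lit 32) (nat_lit 0x50000000048856188) (Net.cons (nat_lit 16) (nat_lit 0xc754000083e20000b740) (Net.cons (nat_lit 8) (nat_lit 0xfc000f004500cf0071005a) (Net.cons (nat_lit 4) (nat_lit 0x70d0a030500030a0d050202) (Net.cons (nat_lit 2) (nat_lit 0x2311202323213210023330230) (Net.cons (nat_lit 1) (nat_lit 0x1054011540404114005501550) Net.nil)))))))))))))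

theorem t_g24_ok : Net.ok 100 t_g24 = true := by decide +kernel

noncomputable def t_g25 : Net := (Net.cons (nat_lit 1) (nat_lit 0x4405005014101014140014000) (Net.cons (nat_lit 2) (nat_lit 0x222110203331313002101000) (Net.cons (nat_lit 4) (nat_lit 0x201010d09090202010a0000) (Net.cons (nat_lit 8) (nat_lit 0xff007e00710041000c0000) (Net.cons (nat_lit 16) (nat_lit 0x1541000095050000000b) (Net.cons (nat_lit 32) (nat_lit 0x80000000022617500) (Net.cons (nat_lit 64) (nat_lit 0x67af57dba) (Net.cons (nat_lit 32) (nat_lit 0xb00000000f7216543) (Net.cons (nat_lit 16) (nat_lit 0x2f170000a7870000181b) (Net.cons (nat_lit 8) (nat_lit 0xbd007c003b004b004c0000) (Net.cons (nat_lit 4) (nat_lit 0x6050d0d0d090202050a0000) (Net.cons (nat_lit 2) (nat_lit 0x222110203331313002101000) (Net.cons (nat_lit 1) (nat_lit 0x4405005014101014140014100) Net.nil)))))))))))))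

theorem t_g25_ok : Net.ok 100 t_g25 = true := by decide +kernel

noncomputable def t_V26 : List Net := [t_g23, t_g24, t_g25]

theorem t_V26_ok : okE 100 t_V26 = true := (okE_cons.2 ⟨t_g23_ok, (okE_cons.2 ⟨t_g24_ok, (okE_cons.2 ⟨t_g25_ok, (okE_nil 100)⟩)⟩)⟩)

noncomputable def t_g28 : Net := (Net.cons (nat_lit 1) (nat_lit 0x1155544445004051004101040) (Net.cons (nat_lit 2) (nat_lit 0x2231211030120130022200200) (Net.cons (nat_lit 4) (nat_lit 0xa0b08090906030a02000205) (Net.cons (nat_lit 8) (nat_lit 0x7600990002005800320000) (Net.cons (nat_lit 16) (nat_lit 0x2cc0000084c800000002) (Net.cons (nat_lit 32) (nat_lit 0x50000000004fa3810) (Net.cons (nat_lit 64) (nat_lit 0xa7ffa3b37) (Net.cons (nat_lit 32) (nat_lit 0x7000000005cbea492) (Net.cons (nat_lit 16) (nat_lit 0xf3c10000df8800003b22) (Net.cons (nat_lit 8) (nat_lit 0x7600f900c20018005200a0) (Net.cons (nat_lit 4) (nat_lit 0xa0f0c090906070a02080205) (Net.cons (nat_lit 2) (nat_lit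 0x3231211030120130022200210) (Net.cons (nat_lit 1) (nat_lit 0x1155544445004051004101040) Net.nil)))))))))))))

theorem t_g28_ok : Net.ok 100 t_g28 = true := by decide +kernel

noncomputable def t_g29 : Net := (Net.cons (nat_lit 1) (nat_lit 0x4511000005501000054040400) (Net.cons (nat_lit 2) (nat_lit 0x323211101000321003220200) (Net.cons (nat_lit 4) (nat_lit 0x50d010c02000600000900) (Net.cons (nat_lit 8) (nat_lit 0x5700b100ca000800080000) (Net.cons (nat_lit 16) (nat_lit 0x20c20000234500000000) (Net.cons (nat_lit 32) (nat_lit 0x1002290) (Net.cons (nat_lit 64) (nat_lit 0x5c304a7f0) (Net.cons (nat_lit 32) (nat_lit 0xa0000000025586290) (Net.cons (nat_lit 16) (nat_lit 0xb8c80000bf250000c8c0) (Net.cons (nat_lit 8) (nat_lit 0x1f00f900ca004a000d0050) (Net.cons (nat_lit 4) (nat_lit 0x4050d010802040604040b00) (Net.cons (nat_lit 2) (nat_lit 0x3303211121201321003220200) (Net.cons (nat_lit 1) (nat_lit 0x4511000005501000054040400) Net.nil)))))))))))))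

theorem t_g29_ok : Net.ok 100 t_g29 = true := by decide +kernel

noncomputable def t_g30 : Net := (Net.cons (nat_lit 1) (nat_lit 0x514401411554554104001100) (Net.cons (nat_lit 2) (nat_lit 0x3123231113011032111021000) (Net.cons (nat_lit 4) (nat_lit 0xb0e080305010104070b0108) (Net.cons (nat_lit 8) (nat_lit 0xe000a000d1008100640000) (Net.cons (nat_lit 16) (nat_lit 0x2cb0000a68d00000004) (Net.cons (nat_lit 32) (nat_lit 0x225584b0) (Net.cons (nat_lit 64) (nat_lit 0x9227fa6b8) (Net.cons (nat_lit 32) (nat_lit 0xc0000000067d525bc) (Net.cons (nat_lit 16) (nat_lit 0xc34b0000b68d00000844) (Net.cons (nat_lit 8) (nat_lit 0xe90020005100c100740010) (Net.cons (nat_lit 4) (nat_lit 0x30608090509010c070b0508) (Net.cons (nat_lit 2) (nat_lit 0x3123231331211032111223000) (Net.cons (nat_lit 1) (nat_lit 0x114505411554554104001100) Net.nil)))))))))))))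

theorem t_g30_ok : Net.ok 100 t_g30 = true := by decide +kernel

noncomputable def t_g31 : Net := (Net.cons (nat_lit 1) (nat_lit 0x4000014504114450101404400) (Net.cons (nat_lit 2) (nat_lit 0x310102102201210010000) (Net.cons (nat_lit 4) (nat_lit 0x80e0408050c0a0e00020800) (Net.cons (nat_lit 8) (nat_lit 0x950070005900b100e00000) (Net.cons (nat_lit 16) (nat_lit 0xc09f0000a0cc00000002) (Net.cons (nat_lit 32) (nat_lit 0x200000000008fa050) (Net.cons (nat_lit 64) (nat_lit 0x8d18fb1d2) (Net.cons (nat_lit 32) (nat_lit 0x700000000604be0f0) (Net.cons (nat_lit 16) (nat_lit 0xd53f0000fd4c00005f82) (Net.cons (nat_lit 8) (nat_lit 0xdd0070005900f300a00000) (Net.cons (nat_lit 4) (nat_lit 0x80e040c050c0a0a00060800) (Net.cons (nat_lit 2) (nat_lit 0x312102102201210010010) (Net.cons (nat_lit 1) (nat_lit 0x4000014504114450101404400) Net.nil)))))))))))))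

theorem t_g31_ok : Net.ok 100 t_g31 = true := by decide +kernel

noncomputable def t_V32 : List Net := [t_g28, t_g29, t_g30, t_g31]

theorem t_V32_ok : okE 100 t_V32 = true := (okE_cons.2 ⟨t_g28_ok, (okE_cons.2 ⟨t_g29_ok, (okE_cons.2 ⟨t_g30_ok, (okE_cons.2 ⟨t_g31_ok, (okE_nil 100)⟩)⟩)⟩)⟩)

noncomputable def t_g34 : Net := (Net.cons (nat_lit 1) (nat_lit 0x5100410140440444101440000) (Net.cons (nat_lit 2) (nat_lit 0x1332221000010330330300100) (Net.cons (nat_lit 4) (nat_lit 0xe0f06010709020005000200) (Net.cons (nat_lit 8) (nat_lit 0x1d0040004000fe003b0000) (Net.cons (nat_lit 16) (nat_lit 0x3b090000922000000000) (Net.cons (nat_lit 32) (nat_lit 0x2384c180) (Net.cons (nat_lit 64) (nat_lit 0x6bc4f9c0) (Net.cons (nat_lit 32) (nat_lit 0xf000000006fa35680) (Net.cons (nat_lit 16) (nat_lit 0x32390000975a00000c90) (Net.cons (nat_lit 8) (nat_lit 0x5f0040004000fe007b0000) (Net.cons (nat_lit 4) (nat_lit 0xa0e0e01040f000007060b00) (Net.cons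 (nat_lit 2) (nat_lit 0x1332223002210332330302100) (Net.cons (nat_lit 1) (nat_lit 0x5100410140440444101440000) Net.nil)))))))))))))

theorem t_g34_ok : Net.ok 100 t_g34 = true := by decide +kernel

noncomputable def t_V35 : List Net := [t_g34, t_g30]

theorem t_V35_ok : okE 100 t_V35 = true := (okE_cons.2 ⟨t_g34_ok, (okE_cons.2 ⟨t_g30_ok, (okE_nil 100)⟩)⟩)

noncomputable def t_V37 : List Net := [t_g34, t_g34]

theorem t_V37_ok : okE 100 t_V37 = true := (okE_cons.2 ⟨t_g34_ok, (okE_cons.2 ⟨t_g34_ok, (okE_nil 100)⟩)⟩)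

noncomputable def lb_E : List Net := [MpHS.a, HSM.g1, HSM.g2, t_g1, t_g2, t_g5, t_g6, t_g9, t_g10, t_g13, t_g14, t_g15, t_g18, t_g19, t_g20, t_g23, t_g24, t_g25, t_g28, t_g29, t_g30, t_g31, t_g34, t_g30, t_g34, t_g34]

theorem lb_E_ok : okE 100 lb_E = true := (okE_cons.2 ⟨MpHS.a_ok, (okE_cons.2 ⟨HSM.g1_ok, (okE_cons.2 ⟨HSM.g2_ok, (okE_cons.2 ⟨t_g1_ok, (okE_cons.2 ⟨t_g2_ok, (okE_cons.2 ⟨t_g5_ok, (okE_cons.2 ⟨t_g6_ok, (okE_cons.2 ⟨t_g9_ok, (okE_cons.2 ⟨t_g10_ok, (okE_cons.2 ⟨t_g13_ok, (okE_cons.2 ⟨t_g14_ok, (okE_cons.2 ⟨t_g15_ok, (okE_cons.2 ⟨t_g18_ok, (okE_cons.2 ⟨t_g19_ok, (okE_cons.2 ⟨t_g20_ok, (okE_cons.2 ⟨t_g23_ok, (okE_cons.2 ⟨t_g24_ok, (okE_cons.2 ⟨t_g25_ok, (okE_cons.2 ⟨t_g28_ok, (okE_cons.2 ⟨t_g29_ok, (okE_cons.2 ⟨t_g30_ok, (okE_cons.2 ⟨t_g31_ok, (okE_cons.2 ⟨t_g34_ok, (okE_cons.2 ⟨t_g30_ok, (okE_cons.2 ⟨t_g34_ok, (okE_cons.2 ⟨t_g34_ok, (okE_nil 100)⟩)⟩)⟩)⟩)⟩)⟩)⟩)⟩)⟩)⟩)⟩)⟩)⟩)⟩)⟩)⟩)⟩)⟩)⟩)⟩)⟩)⟩)⟩)⟩)⟩)⟩)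

noncomputable def t_g39 : Net := (Net.cons (nat_lit 1) (nat_lit 0x4454455511441040054110004) (Net.cons (nat_lit 2) (nat_lit 0x3211311112030110002202000) (Net.cons (nat_lit 4) (nat_lit 0x306020d030400040c020000) (Net.cons (nat_lit 8) (nat_lit 0xa500de0044000000260000) (Net.cons (nat_lit 16) (nat_lit 0xe60e000000100000000c) (Net.cons (nat_lit 32) (nat_lit 0x80000000004c92080) (Net.cons (nat_lit 64) (nat_lit 0x4e6cd328c) (Net.cons (nat_lit 32) (nat_lit 0xe0000000006896494) (Net.cons (nat_lit 16) (nat_lit 0xaeee000001900000002e) (Net.cons (nat_lit 8) (nat_lit 0xe5009e00440000007b0000) (Net.cons (nat_lit 4) (nat_lit 0x3070a0d030c00040f030802) (Net.cons (nat_lit 2) (nat_lit 0x3231311312230130002202000) (Net.cons (nat_lit 1) (nat_lit 0x5454455505441040014550004) Net.nil)))))))))))))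

theorem t_g39_ok : Net.ok 100 t_g39 = true := by decide +kernel

noncomputable def t_g40 : Net := (Net.cons (nat_lit 1) (nat_lit 0x1045514154040455440111044) (Net.cons (nat_lit 2) (nat_lit 0x1201021033000332112321300) (Net.cons (nat_lit 4) (nat_lit 0x90c03080a0402040108000a) (Net.cons (nat_lit 8) (nat_lit 0x440027003d000d0005000a) (Net.cons (nat_lit 16) (nat_lit 0x1f3d0000198a00000009) (Net.cons (nat_lit 32) (nat_lit 0x70000000008348170) (Net.cons (nat_lit 64) (nat_lit 0xfb975c7f0) (Net.cons (nat_lit 32) (nat_lit 0xc000000004b803a38) (Net.cons (nat_lit 16) (nat_lit 0x3590000bf610000798b) (Net.cons (nat_lit 8) (nat_lit 0x81003b00ea000000710051) (Net.cons (nat_lit 4) (nat_lit 0x7080503040806040b0c0005) (Net.cons (nat_lit 2) (nat_lit 0x1113221130303123132211112) (Net.cons (nat_lit 1) (nat_lit 0x1110540011051041044150510) Net.nil)))))))))))))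

theorem t_g40_ok : Net.ok 100 t_g40 = true := by decide +kernel

noncomputable def t_g41 : Net := (Net.cons (nat_lit 1) (nat_lit 0x10540440511404444454404) (Net.cons (nat_lit 2) (nat_lit 0x302013201130102030221010) (Net.cons (nat_lit 4) (nat_lit 0x80a00010803040a06020802) (Net.cons (nat_lit 8) (nat_lit 0x2b005c00e600e8006f0006) (Net.cons (nat_lit 16) (nat_lit 0x4330000051a000000002) (Net.cons (nat_lit 32) (nat_lit 0xa00000000524000a0) (Net.cons (nat_lit 64) (nat_lit 0x877786ca3) (Net.cons (nat_lit 32) (nat_lit 0xc0000000057483e69) (Net.cons (nat_lit 16) (nat_lit 0xab600006e5c00008654) (Net.cons (nat_lit 8) (nat_lit 0xac00fb008600f300090024) (Net.cons (nat_lit 4) (nat_lit 0x904090f0c01020c02060801) (Net.cons (nat_lit 2) (nat_lit 0x1333331111110020022200230) (Net.cons (nat_lit 1) (nat_lit 0x141145404104411444410450) Net.nil)))))))))))))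

theorem t_g41_ok : Net.ok 100 t_g41 = true := by decide +kernel

noncomputable def t_g42 : Net := (Net.cons (nat_lit 1) (nat_lit 0x155115040545544051045000) (Net.cons (nat_lit 2) (nat_lit 0x3331010000330020110131300) (Net.cons (nat_lit 4) (nat_lit 0x1050d07090c05020a0b080d) (Net.cons (nat_lit 8) (nat_lit 0x14007a00c7002900830000) (Net.cons (nat_lit 16) (nat_lit 0x4e54000040b800000000) (Net.cons (nat_lit 32) (nat_lit 0x4000000004c8f2260) (Net.cons (nat_lit 64) (nat_lit 0x9ffbfe6ee) (Net.cons (nat_lit 32) (nat_lit 0x1000000005bc41cbd) (Net.cons (nat_lit 16) (nat_lit 0x9a35000066f400009343) (Net.cons (nat_lit 8) (nat_lit 0x6005800c100a100dc007c) (Net.cons (nat_lit 4) (nat_lit 0x20f0f070e0604070d0d0d) (Net.cons (nat_lit 2) (nat_lit 0x2323013112112102130112100) (Net.cons (nat_lit 1) (nat_lit 0x1140001405415040515105114) Net.nil)))))))))))))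

theorem t_g42_ok : Net.ok 100 t_g42 = true := by decide +kernel

noncomputable def t_g43 : Net := (Net.cons (nat_lit 1) (nat_lit 0x5111000041000054010501050) (Net.cons (nat_lit 2) (nat_lit 0x1233123230030030212232020) (Net.cons (nat_lit 4) (nat_lit 0x60c01000b09000f0009040a) (Net.cons (nat_lit 8) (nat_lit 0x98009200a5001200030004) (Net.cons (nat_lit 16) (nat_lit 0xb1c40000406000000000) (Net.cons (nat_lit 32) (nat_lit 0xc0000000048160640) (Net.cons (nat_lit 64) (nat_lit 0x2ff7e06de) (Net.cons (nat_lit 32) (nat_lit 0xc00000000781341f8) (Net.cons (nat_lit 16) (nat_lit 0x1492000049e900005d16) (Net.cons (nat_lit 8) (nat_lit 0xdc00150095001c008c0078) (Net.cons (nat_lit 4) (nat_lit 0x50e0a0d060a010708070a03) (Net.cons (nat_lit 2) (nat_lit 0x3001322210220103330010011) (Net.cons (nat_lit 1) (nat_lit 0x4101101115040054404154051) Net.nil)))))))))))))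

theorem t_g43_ok : Net.ok 100 t_g43 = true := by decide +kernel

noncomputable def t_g44 : Net := (Net.cons (nat_lit 1) (nat_lit 0x4155450444450500541015040) (Net.cons (nat_lit 2) (nat_lit 0x2120101210330220310303000) (Net.cons (nat_lit 4) (nat_lit 0x70000000b0a07000402030a) (Net.cons (nat_lit 8) (nat_lit 0x8f00010050000200500000) (Net.cons (nat_lit 16) (nat_lit 0x400f0000059900000000) (Net.cons (nat_lit 32) (nat_lit 0x4000000002fc52800) (Net.cons (nat_lit 64) (nat_lit 0xc7fe56e01) (Net.cons (nat_lit 32) (nat_lit 0xe0000000058763845) (Net.cons (nat_lit 16) (nat_lit 0x63a5000075ab0000c696) (Net.cons (nat_lit 8) (nat_lit 0x900025007800c300650067) (Net.cons (nat_lit 4) (nat_lit 0x904070b030b0a0708010209) (Net.cons (nat_lit 2) (nat_lit 0x201210200331011031312211) (Net.cons (nat_lit 1) (nat_lit 0x4144545514051004411000451) Net.nil)))))))))))))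

theorem t_g44_ok : Net.ok 100 t_g44 = true := by decide +kernel

noncomputable def t_g45 : Net := (Net.cons (nat_lit 1) (nat_lit 0x1015400054001000005000000) (Net.cons (nat_lit 2) (nat_lit 0x311020221121023021022020) (Net.cons (nat_lit 4) (nat_lit 0xf060d01000c040c00000801) (Net.cons (nat_lit 8) (nat_lit 0x9000800044000000840000) (Net.cons (nat_lit 16) (nat_lit 0x80160000c00000000002) (Net.cons (nat_lit 32) (nat_lit 0x10000000051100000) (Net.cons (nat_lit 64) (nat_lit 0x2d556490b) (Net.cons (nat_lit 32) (nat_lit 0x7000000003330c206) (Net.cons (nat_lit 16) (nat_lit 0xc29600008e0800005282) (Net.cons (nat_lit 8) (nat_lit 0x900088006c001800ac0028) (Net.cons (nat_lit 4) (nat_lit 0xf060d01000c040c00000801) (Net.cons (nat_lit 2) (nat_lit 0x311020221121023121022020) (Net.cons (nat_lit 1) (nat_lit 0x1015400054001000005000000) Net.nil)))))))))))))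

theorem t_g45_ok : Net.ok 100 t_g45 = true := by decide +kernel

noncomputable def t_g46 : Net := (Net.cons (nat_lit 1) (nat_lit 0x145145150550415411400050) (Net.cons (nat_lit 2) (nat_lit 0x222010110000111120000000) (Net.cons (nat_lit 4) (nat_lit 0x1030802050e000100080003) (Net.cons (nat_lit 8) (nat_lit 0x7b008800c7002300320000) (Net.cons (nat_lit 16) (nat_lit 0x48240000004500000001) (Net.cons (nat_lit 32) (nat_lit 0x50000000048000220) (Net.cons (nat_lit 64) (nat_lit 0x4eaae22a1) (Net.cons (nat_lit 32) (nat_lit 0x7000000005f319552) (Net.cons (nat_lit 16) (nat_lit 0x7ec5000017ed00003fa1) (Net.cons (nat_lit 8) (nat_lit 0x7b008800c7002300720000) (Net.cons (nat_lit 4) (nat_lit 0x3030802050e000502080003) (Net.cons (nat_lit 2) (nat_lit 0x222012110000111120020000) (Net.cons (nat_lit 1) (nat_lit 0x145145150550415411400050) Net.nil)))))))))))))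

theorem t_g46_ok : Net.ok 100 t_g46 = true := by decide +kernel

noncomputable def t_g47 : Net := (Net.cons (nat_lit 1) (nat_lit 0x1505401040050444555410000) (Net.cons (nat_lit 2) (nat_lit 0x210031002031320102012020) (Net.cons (nat_lit 4) (nat_lit 0x20a000a0a010e0e01000900) (Net.cons (nat_lit 8) (nat_lit 0x4600a2001f001300000001) (Net.cons (nat_lit 16) (nat_lit 0xa080000053b800000002) (Net.cons (nat_lit 32) (nat_lit 0x40000000064000780) (Net.cons (nat_lit 64) (nat_lit 0x5f502c790) (Net.cons (nat_lit 32) (nat_lit 0x6000000006354fe68) (Net.cons (nat_lit 16) (nat_lit 0xeda10000d23800006703) (Net.cons (nat_lit 8) (nat_lit 0xc600a200db00b100000081) (Net.cons (nat_lit 4) (nat_lit 0x20e040a0e05080c07040f00) (Net.cons (nat_lit 2) (nat_lit 0x212031002031320102032020) (Net.cons (nat_lit 1) (nat_lit 0x1505401040050444555410000) Net.nil)))))))))))))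

theorem t_g47_ok : Net.ok 100 t_g47 = true := by decide +kernel

noncomputable def nt_c1_K : List Net := [t_g40, t_g41, t_g42, t_g43, t_g44, t_g45, t_g46, t_g47]

theorem nt_c1_K_ok : okE 100 nt_c1_K = true := (okE_cons.2 ⟨t_g40_ok, (okE_cons.2 ⟨t_g41_ok, (okE_cons.2 ⟨t_g42_ok, (okE_cons.2 ⟨t_g43_ok, (okE_cons.2 ⟨t_g44_ok, (okE_cons.2 ⟨t_g45_ok, (okE_cons.2 ⟨t_g46_ok, (okE_cons.2 ⟨t_g47_ok, (okE_nil 100)⟩)⟩)⟩)⟩)⟩)⟩)⟩)⟩)

noncomputable def t_V49 : List Net := [t_g1, t_g2, t_g5, t_g6, t_g9, t_g10, t_g13, t_g14, t_g15, t_g18, t_g19, t_g20, t_g23, t_g24, t_g25, t_g28, t_g29, t_g30, t_g31, t_g34, t_g30, t_g34, t_g34]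

theorem t_V49_ok : okE 100 t_V49 = true := (okE_cons.2 ⟨t_g1_ok, (okE_cons.2 ⟨t_g2_ok, (okE_cons.2 ⟨t_g5_ok, (okE_cons.2 ⟨t_g6_ok, (okE_cons.2 ⟨t_g9_ok, (okE_cons.2 ⟨t_g10_ok, (okE_cons.2 ⟨t_g13_ok, (okE_cons.2 ⟨t_g14_ok, (okE_cons.2 ⟨t_g15_ok, (okE_cons.2 ⟨t_g18_ok, (okE_cons.2 ⟨t_g19_ok, (okE_cons.2 ⟨t_g20_ok, (okE_cons.2 ⟨t_g23_ok, (okE_cons.2 ⟨t_g24_ok, (okE_cons.2 ⟨t_g25_ok, (okE_cons.2 ⟨t_g28_ok, (okE_cons.2 ⟨t_g29_ok, (okE_cons.2 ⟨t_g30_ok, (okE_cons.2 ⟨t_g31_ok, (okE_cons.2 ⟨t_g34_ok, (okE_cons.2 ⟨t_g30_ok, (okE_cons.2 ⟨t_g34_ok, (okE_cons.2 ⟨t_g34_ok, (okE_nil 100)⟩)⟩)⟩)⟩)⟩)⟩)⟩)⟩)⟩)⟩)⟩)⟩)⟩)⟩)⟩)⟩)⟩)⟩)⟩)⟩)⟩)⟩)⟩)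

noncomputable def t_V50 : List Net := [t_g5, t_g6, t_g9, t_g10, t_g13, t_g14, t_g15, t_g18, t_g19, t_g20, t_g23, t_g24, t_g25, t_g28, t_g29, t_g30, t_g31, t_g34, t_g30, t_g34, t_g34]

theorem t_V50_ok : okE 100 t_V50 = true := (okE_cons.2 ⟨t_g5_ok, (okE_cons.2 ⟨t_g6_ok, (okE_cons.2 ⟨t_g9_ok, (okE_cons.2 ⟨t_g10_ok, (okE_cons.2 ⟨t_g13_ok, (okE_cons.2 ⟨t_g14_ok, (okE_cons.2 ⟨t_g15_ok, (okE_cons.2 ⟨t_g18_ok, (okE_cons.2 ⟨t_g19_ok, (okE_cons.2 ⟨t_g20_ok, (okE_cons.2 ⟨t_g23_ok, (okE_cons.2 ⟨t_g24_ok, (okE_cons.2 ⟨t_g25_ok, (okE_cons.2 ⟨t_g28_ok, (okE_cons.2 ⟨t_g29_ok, (okE_cons.2 ⟨t_g30_ok, (okE_cons.2 ⟨t_g31_ok, (okE_cons.2 ⟨t_g34_ok, (okE_cons.2 ⟨t_g30_ok, (okE_cons.2 ⟨t_g34_ok, (okE_cons.2 ⟨t_g34_ok, (okE_nil 100)⟩)⟩)⟩)⟩)⟩)⟩)⟩)⟩)⟩)⟩)⟩)⟩)⟩)⟩)⟩)⟩)⟩)⟩)⟩)⟩)⟩)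

noncomputable def t_V51 : List Net := [t_g9, t_g10, t_g13, t_g14, t_g15, t_g18, t_g19, t_g20, t_g23, t_g24, t_g25, t_g28, t_g29, t_g30, t_g31, t_g34, t_g30, t_g34, t_g34]

theorem t_V51_ok : okE 100 t_V51 = true := (okE_cons.2 ⟨t_g9_ok, (okE_cons.2 ⟨t_g10_ok, (okE_cons.2 ⟨t_g13_ok, (okE_cons.2 ⟨t_g14_ok, (okE_cons.2 ⟨t_g15_ok, (okE_cons.2 ⟨t_g18_ok, (okE_cons.2 ⟨t_g19_ok, (okE_cons.2 ⟨t_g20_ok, (okE_cons.2 ⟨t_g23_ok, (okE_cons.2 ⟨t_g24_ok, (okE_cons.2 ⟨t_g25_ok, (okE_cons.2 ⟨t_g28_ok, (okE_cons.2 ⟨t_g29_ok, (okE_cons.2 ⟨t_g30_ok, (okE_cons.2 ⟨t_g31_ok, (okE_cons.2 ⟨t_g34_ok, (okE_cons.2 ⟨t_g30_ok, (okE_cons.2 ⟨t_g34_ok, (okE_cons.2 ⟨t_g34_ok, (okE_nil 100)⟩)⟩)⟩)⟩)⟩)⟩)⟩)⟩)⟩)⟩)⟩)⟩)⟩)⟩)⟩)⟩)⟩)⟩)⟩)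

noncomputable def t_V52 : List Net := [t_g13, t_g14, t_g15, t_g18, t_g19, t_g20, t_g23, t_g24, t_g25, t_g28, t_g29, t_g30, t_g31, t_g34, t_g30, t_g34, t_g34]

theorem t_V52_ok : okE 100 t_V52 = true := (okE_cons.2 ⟨t_g13_ok, (okE_cons.2 ⟨t_g14_ok, (okE_cons.2 ⟨t_g15_ok, (okE_cons.2 ⟨t_g18_ok, (okE_cons.2 ⟨t_g19_ok, (okE_cons.2 ⟨t_g20_ok, (okE_cons.2 ⟨t_g23_ok, (okE_cons.2 ⟨t_g24_ok, (okE_cons.2 ⟨t_g25_ok, (okE_cons.2 ⟨t_g28_ok, (okE_cons.2 ⟨t_g29_ok, (okE_cons.2 ⟨t_g30_ok, (okE_cons.2 ⟨t_g31_ok, (okE_cons.2 ⟨t_g34_ok, (okE_cons.2 ⟨t_g30_ok, (okE_cons.2 ⟨t_g34_ok, (okE_cons.2 ⟨t_g34_ok, (okE_nil 100)⟩)⟩)⟩)⟩)⟩)⟩)⟩)⟩)⟩)⟩)⟩)⟩)⟩)⟩)⟩)⟩)⟩)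

noncomputable def t_V53 : List Net := [t_g18, t_g19, t_g20, t_g23, t_g24, t_g25, t_g28, t_g29, t_g30, t_g31, t_g34, t_g30, t_g34, t_g34]

theorem t_V53_ok : okE 100 t_V53 = true := (okE_cons.2 ⟨t_g18_ok, (okE_cons.2 ⟨t_g19_ok, (okE_cons.2 ⟨t_g20_ok, (okE_cons.2 ⟨t_g23_ok, (okE_cons.2 ⟨t_g24_ok, (okE_cons.2 ⟨t_g25_ok, (okE_cons.2 ⟨t_g28_ok, (okE_cons.2 ⟨t_g29_ok, (okE_cons.2 ⟨t_g30_ok, (okE_cons.2 ⟨t_g31_ok, (okE_cons.2 ⟨t_g34_ok, (okE_cons.2 ⟨t_g30_ok, (okE_cons.2 ⟨t_g34_ok, (okE_cons.2 ⟨t_g34_ok, (okE_nil 100)⟩)⟩)⟩)⟩)⟩)⟩)⟩)⟩)⟩)⟩)⟩)⟩)⟩)⟩)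

noncomputable def t_g54 : Net := (Net.cons (nat_lit 1) (nat_lit 0x4010054140400110405150100) (Net.cons (nat_lit 2) (nat_lit 0x3003102113100111203013000) (Net.cons (nat_lit 4) (nat_lit 0x30f0f0e00020e06050b0008) (Net.cons (nat_lit 8) (nat_lit 0xb1009b008200e600ea0000) (Net.cons (nat_lit 16) (nat_lit 0x49060000c00400000000) (Net.cons (nat_lit 32) (nat_lit 0x8000000003100c480) (Net.cons (nat_lit 64) (nat_lit 0x6bb0fee98) (Net.cons (nat_lit 32) (nat_lit 0x8000000005c1561a0) (Net.cons (nat_lit 16) (nat_lit 0x68670000e6440000bc40) (Net.cons (nat_lit 8) (nat_lit 0xb8009e000b00fa00e70000) (Net.cons (nat_lit 4) (nat_lit 0x3070f06080a0e0605030808) (Net.cons (nat_lit 2) (nat_lit 0x3003102113100111203013000) (Net.cons (nat_lit 1) (nat_lit 0x4010054140400110405150100) Net.nil)))))))))))))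

theorem t_g54_ok : Net.ok 100 t_g54 = true := by decide +kernel

noncomputable def t_V55 : List Net := [t_g23, t_g54, t_g29]

theorem t_V55_ok : okE 100 t_V55 = true := (okE_cons.2 ⟨t_g23_ok, (okE_cons.2 ⟨t_g54_ok, (okE_cons.2 ⟨t_g29_ok, (okE_nil 100)⟩)⟩)⟩)

noncomputable def t_V57 : List Net := [t_g54, t_g29]

theorem t_V57_ok : okE 100 t_V57 = true := (okE_cons.2 ⟨t_g54_ok, (okE_cons.2 ⟨t_g29_ok, (okE_nil 100)⟩)⟩)

noncomputable def t_V58 : List Net := [t_g29]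

theorem t_V58_ok : okE 100 t_V58 = true := (okE_cons.2 ⟨t_g29_ok, (okE_nil 100)⟩)

noncomputable def t_V59 : List Net := []

theorem t_V59_ok : okE 100 t_V59 = true := (okE_nil 100)

noncomputable def nt_c1_cnt_EG : List Net := [MpHS.a, HSM.g1, HSM.g2, t_g1, t_g2, t_g5, t_g6, t_g9, t_g10, t_g13, t_g14, t_g15, t_g18, t_g19, t_g20, t_g23, t_g24, t_g25, t_g28, t_g29, t_g30, t_g31, t_g34, t_g54]

theorem nt_c1_cnt_EG_ok : okE 100 nt_c1_cnt_EG = true := (okE_cons.2 ⟨MpHS.a_ok, (okE_cons.2 ⟨HSM.g1_ok, (okE_cons.2 ⟨HSM.g2_ok, (okE_cons.2 ⟨t_g1_ok, (okE_cons.2 ⟨t_g2_ok, (okE_cons.2 ⟨t_g5_ok, (okE_cons.2 ⟨t_g6_ok, (okE_cons.2 ⟨t_g9_ok, (okE_cons.2 ⟨t_g10_ok, (okE_cons.2 ⟨t_g13_ok, (okE_cons.2 ⟨t_g14_ok, (okE_cons.2 ⟨t_g15_ok, (okE_cons.2 ⟨t_g18_ok, (okE_cons.2 ⟨t_g19_ok, (okE_cons.2 ⟨t_g20_ok, (okE_cons.2 ⟨t_g23_ok, (okE_cons.2 ⟨t_g24_ok, (okE_cons.2 ⟨t_g25_ok, (okE_cons.2 ⟨t_g28_ok, (okE_cons.2 ⟨t_g29_ok, (okE_cons.2 ⟨t_g30_ok,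 (okE_cons.2 ⟨t_g31_ok, (okE_cons.2 ⟨t_g34_ok, (okE_cons.2 ⟨t_g54_ok, (okE_nil 100)⟩)⟩)⟩)⟩)⟩)⟩)⟩)⟩)⟩)⟩)⟩)⟩)⟩)⟩)⟩)⟩)⟩)⟩)⟩)⟩)⟩)⟩)⟩)⟩)

noncomputable def t_g60 : Net := (Net.cons (nat_lit 1) (nat_lit 0x5510404551405411415411440) (Net.cons (nat_lit 2) (nat_lit 0x12002313311021120103000) (Net.cons (nat_lit 4) (nat_lit 0xc0a0204080f0f0c05080b00) (Net.cons (nat_lit 8) (nat_lit 0x4100030013000300080004) (Net.cons (nat_lit 16) (nat_lit 0x101c0000219000000002) (Net.cons (nat_lit 32) (nat_lit 0x22044000) (Net.cons (nat_lit 64) (nat_lit 0x62a845410) (Net.cons (nat_lit 32) (nat_lit 0x900000000a216e181) (Net.cons (nat_lit 16) (nat_lit 0x115e00003c9900000002) (Net.cons (nat_lit 8) (nat_lit 0x55002b00520002002f001d) (Net.cons (nat_lit 4) (nat_lit 0xc0a0204080f0f0c070a0f00) (Net.cons (nat_lit 2) (nat_lit 0x12002313311021121103000) (Net.cons (nat_lit 1) (nat_lit 0x5510404551405411415411440) Net.nil)))))))))))))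

theorem t_g60_ok : Net.ok 100 t_g60 = true := by decide +kernel

noncomputable def t_g61 : Net := (Net.cons (nat_lit 1) (nat_lit 0x4411555040105000100155140) (Net.cons (nat_lit 2) (nat_lit 0x2101302000001000003001210) (Net.cons (nat_lit 4) (nat_lit 0x50d0a0f08050a080b080908) (Net.cons (nat_lit 8) (nat_lit 0x83006d004c00710000000b) (Net.cons (nat_lit 16) (nat_lit 0xb849000051400000000d) (Net.cons (nat_lit 32) (nat_lit 0xb8026180) (Net.cons (nat_lit 64) (nat_lit 0xbfc8f6de6) (Net.cons (nat_lit 32) (nat_lit 0x700000000027daea3) (Net.cons (nat_lit 16) (nat_lit 0xba0b000035870000f9e6) (Net.cons (nat_lit 8) (nat_lit 0x20003c00a3003900e1002f) (Net.cons (nat_lit 4) (nat_lit 0x80c0201000905050b010c) (Net.cons (nat_lit 2) (nat_lit 0x1032011122101312200220203) (Net.cons (nat_lit 1) (nat_lit 0x1501055545014110140054011) Net.nil)))))))))))))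

theorem t_g61_ok : Net.ok 100 t_g61 = true := by decide +kernel

noncomputable def t_g62 : Net := (Net.cons (nat_lit 1) (nat_lit 0x414155011101154101011014) (Net.cons (nat_lit 2) (nat_lit 0x110123232010213130221010) (Net.cons (nat_lit 4) (nat_lit 0xb03060e0d0e000f00070402) (Net.cons (nat_lit 8) (nat_lit 0xd3000f00a2000800910006) (Net.cons (nat_lit 16) (nat_lit 0xa0120000640c00000006) (Net.cons (nat_lit 32) (nat_lit 0x82086400) (Net.cons (nat_lit 64) (nat_lit 0xfbe4ded32) (Net.cons (nat_lit 32) (nat_lit 0x30000000001dbbc5e) (Net.cons (nat_lit 16) (nat_lit 0x8d55000066a50000498d) (Net.cons (nat_lit 8) (nat_lit 0xe8000b002300ab008d0048) (Net.cons (nat_lit 4) (nat_lit 0x80104000900080d0806010c) (Net.cons (nat_lit 2) (nat_lit 0x300303100203210200213) (Net.cons (nat_lit 1) (nat_lit 0x4015151555140014054154555) Net.nil)))))))))))))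

theorem t_g62_ok : Net.ok 100 t_g62 = true := by decide +kernel

noncomputable def t_g63 : Net := (Net.cons (nat_lit 1) (nat_lit 0x5011501450151055545155414) (Net.cons (nat_lit 2) (nat_lit 0x1030003302301221201220020) (Net.cons (nat_lit 4) (nat_lit 0x409000b0408000c0900060a) (Net.cons (nat_lit 8) (nat_lit 0x89004f000400e400010004) (Net.cons (nat_lit 16) (nat_lit 0x69d000041d000000005) (Net.cons (nat_lit 32) (nat_lit 0x800000000c2aa0040) (Net.cons (nat_lit 64) (nat_lit 0x5ceff21cd) (Net.cons (nat_lit 32) (nat_lit 0xf00000000a95082e5) (Net.cons (nat_lit 16) (nat_lit 0x33f600008798000080b4) (Net.cons (nat_lit 8) (nat_lit 0x45001000c8006000fb00a0) (Net.cons (nat_lit 4) (nat_lit 0x101020d0b0a010809010302) (Net.cons (nat_lit 2) (nat_lit 0x3332011202001321213233120) (Net.cons (nat_lit 1) (nat_lit 0x4514105410140451501545505) Net.nil)))))))))))))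

theorem t_g63_ok : Net.ok 100 t_g63 = true := by decide +kernel

noncomputable def t_g64 : Net := (Net.cons (nat_lit 1) (nat_lit 0x4400101051411405515101510) (Net.cons (nat_lit 2) (nat_lit 0x3130200202301021000122030) (Net.cons (nat_lit 4) (nat_lit 0x606090909030a050a050808) (Net.cons (nat_lit 8) (nat_lit 0x4700260031002300890009) (Net.cons (nat_lit 16) (nat_lit 0x92ea000020480000000c) (Net.cons (nat_lit 32) (nat_lit 0xc0000000042008c00) (Net.cons (nat_lit 64) (nat_lit 0x75e3c8cda) (Net.cons (nat_lit 32) (nat_lit 0x80000000043ac21c2) (Net.cons (nat_lit 16) (nat_lit 0x561d000072e600001a8f) (Net.cons (nat_lit 8) (nat_lit 0xd3007a0078002e00b40052) (Net.cons (nat_lit 4) (nat_lit 0x60c010b0f0e070d010c090c) (Net.cons (nat_lit 2) (nat_lit 0x2233202203131210021122321) (Net.cons (nat_lit 1) (nat_lit 0x4405544455511441504400400) Net.nil)))))))))))))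

theorem t_g64_ok : Net.ok 100 t_g64 = true := by decide +kernel

noncomputable def t_g65 : Net := (Net.cons (nat_lit 1) (nat_lit 0x4011051001500001504101400) (Net.cons (nat_lit 2) (nat_lit 0x13031203130223003201000) (Net.cons (nat_lit 4) (nat_lit 0x40c0504030b090000000100) (Net.cons (nat_lit 8) (nat_lit 0x9c00ae0033004f00890006) (Net.cons (nat_lit 16) (nat_lit 0x42100000730900000005) (Net.cons (nat_lit 32) (nat_lit 0x8680f010) (Net.cons (nat_lit 64) (nat_lit 0x59e80fe15) (Net.cons (nat_lit 32) (nat_lit 0xf00000000f2bfe517) (Net.cons (nat_lit 16) (nat_lit 0xde300000c56b00009c07) (Net.cons (nat_lit 8) (nat_lit 0x9c00ee001b006f00a90046) (Net.cons (nat_lit 4) (nat_lit 0x40c050603090b0200020100) (Net.cons (nat_lit 2) (nat_lit 0x13131203130223003201000) (Net.cons (nat_lit 1) (nat_lit 0x4011051001500001504101400) Net.nil)))))))))))))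

theorem t_g65_ok : Net.ok 100 t_g65 = true := by decide +kernel

noncomputable def t_g66 : Net := (Net.cons (nat_lit 1) (nat_lit 0x4111015400544444445045040) (Net.cons (nat_lit 2) (nat_lit 0x1201121022201202202210100) (Net.cons (nat_lit 4) (nat_lit 0xc0708040701090408050500) (Net.cons (nat_lit 8) (nat_lit 0xd100690054000e00340002) (Net.cons (nat_lit 16) (nat_lit 0x5404000080a000000000) (Net.cons (nat_lit 32) (nat_lit 0x300000000ca043400) (Net.cons (nat_lit 64) (nat_lit 0x9cf057f22) (Net.cons (nat_lit 32) (nat_lit 0x700000000cc34b381) (Net.cons (nat_lit 16) (nat_lit 0x5306000086e000001605) (Net.cons (nat_lit 8) (nat_lit 0xd000e800f5000f00f50083) (Net.cons (nat_lit 4) (nat_lit 0xc07080407010d0408070500) (Net.cons (nat_lit 2) (nat_lit 0x1201131022203202202210100) (Net.cons (nat_lit 1) (nat_lit 0x4111015400544444445045040) Net.nil)))))))))))))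

theorem t_g66_ok : Net.ok 100 t_g66 = true := by decide +kernel

noncomputable def t_g67 : Net := (Net.cons (nat_lit 1) (nat_lit 0x5000404451451554445000000) (Net.cons (nat_lit 2) (nat_lit 0x203020302303100303210010) (Net.cons (nat_lit 4) (nat_lit 0xe010200050c0d0b0d030700) (Net.cons (nat_lit 8) (nat_lit 0x68002300a3002f00020000) (Net.cons (nat_lit 16) (nat_lit 0x3994000081300000000a) (Net.cons (nat_lit 32) (nat_lit 0x8000000000a801110) (Net.cons (nat_lit 64) (nat_lit 0x26fa9111e) (Net.cons (nat_lit 32) (nat_lit 0x9000000000a82f924) (Net.cons (nat_lit 16) (nat_lit 0x39940000b5090000120a) (Net.cons (nat_lit 8) (nat_lit 0x78002700d3001f00820065) (Net.cons (nat_lit 4) (nat_lit 0xf090203050d090b0d070301) (Net.cons (nat_lit 2) (nat_lit 0x203120302323310303211001) (Net.cons (nat_lit 1) (nat_lit 0x5000404041451554455000000) Net.nil)))))))))))))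

theorem t_g67_ok : Net.ok 100 t_g67 = true := by decide +kernel

noncomputable def t_g68 : Net := (Net.cons (nat_lit 1) (nat_lit 0x1114140140501005540101500) (Net.cons (nat_lit 2) (nat_lit 0x2220302210102101110003000) (Net.cons (nat_lit 4) (nat_lit 0x2060403040a000c08010d00) (Net.cons (nat_lit 8) (nat_lit 0xdf007300cc0020002a0000) (Net.cons (nat_lit 16) (nat_lit 0xf033000084650000000a) (Net.cons (nat_lit 32) (nat_lit 0x90000000024089360) (Net.cons (nat_lit 64) (nat_lit 0x76cc8937e) (Net.cons (nat_lit 32) (nat_lit 0xf00000000a72f9766) (Net.cons (nat_lit 16) (nat_lit 0xe3310000c4650000200a) (Net.cons (nat_lit 8) (nat_lit 0xdd007100dc002a003a0049) (Net.cons (nat_lit 4) (nat_lit 0x2070402040a010c02010d00) (Net.cons (nat_lit 2) (nat_lit 0x220322210102301132003200) (Net.cons (nat_lit 1) (nat_lit 0x1114140140501005540101500) Net.nil)))))))))))))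

theorem t_g68_ok : Net.ok 100 t_g68 = true := by decide +kernel

noncomputable def nt_c2_K : List Net := [t_g61, t_g62, t_g63, t_g64, t_g65, t_g66, t_g67, t_g68]

theorem nt_c2_K_ok : okE 100 nt_c2_K = true := (okE_cons.2 ⟨t_g61_ok, (okE_cons.2 ⟨t_g62_ok, (okE_cons.2 ⟨t_g63_ok, (okE_cons.2 ⟨t_g64_ok, (okE_cons.2 ⟨t_g65_ok, (okE_cons.2 ⟨t_g66_ok, (okE_cons.2 ⟨t_g67_ok, (okE_cons.2 ⟨t_g68_ok, (okE_nil 100)⟩)⟩)⟩)⟩)⟩)⟩)⟩)⟩)

noncomputable def t_V70 : List Net := [t_g23, t_g24, t_g25, t_g28, t_g29, t_g30, t_g31, t_g34, t_g30, t_g34, t_g34]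

theorem t_V70_ok : okE 100 t_V70 = true := (okE_cons.2 ⟨t_g23_ok, (okE_cons.2 ⟨t_g24_ok, (okE_cons.2 ⟨t_g25_ok, (okE_cons.2 ⟨t_g28_ok, (okE_cons.2 ⟨t_g29_ok, (okE_cons.2 ⟨t_g30_ok, (okE_cons.2 ⟨t_g31_ok, (okE_cons.2 ⟨t_g34_ok, (okE_cons.2 ⟨t_g30_ok, (okE_cons.2 ⟨t_g34_ok, (okE_cons.2 ⟨t_g34_ok, (okE_nil 100)⟩)⟩)⟩)⟩)⟩)⟩)⟩)⟩)⟩)⟩)⟩)

noncomputable def t_V71 : List Net := [t_g28, t_g29, t_g30, t_g31, t_g34, t_g30, t_g34, t_g34]

theorem t_V71_ok : okE 100 t_V71 = true := (okE_cons.2 ⟨t_g28_ok, (okE_cons.2 ⟨t_g29_ok, (okE_cons.2 ⟨t_g30_ok, (okE_cons.2 ⟨t_g31_ok, (okE_cons.2 ⟨t_g34_ok, (okE_cons.2 ⟨t_g30_ok, (okE_cons.2 ⟨t_g34_ok, (okE_cons.2 ⟨t_g34_ok, (okE_nil 100)⟩)⟩)⟩)⟩)⟩)⟩)⟩)⟩)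

noncomputable def t_g72 : Net := (Net.cons (nat_lit 1) (nat_lit 0x4144011001551005501440500) (Net.cons (nat_lit 2) (nat_lit 0x1113122010310200312103200) (Net.cons (nat_lit 4) (nat_lit 0xc060c0800040905000b0802) (Net.cons (nat_lit 8) (nat_lit 0x500580068004300080008) (Net.cons (nat_lit 16) (nat_lit 0x1544000050510000000b) (Net.cons (nat_lit 32) (nat_lit 0xe0000000030410d20) (Net.cons (nat_lit 64) (nat_lit 0x5b1e3edbb) (Net.cons (nat_lit 32) (nat_lit 0xe000000006b490e70) (Net.cons (nat_lit 16) (nat_lit 0x144c0000e3c70000171b) (Net.cons (nat_lit 8) (nat_lit 0x1004800f800d700180018) (Net.cons (nat_lit 4) (nat_lit 0xc060c0800060b05000f0802) (Net.cons (nat_lit 2) (nat_lit 0x1113122010330220312103200) (Net.cons (nat_lit 1) (nat_lit 0x4044011001541045501440500) Net.nil)))))))))))))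

theorem t_g72_ok : Net.ok 100 t_g72 = true := by decide +kernel

noncomputable def t_V73 : List Net := [t_g29, t_g72]

theorem t_V73_ok : okE 100 t_V73 = true := (okE_cons.2 ⟨t_g29_ok, (okE_cons.2 ⟨t_g72_ok, (okE_nil 100)⟩)⟩)

noncomputable def t_V75 : List Net := [t_g72]

theorem t_V75_ok : okE 100 t_V75 = true := (okE_cons.2 ⟨t_g72_ok, (okE_nil 100)⟩)

noncomputable def t_V76 : List Net := []

theorem t_V76_ok : okE 100 t_V76 = true := (okE_nil 100)

noncomputable def nt_c2_cnt_EG : List Net := [MpHS.a, HSM.g1, HSM.g2, t_g1, t_g2, t_g5, t_g6, t_g9, t_g10, t_g13, t_g14, t_g15, t_g18, t_g19, t_g20, t_g23, t_g24, t_g25, t_g28, t_g29, t_g30, t_g31, t_g34, t_g72]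

theorem nt_c2_cnt_EG_ok : okE 100 nt_c2_cnt_EG = true := (okE_cons.2 ⟨MpHS.a_ok, (okE_cons.2 ⟨HSM.g1_ok, (okE_cons.2 ⟨HSM.g2_ok, (okE_cons.2 ⟨t_g1_ok, (okE_cons.2 ⟨t_g2_ok, (okE_cons.2 ⟨t_g5_ok, (okE_cons.2 ⟨t_g6_ok, (okE_cons.2 ⟨t_g9_ok, (okE_cons.2 ⟨t_g10_ok, (okE_cons.2 ⟨t_g13_ok, (okE_cons.2 ⟨t_g14_ok, (okE_cons.2 ⟨t_g15_ok, (okE_cons.2 ⟨t_g18_ok, (okE_cons.2 ⟨t_g19_ok, (okE_cons.2 ⟨t_g20_ok, (okE_cons.2 ⟨t_g23_ok, (okE_cons.2 ⟨t_g24_ok, (okE_cons.2 ⟨t_g25_ok, (okE_cons.2 ⟨t_g28_ok, (okE_cons.2 ⟨t_g29_ok, (okE_cons.2 ⟨t_g30_ok, (okE_cons.2 ⟨t_g31_ok, (okE_cons.2 ⟨t_g34_ok, (okE_cons.2 ⟨t_g72_ok, (okE_nil 100)⟩)⟩)⟩)⟩)⟩)⟩)⟩)⟩)⟩)⟩)⟩)⟩)⟩)⟩)⟩)⟩)⟩)⟩)⟩)⟩)⟩)⟩)⟩)⟩)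

noncomputable def t_g77 : Net := (Net.cons (nat_lit 1) (nat_lit 0x4541504451515441551505544) (Net.cons (nat_lit 2) (nat_lit 0x1321110220010103021320100) (Net.cons (nat_lit 4) (nat_lit 0x60000090b040a0a0606040a) (Net.cons (nat_lit 8) (nat_lit 0x6c000c00080010000c000c) (Net.cons (nat_lit 16) (nat_lit 0x56f20000954b00000000) (Net.cons (nat_lit 32) (nat_lit 0xe0000000090684200) (Net.cons (nat_lit 64) (nat_lit 0xbb4787bc4) (Net.cons (nat_lit 32) (nat_lit 0x10000000050e04786) (Net.cons (nat_lit 16) (nat_lit 0xd1f100008a670000363d) (Net.cons (nat_lit 8) (nat_lit 0xd100f800fb00d400af0017) (Net.cons (nat_lit 4) (nat_lit 0xd0904060f0805090d050a0d) (Net.cons (nat_lit 2) (nat_lit 0x312220111021223012310200) (Net.cons (nat_lit 1) (nat_lit 0x1014051104040114004050011) Net.nil)))))))))))))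

theorem t_g77_ok : Net.ok 100 t_g77 = true := by decide +kernel

noncomputable def t_g78 : Net := (Net.cons (nat_lit 1) (nat_lit 0x5014545055551044401055114) (Net.cons (nat_lit 2) (nat_lit 0x3230321012330111111002200) (Net.cons (nat_lit 4) (nat_lit 0xf03040a0c08060406090603) (Net.cons (nat_lit 8) (nat_lit 0x1c00380050009300cc0002) (Net.cons (nat_lit 16) (nat_lit 0x2f8a0000558900000008) (Net.cons (nat_lit 32) (nat_lit 0x500000000011244b0) (Net.cons (nat_lit 64) (nat_lit 0xe095af7fb) (Net.cons (nat_lit 32) (nat_lit 0xa00000000ca65714a) (Net.cons (nat_lit 16) (nat_lit 0x48af00000e1300000ccc) (Net.cons (nat_lit 8) (nat_lit 0xf000ef00d000b8008400b3) (Net.cons (nat_lit 4) (nat_lit 0x705070300090b04090e0500) (Net.cons (nat_lit 2) (nat_lit 0x1131200013201300331100311) (Net.cons (nat_lit 1) (nat_lit 0x11505410405040155144545) Net.nil)))))))))))))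

theorem t_g78_ok : Net.ok 100 t_g78 = true := by decide +kernel

noncomputable def t_g79 : Net := (Net.cons (nat_lit 1) (nat_lit 0x4140441140515411551104454) (Net.cons (nat_lit 2) (nat_lit 0x130003102223120030313000) (Net.cons (nat_lit 4) (nat_lit 0x90a040008030606040d0109) (Net.cons (nat_lit 8) (nat_lit 0x6400ad0013003000c80002) (Net.cons (nat_lit 16) (nat_lit 0x1281000054aa00000003) (Net.cons (nat_lit 32) (nat_lit 0x60000000024112af0) (Net.cons (nat_lit 64) (nat_lit 0xfb679aaf0) (Net.cons (nat_lit 32) (nat_lit 0x50000000035ee47f8) (Net.cons (nat_lit 16) (nat_lit 0x6ca40000b44d00005ec6) (Net.cons (nat_lit 8) (nat_lit 0xfb00c0002200c4000200ac) (Net.cons (nat_lit 4) (nat_lit 0xc040a00000608080c000705) (Net.cons (nat_lit 2) (nat_lit 0x2033002221232222031023232) (Net.cons (nat_lit 1) (nat_lit 0x1015410515450544454005044) Net.nil)))))))))))))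

theorem t_g79_ok : Net.ok 100 t_g79 = true := by decide +kernel

noncomputable def t_g80 : Net := (Net.cons (nat_lit 1) (nat_lit 0x41550014014010101511150) (Net.cons (nat_lit 2) (nat_lit 0x2102200001020023001132200) (Net.cons (nat_lit 4) (nat_lit 0x4080b0a0c03090e0f080800) (Net.cons (nat_lit 8) (nat_lit 0x3100ac00c400ed00c5000c) (Net.cons (nat_lit 16) (nat_lit 0xc010000d82500000004) (Net.cons (nat_lit 32) (nat_lit 0xa0000000002491050) (Net.cons (nat_lit 64) (nat_lit 0x727db9cf8) (Net.cons (nat_lit 32) (nat_lit 0xa000000000d05c1a2) (Net.cons (nat_lit 16) (nat_lit 0x67b40000d3160000da0e) (Net.cons (nat_lit 8) (nat_lit 0xd3008c00cc008c008d00b2) (Net.cons (nat_lit 4) (nat_lit 0x30a0d090e0c0d0c0f050b04) (Net.cons (nat_lit 2) (nat_lit 0x2132321113132003000122102) (Net.cons (nat_lit 1) (nat_lit 0x5445405000104014101100150) Net.nil)))))))))))))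

theorem t_g80_ok : Net.ok 100 t_g80 = true := by decide +kernel

noncomputable def t_g81 : Net := (Net.cons (nat_lit 1) (nat_lit 0x1405041450540444114104100) (Net.cons (nat_lit 2) (nat_lit 0x1010010001030201222030010) (Net.cons (nat_lit 4) (nat_lit 0xe0a0204060f000105000800) (Net.cons (nat_lit 8) (nat_lit 0xe500b20078009800200001) (Net.cons (nat_lit 16) (nat_lit 0xfa0c0000001c00000008) (Net.cons (nat_lit 32) (nat_lit 0x20000000008048040) (Net.cons (nat_lit 64) (nat_lit 0xb5a45ac49) (Net.cons (nat_lit 32) (nat_lit 0x700000000006c98b5) (Net.cons (nat_lit 16) (nat_lit 0xf3fc0000687c00000868) (Net.cons (nat_lit 8) (nat_lit 0xe500f200fb009800e00001) (Net.cons (nat_lit 4) (nat_lit 0xe0b030c060f000105020800) (Net.cons (nat_lit 2) (nat_lit 0x1010010001030201222030010) (Net.cons (nat_lit 1) (nat_lit 0x1405041450540454114104100) Net.nil)))))))))))))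

theorem t_g81_ok : Net.ok 100 t_g81 = true := by decide +kernel

noncomputable def t_g82 : Net := (Net.cons (nat_lit 1) (nat_lit 0x4541410144110401141101000) (Net.cons (nat_lit 2) (nat_lit 0x1211110023113300100211220) (Net.cons (nat_lit 4) (nat_lit 0xf060109040504000a000508) (Net.cons (nat_lit 8) (nat_lit 0x2e004400c900460013000b) (Net.cons (nat_lit 16) (nat_lit 0x388e000072a900000000) (Net.cons (nat_lit 32) (nat_lit 0x8000000004a0e20a0) (Net.cons (nat_lit 64) (nat_lit 0x1ca1efaac) (Net.cons (nat_lit 32) (nat_lit 0xa00000000a92b323d) (Net.cons (nat_lit 16) (nat_lit 0xbfcb000060fd00008216) (Net.cons (nat_lit 8) (nat_lit 0xbf000b00590056001300c7) (Net.cons (nat_lit 4) (nat_lit 0xf0a050f050704000a08080c) (Net.cons (nat_lit 2) (nat_lit 0x1201112223111301310211220) (Net.cons (nat_lit 1) (nat_lit 0x545410144510411141101110) Net.nil)))))))))))))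

theorem t_g82_ok : Net.ok 100 t_g82 = true := by decide +kernel

noncomputable def t_g83 : Net := (Net.cons (nat_lit 1) (nat_lit 0x1514440450005040004100000) (Net.cons (nat_lit 2) (nat_lit 0x1220123000011221231000120) (Net.cons (nat_lit 4) (nat_lit 0xd0f0201060101000c000800) (Net.cons (nat_lit 8) (nat_lit 0x9000500026001400030004) (Net.cons (nat_lit 16) (nat_lit 0xd00b000083a600000000) (Net.cons (nat_lit 32) (nat_lit 0x4025400) (Net.cons (nat_lit 64) (nat_lit 0x444c7d56e) (Net.cons (nat_lit 32) (nat_lit 0xa36870d2) (Net.cons (nat_lit 16) (nat_lit 0xd65d0000afe500002c46) (Net.cons (nat_lit 8) (nat_lit 0xf100500026007400670004) (Net.cons (nat_lit 4) (nat_lit 0x90f0e0f0605010408040806) (Net.cons (nat_lit 2) (nat_lit 0x1220123000011221231000120) (Net.cons (nat_lit 1) (nat_lit 0x1514440450105040004100000) Net.nil)))))))))))))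

theorem t_g83_ok : Net.ok 100 t_g83 = true := by decide +kernel

noncomputable def t_g84 : Net := (Net.cons (nat_lit 1) (nat_lit 0x111511445014141005140410) (Net.cons (nat_lit 2) (nat_lit 0x2021302101212201312113100) (Net.cons (nat_lit 4) (nat_lit 0x70801090a020c060e000002) (Net.cons (nat_lit 8) (nat_lit 0xa00dd002a00460093000a) (Net.cons (nat_lit 16) (nat_lit 0x42960000601f00000000) (Net.cons (nat_lit 32) (nat_lit 0x8147020) (Net.cons (nat_lit 64) (nat_lit 0xaf9b4f6ba) (Net.cons (nat_lit 32) (nat_lit 0x20000000030f34d42) (Net.cons (nat_lit 16) (nat_lit 0xfa7f00007a5f0000bce4) (Net.cons (nat_lit 8) (nat_lit 0x2600d1000a006200970026) (Net.cons (nat_lit 4) (nat_lit 0x70809090a0a0c060e00000a) (Net.cons (nat_lit 2) (nat_lit 0x2021302101212201312113100) (Net.cons (nat_lit 1) (nat_lit 0x111511445014141005140410) Net.nil)))))))))))))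

theorem t_g84_ok : Net.ok 100 t_g84 = true := by decide +kernel

noncomputable def nt_c3_K : List Net := [t_g78, t_g79, t_g80, t_g81, t_g82, t_g83, t_g84]

theorem nt_c3_K_ok : okE 100 nt_c3_K = true := (okE_cons.2 ⟨t_g78_ok, (okE_cons.2 ⟨t_g79_ok, (okE_cons.2 ⟨t_g80_ok, (okE_cons.2 ⟨t_g81_ok, (okE_cons.2 ⟨t_g82_ok, (okE_cons.2 ⟨t_g83_ok, (okE_cons.2 ⟨t_g84_ok, (okE_nil 100)⟩)⟩)⟩)⟩)⟩)⟩)⟩)

noncomputable def t_g86 : Net := (Net.cons (nat_lit 1) (nat_lit 0x145005010450144541040140) (Net.cons (nat_lit 2) (nat_lit 0x3023203203330232110021200) (Net.cons (nat_lit 4) (nat_lit 0x903070a07070901000e0c0c) (Net.cons (nat_lit 8) (nat_lit 0x710064004000ca008d000e) (Net.cons (nat_lit 16) (nat_lit 0x29080000240300000005) (Net.cons (nat_lit 32) (nat_lit 0x30430c90) (Net.cons (nat_lit 64) (nat_lit 0x63df78cbb) (Net.cons (nat_lit 32) (nat_lit 0x900000000c843d6b7) (Net.cons (nat_lit 16) (nat_lit 0x324b00002cba000013a5) (Net.cons (nat_lit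 8) (nat_lit 0x720076005e00c200e10074) (Net.cons (nat_lit 4) (nat_lit 0xd0f050a020601070a08030c) (Net.cons (nat_lit 2) (nat_lit 0x1221313213213112030123012) (Net.cons (nat_lit 1) (nat_lit 0x4404405004040040544454050) Net.nil)))))))))))))

theorem t_g86_ok : Net.ok 100 t_g86 = true := by decide +kernel

noncomputable def t_g87 : Net := (Net.cons (nat_lit 1) (nat_lit 0x51505400141400505004) (Net.cons (nat_lit 2) (nat_lit 0x310331322103103203100000) (Net.cons (nat_lit 4) (nat_lit 0x90708070e0e000a050008) (Net.cons (nat_lit 8) (nat_lit 0x2d007100b8001400220004) (Net.cons (nat_lit 16) (nat_lit 0x94c8000056800000000c) (Net.cons (nat_lit 32) (nat_lit 0x200000000001f1490) (Net.cons (nat_lit 64) (nat_lit 0xe08dfbe90) (Net.cons (nat_lit 32) (nat_lit 0xa00000000c11d829c) (Net.cons (nat_lit 16) (nat_lit 0x29c40000361c0000c134) (Net.cons (nat_lit 8) (nat_lit 0xb500f10035009e0052007e) (Net.cons (nat_lit 4) (nat_lit 0x10103030e0c0c0100000b0e)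 (Net.cons (nat_lit 2) (nat_lit 0x10112301132202311011120) (Net.cons (nat_lit 1) (nat_lit 0x4501051154551411451045454) Net.nil)))))))))))))

theorem t_g87_ok : Net.ok 100 t_g87 = true := by decide +kernel

noncomputable def t_g88 : Net := (Net.cons (nat_lit 1) (nat_lit 0x4510104401441000100500000) (Net.cons (nat_lit 2) (nat_lit 0x2112011303110220120200) (Net.cons (nat_lit 4) (nat_lit 0x1040d02010e000008000000) (Net.cons (nat_lit 8) (nat_lit 0x6300580058005e00490000) (Net.cons (nat_lit 16) (nat_lit 0x98f10000138500000000) (Net.cons (nat_lit 32) (nat_lit 0x800000000fb9c4000) (Net.cons (nat_lit 64) (nat_lit 0xeffff4a80) (Net.cons (nat_lit 32) (nat_lit 0x900000000cb9d6340) (Net.cons (nat_lit 16) (nat_lit 0xdeb1000071a500002008) (Net.cons (nat_lit 8) (nat_lit 0x6300580058005e00490000) (Net.cons (nat_lit 4) (nat_lit 0x5060903030f00010d0c0200) (Net.cons (nat_lit 2) (nat_lit 0x2112011303110220120200) (Net.cons (nat_lit 1) (nat_lit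 0x4510104401441000100500000) Net.nil)))))))))))))

theorem t_g88_ok : Net.ok 100 t_g88 = true := by decide +kernel

noncomputable def t_g89 : Net := (Net.cons (nat_lit 1) (nat_lit 0x4114140141041444155410100) (Net.cons (nat_lit 2) (nat_lit 0x120302033231133101202100) (Net.cons (nat_lit 4) (nat_lit 0x40c090f030801030508090e) (Net.cons (nat_lit 8) (nat_lit 0xc300fa009e00270000000c) (Net.cons (nat_lit 16) (nat_lit 0x508c000000c500000002) (Net.cons (nat_lit 32) (nat_lit 0x3000000000c3002c0) (Net.cons (nat_lit 64) (nat_lit 0xd6fb87fc6) (Net.cons (nat_lit 32) (nat_lit 0xf000000006c5d25ce) (Net.cons (nat_lit 16) (nat_lit 0xc5840000e4fa0000e604) (Net.cons (nat_lit 8) (nat_lit 0x190008002a0085004c0010) (Net.cons (nat_lit 4) (nat_lit 0xc050706070707060806030e) (Net.cons (nat_lit 2) (nat_lit 0x2120233221200131310132020) (Net.cons (nat_lit 1) (nat_lit 0x414404011415544140454550) Net.nil)))))))))))))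

theorem t_g89_ok : Net.ok 100 t_g89 = true := by decide +kernel

noncomputable def t_g90 : Net := (Net.cons (nat_lit 1) (nat_lit 0x1150441005401150500550010) (Net.cons (nat_lit 2) (nat_lit 0x2032211021101003322030000) (Net.cons (nat_lit 4) (nat_lit 0xe040c0203070b0b02000005) (Net.cons (nat_lit 8) (nat_lit 0x58001f0085003800850004) (Net.cons (nat_lit 16) (nat_lit 0x1a8100008c2500000006) (Net.cons (nat_lit 32) (nat_lit 0x20000000000068630) (Net.cons (nat_lit 64) (nat_lit 0x944179eba) (Net.cons (nat_lit 32) (nat_lit 0x50000000032be2ab5) (Net.cons (nat_lit 16) (nat_lit 0xbcb40000cdd500000c0a) (Net.cons (nat_lit 8) (nat_lit 0x7500b9009a0064008e000c) (Net.cons (nat_lit 4) (nat_lit 0x6000c0802030b0b0b060c0d) (Net.cons (nat_lit 2) (nat_lit 0x2110101213031112222120020) (Net.cons (nat_lit 1) (nat_lit 0x5054051055501551545450150) Net.nil)))))))))))))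

theorem t_g90_ok : Net.ok 100 t_g90 = true := by decide +kernel

noncomputable def t_g91 : Net := (Net.cons (nat_lit 1) (nat_lit 0x44440405404414414010000) (Net.cons (nat_lit 2) (nat_lit 0x1332312323300121222000000) (Net.cons (nat_lit 4) (nat_lit 0xe0e09010d020f0300090802) (Net.cons (nat_lit 8) (nat_lit 0x88002800b000e300040004) (Net.cons (nat_lit 16) (nat_lit 0x4380000912b00000000) (Net.cons (nat_lit 32) (nat_lit 0x20000000098484160) (Net.cons (nat_lit 64) (nat_lit 0xfd78416a) (Net.cons (nat_lit 32) (nat_lit 0x600000000ca53a9f8) (Net.cons (nat_lit 16) (nat_lit 0x52330000d3310000401c) (Net.cons (nat_lit 8) (nat_lit 0x88003800b600f100960004) (Net.cons (nat_lit 4) (nat_lit 0xe0e09090d030f0300090802) (Net.cons (nat_lit 2) (nat_lit 0x1232313323300121222010000) (Net.cons (nat_lit 1) (nat_lit 0x44440405404414414010100) Net.nil)))))))))))))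

theorem t_g91_ok : Net.ok 100 t_g91 = true := by decide +kernel

noncomputable def t_g92 : Net := (Net.cons (nat_lit 1) (nat_lit 0x1045550154545004501010000) (Net.cons (nat_lit 2) (nat_lit 0x3223113020212010231000000) (Net.cons (nat_lit 4) (nat_lit 0xc070e03040e0b0c060b0900) (Net.cons (nat_lit 8) (nat_lit 0x3100a2003000c700610008) (Net.cons (nat_lit 16) (nat_lit 0x8400000c91800000008) (Net.cons (nat_lit 32) (nat_lit 0x200000000381060c0) (Net.cons (nat_lit 64) (nat_lit 0xf3a12ead8) (Net.cons (nat_lit 32) (nat_lit 0xa00000000f58c78d8) (Net.cons (nat_lit 16) (nat_lit 0x20710000e30800002858) (Net.cons (nat_lit 8) (nat_lit 0x3500a6003400c700650008) (Net.cons (nat_lit 4) (nat_lit 0xc070f03040e0b0c070b0d00) (Net.cons (nat_lit 2) (nat_lit 0x3223113021212010231010020) (Net.cons (nat_lit 1) (nat_lit 0x1045550154545004501010000) Net.nil)))))))))))))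

theorem t_g92_ok : Net.ok 100 t_g92 = true := by decide +kernel

noncomputable def t_g93 : Net := (Net.cons (nat_lit 1) (nat_lit 0x1415144151415155544540000) (Net.cons (nat_lit 2) (nat_lit 0x200322230301200022100000) (Net.cons (nat_lit 4) (nat_lit 0x1070301000b030105020004) (Net.cons (nat_lit 8) (nat_lit 0xe200300028002000010000) (Net.cons (nat_lit 16) (nat_lit 0x4405000004bc00000002) (Net.cons (nat_lit 32) (nat_lit 0x1225b80) (Net.cons (nat_lit 64) (nat_lit 0xe05a75b96) (Net.cons (nat_lit 32) (nat_lit 0x70000000009f2d7a6) (Net.cons (nat_lit 16) (nat_lit 0xe48d00002c3d0000c88a) (Net.cons (nat_lit 8) (nat_lit 0xe200ba003800a600090080) (Net.cons (nat_lit 4) (nat_lit 0x50f0b09000b0b010f0a000c) (Net.cons (nat_lit 2) (nat_lit 0x200322230301200022100000) (Net.cons (nat_lit 1) (nat_lit 0x1415144151415155544540100) Net.nil)))))))))))))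

theorem t_g93_ok : Net.ok 100 t_g93 = true := by decide +kernel

noncomputable def t_V94 : List Net := [t_g86, t_g87, t_g88, t_g89, t_g90, t_g91, t_g92, t_g93, t_g25]

theorem t_V94_ok : okE 100 t_V94 = true := (okE_cons.2 ⟨t_g86_ok, (okE_cons.2 ⟨t_g87_ok, (okE_cons.2 ⟨t_g88_ok, (okE_cons.2 ⟨t_g89_ok, (okE_cons.2 ⟨t_g90_ok, (okE_cons.2 ⟨t_g91_ok, (okE_cons.2 ⟨t_g92_ok, (okE_cons.2 ⟨t_g93_ok, (okE_cons.2 ⟨t_g25_ok, (okE_nil 100)⟩)⟩)⟩)⟩)⟩)⟩)⟩)⟩)⟩)

noncomputable def t_V96 : List Net := [t_g87, t_g88, t_g89, t_g90, t_g91, t_g92, t_g93, t_g25]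

theorem t_V96_ok : okE 100 t_V96 = true := (okE_cons.2 ⟨t_g87_ok, (okE_cons.2 ⟨t_g88_ok, (okE_cons.2 ⟨t_g89_ok, (okE_cons.2 ⟨t_g90_ok, (okE_cons.2 ⟨t_g91_ok, (okE_cons.2 ⟨t_g92_ok, (okE_cons.2 ⟨t_g93_ok, (okE_cons.2 ⟨t_g25_ok, (okE_nil 100)⟩)⟩)⟩)⟩)⟩)⟩)⟩)⟩)

noncomputable def t_V97 : List Net := [t_g88, t_g89, t_g90, t_g91, t_g92, t_g93, t_g25]

theorem t_V97_ok : okE 100 t_V97 = true := (okE_cons.2 ⟨t_g88_ok, (okE_cons.2 ⟨t_g89_ok, (okE_cons.2 ⟨t_g90_ok, (okE_cons.2 ⟨t_g91_ok, (okE_cons.2 ⟨t_g92_ok, (okE_cons.2 ⟨t_g93_ok, (okE_cons.2 ⟨t_g25_ok, (okE_nil 100)⟩)⟩)⟩)⟩)⟩)⟩)⟩)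

noncomputable def t_V98 : List Net := [t_g89, t_g90, t_g91, t_g92, t_g93, t_g25]

theorem t_V98_ok : okE 100 t_V98 = true := (okE_cons.2 ⟨t_g89_ok, (okE_cons.2 ⟨t_g90_ok, (okE_cons.2 ⟨t_g91_ok, (okE_cons.2 ⟨t_g92_ok, (okE_cons.2 ⟨t_g93_ok, (okE_cons.2 ⟨t_g25_ok, (okE_nil 100)⟩)⟩)⟩)⟩)⟩)⟩)

noncomputable def t_V99 : List Net := [t_g90, t_g91, t_g92, t_g93, t_g25]

theorem t_V99_ok : okE 100 t_V99 = true := (okE_cons.2 ⟨t_g90_ok, (okE_cons.2 ⟨t_g91_ok, (okE_cons.2 ⟨t_g92_ok, (okE_cons.2 ⟨t_g93_ok, (okE_cons.2 ⟨t_g25_ok, (okE_nil 100)⟩)⟩)⟩)⟩)⟩)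

noncomputable def t_V100 : List Net := [t_g91, t_g92, t_g93, t_g25]

theorem t_V100_ok : okE 100 t_V100 = true := (okE_cons.2 ⟨t_g91_ok, (okE_cons.2 ⟨t_g92_ok, (okE_cons.2 ⟨t_g93_ok, (okE_cons.2 ⟨t_g25_ok, (okE_nil 100)⟩)⟩)⟩)⟩)

noncomputable def t_V101 : List Net := [t_g93, t_g25]

theorem t_V101_ok : okE 100 t_V101 = true := (okE_cons.2 ⟨t_g93_ok, (okE_cons.2 ⟨t_g25_ok, (okE_nil 100)⟩)⟩)

noncomputable def t_V102 : List Net := []

theorem t_V102_ok : okE 100 t_V102 = true := (okE_nil 100)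

noncomputable def nt_c3_cnt_EG : List Net := [MpHS.a, HSM.g1, HSM.g2, t_g1, t_g2, t_g5, t_g6, t_g9, t_g10, t_g13, t_g14, t_g15, t_g18, t_g19, t_g20, t_g23, t_g24, t_g25, t_g28, t_g29, t_g30, t_g31, t_g34, t_g89, t_g90, t_g91, t_g92, t_g93, t_g88, t_g87, t_g86]

theorem nt_c3_cnt_EG_ok : okE 100 nt_c3_cnt_EG = true := (okE_cons.2 ⟨MpHS.a_ok, (okE_cons.2 ⟨HSM.g1_ok, (okE_cons.2 ⟨HSM.g2_ok, (okE_cons.2 ⟨t_g1_ok, (okE_cons.2 ⟨t_g2_ok, (okE_cons.2 ⟨t_g5_ok, (okE_cons.2 ⟨t_g6_ok, (okE_cons.2 ⟨t_g9_ok, (okE_cons.2 ⟨t_g10_ok, (okE_cons.2 ⟨t_g13_ok, (okE_cons.2 ⟨t_g14_ok, (okE_cons.2 ⟨t_g15_ok, (okE_cons.2 ⟨t_g18_ok, (okE_cons.2 ⟨t_g19_ok, (okE_cons.2 ⟨t_g20_ok, (okE_cons.2 ⟨t_g23_ok, (okE_cons.2 ⟨t_g24_ok, (okE_cons.2 ⟨t_g25_ok, (okE_cons.2 ⟨t_g28_ok, (okE_cons.2 ⟨t_g29_ok, (okE_cons.2 ⟨t_g30_ok, (okE_cons.2 ⟨t_g31_ok, (okE_cons.2 ⟨t_g34_ok, (okE_cons.2 ⟨t_g89_ok, (okE_cons.2 ⟨t_g90_ok, (okE_cons.2 ⟨t_g91_ok, (okE_cons.2 ⟨t_g92_ok,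 (okE_cons.2 ⟨t_g93_ok, (okE_cons.2 ⟨t_g88_ok, (okE_cons.2 ⟨t_g87_ok, (okE_cons.2 ⟨t_g86_ok, (okE_nil 100)⟩)⟩)⟩)⟩)⟩)⟩)⟩)⟩)⟩)⟩)⟩)⟩)⟩)⟩)⟩)⟩)⟩)⟩)⟩)⟩)⟩)⟩)⟩)⟩)⟩)⟩)⟩)⟩)⟩)⟩)⟩)

noncomputable def t_g103 : Net := (Net.cons (nat_lit 1) (nat_lit 0x450405151510504400405000) (Net.cons (nat_lit 2) (nat_lit 0x1033223223112002130303200) (Net.cons (nat_lit 4) (nat_lit 0x40807070f00030808040801) (Net.cons (nat_lit 8) (nat_lit 0xa90058009a000400a1000a) (Net.cons (nat_lit 16) (nat_lit 0x4203000069c100000000) (Net.cons (nat_lit 32) (nat_lit 0xa00000000a49a9000) (Net.cons (nat_lit 64) (nat_lit 0x4f5baba5a) (Net.cons (nat_lit 32) (nat_lit 0xb0000000035cbcca0) (Net.cons (nat_lit 16) (nat_lit 0xda8d000038910000d0c0) (Net.cons (nat_lit 8) (nat_lit 0x6300c0007a00cf006c00ca) (Net.cons (nat_lit 4) (nat_lit 0x409070f0e0803090807080c) (Net.cons (nat_lit 2) (nat_lit 0x1013032031113002120303213) (Net.cons (nat_lit 1) (nat_lit 0x450405151510504400405000)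 Net.nil)))))))))))))

theorem t_g103_ok : Net.ok 100 t_g103 = true := by decide +kernel

noncomputable def t_g104 : Net := (Net.cons (nat_lit 1) (nat_lit 0x1011104000515104555451004) (Net.cons (nat_lit 2) (nat_lit 0x1223313011312033202033100) (Net.cons (nat_lit 4) (nat_lit 0x8060005020b0c060e0d0103) (Net.cons (nat_lit 8) (nat_lit 0x1d00540018002700d9000e) (Net.cons (nat_lit 16) (nat_lit 0xe4b8000099dc00000005) (Net.cons (nat_lit 32) (nat_lit 0x900000000000063f0) (Net.cons (nat_lit 64) (nat_lit 0x7654bfbfe) (Net.cons (nat_lit 32) (nat_lit 0xe000000001867e70c) (Net.cons (nat_lit 16) (nat_lit 0xd221000040210000c179) (Net.cons (nat_lit 8) (nat_lit 0xfe00e100b8002a004100ee) (Net.cons (nat_lit 4) (nat_lit 0x6010d0f07090408080d0900) (Net.cons (nat_lit 2) (nat_lit 0x2200031313012231202103011) (Net.cons (nat_lit 1) (nat_lit 0x4151015145105045051504450) Net.nil)))))))))))))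

theorem t_g104_ok : Net.ok 100 t_g104 = true := by decide +kernel

noncomputable def t_g105 : Net := (Net.cons (nat_lit 1) (nat_lit 0x4454111051000515450404150) (Net.cons (nat_lit 2) (nat_lit 0x3131102110322300101102220) (Net.cons (nat_lit 4) (nat_lit 0x20901000c05070c02050000) (Net.cons (nat_lit 8) (nat_lit 0x7f00f1004b002100a20000) (Net.cons (nat_lit 16) (nat_lit 0x96980000953300000000) (Net.cons (nat_lit 32) (nat_lit 0x800000000b22b0e00) (Net.cons (nat_lit 64) (nat_lit 0x9f23b1fe7) (Net.cons (nat_lit 32) (nat_lit 0xe000000008056fb60) (Net.cons (nat_lit 16) (nat_lit 0x5ee40000b404000029dd) (Net.cons (nat_lit 8) (nat_lit 0xaf00f70080004900b00048) (Net.cons (nat_lit 4) (nat_lit 0x8040106000b0e08020b0405) (Net.cons (nat_lit 2) (nat_lit 0x2002303030022120123311312) (Net.cons (nat_lit 1) (nat_lit 0x401011441001540004550115) Net.nil)))))))))))))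

theorem t_g105_ok : Net.ok 100 t_g105 = true := by decide +kernel

noncomputable def t_g106 : Net := (Net.cons (nat_lit 1) (nat_lit 0x150545551455554044100450) (Net.cons (nat_lit 2) (nat_lit 0x3130032302010232300312000) (Net.cons (nat_lit 4) (nat_lit 0x60c000601070a0d08060109) (Net.cons (nat_lit 8) (nat_lit 0xca001500d5007700040006) (Net.cons (nat_lit 16) (nat_lit 0xfa0d000078bc00000001) (Net.cons (nat_lit 32) (nat_lit 0x400000000098c1320) (Net.cons (nat_lit 64) (nat_lit 0x80fecf3e5) (Net.cons (nat_lit 32) (nat_lit 0x700000000368ed49e) (Net.cons (nat_lit 16) (nat_lit 0xc26e0000beb100006f74) (Net.cons (nat_lit 8) (nat_lit 0x3100d70017009400890009) (Net.cons (nat_lit 4) (nat_lit 0x3070c0a0f030c0f040f030f) (Net.cons (nat_lit 2) (nat_lit 0x1333213120220102123301032) (Net.cons (nat_lit 1) (nat_lit 0x5001544000151415445415014) Net.nil)))))))))))))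

theorem t_g106_ok : Net.ok 100 t_g106 = true := by decide +kernel

noncomputable def t_g107 : Net := (Net.cons (nat_lit 1) (nat_lit 0x1401404445410555044004400) (Net.cons (nat_lit 2) (nat_lit 0x1020102013022100301200010) (Net.cons (nat_lit 4) (nat_lit 0x3000a080f0c030200010200) (Net.cons (nat_lit 8) (nat_lit 0x3c00280050004200800004) (Net.cons (nat_lit 16) (nat_lit 0x5a160000503800000000) (Net.cons (nat_lit 32) (nat_lit 4096) (Net.cons (nat_lit 64) (nat_lit 0xe2d095237) (Net.cons (nat_lit 32) (nat_lit 0x400000000c0a0a094) (Net.cons (nat_lit 16) (nat_lit 0xda16000053f800008000) (Net.cons (nat_lit 8) (nat_lit 0x2c002800c400ca0000009c) (Net.cons (nat_lit 4) (nat_lit 0x3000a080f0c030200010204) (Net.cons (nat_lit 2) (nat_lit 0x1020113013022100301200010) (Net.cons (nat_lit 1) (nat_lit 0x1401404445410555044004400) Net.nil)))))))))))))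

theorem t_g107_ok : Net.ok 100 t_g107 = true := by decide +kernel

noncomputable def t_g108 : Net := (Net.cons (nat_lit 1) (nat_lit 0x1140545401040405104500010) (Net.cons (nat_lit 2) (nat_lit 0x3113021132212110320301000) (Net.cons (nat_lit 4) (nat_lit 0x60907040e0c090c00000000) (Net.cons (nat_lit 8) (nat_lit 0x44005100ae006800220000) (Net.cons (nat_lit 16) (nat_lit 0x16290000276000000001) (Net.cons (nat_lit 32) (nat_lit 0x500000000408ad8e0) (Net.cons (nat_lit 64) (nat_lit 0xc78dfdee1) (Net.cons (nat_lit 32) (nat_lit 0x500000000a7ced8c6) (Net.cons (nat_lit 16) (nat_lit 0x162d00004704000020ad) (Net.cons (nat_lit 8) (nat_lit 0x25001300ce000800420030) (Net.cons (nat_lit 4) (nat_lit 0x60907040e0d090d00080008) (Net.cons (nat_lit 2) (nat_lit 0x3113021132212110320301000) (Net.cons (nat_lit 1) (nat_lit 0x1150545401440405104500010) Net.nil)))))))))))))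

theorem t_g108_ok : Net.ok 100 t_g108 = true := by decide +kernel

noncomputable def t_g109 : Net := (Net.cons (nat_lit 1) (nat_lit 0x405411101014550014044000) (Net.cons (nat_lit 2) (nat_lit 0x1203030101022002221200000) (Net.cons (nat_lit 4) (nat_lit 0x30b05090909050a0a0e0000) (Net.cons (nat_lit 8) (nat_lit 0xc4006b00c4000a00020008) (Net.cons (nat_lit 16) (nat_lit 0x5a210000d8de00000001) (Net.cons (nat_lit 32) (nat_lit 0x100000000a2404130) (Net.cons (nat_lit 64) (nat_lit 0xcbfd16171) (Net.cons (nat_lit 32) (nat_lit 0x100000000224a3ff0) (Net.cons (nat_lit 16) (nat_lit 0x7a610000781f00000283) (Net.cons (nat_lit 8) (nat_lit 0xe00eb0004008800c000ea) (Net.cons (nat_lit 4) (nat_lit 0x90b050b0b0b050a0a0e0000) (Net.cons (nat_lit 2) (nat_lit 0x1031032101022202221202020) (Net.cons (nat_lit 1) (nat_lit 0x405411101014550014044000) Net.nil)))))))))))))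

theorem t_g109_ok : Net.ok 100 t_g109 = true := by decide +kernel

noncomputable def t_g110 : Net := (Net.cons (nat_lit 1) (nat_lit 0x550101441150504440501000) (Net.cons (nat_lit 2) (nat_lit 0x3030330001002313031000000) (Net.cons (nat_lit 4) (nat_lit 0x60c0003010c0c08000201) (Net.cons (nat_lit 8) (nat_lit 0x290083001d000e00410006) (Net.cons (nat_lit 16) (nat_lit 0x21510000908700000000) (Net.cons (nat_lit 32) (nat_lit 0x6000000004a043a00) (Net.cons (nat_lit 64) (nat_lit 0x5fcd7a16) (Net.cons (nat_lit 32) (nat_lit 0x700000000431aaeb9) (Net.cons (nat_lit 16) (nat_lit 0xa2410000828300000000) (Net.cons (nat_lit 8) (nat_lit 0x21009700a5009f00690096) (Net.cons (nat_lit 4) (nat_lit 0x70c0103040c0c08010201) (Net.cons (nat_lit 2) (nat_lit 0x3031330001102213031010000) (Net.cons (nat_lit 1) (nat_lit 0x550101441150504440501000) Net.nil)))))))))))))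

theorem t_g110_ok : Net.ok 100 t_g110 = true := by decide +kernel

noncomputable def t_g111 : Net := (Net.cons (nat_lit 1) (nat_lit 0x4101114000140150501041000) (Net.cons (nat_lit 2) (nat_lit 0x30023311032102133221000) (Net.cons (nat_lit 4) (nat_lit 0x6090a04070e0b0204000401) (Net.cons (nat_lit 8) (nat_lit 0x5500f0004100da00800004) (Net.cons (nat_lit 16) (nat_lit 0xd2450000030d00000000) (Net.cons (nat_lit 32) (nat_lit 0x48400400) (Net.cons (nat_lit 64) (nat_lit 0x458588674) (Net.cons (nat_lit 32) (nat_lit 0x100000000ef0470d9) (Net.cons (nat_lit 16) (nat_lit 0xd385000023c500002054) (Net.cons (nat_lit 8) (nat_lit 0x5500f8004300fc00800014) (Net.cons (nat_lit 4) (nat_lit 0x60b0e060707050c0e04000d) (Net.cons (nat_lit 2) (nat_lit 0x130033311032113133320001) (Net.cons (nat_lit 1) (nat_lit 0x4101114000140150501041000) Net.nil)))))))))))))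

theorem t_g111_ok : Net.ok 100 t_g111 = true := by decide +kernel

noncomputable def nt_c4_K : List Net := [t_g104, t_g105, t_g106, t_g107, t_g108, t_g109, t_g110, t_g111]

theorem nt_c4_K_ok : okE 100 nt_c4_K = true := (okE_cons.2 ⟨t_g104_ok, (okE_cons.2 ⟨t_g105_ok, (okE_cons.2 ⟨t_g106_ok, (okE_cons.2 ⟨t_g107_ok, (okE_cons.2 ⟨t_g108_ok, (okE_cons.2 ⟨t_g109_ok, (okE_cons.2 ⟨t_g110_ok, (okE_cons.2 ⟨t_g111_ok, (okE_nil 100)⟩)⟩)⟩)⟩)⟩)⟩)⟩)⟩)

noncomputable def t_g113 : Net := (Net.cons (nat_lit 1) (nat_lit 0x5051510504440001411115114) (Net.cons (nat_lit 2) (nat_lit 0x311021211003233103130100) (Net.cons (nat_lit 4) (nat_lit 0xd02060f0e0900030d0c0206) (Net.cons (nat_lit 8) (nat_lit 0xf8004100a000e900100007) (Net.cons (nat_lit 16) (nat_lit 0xda760000898e00000000) (Net.cons (nat_lit 32) (nat_lit 0x4000000008c3a2080) (Net.cons (nat_lit 64) (nat_lit 0xebcfee281) (Net.cons (nat_lit 32) (nat_lit 0x100000000f75e0415) (Net.cons (nat_lit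 16) (nat_lit 0xf0c800009d7300001644) (Net.cons (nat_lit 8) (nat_lit 0xd100f100c5008100c60053) (Net.cons (nat_lit 4) (nat_lit 0xe060d060802090e02090f02) (Net.cons (nat_lit 2) (nat_lit 0x3010201210112322010021022) (Net.cons (nat_lit 1) (nat_lit 0x4151010401415450454105144) Net.nil)))))))))))))

theorem t_g113_ok : Net.ok 100 t_g113 = true := by decide +kernel

noncomputable def t_g114 : Net := (Net.cons (nat_lit 1) (nat_lit 0x511401451540144500000100) (Net.cons (nat_lit 2) (nat_lit 0x3012001210221201300200100) (Net.cons (nat_lit 4) (nat_lit 0x40509030008040203000600) (Net.cons (nat_lit 8) (nat_lit 0x300020008000d100000002) (Net.cons (nat_lit 16) (nat_lit 0x9f240000006300000005) (Net.cons (nat_lit 32) (nat_lit 0x200000000b0352240) (Net.cons (nat_lit 64) (nat_lit 0x4b8352746) (Net.cons (nat_lit 32) (nat_lit 0x3000000003977b269) (Net.cons (nat_lit 16) (nat_lit 0xbd040000206300002085) (Net.cons (nat_lit 8) (nat_lit 0x180020000b00f100010042)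 (Net.cons (nat_lit 4) (nat_lit 0x605030b08000e020b000600) (Net.cons (nat_lit 2) (nat_lit 0x3012001210221201300200100) (Net.cons (nat_lit 1) (nat_lit 0x511401451540144500000100) Net.nil)))))))))))))

theorem t_g114_ok : Net.ok 100 t_g114 = true := by decide +kernel

noncomputable def t_g115 : Net := (Net.cons (nat_lit 1) (nat_lit 0x5101014155440411100040140) (Net.cons (nat_lit 2) (nat_lit 0x1100020213001321020013020) (Net.cons (nat_lit 4) (nat_lit 0xc0500030a08070d01070a0c) (Net.cons (nat_lit 8) (nat_lit 0x8f00e8008700eb00740009) (Net.cons (nat_lit 16) (nat_lit 0x900400006e4600000008) (Net.cons (nat_lit 32) (nat_lit 0xd00000000c0001d20) (Net.cons (nat_lit 64) (nat_lit 0xadacddd35) (Net.cons (nat_lit 32) (nat_lit 0x300000000ea4159b4) (Net.cons (nat_lit 16) (nat_lit 0x9d8c0000936f0000d8b0) (Net.cons (nat_lit 8) (nat_lit 0xdb00740000007800ed00b1) (Net.cons (nat_lit 4) (nat_lit 0x404090b0405070a07080f0c) (Net.cons (nat_lit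 2) (nat_lit 0x3101222000301322211232230) (Net.cons (nat_lit 1) (nat_lit 0x101514150401515501051440) Net.nil)))))))))))))

theorem t_g115_ok : Net.ok 100 t_g115 = true := by decide +kernel

noncomputable def t_g116 : Net := (Net.cons (nat_lit 1) (nat_lit 0x44004410540544140440100) (Net.cons (nat_lit 2) (nat_lit 0x1122200123113123200032000) (Net.cons (nat_lit 4) (nat_lit 0xb0c0c0003080300060a0000) (Net.cons (nat_lit 8) (nat_lit 0x8800b10098001700080003) (Net.cons (nat_lit 16) (nat_lit 0x38080000b05c00000008) (Net.cons (nat_lit 32) (nat_lit 0x10000000088203380) (Net.cons (nat_lit 64) (nat_lit 0xc982473c9) (Net.cons (nat_lit 32) (nat_lit 0x300000000b9e8a392) (Net.cons (nat_lit 16) (nat_lit 0x20280000a45d00001428) (Net.cons (nat_lit 8) (nat_lit 0x8900b1009a001700080003) (Net.cons (nat_lit 4) (nat_lit 0xb0c0c0003080300060b0000) (Net.cons (nat_lit 2) (nat_lit 0x1120220123133123200032000) (Net.cons (nat_lit 1) (nat_lit 0x44004410540554140440100)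 Net.nil)))))))))))))

theorem t_g116_ok : Net.ok 100 t_g116 = true := by decide +kernel

noncomputable def t_g117 : Net := (Net.cons (nat_lit 1) (nat_lit 0x4414105500500551104015100) (Net.cons (nat_lit 2) (nat_lit 0x1033121233122101002312100) (Net.cons (nat_lit 4) (nat_lit 0xc0100080a010a0209060400) (Net.cons (nat_lit 8) (nat_lit 0x2100240000003000bc0000) (Net.cons (nat_lit 16) (nat_lit 0x8a1000051c700000000) (Net.cons (nat_lit 32) (nat_lit 0xc2000c0) (Net.cons (nat_lit 64) (nat_lit 0x40c2000c0) (Net.cons (nat_lit 32) (nat_lit 0xb000000005def86e0) (Net.cons (nat_lit 16) (nat_lit 0xab65000051d70000a090) (Net.cons (nat_lit 8) (nat_lit 0xb10084000200b9003d00c0) (Net.cons (nat_lit 4) (nat_lit 0xc0100090b010a0209060500) (Net.cons (nat_lit 2) (nat_lit 0x1031101233302101002312100) (Net.cons (nat_lit 1) (nat_lit 0x4415105100540551104015100) Net.nil)))))))))))))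

theorem t_g117_ok : Net.ok 100 t_g117 = true := by decide +kernel

noncomputable def t_V118 : List Net := [t_g113, t_g114, t_g115, t_g116, t_g72, t_g117]

theorem t_V118_ok : okE 100 t_V118 = true := (okE_cons.2 ⟨t_g113_ok, (okE_cons.2 ⟨t_g114_ok, (okE_cons.2 ⟨t_g115_ok, (okE_cons.2 ⟨t_g116_ok, (okE_cons.2 ⟨t_g72_ok, (okE_cons.2 ⟨t_g117_ok, (okE_nil 100)⟩)⟩)⟩)⟩)⟩)⟩)

noncomputable def t_V120 : List Net := [t_g114, t_g115, t_g116, t_g72, t_g117]

theorem t_V120_ok : okE 100 t_V120 = true := (okE_cons.2 ⟨t_g114_ok, (okE_cons.2 ⟨t_g115_ok, (okE_cons.2 ⟨t_g116_ok, (okE_cons.2 ⟨t_g72_ok, (okE_cons.2 ⟨t_g117_ok, (okE_nil 100)⟩)⟩)⟩)⟩)⟩)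

noncomputable def t_V121 : List Net := [t_g115, t_g116, t_g72, t_g117]

theorem t_V121_ok : okE 100 t_V121 = true := (okE_cons.2 ⟨t_g115_ok, (okE_cons.2 ⟨t_g116_ok, (okE_cons.2 ⟨t_g72_ok, (okE_cons.2 ⟨t_g117_ok, (okE_nil 100)⟩)⟩)⟩)⟩)

noncomputable def t_V122 : List Net := [t_g116, t_g72, t_g117]

theorem t_V122_ok : okE 100 t_V122 = true := (okE_cons.2 ⟨t_g116_ok, (okE_cons.2 ⟨t_g72_ok, (okE_cons.2 ⟨t_g117_ok, (okE_nil 100)⟩)⟩)⟩)

noncomputable def t_V123 : List Net := [t_g72, t_g117]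

theorem t_V123_ok : okE 100 t_V123 = true := (okE_cons.2 ⟨t_g72_ok, (okE_cons.2 ⟨t_g117_ok, (okE_nil 100)⟩)⟩)

noncomputable def t_V124 : List Net := [t_g117]

theorem t_V124_ok : okE 100 t_V124 = true := (okE_cons.2 ⟨t_g117_ok, (okE_nil 100)⟩)

noncomputable def t_V125 : List Net := []

theorem t_V125_ok : okE 100 t_V125 = true := (okE_nil 100)

noncomputable def nt_c4_cnt_EG : List Net := [MpHS.a, HSM.g1, HSM.g2, t_g1, t_g2, t_g5, t_g6, t_g9, t_g10, t_g13, t_g14, t_g15, t_g18, t_g19, t_g20, t_g23, t_g24, t_g25, t_g28, t_g29, t_g30, t_g31, t_g34, t_g86, t_g87, t_g88, t_g89, t_g90, t_g91, t_g92, t_g93, t_g113, t_g114, t_g115, t_g116, t_g72, t_g117]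

theorem nt_c4_cnt_EG_ok : okE 100 nt_c4_cnt_EG = true := (okE_cons.2 ⟨MpHS.a_ok, (okE_cons.2 ⟨HSM.g1_ok, (okE_cons.2 ⟨HSM.g2_ok, (okE_cons.2 ⟨t_g1_ok, (okE_cons.2 ⟨t_g2_ok, (okE_cons.2 ⟨t_g5_ok, (okE_cons.2 ⟨t_g6_ok, (okE_cons.2 ⟨t_g9_ok, (okE_cons.2 ⟨t_g10_ok, (okE_cons.2 ⟨t_g13_ok, (okE_cons.2 ⟨t_g14_ok, (okE_cons.2 ⟨t_g15_ok, (okE_cons.2 ⟨t_g18_ok, (okE_cons.2 ⟨t_g19_ok, (okE_cons.2 ⟨t_g20_ok, (okE_cons.2 ⟨t_g23_ok, (okE_cons.2 ⟨t_g24_ok, (okE_cons.2 ⟨t_g25_ok, (okE_cons.2 ⟨t_g28_ok, (okE_cons.2 ⟨t_g29_ok, (okE_cons.2 ⟨t_g30_ok, (okE_cons.2 ⟨t_g31_ok, (okE_cons.2 ⟨t_g34_ok, (okE_cons.2 ⟨t_g86_ok, (okE_cons.2 ⟨t_g87_ok, (okE_cons.2 ⟨t_g88_ok, (okE_cons.2 ⟨t_g89_ok, (okE_cons.2 ⟨t_g90_ok, (okE_cons.2 ⟨t_g91_ok, (okE_cons.2 ⟨t_g92_ok, (okE_cons.2 ⟨t_g93_ok, (okE_cons.2 ⟨t_g113_ok, (okE_cons.2 ⟨t_g114_ok, (okE_cons.2 ⟨t_g115_ok, (okE_cons.2 ⟨t_g116_ok, (okE_cons.2 ⟨t_g72_ok, (okE_cons.2 ⟨t_g117_ok, (okE_nil 100)⟩)⟩)⟩)⟩)⟩)⟩)⟩)⟩)⟩)⟩)⟩)⟩)⟩)⟩)⟩)⟩)⟩)⟩)⟩)⟩)⟩)⟩)⟩)⟩)⟩)⟩)⟩)⟩)⟩)⟩)⟩)⟩)⟩)⟩)⟩)⟩)⟩)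

noncomputable def t_g126 : Net := (Net.cons (nat_lit 1) (nat_lit 0x1140504111414454451000550) (Net.cons (nat_lit 2) (nat_lit 0x322001301301311032010000) (Net.cons (nat_lit 4) (nat_lit 0x402060e07070b0503060d02) (Net.cons (nat_lit 8) (nat_lit 0xaf00b30044000900c40001) (Net.cons (nat_lit 16) (nat_lit 0x9c610000029b00000009) (Net.cons (nat_lit 32) (nat_lit 0x2910c40) (Net.cons (nat_lit 64) (nat_lit 0x7b3bbaf55) (Net.cons (nat_lit 32) (nat_lit 0x800000000120f9244) (Net.cons (nat_lit 16) (nat_lit 0x1e3000009f490000e5ad) (Net.cons (nat_lit 8) (nat_lit 0x670072004400d20087000d) (Net.cons (nat_lit 4) (nat_lit 0x804010a05020f000506080f) (Net.cons (nat_lit 2) (nat_lit 0x2332000101330210112301010) (Net.cons (nat_lit 1) (nat_lit 0x5010514501054454401101415) Net.nil)))))))))))))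

theorem t_g126_ok : Net.ok 100 t_g126 = true := by decide +kernel

noncomputable def t_g127 : Net := (Net.cons (nat_lit 1) (nat_lit 0x5500451055541111101154040) (Net.cons (nat_lit 2) (nat_lit 0x3333010102122201111320030) (Net.cons (nat_lit 4) (nat_lit 0x40a0d0508050e090f030e00) (Net.cons (nat_lit 8) (nat_lit 0x4400f40039002100120007) (Net.cons (nat_lit 16) (nat_lit 0x94900000084b0000000a) (Net.cons (nat_lit 32) (nat_lit 0xc0000000040b49b70) (Net.cons (nat_lit 64) (nat_lit 0xbfdbcbb74) (Net.cons (nat_lit 32) (nat_lit 0x700000000499cbeae) (Net.cons (nat_lit 16) (nat_lit 0xca5e0000fc8b00002e42) (Net.cons (nat_lit 8) (nat_lit 0xd2003800180083008c00be) (Net.cons (nat_lit 4) (nat_lit 0x90e02040c050f03090f000c) (Net.cons (nat_lit 2) (nat_lit 0x1233103223000003013201213) (Net.cons (nat_lit 1) (nat_lit 0x405005404401101010054054) Net.nil)))))))))))))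

theorem t_g127_ok : Net.ok 100 t_g127 = true := by decide +kernel

noncomputable def t_g128 : Net := (Net.cons (nat_lit 1) (nat_lit 0x5441514000555010404504000) (Net.cons (nat_lit 2) (nat_lit 0x1223102210021011212010320) (Net.cons (nat_lit 4) (nat_lit 0xd0e040c0f02010b09080108) (Net.cons (nat_lit 8) (nat_lit 0x8004d0039007e00140001) (Net.cons (nat_lit 16) (nat_lit 0x8d8400000c170000000e) (Net.cons (nat_lit 32) (nat_lit 0x100000000c83a7000) (Net.cons (nat_lit 64) (nat_lit 0x8ff7e78ab) (Net.cons (nat_lit 32) (nat_lit 0x6000000003e58301d) (Net.cons (nat_lit 16) (nat_lit 0xe54900003cb90000e220) (Net.cons (nat_lit 8) (nat_lit 0x420074006d0096007100fa) (Net.cons (nat_lit 4) (nat_lit 0x6080d0a0b070b07070f0e0e) (Net.cons (nat_lit 2) (nat_lit 0x213032013100100120001030) (Net.cons (nat_lit 1) (nat_lit 0x4445404415005510414514540) Net.nil)))))))))))))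

theorem t_g128_ok : Net.ok 100 t_g128 = true := by decide +kernel

noncomputable def t_g129 : Net := (Net.cons (nat_lit 1) (nat_lit 0x4015411551550415051145004) (Net.cons (nat_lit 2) (nat_lit 0x120320101013300103330300) (Net.cons (nat_lit 4) (nat_lit 0xa060a000001070604060000) (Net.cons (nat_lit 8) (nat_lit 0xf500d1002b00a6002a0003) (Net.cons (nat_lit 16) (nat_lit 0xd1e1000018ff00000003) (Net.cons (nat_lit 32) (nat_lit 0x800000000004af980) (Net.cons (nat_lit 64) (nat_lit 0x9277effc1) (Net.cons (nat_lit 32) (nat_lit 0x200000000351ab467) (Net.cons (nat_lit 16) (nat_lit 0xe0450000dc7b00006ca4) (Net.cons (nat_lit 8) (nat_lit 0xf100b5004e00e300aa006f) (Net.cons (nat_lit 4) (nat_lit 0x90506000009020601030006) (Net.cons (nat_lit 2) (nat_lit 0x113111113032310113131202) (Net.cons (nat_lit 1) (nat_lit 0x5114114544551115551145044) Net.nil)))))))))))))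

theorem t_g129_ok : Net.ok 100 t_g129 = true := by decide +kernel

noncomputable def t_g130 : Net := (Net.cons (nat_lit 1) (nat_lit 0x555500104014040144444500) (Net.cons (nat_lit 2) (nat_lit 0x3020200001102331112201230) (Net.cons (nat_lit 4) (nat_lit 0xe010a0d0d01020300000106) (Net.cons (nat_lit 8) (nat_lit 0xb600000046009c00140009) (Net.cons (nat_lit 16) (nat_lit 0x192b0000000e00000005) (Net.cons (nat_lit 32) (nat_lit 0xa00000000028268d0) (Net.cons (nat_lit 64) (nat_lit 0x502ea7ddb) (Net.cons (nat_lit 32) (nat_lit 0x5000000005c0a96c7) (Net.cons (nat_lit 16) (nat_lit 0x772100003dcd00003c44) (Net.cons (nat_lit 8) (nat_lit 0xc600000035001500e800db) (Net.cons (nat_lit 4) (nat_lit 0x605000b05020b0f00000e07) (Net.cons (nat_lit 2) (nat_lit 0x2210222221011211110000011) (Net.cons (nat_lit 1) (nat_lit 0x5441104105145101140000500) Net.nil)))))))))))))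

theorem t_g130_ok : Net.ok 100 t_g130 = true := by decide +kernel

noncomputable def t_g131 : Net := (Net.cons (nat_lit 1) (nat_lit 0x1050454144114100400044400) (Net.cons (nat_lit 2) (nat_lit 0x3031000121010300002000200) (Net.cons (nat_lit 4) (nat_lit 0xc020a0f01050e0c02000600) (Net.cons (nat_lit 8) (nat_lit 0x4400070066001000000004) (Net.cons (nat_lit 16) (nat_lit 0x97220000a88400000008) (Net.cons (nat_lit 32) (nat_lit 0x10000000001002010) (Net.cons (nat_lit 64) (nat_lit 0xc1364ac5d) (Net.cons (nat_lit 32) (nat_lit 0xf00000000e980201c) (Net.cons (nat_lit 16) (nat_lit 0xd7620000acc600000048) (Net.cons (nat_lit 8) (nat_lit 0x6400070076009000800024) (Net.cons (nat_lit 4) (nat_lit 0xd020a0f09050e0c02000600) (Net.cons (nat_lit 2) (nat_lit 0x3031000121012301002000200) (Net.cons (nat_lit 1) (nat_lit 0x1054454144114100400044400) Net.nil)))))))))))))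

theorem t_g131_ok : Net.ok 100 t_g131 = true := by decide +kernel

noncomputable def nt_c5_K : List Net := [t_g127, t_g128, t_g129, t_g130, t_g131]

theorem nt_c5_K_ok : okE 100 nt_c5_K = true := (okE_cons.2 ⟨t_g127_ok, (okE_cons.2 ⟨t_g128_ok, (okE_cons.2 ⟨t_g129_ok, (okE_cons.2 ⟨t_g130_ok, (okE_cons.2 ⟨t_g131_ok, (okE_nil 100)⟩)⟩)⟩)⟩)⟩)

noncomputable def t_g133 : Net := (Net.cons (nat_lit 1) (nat_lit 0x5415545115554404045010400) (Net.cons (nat_lit 2) (nat_lit 0x2201021320011300011300100) (Net.cons (nat_lit 4) (nat_lit 0xf000b050f0e09020508080c) (Net.cons (nat_lit 8) (nat_lit 0x5d00d4009100cb009c0005) (Net.cons (nat_lit 16) (nat_lit 0x63810000232a00000003) (Net.cons (nat_lit 32) (nat_lit 0x300000000c02070d0) (Net.cons (nat_lit 64) (nat_lit 0x9e920f2de) (Net.cons (nat_lit 32) (nat_lit 0xe000000000d5af24d) (Net.cons (nat_lit 16) (nat_lit 0x72250000e4aa0000a63a) (Net.cons (nat_lit 8) (nat_lit 0x7e00c400a000b100530009)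 (Net.cons (nat_lit 4) (nat_lit 0xf0b0901020c0103020e0e06) (Net.cons (nat_lit 2) (nat_lit 0x2323232111313312030122000) (Net.cons (nat_lit 1) (nat_lit 0x4410004010154111540054400) Net.nil)))))))))))))

theorem t_g133_ok : Net.ok 100 t_g133 = true := by decide +kernel

noncomputable def t_g134 : Net := (Net.cons (nat_lit 1) (nat_lit 0x1540015501454555100151014) (Net.cons (nat_lit 2) (nat_lit 0x211110321023212021020010) (Net.cons (nat_lit 4) (nat_lit 0xd0c040601090600090c00) (Net.cons (nat_lit 8) (nat_lit 0x8b0039000a0081000d000b) (Net.cons (nat_lit 16) (nat_lit 0x35040000460d00000008) (Net.cons (nat_lit 32) (nat_lit 0xc00000000220008a0) (Net.cons (nat_lit 64) (nat_lit 0xefb80aea0) (Net.cons (nat_lit 32) (nat_lit 0x30000000019fdfca2) (Net.cons (nat_lit 16) (nat_lit 0x3820000014490000e047) (Net.cons (nat_lit 8) (nat_lit 0x6f009b00d700c9008c0071) (Net.cons (nat_lit 4) (nat_lit 0x8050f060e0f0b0505050f02) (Net.cons (nat_lit 2)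 (nat_lit 0x1211103220330312322123310) (Net.cons (nat_lit 1) (nat_lit 0x141114501101004054005500) Net.nil)))))))))))))

theorem t_g134_ok : Net.ok 100 t_g134 = true := by decide +kernel

noncomputable def t_g135 : Net := (Net.cons (nat_lit 1) (nat_lit 0x5414110005045510014501144) (Net.cons (nat_lit 2) (nat_lit 0x2202002320302003021012000) (Net.cons (nat_lit 4) (nat_lit 0x40a04080004080805050800) (Net.cons (nat_lit 8) (nat_lit 0x10098005b009d000c000a) (Net.cons (nat_lit 16) (nat_lit 0x86d0000085a700000003) (Net.cons (nat_lit 32) (nat_lit 0x20000000029343680) (Net.cons (nat_lit 64) (nat_lit 0x9bf7476a3) (Net.cons (nat_lit 32) (nat_lit 0xc00000000f9d467bf) (Net.cons (nat_lit 16) (nat_lit 0xdf360000f2c30000449d) (Net.cons (nat_lit 8) (nat_lit 0x23008c009200d10058002e) (Net.cons (nat_lit 4) (nat_lit 0x801000a0d060a0f0b0600) (Net.cons (nat_lit 2) (nat_lit 0x1220033212110301323232102) (Net.cons (nat_lit 1) (nat_lit 0x4414505450511141454540554)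 Net.nil)))))))))))))

theorem t_g135_ok : Net.ok 100 t_g135 = true := by decide +kernel

noncomputable def t_g136 : Net := (Net.cons (nat_lit 1) (nat_lit 0x400454514040505001440450) (Net.cons (nat_lit 2) (nat_lit 0x3133102000201323130111320) (Net.cons (nat_lit 4) (nat_lit 0xa0d03010c0c000d000002) (Net.cons (nat_lit 8) (nat_lit 0x21006600a5004c0096000c) (Net.cons (nat_lit 16) (nat_lit 0x12000004c5c00000002) (Net.cons (nat_lit 32) (nat_lit 0xb61049c0) (Net.cons (nat_lit 64) (nat_lit 0xdb6b6d9d6) (Net.cons (nat_lit 32) (nat_lit 0xb0000000020fea15a) (Net.cons (nat_lit 16) (nat_lit 0xa73f0000238c0000421e) (Net.cons (nat_lit 8) (nat_lit 0xa0000900b800dd00c0009e) (Net.cons (nat_lit 4) (nat_lit 0x1090d0a0a0300000e0f0502) (Net.cons (nat_lit 2) (nat_lit 0x2131221120131332233212220) (Net.cons (nat_lit 1) (nat_lit 0x4004005104100514104041140) Net.nil)))))))))))))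

theorem t_g136_ok : Net.ok 100 t_g136 = true := by decide +kernel

noncomputable def t_g137 : Net := (Net.cons (nat_lit 1) (nat_lit 0x1041444401050150004001400) (Net.cons (nat_lit 2) (nat_lit 0x3103310211133000202001200) (Net.cons (nat_lit 4) (nat_lit 0x5090b0d070b020800020000) (Net.cons (nat_lit 8) (nat_lit 0xe200600041003800410008) (Net.cons (nat_lit 16) (nat_lit 0x83f20000100100000000) (Net.cons (nat_lit 32) (nat_lit 0x400000000a0601300) (Net.cons (nat_lit 64) (nat_lit 0x5a0e6bb50) (Net.cons (nat_lit 32) (nat_lit 0xc00000000e1680338) (Net.cons (nat_lit 16) (nat_lit 0xd3e20000041100000200) (Net.cons (nat_lit 8) (nat_lit 0xf20070005300a800410018) (Net.cons (nat_lit 4) (nat_lit 0x5090b0d070b020a04020400) (Net.cons (nat_lit 2) (nat_lit 0x3103310231133000202201200) (Net.cons (nat_lit 1) (nat_lit 0x1041444401050150005001400) Net.nil)))))))))))))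

theorem t_g137_ok : Net.ok 100 t_g137 = true := by decide +kernel

noncomputable def t_V138 : List Net := [t_g133, t_g134, t_g135, t_g136, t_g137]

theorem t_V138_ok : okE 100 t_V138 = true := (okE_cons.2 ⟨t_g133_ok, (okE_cons.2 ⟨t_g134_ok, (okE_cons.2 ⟨t_g135_ok, (okE_cons.2 ⟨t_g136_ok, (okE_cons.2 ⟨t_g137_ok, (okE_nil 100)⟩)⟩)⟩)⟩)⟩)

noncomputable def t_V140 : List Net := [t_g134, t_g135, t_g136, t_g137]

theorem t_V140_ok : okE 100 t_V140 = true := (okE_cons.2 ⟨t_g134_ok, (okE_cons.2 ⟨t_g135_ok, (okE_cons.2 ⟨t_g136_ok, (okE_cons.2 ⟨t_g137_ok, (okE_nil 100)⟩)⟩)⟩)⟩)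

noncomputable def t_V141 : List Net := [t_g135, t_g136, t_g137]

theorem t_V141_ok : okE 100 t_V141 = true := (okE_cons.2 ⟨t_g135_ok, (okE_cons.2 ⟨t_g136_ok, (okE_cons.2 ⟨t_g137_ok, (okE_nil 100)⟩)⟩)⟩)

noncomputable def t_V142 : List Net := [t_g136, t_g137]

theorem t_V142_ok : okE 100 t_V142 = true := (okE_cons.2 ⟨t_g136_ok, (okE_cons.2 ⟨t_g137_ok, (okE_nil 100)⟩)⟩)

noncomputable def t_V143 : List Net := [t_g137]

theorem t_V143_ok : okE 100 t_V143 = true := (okE_cons.2 ⟨t_g137_ok, (okE_nil 100)⟩)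

noncomputable def t_V144 : List Net := []

theorem t_V144_ok : okE 100 t_V144 = true := (okE_nil 100)

noncomputable def nt_c5_cnt_EG : List Net := [MpHS.a, HSM.g1, HSM.g2, t_g1, t_g2, t_g5, t_g6, t_g9, t_g10, t_g13, t_g14, t_g15, t_g18, t_g19, t_g20, t_g23, t_g24, t_g25, t_g28, t_g29, t_g30, t_g31, t_g34, t_g134, t_g135, t_g136, t_g137, t_g133, t_g86, t_g87, t_g88, t_g89, t_g90, t_g91, t_g92, t_g93]

theorem nt_c5_cnt_EG_ok : okE 100 nt_c5_cnt_EG = true := (okE_cons.2 ⟨MpHS.a_ok, (okE_cons.2 ⟨HSM.g1_ok, (okE_cons.2 ⟨HSM.g2_ok, (okE_cons.2 ⟨t_g1_ok, (okE_cons.2 ⟨t_g2_ok, (okE_cons.2 ⟨t_g5_ok, (okE_cons.2 ⟨t_g6_ok, (okE_cons.2 ⟨t_g9_ok, (okE_cons.2 ⟨t_g10_ok, (okE_cons.2 ⟨t_g13_ok, (okE_cons.2 ⟨t_g14_ok, (okE_cons.2 ⟨t_g15_ok, (okE_cons.2 ⟨t_g18_ok, (okE_cons.2 ⟨t_g19_ok, (okE_cons.2 ⟨t_g20_ok, (okE_cons.2 ⟨t_g23_ok, (okE_cons.2 ⟨t_g24_ok, (okE_cons.2 ⟨t_g25_ok, (okE_cons.2 ⟨t_g28_ok, (okE_cons.2 ⟨t_g29_ok, (okE_cons.2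 ⟨t_g30_ok, (okE_cons.2 ⟨t_g31_ok, (okE_cons.2 ⟨t_g34_ok, (okE_cons.2 ⟨t_g134_ok, (okE_cons.2 ⟨t_g135_ok, (okE_cons.2 ⟨t_g136_ok, (okE_cons.2 ⟨t_g137_ok, (okE_cons.2 ⟨t_g133_ok, (okE_cons.2 ⟨t_g86_ok, (okE_cons.2 ⟨t_g87_ok, (okE_cons.2 ⟨t_g88_ok, (okE_cons.2 ⟨t_g89_ok, (okE_cons.2 ⟨t_g90_ok, (okE_cons.2 ⟨t_g91_ok, (okE_cons.2 ⟨t_g92_ok, (okE_cons.2 ⟨t_g93_ok, (okE_nil 100)⟩)⟩)⟩)⟩)⟩)⟩)⟩)⟩)⟩)⟩)⟩)⟩)⟩)⟩)⟩)⟩)⟩)⟩)⟩)⟩)⟩)⟩)⟩)⟩)⟩)⟩)⟩)⟩)⟩)⟩)⟩)⟩)⟩)⟩)⟩)⟩)

noncomputable def t_g145 : Net := (Net.cons (nat_lit 1) (nat_lit 0x101405151155001040150540) (Net.cons (nat_lit 2) (nat_lit 0x2131133330333301032232200) (Net.cons (nat_lit 4) (nat_lit 0xa06080e060e080400050a04) (Net.cons (nat_lit 8) (nat_lit 0x7300220051004100480000) (Net.cons (nat_lit 16) (nat_lit 0x9c230000c95800000008) (Net.cons (nat_lit 32) (nat_lit 0xd4340800) (Net.cons (nat_lit 64) (nat_lit 0x9d43e4b08) (Net.cons (nat_lit 32) (nat_lit 0xf00000000754866a4) (Net.cons (nat_lit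 16) (nat_lit 0xe5ad0000a7f500009fe9) (Net.cons (nat_lit 8) (nat_lit 0xfd00c200760088001500d5) (Net.cons (nat_lit 4) (nat_lit 0x2020c0609010a080c020408) (Net.cons (nat_lit 2) (nat_lit 0x1002313130310002121023003) (Net.cons (nat_lit 1) (nat_lit 0x1110440404445110501011550) Net.nil)))))))))))))

theorem t_g145_ok : Net.ok 100 t_g145 = true := by decide +kernel

noncomputable def t_g146 : Net := (Net.cons (nat_lit 1) (nat_lit 0x5010415151404444014110414) (Net.cons (nat_lit 2) (nat_lit 0x2001301310331331303301210) (Net.cons (nat_lit 4) (nat_lit 0x40804000306000704080b00) (Net.cons (nat_lit 8) (nat_lit 0x4a00eb00b900d5002a0005) (Net.cons (nat_lit 16) (nat_lit 0x40500000cb60000000a) (Net.cons (nat_lit 32) (nat_lit 0x30000000005201a00) (Net.cons (nat_lit 64) (nat_lit 0xc85f79b6f) (Net.cons (nat_lit 32) (nat_lit 0x700000000b353a2cd) (Net.cons (nat_lit 16) (nat_lit 0x3fb00008969000094fc) (Net.cons (nat_lit 8) (nat_lit 0x2c00820084003c00ef00af)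 (Net.cons (nat_lit 4) (nat_lit 0x800000c0400030a0d0d0b00) (Net.cons (nat_lit 2) (nat_lit 0x2133323003210223333301310) (Net.cons (nat_lit 1) (nat_lit 0x4101105140545445015540141) Net.nil)))))))))))))

theorem t_g146_ok : Net.ok 100 t_g146 = true := by decide +kernel

noncomputable def t_g147 : Net := (Net.cons (nat_lit 1) (nat_lit 0x511515414040050104101014) (Net.cons (nat_lit 2) (nat_lit 0x1020101323311303102112130) (Net.cons (nat_lit 4) (nat_lit 0x60f0a0a040104000e03040a) (Net.cons (nat_lit 8) (nat_lit 0xc2000f00c100a100280000) (Net.cons (nat_lit 16) (nat_lit 0x48340000b18900000000) (Net.cons (nat_lit 32) (nat_lit 0x1000000004d927020) (Net.cons (nat_lit 64) (nat_lit 0xd5f9374ee) (Net.cons (nat_lit 32) (nat_lit 0x300000000a5ae7568) (Net.cons (nat_lit 16) (nat_lit 0x7c8e0000de730000dce6) (Net.cons (nat_lit 8) (nat_lit 0x590060008c00d000c700b7) (Net.cons (nat_lit 4) (nat_lit 0xd07080f0e07030907020b0c) (Net.cons (nat_lit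 2) (nat_lit 0x1202032021332030113230313) (Net.cons (nat_lit 1) (nat_lit 0x5505454505444040555151) Net.nil)))))))))))))

theorem t_g147_ok : Net.ok 100 t_g147 = true := by decide +kernel

noncomputable def t_g148 : Net := (Net.cons (nat_lit 1) (nat_lit 0x511111115504114404010000) (Net.cons (nat_lit 2) (nat_lit 0x11031201301200000000020) (Net.cons (nat_lit 4) (nat_lit 0xc010c0a02010b0400030300) (Net.cons (nat_lit 8) (nat_lit 0x98008a0060006a00010008) (Net.cons (nat_lit 16) (nat_lit 0x44600000000100000000) (Net.cons (nat_lit 32) (nat_lit 0x1c804800) (Net.cons (nat_lit 64) (nat_lit 0x91ca04cc8) (Net.cons (nat_lit 32) (nat_lit 0x200000000fe925802) (Net.cons (nat_lit 16) (nat_lit 0x44600000016100000100) (Net.cons (nat_lit 8) (nat_lit 0xba008a0060006a000100a0) (Net.cons (nat_lit 4) (nat_lit 0xe03050b02010b04000b0b08) (Net.cons (nat_lit 2) (nat_lit 0x11031201301201001000020) (Net.cons (nat_lit 1) (nat_lit 0x511111115504114404010000)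 Net.nil)))))))))))))

theorem t_g148_ok : Net.ok 100 t_g148 = true := by decide +kernel

noncomputable def t_g149 : Net := (Net.cons (nat_lit 1) (nat_lit 0x4105105105154045401400004) (Net.cons (nat_lit 2) (nat_lit 0x13332100320032220010320) (Net.cons (nat_lit 4) (nat_lit 0x803050a000204010b010205) (Net.cons (nat_lit 8) (nat_lit 0x680050002200f800f90000) (Net.cons (nat_lit 16) (nat_lit 0x542000009a8200000001) (Net.cons (nat_lit 32) (nat_lit 0x1000000004ea61000) (Net.cons (nat_lit 64) (nat_lit 0x26ea7f083) (Net.cons (nat_lit 32) (nat_lit 0x50000000081fa400e) (Net.cons (nat_lit 16) (nat_lit 0x3ed200005c320000e7d5) (Net.cons (nat_lit 8) (nat_lit 0x460010006600ca00f2004d) (Net.cons (nat_lit 4) (nat_lit 0xa070d08020608090b06040c) (Net.cons (nat_lit 2) (nat_lit 0x233133131220333112223223) (Net.cons (nat_lit 1) (nat_lit 0x5405515104504054140144111) Net.nil)))))))))))))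

theorem t_g149_ok : Net.ok 100 t_g149 = true := by decide +kernel

noncomputable def t_g150 : Net := (Net.cons (nat_lit 1) (nat_lit 0x5454404004150510500010140) (Net.cons (nat_lit 2) (nat_lit 0x200110001100111020201000) (Net.cons (nat_lit 4) (nat_lit 0x40f000c040f000001040001) (Net.cons (nat_lit 8) (nat_lit 0x5c00450084008300b10000) (Net.cons (nat_lit 16) (nat_lit 0x50440000030000000003) (Net.cons (nat_lit 32) (nat_lit 0x30000000000c14180) (Net.cons (nat_lit 64) (nat_lit 0x4c0c5d187) (Net.cons (nat_lit 32) (nat_lit 0x70000000057c10584) (Net.cons (nat_lit 16) (nat_lit 0xb8740000470a0000e493) (Net.cons (nat_lit 8) (nat_lit 0x7e00650084009300b10001) (Net.cons (nat_lit 4) (nat_lit 0x40f000c040f000001040001) (Net.cons (nat_lit 2) (nat_lit 0x210110001100113020201000) (Net.cons (nat_lit 1) (nat_lit 0x5454404004150510500010140) Net.nil)))))))))))))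

theorem t_g150_ok : Net.ok 100 t_g150 = true := by decide +kernel

noncomputable def nt_c6_K : List Net := [t_g146, t_g147, t_g148, t_g149, t_g150]

theorem nt_c6_K_ok : okE 100 nt_c6_K = true := (okE_cons.2 ⟨t_g146_ok, (okE_cons.2 ⟨t_g147_ok, (okE_cons.2 ⟨t_g148_ok, (okE_cons.2 ⟨t_g149_ok, (okE_cons.2 ⟨t_g150_ok, (okE_nil 100)⟩)⟩)⟩)⟩)⟩)

noncomputable def t_g152 : Net := (Net.cons (nat_lit 1) (nat_lit 0x4004144544040154410554150) (Net.cons (nat_lit 2) (nat_lit 0x1123211303312021003303110) (Net.cons (nat_lit 4) (nat_lit 0x90b020d0003020d090708) (Net.cons (nat_lit 8) (nat_lit 0x64001b00fa007d00450008) (Net.cons (nat_lit 16) (nat_lit 0x4140000840500000007) (Net.cons (nat_lit 32) (nat_lit 0x80000000024c8d0b0) (Net.cons (nat_lit 64) (nat_lit 0x4e4caf2bd) (Net.cons (nat_lit 32) (nat_lit 0xb00000000194e205b) (Net.cons (nat_lit 16) (nat_lit 0x671900005d870000e177) (Net.cons (nat_lit 8) (nat_lit 0xa1009d00e100db004400b6) (Net.cons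 (nat_lit 4) (nat_lit 0x40f000c0e080e070d080b08) (Net.cons (nat_lit 2) (nat_lit 0x1130231333202032310211130) (Net.cons (nat_lit 1) (nat_lit 0x4001015010051544511140100) Net.nil)))))))))))))

theorem t_g152_ok : Net.ok 100 t_g152 = true := by decide +kernel

noncomputable def t_g153 : Net := (Net.cons (nat_lit 1) (nat_lit 0x4555115104515105445505550) (Net.cons (nat_lit 2) (nat_lit 0x133201230230021102023200) (Net.cons (nat_lit 4) (nat_lit 0xb090a000107010d0c080a02) (Net.cons (nat_lit 8) (nat_lit 0x390062004100f400440000) (Net.cons (nat_lit 16) (nat_lit 0x192d0000a03d00000004) (Net.cons (nat_lit 32) (nat_lit 0x60000000003013070) (Net.cons (nat_lit 64) (nat_lit 0xd2b3bff72) (Net.cons (nat_lit 32) (nat_lit 0x200000000af5c0030) (Net.cons (nat_lit 16) (nat_lit 0xa93f00000746000087d8) (Net.cons (nat_lit 8) (nat_lit 0x38008800610080006e00ec) (Net.cons (nat_lit 4) (nat_lit 0xb080d0b020503040e0b0506) (Net.cons (nat_lit 2) (nat_lit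 0x2113201123333132000130222) (Net.cons (nat_lit 1) (nat_lit 0x5551110040555104540415110) Net.nil)))))))))))))

theorem t_g153_ok : Net.ok 100 t_g153 = true := by decide +kernel

noncomputable def t_g154 : Net := (Net.cons (nat_lit 1) (nat_lit 0x100511410150511014141104) (Net.cons (nat_lit 2) (nat_lit 0x1033213121301303202032000) (Net.cons (nat_lit 4) (nat_lit 0x8030f00080603020c0c040a) (Net.cons (nat_lit 8) (nat_lit 0x28001d00a200a800300005) (Net.cons (nat_lit 16) (nat_lit 0xf8030000906900000005) (Net.cons (nat_lit 32) (nat_lit 0xc0000000088432500) (Net.cons (nat_lit 64) (nat_lit 0x1da5b27fc) (Net.cons (nat_lit 32) (nat_lit 0xe0000000064a2718a) (Net.cons (nat_lit 16) (nat_lit 0xff8d0000b45400000ee5) (Net.cons (nat_lit 8) (nat_lit 0x2a00d40097002e004400cd) (Net.cons (nat_lit 4) (nat_lit 0xa0507010f070d000601080c) (Net.cons (nat_lit 2) (nat_lit 0x2222333311103301311121300) (Net.cons (nat_lit 1) (nat_lit 0x4141545451154501404540504)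 Net.nil)))))))))))))

theorem t_g154_ok : Net.ok 100 t_g154 = true := by decide +kernel

noncomputable def t_g155 : Net := (Net.cons (nat_lit 1) (nat_lit 0x4115401400040151005401004) (Net.cons (nat_lit 2) (nat_lit 0x3020122220222313200001000) (Net.cons (nat_lit 4) (nat_lit 0x80d0406000a05040b0008) (Net.cons (nat_lit 8) (nat_lit 0x2300540060000d00510000) (Net.cons (nat_lit 16) (nat_lit 0xe6000000004d00000002) (Net.cons (nat_lit 32) (nat_lit 0x800000000808210a0) (Net.cons (nat_lit 64) (nat_lit 0x6c48232fa) (Net.cons (nat_lit 32) (nat_lit 0x80000000082ebb180) (Net.cons (nat_lit 16) (nat_lit 0xcf280000444d00001802) (Net.cons (nat_lit 8) (nat_lit 0xb007c0060002d00510020) (Net.cons (nat_lit 4) (nat_lit 0x80d0406000a05040b0408) (Net.cons (nat_lit 2) (nat_lit 0x3020123220322313200001012) (Net.cons (nat_lit 1) (nat_lit 0x4115401400040151005401004) Net.nil)))))))))))))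

theorem t_g155_ok : Net.ok 100 t_g155 = true := by decide +kernel

noncomputable def t_V156 : List Net := [t_g152, t_g153, t_g154, t_g155]

theorem t_V156_ok : okE 100 t_V156 = true := (okE_cons.2 ⟨t_g152_ok, (okE_cons.2 ⟨t_g153_ok, (okE_cons.2 ⟨t_g154_ok, (okE_cons.2 ⟨t_g155_ok, (okE_nil 100)⟩)⟩)⟩)⟩)

noncomputable def t_V158 : List Net := [t_g153, t_g154, t_g155]

theorem t_V158_ok : okE 100 t_V158 = true := (okE_cons.2 ⟨t_g153_ok, (okE_cons.2 ⟨t_g154_ok, (okE_cons.2 ⟨t_g155_ok, (okE_nil 100)⟩)⟩)⟩)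

noncomputable def t_V159 : List Net := [t_g154, t_g155]

theorem t_V159_ok : okE 100 t_V159 = true := (okE_cons.2 ⟨t_g154_ok, (okE_cons.2 ⟨t_g155_ok, (okE_nil 100)⟩)⟩)

noncomputable def t_V160 : List Net := [t_g155]

theorem t_V160_ok : okE 100 t_V160 = true := (okE_cons.2 ⟨t_g155_ok, (okE_nil 100)⟩)

noncomputable def t_V161 : List Net := []

theorem t_V161_ok : okE 100 t_V161 = true := (okE_nil 100)

noncomputable def nt_c6_cnt_EG : List Net := [MpHS.a, HSM.g1, HSM.g2, t_g1, t_g2, t_g5, t_g6, t_g9, t_g10, t_g13, t_g14, t_g15, t_g18, t_g19, t_g20, t_g23, t_g24, t_g25, t_g28, t_g29, t_g30, t_g31, t_g34, t_g86, t_g87, t_g88, t_g89, t_g90, t_g91, t_g92, t_g93, t_g153, t_g154, t_g155, t_g152, t_g133, t_g134, t_g135, t_g136, t_g137]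

theorem nt_c6_cnt_EG_ok : okE 100 nt_c6_cnt_EG = true := (okE_cons.2 ⟨MpHS.a_ok, (okE_cons.2 ⟨HSM.g1_ok, (okE_cons.2 ⟨HSM.g2_ok, (okE_cons.2 ⟨t_g1_ok, (okE_cons.2 ⟨t_g2_ok, (okE_cons.2 ⟨t_g5_ok, (okE_cons.2 ⟨t_g6_ok, (okE_cons.2 ⟨t_g9_ok, (okE_cons.2 ⟨t_g10_ok, (okE_cons.2 ⟨t_g13_ok, (okE_cons.2 ⟨t_g14_ok, (okE_cons.2 ⟨t_g15_ok, (okE_cons.2 ⟨t_g18_ok, (okE_cons.2 ⟨t_g19_ok, (okE_cons.2 ⟨t_g20_ok, (okE_cons.2 ⟨t_g23_ok, (okE_cons.2 ⟨t_g24_ok, (okE_cons.2 ⟨t_g25_ok, (okE_cons.2 ⟨t_g28_ok, (okE_cons.2 ⟨t_g29_ok, (okE_cons.2 ⟨t_g30_ok, (okE_cons.2 ⟨t_g31_ok, (okE_cons.2 ⟨t_g34_ok, (okE_cons.2 ⟨t_g86_ok, (okE_cons.2 ⟨t_g87_ok, (okE_cons.2 ⟨t_g88_ok, (okE_cons.2 ⟨t_g89_ok, (okE_cons.2 ⟨t_g90_ok, (okE_cons.2 ⟨t_g91_ok, (okE_cons.2 ⟨t_g92_ok, (okE_cons.2 ⟨t_g93_ok, (okE_cons.2 ⟨t_g153_ok, (okE_cons.2 ⟨t_g154_ok, (okE_cons.2 ⟨t_g155_ok, (okE_cons.2 ⟨t_g152_ok, (okE_cons.2 ⟨t_g133_ok, (okE_cons.2 ⟨t_g134_ok, (okE_cons.2 ⟨t_g135_ok,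 (okE_cons.2 ⟨t_g136_ok, (okE_cons.2 ⟨t_g137_ok, (okE_nil 100)⟩)⟩)⟩)⟩)⟩)⟩)⟩)⟩)⟩)⟩)⟩)⟩)⟩)⟩)⟩)⟩)⟩)⟩)⟩)⟩)⟩)⟩)⟩)⟩)⟩)⟩)⟩)⟩)⟩)⟩)⟩)⟩)⟩)⟩)⟩)⟩)⟩)⟩)⟩)⟩)

noncomputable def t_g162 : Net := (Net.cons (nat_lit 1) (nat_lit 0x4550555450011405554005504) (Net.cons (nat_lit 2) (nat_lit 0x2332313110223330301320100) (Net.cons (nat_lit 4) (nat_lit 0xd040a0c090c0c0b050c0008) (Net.cons (nat_lit 8) (nat_lit 0xd00ea000800d800c00000) (Net.cons (nat_lit 16) (nat_lit 0xe68a0000212400000004) (Net.cons (nat_lit 32) (nat_lit 0x70000000042010990) (Net.cons (nat_lit 64) (nat_lit 0xbf65d59dc) (Net.cons (nat_lit 32) (nat_lit 0x700000000661c0c31) (Net.cons (nat_lit 16) (nat_lit 0xfa17000000d50000d489) (Net.cons (nat_lit 8) (nat_lit 0xd50003004800e1008400e4) (Net.cons (nat_lit 4) (nat_lit 0x80507050d0a0c0a060b0002) (Net.cons (nat_lit 2) (nat_lit 0x1313313033232320230331102) (Net.cons (nat_lit 1) (nat_lit 0x1511411554155115505505401) Net.nil)))))))))))))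

theorem t_g162_ok : Net.ok 100 t_g162 = true := by decide +kernel

noncomputable def t_g163 : Net := (Net.cons (nat_lit 1) (nat_lit 0x4400010141005015414014500) (Net.cons (nat_lit 2) (nat_lit 0x3200103313211001333330100) (Net.cons (nat_lit 4) (nat_lit 0x5050b070d070d01020c0d00) (Net.cons (nat_lit 8) (nat_lit 0x85002a001100b20021000c) (Net.cons (nat_lit 16) (nat_lit 0x2dd6000016620000000a) (Net.cons (nat_lit 32) (nat_lit 0xd0000000031006800) (Net.cons (nat_lit 64) (nat_lit 0x231057cfd) (Net.cons (nat_lit 32) (nat_lit 0xe000000005407a36c) (Net.cons (nat_lit 16) (nat_lit 0xf83d00000e070000aeb2) (Net.cons (nat_lit 8) (nat_lit 0x63000100ee003d00ed00e2) (Net.cons (nat_lit 4) (nat_lit 0x60e070500010c02000c0a04) (Net.cons (nat_lit 2) (nat_lit 0x3333121202101200122232232) (Net.cons (nat_lit 1) (nat_lit 0x5454055110544110150555400) Net.nil)))))))))))))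

theorem t_g163_ok : Net.ok 100 t_g163 = true := by decide +kernel

noncomputable def t_g164 : Net := (Net.cons (nat_lit 1) (nat_lit 0x5554010411445401151100100) (Net.cons (nat_lit 2) (nat_lit 0x11003111000002000202300) (Net.cons (nat_lit 4) (nat_lit 0x80400000b0a0a0b09080500) (Net.cons (nat_lit 8) (nat_lit 0x8200280024004800b00000) (Net.cons (nat_lit 16) (nat_lit 0xa40000ec8500000004) (Net.cons (nat_lit 32) (nat_lit 0x800000000042ae060) (Net.cons (nat_lit 64) (nat_lit 0xce7faed77) (Net.cons (nat_lit 32) (nat_lit 0x90000000056f53b42) (Net.cons (nat_lit 16) (nat_lit 0x2910000a1280000ee0c) (Net.cons (nat_lit 8) (nat_lit 0x100be00ac001e00bf00ff) (Net.cons (nat_lit 4) (nat_lit 0xf02050a09020a0d0b0c080d) (Net.cons (nat_lit 2) (nat_lit 0x123010130000113211213211) (Net.cons (nat_lit 1) (nat_lit 0x5454454551500010041551441) Net.nil)))))))))))))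

theorem t_g164_ok : Net.ok 100 t_g164 = true := by decide +kernel

noncomputable def t_g165 : Net := (Net.cons (nat_lit 1) (nat_lit 0x440010015414000114005000) (Net.cons (nat_lit 2) (nat_lit 0x220303211110120300002100) (Net.cons (nat_lit 4) (nat_lit 0x2010e0404080d0000060300) (Net.cons (nat_lit 8) (nat_lit 0x8000110094004400040008) (Net.cons (nat_lit 16) (nat_lit 0x3880000000100000000) (Net.cons (nat_lit 32) (nat_lit 0xb0000000008123a50) (Net.cons (nat_lit 64) (nat_lit 0x3495a7ad8) (Net.cons (nat_lit 32) (nat_lit 0xb0000000008533e10) (Net.cons (nat_lit 16) (nat_lit 0x3d80000815500002064) (Net.cons (nat_lit 8) (nat_lit 0x840095009400440004000b) (Net.cons (nat_lit 4) (nat_lit 0x2010e0404080d0800060300) (Net.cons (nat_lit 2) (nat_lit 0x220303213110120300002100) (Net.cons (nat_lit 1) (nat_lit 0x440010015414000114405000) Net.nil)))))))))))))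

theorem t_g165_ok : Net.ok 100 t_g165 = true := by decide +kernel

noncomputable def t_g166 : Net := (Net.cons (nat_lit 1) (nat_lit 0x4044114445454500554005040) (Net.cons (nat_lit 2) (nat_lit 0x3231301032100232133000000) (Net.cons (nat_lit 4) (nat_lit 0x6040a0f0c01050005010a00) (Net.cons (nat_lit 8) (nat_lit 0x3a00c100c000fb00020001) (Net.cons (nat_lit 16) (nat_lit 0x1a320000818000000001) (Net.cons (nat_lit 32) (nat_lit 0xb00000000d00801f0) (Net.cons (nat_lit 64) (nat_lit 0x2d7ec6dfd) (Net.cons (nat_lit 32) (nat_lit 0xa000000000c38410f) (Net.cons (nat_lit 16) (nat_lit 0x181e0000cd9a00003e28) (Net.cons (nat_lit 8) (nat_lit 0x9e005000e1003a00bf000d) (Net.cons (nat_lit 4) (nat_lit 0xa060f05050c020e050b0809) (Net.cons (nat_lit 2) (nat_lit 0x3313132300100322003121301) (Net.cons (nat_lit 1) (nat_lit 0x4414000544000050145150555) Net.nil)))))))))))))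

theorem t_g166_ok : Net.ok 100 t_g166 = true := by decide +kernel

noncomputable def t_g167 : Net := (Net.cons (nat_lit 1) (nat_lit 0x41055514041040555000400) (Net.cons (nat_lit 2) (nat_lit 0x2111022201022210121010020) (Net.cons (nat_lit 4) (nat_lit 0x400000a08030802040000) (Net.cons (nat_lit 8) (nat_lit 0x8600210042008200d00000) (Net.cons (nat_lit 16) (nat_lit 0x5447000020c000000000) (Net.cons (nat_lit 32) (nat_lit 0x80000000040c61400) (Net.cons (nat_lit 64) (nat_lit 0x44c7dea8) (Net.cons (nat_lit 32) (nat_lit 0xa00000000244650c6) (Net.cons (nat_lit 16) (nat_lit 0x30c70000e44000005580) (Net.cons (nat_lit 8) (nat_lit 0x870021004a008300d20000) (Net.cons (nat_lit 4) (nat_lit 0x408010a0a030802040800) (Net.cons (nat_lit 2) (nat_lit 0x2111022201022210131010020) (Net.cons (nat_lit 1) (nat_lit 0x41055514041040555000400) Net.nil)))))))))))))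

theorem t_g167_ok : Net.ok 100 t_g167 = true := by decide +kernel

noncomputable def nt_c7_K : List Net := [t_g163, t_g164, t_g165, t_g166, t_g167]

theorem nt_c7_K_ok : okE 100 nt_c7_K = true := (okE_cons.2 ⟨t_g163_ok, (okE_cons.2 ⟨t_g164_ok, (okE_cons.2 ⟨t_g165_ok, (okE_cons.2 ⟨t_g166_ok, (okE_cons.2 ⟨t_g167_ok, (okE_nil 100)⟩)⟩)⟩)⟩)⟩)

noncomputable def t_g169 : Net := (Net.cons (nat_lit 1) (nat_lit 0x455051544444045014000510) (Net.cons (nat_lit 2) (nat_lit 0x1022200013221113213232020) (Net.cons (nat_lit 4) (nat_lit 0x30c0f07000c0c0902040e08) (Net.cons (nat_lit 8) (nat_lit 0xd7004700c4001f00080001) (Net.cons (nat_lit 16) (nat_lit 0x2b1400000a5a00000004) (Net.cons (nat_lit 32) (nat_lit 0x300000000c8364100) (Net.cons (nat_lit 64) (nat_lit 0xef83f53a1) (Net.cons (nat_lit 32) (nat_lit 0xc00000000b58cf364) (Net.cons (nat_lit 16) (nat_lit 0xa15600006ccf00005875) (Net.cons (nat_lit 8) (nat_lit 0x1500f9004000d0000300c9) (Net.cons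 (nat_lit 4) (nat_lit 0x307040c02030e0c02060600) (Net.cons (nat_lit 2) (nat_lit 0x2122112300322120100003220) (Net.cons (nat_lit 1) (nat_lit 0x1154544050014451410505010) Net.nil)))))))))))))

theorem t_g169_ok : Net.ok 100 t_g169 = true := by decide +kernel

noncomputable def t_g170 : Net := (Net.cons (nat_lit 1) (nat_lit 0x501444510040510005440100) (Net.cons (nat_lit 2) (nat_lit 0x3032112332011311011003000) (Net.cons (nat_lit 4) (nat_lit 0xe060200040007000f040008) (Net.cons (nat_lit 8) (nat_lit 0x900c000fc002200400000) (Net.cons (nat_lit 16) (nat_lit 0xc2010000008a00000004) (Net.cons (nat_lit 32) (nat_lit 0x40000000081f14850) (Net.cons (nat_lit 64) (nat_lit 0x8a1f97bdc) (Net.cons (nat_lit 32) (nat_lit 0xc00000000d5f35868) (Net.cons (nat_lit 16) (nat_lit 0xc641000000ca00008044) (Net.cons (nat_lit 8) (nat_lit 0x4900d00074007600410010) (Net.cons (nat_lit 4) (nat_lit 0xe06020c0c0807000f040008) (Net.cons (nat_lit 2) (nat_lit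 0x3032112332011311011003000) (Net.cons (nat_lit 1) (nat_lit 0x501444510040510005440500) Net.nil)))))))))))))

theorem t_g170_ok : Net.ok 100 t_g170 = true := by decide +kernel

noncomputable def t_V171 : List Net := [t_g169, t_g137, t_g170]

theorem t_V171_ok : okE 100 t_V171 = true := (okE_cons.2 ⟨t_g169_ok, (okE_cons.2 ⟨t_g137_ok, (okE_cons.2 ⟨t_g170_ok, (okE_nil 100)⟩)⟩)⟩)

noncomputable def t_V173 : List Net := [t_g137, t_g170]

theorem t_V173_ok : okE 100 t_V173 = true := (okE_cons.2 ⟨t_g137_ok, (okE_cons.2 ⟨t_g170_ok, (okE_nil 100)⟩)⟩)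

noncomputable def t_V174 : List Net := [t_g170]

theorem t_V174_ok : okE 100 t_V174 = true := (okE_cons.2 ⟨t_g170_ok, (okE_nil 100)⟩)

noncomputable def t_V175 : List Net := []

theorem t_V175_ok : okE 100 t_V175 = true := (okE_nil 100)

noncomputable def nt_c7_cnt_EG : List Net := [MpHS.a, HSM.g1, HSM.g2, t_g1, t_g2, t_g5, t_g6, t_g9, t_g10, t_g13, t_g14, t_g15, t_g18, t_g19, t_g20, t_g23, t_g24, t_g25, t_g28, t_g29, t_g30, t_g31, t_g34, t_g86, t_g87, t_g88, t_g89, t_g90, t_g91, t_g92, t_g93, t_g137, t_g170, t_g169]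

theorem nt_c7_cnt_EG_ok : okE 100 nt_c7_cnt_EG = true := (okE_cons.2 ⟨MpHS.a_ok, (okE_cons.2 ⟨HSM.g1_ok, (okE_cons.2 ⟨HSM.g2_ok, (okE_cons.2 ⟨t_g1_ok, (okE_cons.2 ⟨t_g2_ok, (okE_cons.2 ⟨t_g5_ok, (okE_cons.2 ⟨t_g6_ok, (okE_cons.2 ⟨t_g9_ok, (okE_cons.2 ⟨t_g10_ok, (okE_cons.2 ⟨t_g13_ok, (okE_cons.2 ⟨t_g14_ok, (okE_cons.2 ⟨t_g15_ok, (okE_cons.2 ⟨t_g18_ok, (okE_cons.2 ⟨t_g19_ok, (okE_cons.2 ⟨t_g20_ok, (okE_cons.2 ⟨t_g23_ok, (okE_cons.2 ⟨t_g24_ok, (okE_cons.2 ⟨t_g25_ok, (okE_cons.2 ⟨t_g28_ok, (okE_cons.2 ⟨t_g29_ok, (okE_cons.2 ⟨t_g30_ok, (okE_cons.2 ⟨t_g31_ok, (okE_cons.2 ⟨t_g34_ok, (okE_cons.2 ⟨t_g86_ok, (okE_cons.2 ⟨t_g87_ok, (okE_cons.2 ⟨t_g88_ok, (okE_cons.2 ⟨t_g89_ok, (okE_cons.2 ⟨t_g90_ok, (okE_cons.2 ⟨t_g91_ok, (okE_cons.2 ⟨t_g92_ok, (okE_cons.2 ⟨t_g93_ok, (okE_cons.2 ⟨t_g137_ok, (okE_cons.2 ⟨t_g170_ok, (okE_cons.2 ⟨t_g169_ok, (okE_nil 100)⟩)⟩)⟩)⟩)⟩)⟩)⟩)⟩)⟩)⟩)⟩)⟩)⟩)⟩)⟩)⟩)⟩)⟩)⟩)⟩)⟩)⟩)⟩)⟩)⟩)⟩)⟩)⟩)⟩)⟩)⟩)⟩)⟩)⟩)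

noncomputable def t_g176 : Net := (Net.cons (nat_lit 1) (nat_lit 0x4504411445151454540151450) (Net.cons (nat_lit 2) (nat_lit 0x2112301023220233111100220) (Net.cons (nat_lit 4) (nat_lit 0xd0a06090c06060d0a0a000a) (Net.cons (nat_lit 8) (nat_lit 0x33007300e9000f009c0004) (Net.cons (nat_lit 16) (nat_lit 0x2aa0000000c000000000) (Net.cons (nat_lit 32) (nat_lit 0x50000000029616280) (Net.cons (nat_lit 64) (nat_lit 0x3796972ee) (Net.cons (nat_lit 32) (nat_lit 0xc00000000df55732f) (Net.cons (nat_lit 16) (nat_lit 0x54ed000033dc00005379) (Net.cons (nat_lit 8) (nat_lit 0x3d0053008e00640035004f) (Net.cons (nat_lit 4) (nat_lit 0xb04000b04000c0c07020205) (Net.cons (nat_lit 2) (nat_lit 0x2212113211231103103020100) (Net.cons (nat_lit 1) (nat_lit 0x415100010015414440140011) Net.nil)))))))))))))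

theorem t_g176_ok : Net.ok 100 t_g176 = true := by decide +kernel

noncomputable def t_g177 : Net := (Net.cons (nat_lit 1) (nat_lit 0x4144555511154400400040540) (Net.cons (nat_lit 2) (nat_lit 0x2231001112310210022311110) (Net.cons (nat_lit 4) (nat_lit 0x6090e01020b020000040e08) (Net.cons (nat_lit 8) (nat_lit 0xc40083001e003700ea0009) (Net.cons (nat_lit 16) (nat_lit 0xd226000060f40000000a) (Net.cons (nat_lit 32) (nat_lit 0x20000000098c80830) (Net.cons (nat_lit 64) (nat_lit 0xfddfd2af9) (Net.cons (nat_lit 32) (nat_lit 0x900000000e6641c96) (Net.cons (nat_lit 16) (nat_lit 0xca60000fcfd0000a05a) (Net.cons (nat_lit 8) (nat_lit 0xdb00a400ef0013005b0045) (Net.cons (nat_lit 4) (nat_lit 0xa03050b050f060401090e0c) (Net.cons (nat_lit 2) (nat_lit 0x2122001232233130011013201) (Net.cons (nat_lit 1) (nat_lit 0x5414541145414411510005111) Net.nil)))))))))))))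

theorem t_g177_ok : Net.ok 100 t_g177 = true := by decide +kernel

noncomputable def t_g178 : Net := (Net.cons (nat_lit 1) (nat_lit 0x5154411150401055145451000) (Net.cons (nat_lit 2) (nat_lit 0x2221031101133231030112320) (Net.cons (nat_lit 4) (nat_lit 0x8070c00000a050d02090100) (Net.cons (nat_lit 8) (nat_lit 0x80038001c00220048000a) (Net.cons (nat_lit 16) (nat_lit 0x124b00000a7a00000003) (Net.cons (nat_lit 32) (nat_lit 0x900000000a6414090) (Net.cons (nat_lit 64) (nat_lit 0xef753dfd7) (Net.cons (nat_lit 32) (nat_lit 0x3000000003041eab3) (Net.cons (nat_lit 16) (nat_lit 0x167b0000543b0000828e) (Net.cons (nat_lit 8) (nat_lit 0x22000f007b002a00d70000) (Net.cons (nat_lit 4) (nat_lit 0x7030d030d0b0b0d0b0d080b) (Net.cons (nat_lit 2) (nat_lit 0x20022303022201210112123) (Net.cons (nat_lit 1) (nat_lit 0x4444514054445041515400005) Net.nil)))))))))))))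

theorem t_g178_ok : Net.ok 100 t_g178 = true := by decide +kernel

noncomputable def t_g179 : Net := (Net.cons (nat_lit 1) (nat_lit 0x45540415455044551401150) (Net.cons (nat_lit 2) (nat_lit 0x3311221332121100003231010) (Net.cons (nat_lit 4) (nat_lit 0x90600080602010a000a0b06) (Net.cons (nat_lit 8) (nat_lit 0x94003a0092004300590004) (Net.cons (nat_lit 16) (nat_lit 0x6a780000701100000001) (Net.cons (nat_lit 32) (nat_lit 0xc000000000806c390) (Net.cons (nat_lit 64) (nat_lit 0xf1ab6e3d0) (Net.cons (nat_lit 32) (nat_lit 0x10000000074d34a0c) (Net.cons (nat_lit 16) (nat_lit 0x48f50000d59f00000c0e) (Net.cons (nat_lit 8) (nat_lit 0xe00052001c000b00a80050) (Net.cons (nat_lit 4) (nat_lit 0xb0101020a0b010f00060c07) (Net.cons (nat_lit 2) (nat_lit 0x2010021101101322000231003) (Net.cons (nat_lit 1) (nat_lit 0x5545041441551145540404415) Net.nil)))))))))))))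

theorem t_g179_ok : Net.ok 100 t_g179 = true := by decide +kernel

noncomputable def t_g180 : Net := (Net.cons (nat_lit 1) (nat_lit 0x1111455504004044451450144) (Net.cons (nat_lit 2) (nat_lit 0x1220203122133301022031100) (Net.cons (nat_lit 4) (nat_lit 0xb000c0a00050e0807000b06) (Net.cons (nat_lit 8) (nat_lit 0x4e00600074000000060003) (Net.cons (nat_lit 16) (nat_lit 0x956e000083720000000c) (Net.cons (nat_lit 32) (nat_lit 0x50000000018d8a300) (Net.cons (nat_lit 64) (nat_lit 0xab9dde7ef) (Net.cons (nat_lit 32) (nat_lit 0x50000000022b9f352) (Net.cons (nat_lit 16) (nat_lit 0x1ea00000316600007ffe) (Net.cons (nat_lit 8) (nat_lit 0x5300ea00e3006c000900f8) (Net.cons (nat_lit 4) (nat_lit 0x401050c0907090c050a0809) (Net.cons (nat_lit 2) (nat_lit 0x3022303302031311012213310) (Net.cons (nat_lit 1) (nat_lit 0x5150151405440545404104415) Net.nil)))))))))))))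

theorem t_g180_ok : Net.ok 100 t_g180 = true := by decide +kernel

noncomputable def t_g181 : Net := (Net.cons (nat_lit 1) (nat_lit 0x5500511004104401040104040) (Net.cons (nat_lit 2) (nat_lit 0x22020330113311210012220) (Net.cons (nat_lit 4) (nat_lit 0xb09070b000c0801060e05) (Net.cons (nat_lit 8) (nat_lit 0x3e00f6000a00120007) (Net.cons (nat_lit 16) (nat_lit 0x29b0000030000000004) (Net.cons (nat_lit 32) (nat_lit 0x9000000002195c020) (Net.cons (nat_lit 64) (nat_lit 0xe6195c327) (Net.cons (nat_lit 32) (nat_lit 0x600000000b1e5fb2c) (Net.cons (nat_lit 16) (nat_lit 0xbeb9000071000000a331) (Net.cons (nat_lit 8) (nat_lit 0x22001e00d600460022006c) (Net.cons (nat_lit 4) (nat_lit 0x20b0c070a020a0e00050604) (Net.cons (nat_lit 2) (nat_lit 0x3222022330113131210112220) (Net.cons (nat_lit 1) (nat_lit 0x1501555004154011400001140) Net.nil)))))))))))))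

theorem t_g181_ok : Net.ok 100 t_g181 = true := by decide +kernel

noncomputable def nt_c8_K : List Net := [t_g177, t_g178, t_g179, t_g180, t_g181]

theorem nt_c8_K_ok : okE 100 nt_c8_K = true := (okE_cons.2 ⟨t_g177_ok, (okE_cons.2 ⟨t_g178_ok, (okE_cons.2 ⟨t_g179_ok, (okE_cons.2 ⟨t_g180_ok, (okE_cons.2 ⟨t_g181_ok, (okE_nil 100)⟩)⟩)⟩)⟩)⟩)

noncomputable def t_V183 : List Net := [t_g30]

theorem t_V183_ok : okE 100 t_V183 = true := (okE_cons.2 ⟨t_g30_ok, (okE_nil 100)⟩)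

noncomputable def t_V185 : List Net := []

theorem t_V185_ok : okE 100 t_V185 = true := (okE_nil 100)

noncomputable def nt_c8_cnt_EG : List Net := [MpHS.a, HSM.g1, HSM.g2, t_g1, t_g2, t_g5, t_g6, t_g9, t_g10, t_g13, t_g14, t_g15, t_g18, t_g19, t_g20, t_g23, t_g24, t_g25, t_g28, t_g29, t_g30, t_g31, t_g34, t_g86, t_g87, t_g88, t_g89, t_g90, t_g91, t_g92, t_g93, t_g137, t_g170, t_g169]

theorem nt_c8_cnt_EG_ok : okE 100 nt_c8_cnt_EG = true := (okE_cons.2 ⟨MpHS.a_ok, (okE_cons.2 ⟨HSM.g1_ok, (okE_cons.2 ⟨HSM.g2_ok, (okE_cons.2 ⟨t_g1_ok, (okE_cons.2 ⟨t_g2_ok, (okE_cons.2 ⟨t_g5_ok, (okE_cons.2 ⟨t_g6_ok, (okE_cons.2 ⟨t_g9_ok, (okE_cons.2 ⟨t_g10_ok, (okE_cons.2 ⟨t_g13_ok, (okE_cons.2 ⟨t_g14_ok, (okE_cons.2 ⟨t_g15_ok, (okE_cons.2 ⟨t_g18_ok, (okE_cons.2 ⟨t_g19_ok, (okE_cons.2 ⟨t_g20_ok, (okE_cons.2 ⟨t_g23_ok, (okE_cons.2 ⟨t_g24_ok, (okE_cons.2 ⟨t_g25_ok, (okE_cons.2 ⟨t_g28_ok, (okE_cons.2 ⟨t_g29_ok, (okE_cons.2 ⟨t_g30_ok, (okE_cons.2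 ⟨t_g31_ok, (okE_cons.2 ⟨t_g34_ok, (okE_cons.2 ⟨t_g86_ok, (okE_cons.2 ⟨t_g87_ok, (okE_cons.2 ⟨t_g88_ok, (okE_cons.2 ⟨t_g89_ok, (okE_cons.2 ⟨t_g90_ok, (okE_cons.2 ⟨t_g91_ok, (okE_cons.2 ⟨t_g92_ok, (okE_cons.2 ⟨t_g93_ok, (okE_cons.2 ⟨t_g137_ok, (okE_cons.2 ⟨t_g170_ok, (okE_cons.2 ⟨t_g169_ok, (okE_nil 100)⟩)⟩)⟩)⟩)⟩)⟩)⟩)⟩)⟩)⟩)⟩)⟩)⟩)⟩)⟩)⟩)⟩)⟩)⟩)⟩)⟩)⟩)⟩)⟩)⟩)⟩)⟩)⟩)⟩)⟩)⟩)⟩)⟩)⟩)

noncomputable def t_g186 : Net := (Net.cons (nat_lit 1) (nat_lit 0x4405500140044541054510010) (Net.cons (nat_lit 2) (nat_lit 0x2000001312321310020113200) (Net.cons (nat_lit 4) (nat_lit 0x5040a000b0302040d060102) (Net.cons (nat_lit 8) (nat_lit 0x4400020092002500b50000) (Net.cons (nat_lit 16) (nat_lit 0xfd800007c0100000002) (Net.cons (nat_lit 32) (nat_lit 0x30000000004532820) (Net.cons (nat_lit 64) (nat_lit 0x187dff862) (Net.cons (nat_lit 32) (nat_lit 0x20000000058ea8a8d) (Net.cons (nat_lit 16) (nat_lit 0xee5f0000e85300002c82) (Net.cons (nat_lit 8) (nat_lit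 0xf500b0001900ad00c5000b) (Net.cons (nat_lit 4) (nat_lit 0x60c000308050803030c0e00) (Net.cons (nat_lit 2) (nat_lit 0x1132311233003132020113003) (Net.cons (nat_lit 1) (nat_lit 0x1044010150110554100140010) Net.nil)))))))))))))

theorem t_g186_ok : Net.ok 100 t_g186 = true := by decide +kernel

noncomputable def t_g187 : Net := (Net.cons (nat_lit 1) (nat_lit 0x5441144154050411105551140) (Net.cons (nat_lit 2) (nat_lit 0x3003113220013220023100120) (Net.cons (nat_lit 4) (nat_lit 0x8000a0d02070b0b030b0805) (Net.cons (nat_lit 8) (nat_lit 0x97002700b6007200180000) (Net.cons (nat_lit 16) (nat_lit 0x3b410000150900000001) (Net.cons (nat_lit 32) (nat_lit 0x3000000002d465220) (Net.cons (nat_lit 64) (nat_lit 0xa2dfed7ad) (Net.cons (nat_lit 32) (nat_lit 0xc00000000a08dedea) (Net.cons (nat_lit 16) (nat_lit 0x7cc40000171e0000f53d) (Net.cons (nat_lit 8) (nat_lit 0x770053000e00bc009d004d) (Net.cons (nat_lit 4) (nat_lit 0xf07030d0109080e0c090a0d)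 (Net.cons (nat_lit 2) (nat_lit 0x2211300200203003331031002) (Net.cons (nat_lit 1) (nat_lit 0x410515041154540100540541) Net.nil)))))))))))))

theorem t_g187_ok : Net.ok 100 t_g187 = true := by decide +kernel

noncomputable def t_g188 : Net := (Net.cons (nat_lit 1) (nat_lit 0x150510000100401054110150) (Net.cons (nat_lit 2) (nat_lit 0x20211222322123231100130) (Net.cons (nat_lit 4) (nat_lit 0x30a050201090c0a04090004) (Net.cons (nat_lit 8) (nat_lit 0x3300bd00b2000700000008) (Net.cons (nat_lit 16) (nat_lit 0x5a50000000250000000e) (Net.cons (nat_lit 32) (nat_lit 0xa00000000e1202a50) (Net.cons (nat_lit 64) (nat_lit 0x5ffe13fda) (Net.cons (nat_lit 32) (nat_lit 0x80000000004eabea7) (Net.cons (nat_lit 16) (nat_lit 0xb2e70000d8a20000416e) (Net.cons (nat_lit 8) (nat_lit 0xd200fc00b0000100110013) (Net.cons (nat_lit 4) (nat_lit 0xe0b0d010d080d050808010c) (Net.cons (nat_lit 2) (nat_lit 0x1011010102103330211133213) (Net.cons (nat_lit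 1) (nat_lit 0x1000454115454504504154551) Net.nil)))))))))))))

theorem t_g188_ok : Net.ok 100 t_g188 = true := by decide +kernel

noncomputable def t_g189 : Net := (Net.cons (nat_lit 1) (nat_lit 0x5554405141041501555004500) (Net.cons (nat_lit 2) (nat_lit 0x2010113301003223020202200) (Net.cons (nat_lit 4) (nat_lit 0xf080e000507020401070900) (Net.cons (nat_lit 8) (nat_lit 0xf9003400830036001c0000) (Net.cons (nat_lit 16) (nat_lit 0x6bb1000070c400000006) (Net.cons (nat_lit 32) (nat_lit 0x1000000008a0e3750) (Net.cons (nat_lit 64) (nat_lit 0x3caef375e) (Net.cons (nat_lit 32) (nat_lit 0xc00000000d1bf9355) (Net.cons (nat_lit 16) (nat_lit 0xe5f60000c4dc0000b70a) (Net.cons (nat_lit 8) (nat_lit 0xf3002700db00ca009e008f) (Net.cons (nat_lit 4) (nat_lit 0xf0a0500000b050101060000) (Net.cons (nat_lit 2) (nat_lit 0x3210201300000311201212203) (Net.cons (nat_lit 1) (nat_lit 0x154415141055100400405501) Net.nil)))))))))))))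

theorem t_g189_ok : Net.ok 100 t_g189 = true := by decide +kernel

noncomputable def t_g190 : Net := (Net.cons (nat_lit 1) (nat_lit 0x5544441051000104501010000) (Net.cons (nat_lit 2) (nat_lit 0x2312323110130111201122000) (Net.cons (nat_lit 4) (nat_lit 0xa0e0b03050c01040c000000) (Net.cons (nat_lit 8) (nat_lit 0xd90023004f00ca00040008) (Net.cons (nat_lit 16) (nat_lit 0x48250000004500000008) (Net.cons (nat_lit 32) (nat_lit 0x1000000002b047160) (Net.cons (nat_lit 64) (nat_lit 0x36b6d7d60) (Net.cons (nat_lit 32) (nat_lit 0x9000000002714f964) (Net.cons (nat_lit 16) (nat_lit 0xc13700000b6500005d0e) (Net.cons (nat_lit 8) (nat_lit 0xf90023006b00ca0000000c) (Net.cons (nat_lit 4) (nat_lit 0x80e0f03050e010608000400) (Net.cons (nat_lit 2) (nat_lit 0x2312323110130111201122000) (Net.cons (nat_lit 1) (nat_lit 0x5544441051400104501010000) Net.nil)))))))))))))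

theorem t_g190_ok : Net.ok 100 t_g190 = true := by decide +kernel

noncomputable def nt_c9_K : List Net := [t_g187, t_g186, t_g188, t_g189, t_g190]

theorem nt_c9_K_ok : okE 100 nt_c9_K = true := (okE_cons.2 ⟨t_g187_ok, (okE_cons.2 ⟨t_g186_ok, (okE_cons.2 ⟨t_g188_ok, (okE_cons.2 ⟨t_g189_ok, (okE_cons.2 ⟨t_g190_ok, (okE_nil 100)⟩)⟩)⟩)⟩)⟩)

noncomputable def t_g192 : Net := (Net.cons (nat_lit 1) (nat_lit 0x405505504154151155455010) (Net.cons (nat_lit 2) (nat_lit 0x3012303201013130002020220) (Net.cons (nat_lit 4) (nat_lit 0xd0a0d01000603060e070802) (Net.cons (nat_lit 8) (nat_lit 0xa60022007500b500080007) (Net.cons (nat_lit 16) (nat_lit 0x808000003d1500000002) (Net.cons (nat_lit 32) (nat_lit 0x300000000ec4852c0) (Net.cons (nat_lit 64) (nat_lit 0x4ff487ae3) (Net.cons (nat_lit 32) (nat_lit 0x80000000053eccaf5) (Net.cons (nat_lit 16) (nat_lit 0xa759000094690000403c) (Net.cons (nat_lit 8) (nat_lit 0xa20003005000f1003900e3) (Net.cons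 (nat_lit 4) (nat_lit 0xd080f0d02010f0a0b010c0e) (Net.cons (nat_lit 2) (nat_lit 0x2010313330230201100301032) (Net.cons (nat_lit 1) (nat_lit 0x4405140545041111001444514) Net.nil)))))))))))))

theorem t_g192_ok : Net.ok 100 t_g192 = true := by decide +kernel

noncomputable def t_g193 : Net := (Net.cons (nat_lit 1) (nat_lit 0x51444445410540501104500) (Net.cons (nat_lit 2) (nat_lit 0x1123221332303331320020110) (Net.cons (nat_lit 4) (nat_lit 0x80f020c050b0d0c08020801) (Net.cons (nat_lit 8) (nat_lit 0x59006d001000a000e10005) (Net.cons (nat_lit 16) (nat_lit 0xd07c0000484b00000001) (Net.cons (nat_lit 32) (nat_lit 0xd000000008cb84070) (Net.cons (nat_lit 64) (nat_lit 0xb9cbeec74) (Net.cons (nat_lit 32) (nat_lit 0x2000000005688d439) (Net.cons (nat_lit 16) (nat_lit 0x5f1a0000a82300000f4d) (Net.cons (nat_lit 8) (nat_lit 0x970075008300ba00db0048) (Net.cons (nat_lit 4) (nat_lit 0xc050a0c0f0c090c01060401) (Net.cons (nat_lit 2) (nat_lit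 0x1003011021012121310300012) (Net.cons (nat_lit 1) (nat_lit 0x5010411545001444015411104) Net.nil)))))))))))))

theorem t_g193_ok : Net.ok 100 t_g193 = true := by decide +kernel

noncomputable def t_g194 : Net := (Net.cons (nat_lit 1) (nat_lit 0x414500140405445000400) (Net.cons (nat_lit 2) (nat_lit 0x1210320310230210330100000) (Net.cons (nat_lit 4) (nat_lit 0x4020c0f0a09010d04050400) (Net.cons (nat_lit 8) (nat_lit 0x5c00440000004500110004) (Net.cons (nat_lit 16) (nat_lit 0x348e0000608900000007) (Net.cons (nat_lit 32) (nat_lit 0x492880) (Net.cons (nat_lit 64) (nat_lit 0xd0c4f3a85) (Net.cons (nat_lit 32) (nat_lit 0x600000000e0e9ac84) (Net.cons (nat_lit 16) (nat_lit 0x748e0000618900000117) (Net.cons (nat_lit 8) (nat_lit 0x5c004c0002005d0011004c) (Net.cons (nat_lit 4) (nat_lit 0x5020c0f0a09010d04050400) (Net.cons (nat_lit 2) (nat_lit 0x1210321310230210330100000) (Net.cons (nat_lit 1) (nat_lit 0x414500140405445000400) Net.nil)))))))))))))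

theorem t_g194_ok : Net.ok 100 t_g194 = true := by decide +kernel

noncomputable def t_V195 : List Net := [t_g192, t_g193, t_g194]

theorem t_V195_ok : okE 100 t_V195 = true := (okE_cons.2 ⟨t_g192_ok, (okE_cons.2 ⟨t_g193_ok, (okE_cons.2 ⟨t_g194_ok, (okE_nil 100)⟩)⟩)⟩)

noncomputable def t_V197 : List Net := [t_g193, t_g194]

theorem t_V197_ok : okE 100 t_V197 = true := (okE_cons.2 ⟨t_g193_ok, (okE_cons.2 ⟨t_g194_ok, (okE_nil 100)⟩)⟩)

noncomputable def t_V198 : List Net := [t_g194]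

theorem t_V198_ok : okE 100 t_V198 = true := (okE_cons.2 ⟨t_g194_ok, (okE_nil 100)⟩)

noncomputable def t_V199 : List Net := []

theorem t_V199_ok : okE 100 t_V199 = true := (okE_nil 100)

noncomputable def nt_c9_cnt_EG : List Net := [MpHS.a, HSM.g1, HSM.g2, t_g1, t_g2, t_g5, t_g6, t_g9, t_g10, t_g13, t_g14, t_g15, t_g18, t_g19, t_g20, t_g23, t_g24, t_g25, t_g28, t_g29, t_g30, t_g31, t_g34, t_g86, t_g87, t_g88, t_g89, t_g90, t_g91, t_g92, t_g93, t_g134, t_g135, t_g136, t_g137, t_g133, t_g194, t_g193, t_g192]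

theorem nt_c9_cnt_EG_ok : okE 100 nt_c9_cnt_EG = true := (okE_cons.2 ⟨MpHS.a_ok, (okE_cons.2 ⟨HSM.g1_ok, (okE_cons.2 ⟨HSM.g2_ok, (okE_cons.2 ⟨t_g1_ok, (okE_cons.2 ⟨t_g2_ok, (okE_cons.2 ⟨t_g5_ok, (okE_cons.2 ⟨t_g6_ok, (okE_cons.2 ⟨t_g9_ok, (okE_cons.2 ⟨t_g10_ok, (okE_cons.2 ⟨t_g13_ok, (okE_cons.2 ⟨t_g14_ok, (okE_cons.2 ⟨t_g15_ok, (okE_cons.2 ⟨t_g18_ok, (okE_cons.2 ⟨t_g19_ok, (okE_cons.2 ⟨t_g20_ok, (okE_cons.2 ⟨t_g23_ok, (okE_cons.2 ⟨t_g24_ok, (okE_cons.2 ⟨t_g25_ok, (okE_cons.2 ⟨t_g28_ok, (okE_cons.2 ⟨t_g29_ok, (okE_cons.2 ⟨t_g30_ok, (okE_cons.2 ⟨t_g31_ok, (okE_cons.2 ⟨t_g34_ok, (okE_cons.2 ⟨t_g86_ok, (okE_cons.2 ⟨t_g87_ok, (okE_cons.2 ⟨t_g88_ok, (okE_cons.2 ⟨t_g89_ok, (okE_cons.2 ⟨t_g90_ok, (okE_cons.2 ⟨t_g91_ok, (okE_cons.2 ⟨t_g92_ok, (okE_cons.2 ⟨t_g93_ok, (okE_cons.2 ⟨t_g134_ok, (okE_cons.2 ⟨t_g135_ok, (okE_cons.2 ⟨t_g136_ok, (okE_cons.2 ⟨t_g137_ok, (okE_cons.2 ⟨t_g133_ok, (okE_cons.2 ⟨t_g194_ok, (okE_cons.2 ⟨t_g193_ok,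 (okE_cons.2 ⟨t_g192_ok, (okE_nil 100)⟩)⟩)⟩)⟩)⟩)⟩)⟩)⟩)⟩)⟩)⟩)⟩)⟩)⟩)⟩)⟩)⟩)⟩)⟩)⟩)⟩)⟩)⟩)⟩)⟩)⟩)⟩)⟩)⟩)⟩)⟩)⟩)⟩)⟩)⟩)⟩)⟩)⟩)⟩)

noncomputable def t_g200 : Net := (Net.cons (nat_lit 1) (nat_lit 0x4050140445100405155404010) (Net.cons (nat_lit 2) (nat_lit 0x1122031320002122100122010) (Net.cons (nat_lit 4) (nat_lit 0x2070604050a0d0d010e0b08) (Net.cons (nat_lit 8) (nat_lit 0x62009e00c40018009d000c) (Net.cons (nat_lit 16) (nat_lit 0x80a0000417000000009) (Net.cons (nat_lit 32) (nat_lit 0xd00000000016a6000) (Net.cons (nat_lit 64) (nat_lit 0x5e3fbfc68) (Net.cons (nat_lit 32) (nat_lit 0xa000000006815aee1) (Net.cons (nat_lit 16) (nat_lit 0xeb02000023d700008cbb) (Net.cons (nat_lit 8) (nat_lit 0xce00ad00a1009000ac00dd) (Net.cons (nat_lit 4) (nat_lit 0xa060908050a0e030403020e) (Net.cons (nat_lit 2) (nat_lit 0x3100132001301222131320001) (Net.cons (nat_lit 1) (nat_lit 0x5151441545541010111100114) Net.nil)))))))))))))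

theorem t_g200_ok : Net.ok 100 t_g200 = true := by decide +kernel

noncomputable def t_g201 : Net := (Net.cons (nat_lit 1) (nat_lit 0x4401455454411401150040400) (Net.cons (nat_lit 2) (nat_lit 0x2203130313230131103020310) (Net.cons (nat_lit 4) (nat_lit 0x10604020a06010706010808) (Net.cons (nat_lit 8) (nat_lit 0x6a007c003a00150002000c) (Net.cons (nat_lit 16) (nat_lit 0x65ab000005400000000c) (Net.cons (nat_lit 32) (nat_lit 0x20000000060429620) (Net.cons (nat_lit 64) (nat_lit 0x5f5d6f66a) (Net.cons (nat_lit 32) (nat_lit 0xb00000000a2b9ddbf) (Net.cons (nat_lit 16) (nat_lit 0x91d40000796a00009fb2) (Net.cons (nat_lit 8) (nat_lit 0xa700e600c9001e000a00ca) (Net.cons (nat_lit 4) (nat_lit 0xe0102010a09040d0d0a080c) (Net.cons (nat_lit 2) (nat_lit 0x2132110202213321223031100) (Net.cons (nat_lit 1) (nat_lit 0x1000104444410545405401544) Net.nil)))))))))))))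

theorem t_g201_ok : Net.ok 100 t_g201 = true := by decide +kernel

noncomputable def t_g202 : Net := (Net.cons (nat_lit 1) (nat_lit 0x5515445545511515500114010) (Net.cons (nat_lit 2) (nat_lit 0x1103131132331202101103020) (Net.cons (nat_lit 4) (nat_lit 0xa0c090a01060300070a0a00) (Net.cons (nat_lit 8) (nat_lit 0x5c00800089001500810005) (Net.cons (nat_lit 16) (nat_lit 0x2d7000001e0600000004) (Net.cons (nat_lit 32) (nat_lit 0x65101a60) (Net.cons (nat_lit 64) (nat_lit 0x2ff93bb6c) (Net.cons (nat_lit 32) (nat_lit 0x70000000037590ea6) (Net.cons (nat_lit 16) (nat_lit 0x19a000005aa300005d5d) (Net.cons (nat_lit 8) (nat_lit 0x6900a200bb00e700400096) (Net.cons (nat_lit 4) (nat_lit 0x90007060003000404070807) (Net.cons (nat_lit 2) (nat_lit 0x3030031212132311022132201) (Net.cons (nat_lit 1) (nat_lit 0x5511004150055041500054040) Net.nil)))))))))))))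

theorem t_g202_ok : Net.ok 100 t_g202 = true := by decide +kernel

noncomputable def t_g203 : Net := (Net.cons (nat_lit 1) (nat_lit 0x1400150500005441501545000) (Net.cons (nat_lit 2) (nat_lit 0x2220303323120200120300130) (Net.cons (nat_lit 4) (nat_lit 0x40006090606090e00030a05) (Net.cons (nat_lit 8) (nat_lit 0x6b00070015005b00df0001) (Net.cons (nat_lit 16) (nat_lit 0x9e80000a8020000000f) (Net.cons (nat_lit 32) (nat_lit 0x1000000004a127110) (Net.cons (nat_lit 64) (nat_lit 0x67af27759) (Net.cons (nat_lit 32) (nat_lit 0x800000000a0526627) (Net.cons (nat_lit 16) (nat_lit 0x352a0000dda00000ae2d) (Net.cons (nat_lit 8) (nat_lit 0x6d0039002700fb001c0011) (Net.cons (nat_lit 4) (nat_lit 0xc07040303030f0b03070e05) (Net.cons (nat_lit 2) (nat_lit 0x3321300322221220330210333) (Net.cons (nat_lit 1) (nat_lit 0x1405451550055440110111145) Net.nil)))))))))))))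

theorem t_g203_ok : Net.ok 100 t_g203 = true := by decide +kernel

noncomputable def t_g204 : Net := (Net.cons (nat_lit 1) (nat_lit 0x4400101150040040401140010) (Net.cons (nat_lit 2) (nat_lit 0x3321321211000030000220200) (Net.cons (nat_lit 4) (nat_lit 0x80804050107050801080401) (Net.cons (nat_lit 8) (nat_lit 0xd100020036008200520004) (Net.cons (nat_lit 16) (nat_lit 0x3940000031c00000000b) (Net.cons (nat_lit 32) (nat_lit 0x80000000030404020) (Net.cons (nat_lit 64) (nat_lit 0x6f941c06a) (Net.cons (nat_lit 32) (nat_lit 0xb0000000036c07722) (Net.cons (nat_lit 16) (nat_lit 0x39d4000035d00000041f) (Net.cons (nat_lit 8) (nat_lit 0xd90022003600ab0052000c) (Net.cons (nat_lit 4) (nat_lit 0x80a0405050f050801090401) (Net.cons (nat_lit 2) (nat_lit 0x3321321231000030000220200) (Net.cons (nat_lit 1) (nat_lit 0x4400101150040040401140010) Net.nil)))))))))))))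

theorem t_g204_ok : Net.ok 100 t_g204 = true := by decide +kernel

noncomputable def nt_c10_K : List Net := [t_g201, t_g200, t_g202, t_g203, t_g204]

theorem nt_c10_K_ok : okE 100 nt_c10_K = true := (okE_cons.2 ⟨t_g201_ok, (okE_cons.2 ⟨t_g200_ok, (okE_cons.2 ⟨t_g202_ok, (okE_cons.2 ⟨t_g203_ok, (okE_cons.2 ⟨t_g204_ok, (okE_nil 100)⟩)⟩)⟩)⟩)⟩)

noncomputable def t_g206 : Net := (Net.cons (nat_lit 1) (nat_lit 0x10015501444410141410000) (Net.cons (nat_lit 2) (nat_lit 0x3202130201300013330110200) (Net.cons (nat_lit 4) (nat_lit 0xe0c06040e0e0a0b01060800) (Net.cons (nat_lit 8) (nat_lit 0xf0021005500fe0038000a) (Net.cons (nat_lit 16) (nat_lit 0x565c00009a2900000004) (Net.cons (nat_lit 32) (nat_lit 0x10000000000024a90) (Net.cons (nat_lit 64) (nat_lit 0xf0f42dab6) (Net.cons (nat_lit 32) (nat_lit 0x80000000075b0eb0e) (Net.cons (nat_lit 16) (nat_lit 0x11700000fe860000e82e) (Net.cons (nat_lit 8) (nat_lit 0xd500e3005400b20032009a)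 (Net.cons (nat_lit 4) (nat_lit 0xc0c010f03080e0f010808) (Net.cons (nat_lit 2) (nat_lit 0x3022012311301012320200210) (Net.cons (nat_lit 1) (nat_lit 0x1014410510450400544544100) Net.nil)))))))))))))

theorem t_g206_ok : Net.ok 100 t_g206 = true := by decide +kernel

noncomputable def t_g207 : Net := (Net.cons (nat_lit 1) (nat_lit 0x1454114010554145114440400) (Net.cons (nat_lit 2) (nat_lit 0x2030302101310021020010100) (Net.cons (nat_lit 4) (nat_lit 0xc06030407080c020e020006) (Net.cons (nat_lit 8) (nat_lit 0xe400260018004800080008) (Net.cons (nat_lit 16) (nat_lit 0x80a0000000f600000002) (Net.cons (nat_lit 32) (nat_lit 0x400000000c4008da0) (Net.cons (nat_lit 64) (nat_lit 0x2c6228fa4) (Net.cons (nat_lit 32) (nat_lit 0xd00000000edce2bb8) (Net.cons (nat_lit 16) (nat_lit 0x94a4000062ff00006088) (Net.cons (nat_lit 8) (nat_lit 0xed00260018008a00080088) (Net.cons (nat_lit 4) (nat_lit 0xc020302030c08020e030006) (Net.cons (nat_lit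 2) (nat_lit 0x2032302131310001020210120) (Net.cons (nat_lit 1) (nat_lit 0x454114141554104114040500) Net.nil)))))))))))))

theorem t_g207_ok : Net.ok 100 t_g207 = true := by decide +kernel

noncomputable def t_V208 : List Net := [t_g206, t_g207, t_g54]

theorem t_V208_ok : okE 100 t_V208 = true := (okE_cons.2 ⟨t_g206_ok, (okE_cons.2 ⟨t_g207_ok, (okE_cons.2 ⟨t_g54_ok, (okE_nil 100)⟩)⟩)⟩)

noncomputable def t_V210 : List Net := [t_g207, t_g54]

theorem t_V210_ok : okE 100 t_V210 = true := (okE_cons.2 ⟨t_g207_ok, (okE_cons.2 ⟨t_g54_ok, (okE_nil 100)⟩)⟩)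

noncomputable def t_V211 : List Net := [t_g54]

theorem t_V211_ok : okE 100 t_V211 = true := (okE_cons.2 ⟨t_g54_ok, (okE_nil 100)⟩)

noncomputable def t_V212 : List Net := []

theorem t_V212_ok : okE 100 t_V212 = true := (okE_nil 100)

noncomputable def nt_c10_cnt_EG : List Net := [MpHS.a, HSM.g1, HSM.g2, t_g1, t_g2, t_g5, t_g6, t_g9, t_g10, t_g13, t_g14, t_g15, t_g18, t_g19, t_g20, t_g23, t_g24, t_g25, t_g28, t_g29, t_g30, t_g31, t_g34, t_g87, t_g88, t_g89, t_g90, t_g91, t_g92, t_g93, t_g86, t_g206, t_g207, t_g54]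

theorem nt_c10_cnt_EG_ok : okE 100 nt_c10_cnt_EG = true := (okE_cons.2 ⟨MpHS.a_ok, (okE_cons.2 ⟨HSM.g1_ok, (okE_cons.2 ⟨HSM.g2_ok, (okE_cons.2 ⟨t_g1_ok, (okE_cons.2 ⟨t_g2_ok, (okE_cons.2 ⟨t_g5_ok, (okE_cons.2 ⟨t_g6_ok, (okE_cons.2 ⟨t_g9_ok, (okE_cons.2 ⟨t_g10_ok, (okE_cons.2 ⟨t_g13_ok, (okE_cons.2 ⟨t_g14_ok, (okE_cons.2 ⟨t_g15_ok, (okE_cons.2 ⟨t_g18_ok, (okE_cons.2 ⟨t_g19_ok, (okE_cons.2 ⟨t_g20_ok, (okE_cons.2 ⟨t_g23_ok, (okE_cons.2 ⟨t_g24_ok, (okE_cons.2 ⟨t_g25_ok, (okE_cons.2 ⟨t_g28_ok, (okE_cons.2 ⟨t_g29_ok, (okE_cons.2 ⟨t_g30_ok, (okE_cons.2 ⟨t_g31_ok, (okE_cons.2 ⟨t_g34_ok, (okE_cons.2 ⟨t_g87_ok, (okE_cons.2 ⟨t_g88_ok, (okE_cons.2 ⟨t_g89_ok, (okE_cons.2 ⟨t_g90_ok, (okE_cons.2 ⟨t_g91_ok, (okE_cons.2 ⟨t_g92_ok, (okE_cons.2 ⟨t_g93_ok, (okE_cons.2 ⟨t_g86_ok, (okE_cons.2 ⟨t_g206_ok, (okE_cons.2 ⟨t_g207_ok, (okE_cons.2 ⟨t_g54_ok, (okE_nil 100)⟩)⟩)⟩)⟩)⟩)⟩)⟩)⟩)⟩)⟩)⟩)⟩)⟩)⟩)⟩)⟩)⟩)⟩)⟩)⟩)⟩)⟩)⟩)⟩)⟩)⟩)⟩)⟩)⟩)⟩)⟩)⟩)⟩)⟩)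

noncomputable def t_g213 : Net := (Net.cons (nat_lit 1) (nat_lit 0x4454451104000111011450004) (Net.cons (nat_lit 2) (nat_lit 0x332233021102023320230020) (Net.cons (nat_lit 4) (nat_lit 0x60704040d0108070f010108) (Net.cons (nat_lit 8) (nat_lit 0x950051009c00e300500000) (Net.cons (nat_lit 16) (nat_lit 0x10000252c00000003) (Net.cons (nat_lit 32) (nat_lit 0x30000000000314100) (Net.cons (nat_lit 64) (nat_lit 0xe53fb5f7d) (Net.cons (nat_lit 32) (nat_lit 0x500000000c1017448) (Net.cons (nat_lit 16) (nat_lit 0xbaed00007590000005d9) (Net.cons (nat_lit 8) (nat_lit 0x3c00df00170017004e003b) (Net.cons (nat_lit 4) (nat_lit 0x40d02030c040c06030207) (Net.cons (nat_lit 2) (nat_lit 0x2130031321221231232223121) (Net.cons (nat_lit 1) (nat_lit 0x1410005001541544410114115) Net.nil)))))))))))))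

theorem t_g213_ok : Net.ok 100 t_g213 = true := by decide +kernel

noncomputable def t_g214 : Net := (Net.cons (nat_lit 1) (nat_lit 0x5505504554410040050044050) (Net.cons (nat_lit 2) (nat_lit 0x3302232132321302110233200) (Net.cons (nat_lit 4) (nat_lit 0x4070b0c0509070a0304090a) (Net.cons (nat_lit 8) (nat_lit 0x44001400a100c600cd0009) (Net.cons (nat_lit 16) (nat_lit 0x22300000827000000004) (Net.cons (nat_lit 32) (nat_lit 0x200000000b93106c0) (Net.cons (nat_lit 64) (nat_lit 0x3bdf5eee8) (Net.cons (nat_lit 32) (nat_lit 0xd000000006b3ddbd8) (Net.cons (nat_lit 16) (nat_lit 0x301f0000c27e0000fa79) (Net.cons (nat_lit 8) (nat_lit 0x1b00b9006f004500ee007c) (Net.cons (nat_lit 4) (nat_lit 0x20509060d0e0c030e0b0501) (Net.cons (nat_lit 2) (nat_lit 0x2133301330132333201223013) (Net.cons (nat_lit 1) (nat_lit 0x40151411411154005055410) Net.nil)))))))))))))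

theorem t_g214_ok : Net.ok 100 t_g214 = true := by decide +kernel

noncomputable def t_g215 : Net := (Net.cons (nat_lit 1) (nat_lit 0x4145545110441504404400010) (Net.cons (nat_lit 2) (nat_lit 0x2220200020102100222110100) (Net.cons (nat_lit 4) (nat_lit 0x60a050e0c090e0c0e0e00) (Net.cons (nat_lit 8) (nat_lit 0xa300a8004d00c100720002) (Net.cons (nat_lit 16) (nat_lit 0x636400004a8400000000) (Net.cons (nat_lit 32) (nat_lit 0xa0000000020940940) (Net.cons (nat_lit 64) (nat_lit 0xd3096ebf2) (Net.cons (nat_lit 32) (nat_lit 0xa00000000cb4c29b0) (Net.cons (nat_lit 16) (nat_lit 0x43f500006e1400002090) (Net.cons (nat_lit 8) (nat_lit 0xe700aa004d00a10072004a) (Net.cons (nat_lit 4) (nat_lit 0xe0f050e0c090e0c0e0e00) (Net.cons (nat_lit 2) (nat_lit 0x2020211220102100222110320) (Net.cons (nat_lit 1) (nat_lit 0x4545545110441404044410050) Net.nil)))))))))))))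

theorem t_g215_ok : Net.ok 100 t_g215 = true := by decide +kernel

noncomputable def nt_c11_K : List Net := [t_g213, t_g214, t_g215]

theorem nt_c11_K_ok : okE 100 nt_c11_K = true := (okE_cons.2 ⟨t_g213_ok, (okE_cons.2 ⟨t_g214_ok, (okE_cons.2 ⟨t_g215_ok, (okE_nil 100)⟩)⟩)⟩)

noncomputable def t_g217 : Net := (Net.cons (nat_lit 1) (nat_lit 0x1444540040541144454400450) (Net.cons (nat_lit 2) (nat_lit 0x112121012000103300133000) (Net.cons (nat_lit 4) (nat_lit 0x20a040b050e03020d030400) (Net.cons (nat_lit 8) (nat_lit 0xee0085000000da00010005) (Net.cons (nat_lit 16) (nat_lit 0xc40f0000446200000002) (Net.cons (nat_lit 32) (nat_lit 0x600000000ea3e0500) (Net.cons (nat_lit 64) (nat_lit 0x8faff6d17) (Net.cons (nat_lit 32) (nat_lit 0xf000000009c03f5c2) (Net.cons (nat_lit 16) (nat_lit 0x129c0000ec0800008662) (Net.cons (nat_lit 8) (nat_lit 0x4f0005000c00d800a10049) (Net.cons (nat_lit 4) (nat_lit 0x60a030e0f0009030d010408) (Net.cons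 (nat_lit 2) (nat_lit 0x3131110103213203111212330) (Net.cons (nat_lit 1) (nat_lit 0x544050004115041040440544) Net.nil)))))))))))))

theorem t_g217_ok : Net.ok 100 t_g217 = true := by decide +kernel

noncomputable def t_g218 : Net := (Net.cons (nat_lit 1) (nat_lit 0x5104104514501455440405110) (Net.cons (nat_lit 2) (nat_lit 0x3311121320103332332203320) (Net.cons (nat_lit 4) (nat_lit 0x806000f030c06060e0a0b02) (Net.cons (nat_lit 8) (nat_lit 0x9d00c4008b0081002e000a) (Net.cons (nat_lit 16) (nat_lit 0x96900000b0af00000009) (Net.cons (nat_lit 32) (nat_lit 0x20000000061b20400) (Net.cons (nat_lit 64) (nat_lit 0x3e1ba3e45) (Net.cons (nat_lit 32) (nat_lit 0xc00000000a054311b) (Net.cons (nat_lit 16) (nat_lit 0x18bc000073aa0000bd0f) (Net.cons (nat_lit 8) (nat_lit 0x8000e100a8007100670086) (Net.cons (nat_lit 4) (nat_lit 0xb0f07060a0504080a020c0e) (Net.cons (nat_lit 2) (nat_lit 0x1212123110012123203001220) (Net.cons (nat_lit 1) (nat_lit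 0x4505514155040015450450454) Net.nil)))))))))))))

theorem t_g218_ok : Net.ok 100 t_g218 = true := by decide +kernel

noncomputable def t_g219 : Net := (Net.cons (nat_lit 1) (nat_lit 0x4450111150015145451104500) (Net.cons (nat_lit 2) (nat_lit 0x2102220322002131233001100) (Net.cons (nat_lit 4) (nat_lit 0x8020c070106010d0b060002) (Net.cons (nat_lit 8) (nat_lit 0xb3008300c5004900460007) (Net.cons (nat_lit 16) (nat_lit 0x6e390000421c0000000d) (Net.cons (nat_lit 32) (nat_lit 0x5438a340) (Net.cons (nat_lit 64) (nat_lit 0x5567bff4e) (Net.cons (nat_lit 32) (nat_lit 0xa00000000d75829d7) (Net.cons (nat_lit 16) (nat_lit 0xc820000b91400003c0d) (Net.cons (nat_lit 8) (nat_lit 0x7d00db00f1005000780013) (Net.cons (nat_lit 4) (nat_lit 0xb0404040a09080d01060f0a) (Net.cons (nat_lit 2) (nat_lit 0x3103222103220310011232320) (Net.cons (nat_lit 1) (nat_lit 0x5050554410441541111155514) Net.nil)))))))))))))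

theorem t_g219_ok : Net.ok 100 t_g219 = true := by decide +kernel

noncomputable def t_g220 : Net := (Net.cons (nat_lit 1) (nat_lit 0x450410004404404504040000) (Net.cons (nat_lit 2) (nat_lit 0x1003112020013031122221200) (Net.cons (nat_lit 4) (nat_lit 0xc0104070207080802010000) (Net.cons (nat_lit 8) (nat_lit 0x16006c001700cb00630000) (Net.cons (nat_lit 16) (nat_lit 0x184000001c9600000005) (Net.cons (nat_lit 32) (nat_lit 0x40000000010112400) (Net.cons (nat_lit 64) (nat_lit 0xa3c59e494) (Net.cons (nat_lit 32) (nat_lit 0x500000000da873401) (Net.cons (nat_lit 16) (nat_lit 0x115e00001dd600000035) (Net.cons (nat_lit 8) (nat_lit 0x9e00e4001700cb006b0088) (Net.cons (nat_lit 4) (nat_lit 0xc010607020f080802010200) (Net.cons (nat_lit 2) (nat_lit 0x1003112020213031122221200) (Net.cons (nat_lit 1) (nat_lit 0x450410014404400504050000) Net.nil)))))))))))))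

theorem t_g220_ok : Net.ok 100 t_g220 = true := by decide +kernel

noncomputable def t_V221 : List Net := [t_g217, t_g218, t_g219, t_g220]

theorem t_V221_ok : okE 100 t_V221 = true := (okE_cons.2 ⟨t_g217_ok, (okE_cons.2 ⟨t_g218_ok, (okE_cons.2 ⟨t_g219_ok, (okE_cons.2 ⟨t_g220_ok, (okE_nil 100)⟩)⟩)⟩)⟩)

noncomputable def t_V223 : List Net := [t_g218, t_g219, t_g220]

theorem t_V223_ok : okE 100 t_V223 = true := (okE_cons.2 ⟨t_g218_ok, (okE_cons.2 ⟨t_g219_ok, (okE_cons.2 ⟨t_g220_ok, (okE_nil 100)⟩)⟩)⟩)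

noncomputable def t_V224 : List Net := [t_g219, t_g220]

theorem t_V224_ok : okE 100 t_V224 = true := (okE_cons.2 ⟨t_g219_ok, (okE_cons.2 ⟨t_g220_ok, (okE_nil 100)⟩)⟩)

noncomputable def t_V225 : List Net := [t_g220]

theorem t_V225_ok : okE 100 t_V225 = true := (okE_cons.2 ⟨t_g220_ok, (okE_nil 100)⟩)

noncomputable def t_V226 : List Net := []

theorem t_V226_ok : okE 100 t_V226 = true := (okE_nil 100)

noncomputable def nt_c11_cnt_EG : List Net := [MpHS.a, HSM.g1, HSM.g2, t_g1, t_g2, t_g5, t_g6, t_g9, t_g10, t_g13, t_g14, t_g15, t_g18, t_g19, t_g20, t_g23, t_g24, t_g25, t_g28, t_g29, t_g30, t_g31, t_g34, t_g218, t_g219, t_g220, t_g217]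

theorem nt_c11_cnt_EG_ok : okE 100 nt_c11_cnt_EG = true := (okE_cons.2 ⟨MpHS.a_ok, (okE_cons.2 ⟨HSM.g1_ok, (okE_cons.2 ⟨HSM.g2_ok, (okE_cons.2 ⟨t_g1_ok, (okE_cons.2 ⟨t_g2_ok, (okE_cons.2 ⟨t_g5_ok, (okE_cons.2 ⟨t_g6_ok, (okE_cons.2 ⟨t_g9_ok, (okE_cons.2 ⟨t_g10_ok, (okE_cons.2 ⟨t_g13_ok, (okE_cons.2 ⟨t_g14_ok, (okE_cons.2 ⟨t_g15_ok, (okE_cons.2 ⟨t_g18_ok, (okE_cons.2 ⟨t_g19_ok, (okE_cons.2 ⟨t_g20_ok, (okE_cons.2 ⟨t_g23_ok, (okE_cons.2 ⟨t_g24_ok, (okE_cons.2 ⟨t_g25_ok, (okE_cons.2 ⟨t_g28_ok, (okE_cons.2 ⟨t_g29_ok, (okE_cons.2 ⟨t_g30_ok, (okE_cons.2 ⟨t_g31_ok, (okE_cons.2 ⟨t_g34_ok, (okE_cons.2 ⟨t_g218_ok, (okE_cons.2 ⟨t_g219_ok, (okE_cons.2 ⟨t_g220_ok, (okE_cons.2 ⟨t_g217_ok, (okE_nil 100)⟩)⟩)⟩)⟩)⟩)⟩)⟩)⟩)⟩)⟩)⟩)⟩)⟩)⟩)⟩)⟩)⟩)⟩)⟩)⟩)⟩)⟩)⟩)⟩)⟩)⟩)⟩)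

noncomputable def t_g227 : Net := (Net.cons (nat_lit 1) (nat_lit 0x5510511441411150400155110) (Net.cons (nat_lit 2) (nat_lit 0x1203101002110321210210100) (Net.cons (nat_lit 4) (nat_lit 0x9020a0700060404000a0804) (Net.cons (nat_lit 8) (nat_lit 0xe8009200a600a20033000e) (Net.cons (nat_lit 16) (nat_lit 0x3c9f0000861f00000005) (Net.cons (nat_lit 32) (nat_lit 0xe000000004a994060) (Net.cons (nat_lit 64) (nat_lit 0x67bbf4fe9) (Net.cons (nat_lit 32) (nat_lit 0x90000000013819c00) (Net.cons (nat_lit 16) (nat_lit 0x274e0000a99b0000fd39) (Net.cons (nat_lit 8) (nat_lit 0xd5003a00b8001300f30074) (Net.cons (nat_lit 4) (nat_lit 0x90d0b00030a080d010c0306) (Net.cons (nat_lit 2) (nat_lit 0x303113113210203003202331) (Net.cons (nat_lit 1) (nat_lit 0x1005044001454510505400400) Net.nil)))))))))))))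

theorem t_g227_ok : Net.ok 100 t_g227 = true := by decide +kernel

noncomputable def t_g228 : Net := (Net.cons (nat_lit 1) (nat_lit 0x5111100555150011404154514) (Net.cons (nat_lit 2) (nat_lit 0x23130221001112002030200) (Net.cons (nat_lit 4) (nat_lit 0x806000c0b020e0e09000808) (Net.cons (nat_lit 8) (nat_lit 0x6900b100ae002100190002) (Net.cons (nat_lit 16) (nat_lit 0xbb4f0000c38a00000004) (Net.cons (nat_lit 32) (nat_lit 0x1000000008f803870) (Net.cons (nat_lit 64) (nat_lit 0xa8fbbbcf5) (Net.cons (nat_lit 32) (nat_lit 0x40000000032bfdec0) (Net.cons (nat_lit 16) (nat_lit 0x4bad00008664000075d2) (Net.cons (nat_lit 8) (nat_lit 0xe000bb00a000fa007100e4) (Net.cons (nat_lit 4) (nat_lit 0x6070a040a0b0202050402) (Net.cons (nat_lit 2) (nat_lit 0x32030300103310303121120) (Net.cons (nat_lit 1) (nat_lit 0x4154400044455101450015440) Net.nil)))))))))))))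

theorem t_g228_ok : Net.ok 100 t_g228 = true := by decide +kernel

noncomputable def t_g229 : Net := (Net.cons (nat_lit 1) (nat_lit 0x5451105405044500045104144) (Net.cons (nat_lit 2) (nat_lit 0x2020030012120101203121120) (Net.cons (nat_lit 4) (nat_lit 0x30e08020f04070105000300) (Net.cons (nat_lit 8) (nat_lit 0x4c000300580000007b0000) (Net.cons (nat_lit 16) (nat_lit 0xb50c0000511a0000000e) (Net.cons (nat_lit 32) (nat_lit 0xf0000000083e8c480) (Net.cons (nat_lit 64) (nat_lit 0x3d7ffe5ec) (Net.cons (nat_lit 32) (nat_lit 0xc00000000a0533d05) (Net.cons (nat_lit 16) (nat_lit 0xff4d00008e6d00007c6c) (Net.cons (nat_lit 8) (nat_lit 0xbe001700e800790078006a) (Net.cons (nat_lit 4) (nat_lit 0x70c0d03030c0905000f040c) (Net.cons (nat_lit 2) (nat_lit 0x2100011003030020230013013) (Net.cons (nat_lit 1) (nat_lit 0x5540550010554405141110141) Net.nil)))))))))))))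

theorem t_g229_ok : Net.ok 100 t_g229 = true := by decide +kernel

noncomputable def t_g230 : Net := (Net.cons (nat_lit 1) (nat_lit 0x5450144414550115004451454) (Net.cons (nat_lit 2) (nat_lit 0x201332033013232133000000) (Net.cons (nat_lit 4) (nat_lit 0xc02000106080601020a030a) (Net.cons (nat_lit 8) (nat_lit 0x380020002e000b004a000e) (Net.cons (nat_lit 16) (nat_lit 0x301f0000317200000000) (Net.cons (nat_lit 32) (nat_lit 0xc000000009a378180) (Net.cons (nat_lit 64) (nat_lit 0x3db3fb7ec) (Net.cons (nat_lit 32) (nat_lit 0x500000000d21122da) (Net.cons (nat_lit 16) (nat_lit 0xd21d0000731600006120) (Net.cons (nat_lit 8) (nat_lit 0x170040003c00ab00890004) (Net.cons (nat_lit 4) (nat_lit 0xa040406090707010c070c) (Net.cons (nat_lit 2) (nat_lit 0x2013000113333030000221220) (Net.cons (nat_lit 1) (nat_lit 0x5050014411404055155445444) Net.nil)))))))))))))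

theorem t_g230_ok : Net.ok 100 t_g230 = true := by decide +kernel

noncomputable def t_g231 : Net := (Net.cons (nat_lit 1) (nat_lit 0x1045040110141505144044140) (Net.cons (nat_lit 2) (nat_lit 0x2202021101232022311323200) (Net.cons (nat_lit 4) (nat_lit 0x202060b0c0a0008040a0108) (Net.cons (nat_lit 8) (nat_lit 0xde003b0028005a00c30000) (Net.cons (nat_lit 16) (nat_lit 0x50d600005aa400000009) (Net.cons (nat_lit 32) (nat_lit 0x4284180) (Net.cons (nat_lit 64) (nat_lit 0xb4c3ed7ea) (Net.cons (nat_lit 32) (nat_lit 0x200000000cc2c1333) (Net.cons (nat_lit 16) (nat_lit 0x1bdc0000263e00003471) (Net.cons (nat_lit 8) (nat_lit 0xbe009b000100eb00590038) (Net.cons (nat_lit 4) (nat_lit 0x6020601040608050e0c0f0a) (Net.cons (nat_lit 2) (nat_lit 0x1213133133132200313201012) (Net.cons (nat_lit 1) (nat_lit 0x5441010114141514155544550) Net.nil)))))))))))))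

theorem t_g231_ok : Net.ok 100 t_g231 = true := by decide +kernel

noncomputable def t_g232 : Net := (Net.cons (nat_lit 1) (nat_lit 0x4500504001141540010051040) (Net.cons (nat_lit 2) (nat_lit 0x1102311130011300111210000) (Net.cons (nat_lit 4) (nat_lit 0x6050508030d010305000408) (Net.cons (nat_lit 8) (nat_lit 0xcd0088006200d20068000e) (Net.cons (nat_lit 16) (nat_lit 0x3304000006c10000000d) (Net.cons (nat_lit 32) (nat_lit 0x8000000004b0be850) (Net.cons (nat_lit 64) (nat_lit 0x3db5ff8db) (Net.cons (nat_lit 32) (nat_lit 0xc000000004febfa20) (Net.cons (nat_lit 16) (nat_lit 0x7f5400004ea10000297d) (Net.cons (nat_lit 8) (nat_lit 0xdd008800e200c20068001e) (Net.cons (nat_lit 4) (nat_lit 0x6050508030d010305040408) (Net.cons (nat_lit 2) (nat_lit 0x1102311130111300111210000) (Net.cons (nat_lit 1) (nat_lit 0x4500504001141540010051040) Net.nil)))))))))))))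

theorem t_g232_ok : Net.ok 100 t_g232 = true := by decide +kernel

noncomputable def nt_c12_K : List Net := [t_g228, t_g229, t_g230, t_g231, t_g232]

theorem nt_c12_K_ok : okE 100 nt_c12_K = true := (okE_cons.2 ⟨t_g228_ok, (okE_cons.2 ⟨t_g229_ok, (okE_cons.2 ⟨t_g230_ok, (okE_cons.2 ⟨t_g231_ok, (okE_cons.2 ⟨t_g232_ok, (okE_nil 100)⟩)⟩)⟩)⟩)⟩)

noncomputable def t_g234 : Net := (Net.cons (nat_lit 1) (nat_lit 0x5401551500550544115004000) (Net.cons (nat_lit 2) (nat_lit 0x3100112011113102333131300) (Net.cons (nat_lit 4) (nat_lit 0x9030b040c08080a0a020600) (Net.cons (nat_lit 8) (nat_lit 0x49009200cf001b00840001) (Net.cons (nat_lit 16) (nat_lit 0xe080000326700000006) (Net.cons (nat_lit 32) (nat_lit 0x100000000027b8190) (Net.cons (nat_lit 64) (nat_lit 0x4bf7bcdf5) (Net.cons (nat_lit 32) (nat_lit 0xe0000000067435bd2) (Net.cons (nat_lit 16) (nat_lit 0xb1ef0000ec4f0000ac1e) (Net.cons (nat_lit 8) (nat_lit 0xee00ac001700f100fd0089)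 (Net.cons (nat_lit 4) (nat_lit 0x90d060e0807080f09010f00) (Net.cons (nat_lit 2) (nat_lit 0x322121321311300132033030) (Net.cons (nat_lit 1) (nat_lit 0x405444104451045400040450) Net.nil)))))))))))))

theorem t_g234_ok : Net.ok 100 t_g234 = true := by decide +kernel

noncomputable def t_g235 : Net := (Net.cons (nat_lit 1) (nat_lit 0x540044004400014044400000) (Net.cons (nat_lit 2) (nat_lit 0x1020113122321030023001220) (Net.cons (nat_lit 4) (nat_lit 0x10607000804030804030202) (Net.cons (nat_lit 8) (nat_lit 0x9a0085008600f100b40000) (Net.cons (nat_lit 16) (nat_lit 0xba41000006c10000000d) (Net.cons (nat_lit 32) (nat_lit 0xe0000000082551400) (Net.cons (nat_lit 64) (nat_lit 0xea55760e) (Net.cons (nat_lit 32) (nat_lit 0xf00000000a017da91) (Net.cons (nat_lit 16) (nat_lit 0xb9cb000008e900007287) (Net.cons (nat_lit 8) (nat_lit 0x9a004d00a400b100da0000) (Net.cons (nat_lit 4) (nat_lit 0x90e0a0c080403080e03060a) (Net.cons (nat_lit 2)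 (nat_lit 0x3320100220101110021021000) (Net.cons (nat_lit 1) (nat_lit 0x1040044514440004005440400) Net.nil)))))))))))))

theorem t_g235_ok : Net.ok 100 t_g235 = true := by decide +kernel

noncomputable def t_g236 : Net := (Net.cons (nat_lit 1) (nat_lit 0x5040415500144451001014000) (Net.cons (nat_lit 2) (nat_lit 0x2033320302332203121020100) (Net.cons (nat_lit 4) (nat_lit 0x50c0f01040a030a00020503) (Net.cons (nat_lit 8) (nat_lit 0xbd00080013007700cd0001) (Net.cons (nat_lit 16) (nat_lit 0x760000464400000000) (Net.cons (nat_lit 32) (nat_lit 0xf900120) (Net.cons (nat_lit 64) (nat_lit 0x65f9abb61) (Net.cons (nat_lit 32) (nat_lit 0xf0000000046749722) (Net.cons (nat_lit 16) (nat_lit 0xe1ec00008180000001c8) (Net.cons (nat_lit 8) (nat_lit 0xd8001b0047002700d80041) (Net.cons (nat_lit 4) (nat_lit 0x9000507050b0c0d08050203) (Net.cons (nat_lit 2) (nat_lit 0x2310300102330313320033130) (Net.cons (nat_lit 1) (nat_lit 0x4410100100001101145114040)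 Net.nil)))))))))))))

theorem t_g236_ok : Net.ok 100 t_g236 = true := by decide +kernel

noncomputable def t_g237 : Net := (Net.cons (nat_lit 1) (nat_lit 0x5000114400041104545400000) (Net.cons (nat_lit 2) (nat_lit 0x3030012211101121320220000) (Net.cons (nat_lit 4) (nat_lit 0x10e0502050e080209040f01) (Net.cons (nat_lit 8) (nat_lit 0x870080004000880060000a) (Net.cons (nat_lit 16) (nat_lit 0x21650000002000000000) (Net.cons (nat_lit 32) (nat_lit 0x400000000128842a0) (Net.cons (nat_lit 64) (nat_lit 0xddeba67e2) (Net.cons (nat_lit 32) (nat_lit 0x70000000073e90b81) (Net.cons (nat_lit 16) (nat_lit 0x61c700004091000051aa) (Net.cons (nat_lit 8) (nat_lit 0x860090004500890061000b) (Net.cons (nat_lit 4) (nat_lit 0x30e0506050e080209040d01) (Net.cons (nat_lit 2) (nat_lit 0x3030012211101123320220000) (Net.cons (nat_lit 1) (nat_lit 0x1100114400041104545401000) Net.nil)))))))))))))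

theorem t_g237_ok : Net.ok 100 t_g237 = true := by decide +kernel

noncomputable def t_V238 : List Net := [t_g234, t_g235, t_g236, t_g237]

theorem t_V238_ok : okE 100 t_V238 = true := (okE_cons.2 ⟨t_g234_ok, (okE_cons.2 ⟨t_g235_ok, (okE_cons.2 ⟨t_g236_ok, (okE_cons.2 ⟨t_g237_ok, (okE_nil 100)⟩)⟩)⟩)⟩)

noncomputable def t_V240 : List Net := [t_g235, t_g236, t_g237]

theorem t_V240_ok : okE 100 t_V240 = true := (okE_cons.2 ⟨t_g235_ok, (okE_cons.2 ⟨t_g236_ok, (okE_cons.2 ⟨t_g237_ok, (okE_nil 100)⟩)⟩)⟩)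

noncomputable def t_V241 : List Net := [t_g236, t_g237]

theorem t_V241_ok : okE 100 t_V241 = true := (okE_cons.2 ⟨t_g236_ok, (okE_cons.2 ⟨t_g237_ok, (okE_nil 100)⟩)⟩)

noncomputable def t_V242 : List Net := [t_g237]

theorem t_V242_ok : okE 100 t_V242 = true := (okE_cons.2 ⟨t_g237_ok, (okE_nil 100)⟩)

noncomputable def t_V243 : List Net := []

theorem t_V243_ok : okE 100 t_V243 = true := (okE_nil 100)

noncomputable def nt_c12_cnt_EG : List Net := [MpHS.a, HSM.g1, HSM.g2, t_g1, t_g2, t_g5, t_g6, t_g9, t_g10, t_g13, t_g14, t_g15, t_g18, t_g19, t_g20, t_g23, t_g24, t_g25, t_g28, t_g29, t_g30, t_g31, t_g34, t_g235, t_g236, t_g237, t_g234]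

theorem nt_c12_cnt_EG_ok : okE 100 nt_c12_cnt_EG = true := (okE_cons.2 ⟨MpHS.a_ok, (okE_cons.2 ⟨HSM.g1_ok, (okE_cons.2 ⟨HSM.g2_ok, (okE_cons.2 ⟨t_g1_ok, (okE_cons.2 ⟨t_g2_ok, (okE_cons.2 ⟨t_g5_ok, (okE_cons.2 ⟨t_g6_ok, (okE_cons.2 ⟨t_g9_ok, (okE_cons.2 ⟨t_g10_ok, (okE_cons.2 ⟨t_g13_ok, (okE_cons.2 ⟨t_g14_ok, (okE_cons.2 ⟨t_g15_ok, (okE_cons.2 ⟨t_g18_ok, (okE_cons.2 ⟨t_g19_ok, (okE_cons.2 ⟨t_g20_ok, (okE_cons.2 ⟨t_g23_ok, (okE_cons.2 ⟨t_g24_ok, (okE_cons.2 ⟨t_g25_ok, (okE_cons.2 ⟨t_g28_ok, (okE_cons.2 ⟨t_g29_ok, (okE_cons.2 ⟨t_g30_ok, (okE_cons.2 ⟨t_g31_ok, (okE_cons.2 ⟨t_g34_ok, (okE_cons.2 ⟨t_g235_ok, (okE_cons.2 ⟨t_g236_ok, (okE_cons.2 ⟨t_g237_ok, (okE_cons.2 ⟨t_g234_ok, (okE_nil 100)⟩)⟩)⟩)⟩)⟩)⟩)⟩)⟩)⟩)⟩)⟩)⟩)⟩)⟩)⟩)⟩)⟩)⟩)⟩)⟩)⟩)⟩)⟩)⟩)⟩)⟩)⟩)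

noncomputable def t_g244 : Net := (Net.cons (nat_lit 1) (nat_lit 0x4155540514111445014415000) (Net.cons (nat_lit 2) (nat_lit 0x3100311131003022020100010) (Net.cons (nat_lit 4) (nat_lit 0x70000000300090408060c05) (Net.cons (nat_lit 8) (nat_lit 0x8e004e00e7002800260007) (Net.cons (nat_lit 16) (nat_lit 0x842a000007050000000a) (Net.cons (nat_lit 32) (nat_lit 0x20000000001890a80) (Net.cons (nat_lit 64) (nat_lit 0x5f7ddcaef) (Net.cons (nat_lit 32) (nat_lit 0xc00000000f2ac0ce5) (Net.cons (nat_lit 16) (nat_lit 0xfa6f0000971600007d06) (Net.cons (nat_lit 8) (nat_lit 0xb40074005000d4001500b7) (Net.cons (nat_lit 4) (nat_lit 0x40b09070d070c0b05010e0e) (Net.cons (nat_lit 2) (nat_lit 0x230332000300032013001013) (Net.cons (nat_lit 1) (nat_lit 0x4040050455500154051101540) Net.nil)))))))))))))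

theorem t_g244_ok : Net.ok 100 t_g244 = true := by decide +kernel

noncomputable def t_g245 : Net := (Net.cons (nat_lit 1) (nat_lit 0x455505150054540100045050) (Net.cons (nat_lit 2) (nat_lit 0x1221031112020213120213310) (Net.cons (nat_lit 4) (nat_lit 0xc03080704030a0306000b00) (Net.cons (nat_lit 8) (nat_lit 0xb500ab00aa009700a60004) (Net.cons (nat_lit 16) (nat_lit 0x97c50000002000000005) (Net.cons (nat_lit 32) (nat_lit 0x20000000014b99040) (Net.cons (nat_lit 64) (nat_lit 0x5bfbf9876) (Net.cons (nat_lit 32) (nat_lit 0x4000000001efd852b) (Net.cons (nat_lit 16) (nat_lit 0x307b0000cf7e00009e3a) (Net.cons (nat_lit 8) (nat_lit 0x16006f0020009100260059) (Net.cons (nat_lit 4) (nat_lit 0x302080401090109040f0002) (Net.cons (nat_lit 2) (nat_lit 0x2001211231031201223300020) (Net.cons (nat_lit 1) (nat_lit 0x1015015504445144000151045) Net.nil)))))))))))))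

theorem t_g245_ok : Net.ok 100 t_g245 = true := by decide +kernel

noncomputable def t_g246 : Net := (Net.cons (nat_lit 1) (nat_lit 0x5450050445440540514500100) (Net.cons (nat_lit 2) (nat_lit 0x132232022311003003110130) (Net.cons (nat_lit 4) (nat_lit 0xe060b0a04040d0d03080d08) (Net.cons (nat_lit 8) (nat_lit 0x10001b00c200cf00000000) (Net.cons (nat_lit 16) (nat_lit 0x20910000786e00000002) (Net.cons (nat_lit 32) (nat_lit 0x8000000004c163180) (Net.cons (nat_lit 64) (nat_lit 0x75ddff198) (Net.cons (nat_lit 32) (nat_lit 0x870b00f6) (Net.cons (nat_lit 16) (nat_lit 0x12c1000072e6000030d4) (Net.cons (nat_lit 8) (nat_lit 0x79005a00e200ce00980060) (Net.cons (nat_lit 4) (nat_lit 0x50f0b0e0e05070f02010c08) (Net.cons (nat_lit 2) (nat_lit 0x3203201133211103123232032) (Net.cons (nat_lit 1) (nat_lit 0x4010440441000540440000414) Net.nil)))))))))))))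

theorem t_g246_ok : Net.ok 100 t_g246 = true := by decide +kernel

noncomputable def t_g247 : Net := (Net.cons (nat_lit 1) (nat_lit 0x515410401045140445000040) (Net.cons (nat_lit 2) (nat_lit 0x30100301011221301020000) (Net.cons (nat_lit 4) (nat_lit 0x8000808040d0405040800) (Net.cons (nat_lit 8) (nat_lit 0xb300b30026001d00080004) (Net.cons (nat_lit 16) (nat_lit 0x92000000258700000000) (Net.cons (nat_lit 32) (nat_lit 0x212c12a0) (Net.cons (nat_lit 64) (nat_lit 0x63dfc93e8) (Net.cons (nat_lit 32) (nat_lit 0x612536a8) (Net.cons (nat_lit 16) (nat_lit 0x924a0000a5cf0000004e) (Net.cons (nat_lit 8) (nat_lit 0xb300b30026001d00080004) (Net.cons (nat_lit 4) (nat_lit 0x808000809040d0c050c0800) (Net.cons (nat_lit 2) (nat_lit 0x30111301011221301020000) (Net.cons (nat_lit 1) (nat_lit 0x515410401045140445000040) Net.nil)))))))))))))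

theorem t_g247_ok : Net.ok 100 t_g247 = true := by decide +kernel

noncomputable def nt_c13_K : List Net := [t_g245, t_g246, t_g247]

theorem nt_c13_K_ok : okE 100 nt_c13_K = true := (okE_cons.2 ⟨t_g245_ok, (okE_cons.2 ⟨t_g246_ok, (okE_cons.2 ⟨t_g247_ok, (okE_nil 100)⟩)⟩)⟩)

noncomputable def t_g249 : Net := (Net.cons (nat_lit 1) (nat_lit 0x5010541014140050001400400) (Net.cons (nat_lit 2) (nat_lit 0x121001232121020322021200) (Net.cons (nat_lit 4) (nat_lit 0xd0e00080d0b060d0e050e00) (Net.cons (nat_lit 8) (nat_lit 0x810089000b007200830007) (Net.cons (nat_lit 16) (nat_lit 0x2ba30000388500000007) (Net.cons (nat_lit 32) (nat_lit 0xa92f010) (Net.cons (nat_lit 64) (nat_lit 0x20f9ef031) (Net.cons (nat_lit 32) (nat_lit 0xf00000000fbb1f894) (Net.cons (nat_lit 16) (nat_lit 0xf0be0000f5a30000c080) (Net.cons (nat_lit 8) (nat_lit 0xb8002a007d003700730067) (Net.cons (nat_lit 4) (nat_lit 0xd020a070e040c0a0b0d0c00) (Net.cons (nat_lit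 2) (nat_lit 0x3233212102312013223221300) (Net.cons (nat_lit 1) (nat_lit 0x551501514115415545400140) Net.nil)))))))))))))

theorem t_g249_ok : Net.ok 100 t_g249 = true := by decide +kernel

noncomputable def t_g250 : Net := (Net.cons (nat_lit 1) (nat_lit 0x5115500000010000404440000) (Net.cons (nat_lit 2) (nat_lit 0x2213211301202123101202000) (Net.cons (nat_lit 4) (nat_lit 0xf0109010909090c05010000) (Net.cons (nat_lit 8) (nat_lit 0xda00e80090000b00410000) (Net.cons (nat_lit 16) (nat_lit 0x8c990000158800000000) (Net.cons (nat_lit 32) (nat_lit 0x40000000006586840) (Net.cons (nat_lit 64) (nat_lit 0x407d9ec40) (Net.cons (nat_lit 32) (nat_lit 0xf000000008658f1c0) (Net.cons (nat_lit 16) (nat_lit 0x94d3000015cb00000040) (Net.cons (nat_lit 8) (nat_lit 0xd200e00090000300590000) (Net.cons (nat_lit 4) (nat_lit 0xf0d09010d09010f05030800) (Net.cons (nat_lit 2) (nat_lit 0x13211321202123101202000) (Net.cons (nat_lit 1) (nat_lit 0x5115500000010000404440000)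 Net.nil)))))))))))))

theorem t_g250_ok : Net.ok 100 t_g250 = true := by decide +kernel

noncomputable def t_V251 : List Net := [t_g249, t_g250]

theorem t_V251_ok : okE 100 t_V251 = true := (okE_cons.2 ⟨t_g249_ok, (okE_cons.2 ⟨t_g250_ok, (okE_nil 100)⟩)⟩)

noncomputable def t_V253 : List Net := [t_g250]

theorem t_V253_ok : okE 100 t_V253 = true := (okE_cons.2 ⟨t_g250_ok, (okE_nil 100)⟩)

noncomputable def t_V254 : List Net := []

theorem t_V254_ok : okE 100 t_V254 = true := (okE_nil 100)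

noncomputable def nt_c13_cnt_EG : List Net := [MpHS.a, HSM.g1, HSM.g2, t_g1, t_g2, t_g5, t_g6, t_g9, t_g10, t_g13, t_g14, t_g15, t_g18, t_g19, t_g20, t_g23, t_g24, t_g25, t_g28, t_g29, t_g30, t_g31, t_g34, t_g249, t_g250]

theorem nt_c13_cnt_EG_ok : okE 100 nt_c13_cnt_EG = true := (okE_cons.2 ⟨MpHS.a_ok, (okE_cons.2 ⟨HSM.g1_ok, (okE_cons.2 ⟨HSM.g2_ok, (okE_cons.2 ⟨t_g1_ok, (okE_cons.2 ⟨t_g2_ok, (okE_cons.2 ⟨t_g5_ok, (okE_cons.2 ⟨t_g6_ok, (okE_cons.2 ⟨t_g9_ok, (okE_cons.2 ⟨t_g10_ok, (okE_cons.2 ⟨t_g13_ok, (okE_cons.2 ⟨t_g14_ok, (okE_cons.2 ⟨t_g15_ok, (okE_cons.2 ⟨t_g18_ok, (okE_cons.2 ⟨t_g19_ok, (okE_cons.2 ⟨t_g20_ok, (okE_cons.2 ⟨t_g23_ok, (okE_cons.2 ⟨t_g24_ok, (okE_cons.2 ⟨t_g25_ok, (okE_cons.2 ⟨t_g28_ok, (okE_cons.2 ⟨t_g29_ok, (okE_cons.2 ⟨t_g30_ok, (okE_cons.2 ⟨t_g31_ok, (okE_cons.2 ⟨t_g34_ok, (okE_cons.2 ⟨t_g249_ok, (okE_cons.2 ⟨t_g250_ok, (okE_nil 100)⟩)⟩)⟩)⟩)⟩)⟩)⟩)⟩)⟩)⟩)⟩)⟩)⟩)⟩)⟩)⟩)⟩)⟩)⟩)⟩)⟩)⟩)⟩)⟩)⟩)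

noncomputable def t_g255 : Net := (Net.cons (nat_lit 1) (nat_lit 0x5155450055440411455041400) (Net.cons (nat_lit 2) (nat_lit 0x1011233221233121200200200) (Net.cons (nat_lit 4) (nat_lit 0x70c0a030f03060c00000c03) (Net.cons (nat_lit 8) (nat_lit 0x8700bb0008008d000e0000) (Net.cons (nat_lit 16) (nat_lit 0x6d090000461200000008) (Net.cons (nat_lit 32) (nat_lit 0x20000000088442010) (Net.cons (nat_lit 64) (nat_lit 0x9db4634bb) (Net.cons (nat_lit 32) (nat_lit 0x900000000d072b610) (Net.cons (nat_lit 16) (nat_lit 0x6355000089b0000014d3) (Net.cons (nat_lit 8) (nat_lit 0x8a007100e100b000eb0026) (Net.cons (nat_lit 4) (nat_lit 0x50505040e0b030b0f050e01) (Net.cons (nat_lit 2) (nat_lit 0x3310102133021233100303000) (Net.cons (nat_lit 1) (nat_lit 0x5011000411514001444140404) Net.nil)))))))))))))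

theorem t_g255_ok : Net.ok 100 t_g255 = true := by decide +kernel

noncomputable def t_g256 : Net := (Net.cons (nat_lit 1) (nat_lit 0x5004105101514540145450404) (Net.cons (nat_lit 2) (nat_lit 0x3332121111133301300032000) (Net.cons (nat_lit 4) (nat_lit 0x603010b010a050204030004) (Net.cons (nat_lit 8) (nat_lit 0x1a0040006f003400060000) (Net.cons (nat_lit 16) (nat_lit 0x204d00008a060000000c) (Net.cons (nat_lit 32) (nat_lit 0x400000000208d1800) (Net.cons (nat_lit 64) (nat_lit 0x877bd1d6e) (Net.cons (nat_lit 32) (nat_lit 0xd000000000debafa0) (Net.cons (nat_lit 16) (nat_lit 0xcffd0000cf9300008971) (Net.cons (nat_lit 8) (nat_lit 0xa100410033000600f500ad) (Net.cons (nat_lit 4) (nat_lit 0xb0b030c010d010e0d010b) (Net.cons (nat_lit 2) (nat_lit 0x2212202310103233301000230) (Net.cons (nat_lit 1) (nat_lit 0x5010405045544544150050545) Net.nil)))))))))))))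

theorem t_g256_ok : Net.ok 100 t_g256 = true := by decide +kernel

noncomputable def t_g257 : Net := (Net.cons (nat_lit 1) (nat_lit 0x550100154445040010145100) (Net.cons (nat_lit 2) (nat_lit 0x10031013013131030121020) (Net.cons (nat_lit 4) (nat_lit 0x209010808050f0c02010904) (Net.cons (nat_lit 8) (nat_lit 0x830044007500a600c80005) (Net.cons (nat_lit 16) (nat_lit 0x5a970000348200000001) (Net.cons (nat_lit 32) (nat_lit 0x90000000094970100) (Net.cons (nat_lit 64) (nat_lit 0x497dfcbaf) (Net.cons (nat_lit 32) (nat_lit 0xc0000000028ddcb62) (Net.cons (nat_lit 16) (nat_lit 0xae1d0000b56f00007f7d) (Net.cons (nat_lit 8) (nat_lit 0xf4005b00c8001a00150088) (Net.cons (nat_lit 4) (nat_lit 0x40603090b070d00080a000f) (Net.cons (nat_lit 2) (nat_lit 0x1112300223112231332311331) (Net.cons (nat_lit 1) (nat_lit 0x1100101445501404151445) Net.nil)))))))))))))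

theorem t_g257_ok : Net.ok 100 t_g257 = true := by decide +kernel

noncomputable def nt_c14_K : List Net := [t_g256, t_g257, t_g255]

theorem nt_c14_K_ok : okE 100 nt_c14_K = true := (okE_cons.2 ⟨t_g256_ok, (okE_cons.2 ⟨t_g257_ok, (okE_cons.2 ⟨t_g255_ok, (okE_nil 100)⟩)⟩)⟩)

noncomputable def t_g259 : Net := (Net.cons (nat_lit 1) (nat_lit 0x5114444054545000115411500) (Net.cons (nat_lit 2) (nat_lit 0x3222012021202120033032120) (Net.cons (nat_lit 4) (nat_lit 0xa000e07050d0e0703020209) (Net.cons (nat_lit 8) (nat_lit 0xd4000b00cc002d000a000a) (Net.cons (nat_lit 16) (nat_lit 0xfa5900004eee0000000e) (Net.cons (nat_lit 32) (nat_lit 0x20000000084287880) (Net.cons (nat_lit 64) (nat_lit 0xef6ff78a1) (Net.cons (nat_lit 32) (nat_lit 0x100000000df042d61) (Net.cons (nat_lit 16) (nat_lit 0x227c000062b600004d20) (Net.cons (nat_lit 8) (nat_lit 0x5a008300ca0033000f0086) (Net.cons (nat_lit 4) (nat_lit 0xa0c0f0d0306080606000609) (Net.cons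 (nat_lit 2) (nat_lit 0x1223023211201220332312120) (Net.cons (nat_lit 1) (nat_lit 0x1114045015001101011540114) Net.nil)))))))))))))

theorem t_g259_ok : Net.ok 100 t_g259 = true := by decide +kernel

noncomputable def t_g260 : Net := (Net.cons (nat_lit 1) (nat_lit 0x50510501140015141445400) (Net.cons (nat_lit 2) (nat_lit 0x2000123003312200332020320) (Net.cons (nat_lit 4) (nat_lit 0x806090c0e02020104090e) (Net.cons (nat_lit 8) (nat_lit 0xb8008b002900000048000c) (Net.cons (nat_lit 16) (nat_lit 0x44f10000495900000009) (Net.cons (nat_lit 32) (nat_lit 0xc0519f80) (Net.cons (nat_lit 64) (nat_lit 0xfda7dbf9e) (Net.cons (nat_lit 32) (nat_lit 0xa00000000f299720d) (Net.cons (nat_lit 16) (nat_lit 0x7e640000d5230000378b) (Net.cons (nat_lit 8) (nat_lit 0x280081003b003000610090) (Net.cons (nat_lit 4) (nat_lit 0x80905020004060e030b0906) (Net.cons (nat_lit 2) (nat_lit 0x1001002020030223321332010) (Net.cons (nat_lit 1) (nat_lit 0x4055100014501104501451400)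 Net.nil)))))))))))))

theorem t_g260_ok : Net.ok 100 t_g260 = true := by decide +kernel

noncomputable def t_V261 : List Net := [t_g259, t_g260]

theorem t_V261_ok : okE 100 t_V261 = true := (okE_cons.2 ⟨t_g259_ok, (okE_cons.2 ⟨t_g260_ok, (okE_nil 100)⟩)⟩)

noncomputable def t_V263 : List Net := [t_g260]

theorem t_V263_ok : okE 100 t_V263 = true := (okE_cons.2 ⟨t_g260_ok, (okE_nil 100)⟩)

noncomputable def t_V264 : List Net := []

theorem t_V264_ok : okE 100 t_V264 = true := (okE_nil 100)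

noncomputable def nt_c14_cnt_EG : List Net := [MpHS.a, HSM.g1, HSM.g2, t_g1, t_g2, t_g5, t_g6, t_g9, t_g10, t_g13, t_g14, t_g15, t_g18, t_g19, t_g20, t_g23, t_g24, t_g25, t_g28, t_g29, t_g30, t_g31, t_g34, t_g260, t_g259, t_g152, t_g153, t_g154, t_g155, t_g133, t_g134, t_g135, t_g136, t_g137, t_g86, t_g87, t_g88, t_g89, t_g90, t_g91, t_g92, t_g93]

theorem nt_c14_cnt_EG_ok : okE 100 nt_c14_cnt_EG = true := (okE_cons.2 ⟨MpHS.a_ok, (okE_cons.2 ⟨HSM.g1_ok, (okE_cons.2 ⟨HSM.g2_ok, (okE_cons.2 ⟨t_g1_ok, (okE_cons.2 ⟨t_g2_ok, (okE_cons.2 ⟨t_g5_ok, (okE_cons.2 ⟨t_g6_ok, (okE_cons.2 ⟨t_g9_ok, (okE_cons.2 ⟨t_g10_ok, (okE_cons.2 ⟨t_g13_ok, (okE_cons.2 ⟨t_g14_ok, (okE_cons.2 ⟨t_g15_ok, (okE_cons.2 ⟨t_g18_ok, (okE_cons.2 ⟨t_g19_ok, (okE_cons.2 ⟨t_g20_ok, (okE_cons.2 ⟨t_g23_ok, (okE_cons.2 ⟨t_g24_ok, (okE_cons.2 ⟨t_g25_ok, (okE_cons.2 ⟨t_g28_ok, (okE_cons.2 ⟨t_g29_ok, (okE_cons.2 ⟨t_g30_ok, (okE_cons.2 ⟨t_g31_ok, (okE_cons.2 ⟨t_g34_ok,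 (okE_cons.2 ⟨t_g260_ok, (okE_cons.2 ⟨t_g259_ok, (okE_cons.2 ⟨t_g152_ok, (okE_cons.2 ⟨t_g153_ok, (okE_cons.2 ⟨t_g154_ok, (okE_cons.2 ⟨t_g155_ok, (okE_cons.2 ⟨t_g133_ok, (okE_cons.2 ⟨t_g134_ok, (okE_cons.2 ⟨t_g135_ok, (okE_cons.2 ⟨t_g136_ok, (okE_cons.2 ⟨t_g137_ok, (okE_cons.2 ⟨t_g86_ok, (okE_cons.2 ⟨t_g87_ok, (okE_cons.2 ⟨t_g88_ok, (okE_cons.2 ⟨t_g89_ok, (okE_cons.2 ⟨t_g90_ok, (okE_cons.2 ⟨t_g91_ok, (okE_cons.2 ⟨t_g92_ok, (okE_cons.2 ⟨t_g93_ok, (okE_nil 100)⟩)⟩)⟩)⟩)⟩)⟩)⟩)⟩)⟩)⟩)⟩)⟩)⟩)⟩)⟩)⟩)⟩)⟩)⟩)⟩)⟩)⟩)⟩)⟩)⟩)⟩)⟩)⟩)⟩)⟩)⟩)⟩)⟩)⟩)⟩)⟩)⟩)⟩)⟩)⟩)⟩)⟩)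

noncomputable def t_g265 : Net := (Net.cons (nat_lit 1) (nat_lit 0x4404451100004151400144540) (Net.cons (nat_lit 2) (nat_lit 0x1303120323022020110031000) (Net.cons (nat_lit 4) (nat_lit 0x701070f0c080b0a0701080e) (Net.cons (nat_lit 8) (nat_lit 0x280034007200a500650000) (Net.cons (nat_lit 16) (nat_lit 0x2202000045110000000c) (Net.cons (nat_lit 32) (nat_lit 0x70000000021e60620) (Net.cons (nat_lit 64) (nat_lit 0xb35fe4e24) (Net.cons (nat_lit 32) (nat_lit 0xc00000000b093ea26) (Net.cons (nat_lit 16) (nat_lit 0x275c000003ce000028fb) (Net.cons (nat_lit 8) (nat_lit 0xc800940043002a00a200cb) (Net.cons (nat_lit 4) (nat_lit 0x60d090f0b090c030c010f08) (Net.cons (nat_lit 2) (nat_lit 0x2130133120131130100210221) (Net.cons (nat_lit 1) (nat_lit 0x440501114114444100554400) Net.nil)))))))))))))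

theorem t_g265_ok : Net.ok 100 t_g265 = true := by decide +kernel

noncomputable def t_g266 : Net := (Net.cons (nat_lit 1) (nat_lit 0x1551510114014001540411100) (Net.cons (nat_lit 2) (nat_lit 0x2032222230030132303310000) (Net.cons (nat_lit 4) (nat_lit 0xc0e0103020a000f0a020801) (Net.cons (nat_lit 8) (nat_lit 0xd00370008003300360004) (Net.cons (nat_lit 16) (nat_lit 0xaaaa000080400000000c) (Net.cons (nat_lit 32) (nat_lit 0x300000000a18a0530) (Net.cons (nat_lit 64) (nat_lit 0x6fbca05b5) (Net.cons (nat_lit 32) (nat_lit 0xc0000000006844865) (Net.cons (nat_lit 16) (nat_lit 0xcb5d0000be5e0000d77c) (Net.cons (nat_lit 8) (nat_lit 0x1e00420002005700ea0042) (Net.cons (nat_lit 4) (nat_lit 0xa06040504060503070f0c03) (Net.cons (nat_lit 2) (nat_lit 0x3110221132020301133122302) (Net.cons (nat_lit 1) (nat_lit 0x5405550004041100550101500) Net.nil)))))))))))))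

theorem t_g266_ok : Net.ok 100 t_g266 = true := by decide +kernel

noncomputable def t_g267 : Net := (Net.cons (nat_lit 1) (nat_lit 0x1001004440500144055055010) (Net.cons (nat_lit 2) (nat_lit 0x1031123132301300210010220) (Net.cons (nat_lit 4) (nat_lit 0x50b060505000d01010f0703) (Net.cons (nat_lit 8) (nat_lit 0xa6000a003d008000300008) (Net.cons (nat_lit 16) (nat_lit 0x68210000001300000009) (Net.cons (nat_lit 32) (nat_lit 0x1000000006f302400) (Net.cons (nat_lit 64) (nat_lit 0xb6fbe279a) (Net.cons (nat_lit 32) (nat_lit 0x80000000039c7931c) (Net.cons (nat_lit 16) (nat_lit 0x812b00008a5a00004766) (Net.cons (nat_lit 8) (nat_lit 0xc90073002100e000260038) (Net.cons (nat_lit 4) (nat_lit 0x5020c0d05010a0f00050308) (Net.cons (nat_lit 2) (nat_lit 0x1203113101221333032101230) (Net.cons (nat_lit 1) (nat_lit 0x1054100411440454514554405) Net.nil)))))))))))))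

theorem t_g267_ok : Net.ok 100 t_g267 = true := by decide +kernel

noncomputable def t_g268 : Net := (Net.cons (nat_lit 1) (nat_lit 0x4404115010010444051010440) (Net.cons (nat_lit 2) (nat_lit 0x323322000330110311000230) (Net.cons (nat_lit 4) (nat_lit 0xd030407080f080006010e00) (Net.cons (nat_lit 8) (nat_lit 0x70000700540053006e0000) (Net.cons (nat_lit 16) (nat_lit 0x12020000b0d800000008) (Net.cons (nat_lit 32) (nat_lit 0x6f0004b0) (Net.cons (nat_lit 64) (nat_lit 0xc6f0214fc) (Net.cons (nat_lit 32) (nat_lit 0x400000000f3bc60d7) (Net.cons (nat_lit 16) (nat_lit 0xd81b000058640000f88f) (Net.cons (nat_lit 8) (nat_lit 0xf000c1007d0037007800fa) (Net.cons (nat_lit 4) (nat_lit 0xc020c0705070c0a070f020f) (Net.cons (nat_lit 2) (nat_lit 0x203333212222213021231331) (Net.cons (nat_lit 1) (nat_lit 0x5500405010445411545151) Net.nil)))))))))))))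

theorem t_g268_ok : Net.ok 100 t_g268 = true := by decide +kernel

noncomputable def t_g269 : Net := (Net.cons (nat_lit 1) (nat_lit 0x4444501400014144000111014) (Net.cons (nat_lit 2) (nat_lit 0x1112220112220302010221000) (Net.cons (nat_lit 4) (nat_lit 0x50501010e05080809000108) (Net.cons (nat_lit 8) (nat_lit 0x38002d0019000300800001) (Net.cons (nat_lit 16) (nat_lit 0x44b100003a2000000000) (Net.cons (nat_lit 32) (nat_lit 0x1002510) (Net.cons (nat_lit 64) (nat_lit 0x1410225b1) (Net.cons (nat_lit 32) (nat_lit 0x90000000031352f13) (Net.cons (nat_lit 16) (nat_lit 0x4cb50000baa000008100) (Net.cons (nat_lit 8) (nat_lit 0x7800bd0059000b00880041) (Net.cons (nat_lit 4) (nat_lit 0x50501010e05080809000108) (Net.cons (nat_lit 2) (nat_lit 0x1112220112220302010221100) (Net.cons (nat_lit 1) (nat_lit 0x4444501400014144000111014) Net.nil)))))))))))))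

theorem t_g269_ok : Net.ok 100 t_g269 = true := by decide +kernel

noncomputable def nt_c15_K : List Net := [t_g266, t_g267, t_g268, t_g269]

theorem nt_c15_K_ok : okE 100 nt_c15_K = true := (okE_cons.2 ⟨t_g266_ok, (okE_cons.2 ⟨t_g267_ok, (okE_cons.2 ⟨t_g268_ok, (okE_cons.2 ⟨t_g269_ok, (okE_nil 100)⟩)⟩)⟩)⟩)

noncomputable def nt_c15_cnt_EG : List Net := [MpHS.a, HSM.g1, HSM.g2, t_g1, t_g2, t_g5, t_g6, t_g9, t_g10, t_g13, t_g14, t_g15, t_g18, t_g19, t_g20, t_g23, t_g24, t_g25, t_g28, t_g29, t_g30, t_g31, t_g34, t_g134, t_g135, t_g136, t_g137, t_g133, t_g86, t_g87, t_g88, t_g89, t_g90, t_g91, t_g92, t_g93, t_g194, t_g193, t_g192]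

theorem nt_c15_cnt_EG_ok : okE 100 nt_c15_cnt_EG = true := (okE_cons.2 ⟨MpHS.a_ok, (okE_cons.2 ⟨HSM.g1_ok, (okE_cons.2 ⟨HSM.g2_ok, (okE_cons.2 ⟨t_g1_ok, (okE_cons.2 ⟨t_g2_ok, (okE_cons.2 ⟨t_g5_ok, (okE_cons.2 ⟨t_g6_ok, (okE_cons.2 ⟨t_g9_ok, (okE_cons.2 ⟨t_g10_ok, (okE_cons.2 ⟨t_g13_ok, (okE_cons.2 ⟨t_g14_ok, (okE_cons.2 ⟨t_g15_ok, (okE_cons.2 ⟨t_g18_ok, (okE_cons.2 ⟨t_g19_ok, (okE_cons.2 ⟨t_g20_ok, (okE_cons.2 ⟨t_g23_ok, (okE_cons.2 ⟨t_g24_ok, (okE_cons.2 ⟨t_g25_ok, (okE_cons.2 ⟨t_g28_ok, (okE_cons.2 ⟨t_g29_ok, (okE_cons.2 ⟨t_g30_ok, (okE_cons.2 ⟨t_g31_ok, (okE_cons.2 ⟨t_g34_ok, (okE_cons.2 ⟨t_g134_ok, (okE_cons.2 ⟨t_g135_ok, (okE_cons.2 ⟨t_g136_ok, (okE_cons.2 ⟨t_g137_ok, (okE_cons.2 ⟨t_g133_ok, (okE_cons.2 ⟨t_g86_ok, (okE_cons.2 ⟨t_g87_ok, (okE_cons.2 ⟨t_g88_ok, (okE_cons.2 ⟨t_g89_ok, (okE_cons.2 ⟨t_g90_ok, (okE_cons.2 ⟨t_g91_ok, (okE_cons.2 ⟨t_g92_ok, (okE_cons.2 ⟨t_g93_ok, (okE_cons.2 ⟨t_g194_ok, (okE_cons.2 ⟨t_g193_ok,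 (okE_cons.2 ⟨t_g192_ok, (okE_nil 100)⟩)⟩)⟩)⟩)⟩)⟩)⟩)⟩)⟩)⟩)⟩)⟩)⟩)⟩)⟩)⟩)⟩)⟩)⟩)⟩)⟩)⟩)⟩)⟩)⟩)⟩)⟩)⟩)⟩)⟩)⟩)⟩)⟩)⟩)⟩)⟩)⟩)⟩)⟩)

noncomputable def t_g271 : Net := (Net.cons (nat_lit 1) (nat_lit 0x4410144540501111054104450) (Net.cons (nat_lit 2) (nat_lit 0x3332020230320210021201310) (Net.cons (nat_lit 4) (nat_lit 0x90b040806080b0402010705) (Net.cons (nat_lit 8) (nat_lit 0x2400ee00a600a0004a0009) (Net.cons (nat_lit 16) (nat_lit 0xb0670000e20400000003) (Net.cons (nat_lit 32) (nat_lit 0x864d050) (Net.cons (nat_lit 64) (nat_lit 0xcddf6f5d9) (Net.cons (nat_lit 32) (nat_lit 0x3000000007bc2c490) (Net.cons (nat_lit 16) (nat_lit 0x8ff500001990000097cc) (Net.cons (nat_lit 8) (nat_lit 0x7f006b008e002b00bb001e) (Net.cons (nat_lit 4) (nat_lit 0xc0a0b030a020a0304050309) (Net.cons (nat_lit 2) (nat_lit 0x1331330220132312112003000) (Net.cons (nat_lit 1) (nat_lit 0x5550040415441511555014114) Net.nil)))))))))))))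

theorem t_g271_ok : Net.ok 100 t_g271 = true := by decide +kernel

noncomputable def t_g272 : Net := (Net.cons (nat_lit 1) (nat_lit 0x5041151541050410550545000) (Net.cons (nat_lit 2) (nat_lit 0x2302113323201223200310000) (Net.cons (nat_lit 4) (nat_lit 0x40100080c010506060c0606) (Net.cons (nat_lit 8) (nat_lit 0xb700ec004e0073001a0009) (Net.cons (nat_lit 16) (nat_lit 0xf84e000020380000000f) (Net.cons (nat_lit 32) (nat_lit 0xb000000001bca7000) (Net.cons (nat_lit 64) (nat_lit 0x55fdff8ea) (Net.cons (nat_lit 32) (nat_lit 0xe00000000285ff4ae) (Net.cons (nat_lit 16) (nat_lit 0x3daf0000ad060000acf8) (Net.cons (nat_lit 8) (nat_lit 0xd40034002d007500ab0060) (Net.cons (nat_lit 4) (nat_lit 0x709070a05070b0b0c050b09) (Net.cons (nat_lit 2) (nat_lit 0x2333322022100300113211220) (Net.cons (nat_lit 1) (nat_lit 0x4404544054155541155150001) Net.nil)))))))))))))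

theorem t_g272_ok : Net.ok 100 t_g272 = true := by decide +kernel

noncomputable def t_g273 : Net := (Net.cons (nat_lit 1) (nat_lit 0x5045155144151040400445040) (Net.cons (nat_lit 2) (nat_lit 0x1011020210030330323332000) (Net.cons (nat_lit 4) (nat_lit 0x90d010d02080104060706) (Net.cons (nat_lit 8) (nat_lit 0x22006c00cc00c10028000f) (Net.cons (nat_lit 16) (nat_lit 0x1e840000772e00000001) (Net.cons (nat_lit 32) (nat_lit 0x544221b0) (Net.cons (nat_lit 64) (nat_lit 0xc74df7bf2) (Net.cons (nat_lit 32) (nat_lit 0xb000000005acb6804) (Net.cons (nat_lit 16) (nat_lit 0x72d9000065f700001067) (Net.cons (nat_lit 8) (nat_lit 0x7a0072008e000d00b00060) (Net.cons (nat_lit 4) (nat_lit 0x707080a030b04090d080a0f) (Net.cons (nat_lit 2) (nat_lit 0x2000010002320011233211201) (Net.cons (nat_lit 1) (nat_lit 0x4045015154101100550551145) Net.nil)))))))))))))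

theorem t_g273_ok : Net.ok 100 t_g273 = true := by decide +kernel

noncomputable def t_g274 : Net := (Net.cons (nat_lit 1) (nat_lit 0x5445004104041150504100050) (Net.cons (nat_lit 2) (nat_lit 0x2233032132020010222323300) (Net.cons (nat_lit 4) (nat_lit 0x80608030803080704070009) (Net.cons (nat_lit 8) (nat_lit 0x4900210020001b00610000) (Net.cons (nat_lit 16) (nat_lit 0x3088000000be0000000a) (Net.cons (nat_lit 32) (nat_lit 0x20000000004069820) (Net.cons (nat_lit 64) (nat_lit 0x9c73ef8ee) (Net.cons (nat_lit 32) (nat_lit 0xb000000003af4c84c) (Net.cons (nat_lit 16) (nat_lit 0xd010000068b80000eb08) (Net.cons (nat_lit 8) (nat_lit 0xfb004900cd005300e9001a) (Net.cons (nat_lit 4) (nat_lit 0xa0408090f070b0b0e0f0c0d) (Net.cons (nat_lit 2) (nat_lit 0x2211103302311000332123011) (Net.cons (nat_lit 1) (nat_lit 0x4441055114040110404110040) Net.nil)))))))))))))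

theorem t_g274_ok : Net.ok 100 t_g274 = true := by decide +kernel

noncomputable def nt_c16_K : List Net := [t_g271, t_g272, t_g273, t_g274]

theorem nt_c16_K_ok : okE 100 nt_c16_K = true := (okE_cons.2 ⟨t_g271_ok, (okE_cons.2 ⟨t_g272_ok, (okE_cons.2 ⟨t_g273_ok, (okE_cons.2 ⟨t_g274_ok, (okE_nil 100)⟩)⟩)⟩)⟩)

noncomputable def t_g276 : Net := (Net.cons (nat_lit 1) (nat_lit 0x1410555554501155504445540) (Net.cons (nat_lit 2) (nat_lit 0x1301023000133212302030200) (Net.cons (nat_lit 4) (nat_lit 0x100010007000d07040a0d09) (Net.cons (nat_lit 8) (nat_lit 0x9f00200064001000000005) (Net.cons (nat_lit 16) (nat_lit 0x7adb0000242200000000) (Net.cons (nat_lit 32) (nat_lit 0x40000000004491920) (Net.cons (nat_lit 64) (nat_lit 0x88e7b7fe5) (Net.cons (nat_lit 32) (nat_lit 0xd000000008a277560) (Net.cons (nat_lit 16) (nat_lit 0x96ac00007c3c0000f6a4) (Net.cons (nat_lit 8) (nat_lit 0xdf007400aa0028000800a4) (Net.cons (nat_lit 4) (nat_lit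 0x3040b0f0a0408050c00040d) (Net.cons (nat_lit 2) (nat_lit 0x223000030210003322012200) (Net.cons (nat_lit 1) (nat_lit 0x5104544440040451550054150) Net.nil)))))))))))))

theorem t_g276_ok : Net.ok 100 t_g276 = true := by decide +kernel

noncomputable def t_g277 : Net := (Net.cons (nat_lit 1) (nat_lit 0x150114115444444100110000) (Net.cons (nat_lit 2) (nat_lit 0x213011210010002100210000) (Net.cons (nat_lit 4) (nat_lit 0xd0a0c080b0a0c0802020c00) (Net.cons (nat_lit 8) (nat_lit 0xaa003d0015001000040008) (Net.cons (nat_lit 16) (nat_lit 0xb02c0000c42200000000) (Net.cons (nat_lit 32) (nat_lit 0x80000000000182810) (Net.cons (nat_lit 64) (nat_lit 0x2ac1e3938) (Net.cons (nat_lit 32) (nat_lit 0xc0000000068b98494) (Net.cons (nat_lit 16) (nat_lit 0xe1ac0000ec6200002a00) (Net.cons (nat_lit 8) (nat_lit 0xaa003f0015001000040008) (Net.cons (nat_lit 4) (nat_lit 0xc000c0d0b0a0c0802020d00) (Net.cons (nat_lit 2) (nat_lit 0x211211010010202102210000)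 (Net.cons (nat_lit 1) (nat_lit 0x150114115444444100110000) Net.nil)))))))))))))

theorem t_g277_ok : Net.ok 100 t_g277 = true := by decide +kernel

noncomputable def t_V278 : List Net := [t_g276, t_g277]

theorem t_V278_ok : okE 100 t_V278 = true := (okE_cons.2 ⟨t_g276_ok, (okE_cons.2 ⟨t_g277_ok, (okE_nil 100)⟩)⟩)

noncomputable def t_V280 : List Net := [t_g277]

theorem t_V280_ok : okE 100 t_V280 = true := (okE_cons.2 ⟨t_g277_ok, (okE_nil 100)⟩)

noncomputable def t_V281 : List Net := []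

theorem t_V281_ok : okE 100 t_V281 = true := (okE_nil 100)

noncomputable def nt_c16_cnt_EG : List Net := [MpHS.a, HSM.g1, HSM.g2, t_g1, t_g2, t_g5, t_g6, t_g9, t_g10, t_g13, t_g14, t_g15, t_g18, t_g19, t_g20, t_g23, t_g24, t_g25, t_g28, t_g29, t_g30, t_g31, t_g34, t_g218, t_g219, t_g220, t_g217, t_g277, t_g276]

theorem nt_c16_cnt_EG_ok : okE 100 nt_c16_cnt_EG = true := (okE_cons.2 ⟨MpHS.a_ok, (okE_cons.2 ⟨HSM.g1_ok, (okE_cons.2 ⟨HSM.g2_ok, (okE_cons.2 ⟨t_g1_ok, (okE_cons.2 ⟨t_g2_ok, (okE_cons.2 ⟨t_g5_ok, (okE_cons.2 ⟨t_g6_ok, (okE_cons.2 ⟨t_g9_ok, (okE_cons.2 ⟨t_g10_ok, (okE_cons.2 ⟨t_g13_ok, (okE_cons.2 ⟨t_g14_ok, (okE_cons.2 ⟨t_g15_ok, (okE_cons.2 ⟨t_g18_ok, (okE_cons.2 ⟨t_g19_ok, (okE_cons.2 ⟨t_g20_ok, (okE_cons.2 ⟨t_g23_ok, (okE_cons.2 ⟨t_g24_ok, (okE_cons.2 ⟨t_g25_ok, (okE_cons.2 ⟨t_g28_ok, (okE_cons.2 ⟨t_g29_ok, (okE_cons.2 ⟨t_g30_ok, (okE_cons.2 ⟨t_g31_ok, (okE_cons.2 ⟨t_g34_ok, (okE_cons.2 ⟨t_g218_ok, (okE_cons.2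 ⟨t_g219_ok, (okE_cons.2 ⟨t_g220_ok, (okE_cons.2 ⟨t_g217_ok, (okE_cons.2 ⟨t_g277_ok, (okE_cons.2 ⟨t_g276_ok, (okE_nil 100)⟩)⟩)⟩)⟩)⟩)⟩)⟩)⟩)⟩)⟩)⟩)⟩)⟩)⟩)⟩)⟩)⟩)⟩)⟩)⟩)⟩)⟩)⟩)⟩)⟩)⟩)⟩)⟩)⟩)

noncomputable def t_g282 : Net := (Net.cons (nat_lit 1) (nat_lit 0x1545144444514400550050) (Net.cons (nat_lit 2) (nat_lit 0x100300031131003202203100) (Net.cons (nat_lit 4) (nat_lit 0x3030a0c0a0f010209000a08) (Net.cons (nat_lit 8) (nat_lit 0x950083008500d000310000) (Net.cons (nat_lit 16) (nat_lit 0xea910000002800000008) (Net.cons (nat_lit 32) (nat_lit 0xc0000000020469020) (Net.cons (nat_lit 64) (nat_lit 0xe7cff96e3) (Net.cons (nat_lit 32) (nat_lit 0x22f6a421) (Net.cons (nat_lit 16) (nat_lit 0x79e900009efd000034f6) (Net.cons (nat_lit 8) (nat_lit 0xf5003d0046005f00920093) (Net.cons (nat_lit 4) (nat_lit 0x80e0c01060c0a020b070305) (Net.cons (nat_lit 2) (nat_lit 0x2323201110112232223331233) (Net.cons (nat_lit 1) (nat_lit 0x1504515014405510451515100)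 Net.nil)))))))))))))

theorem t_g282_ok : Net.ok 100 t_g282 = true := by decide +kernel

noncomputable def t_g283 : Net := (Net.cons (nat_lit 1) (nat_lit 0x5445110005145501001011410) (Net.cons (nat_lit 2) (nat_lit 0x33302131103230310002200) (Net.cons (nat_lit 4) (nat_lit 0xb09060c08040a0506090000) (Net.cons (nat_lit 8) (nat_lit 0x4c004d008a00dc00e30000) (Net.cons (nat_lit 16) (nat_lit 0xe10b0000028b00000006) (Net.cons (nat_lit 32) (nat_lit 0xc2810400) (Net.cons (nat_lit 64) (nat_lit 0xadefd27c0) (Net.cons (nat_lit 32) (nat_lit 0x70000000018e113e6) (Net.cons (nat_lit 16) (nat_lit 0x797e0000e2e3000090a5) (Net.cons (nat_lit 8) (nat_lit 0x8f00ee00950015004a0032) (Net.cons (nat_lit 4) (nat_lit 0xb0d060804060a0a0c010c03) (Net.cons (nat_lit 2) (nat_lit 0x2123123321323121301121103) (Net.cons (nat_lit 1) (nat_lit 0x4045514515005515450454550) Net.nil)))))))))))))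

theorem t_g283_ok : Net.ok 100 t_g283 = true := by decide +kernel

noncomputable def t_g284 : Net := (Net.cons (nat_lit 1) (nat_lit 0x405451444114400105454014) (Net.cons (nat_lit 2) (nat_lit 0x213100000002321032220020) (Net.cons (nat_lit 4) (nat_lit 0x20c010c0c0001070e0e0009) (Net.cons (nat_lit 8) (nat_lit 0x1a00d00005003b00c2000b) (Net.cons (nat_lit 16) (nat_lit 0x9d350000c2b200000008) (Net.cons (nat_lit 32) (nat_lit 0xa00000000270ce8a0) (Net.cons (nat_lit 64) (nat_lit 0x1277ffdab) (Net.cons (nat_lit 32) (nat_lit 0xd0000000095629819) (Net.cons (nat_lit 16) (nat_lit 0x89ad00006a7700009374) (Net.cons (nat_lit 8) (nat_lit 0xb0001b00bc005500ef003b) (Net.cons (nat_lit 4) (nat_lit 0xa09070607090b0b0b05070b) (Net.cons (nat_lit 2) (nat_lit 0x232001000303200023100030) (Net.cons (nat_lit 1) (nat_lit 0x4504445054145144155140154) Net.nil)))))))))))))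

theorem t_g284_ok : Net.ok 100 t_g284 = true := by decide +kernel

noncomputable def t_g285 : Net := (Net.cons (nat_lit 1) (nat_lit 0x1415140001041110040400400) (Net.cons (nat_lit 2) (nat_lit 0x220002202203000130223000) (Net.cons (nat_lit 4) (nat_lit 0xd050c06090102080803) (Net.cons (nat_lit 8) (nat_lit 0x2800090034000100820002) (Net.cons (nat_lit 16) (nat_lit 0x40e20000208400000001) (Net.cons (nat_lit 32) (nat_lit 0xc000000001942a020) (Net.cons (nat_lit 64) (nat_lit 0x979eaa125) (Net.cons (nat_lit 32) (nat_lit 0xf00000000df1feea9) (Net.cons (nat_lit 16) (nat_lit 0x42ea00002e840000060b) (Net.cons (nat_lit 8) (nat_lit 0xa40059007c001900c2003a) (Net.cons (nat_lit 4) (nat_lit 0xd050c06090102080803) (Net.cons (nat_lit 2) (nat_lit 0x220002202203000130223000) (Net.cons (nat_lit 1) (nat_lit 0x1415140001041110040400400) Net.nil)))))))))))))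

theorem t_g285_ok : Net.ok 100 t_g285 = true := by decide +kernel

noncomputable def nt_c17_K : List Net := [t_g282, t_g283, t_g284, t_g285]

theorem nt_c17_K_ok : okE 100 nt_c17_K = true := (okE_cons.2 ⟨t_g282_ok, (okE_cons.2 ⟨t_g283_ok, (okE_cons.2 ⟨t_g284_ok, (okE_cons.2 ⟨t_g285_ok, (okE_nil 100)⟩)⟩)⟩)⟩)

noncomputable def nt_c17_cnt_EG : List Net := [MpHS.a, HSM.g1, HSM.g2, t_g1, t_g2, t_g5, t_g6, t_g9, t_g10, t_g13, t_g14, t_g15, t_g18, t_g19, t_g20, t_g23, t_g24, t_g25, t_g28, t_g29, t_g30, t_g31, t_g34, t_g89, t_g90, t_g91, t_g92, t_g93, t_g88, t_g87, t_g86]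

theorem nt_c17_cnt_EG_ok : okE 100 nt_c17_cnt_EG = true := (okE_cons.2 ⟨MpHS.a_ok, (okE_cons.2 ⟨HSM.g1_ok, (okE_cons.2 ⟨HSM.g2_ok, (okE_cons.2 ⟨t_g1_ok, (okE_cons.2 ⟨t_g2_ok, (okE_cons.2 ⟨t_g5_ok, (okE_cons.2 ⟨t_g6_ok, (okE_cons.2 ⟨t_g9_ok, (okE_cons.2 ⟨t_g10_ok, (okE_cons.2 ⟨t_g13_ok, (okE_cons.2 ⟨t_g14_ok, (okE_cons.2 ⟨t_g15_ok, (okE_cons.2 ⟨t_g18_ok, (okE_cons.2 ⟨t_g19_ok, (okE_cons.2 ⟨t_g20_ok, (okE_cons.2 ⟨t_g23_ok, (okE_cons.2 ⟨t_g24_ok, (okE_cons.2 ⟨t_g25_ok, (okE_cons.2 ⟨t_g28_ok, (okE_cons.2 ⟨t_g29_ok, (okE_cons.2 ⟨t_g30_ok, (okE_cons.2 ⟨t_g31_ok, (okE_cons.2 ⟨t_g34_ok, (okE_cons.2 ⟨t_g89_ok, (okE_cons.2 ⟨t_g90_ok, (okE_cons.2 ⟨t_g91_ok, (okE_cons.2 ⟨t_g92_ok, (okE_cons.2 ⟨t_g93_ok, (okE_cons.2 ⟨t_g88_ok, (okE_cons.2 ⟨t_g87_ok, (okE_cons.2 ⟨t_g86_ok, (okE_nil 100)⟩)⟩)⟩)⟩)⟩)⟩)⟩)⟩)⟩)⟩)⟩)⟩)⟩)⟩)⟩)⟩)⟩)⟩)⟩)⟩)⟩)⟩)⟩)⟩)⟩)⟩)⟩)⟩)⟩)⟩)⟩)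

noncomputable def t_g287 : Net := (Net.cons (nat_lit 1) (nat_lit 0x1011454015015005505405500) (Net.cons (nat_lit 2) (nat_lit 0x2313110021321300303031110) (Net.cons (nat_lit 4) (nat_lit 0xa0c0e00030f070d04090900) (Net.cons (nat_lit 8) (nat_lit 0x8b00c10074002300500000) (Net.cons (nat_lit 16) (nat_lit 0x19a40000ed9000000004) (Net.cons (nat_lit 32) (nat_lit 0x700000000078cfa00) (Net.cons (nat_lit 64) (nat_lit 0x3c7acff1c) (Net.cons (nat_lit 32) (nat_lit 0xc00000000e2eb71da) (Net.cons (nat_lit 16) (nat_lit 0x8cba0000864a000002da) (Net.cons (nat_lit 8) (nat_lit 0x89004900d3003800c8004d) (Net.cons (nat_lit 4) (nat_lit 0x2040f0d0900090408020509) (Net.cons (nat_lit 2) (nat_lit 0x3222322322202311320330100) (Net.cons (nat_lit 1) (nat_lit 0x4440110505505015415100144) Net.nil)))))))))))))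

theorem t_g287_ok : Net.ok 100 t_g287 = true := by decide +kernel

noncomputable def t_g288 : Net := (Net.cons (nat_lit 1) (nat_lit 0x5155504510001001100401410) (Net.cons (nat_lit 2) (nat_lit 0x1211010220233032131022100) (Net.cons (nat_lit 4) (nat_lit 0x5050d030a08010400040802) (Net.cons (nat_lit 8) (nat_lit 0x8800310040001400b90000) (Net.cons (nat_lit 16) (nat_lit 0x1122000015ab0000000c) (Net.cons (nat_lit 32) (nat_lit 0xe000000000a001420) (Net.cons (nat_lit 64) (nat_lit 0x9cb5bf476) (Net.cons (nat_lit 32) (nat_lit 0x4000000003a005382) (Net.cons (nat_lit 16) (nat_lit 0xf19e0000d1bb00008c1d) (Net.cons (nat_lit 8) (nat_lit 0xe200110004007900f90034) (Net.cons (nat_lit 4) (nat_lit 0x50409030e0e05000c040c0b) (Net.cons (nat_lit 2) (nat_lit 0x3331310202211032130023123) (Net.cons (nat_lit 1) (nat_lit 0x5155544510001001100401410) Net.nil)))))))))))))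

theorem t_g288_ok : Net.ok 100 t_g288 = true := by decide +kernel

noncomputable def t_g289 : Net := (Net.cons (nat_lit 1) (nat_lit 0x1445051501115144051144140) (Net.cons (nat_lit 2) (nat_lit 0x3011031120321010323221000) (Net.cons (nat_lit 4) (nat_lit 0x1000e080100080809070008) (Net.cons (nat_lit 8) (nat_lit 0x9500a400e7004300020007) (Net.cons (nat_lit 16) (nat_lit 0x624a0000220100000006) (Net.cons (nat_lit 32) (nat_lit 0xc00000000428cf170) (Net.cons (nat_lit 64) (nat_lit 0x3c79efbfd) (Net.cons (nat_lit 32) (nat_lit 0x2fa9f97e) (Net.cons (nat_lit 16) (nat_lit 0xe48900006b7200008704) (Net.cons (nat_lit 8) (nat_lit 0x7b005700fe00ce003e0051) (Net.cons (nat_lit 4) (nat_lit 0x2080101020f0c08010a080c) (Net.cons (nat_lit 2) (nat_lit 0x2223130111130221203131103) (Net.cons (nat_lit 1) (nat_lit 0x4155115014010044545515100) Net.nil)))))))))))))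

theorem t_g289_ok : Net.ok 100 t_g289 = true := by decide +kernel

noncomputable def t_g290 : Net := (Net.cons (nat_lit 1) (nat_lit 0x4010111005441044405041000) (Net.cons (nat_lit 2) (nat_lit 0x2101331131200230311201000) (Net.cons (nat_lit 4) (nat_lit 0x1010e080d0e030d04000400) (Net.cons (nat_lit 8) (nat_lit 0x400400098008000400001) (Net.cons (nat_lit 16) (nat_lit 0x888800004b8300000002) (Net.cons (nat_lit 32) (nat_lit 0xa0000000008000200) (Net.cons (nat_lit 64) (nat_lit 0x9ccc02242) (Net.cons (nat_lit 32) (nat_lit 0xa000000001a064f90) (Net.cons (nat_lit 16) (nat_lit 0x98c90000eab300000042) (Net.cons (nat_lit 8) (nat_lit 0x1500d100b800b400c10015) (Net.cons (nat_lit 4) (nat_lit 0xf0d0c0e020804000401) (Net.cons (nat_lit 2) (nat_lit 0x2101331131200221211200001) (Net.cons (nat_lit 1) (nat_lit 0x4010111005441044405041000) Net.nil)))))))))))))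

theorem t_g290_ok : Net.ok 100 t_g290 = true := by decide +kernel

noncomputable def nt_c18_K : List Net := [t_g288, t_g287, t_g289, t_g290]

theorem nt_c18_K_ok : okE 100 nt_c18_K = true := (okE_cons.2 ⟨t_g288_ok, (okE_cons.2 ⟨t_g287_ok, (okE_cons.2 ⟨t_g289_ok, (okE_cons.2 ⟨t_g290_ok, (okE_nil 100)⟩)⟩)⟩)⟩)

noncomputable def t_g292 : Net := (Net.cons (nat_lit 1) (nat_lit 0x5104054010100000144014000) (Net.cons (nat_lit 2) (nat_lit 0x1030301313011123011011000) (Net.cons (nat_lit 4) (nat_lit 0x90400080e00010209010304) (Net.cons (nat_lit 8) (nat_lit 0x12001e00440000001c0004) (Net.cons (nat_lit 16) (nat_lit 0xa8010000b00600000000) (Net.cons (nat_lit 32) (nat_lit 0x20000000004106110) (Net.cons (nat_lit 64) (nat_lit 0x6ac176114) (Net.cons (nat_lit 32) (nat_lit 0xb000000001652e312) (Net.cons (nat_lit 16) (nat_lit 0xb8130000b0150000051a) (Net.cons (nat_lit 8) (nat_lit 0x1a001e00440020001c0044) (Net.cons (nat_lit 4) (nat_lit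 0x90400080f00010209010304) (Net.cons (nat_lit 2) (nat_lit 0x1030301333011123011011000) (Net.cons (nat_lit 1) (nat_lit 0x5104054010100000544014000) Net.nil)))))))))))))

theorem t_g292_ok : Net.ok 100 t_g292 = true := by decide +kernel

noncomputable def t_g293 : Net := (Net.cons (nat_lit 1) (nat_lit 0x4141015550114404000005000) (Net.cons (nat_lit 2) (nat_lit 0x210303203302300102000000) (Net.cons (nat_lit 4) (nat_lit 0x3090d080d090b05010c0200) (Net.cons (nat_lit 8) (nat_lit 0x8800190014004800110001) (Net.cons (nat_lit 16) (nat_lit 0x26900000420400000005) (Net.cons (nat_lit 32) (nat_lit 0x10000000008104b00) (Net.cons (nat_lit 64) (nat_lit 0x4bc90db15) (Net.cons (nat_lit 32) (nat_lit 0x7000000004b056b3c) (Net.cons (nat_lit 16) (nat_lit 0xbea00000ce9400009015) (Net.cons (nat_lit 8) (nat_lit 0x880019009400e800110023) (Net.cons (nat_lit 4) (nat_lit 0xb090d080d090b05010c0600) (Net.cons (nat_lit 2) (nat_lit 0x211303203302300102000000)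 (Net.cons (nat_lit 1) (nat_lit 0x4141015550114404000005000) Net.nil)))))))))))))

theorem t_g293_ok : Net.ok 100 t_g293 = true := by decide +kernel

noncomputable def t_V294 : List Net := [t_g292, t_g293]

theorem t_V294_ok : okE 100 t_V294 = true := (okE_cons.2 ⟨t_g292_ok, (okE_cons.2 ⟨t_g293_ok, (okE_nil 100)⟩)⟩)

noncomputable def t_V296 : List Net := [t_g293]

theorem t_V296_ok : okE 100 t_V296 = true := (okE_cons.2 ⟨t_g293_ok, (okE_nil 100)⟩)

noncomputable def t_V297 : List Net := []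

theorem t_V297_ok : okE 100 t_V297 = true := (okE_nil 100)

noncomputable def nt_c18_cnt_EG : List Net := [MpHS.a, HSM.g1, HSM.g2, t_g1, t_g2, t_g5, t_g6, t_g9, t_g10, t_g13, t_g14, t_g15, t_g18, t_g19, t_g20, t_g23, t_g24, t_g25, t_g28, t_g29, t_g30, t_g31, t_g34, t_g86, t_g87, t_g88, t_g89, t_g90, t_g91, t_g92, t_g93, t_g292, t_g293, t_g192, t_g193, t_g194, t_g134, t_g135, t_g136, t_g137, t_g133]

theorem nt_c18_cnt_EG_ok : okE 100 nt_c18_cnt_EG = true := (okE_cons.2 ⟨MpHS.a_ok, (okE_cons.2 ⟨HSM.g1_ok, (okE_cons.2 ⟨HSM.g2_ok, (okE_cons.2 ⟨t_g1_ok, (okE_cons.2 ⟨t_g2_ok, (okE_cons.2 ⟨t_g5_ok, (okE_cons.2 ⟨t_g6_ok, (okE_cons.2 ⟨t_g9_ok, (okE_cons.2 ⟨t_g10_ok, (okE_cons.2 ⟨t_g13_ok, (okE_cons.2 ⟨t_g14_ok, (okE_cons.2 ⟨t_g15_ok, (okE_cons.2 ⟨t_g18_ok, (okE_cons.2 ⟨t_g19_ok, (okE_cons.2 ⟨t_g20_ok, (okE_cons.2 ⟨t_g23_ok, (okE_cons.2 ⟨t_g24_ok, (okE_cons.2 ⟨t_g25_ok, (okE_cons.2 ⟨t_g28_ok, (okE_cons.2 ⟨t_g29_ok, (okE_cons.2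 ⟨t_g30_ok, (okE_cons.2 ⟨t_g31_ok, (okE_cons.2 ⟨t_g34_ok, (okE_cons.2 ⟨t_g86_ok, (okE_cons.2 ⟨t_g87_ok, (okE_cons.2 ⟨t_g88_ok, (okE_cons.2 ⟨t_g89_ok, (okE_cons.2 ⟨t_g90_ok, (okE_cons.2 ⟨t_g91_ok, (okE_cons.2 ⟨t_g92_ok, (okE_cons.2 ⟨t_g93_ok, (okE_cons.2 ⟨t_g292_ok, (okE_cons.2 ⟨t_g293_ok, (okE_cons.2 ⟨t_g192_ok, (okE_cons.2 ⟨t_g193_ok, (okE_cons.2 ⟨t_g194_ok, (okE_cons.2 ⟨t_g134_ok, (okE_cons.2 ⟨t_g135_ok, (okE_cons.2 ⟨t_g136_ok, (okE_cons.2 ⟨t_g137_ok, (okE_cons.2 ⟨t_g133_ok, (okE_nil 100)⟩)⟩)⟩)⟩)⟩)⟩)⟩)⟩)⟩)⟩)⟩)⟩)⟩)⟩)⟩)⟩)⟩)⟩)⟩)⟩)⟩)⟩)⟩)⟩)⟩)⟩)⟩)⟩)⟩)⟩)⟩)⟩)⟩)⟩)⟩)⟩)⟩)⟩)⟩)⟩)⟩)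

noncomputable def t_g298 : Net := (Net.cons (nat_lit 1) (nat_lit 0x411454500101045550441150) (Net.cons (nat_lit 2) (nat_lit 0x1313130212112203231210020) (Net.cons (nat_lit 4) (nat_lit 0x60407070d060e0305080105) (Net.cons (nat_lit 8) (nat_lit 0x1400640060008d0015000a) (Net.cons (nat_lit 16) (nat_lit 0xc88500001b8400000004) (Net.cons (nat_lit 32) (nat_lit 0x800000000cfb21050) (Net.cons (nat_lit 64) (nat_lit 0x1fffbb6ff) (Net.cons (nat_lit 32) (nat_lit 0x60000000020cbc066) (Net.cons (nat_lit 16) (nat_lit 0x8ad7000043da0000eb38) (Net.cons (nat_lit 8) (nat_lit 0xea00d90088005e005a008d) (Net.cons (nat_lit 4) (nat_lit 0xa0700010d0a0e0802080405) (Net.cons (nat_lit 2) (nat_lit 0x3313010322320310100131003) (Net.cons (nat_lit 1) (nat_lit 0x155411141541011514011404) Net.nil)))))))))))))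

theorem t_g298_ok : Net.ok 100 t_g298 = true := by decide +kernel

noncomputable def t_g299 : Net := (Net.cons (nat_lit 1) (nat_lit 0x1545045104115511040501010) (Net.cons (nat_lit 2) (nat_lit 0x200122320010013001011300) (Net.cons (nat_lit 4) (nat_lit 0xc080304020f01020b060701) (Net.cons (nat_lit 8) (nat_lit 0xc50056002f00a500d20001) (Net.cons (nat_lit 16) (nat_lit 0x900c0000006800000002) (Net.cons (nat_lit 32) (nat_lit 0x1000000005df36000) (Net.cons (nat_lit 64) (nat_lit 0x4fffff363) (Net.cons (nat_lit 32) (nat_lit 0x3000000000a209a58) (Net.cons (nat_lit 16) (nat_lit 0xa526000006530000fe81) (Net.cons (nat_lit 8) (nat_lit 0x61008c0025002f00390049) (Net.cons (nat_lit 4) (nat_lit 0xb0b0a0301040d0f090e0301) (Net.cons (nat_lit 2) (nat_lit 0x321311003021032313321131) (Net.cons (nat_lit 1) (nat_lit 0x5554110410444140414104050) Net.nil)))))))))))))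

theorem t_g299_ok : Net.ok 100 t_g299 = true := by decide +kernel

noncomputable def t_g300 : Net := (Net.cons (nat_lit 1) (nat_lit 0x444105450001510500400440) (Net.cons (nat_lit 2) (nat_lit 0x311021110330032303000000) (Net.cons (nat_lit 4) (nat_lit 0x50000060a05040206010200) (Net.cons (nat_lit 8) (nat_lit 0x1400230029001a000e0000) (Net.cons (nat_lit 16) (nat_lit 0x20100000040800000005) (Net.cons (nat_lit 32) (nat_lit 0x40000000022110200) (Net.cons (nat_lit 64) (nat_lit 0x12f910b95) (Net.cons (nat_lit 32) (nat_lit 0x5000000002263c61b) (Net.cons (nat_lit 16) (nat_lit 0xa88f0000859300002897) (Net.cons (nat_lit 8) (nat_lit 0xfc00ab0029003e000e0088) (Net.cons (nat_lit 4) (nat_lit 0xd08080e02050c0206090a08) (Net.cons (nat_lit 2) (nat_lit 0x2311021111330032303000000) (Net.cons (nat_lit 1) (nat_lit 0x444145450001510500400440) Net.nil)))))))))))))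

theorem t_g300_ok : Net.ok 100 t_g300 = true := by decide +kernel

noncomputable def t_g301 : Net := (Net.cons (nat_lit 1) (nat_lit 0x140144501115011145115000) (Net.cons (nat_lit 2) (nat_lit 0x2201101001113013131120120) (Net.cons (nat_lit 4) (nat_lit 0x30002020d08000203090c04) (Net.cons (nat_lit 8) (nat_lit 0xc80097004d004800150003) (Net.cons (nat_lit 16) (nat_lit 0x8f1a0000abcb0000000a) (Net.cons (nat_lit 32) (nat_lit 0x1004cc00) (Net.cons (nat_lit 64) (nat_lit 0xb1f5cdc9b) (Net.cons (nat_lit 32) (nat_lit 0xc0000000008662798) (Net.cons (nat_lit 16) (nat_lit 0x45d80000b39f0000787a) (Net.cons (nat_lit 8) (nat_lit 0x3f004500fd001d00e700f7) (Net.cons (nat_lit 4) (nat_lit 0x7000202090c0a0603090c04) (Net.cons (nat_lit 2) (nat_lit 0x2201101001113233131120120) (Net.cons (nat_lit 1) (nat_lit 0x140144501115011145115000) Net.nil)))))))))))))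

theorem t_g301_ok : Net.ok 100 t_g301 = true := by decide +kernel

noncomputable def t_g302 : Net := (Net.cons (nat_lit 1) (nat_lit 0x1151010001010404410001100) (Net.cons (nat_lit 2) (nat_lit 0x1022110220020300100011200) (Net.cons (nat_lit 4) (nat_lit 0xc0404020308000e000a0500) (Net.cons (nat_lit 8) (nat_lit 0xc600a100e0000100210000) (Net.cons (nat_lit 16) (nat_lit 0x6800000888400000008) (Net.cons (nat_lit 32) (nat_lit 0x80000000080402280) (Net.cons (nat_lit 64) (nat_lit 0x6c460a2a8) (Net.cons (nat_lit 32) (nat_lit 0x9000000008954a300) (Net.cons (nat_lit 16) (nat_lit 0x86a6000008ac00003029) (Net.cons (nat_lit 8) (nat_lit 0x5f00a1006200010021008c) (Net.cons (nat_lit 4) (nat_lit 0xc0404020308010e000a0500) (Net.cons (nat_lit 2) (nat_lit 0x1022110220020300100011210) (Net.cons (nat_lit 1) (nat_lit 0x1151010001010404410001100) Net.nil)))))))))))))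

theorem t_g302_ok : Net.ok 100 t_g302 = true := by decide +kernel

noncomputable def nt_c19_K : List Net := [t_g298, t_g299, t_g300, t_g301, t_g302]

theorem nt_c19_K_ok : okE 100 nt_c19_K = true := (okE_cons.2 ⟨t_g298_ok, (okE_cons.2 ⟨t_g299_ok, (okE_cons.2 ⟨t_g300_ok, (okE_cons.2 ⟨t_g301_ok, (okE_cons.2 ⟨t_g302_ok, (okE_nil 100)⟩)⟩)⟩)⟩)⟩)

noncomputable def t_g304 : Net := (Net.cons (nat_lit 1) (nat_lit 0x4510404445404050410404004) (Net.cons (nat_lit 2) (nat_lit 0x30120312011300112323010) (Net.cons (nat_lit 4) (nat_lit 0x80d09020e080f070f080303) (Net.cons (nat_lit 8) (nat_lit 0x9100690033003700200003) (Net.cons (nat_lit 16) (nat_lit 0x501a000084ad0000000c) (Net.cons (nat_lit 32) (nat_lit 0x200000000318aad00) (Net.cons (nat_lit 64) (nat_lit 0x5339bed8a) (Net.cons (nat_lit 32) (nat_lit 0x800000000b2af9a40) (Net.cons (nat_lit 16) (nat_lit 0x8033000084860000eb89) (Net.cons (nat_lit 8) (nat_lit 0x78006b0035001900110000)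 (Net.cons (nat_lit 4) (nat_lit 0x806000b0a090d0a04070707) (Net.cons (nat_lit 2) (nat_lit 0x3013303013013303310020032) (Net.cons (nat_lit 1) (nat_lit 0x4151504101045401415150514) Net.nil)))))))))))))

theorem t_g304_ok : Net.ok 100 t_g304 = true := by decide +kernel

noncomputable def t_g305 : Net := (Net.cons (nat_lit 1) (nat_lit 0x4100500001044510504010004) (Net.cons (nat_lit 2) (nat_lit 0x2200101010032102110112000) (Net.cons (nat_lit 4) (nat_lit 0xa05010e04090f0e020a0000) (Net.cons (nat_lit 8) (nat_lit 0x9d00100084004d00010000) (Net.cons (nat_lit 16) (nat_lit 0x445000041040000000e) (Net.cons (nat_lit 32) (nat_lit 0x7ac0010) (Net.cons (nat_lit 64) (nat_lit 0xa07ad12da) (Net.cons (nat_lit 32) (nat_lit 0x600000000d6ad100c) (Net.cons (nat_lit 16) (nat_lit 0x9d45000049150000391e) (Net.cons (nat_lit 8) (nat_lit 0x9d00010094005a00110010) (Net.cons (nat_lit 4) (nat_lit 0xa0c080f04080e0f030b0100) (Net.cons (nat_lit 2) (nat_lit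 0x200101210032302110312002) (Net.cons (nat_lit 1) (nat_lit 0x4100500401044454504010004) Net.nil)))))))))))))

theorem t_g305_ok : Net.ok 100 t_g305 = true := by decide +kernel

noncomputable def t_g306 : Net := (Net.cons (nat_lit 1) (nat_lit 0x5444111015011401405510004) (Net.cons (nat_lit 2) (nat_lit 0x2202033001033111201201000) (Net.cons (nat_lit 4) (nat_lit 0xd040e0c0800010403010000) (Net.cons (nat_lit 8) (nat_lit 0x4800140000001400100000) (Net.cons (nat_lit 16) (nat_lit 0x80240000152600000001) (Net.cons (nat_lit 32) (nat_lit 0x10000000020249040) (Net.cons (nat_lit 64) (nat_lit 0x6a86c9be1) (Net.cons (nat_lit 32) (nat_lit 0x100000000b5e61010) (Net.cons (nat_lit 16) (nat_lit 0x48660000dd6e00009851) (Net.cons (nat_lit 8) (nat_lit 0x4900140000000400200010) (Net.cons (nat_lit 4) (nat_lit 0xd040e0c0800010403010000) (Net.cons (nat_lit 2) (nat_lit 0x2202033001033111201201002) (Net.cons (nat_lit 1) (nat_lit 0x5444111015011401405510004)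 Net.nil)))))))))))))

theorem t_g306_ok : Net.ok 100 t_g306 = true := by decide +kernel

noncomputable def t_g307 : Net := (Net.cons (nat_lit 1) (nat_lit 0x4150540404441101500040004) (Net.cons (nat_lit 2) (nat_lit 0x2313202101310121001300000) (Net.cons (nat_lit 4) (nat_lit 0x1090c000302000108000000) (Net.cons (nat_lit 8) (nat_lit 0x5300a5008a003400000002) (Net.cons (nat_lit 16) (nat_lit 0x92950000711700000000) (Net.cons (nat_lit 32) (nat_lit 0x1c51210) (Net.cons (nat_lit 64) (nat_lit 0x709dd9230) (Net.cons (nat_lit 32) (nat_lit 0x80000000057d53740) (Net.cons (nat_lit 16) (nat_lit 0x92870000fd2700000492) (Net.cons (nat_lit 8) (nat_lit 0x5300e5008a003400000002) (Net.cons (nat_lit 4) (nat_lit 0x1090c00030a080108040000) (Net.cons (nat_lit 2) (nat_lit 0x3313202101313321001300002) (Net.cons (nat_lit 1) (nat_lit 0x4150540404441101500040004) Net.nil)))))))))))))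

theorem t_g307_ok : Net.ok 100 t_g307 = true := by decide +kernel

noncomputable def t_V308 : List Net := [t_g304, t_g72, t_g305, t_g25, t_g306, t_g307]

theorem t_V308_ok : okE 100 t_V308 = true := (okE_cons.2 ⟨t_g304_ok, (okE_cons.2 ⟨t_g72_ok, (okE_cons.2 ⟨t_g305_ok, (okE_cons.2 ⟨t_g25_ok, (okE_cons.2 ⟨t_g306_ok, (okE_cons.2 ⟨t_g307_ok, (okE_nil 100)⟩)⟩)⟩)⟩)⟩)⟩)

noncomputable def t_V310 : List Net := [t_g72, t_g305, t_g25, t_g306, t_g307]

theorem t_V310_ok : okE 100 t_V310 = true := (okE_cons.2 ⟨t_g72_ok, (okE_cons.2 ⟨t_g305_ok, (okE_cons.2 ⟨t_g25_ok, (okE_cons.2 ⟨t_g306_ok, (okE_cons.2 ⟨t_g307_ok, (okE_nil 100)⟩)⟩)⟩)⟩)⟩)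

noncomputable def t_V311 : List Net := [t_g25, t_g306, t_g307]

theorem t_V311_ok : okE 100 t_V311 = true := (okE_cons.2 ⟨t_g25_ok, (okE_cons.2 ⟨t_g306_ok, (okE_cons.2 ⟨t_g307_ok, (okE_nil 100)⟩)⟩)⟩)

noncomputable def t_V312 : List Net := [t_g307]

theorem t_V312_ok : okE 100 t_V312 = true := (okE_cons.2 ⟨t_g307_ok, (okE_nil 100)⟩)

noncomputable def t_V313 : List Net := []

theorem t_V313_ok : okE 100 t_V313 = true := (okE_nil 100)

noncomputable def nt_c19_cnt_EG : List Net := [MpHS.a, HSM.g1, HSM.g2, t_g1, t_g2, t_g5, t_g6, t_g9, t_g10, t_g13, t_g14, t_g15, t_g18, t_g19, t_g20, t_g23, t_g24, t_g25, t_g28, t_g29, t_g30, t_g31, t_g34, t_g86, t_g87, t_g88, t_g89, t_g90, t_g91, t_g92, t_g93, t_g72, t_g305, t_g306, t_g307, t_g304, t_g113, t_g114, t_g115, t_g116, t_g117]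

theorem nt_c19_cnt_EG_ok : okE 100 nt_c19_cnt_EG = true := (okE_cons.2 ⟨MpHS.a_ok, (okE_cons.2 ⟨HSM.g1_ok, (okE_cons.2 ⟨HSM.g2_ok, (okE_cons.2 ⟨t_g1_ok, (okE_cons.2 ⟨t_g2_ok, (okE_cons.2 ⟨t_g5_ok, (okE_cons.2 ⟨t_g6_ok, (okE_cons.2 ⟨t_g9_ok, (okE_cons.2 ⟨t_g10_ok, (okE_cons.2 ⟨t_g13_ok, (okE_cons.2 ⟨t_g14_ok, (okE_cons.2 ⟨t_g15_ok, (okE_cons.2 ⟨t_g18_ok, (okE_cons.2 ⟨t_g19_ok, (okE_cons.2 ⟨t_g20_ok, (okE_cons.2 ⟨t_g23_ok, (okE_cons.2 ⟨t_g24_ok, (okE_cons.2 ⟨t_g25_ok, (okE_cons.2 ⟨t_g28_ok, (okE_cons.2 ⟨t_g29_ok, (okE_cons.2 ⟨t_g30_ok, (okE_cons.2 ⟨t_g31_ok, (okE_cons.2 ⟨t_g34_ok, (okE_cons.2 ⟨t_g86_ok, (okE_cons.2 ⟨t_g87_ok, (okE_cons.2 ⟨t_g88_ok, (okE_cons.2 ⟨t_g89_ok, (okE_cons.2 ⟨t_g90_ok, (okE_cons.2 ⟨t_g91_ok, (okE_cons.2 ⟨t_g92_ok, (okE_cons.2 ⟨t_g93_ok, (okE_cons.2 ⟨t_g72_ok, (okE_cons.2 ⟨t_g305_ok, (okE_cons.2 ⟨t_g306_ok, (okE_cons.2 ⟨t_g307_ok, (okE_cons.2 ⟨t_g304_ok, (okE_cons.2 ⟨t_g113_ok, (okE_cons.2 ⟨t_g114_ok,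 (okE_cons.2 ⟨t_g115_ok, (okE_cons.2 ⟨t_g116_ok, (okE_cons.2 ⟨t_g117_ok, (okE_nil 100)⟩)⟩)⟩)⟩)⟩)⟩)⟩)⟩)⟩)⟩)⟩)⟩)⟩)⟩)⟩)⟩)⟩)⟩)⟩)⟩)⟩)⟩)⟩)⟩)⟩)⟩)⟩)⟩)⟩)⟩)⟩)⟩)⟩)⟩)⟩)⟩)⟩)⟩)⟩)⟩)⟩)

noncomputable def t_g314 : Net := (Net.cons (nat_lit 1) (nat_lit 0x4141001414015105045544100) (Net.cons (nat_lit 2) (nat_lit 0x1023003023012121311031300) (Net.cons (nat_lit 4) (nat_lit 0x20202030d0b030200030a0c) (Net.cons (nat_lit 8) (nat_lit 0x260033005d00e10014000c) (Net.cons (nat_lit 16) (nat_lit 0xd571000020b400000000) (Net.cons (nat_lit 32) (nat_lit 0x200000000044aa000) (Net.cons (nat_lit 64) (nat_lit 0xc356af6db) (Net.cons (nat_lit 32) (nat_lit 0x1000000009ce9ca15) (Net.cons (nat_lit 16) (nat_lit 0x7d0b00006e9a0000b97f) (Net.cons (nat_lit 8) (nat_lit 0xbf0083006c00f4008c00fa) (Net.cons (nat_lit 4) (nat_lit 0xd0e0b0c090908090b040e05) (Net.cons (nat_lit 2) (nat_lit 0x2130120301321300013310213) (Net.cons (nat_lit 1) (nat_lit 0x5145405110540100051505100)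 Net.nil)))))))))))))

theorem t_g314_ok : Net.ok 100 t_g314 = true := by decide +kernel

noncomputable def t_g315 : Net := (Net.cons (nat_lit 1) (nat_lit 0x4505140041441514440504400) (Net.cons (nat_lit 2) (nat_lit 0x300030323110022032311220) (Net.cons (nat_lit 4) (nat_lit 0xc0f04090901030105090f05) (Net.cons (nat_lit 8) (nat_lit 0xbc00eb00cf005600780008) (Net.cons (nat_lit 16) (nat_lit 0x20350000811e00000000) (Net.cons (nat_lit 32) (nat_lit 0x10000000010ce19d0) (Net.cons (nat_lit 64) (nat_lit 0x6fecf1ff9) (Net.cons (nat_lit 32) (nat_lit 0x900000000dee3360c) (Net.cons (nat_lit 16) (nat_lit 0x4af200002f8900004197) (Net.cons (nat_lit 8) (nat_lit 0xe1006900b70024006e0039) (Net.cons (nat_lit 4) (nat_lit 0x10f0008040c09030e090400) (Net.cons (nat_lit 2) (nat_lit 0x2133023101131011322200100) (Net.cons (nat_lit 1) (nat_lit 0x4041054445014504445010545) Net.nil)))))))))))))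

theorem t_g315_ok : Net.ok 100 t_g315 = true := by decide +kernel

noncomputable def nt_c20_K : List Net := [t_g314, t_g315]

theorem nt_c20_K_ok : okE 100 nt_c20_K = true := (okE_cons.2 ⟨t_g314_ok, (okE_cons.2 ⟨t_g315_ok, (okE_nil 100)⟩)⟩)

noncomputable def t_V317 : List Net := [t_g23]

theorem t_V317_ok : okE 100 t_V317 = true := (okE_cons.2 ⟨t_g23_ok, (okE_nil 100)⟩)

noncomputable def t_V319 : List Net := []

theorem t_V319_ok : okE 100 t_V319 = true := (okE_nil 100)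

noncomputable def nt_c20_cnt_EG : List Net := [MpHS.a, HSM.g1, HSM.g2, t_g1, t_g2, t_g5, t_g6, t_g9, t_g10, t_g13, t_g14, t_g15, t_g18, t_g19, t_g20, t_g23, t_g24, t_g25, t_g28, t_g29, t_g30, t_g31, t_g34]

theorem nt_c20_cnt_EG_ok : okE 100 nt_c20_cnt_EG = true := (okE_cons.2 ⟨MpHS.a_ok, (okE_cons.2 ⟨HSM.g1_ok, (okE_cons.2 ⟨HSM.g2_ok, (okE_cons.2 ⟨t_g1_ok, (okE_cons.2 ⟨t_g2_ok, (okE_cons.2 ⟨t_g5_ok, (okE_cons.2 ⟨t_g6_ok, (okE_cons.2 ⟨t_g9_ok, (okE_cons.2 ⟨t_g10_ok, (okE_cons.2 ⟨t_g13_ok, (okE_cons.2 ⟨t_g14_ok, (okE_cons.2 ⟨t_g15_ok, (okE_cons.2 ⟨t_g18_ok, (okE_cons.2 ⟨t_g19_ok, (okE_cons.2 ⟨t_g20_ok, (okE_cons.2 ⟨t_g23_ok, (okE_cons.2 ⟨t_g24_ok, (okE_cons.2 ⟨t_g25_ok, (okE_cons.2 ⟨t_g28_ok, (okE_cons.2 ⟨t_g29_ok, (okE_cons.2 ⟨t_g30_ok, (okE_cons.2 ⟨t_g31_ok, (okE_cons.2 ⟨t_g34_ok, (okE_nil 100)⟩)⟩)⟩)⟩)⟩)⟩)⟩)⟩)⟩)⟩)⟩)⟩)⟩)⟩)⟩)⟩)⟩)⟩)⟩)⟩)⟩)⟩)⟩)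

noncomputable def t_g320 : Net := (Net.cons (nat_lit 1) (nat_lit 0x1410414055415505401410504) (Net.cons (nat_lit 2) (nat_lit 0x1211221231220200000211020) (Net.cons (nat_lit 4) (nat_lit 0x903000f000d0205040d0a0b) (Net.cons (nat_lit 8) (nat_lit 0x1e0082000d008000000002) (Net.cons (nat_lit 16) (nat_lit 0xbb12000088880000000d) (Net.cons (nat_lit 32) (nat_lit 0x80000000040502880) (Net.cons (nat_lit 64) (nat_lit 0xbd1dc7b86) (Net.cons (nat_lit 32) (nat_lit 0x6000000002eb3bfca) (Net.cons (nat_lit 16) (nat_lit 0x127800009a4c000030b3) (Net.cons (nat_lit 8) (nat_lit 0x120004009d0005006a00c1) (Net.cons (nat_lit 4) (nat_lit 0xf0e03070203030f0d090f06) (Net.cons (nat_lit 2) (nat_lit 0x3232210220212313231001230) (Net.cons (nat_lit 1) (nat_lit 0x14110011141001514050104) Net.nil)))))))))))))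

theorem t_g320_ok : Net.ok 100 t_g320 = true := by decide +kernel

noncomputable def t_g321 : Net := (Net.cons (nat_lit 1) (nat_lit 0x1100450400401045014115540) (Net.cons (nat_lit 2) (nat_lit 0x201210212132130023320300) (Net.cons (nat_lit 4) (nat_lit 0x905040408000803030b0609) (Net.cons (nat_lit 8) (nat_lit 0x8400cc008000460000000c) (Net.cons (nat_lit 16) (nat_lit 0xd61200001c2000000000) (Net.cons (nat_lit 32) (nat_lit 0xc4a00a90) (Net.cons (nat_lit 64) (nat_lit 0xcdca2ae98) (Net.cons (nat_lit 32) (nat_lit 0x3000000005c80e282) (Net.cons (nat_lit 16) (nat_lit 0x6ee6000095e10000bbb1) (Net.cons (nat_lit 8) (nat_lit 0xb400e800b700770074003c) (Net.cons (nat_lit 4) (nat_lit 0x905040408000803030b0609) (Net.cons (nat_lit 2) (nat_lit 0x331200312132132123320300) (Net.cons (nat_lit 1) (nat_lit 0x1100451400401045014115540) Net.nil)))))))))))))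

theorem t_g321_ok : Net.ok 100 t_g321 = true := by decide +kernel

noncomputable def t_g322 : Net := (Net.cons (nat_lit 1) (nat_lit 0x4011041414451140151104410) (Net.cons (nat_lit 2) (nat_lit 0x1003000332312201201002300) (Net.cons (nat_lit 4) (nat_lit 0x1020c0508020a08000c0c01) (Net.cons (nat_lit 8) (nat_lit 0xac008700ed003000200009) (Net.cons (nat_lit 16) (nat_lit 0x133c0000000800000001) (Net.cons (nat_lit 32) (nat_lit 0x213800) (Net.cons (nat_lit 64) (nat_lit 0xbfefbbf67) (Net.cons (nat_lit 32) (nat_lit 0x70000000014fb8310) (Net.cons (nat_lit 16) (nat_lit 0xb74e0000d71300009d58) (Net.cons (nat_lit 8) (nat_lit 0xc900e40004001200c7005d) (Net.cons (nat_lit 4) (nat_lit 0x3000f010f010b0b07070407) (Net.cons (nat_lit 2) (nat_lit 0x3303202120203021212332132) (Net.cons (nat_lit 1) (nat_lit 0x1515141545055140055055045) Net.nil)))))))))))))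

theorem t_g322_ok : Net.ok 100 t_g322 = true := by decide +kernel

noncomputable def t_g323 : Net := (Net.cons (nat_lit 1) (nat_lit 0x5055440514550040510500) (Net.cons (nat_lit 2) (nat_lit 0x301020300031002210032000) (Net.cons (nat_lit 4) (nat_lit 0x206020f0209050a00090400) (Net.cons (nat_lit 8) (nat_lit 0x1a000700e0008500a00003) (Net.cons (nat_lit 16) (nat_lit 0xe000000016c000000004) (Net.cons (nat_lit 32) (nat_lit 0x3b10c980) (Net.cons (nat_lit 64) (nat_lit 0x3bb14db81) (Net.cons (nat_lit 32) (nat_lit 0xc00000000fbe15d84) (Net.cons (nat_lit 16) (nat_lit 0x7c0200008ec80000b11c) (Net.cons (nat_lit 8) (nat_lit 0xa000700f000a500b00053) (Net.cons (nat_lit 4) (nat_lit 0x206020f0209050a00090400) (Net.cons (nat_lit 2) (nat_lit 0x301020300031002212032200) (Net.cons (nat_lit 1) (nat_lit 0x5055440514550040510500) Net.nil)))))))))))))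

theorem t_g323_ok : Net.ok 100 t_g323 = true := by decide +kernel

noncomputable def nt_c21_K : List Net := [t_g320, t_g321, t_g322, t_g60, t_g323]

theorem nt_c21_K_ok : okE 100 nt_c21_K = true := (okE_cons.2 ⟨t_g320_ok, (okE_cons.2 ⟨t_g321_ok, (okE_cons.2 ⟨t_g322_ok, (okE_cons.2 ⟨t_g60_ok, (okE_cons.2 ⟨t_g323_ok, (okE_nil 100)⟩)⟩)⟩)⟩)⟩)

noncomputable def t_g325 : Net := (Net.cons (nat_lit 1) (nat_lit 0x4501544015151441550054000) (Net.cons (nat_lit 2) (nat_lit 0x2011232020010213320003200) (Net.cons (nat_lit 4) (nat_lit 0xe0a050d0b000d040b0a0404) (Net.cons (nat_lit 8) (nat_lit 0x43009f009a009b005c0001) (Net.cons (nat_lit 16) (nat_lit 0xd0a20000408400000000) (Net.cons (nat_lit 32) (nat_lit 0xa0000000008120030) (Net.cons (nat_lit 64) (nat_lit 0xf0e96de35) (Net.cons (nat_lit 32) (nat_lit 0x1000000005eb80220) (Net.cons (nat_lit 16) (nat_lit 0x7b040000636f00007c91) (Net.cons (nat_lit 8) (nat_lit 0xd2001600b2009f009c00b5)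 (Net.cons (nat_lit 4) (nat_lit 0xe090509090e0a03030e0b04) (Net.cons (nat_lit 2) (nat_lit 0x3310230023323001302223230) (Net.cons (nat_lit 1) (nat_lit 0x541145015100051550415450) Net.nil)))))))))))))

theorem t_g325_ok : Net.ok 100 t_g325 = true := by decide +kernel

noncomputable def t_g326 : Net := (Net.cons (nat_lit 1) (nat_lit 0x44004040444014005400500) (Net.cons (nat_lit 2) (nat_lit 0x1322130130100223000010000) (Net.cons (nat_lit 4) (nat_lit 0xb0c0804090a060009020400) (Net.cons (nat_lit 8) (nat_lit 0x110059002500d900a80000) (Net.cons (nat_lit 16) (nat_lit 0xe1200000700400000009) (Net.cons (nat_lit 32) (nat_lit 0x120b2080) (Net.cons (nat_lit 64) (nat_lit 0x89a8b71e8) (Net.cons (nat_lit 32) (nat_lit 0x900000000635fb099) (Net.cons (nat_lit 16) (nat_lit 0xb56400002c6400001609) (Net.cons (nat_lit 8) (nat_lit 0x55001d0065009b00e80040) (Net.cons (nat_lit 4) (nat_lit 0xb0c0a06090a060009020400) (Net.cons (nat_lit 2) (nat_lit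 0x1322130130100223000010000) (Net.cons (nat_lit 1) (nat_lit 0x44004040444014005400500) Net.nil)))))))))))))

theorem t_g326_ok : Net.ok 100 t_g326 = true := by decide +kernel

noncomputable def t_V327 : List Net := [t_g325, t_g326]

theorem t_V327_ok : okE 100 t_V327 = true := (okE_cons.2 ⟨t_g325_ok, (okE_cons.2 ⟨t_g326_ok, (okE_nil 100)⟩)⟩)

noncomputable def t_V329 : List Net := [t_g326]

theorem t_V329_ok : okE 100 t_V329 = true := (okE_cons.2 ⟨t_g326_ok, (okE_nil 100)⟩)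

noncomputable def t_V330 : List Net := []

theorem t_V330_ok : okE 100 t_V330 = true := (okE_nil 100)

noncomputable def nt_c21_cnt_EG : List Net := [t_g1, t_g2, t_g5, t_g6, t_g9, t_g10, t_g13, t_g14, t_g15, t_g18, t_g19, t_g20, t_g23, t_g24, t_g25, t_g28, t_g29, t_g30, t_g31, t_g34, MpHS.a, HSM.g1, HSM.g2, t_g325, t_g326]

theorem nt_c21_cnt_EG_ok : okE 100 nt_c21_cnt_EG = true := (okE_cons.2 ⟨t_g1_ok, (okE_cons.2 ⟨t_g2_ok, (okE_cons.2 ⟨t_g5_ok, (okE_cons.2 ⟨t_g6_ok, (okE_cons.2 ⟨t_g9_ok, (okE_cons.2 ⟨t_g10_ok, (okE_cons.2 ⟨t_g13_ok, (okE_cons.2 ⟨t_g14_ok, (okE_cons.2 ⟨t_g15_ok, (okE_cons.2 ⟨t_g18_ok, (okE_cons.2 ⟨t_g19_ok, (okE_cons.2 ⟨t_g20_ok, (okE_cons.2 ⟨t_g23_ok, (okE_cons.2 ⟨t_g24_ok, (okE_cons.2 ⟨t_g25_ok, (okE_cons.2 ⟨t_g28_ok, (okE_cons.2 ⟨t_g29_ok, (okE_cons.2 ⟨t_g30_ok, (okE_cons.2 ⟨t_g31_ok, (okE_cons.2 ⟨t_g34_ok, (okE_cons.2 ⟨MpHS.a_ok, (okE_cons.2 ⟨HSM.g1_ok, (okE_cons.2 ⟨HSM.g2_ok, (okE_cons.2 ⟨t_g325_ok,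 (okE_cons.2 ⟨t_g326_ok, (okE_nil 100)⟩)⟩)⟩)⟩)⟩)⟩)⟩)⟩)⟩)⟩)⟩)⟩)⟩)⟩)⟩)⟩)⟩)⟩)⟩)⟩)⟩)⟩)⟩)⟩)⟩)

noncomputable def t_g331 : Net := (Net.cons (nat_lit 1) (nat_lit 0x5400415100544511455001000) (Net.cons (nat_lit 2) (nat_lit 0x1030221023322231310301030) (Net.cons (nat_lit 4) (nat_lit 0x20a0f070d020403040d0808) (Net.cons (nat_lit 8) (nat_lit 0xc100c600bb001100d00003) (Net.cons (nat_lit 16) (nat_lit 0xac090000136600000009) (Net.cons (nat_lit 32) (nat_lit 0xd0000000005821600) (Net.cons (nat_lit 64) (nat_lit 0xc8dd77721) (Net.cons (nat_lit 32) (nat_lit 0x300000000f51e71f0) (Net.cons (nat_lit 16) (nat_lit 0xe1a3000069110000e92f) (Net.cons (nat_lit 8) (nat_lit 0x6000f600d3007100b3004e) (Net.cons (nat_lit 4) (nat_lit 0xe0d020d0d0905040c040909) (Net.cons (nat_lit 2) (nat_lit 0x2221113033020103310330022) (Net.cons (nat_lit 1) (nat_lit 0x4555541050111440504101010) Net.nil)))))))))))))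

theorem t_g331_ok : Net.ok 100 t_g331 = true := by decide +kernel

noncomputable def t_g332 : Net := (Net.cons (nat_lit 1) (nat_lit 0x1105550140040054140010100) (Net.cons (nat_lit 2) (nat_lit 0x1201330000011131022012010) (Net.cons (nat_lit 4) (nat_lit 0x90f0f0903000508000000) (Net.cons (nat_lit 8) (nat_lit 0x4800ae0012002e00420008) (Net.cons (nat_lit 16) (nat_lit 0xf06300000a2e00000009) (Net.cons (nat_lit 32) (nat_lit 0xc0000000082180020) (Net.cons (nat_lit 64) (nat_lit 0x5fe1a0478) (Net.cons (nat_lit 32) (nat_lit 0x300000000a4db6c10) (Net.cons (nat_lit 16) (nat_lit 0xd2aa00000d3a000022d1) (Net.cons (nat_lit 8) (nat_lit 0x2000a00051002c00410068) (Net.cons (nat_lit 4) (nat_lit 0x4080d090f0e0f090c090202) (Net.cons (nat_lit 2) (nat_lit 0x323330230233310112013012) (Net.cons (nat_lit 1) (nat_lit 0x5004500501045454140050141) Net.nil)))))))))))))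

theorem t_g332_ok : Net.ok 100 t_g332 = true := by decide +kernel

noncomputable def t_g333 : Net := (Net.cons (nat_lit 1) (nat_lit 0x5555550550051115150050050) (Net.cons (nat_lit 2) (nat_lit 0x130001331120211020121320) (Net.cons (nat_lit 4) (nat_lit 0xc0a0d0702050a040c01020c) (Net.cons (nat_lit 8) (nat_lit 0x1400080092009900520009) (Net.cons (nat_lit 16) (nat_lit 0x90060000066b0000000d) (Net.cons (nat_lit 32) (nat_lit 0xa0000000007108130) (Net.cons (nat_lit 64) (nat_lit 0xb47d6fd34) (Net.cons (nat_lit 32) (nat_lit 0x600000000d2ad6360) (Net.cons (nat_lit 16) (nat_lit 0xd102000042ff00008c47) (Net.cons (nat_lit 8) (nat_lit 0xc100010001006b00c60059) (Net.cons (nat_lit 4) (nat_lit 0x90f0b0606040b00010b0500) (Net.cons (nat_lit 2) (nat_lit 0x300031231033121022120223) (Net.cons (nat_lit 1) (nat_lit 0x5555544451045155151155044) Net.nil)))))))))))))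

theorem t_g333_ok : Net.ok 100 t_g333 = true := by decide +kernel

noncomputable def t_g334 : Net := (Net.cons (nat_lit 1) (nat_lit 0x5541401044150110011004500) (Net.cons (nat_lit 2) (nat_lit 0x3023001201013331023000030) (Net.cons (nat_lit 4) (nat_lit 0xb00000900060c0201040002) (Net.cons (nat_lit 8) (nat_lit 0x2000540021002800a00004) (Net.cons (nat_lit 16) (nat_lit 0x510000000bc00000001) (Net.cons (nat_lit 32) (nat_lit 0x20000000024403080) (Net.cons (nat_lit 64) (nat_lit 0x5b4d2b3c6) (Net.cons (nat_lit 32) (nat_lit 0x200000000240970f0) (Net.cons (nat_lit 16) (nat_lit 0x8570000002fe0000bd41) (Net.cons (nat_lit 8) (nat_lit 0x240054003000ac00a00004) (Net.cons (nat_lit 4) (nat_lit 0xa00000901070c020204010b) (Net.cons (nat_lit 2) (nat_lit 0x3223001201013331023000030) (Net.cons (nat_lit 1) (nat_lit 0x5541401144150110011004500) Net.nil)))))))))))))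

theorem t_g334_ok : Net.ok 100 t_g334 = true := by decide +kernel

noncomputable def nt_c22_K : List Net := [t_g331, t_g332, t_g333, t_g334]

theorem nt_c22_K_ok : okE 100 nt_c22_K = true := (okE_cons.2 ⟨t_g331_ok, (okE_cons.2 ⟨t_g332_ok, (okE_cons.2 ⟨t_g333_ok, (okE_cons.2 ⟨t_g334_ok, (okE_nil 100)⟩)⟩)⟩)⟩)

noncomputable def t_g336 : Net := (Net.cons (nat_lit 1) (nat_lit 0x4544014505101005101554000) (Net.cons (nat_lit 2) (nat_lit 0x3201231333122302230230200) (Net.cons (nat_lit 4) (nat_lit 0xe06050800010609090b0000) (Net.cons (nat_lit 8) (nat_lit 0xa000ba008200cf00920001) (Net.cons (nat_lit 16) (nat_lit 0x4100000127a00000003) (Net.cons (nat_lit 32) (nat_lit 0x29981c60) (Net.cons (nat_lit 64) (nat_lit 0xffdd9def3) (Net.cons (nat_lit 32) (nat_lit 0x1000000000f55980b) (Net.cons (nat_lit 16) (nat_lit 0xa65700009730000066f2) (Net.cons (nat_lit 8) (nat_lit 0xa2000a00d500c0009600c1) (Net.cons (nat_lit 4) (nat_lit 0x6010f0d0f0803030d0a0608)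 (Net.cons (nat_lit 2) (nat_lit 0x2010311200233312331012310) (Net.cons (nat_lit 1) (nat_lit 0x1501001014455454104440100) Net.nil)))))))))))))

theorem t_g336_ok : Net.ok 100 t_g336 = true := by decide +kernel

noncomputable def t_g337 : Net := (Net.cons (nat_lit 1) (nat_lit 0x4545545505140500044440004) (Net.cons (nat_lit 2) (nat_lit 0x2332002303130201112010000) (Net.cons (nat_lit 4) (nat_lit 0xc020702010c0102000c0a00) (Net.cons (nat_lit 8) (nat_lit 0x4d001400d0000c00580004) (Net.cons (nat_lit 16) (nat_lit 0x2b00000037900000008) (Net.cons (nat_lit 32) (nat_lit 0x123d1000) (Net.cons (nat_lit 64) (nat_lit 0x75bff7a14) (Net.cons (nat_lit 32) (nat_lit 0xc00000000162d157c) (Net.cons (nat_lit 16) (nat_lit 0x5a220000fb6900004818) (Net.cons (nat_lit 8) (nat_lit 0x7d001400d2001c00580004) (Net.cons (nat_lit 4) (nat_lit 0xd020706010c0103000c0a00) (Net.cons (nat_lit 2) (nat_lit 0x2330002103130201112030002) (Net.cons (nat_lit 1) (nat_lit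 0x4545545505140500044440004) Net.nil)))))))))))))

theorem t_g337_ok : Net.ok 100 t_g337 = true := by decide +kernel

noncomputable def t_V338 : List Net := [t_g336, t_g307, t_g337]

theorem t_V338_ok : okE 100 t_V338 = true := (okE_cons.2 ⟨t_g336_ok, (okE_cons.2 ⟨t_g307_ok, (okE_cons.2 ⟨t_g337_ok, (okE_nil 100)⟩)⟩)⟩)

noncomputable def t_V340 : List Net := [t_g307, t_g337]

theorem t_V340_ok : okE 100 t_V340 = true := (okE_cons.2 ⟨t_g307_ok, (okE_cons.2 ⟨t_g337_ok, (okE_nil 100)⟩)⟩)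

noncomputable def t_V341 : List Net := [t_g337]

theorem t_V341_ok : okE 100 t_V341 = true := (okE_cons.2 ⟨t_g337_ok, (okE_nil 100)⟩)

noncomputable def t_V342 : List Net := []

theorem t_V342_ok : okE 100 t_V342 = true := (okE_nil 100)

noncomputable def nt_c22_cnt_EG : List Net := [MpHS.a, HSM.g1, HSM.g2, t_g1, t_g2, t_g5, t_g6, t_g9, t_g10, t_g13, t_g14, t_g15, t_g18, t_g19, t_g20, t_g23, t_g24, t_g25, t_g28, t_g29, t_g30, t_g31, t_g34, t_g86, t_g87, t_g88, t_g89, t_g90, t_g91, t_g92, t_g93, t_g307, t_g337, t_g336, t_g304, t_g72, t_g305, t_g306, t_g113, t_g114, t_g115, t_g116, t_g117]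

theorem nt_c22_cnt_EG_ok : okE 100 nt_c22_cnt_EG = true := (okE_cons.2 ⟨MpHS.a_ok, (okE_cons.2 ⟨HSM.g1_ok, (okE_cons.2 ⟨HSM.g2_ok, (okE_cons.2 ⟨t_g1_ok, (okE_cons.2 ⟨t_g2_ok, (okE_cons.2 ⟨t_g5_ok, (okE_cons.2 ⟨t_g6_ok, (okE_cons.2 ⟨t_g9_ok, (okE_cons.2 ⟨t_g10_ok, (okE_cons.2 ⟨t_g13_ok, (okE_cons.2 ⟨t_g14_ok, (okE_cons.2 ⟨t_g15_ok, (okE_cons.2 ⟨t_g18_ok, (okE_cons.2 ⟨t_g19_ok, (okE_cons.2 ⟨t_g20_ok, (okE_cons.2 ⟨t_g23_ok, (okE_cons.2 ⟨t_g24_ok, (okE_cons.2 ⟨t_g25_ok, (okE_cons.2 ⟨t_g28_ok, (okE_cons.2 ⟨t_g29_ok, (okE_cons.2 ⟨t_g30_ok, (okE_cons.2 ⟨t_g31_ok, (okE_cons.2 ⟨t_g34_ok, (okE_cons.2 ⟨t_g86_ok, (okE_cons.2 ⟨t_g87_ok, (okE_cons.2 ⟨t_g88_ok, (okE_cons.2 ⟨t_g89_ok, (okE_cons.2 ⟨t_g90_ok, (okE_cons.2 ⟨t_g91_ok, (okE_cons.2 ⟨t_g92_ok, (okE_cons.2 ⟨t_g93_ok, (okE_cons.2 ⟨t_g307_ok, (okE_cons.2 ⟨t_g337_ok, (okE_cons.2 ⟨t_g336_ok, (okE_cons.2 ⟨t_g304_ok, (okE_cons.2 ⟨t_g72_ok, (okE_cons.2 ⟨t_g305_ok, (okE_cons.2 ⟨t_g306_ok,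 (okE_cons.2 ⟨t_g113_ok, (okE_cons.2 ⟨t_g114_ok, (okE_cons.2 ⟨t_g115_ok, (okE_cons.2 ⟨t_g116_ok, (okE_cons.2 ⟨t_g117_ok, (okE_nil 100)⟩)⟩)⟩)⟩)⟩)⟩)⟩)⟩)⟩)⟩)⟩)⟩)⟩)⟩)⟩)⟩)⟩)⟩)⟩)⟩)⟩)⟩)⟩)⟩)⟩)⟩)⟩)⟩)⟩)⟩)⟩)⟩)⟩)⟩)⟩)⟩)⟩)⟩)⟩)⟩)⟩)⟩)⟩)

noncomputable def t_g343 : Net := (Net.cons (nat_lit 1) (nat_lit 0x4454101540554111005405000) (Net.cons (nat_lit 2) (nat_lit 0x2320201310323222000100230) (Net.cons (nat_lit 4) (nat_lit 0xb0704000b0e040c020e0a0f) (Net.cons (nat_lit 8) (nat_lit 0x60008f0047000b00940001) (Net.cons (nat_lit 16) (nat_lit 0x3a8b000026140000000a) (Net.cons (nat_lit 32) (nat_lit 0x40000000044007940) (Net.cons (nat_lit 64) (nat_lit 0x265897ff6) (Net.cons (nat_lit 32) (nat_lit 0xb000000005dcbfb17) (Net.cons (nat_lit 16) (nat_lit 0x104a0000c6c800007451) (Net.cons (nat_lit 8) (nat_lit 0x6500960055006600e20033) (Net.cons (nat_lit 4) (nat_lit 0x70c0f060d09070109000e00) (Net.cons (nat_lit 2) (nat_lit 0x3121101321230012032122012) (Net.cons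 (nat_lit 1) (nat_lit 0x5550104555455541150044014) Net.nil)))))))))))))

theorem t_g343_ok : Net.ok 100 t_g343 = true := by decide +kernel

noncomputable def t_g344 : Net := (Net.cons (nat_lit 1) (nat_lit 0x1414045040141111150415004) (Net.cons (nat_lit 2) (nat_lit 0x1313100300003312013210020) (Net.cons (nat_lit 4) (nat_lit 0xc040f070100080b0208000f) (Net.cons (nat_lit 8) (nat_lit 0xd7005500f3002d0044000a) (Net.cons (nat_lit 16) (nat_lit 0x508b0000516500000001) (Net.cons (nat_lit 32) (nat_lit 0x80000000006fde110) (Net.cons (nat_lit 64) (nat_lit 0x7eefff37a) (Net.cons (nat_lit 32) (nat_lit 0x800000000043bf289) (Net.cons (nat_lit 16) (nat_lit 0x9ec0000090d70000b62a) (Net.cons (nat_lit 8) (nat_lit 0xd200bc005a00fc0062001b) (Net.cons (nat_lit 4) (nat_lit 0xb0c0e050b0f0d080e08090a) (Net.cons (nat_lit 2) (nat_lit 0x1000103220101112013200022) (Net.cons (nat_lit 1) (nat_lit 0x4005444040445401111445101) Net.nil)))))))))))))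

theorem t_g344_ok : Net.ok 100 t_g344 = true := by decide +kernel

noncomputable def t_g345 : Net := (Net.cons (nat_lit 1) (nat_lit 0x4010410404001451005510150) (Net.cons (nat_lit 2) (nat_lit 0x20221231030101222223310) (Net.cons (nat_lit 4) (nat_lit 0x50a080c030701030808030d) (Net.cons (nat_lit 8) (nat_lit 0x840008001f00370020000d) (Net.cons (nat_lit 16) (nat_lit 0xa4cc000010a400000002) (Net.cons (nat_lit 32) (nat_lit 0xaa813f00) (Net.cons (nat_lit 64) (nat_lit 0x6bfe33f8f) (Net.cons (nat_lit 32) (nat_lit 0xf000000006bf09f41) (Net.cons (nat_lit 16) (nat_lit 0x93cd00003eb200008e1e) (Net.cons (nat_lit 8) (nat_lit 0xa400ab00420076005b005b) (Net.cons (nat_lit 4) (nat_lit 0x4080c0c030a04030802080b) (Net.cons (nat_lit 2) (nat_lit 0x1222322032021131232130113) (Net.cons (nat_lit 1) (nat_lit 0x5411050451111005411501540) Net.nil)))))))))))))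

theorem t_g345_ok : Net.ok 100 t_g345 = true := by decide +kernel

noncomputable def nt_c23_K : List Net := [t_g344, t_g343, t_g345]

theorem nt_c23_K_ok : okE 100 nt_c23_K = true := (okE_cons.2 ⟨t_g344_ok, (okE_cons.2 ⟨t_g343_ok, (okE_cons.2 ⟨t_g345_ok, (okE_nil 100)⟩)⟩)⟩)

noncomputable def t_V347 : List Net := []

theorem t_V347_ok : okE 100 t_V347 = true := (okE_nil 100)

noncomputable def nt_c23_cnt_EG : List Net := [MpHS.a, HSM.g1, HSM.g2, t_g1, t_g2, t_g5, t_g6, t_g9, t_g10, t_g13, t_g14, t_g15, t_g18, t_g19, t_g20, t_g23, t_g24, t_g25, t_g28, t_g29, t_g30, t_g31, t_g34, t_g87, t_g88, t_g89, t_g90, t_g91, t_g92, t_g93, t_g86, t_g206, t_g207, t_g54]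

theorem nt_c23_cnt_EG_ok : okE 100 nt_c23_cnt_EG = true := (okE_cons.2 ⟨MpHS.a_ok, (okE_cons.2 ⟨HSM.g1_ok, (okE_cons.2 ⟨HSM.g2_ok, (okE_cons.2 ⟨t_g1_ok, (okE_cons.2 ⟨t_g2_ok, (okE_cons.2 ⟨t_g5_ok, (okE_cons.2 ⟨t_g6_ok, (okE_cons.2 ⟨t_g9_ok, (okE_cons.2 ⟨t_g10_ok, (okE_cons.2 ⟨t_g13_ok, (okE_cons.2 ⟨t_g14_ok, (okE_cons.2 ⟨t_g15_ok, (okE_cons.2 ⟨t_g18_ok, (okE_cons.2 ⟨t_g19_ok, (okE_cons.2 ⟨t_g20_ok, (okE_cons.2 ⟨t_g23_ok, (okE_cons.2 ⟨t_g24_ok, (okE_cons.2 ⟨t_g25_ok, (okE_cons.2 ⟨t_g28_ok, (okE_cons.2 ⟨t_g29_ok, (okE_cons.2 ⟨t_g30_ok, (okE_cons.2 ⟨t_g31_ok, (okE_cons.2 ⟨t_g34_ok, (okE_cons.2 ⟨t_g87_ok, (okE_cons.2 ⟨t_g88_ok, (okE_cons.2 ⟨t_g89_ok, (okE_cons.2 ⟨t_g90_ok, (okE_cons.2 ⟨t_g91_ok, (okE_cons.2 ⟨t_g92_ok, (okE_cons.2 ⟨t_g93_ok, (okE_cons.2 ⟨t_g86_ok, (okE_cons.2 ⟨t_g206_ok, (okE_cons.2 ⟨t_g207_ok, (okE_cons.2 ⟨t_g54_ok, (okE_nil 100)⟩)⟩)⟩)⟩)⟩)⟩)⟩)⟩)⟩)⟩)⟩)⟩)⟩)⟩)⟩)⟩)⟩)⟩)⟩)⟩)⟩)⟩)⟩)⟩)⟩)⟩)⟩)⟩)⟩)⟩)⟩)⟩)⟩)⟩)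

noncomputable def t_g349 : Net := (Net.cons (nat_lit 1) (nat_lit 0x1440500015514440110011500) (Net.cons (nat_lit 2) (nat_lit 0x2332201130012000010202000) (Net.cons (nat_lit 4) (nat_lit 0x7080305080a040d0e060800) (Net.cons (nat_lit 8) (nat_lit 0x80004800d6004300ff0004) (Net.cons (nat_lit 16) (nat_lit 0xfece000012020000000c) (Net.cons (nat_lit 32) (nat_lit 0x200000000f0040200) (Net.cons (nat_lit 64) (nat_lit 0x1f7b66e5b) (Net.cons (nat_lit 32) (nat_lit 0xe000000001426fa35) (Net.cons (nat_lit 16) (nat_lit 0x6eb100004ea500001906) (Net.cons (nat_lit 8) (nat_lit 0x3500ec003f00fd0061000f) (Net.cons (nat_lit 4) (nat_lit 0xf080e0404070209000b050b) (Net.cons (nat_lit 2) (nat_lit 0x2232033231010221102212030) (Net.cons (nat_lit 1) (nat_lit 0x1540111105051050541014044) Net.nil)))))))))))))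

theorem t_g349_ok : Net.ok 100 t_g349 = true := by decide +kernel

noncomputable def t_g350 : Net := (Net.cons (nat_lit 1) (nat_lit 0x4414505541541455504411504) (Net.cons (nat_lit 2) (nat_lit 0x212030101230332101101110) (Net.cons (nat_lit 4) (nat_lit 0x6030406090d020003000d06) (Net.cons (nat_lit 8) (nat_lit 0x5c00c200b700c80040000d) (Net.cons (nat_lit 16) (nat_lit 0x20970000023e00000003) (Net.cons (nat_lit 32) (nat_lit 0x800000000186a1650) (Net.cons (nat_lit 64) (nat_lit 0x97fea9f73) (Net.cons (nat_lit 32) (nat_lit 0x600000000609af05d) (Net.cons (nat_lit 16) (nat_lit 0xb0f100005f220000f3b3) (Net.cons (nat_lit 8) (nat_lit 0x1600e100fa00d700360049) (Net.cons (nat_lit 4) (nat_lit 0x7030b0a0d0d020b0b07090b) (Net.cons (nat_lit 2) (nat_lit 0x12302121233332213011313) (Net.cons (nat_lit 1) (nat_lit 0x5415511541511001040001441) Net.nil)))))))))))))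

theorem t_g350_ok : Net.ok 100 t_g350 = true := by decide +kernel

noncomputable def t_g351 : Net := (Net.cons (nat_lit 1) (nat_lit 0x51111400441514551004100) (Net.cons (nat_lit 2) (nat_lit 0x3332102130323032220221200) (Net.cons (nat_lit 4) (nat_lit 0x80503070d040602020e0700) (Net.cons (nat_lit 8) (nat_lit 0x15008d00ea004800000000) (Net.cons (nat_lit 16) (nat_lit 0x4fc40000804c00000008) (Net.cons (nat_lit 32) (nat_lit 0x8000000001204c9d0) (Net.cons (nat_lit 64) (nat_lit 0x11ec6dbd9) (Net.cons (nat_lit 32) (nat_lit 0xe00000000dec8c514) (Net.cons (nat_lit 16) (nat_lit 0x672c0000ac8c00002fca) (Net.cons (nat_lit 8) (nat_lit 0x3700a900ea004e00060002) (Net.cons (nat_lit 4) (nat_lit 0x80503070d040602020f0700) (Net.cons (nat_lit 2) (nat_lit 0x3332102130323032220221200) (Net.cons (nat_lit 1) (nat_lit 0x51111400441514551004100) Net.nil)))))))))))))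

theorem t_g351_ok : Net.ok 100 t_g351 = true := by decide +kernel

noncomputable def nt_c24_K : List Net := [t_g349, t_g350, t_g200, t_g351]

theorem nt_c24_K_ok : okE 100 nt_c24_K = true := (okE_cons.2 ⟨t_g349_ok, (okE_cons.2 ⟨t_g350_ok, (okE_cons.2 ⟨t_g200_ok, (okE_cons.2 ⟨t_g351_ok, (okE_nil 100)⟩)⟩)⟩)⟩)

noncomputable def t_g353 : Net := (Net.cons (nat_lit 1) (nat_lit 0x544414005540004114040000) (Net.cons (nat_lit 2) (nat_lit 0x1112022300002321000110000) (Net.cons (nat_lit 4) (nat_lit 0x304080406080d0000030408) (Net.cons (nat_lit 8) (nat_lit 0xde00710083005400000001) (Net.cons (nat_lit 16) (nat_lit 0xc099000081880000000a) (Net.cons (nat_lit 32) (nat_lit 0x700000000c20342a0) (Net.cons (nat_lit 64) (nat_lit 0x4cbcbcab3) (Net.cons (nat_lit 32) (nat_lit 0xf000000006b32b6e8) (Net.cons (nat_lit 16) (nat_lit 0x1f98000062890000aa0a) (Net.cons (nat_lit 8) (nat_lit 0xdf00700082005500050001) (Net.cons (nat_lit 4) (nat_lit 0x304080406080d0800030408)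 (Net.cons (nat_lit 2) (nat_lit 0x1312022303002321000110000) (Net.cons (nat_lit 1) (nat_lit 0x544014005140004114040400) Net.nil)))))))))))))

theorem t_g353_ok : Net.ok 100 t_g353 = true := by decide +kernel

noncomputable def t_V354 : List Net := [t_g353, t_g72]

theorem t_V354_ok : okE 100 t_V354 = true := (okE_cons.2 ⟨t_g353_ok, (okE_cons.2 ⟨t_g72_ok, (okE_nil 100)⟩)⟩)

noncomputable def t_V356 : List Net := [t_g72]

theorem t_V356_ok : okE 100 t_V356 = true := (okE_cons.2 ⟨t_g72_ok, (okE_nil 100)⟩)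

noncomputable def t_V357 : List Net := []

theorem t_V357_ok : okE 100 t_V357 = true := (okE_nil 100)

noncomputable def nt_c24_cnt_EG : List Net := [MpHS.a, HSM.g1, HSM.g2, t_g1, t_g2, t_g5, t_g6, t_g9, t_g10, t_g13, t_g14, t_g15, t_g18, t_g19, t_g20, t_g23, t_g24, t_g25, t_g28, t_g29, t_g30, t_g31, t_g34, t_g353, t_g72, t_g325, t_g326]

theorem nt_c24_cnt_EG_ok : okE 100 nt_c24_cnt_EG = true := (okE_cons.2 ⟨MpHS.a_ok, (okE_cons.2 ⟨HSM.g1_ok, (okE_cons.2 ⟨HSM.g2_ok, (okE_cons.2 ⟨t_g1_ok, (okE_cons.2 ⟨t_g2_ok, (okE_cons.2 ⟨t_g5_ok, (okE_cons.2 ⟨t_g6_ok, (okE_cons.2 ⟨t_g9_ok, (okE_cons.2 ⟨t_g10_ok, (okE_cons.2 ⟨t_g13_ok, (okE_cons.2 ⟨t_g14_ok, (okE_cons.2 ⟨t_g15_ok, (okE_cons.2 ⟨t_g18_ok, (okE_cons.2 ⟨t_g19_ok, (okE_cons.2 ⟨t_g20_ok, (okE_cons.2 ⟨t_g23_ok, (okE_cons.2 ⟨t_g24_ok, (okE_cons.2 ⟨t_g25_ok, (okE_cons.2 ⟨t_g28_ok, (okE_cons.2 ⟨t_g29_ok, (okE_cons.2 ⟨t_g30_ok, (okE_cons.2 ⟨t_g31_ok, (okE_cons.2 ⟨t_g34_ok, (okE_cons.2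 ⟨t_g353_ok, (okE_cons.2 ⟨t_g72_ok, (okE_cons.2 ⟨t_g325_ok, (okE_cons.2 ⟨t_g326_ok, (okE_nil 100)⟩)⟩)⟩)⟩)⟩)⟩)⟩)⟩)⟩)⟩)⟩)⟩)⟩)⟩)⟩)⟩)⟩)⟩)⟩)⟩)⟩)⟩)⟩)⟩)⟩)⟩)⟩)

noncomputable def t_g358 : Net := (Net.cons (nat_lit 1) (nat_lit 0x4141114014014451000551154) (Net.cons (nat_lit 2) (nat_lit 0x3122312013032102221121010) (Net.cons (nat_lit 4) (nat_lit 0x40e080d0108020c020a0b08) (Net.cons (nat_lit 8) (nat_lit 0x300071005f002500420002) (Net.cons (nat_lit 16) (nat_lit 0xa5b4000014ab00000001) (Net.cons (nat_lit 32) (nat_lit 0x300000000a0ad1c10) (Net.cons (nat_lit 64) (nat_lit 0x8e3ef1c53) (Net.cons (nat_lit 32) (nat_lit 0x500000000ba96b084) (Net.cons (nat_lit 16) (nat_lit 0x473c0000d3870000d6ce) (Net.cons (nat_lit 8) (nat_lit 0x740000009b004800bc00c9) (Net.cons (nat_lit 4) (nat_lit 0xc01050106070c0e0305050a) (Net.cons (nat_lit 2) (nat_lit 0x3032200311110121311020200) (Net.cons (nat_lit 1) (nat_lit 0x51040450140440100101544) Net.nil)))))))))))))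

theorem t_g358_ok : Net.ok 100 t_g358 = true := by decide +kernel

noncomputable def t_g359 : Net := (Net.cons (nat_lit 1) (nat_lit 0x4005104115444150000151054) (Net.cons (nat_lit 2) (nat_lit 0x112033230010320220130120) (Net.cons (nat_lit 4) (nat_lit 0x40c020f0701000509030209) (Net.cons (nat_lit 8) (nat_lit 0x4c007b00340006001a0001) (Net.cons (nat_lit 16) (nat_lit 0x6498000020ab0000000e) (Net.cons (nat_lit 32) (nat_lit 0x400000000f6a04210) (Net.cons (nat_lit 64) (nat_lit 0xff7eb6f9a) (Net.cons (nat_lit 32) (nat_lit 0xb000000001e057aca) (Net.cons (nat_lit 16) (nat_lit 0x58b90000067500009e64) (Net.cons (nat_lit 8) (nat_lit 0xfd00a5006300ca000d00d8) (Net.cons (nat_lit 4) (nat_lit 0x10f0204050a0f0009050f07) (Net.cons (nat_lit 2) (nat_lit 0x2102123031301321231311232) (Net.cons (nat_lit 1) (nat_lit 0x1415555445141555154154144) Net.nil)))))))))))))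

theorem t_g359_ok : Net.ok 100 t_g359 = true := by decide +kernel

noncomputable def t_g360 : Net := (Net.cons (nat_lit 1) (nat_lit 0x4500404455151441051051100) (Net.cons (nat_lit 2) (nat_lit 0x232300231101020002200010) (Net.cons (nat_lit 4) (nat_lit 0x6070a0f080c0e030a040a) (Net.cons (nat_lit 8) (nat_lit 0xd004000b600a90001) (Net.cons (nat_lit 16) (nat_lit 0x9a240000b00a0000000a) (Net.cons (nat_lit 32) (nat_lit 0xf00000000923c4400) (Net.cons (nat_lit 64) (nat_lit 0xdefce64f) (Net.cons (nat_lit 32) (nat_lit 0x4000000005c13b7cd) (Net.cons (nat_lit 16) (nat_lit 0xc45600001f1200001763) (Net.cons (nat_lit 8) (nat_lit 0x48004e00b9005a005f00c0) (Net.cons (nat_lit 4) (nat_lit 0x90c090b0c060d0900080807) (Net.cons (nat_lit 2) (nat_lit 0x3130223212110300322320213) (Net.cons (nat_lit 1) (nat_lit 0x5105544400451041041415051) Net.nil)))))))))))))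

theorem t_g360_ok : Net.ok 100 t_g360 = true := by decide +kernel

noncomputable def t_g361 : Net := (Net.cons (nat_lit 1) (nat_lit 0x4151540044144510010500100) (Net.cons (nat_lit 2) (nat_lit 0x3101030101113312100000000) (Net.cons (nat_lit 4) (nat_lit 0x10c0c000100000c00000000) (Net.cons (nat_lit 8) (nat_lit 0x4300e5009d00c000300000) (Net.cons (nat_lit 16) (nat_lit 0xa4000000563000000001) (Net.cons (nat_lit 32) (nat_lit 0x500000000000bb200) (Net.cons (nat_lit 64) (nat_lit 0x83a5bb767) (Net.cons (nat_lit 32) (nat_lit 0x50000000054aba290) (Net.cons (nat_lit 16) (nat_lit 0xb4840000473400001001) (Net.cons (nat_lit 8) (nat_lit 0x4300e5009d00c000300000) (Net.cons (nat_lit 4) (nat_lit 0x10c0c040100000c00000000) (Net.cons (nat_lit 2) (nat_lit 0x3101030101113312100002000) (Net.cons (nat_lit 1) (nat_lit 0x4151540045144510010500100) Net.nil)))))))))))))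

theorem t_g361_ok : Net.ok 100 t_g361 = true := by decide +kernel

noncomputable def nt_c25_K : List Net := [t_g358, t_g359, t_g360, t_g361]

theorem nt_c25_K_ok : okE 100 nt_c25_K = true := (okE_cons.2 ⟨t_g358_ok, (okE_cons.2 ⟨t_g359_ok, (okE_cons.2 ⟨t_g360_ok, (okE_cons.2 ⟨t_g361_ok, (okE_nil 100)⟩)⟩)⟩)⟩)

noncomputable def nt_c25_cnt_EG : List Net := [MpHS.a, HSM.g1, HSM.g2, t_g1, t_g2, t_g5, t_g6, t_g9, t_g10, t_g13, t_g14, t_g15, t_g18, t_g19, t_g20, t_g23, t_g24, t_g25, t_g28, t_g29, t_g30, t_g31, t_g34]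

theorem nt_c25_cnt_EG_ok : okE 100 nt_c25_cnt_EG = true := (okE_cons.2 ⟨MpHS.a_ok, (okE_cons.2 ⟨HSM.g1_ok, (okE_cons.2 ⟨HSM.g2_ok, (okE_cons.2 ⟨t_g1_ok, (okE_cons.2 ⟨t_g2_ok, (okE_cons.2 ⟨t_g5_ok, (okE_cons.2 ⟨t_g6_ok, (okE_cons.2 ⟨t_g9_ok, (okE_cons.2 ⟨t_g10_ok, (okE_cons.2 ⟨t_g13_ok, (okE_cons.2 ⟨t_g14_ok, (okE_cons.2 ⟨t_g15_ok, (okE_cons.2 ⟨t_g18_ok, (okE_cons.2 ⟨t_g19_ok, (okE_cons.2 ⟨t_g20_ok, (okE_cons.2 ⟨t_g23_ok, (okE_cons.2 ⟨t_g24_ok, (okE_cons.2 ⟨t_g25_ok, (okE_cons.2 ⟨t_g28_ok, (okE_cons.2 ⟨t_g29_ok, (okE_cons.2 ⟨t_g30_ok, (okE_cons.2 ⟨t_g31_ok, (okE_cons.2 ⟨t_g34_ok, (okE_nil 100)⟩)⟩)⟩)⟩)⟩)⟩)⟩)⟩)⟩)⟩)⟩)⟩)⟩)⟩)⟩)⟩)⟩)⟩)⟩)⟩)⟩)⟩)⟩)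

noncomputable def t_g363 : Net := (Net.cons (nat_lit 1) (nat_lit 0x1541501404540045544055044) (Net.cons (nat_lit 2) (nat_lit 0x213130103000110003031100) (Net.cons (nat_lit 4) (nat_lit 0x80200040506090604040802) (Net.cons (nat_lit 8) (nat_lit 0x7002700ab0085000b0006) (Net.cons (nat_lit 16) (nat_lit 0x16280000653c00000000) (Net.cons (nat_lit 32) (nat_lit 0x90000000048f60d80) (Net.cons (nat_lit 64) (nat_lit 0x6ebf7ddbb) (Net.cons (nat_lit 32) (nat_lit 0x100000000ef4d56b0) (Net.cons (nat_lit 16) (nat_lit 0xa38800009e070000486e) (Net.cons (nat_lit 8) (nat_lit 0x9800d500b900f700e000da) (Net.cons (nat_lit 4) (nat_lit 0x20400040b0d04080b050b06) (Net.cons (nat_lit 2) (nat_lit 0x203223133102022002213103) (Net.cons (nat_lit 1) (nat_lit 0x5540440014111114011010140) Net.nil)))))))))))))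

theorem t_g363_ok : Net.ok 100 t_g363 = true := by decide +kernel

noncomputable def t_g364 : Net := (Net.cons (nat_lit 1) (nat_lit 0x5441405411415540014001050) (Net.cons (nat_lit 2) (nat_lit 0x2012231302303321010031320) (Net.cons (nat_lit 4) (nat_lit 0x60c0f040c0c0b0008090501) (Net.cons (nat_lit 8) (nat_lit 0xf300a100da00ad00200002) (Net.cons (nat_lit 16) (nat_lit 0xa0800000180f00000008) (Net.cons (nat_lit 32) (nat_lit 0x88689600) (Net.cons (nat_lit 64) (nat_lit 0x79efcbe5b) (Net.cons (nat_lit 32) (nat_lit 0x8000000003bfca98c) (Net.cons (nat_lit 16) (nat_lit 0x57980000d54100008843) (Net.cons (nat_lit 8) (nat_lit 0x37001800fc00f9001d00f6) (Net.cons (nat_lit 4) (nat_lit 0x6000d04020d070a020406) (Net.cons (nat_lit 2) (nat_lit 0x1221123103102210010231132) (Net.cons (nat_lit 1) (nat_lit 0x551511145441401541040104) Net.nil)))))))))))))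

theorem t_g364_ok : Net.ok 100 t_g364 = true := by decide +kernel

noncomputable def t_g365 : Net := (Net.cons (nat_lit 1) (nat_lit 0x5451551144450104140450510) (Net.cons (nat_lit 2) (nat_lit 0x312300302011201031111200) (Net.cons (nat_lit 4) (nat_lit 0xa07060003000708020a0004) (Net.cons (nat_lit 8) (nat_lit 0x1d0041000d001d008a0004) (Net.cons (nat_lit 16) (nat_lit 0x80550000410300000000) (Net.cons (nat_lit 32) (nat_lit 0x800000000c6090930) (Net.cons (nat_lit 64) (nat_lit 0xde74b5bb4) (Net.cons (nat_lit 32) (nat_lit 0xc00000000c2618506) (Net.cons (nat_lit 16) (nat_lit 0xb0490000072f0000e064) (Net.cons (nat_lit 8) (nat_lit 0x9900e9000f00b800570004) (Net.cons (nat_lit 4) (nat_lit 0xa0f060e0b0401030c02040d) (Net.cons (nat_lit 2) (nat_lit 0x13311233001233232133300) (Net.cons (nat_lit 1) (nat_lit 0x5515555010050510045051554) Net.nil)))))))))))))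

theorem t_g365_ok : Net.ok 100 t_g365 = true := by decide +kernel

noncomputable def nt_c26_K : List Net := [t_g363, t_g364, t_g365]

theorem nt_c26_K_ok : okE 100 nt_c26_K = true := (okE_cons.2 ⟨t_g363_ok, (okE_cons.2 ⟨t_g364_ok, (okE_cons.2 ⟨t_g365_ok, (okE_nil 100)⟩)⟩)⟩)

noncomputable def t_g367 : Net := (Net.cons (nat_lit 1) (nat_lit 0x4515014000111555400500000) (Net.cons (nat_lit 2) (nat_lit 0x120232320220213200312000) (Net.cons (nat_lit 4) (nat_lit 0x8080804050a0a060102010a) (Net.cons (nat_lit 8) (nat_lit 0xc0030003a0081002b0000) (Net.cons (nat_lit 16) (nat_lit 0x5500000208200000006) (Net.cons (nat_lit 32) (nat_lit 0x600000000310d1020) (Net.cons (nat_lit 64) (nat_lit 0x37faf1774) (Net.cons (nat_lit 32) (nat_lit 0xd000000007dd4a224) (Net.cons (nat_lit 16) (nat_lit 0x1dec000040f70000771c) (Net.cons (nat_lit 8) (nat_lit 0x3e002900400045009a0052) (Net.cons (nat_lit 4) (nat_lit 0xb050c0203060900090d010a) (Net.cons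 (nat_lit 2) (nat_lit 0x2222030211323333203013110) (Net.cons (nat_lit 1) (nat_lit 0x5151045051000514054141110) Net.nil)))))))))))))

theorem t_g367_ok : Net.ok 100 t_g367 = true := by decide +kernel

noncomputable def t_g368 : Net := (Net.cons (nat_lit 1) (nat_lit 0x4110444000510455415515000) (Net.cons (nat_lit 2) (nat_lit 0x103222030033101301321100) (Net.cons (nat_lit 4) (nat_lit 0x50e0a0a020a0f0000080100) (Net.cons (nat_lit 8) (nat_lit 0x2c009a00fa00e2003d0004) (Net.cons (nat_lit 16) (nat_lit 0x62c50000c8c90000000a) (Net.cons (nat_lit 32) (nat_lit 0x20000000056c03900) (Net.cons (nat_lit 64) (nat_lit 0x75ef1791c) (Net.cons (nat_lit 32) (nat_lit 0xc000000007604822a) (Net.cons (nat_lit 16) (nat_lit 0x2260000018690000cb1a) (Net.cons (nat_lit 8) (nat_lit 0x5800cf007e0070007a0074) (Net.cons (nat_lit 4) (nat_lit 0x50d060807020c0b0a0c0500) (Net.cons (nat_lit 2) (nat_lit 0x102103032213133010231120) (Net.cons (nat_lit 1) (nat_lit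 0x415505400550441040444140) Net.nil)))))))))))))

theorem t_g368_ok : Net.ok 100 t_g368 = true := by decide +kernel

noncomputable def t_V369 : List Net := [t_g367, t_g368]

theorem t_V369_ok : okE 100 t_V369 = true := (okE_cons.2 ⟨t_g367_ok, (okE_cons.2 ⟨t_g368_ok, (okE_nil 100)⟩)⟩)

noncomputable def t_V371 : List Net := [t_g368]

theorem t_V371_ok : okE 100 t_V371 = true := (okE_cons.2 ⟨t_g368_ok, (okE_nil 100)⟩)

noncomputable def t_V372 : List Net := []

theorem t_V372_ok : okE 100 t_V372 = true := (okE_nil 100)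

noncomputable def nt_c26_cnt_EG : List Net := [MpHS.a, HSM.g1, HSM.g2, t_g1, t_g2, t_g5, t_g6, t_g9, t_g10, t_g13, t_g14, t_g15, t_g18, t_g19, t_g20, t_g23, t_g24, t_g25, t_g28, t_g29, t_g30, t_g31, t_g34, t_g367, t_g368]

theorem nt_c26_cnt_EG_ok : okE 100 nt_c26_cnt_EG = true := (okE_cons.2 ⟨MpHS.a_ok, (okE_cons.2 ⟨HSM.g1_ok, (okE_cons.2 ⟨HSM.g2_ok, (okE_cons.2 ⟨t_g1_ok, (okE_cons.2 ⟨t_g2_ok, (okE_cons.2 ⟨t_g5_ok, (okE_cons.2 ⟨t_g6_ok, (okE_cons.2 ⟨t_g9_ok, (okE_cons.2 ⟨t_g10_ok, (okE_cons.2 ⟨t_g13_ok, (okE_cons.2 ⟨t_g14_ok, (okE_cons.2 ⟨t_g15_ok, (okE_cons.2 ⟨t_g18_ok, (okE_cons.2 ⟨t_g19_ok, (okE_cons.2 ⟨t_g20_ok, (okE_cons.2 ⟨t_g23_ok, (okE_cons.2 ⟨t_g24_ok, (okE_cons.2 ⟨t_g25_ok, (okE_cons.2 ⟨t_g28_ok, (okE_cons.2 ⟨t_g29_ok, (okE_cons.2 ⟨t_g30_ok, (okE_cons.2 ⟨t_g31_ok, (okE_cons.2 ⟨t_g34_ok, (okE_cons.2 ⟨t_g367_ok, (okE_cons.2 ⟨t_g368_ok, (okE_nil 100)⟩)⟩)⟩)⟩)⟩)⟩)⟩)⟩)⟩)⟩)⟩)⟩)⟩)⟩)⟩)⟩)⟩)⟩)⟩)⟩)⟩)⟩)⟩)⟩)⟩)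

noncomputable def t_g373 : Net := (Net.cons (nat_lit 1) (nat_lit 0x1500105400545411154441510) (Net.cons (nat_lit 2) (nat_lit 0x123301112033030220033120) (Net.cons (nat_lit 4) (nat_lit 0x80e09000408010f08040602) (Net.cons (nat_lit 8) (nat_lit 0x97005200d400030044000b) (Net.cons (nat_lit 16) (nat_lit 0x35250000044d0000000b) (Net.cons (nat_lit 32) (nat_lit 0x50000000060360440) (Net.cons (nat_lit 64) (nat_lit 0xbf876df46) (Net.cons (nat_lit 32) (nat_lit 0xa00000000fc34a7bd) (Net.cons (nat_lit 16) (nat_lit 0x784c0000a8450000429f) (Net.cons (nat_lit 8) (nat_lit 0x5d0042002700ae008d0045) (Net.cons (nat_lit 4) (nat_lit 0xb07040f050c050100010807) (Net.cons (nat_lit 2) (nat_lit 0x300212220132113033321202) (Net.cons (nat_lit 1) (nat_lit 0x1415404100051054414050001) Net.nil)))))))))))))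

theorem t_g373_ok : Net.ok 100 t_g373 = true := by decide +kernel

noncomputable def t_g374 : Net := (Net.cons (nat_lit 1) (nat_lit 0x5550541105540515015010100) (Net.cons (nat_lit 2) (nat_lit 0x2201132300201033033310120) (Net.cons (nat_lit 4) (nat_lit 0x70d030007040f080901010d) (Net.cons (nat_lit 8) (nat_lit 0x3000ac003d00ea00c0000d) (Net.cons (nat_lit 16) (nat_lit 0x36c0000d81d00000000) (Net.cons (nat_lit 32) (nat_lit 0x90000000063c30200) (Net.cons (nat_lit 64) (nat_lit 0xc63cb8e27) (Net.cons (nat_lit 32) (nat_lit 0x600000000e3917840) (Net.cons (nat_lit 16) (nat_lit 0x1c0e0000aa670000b86c) (Net.cons (nat_lit 8) (nat_lit 0xb2007d0082006400d70077) (Net.cons (nat_lit 4) (nat_lit 0x60f06060b03040a010c0e0f) (Net.cons (nat_lit 2) (nat_lit 0x1323233213211023112120102) (Net.cons (nat_lit 1) (nat_lit 0x1041000554100500044105455) Net.nil)))))))))))))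

theorem t_g374_ok : Net.ok 100 t_g374 = true := by decide +kernel

noncomputable def t_g375 : Net := (Net.cons (nat_lit 1) (nat_lit 0x401445454401440000014040) (Net.cons (nat_lit 2) (nat_lit 0x3311330020201300001003000) (Net.cons (nat_lit 4) (nat_lit 0x3090a0406010e0400000d02) (Net.cons (nat_lit 8) (nat_lit 0x11005400c4001200000003) (Net.cons (nat_lit 16) (nat_lit 0x91a60000528300000000) (Net.cons (nat_lit 32) (nat_lit 0x2844000) (Net.cons (nat_lit 64) (nat_lit 0x183c752e1) (Net.cons (nat_lit 32) (nat_lit 0x30000000074964001) (Net.cons (nat_lit 16) (nat_lit 0x93f60000d28300000240) (Net.cons (nat_lit 8) (nat_lit 0x19005e00c4001c0002000f) (Net.cons (nat_lit 4) (nat_lit 0x3090a040e010e0400000d02) (Net.cons (nat_lit 2) (nat_lit 0x3311330120201300101003200) (Net.cons (nat_lit 1) (nat_lit 0x401445454401440000014040) Net.nil)))))))))))))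

theorem t_g375_ok : Net.ok 100 t_g375 = true := by decide +kernel

noncomputable def nt_c27_K : List Net := [t_g373, t_g374, t_g375]

theorem nt_c27_K_ok : okE 100 nt_c27_K = true := (okE_cons.2 ⟨t_g373_ok, (okE_cons.2 ⟨t_g374_ok, (okE_cons.2 ⟨t_g375_ok, (okE_nil 100)⟩)⟩)⟩)

noncomputable def nt_c27_cnt_EG : List Net := [MpHS.a, HSM.g1, HSM.g2, t_g1, t_g2, t_g5, t_g6, t_g9, t_g10, t_g13, t_g14, t_g15, t_g18, t_g19, t_g20, t_g23, t_g24, t_g25, t_g28, t_g29, t_g30, t_g31, t_g34]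

theorem nt_c27_cnt_EG_ok : okE 100 nt_c27_cnt_EG = true := (okE_cons.2 ⟨MpHS.a_ok, (okE_cons.2 ⟨HSM.g1_ok, (okE_cons.2 ⟨HSM.g2_ok, (okE_cons.2 ⟨t_g1_ok, (okE_cons.2 ⟨t_g2_ok, (okE_cons.2 ⟨t_g5_ok, (okE_cons.2 ⟨t_g6_ok, (okE_cons.2 ⟨t_g9_ok, (okE_cons.2 ⟨t_g10_ok, (okE_cons.2 ⟨t_g13_ok, (okE_cons.2 ⟨t_g14_ok, (okE_cons.2 ⟨t_g15_ok, (okE_cons.2 ⟨t_g18_ok, (okE_cons.2 ⟨t_g19_ok, (okE_cons.2 ⟨t_g20_ok, (okE_cons.2 ⟨t_g23_ok, (okE_cons.2 ⟨t_g24_ok, (okE_cons.2 ⟨t_g25_ok, (okE_cons.2 ⟨t_g28_ok, (okE_cons.2 ⟨t_g29_ok, (okE_cons.2 ⟨t_g30_ok, (okE_cons.2 ⟨t_g31_ok, (okE_cons.2 ⟨t_g34_ok, (okE_nil 100)⟩)⟩)⟩)⟩)⟩)⟩)⟩)⟩)⟩)⟩)⟩)⟩)⟩)⟩)⟩)⟩)⟩)⟩)⟩)⟩)⟩)⟩)⟩)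

noncomputable def t_g377 : Net := (Net.cons (nat_lit 1) (nat_lit 0x451010545415541055101400) (Net.cons (nat_lit 2) (nat_lit 0x2022303103200013123100310) (Net.cons (nat_lit 4) (nat_lit 0xa050c00070202050c010400) (Net.cons (nat_lit 8) (nat_lit 0x4d003200ed000c00240005) (Net.cons (nat_lit 16) (nat_lit 0xe8f2000064c700000002) (Net.cons (nat_lit 32) (nat_lit 0x30000000093e4ed00) (Net.cons (nat_lit 64) (nat_lit 0xaf7e4fd59) (Net.cons (nat_lit 32) (nat_lit 0xd000000001fa1ffce) (Net.cons (nat_lit 16) (nat_lit 0x4a920000d61e00002a17) (Net.cons (nat_lit 8) (nat_lit 0xc0008d00f4008f00f9008e) (Net.cons (nat_lit 4) (nat_lit 0xf0702060e04030f050e0708) (Net.cons (nat_lit 2) (nat_lit 0x2332122102031120211000103) (Net.cons (nat_lit 1) (nat_lit 0x5044150550501450505410050) Net.nil)))))))))))))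

theorem t_g377_ok : Net.ok 100 t_g377 = true := by decide +kernel

noncomputable def nt_c28_K : List Net := [t_g377, t_g103]

theorem nt_c28_K_ok : okE 100 nt_c28_K = true := (okE_cons.2 ⟨t_g377_ok, (okE_cons.2 ⟨t_g103_ok, (okE_nil 100)⟩)⟩)

noncomputable def t_V379 : List Net := []

theorem t_V379_ok : okE 100 t_V379 = true := (okE_nil 100)

noncomputable def nt_c28_cnt_EG : List Net := [t_g86, t_g87, t_g88, t_g89, t_g90, t_g91, t_g92, t_g93, t_g25, t_g1, t_g2, t_g5, t_g6, t_g9, t_g10, t_g13, t_g14, t_g15, t_g18, t_g19, t_g20, t_g23, t_g24, t_g28, t_g29, t_g30, t_g31, t_g34, MpHS.a, HSM.g1, HSM.g2, t_g72, t_g305, t_g306, t_g307, t_g304, t_g113, t_g114, t_g115, t_g116, t_g117]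

theorem nt_c28_cnt_EG_ok : okE 100 nt_c28_cnt_EG = true := (okE_cons.2 ⟨t_g86_ok, (okE_cons.2 ⟨t_g87_ok, (okE_cons.2 ⟨t_g88_ok, (okE_cons.2 ⟨t_g89_ok, (okE_cons.2 ⟨t_g90_ok, (okE_cons.2 ⟨t_g91_ok, (okE_cons.2 ⟨t_g92_ok, (okE_cons.2 ⟨t_g93_ok, (okE_cons.2 ⟨t_g25_ok, (okE_cons.2 ⟨t_g1_ok, (okE_cons.2 ⟨t_g2_ok, (okE_cons.2 ⟨t_g5_ok, (okE_cons.2 ⟨t_g6_ok, (okE_cons.2 ⟨t_g9_ok, (okE_cons.2 ⟨t_g10_ok, (okE_cons.2 ⟨t_g13_ok, (okE_cons.2 ⟨t_g14_ok, (okE_cons.2 ⟨t_g15_ok, (okE_cons.2 ⟨t_g18_ok, (okE_cons.2 ⟨t_g19_ok, (okE_cons.2 ⟨t_g20_ok, (okE_cons.2 ⟨t_g23_ok, (okE_cons.2 ⟨t_g24_ok, (okE_cons.2 ⟨t_g28_ok, (okE_cons.2 ⟨t_g29_ok, (okE_cons.2 ⟨t_g30_ok, (okE_cons.2 ⟨t_g31_ok, (okE_cons.2 ⟨t_g34_ok, (okE_cons.2 ⟨MpHS.a_ok, (okE_cons.2 ⟨HSM.g1_ok, (okE_cons.2 ⟨HSM.g2_ok, (okE_cons.2 ⟨t_g72_ok, (okE_cons.2 ⟨t_g305_ok, (okE_cons.2 ⟨t_g306_ok, (okE_cons.2 ⟨t_g307_ok, (okE_cons.2 ⟨t_g304_ok, (okE_cons.2 ⟨t_g113_ok, (okE_cons.2 ⟨t_g114_ok,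 (okE_cons.2 ⟨t_g115_ok, (okE_cons.2 ⟨t_g116_ok, (okE_cons.2 ⟨t_g117_ok, (okE_nil 100)⟩)⟩)⟩)⟩)⟩)⟩)⟩)⟩)⟩)⟩)⟩)⟩)⟩)⟩)⟩)⟩)⟩)⟩)⟩)⟩)⟩)⟩)⟩)⟩)⟩)⟩)⟩)⟩)⟩)⟩)⟩)⟩)⟩)⟩)⟩)⟩)⟩)⟩)⟩)⟩)⟩)

noncomputable def t_g381 : Net := (Net.cons (nat_lit 1) (nat_lit 0x1515500554011114411454) (Net.cons (nat_lit 2) (nat_lit 0x20003222012311312212320) (Net.cons (nat_lit 4) (nat_lit 0xc0a0509000c040a0d020c) (Net.cons (nat_lit 8) (nat_lit 0x21006000080082003b0001) (Net.cons (nat_lit 16) (nat_lit 0xc65800004c0600000008) (Net.cons (nat_lit 32) (nat_lit 0xa00000000b692c040) (Net.cons (nat_lit 64) (nat_lit 0xdf7d2c056) (Net.cons (nat_lit 32) (nat_lit 0x500000000d2c439bc) (Net.cons (nat_lit 16) (nat_lit 0x8b3800000bf600006d43) (Net.cons (nat_lit 8) (nat_lit 0xda004c00a80068006800d6) (Net.cons (nat_lit 4) (nat_lit 0x304080d050c0c0c0701040f) (Net.cons (nat_lit 2) (nat_lit 0x210011223231122121003201) (Net.cons (nat_lit 1) (nat_lit 0x150410400004400054141040) Net.nil)))))))))))))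

theorem t_g381_ok : Net.ok 100 t_g381 = true := by decide +kernel

noncomputable def nt_c29_K : List Net := [t_g381]

theorem nt_c29_K_ok : okE 100 nt_c29_K = true := (okE_cons.2 ⟨t_g381_ok, (okE_nil 100)⟩)

noncomputable def t_V383 : List Net := [t_g34, t_g30, t_g34, t_g34]

theorem t_V383_ok : okE 100 t_V383 = true := (okE_cons.2 ⟨t_g34_ok, (okE_cons.2 ⟨t_g30_ok, (okE_cons.2 ⟨t_g34_ok, (okE_cons.2 ⟨t_g34_ok, (okE_nil 100)⟩)⟩)⟩)⟩)

noncomputable def t_V384 : List Net := [t_g34, t_g34]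

theorem t_V384_ok : okE 100 t_V384 = true := (okE_cons.2 ⟨t_g34_ok, (okE_cons.2 ⟨t_g34_ok, (okE_nil 100)⟩)⟩)

noncomputable def t_V385 : List Net := []

theorem t_V385_ok : okE 100 t_V385 = true := (okE_nil 100)

noncomputable def nt_c29_cnt_EG : List Net := [MpHS.a, HSM.g1, HSM.g2, t_g1, t_g2, t_g5, t_g6, t_g9, t_g10, t_g13, t_g14, t_g15, t_g18, t_g19, t_g20, t_g23, t_g24, t_g25, t_g28, t_g29, t_g30, t_g31, t_g34]

theorem nt_c29_cnt_EG_ok : okE 100 nt_c29_cnt_EG = true := (okE_cons.2 ⟨MpHS.a_ok, (okE_cons.2 ⟨HSM.g1_ok, (okE_cons.2 ⟨HSM.g2_ok, (okE_cons.2 ⟨t_g1_ok, (okE_cons.2 ⟨t_g2_ok, (okE_cons.2 ⟨t_g5_ok, (okE_cons.2 ⟨t_g6_ok, (okE_cons.2 ⟨t_g9_ok, (okE_cons.2 ⟨t_g10_ok, (okE_cons.2 ⟨t_g13_ok, (okE_cons.2 ⟨t_g14_ok, (okE_cons.2 ⟨t_g15_ok, (okE_cons.2 ⟨t_g18_ok, (okE_cons.2 ⟨t_g19_ok, (okE_cons.2 ⟨t_g20_ok, (okE_cons.2 ⟨t_g23_ok, (okE_cons.2 ⟨t_g24_ok, (okE_cons.2 ⟨t_g25_ok, (okE_cons.2 ⟨t_g28_ok, (okE_cons.2 ⟨t_g29_ok,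 (okE_cons.2 ⟨t_g30_ok, (okE_cons.2 ⟨t_g31_ok, (okE_cons.2 ⟨t_g34_ok, (okE_nil 100)⟩)⟩)⟩)⟩)⟩)⟩)⟩)⟩)⟩)⟩)⟩)⟩)⟩)⟩)⟩)⟩)⟩)⟩)⟩)⟩)⟩)⟩)⟩)

noncomputable def t_g386 : Net := (Net.cons (nat_lit 1) (nat_lit 0x5155004101114144010414540) (Net.cons (nat_lit 2) (nat_lit 0x3031323113112103120311000) (Net.cons (nat_lit 4) (nat_lit 0x9000d0a0c0f0c0c070f0404) (Net.cons (nat_lit 8) (nat_lit 0x8000b00dc0021009d000a) (Net.cons (nat_lit 16) (nat_lit 0xc60000692f00000000) (Net.cons (nat_lit 32) (nat_lit 0x20000000059001460) (Net.cons (nat_lit 64) (nat_lit 0xdd98b7ff6) (Net.cons (nat_lit 32) (nat_lit 0x9000000004b6f38f9) (Net.cons (nat_lit 16) (nat_lit 0x29860000be5000008952) (Net.cons (nat_lit 8) (nat_lit 0xea00c700f3001e00cf00d8) (Net.cons (nat_lit 4) (nat_lit 0xa020e0a0902070c09090004) (Net.cons (nat_lit 2) (nat_lit 0x1201123321310210121233203) (Net.cons (nat_lit 1) (nat_lit 0x55151400115055505401444) Net.nil)))))))))))))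

theorem t_g386_ok : Net.ok 100 t_g386 = true := by decide +kernel

noncomputable def t_g387 : Net := (Net.cons (nat_lit 1) (nat_lit 0x4454015110010555551011414) (Net.cons (nat_lit 2) (nat_lit 0x1010000220111113013013100) (Net.cons (nat_lit 4) (nat_lit 0xe030e01040e05030e0a0208) (Net.cons (nat_lit 8) (nat_lit 0x5200c4004000c400840000) (Net.cons (nat_lit 16) (nat_lit 0xc420000a9d500000009) (Net.cons (nat_lit 32) (nat_lit 0x800000000000ae900) (Net.cons (nat_lit 64) (nat_lit 0x7f54aebbd) (Net.cons (nat_lit 32) (nat_lit 0x80000000039d18e02) (Net.cons (nat_lit 16) (nat_lit 0xfafb0000881d0000eb93) (Net.cons (nat_lit 8) (nat_lit 0x2f00b200d6008a007c00cd) (Net.cons (nat_lit 4) (nat_lit 0xe0a05090d000e0c000a0a00) (Net.cons (nat_lit 2) (nat_lit 0x3301311122203030210202232) (Net.cons (nat_lit 1) (nat_lit 0x4555411450401115145005150) Net.nil)))))))))))))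

theorem t_g387_ok : Net.ok 100 t_g387 = true := by decide +kernel

noncomputable def t_g388 : Net := (Net.cons (nat_lit 1) (nat_lit 0x5401140414500455155150044) (Net.cons (nat_lit 2) (nat_lit 0x201013233111011230013200) (Net.cons (nat_lit 4) (nat_lit 0xf070a00000d0a02020e000a) (Net.cons (nat_lit 8) (nat_lit 0xc4002600ff00c700aa0009) (Net.cons (nat_lit 16) (nat_lit 0xc01c0000425300000003) (Net.cons (nat_lit 32) (nat_lit 0x90000000082b55ca0) (Net.cons (nat_lit 64) (nat_lit 0x6efb55cad) (Net.cons (nat_lit 32) (nat_lit 0x20000000037edde2a) (Net.cons (nat_lit 16) (nat_lit 0x8f28000052b0000012ee) (Net.cons (nat_lit 8) (nat_lit 0xc9001d003600b6004b00cc) (Net.cons (nat_lit 4) (nat_lit 0xf03050002060602000c010a) (Net.cons (nat_lit 2) (nat_lit 0x301130001130200313212003) (Net.cons (nat_lit 1) (nat_lit 0x1150414514054000551045) Net.nil)))))))))))))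

theorem t_g388_ok : Net.ok 100 t_g388 = true := by decide +kernel

noncomputable def nt_c30_K : List Net := [t_g386, t_g387, t_g388]

theorem nt_c30_K_ok : okE 100 nt_c30_K = true := (okE_cons.2 ⟨t_g386_ok, (okE_cons.2 ⟨t_g387_ok, (okE_cons.2 ⟨t_g388_ok, (okE_nil 100)⟩)⟩)⟩)

noncomputable def nt_c30_cnt_EG : List Net := [MpHS.a, HSM.g1, HSM.g2, t_g1, t_g2, t_g5, t_g6, t_g9, t_g10, t_g13, t_g14, t_g15, t_g18, t_g19, t_g20, t_g23, t_g24, t_g25, t_g28, t_g29, t_g30, t_g31, t_g34, t_g249, t_g250]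

theorem nt_c30_cnt_EG_ok : okE 100 nt_c30_cnt_EG = true := (okE_cons.2 ⟨MpHS.a_ok, (okE_cons.2 ⟨HSM.g1_ok, (okE_cons.2 ⟨HSM.g2_ok, (okE_cons.2 ⟨t_g1_ok, (okE_cons.2 ⟨t_g2_ok, (okE_cons.2 ⟨t_g5_ok, (okE_cons.2 ⟨t_g6_ok, (okE_cons.2 ⟨t_g9_ok, (okE_cons.2 ⟨t_g10_ok, (okE_cons.2 ⟨t_g13_ok, (okE_cons.2 ⟨t_g14_ok, (okE_cons.2 ⟨t_g15_ok, (okE_cons.2 ⟨t_g18_ok, (okE_cons.2 ⟨t_g19_ok, (okE_cons.2 ⟨t_g20_ok, (okE_cons.2 ⟨t_g23_ok, (okE_cons.2 ⟨t_g24_ok, (okE_cons.2 ⟨t_g25_ok, (okE_cons.2 ⟨t_g28_ok, (okE_cons.2 ⟨t_g29_ok, (okE_cons.2 ⟨t_g30_ok, (okE_cons.2 ⟨t_g31_ok, (okE_cons.2 ⟨t_g34_ok, (okE_cons.2 ⟨t_g249_ok, (okE_cons.2 ⟨t_g250_ok, (okE_nil 100)⟩)⟩)⟩)⟩)⟩)⟩)⟩)⟩)⟩)⟩)⟩)⟩)⟩)⟩)⟩)⟩)⟩)⟩)⟩)⟩)⟩)⟩)⟩)⟩)⟩)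

noncomputable def t_g390 : Net := (Net.cons (nat_lit 1) (nat_lit 0x5415050451545104544110040) (Net.cons (nat_lit 2) (nat_lit 0x3222022331020330113311030) (Net.cons (nat_lit 4) (nat_lit 0x70a05000708020403090705) (Net.cons (nat_lit 8) (nat_lit 0x4a0040009e00e000050004) (Net.cons (nat_lit 16) (nat_lit 0x42b70000203000000003) (Net.cons (nat_lit 32) (nat_lit 0x86847530) (Net.cons (nat_lit 64) (nat_lit 0xe8fe575b2) (Net.cons (nat_lit 32) (nat_lit 0x3000000006bedbe4b) (Net.cons (nat_lit 16) (nat_lit 0x4cd200008d7a0000b916) (Net.cons (nat_lit 8) (nat_lit 0xa800c80096008b00340087) (Net.cons (nat_lit 4) (nat_lit 0xe0d07090e00020200000806) (Net.cons (nat_lit 2) (nat_lit 0x331030121011221201030321) (Net.cons (nat_lit 1) (nat_lit 0x145540504441444400010045) Net.nil)))))))))))))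

theorem t_g390_ok : Net.ok 100 t_g390 = true := by decide +kernel

noncomputable def t_g391 : Net := (Net.cons (nat_lit 1) (nat_lit 0x5505540544505011001445010) (Net.cons (nat_lit 2) (nat_lit 0x3010232221023310010101010) (Net.cons (nat_lit 4) (nat_lit 0x209060d0403040d02000f00) (Net.cons (nat_lit 8) (nat_lit 0xc000e007f008f0001000b) (Net.cons (nat_lit 16) (nat_lit 0x17a1000004250000000c) (Net.cons (nat_lit 32) (nat_lit 0xd0000000035528000) (Net.cons (nat_lit 64) (nat_lit 0xdb7dfa8b0) (Net.cons (nat_lit 32) (nat_lit 0x2000000007869c291) (Net.cons (nat_lit 16) (nat_lit 0x53a100004ec60000716f) (Net.cons (nat_lit 8) (nat_lit 0x7b00fe0097009500470052) (Net.cons (nat_lit 4) (nat_lit 0x306070a0b060505010b0406) (Net.cons (nat_lit 2) (nat_lit 0x1132212221203232312131101) (Net.cons (nat_lit 1) (nat_lit 0x1511100100144545540451051) Net.nil)))))))))))))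

theorem t_g391_ok : Net.ok 100 t_g391 = true := by decide +kernel

noncomputable def nt_c31_K : List Net := [t_g390, t_g391]

theorem nt_c31_K_ok : okE 100 nt_c31_K = true := (okE_cons.2 ⟨t_g390_ok, (okE_cons.2 ⟨t_g391_ok, (okE_nil 100)⟩)⟩)

noncomputable def nt_c31_cnt_EG : List Net := [MpHS.a, HSM.g1, HSM.g2, t_g1, t_g2, t_g5, t_g6, t_g9, t_g10, t_g13, t_g14, t_g15, t_g18, t_g19, t_g20, t_g23, t_g24, t_g25, t_g28, t_g29, t_g30, t_g31, t_g34, t_g133, t_g134, t_g135, t_g136, t_g137, t_g86, t_g87, t_g88, t_g89, t_g90, t_g91, t_g92, t_g93, t_g192, t_g193, t_g194, t_g292, t_g293]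

theorem nt_c31_cnt_EG_ok : okE 100 nt_c31_cnt_EG = true := (okE_cons.2 ⟨MpHS.a_ok, (okE_cons.2 ⟨HSM.g1_ok, (okE_cons.2 ⟨HSM.g2_ok, (okE_cons.2 ⟨t_g1_ok, (okE_cons.2 ⟨t_g2_ok, (okE_cons.2 ⟨t_g5_ok, (okE_cons.2 ⟨t_g6_ok, (okE_cons.2 ⟨t_g9_ok, (okE_cons.2 ⟨t_g10_ok, (okE_cons.2 ⟨t_g13_ok, (okE_cons.2 ⟨t_g14_ok, (okE_cons.2 ⟨t_g15_ok, (okE_cons.2 ⟨t_g18_ok, (okE_cons.2 ⟨t_g19_ok, (okE_cons.2 ⟨t_g20_ok, (okE_cons.2 ⟨t_g23_ok, (okE_cons.2 ⟨t_g24_ok, (okE_cons.2 ⟨t_g25_ok, (okE_cons.2 ⟨t_g28_ok, (okE_cons.2 ⟨t_g29_ok, (okE_cons.2 ⟨t_g30_ok, (okE_cons.2 ⟨t_g31_ok, (okE_cons.2 ⟨t_g34_ok, (okE_cons.2 ⟨t_g133_ok, (okE_cons.2 ⟨t_g134_ok, (okE_cons.2 ⟨t_g135_ok, (okE_cons.2 ⟨t_g136_ok, (okE_cons.2 ⟨t_g137_ok, (okE_cons.2 ⟨t_g86_ok, (okE_cons.2 ⟨t_g87_ok, (okE_cons.2 ⟨t_g88_ok, (okE_cons.2 ⟨t_g89_ok, (okE_cons.2 ⟨t_g90_ok, (okE_cons.2 ⟨t_g91_ok, (okE_cons.2 ⟨t_g92_ok, (okE_cons.2 ⟨t_g93_ok, (okE_cons.2 ⟨t_g192_ok, (okE_cons.2 ⟨t_g193_ok,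 (okE_cons.2 ⟨t_g194_ok, (okE_cons.2 ⟨t_g292_ok, (okE_cons.2 ⟨t_g293_ok, (okE_nil 100)⟩)⟩)⟩)⟩)⟩)⟩)⟩)⟩)⟩)⟩)⟩)⟩)⟩)⟩)⟩)⟩)⟩)⟩)⟩)⟩)⟩)⟩)⟩)⟩)⟩)⟩)⟩)⟩)⟩)⟩)⟩)⟩)⟩)⟩)⟩)⟩)⟩)⟩)⟩)⟩)⟩)

noncomputable def t_g393 : Net := (Net.cons (nat_lit 1) (nat_lit 0x5545154405401554154514544) (Net.cons (nat_lit 2) (nat_lit 0x1033001232021210010213000) (Net.cons (nat_lit 4) (nat_lit 0xa0b0b050a070b0b07090e00) (Net.cons (nat_lit 8) (nat_lit 0x32009b0056001c00c00000) (Net.cons (nat_lit 16) (nat_lit 0x5dc000001ba300000009) (Net.cons (nat_lit 32) (nat_lit 0x80000000028205550) (Net.cons (nat_lit 64) (nat_lit 0x8ad6fd5f4) (Net.cons (nat_lit 32) (nat_lit 0x7000000002b672ca4) (Net.cons (nat_lit 16) (nat_lit 0xe64400002157000080fe) (Net.cons (nat_lit 8) (nat_lit 0x7800c400c300f8007600bc) (Net.cons (nat_lit 4) (nat_lit 0x10605000e0506050b0508) (Net.cons (nat_lit 2) (nat_lit 0x1322233032000023111001202) (Net.cons (nat_lit 1) (nat_lit 0x1405151141454514555455454)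 Net.nil)))))))))))))

theorem t_g393_ok : Net.ok 100 t_g393 = true := by decide +kernel

noncomputable def nt_c32_K : List Net := [t_g393]

theorem nt_c32_K_ok : okE 100 nt_c32_K = true := (okE_cons.2 ⟨t_g393_ok, (okE_nil 100)⟩)

noncomputable def nt_c32_cnt_EG : List Net := [MpHS.a, HSM.g1, HSM.g2, t_g1, t_g2, t_g5, t_g6, t_g9, t_g10, t_g13, t_g14, t_g15, t_g18, t_g19, t_g20, t_g23, t_g24, t_g25, t_g28, t_g29, t_g30, t_g31, t_g34]

theorem nt_c32_cnt_EG_ok : okE 100 nt_c32_cnt_EG = true := (okE_cons.2 ⟨MpHS.a_ok, (okE_cons.2 ⟨HSM.g1_ok, (okE_cons.2 ⟨HSM.g2_ok, (okE_cons.2 ⟨t_g1_ok, (okE_cons.2 ⟨t_g2_ok, (okE_cons.2 ⟨t_g5_ok, (okE_cons.2 ⟨t_g6_ok, (okE_cons.2 ⟨t_g9_ok, (okE_cons.2 ⟨t_g10_ok, (okE_cons.2 ⟨t_g13_ok, (okE_cons.2 ⟨t_g14_ok, (okE_cons.2 ⟨t_g15_ok, (okE_cons.2 ⟨t_g18_ok, (okE_cons.2 ⟨t_g19_ok, (okE_cons.2 ⟨t_g20_ok, (okE_cons.2 ⟨t_g23_ok, (okE_cons.2 ⟨t_g24_ok, (okE_cons.2 ⟨t_g25_ok, (okE_cons.2 ⟨t_g28_ok,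 (okE_cons.2 ⟨t_g29_ok, (okE_cons.2 ⟨t_g30_ok, (okE_cons.2 ⟨t_g31_ok, (okE_cons.2 ⟨t_g34_ok, (okE_nil 100)⟩)⟩)⟩)⟩)⟩)⟩)⟩)⟩)⟩)⟩)⟩)⟩)⟩)⟩)⟩)⟩)⟩)⟩)⟩)⟩)⟩)⟩)⟩)

noncomputable def t_g395 : Net := (Net.cons (nat_lit 1) (nat_lit 0x5044545415450145404145410) (Net.cons (nat_lit 2) (nat_lit 0x2332232012310010023200020) (Net.cons (nat_lit 4) (nat_lit 0xb00090103030106080d0608) (Net.cons (nat_lit 8) (nat_lit 0xe000e800e500cf009e0002) (Net.cons (nat_lit 16) (nat_lit 0x6123000024900000000f) (Net.cons (nat_lit 32) (nat_lit 0x200000000078cb840) (Net.cons (nat_lit 64) (nat_lit 0x5f78ebcfb) (Net.cons (nat_lit 32) (nat_lit 0xb000000001cca239a) (Net.cons (nat_lit 16) (nat_lit 0xcffe00008a5f0000ad16) (Net.cons (nat_lit 8) (nat_lit 0x28006000e000b500810047) (Net.cons (nat_lit 4) (nat_lit 0xf060c00080e0f0d05090104) (Net.cons (nat_lit 2) (nat_lit 0x2202002332303010133001003) (Net.cons (nat_lit 1) (nat_lit 0x515015105144010554411510) Net.nil)))))))))))))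

theorem t_g395_ok : Net.ok 100 t_g395 = true := by decide +kernel

noncomputable def t_g396 : Net := (Net.cons (nat_lit 1) (nat_lit 0x1054040001005100154411044) (Net.cons (nat_lit 2) (nat_lit 0x3230330101113122001023200) (Net.cons (nat_lit 4) (nat_lit 0xc0103020b050f0b0a050509) (Net.cons (nat_lit 8) (nat_lit 0xbb00df0069008f00870001) (Net.cons (nat_lit 16) (nat_lit 0xc80200005cc700000008) (Net.cons (nat_lit 32) (nat_lit 0x600000000a350cca0) (Net.cons (nat_lit 64) (nat_lit 0xdf3d3cfa2) (Net.cons (nat_lit 32) (nat_lit 0x2000000004dd9bed3) (Net.cons (nat_lit 16) (nat_lit 0x4537000099cc0000900c) (Net.cons (nat_lit 8) (nat_lit 0x65009d005b00d800ea0050) (Net.cons (nat_lit 4) (nat_lit 0x40d0009020a01020a090d02) (Net.cons (nat_lit 2) (nat_lit 0x331211111002212123133033) (Net.cons (nat_lit 1) (nat_lit 0x1101555511554140150154014) Net.nil)))))))))))))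

theorem t_g396_ok : Net.ok 100 t_g396 = true := by decide +kernel

noncomputable def t_g397 : Net := (Net.cons (nat_lit 1) (nat_lit 0x5500440000050041454451140) (Net.cons (nat_lit 2) (nat_lit 0x3232131100200031023113000) (Net.cons (nat_lit 4) (nat_lit 0xc0c09020607080e0d010f01) (Net.cons (nat_lit 8) (nat_lit 0x310071003400860016000e) (Net.cons (nat_lit 16) (nat_lit 0x8a000000310f00000002) (Net.cons (nat_lit 32) (nat_lit 0x40000000084204c40) (Net.cons (nat_lit 64) (nat_lit 0x9863b5df5) (Net.cons (nat_lit 32) (nat_lit 0x30000000080a6f349) (Net.cons (nat_lit 16) (nat_lit 0x3b420000740b0000922e) (Net.cons (nat_lit 8) (nat_lit 0x8500180031004500930008) (Net.cons (nat_lit 4) (nat_lit 0x406060d060e0a000b0d0f09) (Net.cons (nat_lit 2) (nat_lit 0x2131322130300201303112202) (Net.cons (nat_lit 1) (nat_lit 0x1501450000001411555541055) Net.nil)))))))))))))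

theorem t_g397_ok : Net.ok 100 t_g397 = true := by decide +kernel

noncomputable def nt_c33_K : List Net := [t_g395, t_g396, t_g397]

theorem nt_c33_K_ok : okE 100 nt_c33_K = true := (okE_cons.2 ⟨t_g395_ok, (okE_cons.2 ⟨t_g396_ok, (okE_cons.2 ⟨t_g397_ok, (okE_nil 100)⟩)⟩)⟩)

noncomputable def nt_c33_cnt_EG : List Net := [MpHS.a, HSM.g1, HSM.g2, t_g1, t_g2, t_g5, t_g6, t_g9, t_g10, t_g13, t_g14, t_g15, t_g18, t_g19, t_g20, t_g23, t_g24, t_g25, t_g28, t_g29, t_g30, t_g31, t_g34, t_g250, t_g249]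

theorem nt_c33_cnt_EG_ok : okE 100 nt_c33_cnt_EG = true := (okE_cons.2 ⟨MpHS.a_ok, (okE_cons.2 ⟨HSM.g1_ok, (okE_cons.2 ⟨HSM.g2_ok, (okE_cons.2 ⟨t_g1_ok, (okE_cons.2 ⟨t_g2_ok, (okE_cons.2 ⟨t_g5_ok, (okE_cons.2 ⟨t_g6_ok, (okE_cons.2 ⟨t_g9_ok, (okE_cons.2 ⟨t_g10_ok, (okE_cons.2 ⟨t_g13_ok, (okE_cons.2 ⟨t_g14_ok, (okE_cons.2 ⟨t_g15_ok, (okE_cons.2 ⟨t_g18_ok, (okE_cons.2 ⟨t_g19_ok, (okE_cons.2 ⟨t_g20_ok, (okE_cons.2 ⟨t_g23_ok, (okE_cons.2 ⟨t_g24_ok, (okE_cons.2 ⟨t_g25_ok, (okE_cons.2 ⟨t_g28_ok, (okE_cons.2 ⟨t_g29_ok, (okE_cons.2 ⟨t_g30_ok, (okE_cons.2 ⟨t_g31_ok, (okE_cons.2 ⟨t_g34_ok, (okE_cons.2 ⟨t_g250_ok, (okE_cons.2 ⟨t_g249_ok, (okE_nil 100)⟩)⟩)⟩)⟩)⟩)⟩)⟩)⟩)⟩)⟩)⟩)⟩)⟩)⟩)⟩)⟩)⟩)⟩)⟩)⟩)⟩)⟩)⟩)⟩)⟩)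

noncomputable def t_g399 : Net := (Net.cons (nat_lit 1) (nat_lit 0x1111004044455000045540150) (Net.cons (nat_lit 2) (nat_lit 0x121103030012222223212210) (Net.cons (nat_lit 4) (nat_lit 0x9090703090b010a05090d01) (Net.cons (nat_lit 8) (nat_lit 0x20002b00fc0007000e000e) (Net.cons (nat_lit 16) (nat_lit 0x40c70000840700000001) (Net.cons (nat_lit 32) (nat_lit 0x506d2c80) (Net.cons (nat_lit 64) (nat_lit 0xe756fef89) (Net.cons (nat_lit 32) (nat_lit 0x300000000c5a50a18) (Net.cons (nat_lit 16) (nat_lit 0x6eab00003d27000094bd) (Net.cons (nat_lit 8) (nat_lit 0x250027008f002d00e3005b) (Net.cons (nat_lit 4) (nat_lit 0x10b020e00030c0e0604020e) (Net.cons (nat_lit 2) (nat_lit 0x2233003133121312032020002) (Net.cons (nat_lit 1) (nat_lit 0x4100111414545541405504511) Net.nil)))))))))))))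

theorem t_g399_ok : Net.ok 100 t_g399 = true := by decide +kernel

noncomputable def t_g400 : Net := (Net.cons (nat_lit 1) (nat_lit 0x110141140014100450001000) (Net.cons (nat_lit 2) (nat_lit 0x2301203320110221120000000) (Net.cons (nat_lit 4) (nat_lit 0x80d0a05020002020a040100) (Net.cons (nat_lit 8) (nat_lit 0x2a00210008000c00800002) (Net.cons (nat_lit 16) (nat_lit 0xea000041f800000000) (Net.cons (nat_lit 32) (nat_lit 0x40200800) (Net.cons (nat_lit 64) (nat_lit 0x260e9e922) (Net.cons (nat_lit 32) (nat_lit 0xa0000000041301acf) (Net.cons (nat_lit 16) (nat_lit 0x3eb000041f800000901) (Net.cons (nat_lit 8) (nat_lit 0xaf00240083000d00830003) (Net.cons (nat_lit 4) (nat_lit 0x80d0a050a080a020a040108) (Net.cons (nat_lit 2) (nat_lit 0x2301203313112231130000001) (Net.cons (nat_lit 1) (nat_lit 0x110141110014100450441000) Net.nil)))))))))))))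

theorem t_g400_ok : Net.ok 100 t_g400 = true := by decide +kernel

noncomputable def nt_c34_K : List Net := [t_g399, t_g400]

theorem nt_c34_K_ok : okE 100 nt_c34_K = true := (okE_cons.2 ⟨t_g399_ok, (okE_cons.2 ⟨t_g400_ok, (okE_nil 100)⟩)⟩)

noncomputable def nt_c34_cnt_EG : List Net := [t_g367, t_g368, t_g13, t_g14, t_g15, t_g18, t_g19, t_g20, t_g23, t_g24, t_g25, t_g28, t_g29, t_g30, t_g31, t_g34, t_g9, t_g10, t_g5, t_g6, t_g1, t_g2, MpHS.a, HSM.g1, HSM.g2]

theorem nt_c34_cnt_EG_ok : okE 100 nt_c34_cnt_EG = true := (okE_cons.2 ⟨t_g367_ok, (okE_cons.2 ⟨t_g368_ok, (okE_cons.2 ⟨t_g13_ok, (okE_cons.2 ⟨t_g14_ok, (okE_cons.2 ⟨t_g15_ok, (okE_cons.2 ⟨t_g18_ok, (okE_cons.2 ⟨t_g19_ok, (okE_cons.2 ⟨t_g20_ok, (okE_cons.2 ⟨t_g23_ok, (okE_cons.2 ⟨t_g24_ok, (okE_cons.2 ⟨t_g25_ok, (okE_cons.2 ⟨t_g28_ok, (okE_cons.2 ⟨t_g29_ok, (okE_cons.2 ⟨t_g30_ok, (okE_cons.2 ⟨t_g31_ok, (okE_cons.2 ⟨t_g34_ok, (okE_cons.2 ⟨t_g9_ok, (okE_cons.2 ⟨t_g10_ok,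 (okE_cons.2 ⟨t_g5_ok, (okE_cons.2 ⟨t_g6_ok, (okE_cons.2 ⟨t_g1_ok, (okE_cons.2 ⟨t_g2_ok, (okE_cons.2 ⟨MpHS.a_ok, (okE_cons.2 ⟨HSM.g1_ok, (okE_cons.2 ⟨HSM.g2_ok, (okE_nil 100)⟩)⟩)⟩)⟩)⟩)⟩)⟩)⟩)⟩)⟩)⟩)⟩)⟩)⟩)⟩)⟩)⟩)⟩)⟩)⟩)⟩)⟩)⟩)⟩)⟩)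

noncomputable def nt_c35_K : List Net := [t_g364, t_g400]

theorem nt_c35_K_ok : okE 100 nt_c35_K = true := (okE_cons.2 ⟨t_g364_ok, (okE_cons.2 ⟨t_g400_ok, (okE_nil 100)⟩)⟩)

noncomputable def nt_c35_cnt_EG : List Net := [t_g367, t_g368, t_g13, t_g14, t_g15, t_g18, t_g19, t_g20, t_g23, t_g24, t_g25, t_g28, t_g29, t_g30, t_g31, t_g34, t_g9, t_g10, t_g5, t_g6, t_g1, t_g2, MpHS.a, HSM.g1, HSM.g2]

theorem nt_c35_cnt_EG_ok : okE 100 nt_c35_cnt_EG = true := (okE_cons.2 ⟨t_g367_ok, (okE_cons.2 ⟨t_g368_ok, (okE_cons.2 ⟨t_g13_ok, (okE_cons.2 ⟨t_g14_ok, (okE_cons.2 ⟨t_g15_ok, (okE_cons.2 ⟨t_g18_ok, (okE_cons.2 ⟨t_g19_ok, (okE_cons.2 ⟨t_g20_ok, (okE_cons.2 ⟨t_g23_ok, (okE_cons.2 ⟨t_g24_ok, (okE_cons.2 ⟨t_g25_ok, (okE_cons.2 ⟨t_g28_ok, (okE_cons.2 ⟨t_g29_ok, (okE_cons.2 ⟨t_g30_ok, (okE_cons.2 ⟨t_g31_ok, (okE_cons.2 ⟨t_g34_ok, (okE_cons.2 ⟨t_g9_ok, (okE_cons.2 ⟨t_g10_ok, (okE_cons.2 ⟨t_g5_ok, (okE_cons.2 ⟨t_g6_ok, (okE_cons.2 ⟨t_g1_ok,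 (okE_cons.2 ⟨t_g2_ok, (okE_cons.2 ⟨MpHS.a_ok, (okE_cons.2 ⟨HSM.g1_ok, (okE_cons.2 ⟨HSM.g2_ok, (okE_nil 100)⟩)⟩)⟩)⟩)⟩)⟩)⟩)⟩)⟩)⟩)⟩)⟩)⟩)⟩)⟩)⟩)⟩)⟩)⟩)⟩)⟩)⟩)⟩)⟩)⟩)

noncomputable def t_g403 : Net := (Net.cons (nat_lit 1) (nat_lit 0x1555541544451010454055440) (Net.cons (nat_lit 2) (nat_lit 0x323211200100020301010000) (Net.cons (nat_lit 4) (nat_lit 0x90a0c030b0b080c040a0e0c) (Net.cons (nat_lit 8) (nat_lit 0x220019001100530060000c) (Net.cons (nat_lit 16) (nat_lit 0x2de3000061e600000002) (Net.cons (nat_lit 32) (nat_lit 0x600000000b1014cc0) (Net.cons (nat_lit 64) (nat_lit 0xb3c75df6) (Net.cons (nat_lit 32) (nat_lit 0xf00000000c0d1d726) (Net.cons (nat_lit 16) (nat_lit 0x6bb800002a1f00005c9a) (Net.cons (nat_lit 8) (nat_lit 0x61005200760055007a00d5) (Net.cons (nat_lit 4) (nat_lit 0x70e000b01080a0d0c040109) (Net.cons (nat_lit 2) (nat_lit 0x1011101311132012032231112) (Net.cons (nat_lit 1) (nat_lit 0x1155400055154411544114444) Net.nil)))))))))))))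

theorem t_g403_ok : Net.ok 100 t_g403 = true := by decide +kernel

noncomputable def nt_c36_K : List Net := [t_g403, t_g400]

theorem nt_c36_K_ok : okE 100 nt_c36_K = true := (okE_cons.2 ⟨t_g403_ok, (okE_cons.2 ⟨t_g400_ok, (okE_nil 100)⟩)⟩)

noncomputable def nt_c36_cnt_EG : List Net := [MpHS.a, HSM.g1, HSM.g2, t_g1, t_g2, t_g5, t_g6, t_g9, t_g10, t_g13, t_g14, t_g15, t_g18, t_g19, t_g20, t_g23, t_g24, t_g25, t_g28, t_g29, t_g30, t_g31, t_g34, t_g367, t_g368]

theorem nt_c36_cnt_EG_ok : okE 100 nt_c36_cnt_EG = true := (okE_cons.2 ⟨MpHS.a_ok, (okE_cons.2 ⟨HSM.g1_ok, (okE_cons.2 ⟨HSM.g2_ok, (okE_cons.2 ⟨t_g1_ok, (okE_cons.2 ⟨t_g2_ok, (okE_cons.2 ⟨t_g5_ok, (okE_cons.2 ⟨t_g6_ok, (okE_cons.2 ⟨t_g9_ok, (okE_cons.2 ⟨t_g10_ok, (okE_cons.2 ⟨t_g13_ok, (okE_cons.2 ⟨t_g14_ok, (okE_cons.2 ⟨t_g15_ok, (okE_cons.2 ⟨t_g18_ok, (okE_cons.2 ⟨t_g19_ok, (okE_cons.2 ⟨t_g20_ok, (okE_cons.2 ⟨t_g23_ok, (okE_cons.2 ⟨t_g24_ok, (okE_cons.2 ⟨t_g25_ok,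 (okE_cons.2 ⟨t_g28_ok, (okE_cons.2 ⟨t_g29_ok, (okE_cons.2 ⟨t_g30_ok, (okE_cons.2 ⟨t_g31_ok, (okE_cons.2 ⟨t_g34_ok, (okE_cons.2 ⟨t_g367_ok, (okE_cons.2 ⟨t_g368_ok, (okE_nil 100)⟩)⟩)⟩)⟩)⟩)⟩)⟩)⟩)⟩)⟩)⟩)⟩)⟩)⟩)⟩)⟩)⟩)⟩)⟩)⟩)⟩)⟩)⟩)⟩)⟩)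

noncomputable def t_g405 : Net := (Net.cons (nat_lit 1) (nat_lit 0x1055011504044105014405040) (Net.cons (nat_lit 2) (nat_lit 0x11301112113032320210310) (Net.cons (nat_lit 4) (nat_lit 0x40e050b0f0a080908090a06) (Net.cons (nat_lit 8) (nat_lit 0xc008e009f0010003c0003) (Net.cons (nat_lit 16) (nat_lit 0xa2150000100500000009) (Net.cons (nat_lit 32) (nat_lit 0xa000000001e0068d0) (Net.cons (nat_lit 64) (nat_lit 0x1fe56eedb) (Net.cons (nat_lit 32) (nat_lit 0xe00000000c6b4296b) (Net.cons (nat_lit 16) (nat_lit 0xd6d5000051870000539e) (Net.cons (nat_lit 8) (nat_lit 0x8b005a00e4000a0076001e) (Net.cons (nat_lit 4) (nat_lit 0xf0104000c04080303050601) (Net.cons (nat_lit 2) (nat_lit 0x3021203203212211100133121) (Net.cons (nat_lit 1) (nat_lit 0x5511500501410551540111140) Net.nil)))))))))))))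

theorem t_g405_ok : Net.ok 100 t_g405 = true := by decide +kernel

noncomputable def nt_c37_K : List Net := [t_g405]

theorem nt_c37_K_ok : okE 100 nt_c37_K = true := (okE_cons.2 ⟨t_g405_ok, (okE_nil 100)⟩)

noncomputable def nt_c37_cnt_EG : List Net := [MpHS.a, HSM.g1, HSM.g2, t_g1, t_g2, t_g5, t_g6, t_g9, t_g10, t_g13, t_g14, t_g15, t_g18, t_g19, t_g20, t_g23, t_g24, t_g25, t_g28, t_g29, t_g30, t_g31, t_g34]

theorem nt_c37_cnt_EG_ok : okE 100 nt_c37_cnt_EG = true := (okE_cons.2 ⟨MpHS.a_ok, (okE_cons.2 ⟨HSM.g1_ok, (okE_cons.2 ⟨HSM.g2_ok, (okE_cons.2 ⟨t_g1_ok, (okE_cons.2 ⟨t_g2_ok, (okE_cons.2 ⟨t_g5_ok, (okE_cons.2 ⟨t_g6_ok, (okE_cons.2 ⟨t_g9_ok, (okE_cons.2 ⟨t_g10_ok, (okE_cons.2 ⟨t_g13_ok, (okE_cons.2 ⟨t_g14_ok, (okE_cons.2 ⟨t_g15_ok, (okE_cons.2 ⟨t_g18_ok, (okE_cons.2 ⟨t_g19_ok, (okE_cons.2 ⟨t_g20_ok, (okE_cons.2 ⟨t_g23_ok, (okE_cons.2 ⟨t_g24_ok, (okE_cons.2 ⟨t_g25_ok, (okE_cons.2 ⟨t_g28_ok, (okE_cons.2 ⟨t_g29_ok,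 (okE_cons.2 ⟨t_g30_ok, (okE_cons.2 ⟨t_g31_ok, (okE_cons.2 ⟨t_g34_ok, (okE_nil 100)⟩)⟩)⟩)⟩)⟩)⟩)⟩)⟩)⟩)⟩)⟩)⟩)⟩)⟩)⟩)⟩)⟩)⟩)⟩)⟩)⟩)⟩)⟩)

noncomputable def t_g407 : Net := (Net.cons (nat_lit 1) (nat_lit 0x4054105554554144000010500) (Net.cons (nat_lit 2) (nat_lit 0x333310321310003210330000) (Net.cons (nat_lit 4) (nat_lit 0x80c090e09080004010f0b06) (Net.cons (nat_lit 8) (nat_lit 0x4b002100b4001800660000) (Net.cons (nat_lit 16) (nat_lit 0x4215000042110000000d) (Net.cons (nat_lit 32) (nat_lit 0x10000000021808250) (Net.cons (nat_lit 64) (nat_lit 0x22da7cb7b) (Net.cons (nat_lit 32) (nat_lit 0xf000000005d988c13) (Net.cons (nat_lit 16) (nat_lit 0x25d10000469b00007814) (Net.cons (nat_lit 8) (nat_lit 0x37003000bc004a006c0049) (Net.cons (nat_lit 4) (nat_lit 0xe0d0605080a05090f060a07) (Net.cons (nat_lit 2) (nat_lit 0x2330323311111023102222011) (Net.cons (nat_lit 1) (nat_lit 0x55114554505514101104415) Net.nil)))))))))))))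

theorem t_g407_ok : Net.ok 100 t_g407 = true := by decide +kernel

noncomputable def nt_c38_K : List Net := [t_g360, t_g407]

theorem nt_c38_K_ok : okE 100 nt_c38_K = true := (okE_cons.2 ⟨t_g360_ok, (okE_cons.2 ⟨t_g407_ok, (okE_nil 100)⟩)⟩)

noncomputable def nt_c38_cnt_EG : List Net := [t_g18, t_g19, t_g20, t_g23, t_g24, t_g25, t_g28, t_g29, t_g30, t_g31, t_g34, t_g13, t_g14, t_g15, t_g9, t_g10, t_g5, t_g6, t_g1, t_g2, MpHS.a, HSM.g1, HSM.g2, t_g250, t_g249]

theorem nt_c38_cnt_EG_ok : okE 100 nt_c38_cnt_EG = true := (okE_cons.2 ⟨t_g18_ok, (okE_cons.2 ⟨t_g19_ok, (okE_cons.2 ⟨t_g20_ok, (okE_cons.2 ⟨t_g23_ok, (okE_cons.2 ⟨t_g24_ok, (okE_cons.2 ⟨t_g25_ok, (okE_cons.2 ⟨t_g28_ok, (okE_cons.2 ⟨t_g29_ok, (okE_cons.2 ⟨t_g30_ok, (okE_cons.2 ⟨t_g31_ok, (okE_cons.2 ⟨t_g34_ok, (okE_cons.2 ⟨t_g13_ok, (okE_cons.2 ⟨t_g14_ok, (okE_cons.2 ⟨t_g15_ok, (okE_cons.2 ⟨t_g9_ok, (okE_cons.2 ⟨t_g10_ok, (okE_cons.2 ⟨t_g5_ok, (okE_cons.2 ⟨t_g6_ok,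 (okE_cons.2 ⟨t_g1_ok, (okE_cons.2 ⟨t_g2_ok, (okE_cons.2 ⟨MpHS.a_ok, (okE_cons.2 ⟨HSM.g1_ok, (okE_cons.2 ⟨HSM.g2_ok, (okE_cons.2 ⟨t_g250_ok, (okE_cons.2 ⟨t_g249_ok, (okE_nil 100)⟩)⟩)⟩)⟩)⟩)⟩)⟩)⟩)⟩)⟩)⟩)⟩)⟩)⟩)⟩)⟩)⟩)⟩)⟩)⟩)⟩)⟩)⟩)⟩)⟩)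

noncomputable def nt_nc35_34_cnt_EG : List Net := [MpHS.a, HSM.g1, HSM.g2, t_g1, t_g2, t_g5, t_g6, t_g9, t_g10, t_g13, t_g14, t_g15, t_g18, t_g19, t_g20, t_g23, t_g24, t_g25, t_g28, t_g29, t_g30, t_g31, t_g34]

theorem nt_nc35_34_cnt_EG_ok : okE 100 nt_nc35_34_cnt_EG = true := (okE_cons.2 ⟨MpHS.a_ok, (okE_cons.2 ⟨HSM.g1_ok, (okE_cons.2 ⟨HSM.g2_ok, (okE_cons.2 ⟨t_g1_ok, (okE_cons.2 ⟨t_g2_ok, (okE_cons.2 ⟨t_g5_ok, (okE_cons.2 ⟨t_g6_ok, (okE_cons.2 ⟨t_g9_ok, (okE_cons.2 ⟨t_g10_ok, (okE_cons.2 ⟨t_g13_ok, (okE_cons.2 ⟨t_g14_ok, (okE_cons.2 ⟨t_g15_ok, (okE_cons.2 ⟨t_g18_ok, (okE_cons.2 ⟨t_g19_ok, (okE_cons.2 ⟨t_g20_ok, (okE_cons.2 ⟨t_g23_ok, (okE_cons.2 ⟨t_g24_ok, (okE_cons.2 ⟨t_g25_ok, (okE_cons.2 ⟨t_g28_ok, (okE_cons.2 ⟨t_g29_ok, (okE_cons.2 ⟨t_g30_ok, (okE_cons.2 ⟨t_g31_ok, (okE_cons.2 ⟨t_g34_ok, (okE_nil 100)⟩)⟩)⟩)⟩)⟩)⟩)⟩)⟩)⟩)⟩)⟩)⟩)⟩)⟩)⟩)⟩)⟩)⟩)⟩)⟩)⟩)⟩)⟩)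

theorem t_le4 : grp 100 t_V3 ≤ grp 100 EG :=
  grp_le_of_memB t_hn t_hk EG_ok t_V3_ok (ws := [nat_lit 0x30602060604050302040402, nat_lit 0x505010505050504010404]) (by decide +kernel)

theorem t_le8 : grp 100 t_V7 ≤ grp 100 t_V3 :=
  grp_le_of_memB t_hn t_hk t_V3_ok t_V7_ok (ws := [nat_lit 0x301040202, nat_lit 0x30104040204]) (by decide +kernel)

theorem t_le12 : grp 100 t_V11 ≤ grp 100 t_V7 :=
  grp_le_of_memB t_hn t_hk t_V7_ok t_V11_ok (ws := [nat_lit 0x40104040404020402, nat_lit 0x204010402030204020302]) (by decide +kernel)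

theorem t_le17 : grp 100 t_V16 ≤ grp 100 t_V11 :=
  grp_le_of_memB t_hn t_hk t_V11_ok t_V16_ok (ws := [nat_lit 0x40402030301, nat_lit 0x104010104, nat_lit 0x3030202040402]) (by decide +kernel)

theorem t_le22 : grp 100 t_V21 ≤ grp 100 t_V16 :=
  grp_le_of_memB t_hn t_hk t_V16_ok t_V21_ok (ws := [nat_lit 0x3010106040502, nat_lit 0x501040502, nat_lit 0x40202030106030502]) (by decide +kernel)

theorem t_le27 : grp 100 t_V26 ≤ grp 100 t_V21 :=
  grp_le_of_memB t_hn t_hk t_V21_ok t_V26_ok (ws := [nat_lit 0x40103030502050202, nat_lit 0x203010404060601, nat_lit 0x50504020503020601]) (by decide +kernel)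

theorem t_le33 : grp 100 t_V32 ≤ grp 100 t_V26 :=
  grp_le_of_memB t_hn t_hk t_V26_ok t_V32_ok (ws := [nat_lit 0x602030105010402, nat_lit 0x604040505030502, nat_lit 0x60405040101050204, nat_lit 132102]) (by decide +kernel)

theorem t_le36 : grp 100 t_V35 ≤ grp 100 t_V32 :=
  grp_le_of_memB t_hn t_hk t_V32_ok t_V35_ok (ws := [nat_lit 0x40103060108020308, nat_lit 6]) (by decide +kernel)

theorem t_le38 : grp 100 t_V37 ≤ grp 100 t_V35 :=
  grp_le_of_memB t_hn t_hk t_V35_ok t_V37_ok (ws := [nat_lit 0x3020404040404, nat_lit 0x4010301030204]) (by decide +kernel)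

theorem lb_le : grp 100 lb_E ≤ grp 100 EG :=
  (grp_cons_le ((le_refl (grp 100 EG)) (toPerm_mem_grp (E := EG) (by simp [EG]))) (grp_cons_le ((le_refl (grp 100 EG)) (toPerm_mem_grp (E := EG) (by simp [EG]))) (grp_cons_le ((le_refl (grp 100 EG)) (toPerm_mem_grp (E := EG) (by simp [EG]))) (grp_cons_le ((t_le4.trans (le_refl (grp 100 EG))) (toPerm_mem_grp (E := t_V3) (by simp [t_V3]))) (grp_cons_le ((t_le4.trans (le_refl (grp 100 EG))) (toPerm_mem_grp (E := t_V3) (by simp [t_V3]))) (grp_cons_le ((t_le8.trans (t_le4.trans (le_refl (grp 100 EG)))) (toPerm_mem_grp (E := t_V7) (by simp [t_V7]))) (grp_cons_le ((t_le8.trans (t_le4.trans (le_refl (grp 100 EG)))) (toPerm_mem_grp (E := t_V7) (by simp [t_V7]))) (grp_cons_le ((t_le12.trans (t_le8.trans (t_le4.trans (le_refl (grp 100 EG))))) (toPerm_mem_grp (E := t_V11) (by simp [t_V11]))) (grp_cons_le ((t_le12.trans (t_le8.trans (t_le4.trans (le_refl (grp 100 EG))))) (toPerm_mem_grp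 (E := t_V11) (by simp [t_V11]))) (grp_cons_le ((t_le17.trans (t_le12.trans (t_le8.trans (t_le4.trans (le_refl (grp 100 EG)))))) (toPerm_mem_grp (E := t_V16) (by simp [t_V16]))) (grp_cons_le ((t_le17.trans (t_le12.trans (t_le8.trans (t_le4.trans (le_refl (grp 100 EG)))))) (toPerm_mem_grp (E := t_V16) (by simp [t_V16]))) (grp_cons_le ((t_le17.trans (t_le12.trans (t_le8.trans (t_le4.trans (le_refl (grp 100 EG)))))) (toPerm_mem_grp (E := t_V16) (by simp [t_V16]))) (grp_cons_le ((t_le22.trans (t_le17.trans (t_le12.trans (t_le8.trans (t_le4.trans (le_refl (grp 100 EG))))))) (toPerm_mem_grp (E := t_V21) (by simp [t_V21]))) (grp_cons_le ((t_le22.trans (t_le17.trans (t_le12.trans (t_le8.trans (t_le4.trans (le_refl (grp 100 EG))))))) (toPerm_mem_grp (E := t_V21) (by simp [t_V21]))) (grp_cons_le ((t_le22.trans (t_le17.trans (t_le12.trans (t_le8.trans (t_le4.trans (le_refl (grp 100 EG))))))) (toPerm_mem_grp (E := t_V21) (by simp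 [t_V21]))) (grp_cons_le ((t_le27.trans (t_le22.trans (t_le17.trans (t_le12.trans (t_le8.trans (t_le4.trans (le_refl (grp 100 EG)))))))) (toPerm_mem_grp (E := t_V26) (by simp [t_V26]))) (grp_cons_le ((t_le27.trans (t_le22.trans (t_le17.trans (t_le12.trans (t_le8.trans (t_le4.trans (le_refl (grp 100 EG)))))))) (toPerm_mem_grp (E := t_V26) (by simp [t_V26]))) (grp_cons_le ((t_le27.trans (t_le22.trans (t_le17.trans (t_le12.trans (t_le8.trans (t_le4.trans (le_refl (grp 100 EG)))))))) (toPerm_mem_grp (E := t_V26) (by simp [t_V26]))) (grp_cons_le ((t_le33.trans (t_le27.trans (t_le22.trans (t_le17.trans (t_le12.trans (t_le8.trans (t_le4.trans (le_refl (grp 100 EG))))))))) (toPerm_mem_grp (E := t_V32) (by simp [t_V32]))) (grp_cons_le ((t_le33.trans (t_le27.trans (t_le22.trans (t_le17.trans (t_le12.trans (t_le8.trans (t_le4.trans (le_refl (grp 100 EG))))))))) (toPerm_mem_grp (E := t_V32) (by simp [t_V32]))) (grp_cons_le ((t_le33.trans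 (t_le27.trans (t_le22.trans (t_le17.trans (t_le12.trans (t_le8.trans (t_le4.trans (le_refl (grp 100 EG))))))))) (toPerm_mem_grp (E := t_V32) (by simp [t_V32]))) (grp_cons_le ((t_le33.trans (t_le27.trans (t_le22.trans (t_le17.trans (t_le12.trans (t_le8.trans (t_le4.trans (le_refl (grp 100 EG))))))))) (toPerm_mem_grp (E := t_V32) (by simp [t_V32]))) (grp_cons_le ((t_le36.trans (t_le33.trans (t_le27.trans (t_le22.trans (t_le17.trans (t_le12.trans (t_le8.trans (t_le4.trans (le_refl (grp 100 EG)))))))))) (toPerm_mem_grp (E := t_V35) (by simp [t_V35]))) (grp_cons_le ((t_le36.trans (t_le33.trans (t_le27.trans (t_le22.trans (t_le17.trans (t_le12.trans (t_le8.trans (t_le4.trans (le_refl (grp 100 EG)))))))))) (toPerm_mem_grp (E := t_V35) (by simp [t_V35]))) (grp_cons_le ((t_le38.trans (t_le36.trans (t_le33.trans (t_le27.trans (t_le22.trans (t_le17.trans (t_le12.trans (t_le8.trans (t_le4.trans (le_refl (grp 100 EG))))))))))) (toPerm_mem_grp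 (E := t_V37) (by simp [t_V37]))) (grp_cons_le ((t_le38.trans (t_le36.trans (t_le33.trans (t_le27.trans (t_le22.trans (t_le17.trans (t_le12.trans (t_le8.trans (t_le4.trans (le_refl (grp 100 EG))))))))))) (toPerm_mem_grp (E := t_V37) (by simp [t_V37]))) (grp_nil_le _)))))))))))))))))))))))))))

noncomputable def lb_ch : Ch := (Ch.cons (nat_lit 0) [nat_lit 1, nat_lit 3, nat_lit 5] (Ch.cons (nat_lit 1) [nat_lit 7, nat_lit 9] (Ch.cons (nat_lit 2) [nat_lit 11, nat_lit 13] (Ch.cons (nat_lit 3) [nat_lit 15, nat_lit 17] (Ch.cons (nat_lit 29) [nat_lit 19, nat_lit 21, nat_lit 23] (Ch.cons (nat_lit 32) [nat_lit 25, nat_lit 27, nat_lit 29] (Ch.cons (nat_lit 78) [nat_lit 31, nat_lit 33, nat_lit 35] (Ch.cons (nat_lit 5) [nat_lit 37, nat_lit 39, nat_lit 41, nat_lit 43] (Ch.cons (nat_lit 14) [nat_lit 45, nat_lit 47] (Ch.cons (nat_lit 4) [nat_lit 49, nat_lit 51] Ch.nil))))))))))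

theorem lb_chk : Ch.chk 100 7 (lab 100 7) lb_E lb_ch 88704000 = true :=
  by decide +kernel

theorem lb_ge : 88704000 ≤ Nat.card (grp 100 EG) :=
  (Ch.le_card_grp t_hn lb_E_ok lb_chk).trans (Subgroup.card_le_of_le lb_le)

theorem eq_lb : grp 100 EG = grp 100 lb_E :=
  le_antisymm (grp_mono (List.subset_append_left EG [t_g1, t_g2, t_g5, t_g6, t_g9, t_g10, t_g13, t_g14, t_g15, t_g18, t_g19, t_g20, t_g23, t_g24, t_g25, t_g28, t_g29, t_g30, t_g31, t_g34, t_g30, t_g34, t_g34])) lb_le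

theorem G_le : grp 100 HSM.E ≤ grp 100 EG :=
  grp_mono (List.subset_cons_self MpHS.a HSM.E)

theorem nrm : grp 100 EG ≤ Subgroup.normalizer (grp 100 HSM.E : Set (Equiv.Perm (Fin 100))) :=
  grp_cons_le MpHS.a_norm Subgroup.le_normalizer

theorem card_aut : Nat.card (MulAut (grp 100 HSM.E)) = 88704000 :=
  by
  rw [card_aut_eq (EvG.center_eq_bot fun _ _ h => MpHS.one.eq_one h),
    (H42.card_Out_congr HSM.equiv).symm.trans HSO.card_out, HSM.card_grp]

theorem amb : EvG.Amb (grp 100 HSM.E) (grp 100 EG) :=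
  EvG.Amb.of_card G_le nrm (fun _ _ h => MpHS.one.eq_one h) (card_aut.le.trans lb_ge)

theorem card_N : Nat.card (grp 100 EG) = 88704000 :=
  amb.card.trans card_aut

theorem T_s0 : Stab 100 (grp 100 EG) [] lb_E 88704000 :=
  Stab.root' lb_E_ok eq_lb card_N

theorem t_le48 : grp 100 nt_c1_K ≤ grp 100 lb_E :=
  grp_le_of_memB t_hn t_hk lb_E_ok nt_c1_K_ok (ws := [nat_lit 0x312b1f1a130f110b1a07190615, nat_lit 0x2f2b130f110b12070d010305, nat_lit 0x312f1a170f0f0b110808040a, nat_lit 0x2f252b13180f0f0c0f060c, nat_lit 0x312f1f13100e0a0b01031c, nat_lit 0x311f130f0f0b1a0719, nat_lit 0x312f251f1a170f110b0f071101030f, nat_lit 0x2f252b19130f0b0b0a0c01030f]) (by decide +kernel)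

theorem nt_c1_le : grp 100 nt_c1_K ≤ (grp 100 EG) :=
  (t_le48.trans T_s0.le)

theorem nt_c1_mem : Net.toPerm 100 t_g39 ∈ (grp 100 EG) :=
  nt_c1_le (mem_grp_of_memB t_hn t_hk nt_c1_K_ok t_g39_ok (w := (nat_lit 0xf0a07050303)) (by decide +kernel))

theorem nt_c1_sym : Sym 100 (grp 100 EG) [t_g39] nt_c1_K 0 :=
  Sym.of_lab t_hn t_hk (okE_cons.2 ⟨t_g39_ok, okE_nil _⟩) nt_c1_K_ok nt_c1_le (kT := 0) (by decide +kernel)

theorem T_s1 : Stab 100 (grp 100 EG) [nat_lit 0] t_V49 887040 :=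
  Stab.step (k := 7) (L := (lab 100 7)) t_hn T_s0 t_V49_ok (grp_mono (List.subset_append_right [MpHS.a, HSM.g1, HSM.g2] _)) (c := (Ch.cons (nat_lit 1) [nat_lit 1, nat_lit 3] (Ch.cons (nat_lit 2) [nat_lit 5, nat_lit 7] (Ch.cons (nat_lit 3) [nat_lit 9, nat_lit 11] (Ch.cons (nat_lit 29) [nat_lit 13, nat_lit 15, nat_lit 17] (Ch.cons (nat_lit 32) [nat_lit 19, nat_lit 21, nat_lit 23] (Ch.cons (nat_lit 78) [nat_lit 25, nat_lit 27, nat_lit 29] (Ch.cons (nat_lit 5) [nat_lit 31, nat_lit 33, nat_lit 35, nat_lit 37] (Ch.cons (nat_lit 14) [nat_lit 39, nat_lit 41] (Ch.cons (nat_lit 4) [nat_lit 43, nat_lit 45] Ch.nil)))))))))) (by decide +kernel)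

theorem T_s2 : Stab 100 (grp 100 EG) [nat_lit 1, nat_lit 0] t_V50 40320 :=
  Stab.step (k := 7) (L := (lab 100 7)) t_hn T_s1 t_V50_ok (grp_mono (List.subset_append_right [t_g1, t_g2] _)) (c := (Ch.cons (nat_lit 2) [nat_lit 1, nat_lit 3] (Ch.cons (nat_lit 3) [nat_lit 5, nat_lit 7] (Ch.cons (nat_lit 29) [nat_lit 9, nat_lit 11, nat_lit 13] (Ch.cons (nat_lit 32) [nat_lit 15, nat_lit 17, nat_lit 19] (Ch.cons (nat_lit 78) [nat_lit 21, nat_lit 23, nat_lit 25] (Ch.cons (nat_lit 5) [nat_lit 27, nat_lit 29, nat_lit 31, nat_lit 33] (Ch.cons (nat_lit 14) [nat_lit 35, nat_lit 37] (Ch.cons (nat_lit 4) [nat_lit 39, nat_lit 41] Ch.nil))))))))) (by decide +kernel)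

theorem T_s3 : Stab 100 (grp 100 EG) [nat_lit 2, nat_lit 1, nat_lit 0] t_V51 1920 :=
  Stab.step (k := 7) (L := (lab 100 7)) t_hn T_s2 t_V51_ok (grp_mono (List.subset_append_right [t_g5, t_g6] _)) (c := (Ch.cons (nat_lit 3) [nat_lit 1, nat_lit 3] (Ch.cons (nat_lit 29) [nat_lit 5, nat_lit 7, nat_lit 9] (Ch.cons (nat_lit 32) [nat_lit 11, nat_lit 13, nat_lit 15] (Ch.cons (nat_lit 78) [nat_lit 17, nat_lit 19, nat_lit 21] (Ch.cons (nat_lit 5) [nat_lit 23, nat_lit 25, nat_lit 27, nat_lit 29] (Ch.cons (nat_lit 14) [nat_lit 31, nat_lit 33] (Ch.cons (nat_lit 4) [nat_lit 35, nat_lit 37] Ch.nil)))))))) (by decide +kernel)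

theorem T_s4 : Stab 100 (grp 100 EG) [nat_lit 3, nat_lit 2, nat_lit 1, nat_lit 0] t_V52 384 :=
  Stab.step (k := 7) (L := (lab 100 7)) t_hn T_s3 t_V52_ok (grp_mono (List.subset_append_right [t_g9, t_g10] _)) (c := (Ch.cons (nat_lit 29) [nat_lit 1, nat_lit 3, nat_lit 5] (Ch.cons (nat_lit 32) [nat_lit 7, nat_lit 9, nat_lit 11] (Ch.cons (nat_lit 78) [nat_lit 13, nat_lit 15, nat_lit 17] (Ch.cons (nat_lit 5) [nat_lit 19, nat_lit 21, nat_lit 23, nat_lit 25] (Ch.cons (nat_lit 14) [nat_lit 27, nat_lit 29] (Ch.cons (nat_lit 4) [nat_lit 31, nat_lit 33] Ch.nil))))))) (by decide +kernel)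

theorem T_s5 : Stab 100 (grp 100 EG) [nat_lit 29, nat_lit 3, nat_lit 2, nat_lit 1, nat_lit 0] t_V53 96 :=
  Stab.step (k := 7) (L := (lab 100 7)) t_hn T_s4 t_V53_ok (grp_mono (List.subset_append_right [t_g13, t_g14, t_g15] _)) (c := (Ch.cons (nat_lit 32) [nat_lit 1, nat_lit 3, nat_lit 5] (Ch.cons (nat_lit 78) [nat_lit 7, nat_lit 9, nat_lit 11] (Ch.cons (nat_lit 5) [nat_lit 13, nat_lit 15, nat_lit 17, nat_lit 19] (Ch.cons (nat_lit 14) [nat_lit 21, nat_lit 23] (Ch.cons (nat_lit 4) [nat_lit 25, nat_lit 27] Ch.nil)))))) (by decide +kernel)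

theorem t_le56 : grp 100 t_V55 ≤ grp 100 t_V53 :=
  grp_le_of_memB t_hn t_hk t_V53_ok t_V55_ok (ws := [nat_lit 7, nat_lit 6419, nat_lit 0x19170d]) (by decide +kernel)

theorem T_s6 : Stab 100 (grp 100 EG) [nat_lit 57, nat_lit 29, nat_lit 3, nat_lit 2, nat_lit 1, nat_lit 0] t_V55 8 :=
  Stab.step (k := 7) (L := (lab 100 7)) t_hn T_s5 t_V55_ok t_le56 (c := (Ch.cons (nat_lit 87) [nat_lit 1] (Ch.cons (nat_lit 54) [nat_lit 3] (Ch.cons (nat_lit 20) [nat_lit 5] Ch.nil)))) (by decide +kernel)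

theorem T_s7 : Stab 100 (grp 100 EG) [nat_lit 87, nat_lit 57, nat_lit 29, nat_lit 3, nat_lit 2, nat_lit 1, nat_lit 0] t_V57 4 :=
  Stab.step (k := 7) (L := (lab 100 7)) t_hn T_s6 t_V57_ok (grp_mono (List.subset_append_right [t_g23] _)) (c := (Ch.cons (nat_lit 54) [nat_lit 1] (Ch.cons (nat_lit 20) [nat_lit 3] Ch.nil))) (by decide +kernel)

theorem T_s8 : Stab 100 (grp 100 EG) [nat_lit 54, nat_lit 87, nat_lit 57, nat_lit 29, nat_lit 3, nat_lit 2, nat_lit 1, nat_lit 0] t_V58 2 :=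
  Stab.step (k := 7) (L := (lab 100 7)) t_hn T_s7 t_V58_ok (grp_mono (List.subset_append_right [t_g54] _)) (c := (Ch.cons (nat_lit 20) [nat_lit 1] Ch.nil)) (by decide +kernel)

theorem T_s9 : Stab 100 (grp 100 EG) [nat_lit 20, nat_lit 54, nat_lit 87, nat_lit 57, nat_lit 29, nat_lit 3, nat_lit 2, nat_lit 1, nat_lit 0] t_V59 1 :=
  Stab.step (k := 7) (L := (lab 100 7)) t_hn T_s8 t_V59_ok (grp_mono (List.subset_append_right [t_g29] _)) (c := Ch.nil) (by decide +kernel)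

theorem MpHS.a_T : Net.toPerm 100 MpHS.a ∈ (grp 100 EG) :=
  T_s0.le (toPerm_mem_grp (E := lb_E) (List.Mem.head _))

theorem HSM.g1_T : Net.toPerm 100 HSM.g1 ∈ (grp 100 EG) :=
  T_s0.le (toPerm_mem_grp (E := lb_E) (List.Mem.tail _ (List.Mem.head _)))

theorem HSM.g2_T : Net.toPerm 100 HSM.g2 ∈ (grp 100 EG) :=
  T_s0.le (toPerm_mem_grp (E := lb_E) (List.Mem.tail _ (List.Mem.tail _ (List.Mem.head _))))

theorem t_g1_T : Net.toPerm 100 t_g1 ∈ (grp 100 EG) :=
  T_s0.le (toPerm_mem_grp (E := lb_E) (List.Mem.tail _ (List.Mem.tail _ (List.Mem.tail _ (List.Mem.head _)))))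

theorem t_g2_T : Net.toPerm 100 t_g2 ∈ (grp 100 EG) :=
  T_s0.le (toPerm_mem_grp (E := lb_E) (List.Mem.tail _ (List.Mem.tail _ (List.Mem.tail _ (List.Mem.tail _ (List.Mem.head _))))))

theorem t_g5_T : Net.toPerm 100 t_g5 ∈ (grp 100 EG) :=
  T_s0.le (toPerm_mem_grp (E := lb_E) (List.Mem.tail _ (List.Mem.tail _ (List.Mem.tail _ (List.Mem.tail _ (List.Mem.tail _ (List.Mem.head _)))))))

theorem t_g6_T : Net.toPerm 100 t_g6 ∈ (grp 100 EG) :=
  T_s0.le (toPerm_mem_grp (E := lb_E) (List.Mem.tail _ (List.Mem.tail _ (List.Mem.tail _ (List.Mem.tail _ (List.Mem.tail _ (List.Mem.tail _ (List.Mem.head _))))))))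

theorem t_g9_T : Net.toPerm 100 t_g9 ∈ (grp 100 EG) :=
  T_s0.le (toPerm_mem_grp (E := lb_E) (List.Mem.tail _ (List.Mem.tail _ (List.Mem.tail _ (List.Mem.tail _ (List.Mem.tail _ (List.Mem.tail _ (List.Mem.tail _ (List.Mem.head _)))))))))

theorem t_g10_T : Net.toPerm 100 t_g10 ∈ (grp 100 EG) :=
  T_s0.le (toPerm_mem_grp (E := lb_E) (List.Mem.tail _ (List.Mem.tail _ (List.Mem.tail _ (List.Mem.tail _ (List.Mem.tail _ (List.Mem.tail _ (List.Mem.tail _ (List.Mem.tail _ (List.Mem.head _))))))))))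

theorem t_g13_T : Net.toPerm 100 t_g13 ∈ (grp 100 EG) :=
  T_s0.le (toPerm_mem_grp (E := lb_E) (List.Mem.tail _ (List.Mem.tail _ (List.Mem.tail _ (List.Mem.tail _ (List.Mem.tail _ (List.Mem.tail _ (List.Mem.tail _ (List.Mem.tail _ (List.Mem.tail _ (List.Mem.head _)))))))))))

theorem t_g14_T : Net.toPerm 100 t_g14 ∈ (grp 100 EG) :=
  T_s0.le (toPerm_mem_grp (E := lb_E) (List.Mem.tail _ (List.Mem.tail _ (List.Mem.tail _ (List.Mem.tail _ (List.Mem.tail _ (List.Mem.tail _ (List.Mem.tail _ (List.Mem.tail _ (List.Mem.tail _ (List.Mem.tail _ (List.Mem.head _))))))))))))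

theorem t_g15_T : Net.toPerm 100 t_g15 ∈ (grp 100 EG) :=
  T_s0.le (toPerm_mem_grp (E := lb_E) (List.Mem.tail _ (List.Mem.tail _ (List.Mem.tail _ (List.Mem.tail _ (List.Mem.tail _ (List.Mem.tail _ (List.Mem.tail _ (List.Mem.tail _ (List.Mem.tail _ (List.Mem.tail _ (List.Mem.tail _ (List.Mem.head _)))))))))))))

theorem t_g18_T : Net.toPerm 100 t_g18 ∈ (grp 100 EG) :=
  T_s0.le (toPerm_mem_grp (E := lb_E) (List.Mem.tail _ (List.Mem.tail _ (List.Mem.tail _ (List.Mem.tail _ (List.Mem.tail _ (List.Mem.tail _ (List.Mem.tail _ (List.Mem.tail _ (List.Mem.tail _ (List.Mem.tail _ (List.Mem.tail _ (List.Mem.tail _ (List.Mem.head _))))))))))))))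

theorem t_g19_T : Net.toPerm 100 t_g19 ∈ (grp 100 EG) :=
  T_s0.le (toPerm_mem_grp (E := lb_E) (List.Mem.tail _ (List.Mem.tail _ (List.Mem.tail _ (List.Mem.tail _ (List.Mem.tail _ (List.Mem.tail _ (List.Mem.tail _ (List.Mem.tail _ (List.Mem.tail _ (List.Mem.tail _ (List.Mem.tail _ (List.Mem.tail _ (List.Mem.tail _ (List.Mem.head _)))))))))))))))

theorem t_g20_T : Net.toPerm 100 t_g20 ∈ (grp 100 EG) :=
  T_s0.le (toPerm_mem_grp (E := lb_E) (List.Mem.tail _ (List.Mem.tail _ (List.Mem.tail _ (List.Mem.tail _ (List.Mem.tail _ (List.Mem.tail _ (List.Mem.tail _ (List.Mem.tail _ (List.Mem.tail _ (List.Mem.tail _ (List.Mem.tail _ (List.Mem.tail _ (List.Mem.tail _ (List.Mem.tail _ (List.Mem.head _))))))))))))))))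

theorem t_g23_T : Net.toPerm 100 t_g23 ∈ (grp 100 EG) :=
  T_s0.le (toPerm_mem_grp (E := lb_E) (List.Mem.tail _ (List.Mem.tail _ (List.Mem.tail _ (List.Mem.tail _ (List.Mem.tail _ (List.Mem.tail _ (List.Mem.tail _ (List.Mem.tail _ (List.Mem.tail _ (List.Mem.tail _ (List.Mem.tail _ (List.Mem.tail _ (List.Mem.tail _ (List.Mem.tail _ (List.Mem.tail _ (List.Mem.head _)))))))))))))))))

theorem t_g24_T : Net.toPerm 100 t_g24 ∈ (grp 100 EG) :=
  T_s0.le (toPerm_mem_grp (E := lb_E) (List.Mem.tail _ (List.Mem.tail _ (List.Mem.tail _ (List.Mem.tail _ (List.Mem.tail _ (List.Mem.tail _ (List.Mem.tail _ (List.Mem.tail _ (List.Mem.tail _ (List.Mem.tail _ (List.Mem.tail _ (List.Mem.tail _ (List.Mem.tail _ (List.Mem.tail _ (List.Mem.tail _ (List.Mem.tail _ (List.Mem.head _))))))))))))))))))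

theorem t_g25_T : Net.toPerm 100 t_g25 ∈ (grp 100 EG) :=
  T_s0.le (toPerm_mem_grp (E := lb_E) (List.Mem.tail _ (List.Mem.tail _ (List.Mem.tail _ (List.Mem.tail _ (List.Mem.tail _ (List.Mem.tail _ (List.Mem.tail _ (List.Mem.tail _ (List.Mem.tail _ (List.Mem.tail _ (List.Mem.tail _ (List.Mem.tail _ (List.Mem.tail _ (List.Mem.tail _ (List.Mem.tail _ (List.Mem.tail _ (List.Mem.tail _ (List.Mem.head _)))))))))))))))))))

theorem t_g28_T : Net.toPerm 100 t_g28 ∈ (grp 100 EG) :=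
  T_s0.le (toPerm_mem_grp (E := lb_E) (List.Mem.tail _ (List.Mem.tail _ (List.Mem.tail _ (List.Mem.tail _ (List.Mem.tail _ (List.Mem.tail _ (List.Mem.tail _ (List.Mem.tail _ (List.Mem.tail _ (List.Mem.tail _ (List.Mem.tail _ (List.Mem.tail _ (List.Mem.tail _ (List.Mem.tail _ (List.Mem.tail _ (List.Mem.tail _ (List.Mem.tail _ (List.Mem.tail _ (List.Mem.head _))))))))))))))))))))

theorem t_g29_T : Net.toPerm 100 t_g29 ∈ (grp 100 EG) :=
  T_s0.le (toPerm_mem_grp (E := lb_E) (List.Mem.tail _ (List.Mem.tail _ (List.Mem.tail _ (List.Mem.tail _ (List.Mem.tail _ (List.Mem.tail _ (List.Mem.tail _ (List.Mem.tail _ (List.Mem.tail _ (List.Mem.tail _ (List.Mem.tail _ (List.Mem.tail _ (List.Mem.tail _ (List.Mem.tail _ (List.Mem.tail _ (List.Mem.tail _ (List.Mem.tail _ (List.Mem.tail _ (List.Mem.tail _ (List.Mem.head _)))))))))))))))))))))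

theorem t_g30_T : Net.toPerm 100 t_g30 ∈ (grp 100 EG) :=
  T_s0.le (toPerm_mem_grp (E := lb_E) (List.Mem.tail _ (List.Mem.tail _ (List.Mem.tail _ (List.Mem.tail _ (List.Mem.tail _ (List.Mem.tail _ (List.Mem.tail _ (List.Mem.tail _ (List.Mem.tail _ (List.Mem.tail _ (List.Mem.tail _ (List.Mem.tail _ (List.Mem.tail _ (List.Mem.tail _ (List.Mem.tail _ (List.Mem.tail _ (List.Mem.tail _ (List.Mem.tail _ (List.Mem.tail _ (List.Mem.tail _ (List.Mem.head _))))))))))))))))))))))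

theorem t_g31_T : Net.toPerm 100 t_g31 ∈ (grp 100 EG) :=
  T_s0.le (toPerm_mem_grp (E := lb_E) (List.Mem.tail _ (List.Mem.tail _ (List.Mem.tail _ (List.Mem.tail _ (List.Mem.tail _ (List.Mem.tail _ (List.Mem.tail _ (List.Mem.tail _ (List.Mem.tail _ (List.Mem.tail _ (List.Mem.tail _ (List.Mem.tail _ (List.Mem.tail _ (List.Mem.tail _ (List.Mem.tail _ (List.Mem.tail _ (List.Mem.tail _ (List.Mem.tail _ (List.Mem.tail _ (List.Mem.tail _ (List.Mem.tail _ (List.Mem.head _)))))))))))))))))))))))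

theorem t_g34_T : Net.toPerm 100 t_g34 ∈ (grp 100 EG) :=
  T_s0.le (toPerm_mem_grp (E := lb_E) (List.Mem.tail _ (List.Mem.tail _ (List.Mem.tail _ (List.Mem.tail _ (List.Mem.tail _ (List.Mem.tail _ (List.Mem.tail _ (List.Mem.tail _ (List.Mem.tail _ (List.Mem.tail _ (List.Mem.tail _ (List.Mem.tail _ (List.Mem.tail _ (List.Mem.tail _ (List.Mem.tail _ (List.Mem.tail _ (List.Mem.tail _ (List.Mem.tail _ (List.Mem.tail _ (List.Mem.tail _ (List.Mem.tail _ (List.Mem.tail _ (List.Mem.head _))))))))))))))))))))))))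

theorem t_g54_T : Net.toPerm 100 t_g54 ∈ (grp 100 EG) :=
  T_s6.le (toPerm_mem_grp (E := t_V55) (List.Mem.tail _ (List.Mem.head _)))

noncomputable def T_s9_O : ℕ := (nat_lit 0x3333266666ccccd99999333321f07c1f03e0f83e0f83e0f83ee63398c67319ce63398c673184db24d926c93649b64db26d92000000000000000000000000100000000000000000000000020000000000000000000000004000000000000000000000000800000000000000000200000000000000000200000000000000000800000000000000000000000000000000400000000000000000000000000000000100000)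

theorem T_s9_F : Frame 100 (grp 100 EG) 9 13 T_s9_O 1 1 :=
  IsBase.frame T_s9.isBase (by decide +kernel)

noncomputable def T_s8_O : ℕ := (nat_lit 0x80000000000000000000000000200000000000000000000000002000000000000000000000000004000000000000000000000000080000000000000000000000000200000000000000000000000004000000000000000000000000000000200000000000000000000000001000000000000000000000000010000000000000000000000000008000000000000000000000000040000408000000000000000000000000002800000000000000000000000001100000000000000000200000008000000000000000000100000200000000000000000000100010000000000000000040000000100000000000000000000000005000000000000000000002000020000000000000100000000000400000000000080000000000020000000000000000000008000400000000000000000000008020000000000000000000008000400000000000004000000000010000000000000100000000000800000000000000040000000040000000000000000000000082000000000000000000000800080000000000000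00000001000200000000004000000000000008000000000000008000000000400000000000000000000800010000000000080000000000000400000000000000040000000020000000000000000000100001000000000000000200000000040000000000000000100000001000000200000000000000000080000000000000000000000801000000000000000000000000280000000000000000000400004000000000040000000000000100000000100000000000000008000000000000000000000002400010000000000000000000020000000000000000000002000800000400000000000000000040000002000000000000000002000000000000000000000000010000000000000000000000002000000000000000000000000400000000000000000000000080000000000000000020000000000000000020000000000000000080000000000000000000000000000000040000000000000)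

theorem T_s8_F : Frame 100 (grp 100 EG) 8 59 T_s8_O 0 1 :=
  Stab.frame t_hn T_s8 (by decide +kernel)

noncomputable def T_s7_O : ℕ := (nat_lit 0x80000000000000000000000000200000000000000000000000000040000000000000000000000000800000000000000000000000000000000001000000000010000020000000000000000000010001000000000000000004000000010000000000000001000000000004000000000000800000000000200000000000000000000000400200000000000001000000000008000000000000000020000000100000000000400000000000000800000000000000040000000000800000000200000000000000004000000000004000000000000010000000004008000404000000000000000200002008200000000000000008000802000400000000000000000001800210000000408000000000010000100000000000000020080008004000000200000000010000000180000000028000000000000002800000000000000000004080140000000810000000000004000800000000000050000000000240001000000008000400000002002000000080000000000200080000040000400000000200004000040200000000100000000200000000000000000000000001000000000000000000000000200000000000000000000000040000000000000000000000008000000000000000002000000000000000002000000000000000008000000000000000000000)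

theorem T_s7_F : Frame 100 (grp 100 EG) 7 39 T_s7_O 0 1 :=
  Stab.frame t_hn T_s7 (by decide +kernel)

noncomputable def T_s5_O : ℕ := (nat_lit 0x200400000000001000000001010000020004000000000000020000000001000000018000000000000000000004080140000001000640001809210801000804281000004202008404080028080088802802000402000800404120011500010000002420000028600a02848680042800000000000000000000000000010000000000000000000000002000000000000000000000000400000000000000000000000080000000000000000020000000)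

theorem T_s5_F : Frame 100 (grp 100 EG) 5 14 T_s5_O 0 1 :=
  Stab.frame t_hn T_s5 (by decide +kernel)

noncomputable def T_s4_O : ℕ := (nat_lit 0x10100000200040000000000000020040000000000120000000000028600a0284868004280000201000640011809210981000804281000004202048c05480041804011048001400030003500000000000000000000000001000000000000000000000000200000000000000000000000040000000000000000000000008)

theorem T_s4_F : Frame 100 (grp 100 EG) 4 10 T_s4_O 0 1 :=
  Stab.frame t_hn T_s4 (by decide +kernel)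

noncomputable def T_s2_O : ℕ := (nat_lit 0x41a0441104800140123000358121100066001580921098100400000000000000000000000010000000000000000000000002)

theorem T_s2_F : Frame 100 (grp 100 EG) 2 4 T_s2_O 0 1 :=
  Stab.frame t_hn T_s2 (by decide +kernel)

noncomputable def T_s1_O : ℕ := (nat_lit 0x12110006600158092109810060000000000000000000000001)

theorem T_s1_F : Frame 100 (grp 100 EG) 1 2 T_s1_O 0 1 :=
  Stab.frame t_hn T_s1 (by decide +kernel)

noncomputable def nt_c1_cnt_L : List ℕ := [1, 2, T_s1_O, 0, 0, 2, 4, T_s2_O, 0, 0, 4, 10, T_s4_O, 0, 0, 5, 14, T_s5_O, 0, 0, 7, 39, T_s7_O, 0, 0, 8, 59, T_s8_O, 0, 0, 9, 13, T_s9_O, 1, 0]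

theorem nt_c1_cnt_P : Prob 100 7 (grp 100 EG) nt_c1_cnt_EG [t_g39] [t_g39] nt_c1_K nt_c1_cnt_L 0 0 :=
  Sym.prob t_hn t_hk nt_c1_sym nt_c1_cnt_EG_ok (grp_cons_le MpHS.a_T (grp_cons_le HSM.g1_T (grp_cons_le HSM.g2_T (grp_cons_le t_g1_T (grp_cons_le t_g2_T (grp_cons_le t_g5_T (grp_cons_le t_g6_T (grp_cons_le t_g9_T (grp_cons_le t_g10_T (grp_cons_le t_g13_T (grp_cons_le t_g14_T (grp_cons_le t_g15_T (grp_cons_le t_g18_T (grp_cons_le t_g19_T (grp_cons_le t_g20_T (grp_cons_le t_g23_T (grp_cons_le t_g24_T (grp_cons_le t_g25_T (grp_cons_le t_g28_T (grp_cons_le t_g29_T (grp_cons_le t_g30_T (grp_cons_le t_g31_T (grp_cons_le t_g34_T (grp_cons_le t_g54_T (grp_nil_le _))))))))))))))))))))))))) (Frames.cons T_s1_F (Frames.cons T_s2_F (Frames.cons T_s4_F (Frames.cons T_s5_F (Frames.cons T_s7_F (Frames.cons T_s8_F (Frames.cons T_s9_F Frames.nil))))))) (okE_cons.2 ⟨t_g39_ok, okE_nil _⟩) _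

noncomputable def nt_c1_cnt_t : BT := (BT.fix (nat_lit 1) (BT.br (nat_lit 0) (nat_lit 99) [nat_lit 1, nat_lit 3] (BT.kid (nat_lit 99) (nat_lit 2688) (BT.frm (nat_lit 0) (nat_lit 65821) (nat_lit 65821) [nat_lit 0] (BT.pln (nat_lit 0) (nat_lit 1) (BT.dif (nat_lit 0) (nat_lit 3) (BT.br (nat_lit 0) (nat_lit 78) [nat_lit 3, nat_lit 5] (BT.kid (nat_lit 78) (nat_lit 192) (BT.frm (nat_lit 1) (nat_lit 0x801011d) (nat_lit 0x801011d) [nat_lit 0, nat_lit 4] (BT.pln (nat_lit 0) (nat_lit 3) (BT.and (nat_lit 7) (nat_lit 0) (BT.br (nat_lit 0) (nat_lit 60) [nat_lit 5, nat_lit 7] (BT.dead (nat_lit 36) (BT.img (nat_lit 1) (nat_lit 4) (BT.frm (nat_lit 2) (nat_lit 0xf110b220801011d) (nat_lit 0xf0f0b220801011d) [nat_lit 1, nat_lit 0, nat_lit 5, nat_lit 9] (BT.pln (nat_lit 0) (nat_lit 5) (BT.and (nat_lit 0) (nat_lit 12) (BT.cnt (nat_lit 0)))))) (BT.kid (nat_lit 60) (nat_lit 96) (BT.and (nat_lit 2) (nat_lit 9) (BT.dif (nat_lit 0) (nat_lit 1)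 (BT.br (nat_lit 0) (nat_lit 56) [nat_lit 7] (BT.dead (nat_lit 71) (BT.img (nat_lit 1) (nat_lit 7) (BT.frm (nat_lit 3) (nat_lit 0x13180f110b220801011d) (nat_lit 0x130f110b220801011d) [nat_lit 1, nat_lit 4, nat_lit 0, nat_lit 8, nat_lit 12] (BT.pln (nat_lit 0) (nat_lit 6) (BT.and (nat_lit 0) (nat_lit 15) (BT.cnt (nat_lit 0)))))) (BT.kid (nat_lit 56) (nat_lit 32) (BT.dif (nat_lit 15) (nat_lit 12) (BT.img (nat_lit 1) (nat_lit 8) (BT.frm (nat_lit 3) (nat_lit 0x13180f110b220801011d) (nat_lit 0x13180f110b220801011d) [nat_lit 2, nat_lit 5, nat_lit 0, nat_lit 9, nat_lit 13] (BT.pln (nat_lit 0) (nat_lit 7) (BT.and (nat_lit 3) (nat_lit 0) (BT.br (nat_lit 0) (nat_lit 70) [nat_lit 9] (BT.kid (nat_lit 70) (nat_lit 8) (BT.dif (nat_lit 2) (nat_lit 18) (BT.dif (nat_lit 0) (nat_lit 1) (BT.img (nat_lit 1) (nat_lit 2) (BT.dif (nat_lit 1) (nat_lit 0) (BT.br (nat_lit 0) (nat_lit 98) [nat_lit 11] (BT.kid (nat_lit 98) (nat_lit 4) (BT.frm (nat_lit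 4) (nat_lit 0x1913180f110b220801011d) (nat_lit 0x1913180f110b220801011d) [nat_lit 0, nat_lit 5, nat_lit 11, nat_lit 14, nat_lit 9, nat_lit 18, nat_lit 22] (BT.pln (nat_lit 0) (nat_lit 28) (BT.br (nat_lit 0) (nat_lit 89) [nat_lit 13] (BT.kid (nat_lit 89) (nat_lit 2) (BT.frm (nat_lit 5) (nat_lit 0x1913180f110b220801011d) (nat_lit 0x1913180f110b220801011d) [nat_lit 0, nat_lit 3, nat_lit 8, nat_lit 14, nat_lit 17, nat_lit 12, nat_lit 21, nat_lit 25] (BT.pln (nat_lit 0) (nat_lit 19) (BT.and (nat_lit 24) (nat_lit 0) (BT.br (nat_lit 0) (nat_lit 67) [nat_lit 15] (BT.kid (nat_lit 67) (nat_lit 1) (BT.one (nat_lit 6) (nat_lit 0x271913180f110b220801011d) (nat_lit 0x271913180f110b220801011d) [nat_lit 0, nat_lit 4, nat_lit 7, nat_lit 12, nat_lit 18, nat_lit 21, nat_lit 16, nat_lit 25, nat_lit 29]) BT.nil))))) BT.nil)))) BT.nil)))))) BT.nil))))))) BT.nil))))) BT.nil)))))) BT.nil))))) BT.nil)))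

theorem nt_c1_cnt : Cnt 100 (grp 100 EG) [t_g39] [t_g39] 0 0 0 0 80640 :=
  BT.sound nt_c1_cnt_P Known.nil (t := nt_c1_cnt_t) (d := 0) (by decide +kernel)

theorem nt_c1_ge : 80640 ≤ Nat.card (grp 100 nt_c1_K) :=
  Ch.le_card_grp (k := 7) (L := (lab 100 7)) t_hn nt_c1_K_ok (c := (Ch.cons (nat_lit 99) [nat_lit 1] (Ch.cons (nat_lit 78) [nat_lit 3] (Ch.cons (nat_lit 60) [nat_lit 5] (Ch.cons (nat_lit 56) [nat_lit 7] (Ch.cons (nat_lit 70) [nat_lit 9] (Ch.cons (nat_lit 98) [nat_lit 11] (Ch.cons (nat_lit 89) [nat_lit 13] (Ch.cons (nat_lit 67) [nat_lit 15] Ch.nil))))))))) (by decide +kernel)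

theorem nt_c1_eq : (grp 100 EG) ⊓ Subgroup.centralizer {Net.toPerm 100 t_g39} = grp 100 nt_c1_K :=
  cent_eq nt_c1_sym nt_c1_cnt nt_c1_ge

theorem nt_c1_card : Nat.card ↥((grp 100 EG) ⊓ Subgroup.centralizer {Net.toPerm 100 t_g39}) = 80640 :=
  card_cent nt_c1_sym nt_c1_cnt nt_c1_ge

theorem nt_c1_ord : orderOf (Net.toPerm 100 t_g39) = 2 :=
  orderOf_net t_hn t_hk t_g39_ok (by decide) (ps := [2]) (by set_option linter.unusedSimpArgs false in simp [Nat.primeFactorsList_ofNat]) (by decide +kernel)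

theorem t_le69 : grp 100 nt_c2_K ≤ grp 100 lb_E :=
  grp_le_of_memB t_hn t_hk lb_E_ok nt_c2_K_ok (ws := [nat_lit 0x312f2b1a0f0b110a0b010316, nat_lit 0x19170f110b220710031b, nat_lit 0x2b19170c0f070d08020213, nat_lit 0x312f25130f0c0f07190301, nat_lit 0x2f252b1f19170f0b0f08180301, nat_lit 0x31251f0f0f0c0f08180301, nat_lit 0x312f252b19130f0f0b150a0c0307, nat_lit 0x2f1f1908180307]) (by decide +kernel)

theorem nt_c2_le : grp 100 nt_c2_K ≤ (grp 100 EG) :=
  (t_le69.trans T_s0.le)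

theorem nt_c2_mem : Net.toPerm 100 t_g60 ∈ (grp 100 EG) :=
  nt_c2_le (mem_grp_of_memB t_hn t_hk nt_c2_K_ok t_g60_ok (w := (nat_lit 3849)) (by decide +kernel))

theorem nt_c2_sym : Sym 100 (grp 100 EG) [t_g60] nt_c2_K 0 :=
  Sym.of_lab t_hn t_hk (okE_cons.2 ⟨t_g60_ok, okE_nil _⟩) nt_c2_K_ok nt_c2_le (kT := 0) (by decide +kernel)

theorem T_s10 : Stab 100 (grp 100 EG) [nat_lit 32, nat_lit 29, nat_lit 3, nat_lit 2, nat_lit 1, nat_lit 0] t_V70 32 :=
  Stab.step (k := 7) (L := (lab 100 7)) t_hn T_s5 t_V70_ok (grp_mono (List.subset_append_right [t_g18, t_g19, t_g20] _)) (c := (Ch.cons (nat_lit 78) [nat_lit 1, nat_lit 3, nat_lit 5] (Ch.cons (nat_lit 5) [nat_lit 7, nat_lit 9, nat_lit 11, nat_lit 13] (Ch.cons (nat_lit 14) [nat_lit 15, nat_lit 17] (Ch.cons (nat_lit 4) [nat_lit 19, nat_lit 21] Ch.nil))))) (by decide +kernel)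

theorem T_s11 : Stab 100 (grp 100 EG) [nat_lit 78, nat_lit 32, nat_lit 29, nat_lit 3, nat_lit 2, nat_lit 1, nat_lit 0] t_V71 16 :=
  Stab.step (k := 7) (L := (lab 100 7)) t_hn T_s10 t_V71_ok (grp_mono (List.subset_append_right [t_g23, t_g24, t_g25] _)) (c := (Ch.cons (nat_lit 5) [nat_lit 1, nat_lit 3, nat_lit 5, nat_lit 7] (Ch.cons (nat_lit 14) [nat_lit 9, nat_lit 11] (Ch.cons (nat_lit 4) [nat_lit 13, nat_lit 15] Ch.nil)))) (by decide +kernel)

theorem t_le74 : grp 100 t_V73 ≤ grp 100 t_V71 :=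
  grp_le_of_memB t_hn t_hk t_V71_ok t_V73_ok (ws := [nat_lit 854785, nat_lit 721159]) (by decide +kernel)

theorem T_s12 : Stab 100 (grp 100 EG) [nat_lit 95, nat_lit 78, nat_lit 32, nat_lit 29, nat_lit 3, nat_lit 2, nat_lit 1, nat_lit 0] t_V73 4 :=
  Stab.step (k := 7) (L := (lab 100 7)) t_hn T_s11 t_V73_ok t_le74 (c := (Ch.cons (nat_lit 64) [nat_lit 1] (Ch.cons (nat_lit 52) [nat_lit 3] Ch.nil))) (by decide +kernel)

theorem T_s13 : Stab 100 (grp 100 EG) [nat_lit 64, nat_lit 95, nat_lit 78, nat_lit 32, nat_lit 29, nat_lit 3, nat_lit 2, nat_lit 1, nat_lit 0] t_V75 2 :=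
  Stab.step (k := 7) (L := (lab 100 7)) t_hn T_s12 t_V75_ok (grp_mono (List.subset_append_right [t_g29] _)) (c := (Ch.cons (nat_lit 52) [nat_lit 1] Ch.nil)) (by decide +kernel)

theorem T_s14 : Stab 100 (grp 100 EG) [nat_lit 52, nat_lit 64, nat_lit 95, nat_lit 78, nat_lit 32, nat_lit 29, nat_lit 3, nat_lit 2, nat_lit 1, nat_lit 0] t_V76 1 :=
  Stab.step (k := 7) (L := (lab 100 7)) t_hn T_s13 t_V76_ok (grp_mono (List.subset_append_right [t_g72] _)) (c := Ch.nil) (by decide +kernel)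

theorem t_g72_T : Net.toPerm 100 t_g72 ∈ (grp 100 EG) :=
  T_s12.le (toPerm_mem_grp (E := t_V73) (List.Mem.tail _ (List.Mem.head _)))

noncomputable def T_s14_O : ℕ := (nat_lit 0x3333266666ccccd99999333321f07c1f03e0f83e0f83e0f83ee63398c67319ce63398c673184db24d926c93649b64db26d920000000000000000000000001000000000000000000000000200000000000000000000000040000000000000000000000008000000000000000002000000000000000000000001000000000000040000000000000000000080000000000000000000000000000000100000000000000000000000000010000000000000)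

theorem T_s14_F : Frame 100 (grp 100 EG) 10 14 T_s14_O 1 1 :=
  IsBase.frame T_s14.isBase (by decide +kernel)

noncomputable def T_s13_O : ℕ := (nat_lit 0x100000000000000000000000004000000000000000000000000020000000000000000000000001000000000000000000000000080000000000000000000000000100000000000000000000000000800000000000000000000000000200000000000000000000000001000000000000000000000000020000000000000000000000000040000000000000000810000000000000000000020000000001000000000000080000000000020000000000000000000000001800000000000000000400000040000000000000000008000002000000000000080000000000100000000000000000000002008000000000001000000000000400000000000000000000040020000000000000002000000001000000000000010000000000080000000000000000008000004000000000000000200000000200000000000000002000000010000000000000000002000000800000000004000000000000008000000000000000000800000400000000000000000000000210000000000000000000000040800000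00000400000000000002000000400000000000000000100000000000000400000000008000000000000000008000000400000200000000000000000020000000000000000000000001800000002000000000000000040000000020000000000000002000000000800000000000000080000000000000000000000014000000000000010000000000200000000004000000000000010000000000000000000004000800000000000040000000000040000000000008000000000002000000001000000000000000100000000008000000000000008000000000040000000000000400004000000000000000000020000000000000000000000000100000000000000000000000020000000000000000000000004000000000000000000000000800000000000000000200000000000000000000000100000000000004000000000000000000008000000000000000000000000000000010000000000000000)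

theorem T_s13_F : Frame 100 (grp 100 EG) 9 59 T_s13_O 0 1 :=
  Stab.frame t_hn T_s13 (by decide +kernel)

noncomputable def T_s12_O : ℕ := (nat_lit 0x2000000000000000000000000080000000000000000000000000008000000000000000000000000000020000000000000000100000200000000000000000000100010000000000000000040000000100000000000000010000000000040000000000008000000000002000000000000000000000004002000000000000010000000000080000000000000000200000001000000000004000000000000008000000000000000400000000008000000002000000000000000040000000000040000000000000100000000040080004040000000000000002000020082000000000000000080008020004000000000000000000018002100000004080000000000100001000000000000000200800080040000002000000000100000001800000000280000000000000028000000000000000000040801400000008100000000000040008000000000000500000000002400010000000080004000000020020000000800000000002000800000400004000000002000040000402000000001000000002000000000000000000000000010000000000000000000000002000000000000000000000000400000000000000000000000080000000000000000020000000000000000000000010000000000000400000000000000000000800000000000000000000000)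

theorem T_s12_F : Frame 100 (grp 100 EG) 8 39 T_s12_O 0 1 :=
  Stab.frame t_hn T_s12 (by decide +kernel)

noncomputable def T_s11_O : ℕ := (nat_lit 0x20000000000000000000000040010001100000000000000008080080002000000000000001010000020004000000000000804000000000200008000000000000008000802000400000000000000000001800210000000000000024000000100080000002000000000100000001800000002000000040020000040000000000000000000040801400000010004000000080000010000000810000000000004000800000000000050000000000240020000000800000000002000800004020000000010000000020000028600a0284868004280000000000000000000000000001000000000000000000000000200000000000000000000000040000000000000000000000008000000000000000002000000000000000000000001000000000000040000000000000000000)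

theorem T_s11_F : Frame 100 (grp 100 EG) 7 24 T_s11_O 0 1 :=
  Stab.frame t_hn T_s11 (by decide +kernel)

noncomputable def T_s10_O : ℕ := (nat_lit 0x2004000000000000000000004001000110000000000000000808008000200000000000000101000002000400000000000000000000000018002100000000200000000010000000180000000000000000000040801400000008100000000000040008008042000000042020080040000000100064000000900080100020000008800802000402000800004020000500010000002420000028600a028486800428000000000000000000000000000100000000000000000000000020000000000000000000000004000000000000000000000000800000000000000000200000000000000000000000100000000)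

theorem T_s10_F : Frame 100 (grp 100 EG) 6 19 T_s10_O 0 1 :=
  Stab.frame t_hn T_s10 (by decide +kernel)

noncomputable def T_s3_O : ℕ := (nat_lit 0x20040000000000120000008000028600a02848680042800041804011048001400030003501211000660015809210981000000000000000000000000000100000000000000000000000020000000000000000000000004)

theorem T_s3_F : Frame 100 (grp 100 EG) 3 7 T_s3_O 0 1 :=
  Stab.frame t_hn T_s3 (by decide +kernel)

noncomputable def nt_c2_cnt_L : List ℕ := [1, 2, T_s1_O, 0, 0, 2, 4, T_s2_O, 0, 0, 3, 7, T_s3_O, 0, 0, 4, 10, T_s4_O, 0, 0, 6, 19, T_s10_O, 0, 0, 7, 24, T_s11_O, 0, 0, 8, 39, T_s12_O, 0, 0, 9, 59, T_s13_O, 0, 0, 10, 14, T_s14_O, 1, 0]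

theorem nt_c2_cnt_P : Prob 100 7 (grp 100 EG) nt_c2_cnt_EG [t_g60] [t_g60] nt_c2_K nt_c2_cnt_L 0 0 :=
  Sym.prob t_hn t_hk nt_c2_sym nt_c2_cnt_EG_ok (grp_cons_le MpHS.a_T (grp_cons_le HSM.g1_T (grp_cons_le HSM.g2_T (grp_cons_le t_g1_T (grp_cons_le t_g2_T (grp_cons_le t_g5_T (grp_cons_le t_g6_T (grp_cons_le t_g9_T (grp_cons_le t_g10_T (grp_cons_le t_g13_T (grp_cons_le t_g14_T (grp_cons_le t_g15_T (grp_cons_le t_g18_T (grp_cons_le t_g19_T (grp_cons_le t_g20_T (grp_cons_le t_g23_T (grp_cons_le t_g24_T (grp_cons_le t_g25_T (grp_cons_le t_g28_T (grp_cons_le t_g29_T (grp_cons_le t_g30_T (grp_cons_le t_g31_T (grp_cons_le t_g34_T (grp_cons_le t_g72_T (grp_nil_le _))))))))))))))))))))))))) (Frames.cons T_s1_F (Frames.cons T_s2_F (Frames.cons T_s3_F (Frames.cons T_s4_F (Frames.cons T_s10_F (Frames.cons T_s11_F (Frames.cons T_s12_F (Frames.cons T_s13_F (Frames.cons T_s14_F Frames.nil))))))))) (okE_cons.2 ⟨t_g60_ok, okE_nil _⟩)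 _

noncomputable def nt_c2_cnt_t : BT := (BT.fix (nat_lit 1) (BT.br (nat_lit 0) (nat_lit 91) [nat_lit 1, nat_lit 3] (BT.kid (nat_lit 91) (nat_lit 768) (BT.frm (nat_lit 0) (nat_lit 773) (nat_lit 773) [nat_lit 0] (BT.pln (nat_lit 0) (nat_lit 1) (BT.and (nat_lit 3) (nat_lit 0) (BT.br (nat_lit 0) (nat_lit 81) [nat_lit 3] (BT.kid (nat_lit 81) (nat_lit 128) (BT.dif (nat_lit 1) (nat_lit 0) (BT.br (nat_lit 0) (nat_lit 7) [nat_lit 7] (BT.dead (nat_lit 79) (BT.frm (nat_lit 2) (nat_lit 0xb07110305) (nat_lit 0xb2207110305) [nat_lit 0, nat_lit 2, nat_lit 6] (BT.pln (nat_lit 0) (nat_lit 4) (BT.and (nat_lit 0) (nat_lit 9) (BT.cnt (nat_lit 0))))) (BT.kid (nat_lit 7) (nat_lit 128) (BT.frm (nat_lit 1) (nat_lit 0x7110305) (nat_lit 0x7110305) [nat_lit 2, nat_lit 6] (BT.pln (nat_lit 0) (nat_lit 3) (BT.and (nat_lit 9) (nat_lit 0) (BT.br (nat_lit 0) (nat_lit 36) [nat_lit 5] (BT.dead (nat_lit 76) (BT.frm (nat_lit 3) (nat_lit 0xf110b07110305)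 (nat_lit 0xf0f0b07110305) [nat_lit 0, nat_lit 4, nat_lit 6, nat_lit 10] (BT.pln (nat_lit 0) (nat_lit 5) (BT.and (nat_lit 0) (nat_lit 13) (BT.cnt (nat_lit 0))))) (BT.kid (nat_lit 36) (nat_lit 128) (BT.dif (nat_lit 1) (nat_lit 0) (BT.br (nat_lit 0) (nat_lit 76) [nat_lit 5] (BT.kid (nat_lit 76) (nat_lit 32) (BT.dif (nat_lit 3) (nat_lit 0) (BT.dif (nat_lit 0) (nat_lit 3) (BT.br (nat_lit 0) (nat_lit 68) [nat_lit 7] (BT.dead (nat_lit 33) (BT.frm (nat_lit 4) (nat_lit 0x1a0f110b07110305) (nat_lit 0xf110b07110305) [nat_lit 0, nat_lit 3, nat_lit 5, nat_lit 9, nat_lit 11, nat_lit 15] (BT.pln (nat_lit 0) (nat_lit 7) (BT.and (nat_lit 0) (nat_lit 18) (BT.cnt (nat_lit 0))))) (BT.kid (nat_lit 68) (nat_lit 16) (BT.dif (nat_lit 6) (nat_lit 0) (BT.dif (nat_lit 0) (nat_lit 6) (BT.dif (nat_lit 0) (nat_lit 5) (BT.br (nat_lit 0) (nat_lit 33) [] (BT.dead (nat_lit 90) (BT.frm (nat_lit 5) (nat_lit 0x1a0f110b07110305) (nat_lit 0x1f1a0f110b07110305)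 [nat_lit 0, nat_lit 4, nat_lit 7, nat_lit 9, nat_lit 13, nat_lit 15, nat_lit 19] (BT.pln (nat_lit 0) (nat_lit 8) (BT.and (nat_lit 0) (nat_lit 22) (BT.cnt (nat_lit 0))))) (BT.kid (nat_lit 33) (nat_lit 16) (BT.frm (nat_lit 4) (nat_lit 0x1a0f110b07110305) (nat_lit 0x1a0f110b07110305) [nat_lit 4, nat_lit 7, nat_lit 9, nat_lit 13, nat_lit 15, nat_lit 19] (BT.pln (nat_lit 0) (nat_lit 16) (BT.br (nat_lit 0) (nat_lit 55) [nat_lit 9, nat_lit 11] (BT.kid (nat_lit 55) (nat_lit 4) (BT.frm (nat_lit 6) (nat_lit 0x2b1a0f110b07110305) (nat_lit 0x2b1a0f110b07110305) [nat_lit 0, nat_lit 3, nat_lit 7, nat_lit 10, nat_lit 12, nat_lit 16, nat_lit 18, nat_lit 22] (BT.pln (nat_lit 0) (nat_lit 33) (BT.br (nat_lit 0) (nat_lit 63) [nat_lit 13] (BT.kid (nat_lit 63) (nat_lit 2) (BT.dif (nat_lit 23) (nat_lit 26) (BT.frm (nat_lit 7) (nat_lit 0x2b1a0f110b07110305) (nat_lit 0x2b1a0f110b07110305) [nat_lit 1, nat_lit 4, nat_lit 7, nat_lit 11, nat_lit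 14, nat_lit 16, nat_lit 20, nat_lit 22, nat_lit 26] (BT.pln (nat_lit 0) (nat_lit 46) (BT.and (nat_lit 2) (nat_lit 0) (BT.br (nat_lit 0) (nat_lit 46) [nat_lit 15] (BT.kid (nat_lit 46) (nat_lit 1) (BT.one (nat_lit 8) (nat_lit 0x2f2b1a0f110b07110305) (nat_lit 0x2f2b1a0f110b07110305) [nat_lit 0, nat_lit 5, nat_lit 8, nat_lit 11, nat_lit 15, nat_lit 18, nat_lit 20, nat_lit 24, nat_lit 26, nat_lit 30]) BT.nil)))))) BT.nil)))) BT.nil)))) BT.nil)))))) BT.nil))))) BT.nil))) BT.nil)))))) BT.nil)))) BT.nil))))) BT.nil)))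

theorem nt_c2_cnt : Cnt 100 (grp 100 EG) [t_g60] [t_g60] 0 0 0 0 15360 :=
  BT.sound nt_c2_cnt_P Known.nil (t := nt_c2_cnt_t) (d := 0) (by decide +kernel)

theorem nt_c2_ge : 15360 ≤ Nat.card (grp 100 nt_c2_K) :=
  Ch.le_card_grp (k := 7) (L := (lab 100 7)) t_hn nt_c2_K_ok (c := (Ch.cons (nat_lit 91) [nat_lit 1] (Ch.cons (nat_lit 81) [nat_lit 3] (Ch.cons (nat_lit 76) [nat_lit 5] (Ch.cons (nat_lit 68) [nat_lit 7] (Ch.cons (nat_lit 55) [nat_lit 9, nat_lit 11] (Ch.cons (nat_lit 63) [nat_lit 13] (Ch.cons (nat_lit 46) [nat_lit 15] Ch.nil)))))))) (by decide +kernel)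

theorem nt_c2_eq : (grp 100 EG) ⊓ Subgroup.centralizer {Net.toPerm 100 t_g60} = grp 100 nt_c2_K :=
  cent_eq nt_c2_sym nt_c2_cnt nt_c2_ge

theorem nt_c2_card : Nat.card ↥((grp 100 EG) ⊓ Subgroup.centralizer {Net.toPerm 100 t_g60}) = 15360 :=
  card_cent nt_c2_sym nt_c2_cnt nt_c2_ge

theorem nt_c2_ord : orderOf (Net.toPerm 100 t_g60) = 2 :=
  orderOf_net t_hn t_hk t_g60_ok (by decide) (ps := [2]) (by set_option linter.unusedSimpArgs false in simp [Nat.primeFactorsList_ofNat]) (by decide +kernel)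

theorem t_le85 : grp 100 nt_c3_K ≤ grp 100 lb_E :=
  grp_le_of_memB t_hn t_hk lb_E_ok nt_c3_K_ok (ws := [nat_lit 0x252b1f13100b0b07190310, nat_lit 0x312f252b1f1a17100b0b0818, nat_lit 0x252b1f1a0f110b120a0c, nat_lit 0x312b1f190b0e, nat_lit 0x312b13100e120809, nat_lit 0x2f251917100c0a0b, nat_lit 0x312f252b1f190f0f0b16070a]) (by decide +kernel)

theorem nt_c3_le : grp 100 nt_c3_K ≤ (grp 100 EG) :=
  (t_le85.trans T_s0.le)

theorem nt_c3_mem : Net.toPerm 100 t_g77 ∈ (grp 100 EG) :=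
  nt_c3_le (mem_grp_of_memB t_hn t_hk nt_c3_K_ok t_g77_ok (w := (nat_lit 0xd070306010301)) (by decide +kernel))

theorem nt_c3_sym : Sym 100 (grp 100 EG) [t_g77] nt_c3_K 0 :=
  Sym.of_lab t_hn t_hk (okE_cons.2 ⟨t_g77_ok, okE_nil _⟩) nt_c3_K_ok nt_c3_le (kT := 0) (by decide +kernel)

theorem t_le95 : grp 100 t_V94 ≤ grp 100 t_V49 :=
  grp_le_of_memB t_hn t_hk t_V49_ok t_V94_ok (ws := [nat_lit 0x2925140d12090b0514010b, nat_lit 0x190909080c010a, nat_lit 0x29130d090b, nat_lit 0x2b29130d, nat_lit 0x2b290d0a, nat_lit 0x2b2919130d0a, nat_lit 0x292519130d0a, nat_lit 0x291f19140d090b, nat_lit 11039]) (by decide +kernel)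

theorem T_s15 : Stab 100 (grp 100 EG) [nat_lit 89, nat_lit 0] t_V94 11520 :=
  Stab.step (k := 7) (L := (lab 100 7)) t_hn T_s1 t_V94_ok t_le95 (c := (Ch.cons (nat_lit 2) [nat_lit 1] (Ch.cons (nat_lit 1) [nat_lit 3] (Ch.cons (nat_lit 70) [nat_lit 5] (Ch.cons (nat_lit 39) [nat_lit 7] (Ch.cons (nat_lit 84) [nat_lit 9] (Ch.cons (nat_lit 58) [nat_lit 11, nat_lit 13] (Ch.cons (nat_lit 37) [nat_lit 15, nat_lit 17] Ch.nil)))))))) (by decide +kernel)

theorem T_s16 : Stab 100 (grp 100 EG) [nat_lit 2, nat_lit 89, nat_lit 0] t_V96 1920 :=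
  Stab.step (k := 7) (L := (lab 100 7)) t_hn T_s15 t_V96_ok (grp_mono (List.subset_append_right [t_g86] _)) (c := (Ch.cons (nat_lit 1) [nat_lit 1] (Ch.cons (nat_lit 70) [nat_lit 3] (Ch.cons (nat_lit 39) [nat_lit 5] (Ch.cons (nat_lit 84) [nat_lit 7] (Ch.cons (nat_lit 58) [nat_lit 9, nat_lit 11] (Ch.cons (nat_lit 37) [nat_lit 13, nat_lit 15] Ch.nil))))))) (by decide +kernel)

theorem T_s17 : Stab 100 (grp 100 EG) [nat_lit 1, nat_lit 2, nat_lit 89, nat_lit 0] t_V97 384 :=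
  Stab.step (k := 7) (L := (lab 100 7)) t_hn T_s16 t_V97_ok (grp_mono (List.subset_append_right [t_g87] _)) (c := (Ch.cons (nat_lit 70) [nat_lit 1] (Ch.cons (nat_lit 39) [nat_lit 3] (Ch.cons (nat_lit 84) [nat_lit 5] (Ch.cons (nat_lit 58) [nat_lit 7, nat_lit 9] (Ch.cons (nat_lit 37) [nat_lit 11, nat_lit 13] Ch.nil)))))) (by decide +kernel)

theorem T_s18 : Stab 100 (grp 100 EG) [nat_lit 70, nat_lit 1, nat_lit 2, nat_lit 89, nat_lit 0] t_V98 96 :=
  Stab.step (k := 7) (L := (lab 100 7)) t_hn T_s17 t_V98_ok (grp_mono (List.subset_append_right [t_g88] _)) (c := (Ch.cons (nat_lit 39) [nat_lit 1] (Ch.cons (nat_lit 84) [nat_lit 3] (Ch.cons (nat_lit 58) [nat_lit 5, nat_lit 7] (Ch.cons (nat_lit 37) [nat_lit 9, nat_lit 11] Ch.nil))))) (by decide +kernel)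

theorem T_s19 : Stab 100 (grp 100 EG) [nat_lit 39, nat_lit 70, nat_lit 1, nat_lit 2, nat_lit 89, nat_lit 0] t_V99 32 :=
  Stab.step (k := 7) (L := (lab 100 7)) t_hn T_s18 t_V99_ok (grp_mono (List.subset_append_right [t_g89] _)) (c := (Ch.cons (nat_lit 84) [nat_lit 1] (Ch.cons (nat_lit 58) [nat_lit 3, nat_lit 5] (Ch.cons (nat_lit 37) [nat_lit 7, nat_lit 9] Ch.nil)))) (by decide +kernel)

theorem T_s20 : Stab 100 (grp 100 EG) [nat_lit 84, nat_lit 39, nat_lit 70, nat_lit 1, nat_lit 2, nat_lit 89, nat_lit 0] t_V100 16 :=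
  Stab.step (k := 7) (L := (lab 100 7)) t_hn T_s19 t_V100_ok (grp_mono (List.subset_append_right [t_g90] _)) (c := (Ch.cons (nat_lit 58) [nat_lit 1, nat_lit 3] (Ch.cons (nat_lit 37) [nat_lit 5, nat_lit 7] Ch.nil))) (by decide +kernel)

theorem T_s21 : Stab 100 (grp 100 EG) [nat_lit 58, nat_lit 84, nat_lit 39, nat_lit 70, nat_lit 1, nat_lit 2, nat_lit 89, nat_lit 0] t_V101 4 :=
  Stab.step (k := 7) (L := (lab 100 7)) t_hn T_s20 t_V101_ok (grp_mono (List.subset_append_right [t_g91, t_g92] _)) (c := (Ch.cons (nat_lit 37) [nat_lit 1, nat_lit 3] Ch.nil)) (by decide +kernel)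

theorem T_s22 : Stab 100 (grp 100 EG) [nat_lit 37, nat_lit 58, nat_lit 84, nat_lit 39, nat_lit 70, nat_lit 1, nat_lit 2, nat_lit 89, nat_lit 0] t_V102 1 :=
  Stab.step (k := 7) (L := (lab 100 7)) t_hn T_s21 t_V102_ok (grp_mono (List.subset_append_right [t_g93, t_g25] _)) (c := Ch.nil) (by decide +kernel)

theorem t_g89_T : Net.toPerm 100 t_g89 ∈ (grp 100 EG) :=
  T_s18.le (toPerm_mem_grp (E := t_V98) (List.Mem.head _))

theorem t_g90_T : Net.toPerm 100 t_g90 ∈ (grp 100 EG) :=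
  T_s18.le (toPerm_mem_grp (E := t_V98) (List.Mem.tail _ (List.Mem.head _)))

theorem t_g91_T : Net.toPerm 100 t_g91 ∈ (grp 100 EG) :=
  T_s18.le (toPerm_mem_grp (E := t_V98) (List.Mem.tail _ (List.Mem.tail _ (List.Mem.head _))))

theorem t_g92_T : Net.toPerm 100 t_g92 ∈ (grp 100 EG) :=
  T_s18.le (toPerm_mem_grp (E := t_V98) (List.Mem.tail _ (List.Mem.tail _ (List.Mem.tail _ (List.Mem.head _)))))

theorem t_g93_T : Net.toPerm 100 t_g93 ∈ (grp 100 EG) :=
  T_s18.le (toPerm_mem_grp (E := t_V98) (List.Mem.tail _ (List.Mem.tail _ (List.Mem.tail _ (List.Mem.tail _ (List.Mem.head _))))))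

theorem t_g88_T : Net.toPerm 100 t_g88 ∈ (grp 100 EG) :=
  T_s17.le (toPerm_mem_grp (E := t_V97) (List.Mem.head _))

theorem t_g87_T : Net.toPerm 100 t_g87 ∈ (grp 100 EG) :=
  T_s16.le (toPerm_mem_grp (E := t_V96) (List.Mem.head _))

theorem t_g86_T : Net.toPerm 100 t_g86 ∈ (grp 100 EG) :=
  T_s15.le (toPerm_mem_grp (E := t_V94) (List.Mem.head _))

noncomputable def T_s22_O : ℕ := (nat_lit 0x3333266666ccccd99999333321f07c1f03e0f83e0f83e0f83ee63398c67319ce63398c673184db24d926c93649b64db26d92000000000000000000000000100200000000000000000000000000000000000000000000004000000000000000000000000200000004000000000000000000000000000000008000000000000100000000000000000000000000000004000000000000000000000000000002000000000)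

theorem T_s22_F : Frame 100 (grp 100 EG) 9 13 T_s22_O 1 1 :=
  IsBase.frame T_s22.isBase (by decide +kernel)

noncomputable def T_s21_O : ℕ := (nat_lit 0x40000000000000000000000000000100000000000000000000000002000000000000000000000000100000000840000000000000000000080000004000000000000000000000010000004000000000000000000000000808000000000000040000000000100000000000040000000000000100000000000020000000000004000000000000008000000000020000000000000000000000800400000000000001000000000004000000000000000000000000300000000000000000002000000880080000002020000000000000404000010000010000000000000000000202800200000000000000000400018010000000000840008000000000080000000000001000000020004400000000000002000000002108000002002000000040000000200000101000000001000000010000002000000200040000000800000000200000000404000008000000080080008000000000080000000000800000200000400804000000000000100002000040000012000100000000000002000000000000000000000000010020000000000000000000000000000000000000000000000400000000000000000000000020000000400000000000000000000000000000000800000000000010000000000000000000000000000000400000000000000)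

theorem T_s21_F : Frame 100 (grp 100 EG) 8 39 T_s21_O 0 1 :=
  Stab.frame t_hn T_s21 (by decide +kernel)

noncomputable def T_s20_O : ℕ := (nat_lit 0x100080080000002020000000000000000000002028002000000000084000800000000008000000000000100000002000440000000080400004000000001000000000000200000008080040000000000840080000000000200000000200000000404000008000000000000040000040001200000008008000800000000008000000000000100000008004400000000010000004000000030040000000000001000020000400100001000800000000000010000004000000000012000000812100002600158012109800000000000000000000000000001002000000000000000000000000000000000000000000000040000000000000000000000002000000040000000000000000000000000000000080000000000001000000000000000000000)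

theorem T_s20_F : Frame 100 (grp 100 EG) 7 24 T_s20_O 0 1 :=
  Stab.frame t_hn T_s20 (by decide +kernel)

noncomputable def T_s19_O : ℕ := (nat_lit 0x1000000000000000001000008040000400000000100000000000020000000808004000000000084008000000000020000000000000040000040001200000000000001000000080044000000000100000040000000300000004000000000012000000880080100002022000440000000000200002028406000008000084080880008000008000080041000010008001000020000501210000260015801210980000000000000000000000000000100200000000000000000000000000000000000000000000004000000000000000000000000200000004000000000000000000000000000000008000000000)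

theorem T_s19_F : Frame 100 (grp 100 EG) 6 19 T_s19_O 0 1 :=
  Stab.frame t_hn T_s19 (by decide +kernel)

noncomputable def T_s15_O : ℕ := (nat_lit 0x1000400000008000001006121000026001580121098000024061200910400300002400a000000000000000000000000010020000000000000000000000)

theorem T_s15_F : Frame 100 (grp 100 EG) 2 5 T_s15_O 0 1 :=
  Stab.frame t_hn T_s15 (by decide +kernel)

noncomputable def nt_c3_cnt_L : List ℕ := [1, 2, T_s1_O, 0, 0, 2, 5, T_s15_O, 0, 0, 6, 19, T_s19_O, 0, 0, 7, 24, T_s20_O, 0, 0, 8, 39, T_s21_O, 0, 0, 9, 13, T_s22_O, 1, 0]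

theorem nt_c3_cnt_P : Prob 100 7 (grp 100 EG) nt_c3_cnt_EG [t_g77] [t_g77] nt_c3_K nt_c3_cnt_L 0 0 :=
  Sym.prob t_hn t_hk nt_c3_sym nt_c3_cnt_EG_ok (grp_cons_le MpHS.a_T (grp_cons_le HSM.g1_T (grp_cons_le HSM.g2_T (grp_cons_le t_g1_T (grp_cons_le t_g2_T (grp_cons_le t_g5_T (grp_cons_le t_g6_T (grp_cons_le t_g9_T (grp_cons_le t_g10_T (grp_cons_le t_g13_T (grp_cons_le t_g14_T (grp_cons_le t_g15_T (grp_cons_le t_g18_T (grp_cons_le t_g19_T (grp_cons_le t_g20_T (grp_cons_le t_g23_T (grp_cons_le t_g24_T (grp_cons_le t_g25_T (grp_cons_le t_g28_T (grp_cons_le t_g29_T (grp_cons_le t_g30_T (grp_cons_le t_g31_T (grp_cons_le t_g34_T (grp_cons_le t_g89_T (grp_cons_le t_g90_T (grp_cons_le t_g91_T (grp_cons_le t_g92_T (grp_cons_le t_g93_T (grp_cons_le t_g88_T (grp_cons_le t_g87_T (grp_cons_le t_g86_T (grp_nil_le _)))))))))))))))))))))))))))))))) (Frames.cons T_s1_F (Frames.cons T_s15_F (Frames.cons T_s19_F (Frames.cons T_s20_F (Frames.cons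 T_s21_F (Frames.cons T_s22_F Frames.nil)))))) (okE_cons.2 ⟨t_g77_ok, okE_nil _⟩) _

noncomputable def nt_c3_cnt_t : BT := (BT.br (nat_lit 2) (nat_lit 0) [nat_lit 1, nat_lit 3] (BT.dead (nat_lit 1) (BT.frm (nat_lit 0) (nat_lit 0) (nat_lit 265) [nat_lit 0] (BT.pln (nat_lit 0) (nat_lit 1) (BT.img (nat_lit 1) (nat_lit 2) (BT.and (nat_lit 1) (nat_lit 0) (BT.cnt (nat_lit 0)))))) (BT.kid (nat_lit 0) (nat_lit 96) (BT.img (nat_lit 1) (nat_lit 0) (BT.frm (nat_lit 1) (nat_lit 2075) (nat_lit 2075) [nat_lit 0, nat_lit 1] (BT.pln (nat_lit 0) (nat_lit 4) (BT.br (nat_lit 0) (nat_lit 96) [nat_lit 3, nat_lit 5] (BT.kid (nat_lit 96) (nat_lit 16) (BT.dif (nat_lit 1) (nat_lit 0) (BT.img (nat_lit 1) (nat_lit 1) (BT.dif (nat_lit 1) (nat_lit 0) (BT.br (nat_lit 0) (nat_lit 39) [nat_lit 7] (BT.dead (nat_lit 12) (BT.dif (nat_lit 5) (nat_lit 0) (BT.dif (nat_lit 0) (nat_lit 5) (BT.dif (nat_lit 0) (nat_lit 4) (BT.img (nat_lit 1) (nat_lit 3) (BT.dif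 (nat_lit 1) (nat_lit 0) (BT.br (nat_lit 0) (nat_lit 65) [] (BT.dead (nat_lit 39) (BT.frm (nat_lit 2) (nat_lit 0x393b30081b) (nat_lit 0x2f392f3b30081b) [nat_lit 2, nat_lit 6, nat_lit 8, nat_lit 10, nat_lit 13, nat_lit 14] (BT.pln (nat_lit 0) (nat_lit 14) (BT.br (nat_lit 0) (nat_lit 51) [nat_lit 13] (BT.dead (nat_lit 63) (BT.frm (nat_lit 4) (nat_lit 0x35393b30081b) (nat_lit 0x33312f392f3b30081b) [nat_lit 0, nat_lit 3, nat_lit 5, nat_lit 9, nat_lit 11, nat_lit 13, nat_lit 16, nat_lit 17] (BT.pln (nat_lit 0) (nat_lit 37) (BT.img (nat_lit 1) (nat_lit 2) (BT.and (nat_lit 1) (nat_lit 0) (BT.cnt (nat_lit 0)))))) (BT.dead (nat_lit 99) (BT.frm (nat_lit 4) (nat_lit 0x35393b30081b) (nat_lit 0x312f392f3b30081b) [nat_lit 0, nat_lit 3, nat_lit 5, nat_lit 9, nat_lit 11, nat_lit 13, nat_lit 16, nat_lit 17] (BT.pln (nat_lit 0) (nat_lit 37) (BT.img (nat_lit 1) (nat_lit 2) (BT.and (nat_lit 1) (nat_lit 0) (BT.cnt (nat_lit 0)))))) BT.nil)))))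 (BT.dead (nat_lit 33) (BT.frm (nat_lit 2) (nat_lit 0x393b30081b) (nat_lit 0x2f392f3b30081b) [nat_lit 2, nat_lit 6, nat_lit 8, nat_lit 10, nat_lit 13, nat_lit 14] (BT.pln (nat_lit 0) (nat_lit 14) (BT.br (nat_lit 0) (nat_lit 51) [nat_lit 13] (BT.dead (nat_lit 99) (BT.frm (nat_lit 4) (nat_lit 0x35393b30081b) (nat_lit 0x332f392f3b30081b) [nat_lit 0, nat_lit 3, nat_lit 5, nat_lit 9, nat_lit 11, nat_lit 13, nat_lit 16, nat_lit 17] (BT.pln (nat_lit 0) (nat_lit 37) (BT.img (nat_lit 1) (nat_lit 2) (BT.and (nat_lit 1) (nat_lit 0) (BT.cnt (nat_lit 0)))))) (BT.dead (nat_lit 63) (BT.frm (nat_lit 4) (nat_lit 0x35393b30081b) (nat_lit 0x2f392f3b30081b) [nat_lit 0, nat_lit 3, nat_lit 5, nat_lit 9, nat_lit 11, nat_lit 13, nat_lit 16, nat_lit 17] (BT.pln (nat_lit 0) (nat_lit 37) (BT.img (nat_lit 1) (nat_lit 2) (BT.and (nat_lit 1) (nat_lit 0) (BT.cnt (nat_lit 0)))))) BT.nil))))) BT.nil)))))))) (BT.kid (nat_lit 39) (nat_lit 8) (BT.dif (nat_lit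 5) (nat_lit 0) (BT.dif (nat_lit 0) (nat_lit 5) (BT.dif (nat_lit 0) (nat_lit 4) (BT.img (nat_lit 1) (nat_lit 3) (BT.dif (nat_lit 1) (nat_lit 0) (BT.br (nat_lit 0) (nat_lit 65) [] (BT.dead (nat_lit 12) (BT.frm (nat_lit 2) (nat_lit 0x393b30081b) (nat_lit 0x393b30081b) [nat_lit 2, nat_lit 6, nat_lit 8, nat_lit 10, nat_lit 13, nat_lit 14] (BT.pln (nat_lit 0) (nat_lit 14) (BT.br (nat_lit 0) (nat_lit 51) [nat_lit 9] (BT.dead (nat_lit 98) (BT.frm (nat_lit 3) (nat_lit 0x393b30081b) (nat_lit 0x31393b30081b) [nat_lit 3, nat_lit 5, nat_lit 9, nat_lit 11, nat_lit 13, nat_lit 16, nat_lit 17] (BT.pln (nat_lit 0) (nat_lit 21) (BT.br (nat_lit 0) (nat_lit 53) [nat_lit 11, nat_lit 13] (BT.dead (nat_lit 5) (BT.frm (nat_lit 5) (nat_lit 0x3735393b30081b) (nat_lit 0x37233531393b30081b) [nat_lit 0, nat_lit 3, nat_lit 6, nat_lit 8, nat_lit 12, nat_lit 14, nat_lit 16, nat_lit 19, nat_lit 20] (BT.pln (nat_lit 0) (nat_lit 10) (BT.img (nat_lit 1)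 (nat_lit 2) (BT.and (nat_lit 1) (nat_lit 0) (BT.cnt (nat_lit 0)))))) BT.nil)))) (BT.dead (nat_lit 51) (BT.frm (nat_lit 3) (nat_lit 0x393b30081b) (nat_lit 0x31393b30081b) [nat_lit 3, nat_lit 5, nat_lit 9, nat_lit 11, nat_lit 13, nat_lit 16, nat_lit 17] (BT.pln (nat_lit 0) (nat_lit 21) (BT.br (nat_lit 0) (nat_lit 53) [nat_lit 11, nat_lit 13] (BT.dead (nat_lit 5) (BT.frm (nat_lit 5) (nat_lit 0x3735393b30081b) (nat_lit 0x23333531393b30081b) [nat_lit 0, nat_lit 3, nat_lit 6, nat_lit 8, nat_lit 12, nat_lit 14, nat_lit 16, nat_lit 19, nat_lit 20] (BT.pln (nat_lit 0) (nat_lit 11) (BT.img (nat_lit 1) (nat_lit 2) (BT.and (nat_lit 1) (nat_lit 0) (BT.cnt (nat_lit 0)))))) BT.nil)))) BT.nil))))) (BT.kid (nat_lit 65) (nat_lit 8) (BT.frm (nat_lit 2) (nat_lit 0x393b30081b) (nat_lit 0x393b30081b) [nat_lit 2, nat_lit 6, nat_lit 8, nat_lit 10, nat_lit 13, nat_lit 14] (BT.pln (nat_lit 0) (nat_lit 14) (BT.br (nat_lit 0) (nat_lit 51) [nat_lit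 9] (BT.dead (nat_lit 98) (BT.frm (nat_lit 3) (nat_lit 0x393b30081b) (nat_lit 0x393b30081b) [nat_lit 3, nat_lit 5, nat_lit 9, nat_lit 11, nat_lit 13, nat_lit 16, nat_lit 17] (BT.pln (nat_lit 0) (nat_lit 21) (BT.br (nat_lit 0) (nat_lit 53) [nat_lit 11, nat_lit 13] (BT.dead (nat_lit 53) (BT.frm (nat_lit 5) (nat_lit 0x3735393b30081b) (nat_lit 0x3335393b30081b) [nat_lit 0, nat_lit 3, nat_lit 6, nat_lit 8, nat_lit 12, nat_lit 14, nat_lit 16, nat_lit 19, nat_lit 20] (BT.pln (nat_lit 0) (nat_lit 11) (BT.img (nat_lit 1) (nat_lit 2) (BT.and (nat_lit 1) (nat_lit 0) (BT.cnt (nat_lit 0)))))) BT.nil)))) (BT.kid (nat_lit 51) (nat_lit 4) (BT.frm (nat_lit 3) (nat_lit 0x393b30081b) (nat_lit 0x393b30081b) [nat_lit 3, nat_lit 5, nat_lit 9, nat_lit 11, nat_lit 13, nat_lit 16, nat_lit 17] (BT.pln (nat_lit 0) (nat_lit 21) (BT.br (nat_lit 0) (nat_lit 53) [nat_lit 11, nat_lit 13] (BT.kid (nat_lit 53) (nat_lit 1) (BT.one (nat_lit 5) (nat_lit 0x3735393b30081b)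 (nat_lit 0x3735393b30081b) [nat_lit 0, nat_lit 3, nat_lit 6, nat_lit 8, nat_lit 12, nat_lit 14, nat_lit 16, nat_lit 19, nat_lit 20]) BT.nil)))) BT.nil))))) BT.nil)))))))) BT.nil)))))) BT.nil))))) BT.nil)))

theorem nt_c3_cnt : Cnt 100 (grp 100 EG) [t_g77] [t_g77] 0 0 0 0 5760 :=
  BT.sound nt_c3_cnt_P Known.nil (t := nt_c3_cnt_t) (d := 0) (by decide +kernel)

theorem nt_c3_ge : 5760 ≤ Nat.card (grp 100 nt_c3_K) :=
  Ch.le_card_grp (k := 7) (L := (lab 100 7)) t_hn nt_c3_K_ok (c := (Ch.cons (nat_lit 0) [nat_lit 1] (Ch.cons (nat_lit 96) [nat_lit 3, nat_lit 5] (Ch.cons (nat_lit 39) [nat_lit 7] (Ch.cons (nat_lit 51) [nat_lit 9] (Ch.cons (nat_lit 53) [nat_lit 11, nat_lit 13] Ch.nil)))))) (by decide +kernel)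

theorem nt_c3_eq : (grp 100 EG) ⊓ Subgroup.centralizer {Net.toPerm 100 t_g77} = grp 100 nt_c3_K :=
  cent_eq nt_c3_sym nt_c3_cnt nt_c3_ge

theorem nt_c3_card : Nat.card ↥((grp 100 EG) ⊓ Subgroup.centralizer {Net.toPerm 100 t_g77}) = 5760 :=
  card_cent nt_c3_sym nt_c3_cnt nt_c3_ge

theorem nt_c3_ord : orderOf (Net.toPerm 100 t_g77) = 2 :=
  orderOf_net t_hn t_hk t_g77_ok (by decide) (ps := [2]) (by set_option linter.unusedSimpArgs false in simp [Nat.primeFactorsList_ofNat]) (by decide +kernel)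

theorem t_le112 : grp 100 nt_c4_K ≤ grp 100 lb_E :=
  grp_le_of_memB t_hn t_hk lb_E_ok nt_c4_K_ok (ws := [nat_lit 0x25100b110710010d, nat_lit 0x2f1f190f110e1207110507, nat_lit 0x31251f130f0b11080d020214, nat_lit 0x2f1f1a130f0f0b16070a0517, nat_lit 0x312f1a13100b120a0b0615, nat_lit 0x312f2b1f19170f110d11040c, nat_lit 0x251a0f0f0b220711040c, nat_lit 0x252b1a17100b220711040c]) (by decide +kernel)

theorem nt_c4_le : grp 100 nt_c4_K ≤ (grp 100 EG) :=
  (t_le112.trans T_s0.le)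

theorem nt_c4_mem : Net.toPerm 100 t_g103 ∈ (grp 100 EG) :=
  nt_c4_le (mem_grp_of_memB t_hn t_hk nt_c4_K_ok t_g103_ok (w := (nat_lit 986375)) (by decide +kernel))

theorem nt_c4_sym : Sym 100 (grp 100 EG) [t_g103] nt_c4_K 0 :=
  Sym.of_lab t_hn t_hk (okE_cons.2 ⟨t_g103_ok, okE_nil _⟩) nt_c4_K_ok nt_c4_le (kT := 0) (by decide +kernel)

theorem t_le119 : grp 100 t_V118 ≤ grp 100 t_V94 :=
  grp_le_of_memB t_hn t_hk t_V94_ok t_V118_ok (ws := [nat_lit 0xf0b0d090803080104, nat_lit 0xb0d0907, nat_lit 0x11090705, nat_lit 0x110907, nat_lit 0xf110b0d09070507, nat_lit 0xb0d09080508]) (by decide +kernel)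

theorem T_s23 : Stab 100 (grp 100 EG) [nat_lit 78, nat_lit 89, nat_lit 0] t_V118 192 :=
  Stab.step (k := 7) (L := (lab 100 7)) t_hn T_s15 t_V118_ok t_le119 (c := (Ch.cons (nat_lit 2) [nat_lit 1] (Ch.cons (nat_lit 64) [nat_lit 3] (Ch.cons (nat_lit 60) [nat_lit 5] (Ch.cons (nat_lit 80) [nat_lit 7] (Ch.cons (nat_lit 76) [nat_lit 9] (Ch.cons (nat_lit 24) [nat_lit 11] Ch.nil))))))) (by decide +kernel)

theorem T_s24 : Stab 100 (grp 100 EG) [nat_lit 2, nat_lit 78, nat_lit 89, nat_lit 0] t_V120 96 :=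
  Stab.step (k := 7) (L := (lab 100 7)) t_hn T_s23 t_V120_ok (grp_mono (List.subset_append_right [t_g113] _)) (c := (Ch.cons (nat_lit 64) [nat_lit 1] (Ch.cons (nat_lit 60) [nat_lit 3] (Ch.cons (nat_lit 80) [nat_lit 5] (Ch.cons (nat_lit 76) [nat_lit 7] (Ch.cons (nat_lit 24) [nat_lit 9] Ch.nil)))))) (by decide +kernel)

theorem T_s25 : Stab 100 (grp 100 EG) [nat_lit 64, nat_lit 2, nat_lit 78, nat_lit 89, nat_lit 0] t_V121 24 :=
  Stab.step (k := 7) (L := (lab 100 7)) t_hn T_s24 t_V121_ok (grp_mono (List.subset_append_right [t_g114] _)) (c := (Ch.cons (nat_lit 60) [nat_lit 1] (Ch.cons (nat_lit 80) [nat_lit 3] (Ch.cons (nat_lit 76) [nat_lit 5] (Ch.cons (nat_lit 24) [nat_lit 7] Ch.nil))))) (by decide +kernel)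

theorem T_s26 : Stab 100 (grp 100 EG) [nat_lit 60, nat_lit 64, nat_lit 2, nat_lit 78, nat_lit 89, nat_lit 0] t_V122 8 :=
  Stab.step (k := 7) (L := (lab 100 7)) t_hn T_s25 t_V122_ok (grp_mono (List.subset_append_right [t_g115] _)) (c := (Ch.cons (nat_lit 80) [nat_lit 1] (Ch.cons (nat_lit 76) [nat_lit 3] (Ch.cons (nat_lit 24) [nat_lit 5] Ch.nil)))) (by decide +kernel)

theorem T_s27 : Stab 100 (grp 100 EG) [nat_lit 80, nat_lit 60, nat_lit 64, nat_lit 2, nat_lit 78, nat_lit 89, nat_lit 0] t_V123 4 :=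
  Stab.step (k := 7) (L := (lab 100 7)) t_hn T_s26 t_V123_ok (grp_mono (List.subset_append_right [t_g116] _)) (c := (Ch.cons (nat_lit 76) [nat_lit 1] (Ch.cons (nat_lit 24) [nat_lit 3] Ch.nil))) (by decide +kernel)

theorem T_s28 : Stab 100 (grp 100 EG) [nat_lit 76, nat_lit 80, nat_lit 60, nat_lit 64, nat_lit 2, nat_lit 78, nat_lit 89, nat_lit 0] t_V124 2 :=
  Stab.step (k := 7) (L := (lab 100 7)) t_hn T_s27 t_V124_ok (grp_mono (List.subset_append_right [t_g72] _)) (c := (Ch.cons (nat_lit 24) [nat_lit 1] Ch.nil)) (by decide +kernel)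

theorem T_s29 : Stab 100 (grp 100 EG) [nat_lit 24, nat_lit 76, nat_lit 80, nat_lit 60, nat_lit 64, nat_lit 2, nat_lit 78, nat_lit 89, nat_lit 0] t_V125 1 :=
  Stab.step (k := 7) (L := (lab 100 7)) t_hn T_s28 t_V125_ok (grp_mono (List.subset_append_right [t_g117] _)) (c := Ch.nil) (by decide +kernel)

theorem t_g113_T : Net.toPerm 100 t_g113 ∈ (grp 100 EG) :=
  T_s23.le (toPerm_mem_grp (E := t_V118) (List.Mem.head _))

theorem t_g114_T : Net.toPerm 100 t_g114 ∈ (grp 100 EG) :=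
  T_s23.le (toPerm_mem_grp (E := t_V118) (List.Mem.tail _ (List.Mem.head _)))

theorem t_g115_T : Net.toPerm 100 t_g115 ∈ (grp 100 EG) :=
  T_s23.le (toPerm_mem_grp (E := t_V118) (List.Mem.tail _ (List.Mem.tail _ (List.Mem.head _))))

theorem t_g116_T : Net.toPerm 100 t_g116 ∈ (grp 100 EG) :=
  T_s23.le (toPerm_mem_grp (E := t_V118) (List.Mem.tail _ (List.Mem.tail _ (List.Mem.tail _ (List.Mem.head _)))))

theorem t_g117_T : Net.toPerm 100 t_g117 ∈ (grp 100 EG) :=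
  T_s23.le (toPerm_mem_grp (E := t_V118) (List.Mem.tail _ (List.Mem.tail _ (List.Mem.tail _ (List.Mem.tail _ (List.Mem.tail _ (List.Mem.head _)))))))

noncomputable def T_s29_O : ℕ := (nat_lit 0x3333266666ccccd99999333321f07c1f03e0f83e0f83e0f83ee63398c67319ce63398c673184db24d926c93649b64db26d92000000000000000000000000100200000000000000000000000000040000000000000000000000000000000000000000000400000000100000000000000000000000001000000000000000000010000000000000000000000000100000000000000000000000000000000000001000000)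

theorem T_s29_F : Frame 100 (grp 100 EG) 9 13 T_s29_O 1 1 :=
  IsBase.frame T_s29.isBase (by decide +kernel)

noncomputable def T_s28_O : ℕ := (nat_lit 0x4000000000000000000000000200000000000000000000000000080000000000000000000000000000000100000000000000000000000000000100000000000000000000000002000000000000000000000000040000000000000000000000000100000000000000000000000008000000000000000000000000008000000000000000000000000008000000000000000000000000280400000000000000000000000100400000000000000000000000402000000000000000000000080080000000000000000000000202000000000000000000008000100000000000000000000010004000000000000000004000000100000000000000000200000008000000000000000000000002400000000000000000010000020000000000000000000000400200000000000000000000000048000000000000000800000000200000000000000000000000050000000000000000000008000800000000000000002000000040000000000000000008000002000000000000000000000080080000000000001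000000000004000000000000000000000000180000000000000000000000004008000000000000000000002000080000000000000000000020004000000000000000000000002100000000000000000000000408000000000000000000004000200000000000000000000010008000000000000000000004000400000000000000000002000004000000000000000000020000200000000000000000080000008000000000000000000000001400000000000000000080000010000000000000000000000002400000000000000010000000010000000000000000000002000800000000000000000000000240000000000000001000000002000000000000000000000000010020000000000000000000000000004000000000000000000000000000000000000000000040000000010000000000000000000000000100000000000000000001000000000000000000000000010000000000000000000)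

theorem T_s28_F : Frame 100 (grp 100 EG) 8 59 T_s28_O 0 1 :=
  Stab.frame t_hn T_s28 (by decide +kernel)

noncomputable def T_s27_O : ℕ := (nat_lit 0x40000000000000000000000000000000000000001000000000000000000000000020000000000000000000000000000000800000000000000000000000020000810000000000000000000000800800000000000000000000100000200000000000000000800000000200000000000000020000000001000000000000010000000000040000000000000000000000001800000000000000000000000000021000000000000000000000004080000000000000000000000000180000000000000000000000001400000000000000000000040008000000004002000400800000000804000000000200008000000000000008000802000400000000100400000000040002000000000000024000000100080000000000000080080040004000000002000000040020000040000000020200000000200002000000000800000200800000080000001000400000008000001000000000000050000000000240000800010000001000000001002000000080000000000200080000000000480000000000024000040200000000100000000200000000000000000000000001002000000000000000000000000000400000000000000000000000000000000000000000004000000001000000000000000000000000010000000000000000000100000000000000000000)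

theorem T_s27_F : Frame 100 (grp 100 EG) 7 39 T_s27_O 0 1 :=
  Stab.frame t_hn T_s27 (by decide +kernel)

noncomputable def T_s26_O : ℕ := (nat_lit 0x200000000000000000000000000000002040010000000000000000000000008100000000000000000000200000000010000000000000000000000000000000018000000000000000000000040008000000000000000000100000008100000000000580000000000000000008000802000400000000010000020000000210000000080000000020000040800000001004000000000400020000000000000240000001000800000000000000800800400040000000000800000200800000080000008008000000000000014000000100040000000800000100000800010000001000000001002000000080000000000200080000020600200040280002000080400000005020000800024000006020000040030000040020000000000000000000000000100200000000000000000000000000040000000000000000000000000000000000000000000400000000100000000000000000000000001000000000000000)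

theorem T_s26_F : Frame 100 (grp 100 EG) 6 29 T_s26_O 0 1 :=
  Stab.frame t_hn T_s26 (by decide +kernel)

noncomputable def T_s25_O : ℕ := (nat_lit 0x20400100001000000000000000000000000000000012000000801004000000000400020000000000000240000001000800000000008000002008000000800000010004000000080000010001200000000015800000000000080081000020000040800000000100000200000002101800000008008000000000004014800000020600a00840680042000080400008005822000c000240020060200800400300002400a000000000000000000000000010020000000000000000000000000004000000000000000000000000000000000000000000040000000010000000000000000)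

theorem T_s25_F : Frame 100 (grp 100 EG) 5 19 T_s25_O 0 1 :=
  Stab.frame t_hn T_s25 (by decide +kernel)

noncomputable def T_s24_O : ℕ := (nat_lit 0x200000000000000001200000080400100011000000000000000000000024000000100080000000010004000000080000010001210000020015800210180000080881800020000040c01480080400008005822000c000240020060200800400300002400a0000028600a0284868004280000000000000000000000000001002000000000000000000000000000400000000000000000000000000000000000000000004)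

theorem T_s24_F : Frame 100 (grp 100 EG) 4 14 T_s24_O 0 1 :=
  Stab.frame t_hn T_s24 (by decide +kernel)

noncomputable def T_s23_O : ℕ := (nat_lit 0x600000000000000001200000080400100011000000000000000000000024000000100080000000010004000000080000010001210000020015800210180000080881800020000040c01480080400008005822000c000240020060200800400300002400a0000000000000000000000000100200000000000000000000000000040000000000000000000)

theorem T_s23_F : Frame 100 (grp 100 EG) 3 12 T_s23_O 0 1 :=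
  Stab.frame t_hn T_s23 (by decide +kernel)

noncomputable def nt_c4_cnt_L : List ℕ := [1, 2, T_s1_O, 0, 0, 2, 5, T_s15_O, 0, 0, 3, 12, T_s23_O, 0, 0, 4, 14, T_s24_O, 0, 0, 5, 19, T_s25_O, 0, 0, 6, 29, T_s26_O, 0, 0, 7, 39, T_s27_O, 0, 0, 8, 59, T_s28_O, 0, 0, 9, 13, T_s29_O, 1, 0]

theorem nt_c4_cnt_P : Prob 100 7 (grp 100 EG) nt_c4_cnt_EG [t_g103] [t_g103] nt_c4_K nt_c4_cnt_L 0 0 :=
  Sym.prob t_hn t_hk nt_c4_sym nt_c4_cnt_EG_ok (grp_cons_le MpHS.a_T (grp_cons_le HSM.g1_T (grp_cons_le HSM.g2_T (grp_cons_le t_g1_T (grp_cons_le t_g2_T (grp_cons_le t_g5_T (grp_cons_le t_g6_T (grp_cons_le t_g9_T (grp_cons_le t_g10_T (grp_cons_le t_g13_T (grp_cons_le t_g14_T (grp_cons_le t_g15_T (grp_cons_le t_g18_T (grp_cons_le t_g19_T (grp_cons_le t_g20_T (grp_cons_le t_g23_T (grp_cons_le t_g24_T (grp_cons_le t_g25_T (grp_cons_le t_g28_T (grp_cons_le t_g29_T (grp_cons_le t_g30_T (grp_cons_le t_g31_T (grp_cons_le t_g34_T (grp_cons_le t_g86_T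 (grp_cons_le t_g87_T (grp_cons_le t_g88_T (grp_cons_le t_g89_T (grp_cons_le t_g90_T (grp_cons_le t_g91_T (grp_cons_le t_g92_T (grp_cons_le t_g93_T (grp_cons_le t_g113_T (grp_cons_le t_g114_T (grp_cons_le t_g115_T (grp_cons_le t_g116_T (grp_cons_le t_g72_T (grp_cons_le t_g117_T (grp_nil_le _)))))))))))))))))))))))))))))))))))))) (Frames.cons T_s1_F (Frames.cons T_s15_F (Frames.cons T_s23_F (Frames.cons T_s24_F (Frames.cons T_s25_F (Frames.cons T_s26_F (Frames.cons T_s27_F (Frames.cons T_s28_F (Frames.cons T_s29_F Frames.nil))))))))) (okE_cons.2 ⟨t_g103_ok, okE_nil _⟩) _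

noncomputable def nt_c4_cnt_t : BT := (BT.fix (nat_lit 1) (BT.br (nat_lit 0) (nat_lit 79) [nat_lit 1, nat_lit 3] (BT.kid (nat_lit 79) (nat_lit 640) (BT.dif (nat_lit 1) (nat_lit 0) (BT.br (nat_lit 0) (nat_lit 8) [nat_lit 3] (BT.kid (nat_lit 8) (nat_lit 128) (BT.dif (nat_lit 3) (nat_lit 0) (BT.dif (nat_lit 0) (nat_lit 3) (BT.br (nat_lit 0) (nat_lit 25) [nat_lit 5] (BT.kid (nat_lit 25) (nat_lit 32) (BT.frm (nat_lit 2) (nat_lit 0x3031070f010305) (nat_lit 0x3031070f010305) [nat_lit 0, nat_lit 3, nat_lit 5] (BT.pln (nat_lit 0) (nat_lit 11) (BT.br (nat_lit 0) (nat_lit 97) [nat_lit 7] (BT.kid (nat_lit 97) (nat_lit 16) (BT.pln (nat_lit 2) (nat_lit 9) (BT.br (nat_lit 0) (nat_lit 1) [nat_lit 9, nat_lit 11] (BT.kid (nat_lit 1) (nat_lit 4) (BT.dif (nat_lit 1) (nat_lit 0) (BT.img (nat_lit 1) (nat_lit 1) (BT.dif (nat_lit 1) (nat_lit 0) (BT.br (nat_lit 0) (nat_lit 23) [] (BT.dead (nat_lit 35) (BT.frm (nat_lit 5) (nat_lit 0x43413f3031070f010305)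 (nat_lit 0x43413f3031070f010305) [nat_lit 2, nat_lit 4, nat_lit 6, nat_lit 9, nat_lit 12, nat_lit 14] (BT.pln (nat_lit 0) (nat_lit 25) (BT.br (nat_lit 0) (nat_lit 82) [nat_lit 13] (BT.dead (nat_lit 82) (BT.frm (nat_lit 0) (nat_lit 66309) (nat_lit 66309) [nat_lit 17] (BT.pln (nat_lit 0) (nat_lit 1) (BT.dif (nat_lit 23) (nat_lit 0) (BT.dif (nat_lit 0) (nat_lit 21) (BT.frm (nat_lit 1) (nat_lit 0x70f010305) (nat_lit 0x70f010305) [nat_lit 19, nat_lit 21] (BT.pln (nat_lit 0) (nat_lit 2) (BT.dif (nat_lit 2) (nat_lit 0) (BT.frm (nat_lit 3) (nat_lit 0x3f3031070f010305) (nat_lit 0x3f3031070f010305) [nat_lit 16, nat_lit 19, nat_lit 22, nat_lit 24] (BT.pln (nat_lit 0) (nat_lit 4) (BT.dif (nat_lit 2) (nat_lit 0) (BT.pln (nat_lit 2) (nat_lit 6) (BT.dif (nat_lit 1) (nat_lit 0) (BT.pln (nat_lit 4) (nat_lit 7) (BT.dif (nat_lit 1) (nat_lit 0) (BT.frm (nat_lit 4) (nat_lit 0x413f3031070f010305) (nat_lit 0x413f3031070f010305) [nat_lit 21,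 nat_lit 23, nat_lit 26, nat_lit 29, nat_lit 31] (BT.pln (nat_lit 0) (nat_lit 15) (BT.dif (nat_lit 2) (nat_lit 0) (BT.pln (nat_lit 19) (nat_lit 10) (BT.dif (nat_lit 1) (nat_lit 0) (BT.frm (nat_lit 6) (nat_lit 0x4543413f3031070f010305) (nat_lit 0x43413f3031070f010305) [nat_lit 22, nat_lit 24, nat_lit 26, nat_lit 28, nat_lit 31, nat_lit 34, nat_lit 36] (BT.pln (nat_lit 0) (nat_lit 8) (BT.dif (nat_lit 2) (nat_lit 0) (BT.frm (nat_lit 7) (nat_lit 0x474543413f3031070f010305) (nat_lit 0x4743413f3031070f010305) [nat_lit 22, nat_lit 25, nat_lit 27, nat_lit 29, nat_lit 31, nat_lit 34, nat_lit 37, nat_lit 39] (BT.pln (nat_lit 0) (nat_lit 39) (BT.dif (nat_lit 2) (nat_lit 0) (BT.br (nat_lit 0) (nat_lit 30) [nat_lit 15] (BT.dead (nat_lit 63) (BT.frm (nat_lit 8) (nat_lit 0x474543413f3031070f010305) (nat_lit 0x494743413f3031070f010305) [nat_lit 0, nat_lit 26, nat_lit 29, nat_lit 31, nat_lit 33, nat_lit 35, nat_lit 38, nat_lit 41, nat_lit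 43] (BT.pln (nat_lit 0) (nat_lit 12) (BT.img (nat_lit 1) (nat_lit 2) (BT.and (nat_lit 1) (nat_lit 0) (BT.cnt (nat_lit 0)))))) BT.nil))))))))))))))))))))))))))) BT.nil)))) (BT.kid (nat_lit 23) (nat_lit 4) (BT.frm (nat_lit 5) (nat_lit 0x43413f3031070f010305) (nat_lit 0x43413f3031070f010305) [nat_lit 2, nat_lit 4, nat_lit 6, nat_lit 9, nat_lit 12, nat_lit 14] (BT.pln (nat_lit 0) (nat_lit 25) (BT.br (nat_lit 0) (nat_lit 82) [nat_lit 13] (BT.kid (nat_lit 82) (nat_lit 2) (BT.frm (nat_lit 0) (nat_lit 66309) (nat_lit 66309) [nat_lit 17] (BT.pln (nat_lit 0) (nat_lit 1) (BT.dif (nat_lit 23) (nat_lit 0) (BT.dif (nat_lit 0) (nat_lit 21) (BT.frm (nat_lit 1) (nat_lit 0x70f010305) (nat_lit 0x70f010305) [nat_lit 19, nat_lit 21] (BT.pln (nat_lit 0) (nat_lit 2) (BT.dif (nat_lit 2) (nat_lit 0) (BT.frm (nat_lit 3) (nat_lit 0x3f3031070f010305) (nat_lit 0x3f3031070f010305) [nat_lit 16, nat_lit 19, nat_lit 22, nat_lit 24] (BT.pln (nat_lit 0)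 (nat_lit 4) (BT.dif (nat_lit 2) (nat_lit 0) (BT.pln (nat_lit 2) (nat_lit 6) (BT.dif (nat_lit 1) (nat_lit 0) (BT.pln (nat_lit 4) (nat_lit 7) (BT.dif (nat_lit 1) (nat_lit 0) (BT.frm (nat_lit 4) (nat_lit 0x413f3031070f010305) (nat_lit 0x413f3031070f010305) [nat_lit 21, nat_lit 23, nat_lit 26, nat_lit 29, nat_lit 31] (BT.pln (nat_lit 0) (nat_lit 15) (BT.dif (nat_lit 2) (nat_lit 0) (BT.pln (nat_lit 19) (nat_lit 10) (BT.dif (nat_lit 1) (nat_lit 0) (BT.frm (nat_lit 6) (nat_lit 0x4543413f3031070f010305) (nat_lit 0x4543413f3031070f010305) [nat_lit 22, nat_lit 24, nat_lit 26, nat_lit 28, nat_lit 31, nat_lit 34, nat_lit 36] (BT.pln (nat_lit 0) (nat_lit 8) (BT.dif (nat_lit 2) (nat_lit 0) (BT.frm (nat_lit 7) (nat_lit 0x474543413f3031070f010305) (nat_lit 0x474543413f3031070f010305) [nat_lit 22, nat_lit 25, nat_lit 27, nat_lit 29, nat_lit 31, nat_lit 34, nat_lit 37, nat_lit 39] (BT.pln (nat_lit 0) (nat_lit 39) (BT.dif (nat_lit 2) (nat_lit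 0) (BT.br (nat_lit 0) (nat_lit 30) [nat_lit 15] (BT.kid (nat_lit 30) (nat_lit 1) (BT.one (nat_lit 8) (nat_lit 0x474543413f3031070f010305) (nat_lit 0x474543413f3031070f010305) [nat_lit 0, nat_lit 26, nat_lit 29, nat_lit 31, nat_lit 33, nat_lit 35, nat_lit 38, nat_lit 41, nat_lit 43]) BT.nil))))))))))))))))))))))))))) BT.nil)))) BT.nil)))))) BT.nil))) BT.nil)))) BT.nil)))) BT.nil))) BT.nil)))

theorem nt_c4_cnt : Cnt 100 (grp 100 EG) [t_g103] [t_g103] 0 0 0 0 3840 :=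
  BT.sound nt_c4_cnt_P Known.nil (t := nt_c4_cnt_t) (d := 0) (by decide +kernel)

theorem nt_c4_ge : 3840 ≤ Nat.card (grp 100 nt_c4_K) :=
  Ch.le_card_grp (k := 7) (L := (lab 100 7)) t_hn nt_c4_K_ok (c := (Ch.cons (nat_lit 79) [nat_lit 1] (Ch.cons (nat_lit 8) [nat_lit 3] (Ch.cons (nat_lit 25) [nat_lit 5] (Ch.cons (nat_lit 97) [nat_lit 7] (Ch.cons (nat_lit 1) [nat_lit 9, nat_lit 11] (Ch.cons (nat_lit 82) [nat_lit 13] (Ch.cons (nat_lit 30) [nat_lit 15] Ch.nil)))))))) (by decide +kernel)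

theorem nt_c4_eq : (grp 100 EG) ⊓ Subgroup.centralizer {Net.toPerm 100 t_g103} = grp 100 nt_c4_K :=
  cent_eq nt_c4_sym nt_c4_cnt nt_c4_ge

theorem nt_c4_card : Nat.card ↥((grp 100 EG) ⊓ Subgroup.centralizer {Net.toPerm 100 t_g103}) = 3840 :=
  card_cent nt_c4_sym nt_c4_cnt nt_c4_ge

theorem nt_c4_ord : orderOf (Net.toPerm 100 t_g103) = 2 :=
  orderOf_net t_hn t_hk t_g103_ok (by decide) (ps := [2]) (by set_option linter.unusedSimpArgs false in simp [Nat.primeFactorsList_ofNat]) (by decide +kernel)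

theorem t_le132 : grp 100 nt_c5_K ≤ grp 100 lb_E :=
  grp_le_of_memB t_hn t_hk lb_E_ok nt_c5_K_ok (ws := [nat_lit 0x2f1f1a0f110b11070e010313, nat_lit 0x2f19130b120a0b030f, nat_lit 0x31251f0b071001030f, nat_lit 0x312f251f0f110c0a0c0305, nat_lit 0x252b190d11070a010f06]) (by decide +kernel)

theorem nt_c5_le : grp 100 nt_c5_K ≤ (grp 100 EG) :=
  (t_le132.trans T_s0.le)

theorem nt_c5_mem : Net.toPerm 100 t_g126 ∈ (grp 100 EG) :=
  nt_c5_le (mem_grp_of_memB t_hn t_hk nt_c5_K_ok t_g126_ok (w := (nat_lit 2054)) (by decide +kernel))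

theorem nt_c5_sym : Sym 100 (grp 100 EG) [t_g126] nt_c5_K 0 :=
  Sym.of_lab t_hn t_hk (okE_cons.2 ⟨t_g126_ok, okE_nil _⟩) nt_c5_K_ok nt_c5_le (kT := 0) (by decide +kernel)

theorem t_le139 : grp 100 t_V138 ≤ grp 100 t_V94 :=
  grp_le_of_memB t_hn t_hk t_V94_ok t_V138_ok (ws := [nat_lit 0x110b0d0705080308, nat_lit 0xf0b090401, nat_lit 0xf1108050703080104, nat_lit 591111, nat_lit 0xb0d080507]) (by decide +kernel)

theorem T_s30 : Stab 100 (grp 100 EG) [nat_lit 93, nat_lit 89, nat_lit 0] t_V138 720 :=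
  Stab.step (k := 7) (L := (lab 100 7)) t_hn T_s15 t_V138_ok t_le139 (c := (Ch.cons (nat_lit 7) [nat_lit 1] (Ch.cons (nat_lit 84) [nat_lit 3] (Ch.cons (nat_lit 1) [nat_lit 5] (Ch.cons (nat_lit 31) [nat_lit 7] (Ch.cons (nat_lit 10) [nat_lit 9] Ch.nil)))))) (by decide +kernel)

theorem T_s31 : Stab 100 (grp 100 EG) [nat_lit 7, nat_lit 93, nat_lit 89, nat_lit 0] t_V140 72 :=
  Stab.step (k := 7) (L := (lab 100 7)) t_hn T_s30 t_V140_ok (grp_mono (List.subset_append_right [t_g133] _)) (c := (Ch.cons (nat_lit 84) [nat_lit 1] (Ch.cons (nat_lit 1) [nat_lit 3] (Ch.cons (nat_lit 31) [nat_lit 5] (Ch.cons (nat_lit 10) [nat_lit 7] Ch.nil))))) (by decide +kernel)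

theorem T_s32 : Stab 100 (grp 100 EG) [nat_lit 84, nat_lit 7, nat_lit 93, nat_lit 89, nat_lit 0] t_V141 12 :=
  Stab.step (k := 7) (L := (lab 100 7)) t_hn T_s31 t_V141_ok (grp_mono (List.subset_append_right [t_g134] _)) (c := (Ch.cons (nat_lit 1) [nat_lit 1] (Ch.cons (nat_lit 31) [nat_lit 3] (Ch.cons (nat_lit 10) [nat_lit 5] Ch.nil)))) (by decide +kernel)

theorem T_s33 : Stab 100 (grp 100 EG) [nat_lit 1, nat_lit 84, nat_lit 7, nat_lit 93, nat_lit 89, nat_lit 0] t_V142 6 :=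
  Stab.step (k := 7) (L := (lab 100 7)) t_hn T_s32 t_V142_ok (grp_mono (List.subset_append_right [t_g135] _)) (c := (Ch.cons (nat_lit 31) [nat_lit 1] (Ch.cons (nat_lit 10) [nat_lit 3] Ch.nil))) (by decide +kernel)

theorem T_s34 : Stab 100 (grp 100 EG) [nat_lit 31, nat_lit 1, nat_lit 84, nat_lit 7, nat_lit 93, nat_lit 89, nat_lit 0] t_V143 2 :=
  Stab.step (k := 7) (L := (lab 100 7)) t_hn T_s33 t_V143_ok (grp_mono (List.subset_append_right [t_g136] _)) (c := (Ch.cons (nat_lit 10) [nat_lit 1] Ch.nil)) (by decide +kernel)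

theorem T_s35 : Stab 100 (grp 100 EG) [nat_lit 10, nat_lit 31, nat_lit 1, nat_lit 84, nat_lit 7, nat_lit 93, nat_lit 89, nat_lit 0] t_V144 1 :=
  Stab.step (k := 7) (L := (lab 100 7)) t_hn T_s34 t_V144_ok (grp_mono (List.subset_append_right [t_g137] _)) (c := Ch.nil) (by decide +kernel)

theorem t_g134_T : Net.toPerm 100 t_g134 ∈ (grp 100 EG) :=
  T_s31.le (toPerm_mem_grp (E := t_V140) (List.Mem.head _))

theorem t_g135_T : Net.toPerm 100 t_g135 ∈ (grp 100 EG) :=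
  T_s31.le (toPerm_mem_grp (E := t_V140) (List.Mem.tail _ (List.Mem.head _)))

theorem t_g136_T : Net.toPerm 100 t_g136 ∈ (grp 100 EG) :=
  T_s31.le (toPerm_mem_grp (E := t_V140) (List.Mem.tail _ (List.Mem.tail _ (List.Mem.head _))))

theorem t_g137_T : Net.toPerm 100 t_g137 ∈ (grp 100 EG) :=
  T_s31.le (toPerm_mem_grp (E := t_V140) (List.Mem.tail _ (List.Mem.tail _ (List.Mem.tail _ (List.Mem.head _)))))

theorem t_g133_T : Net.toPerm 100 t_g133 ∈ (grp 100 EG) :=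
  T_s30.le (toPerm_mem_grp (E := t_V138) (List.Mem.head _))

noncomputable def T_s35_O : ℕ := (nat_lit 0x3333266666ccccd99999333321f07c1f03e0f83e0f83e0f83ee63398c67319ce63398c673184db24d926c93649b64db26d9200000000000000000000000010020000000000000000000000020000000000000000000000000000000000000000000000800001000000000000000000000000000000000000000000000200000000000000000800000000000000000000000000000400)

theorem T_s35_F : Frame 100 (grp 100 EG) 8 12 T_s35_O 1 1 :=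
  IsBase.frame T_s35.isBase (by decide +kernel)

noncomputable def T_s32_O : ℕ := (nat_lit 0x20000000010000000000000400000000000000000000000000000000068000800000400000000000000004001000010000000000000020000000800000000002000000000000000010000000180000000000040000000800000100000000000000020000000028000000000000000000084000400000004000000000010000000800060200110400000000000001010000240001000010000000000000002000480120080000000080008002800004000100000800008000000200048004000000048000002010000040010000800001020000800000200400400100000000030000040020000020100080040000000801000000000000000000000000010020000000000000000000000020000000000000000000000000000000000000000000000800001000000000000000000000)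

theorem T_s32_F : Frame 100 (grp 100 EG) 5 25 T_s32_O 0 1 :=
  Stab.frame t_hn T_s32 (by decide +kernel)

noncomputable def nt_c5_cnt_L : List ℕ := [1, 2, T_s1_O, 0, 0, 2, 5, T_s15_O, 0, 0, 5, 25, T_s32_O, 0, 0, 8, 12, T_s35_O, 1, 0]

theorem nt_c5_cnt_P : Prob 100 7 (grp 100 EG) nt_c5_cnt_EG [t_g126] [t_g126] nt_c5_K nt_c5_cnt_L 0 0 :=
  Sym.prob t_hn t_hk nt_c5_sym nt_c5_cnt_EG_ok (grp_cons_le MpHS.a_T (grp_cons_le HSM.g1_T (grp_cons_le HSM.g2_T (grp_cons_le t_g1_T (grp_cons_le t_g2_T (grp_cons_le t_g5_T (grp_cons_le t_g6_T (grp_cons_le t_g9_T (grp_cons_le t_g10_T (grp_cons_le t_g13_T (grp_cons_le t_g14_T (grp_cons_le t_g15_T (grp_cons_le t_g18_T (grp_cons_le t_g19_T (grp_cons_le t_g20_T (grp_cons_le t_g23_T (grp_cons_le t_g24_T (grp_cons_le t_g25_T (grp_cons_le t_g28_T (grp_cons_le t_g29_T (grp_cons_le t_g30_T (grp_cons_le t_g31_T (grp_cons_le t_g34_T (grp_cons_le t_g134_T (grp_cons_le t_g135_T (grp_cons_le t_g136_T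 (grp_cons_le t_g137_T (grp_cons_le t_g133_T (grp_cons_le t_g86_T (grp_cons_le t_g87_T (grp_cons_le t_g88_T (grp_cons_le t_g89_T (grp_cons_le t_g90_T (grp_cons_le t_g91_T (grp_cons_le t_g92_T (grp_cons_le t_g93_T (grp_nil_le _))))))))))))))))))))))))))))))))))))) (Frames.cons T_s1_F (Frames.cons T_s15_F (Frames.cons T_s32_F (Frames.cons T_s35_F Frames.nil)))) (okE_cons.2 ⟨t_g126_ok, okE_nil _⟩) _

noncomputable def nt_c5_cnt_t : BT := (BT.fix (nat_lit 1) (BT.br (nat_lit 0) (nat_lit 95) [nat_lit 1] (BT.kid (nat_lit 95) (nat_lit 72) (BT.frm (nat_lit 0) (nat_lit 131603) (nat_lit 131603) [nat_lit 0] (BT.pln (nat_lit 0) (nat_lit 1) (BT.dif (nat_lit 3) (nat_lit 0) (BT.dif (nat_lit 0) (nat_lit 3) (BT.br (nat_lit 0) (nat_lit 40) [nat_lit 3, nat_lit 5] (BT.dead (nat_lit 24) (BT.frm (nat_lit 1) (nat_lit 0x711020213) (nat_lit 0x80c020213) [nat_lit 0, nat_lit 5] (BT.pln (nat_lit 0) (nat_lit 2) (BT.and (nat_lit 0) (nat_lit 8) (BT.cnt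 (nat_lit 0))))) (BT.kid (nat_lit 40) (nat_lit 18) (BT.frm (nat_lit 1) (nat_lit 0x711020213) (nat_lit 0x711020213) [nat_lit 0, nat_lit 5] (BT.pln (nat_lit 0) (nat_lit 3) (BT.dif (nat_lit 5) (nat_lit 0) (BT.dif (nat_lit 0) (nat_lit 9) (BT.br (nat_lit 0) (nat_lit 69) [nat_lit 5] (BT.kid (nat_lit 69) (nat_lit 6) (BT.dif (nat_lit 14) (nat_lit 8) (BT.pln (nat_lit 5) (nat_lit 2) (BT.and (nat_lit 13) (nat_lit 0) (BT.and (nat_lit 14) (nat_lit 6) (BT.frm (nat_lit 2) (nat_lit 0x3038410711020213) (nat_lit 0x3038410711020213) [nat_lit 4, nat_lit 1, nat_lit 0, nat_lit 9, nat_lit 14] (BT.pln (nat_lit 0) (nat_lit 15) (BT.and (nat_lit 5) (nat_lit 0) (BT.br (nat_lit 0) (nat_lit 7) [nat_lit 7] (BT.kid (nat_lit 7) (nat_lit 2) (BT.dif (nat_lit 2) (nat_lit 0) (BT.br (nat_lit 0) (nat_lit 39) [nat_lit 9] (BT.kid (nat_lit 39) (nat_lit 1) (BT.img (nat_lit 1) (nat_lit 10) (BT.one (nat_lit 3) (nat_lit 0x3038410711020213) (nat_lit 0x3038410711020213)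 [nat_lit 1, nat_lit 3, nat_lit 0, nat_lit 11, nat_lit 8, nat_lit 7, nat_lit 16, nat_lit 21])) BT.nil))) BT.nil))))))))) BT.nil)))))) BT.nil))))))) BT.nil)))

theorem nt_c5_cnt : Cnt 100 (grp 100 EG) [t_g126] [t_g126] 0 0 0 0 720 :=
  BT.sound nt_c5_cnt_P Known.nil (t := nt_c5_cnt_t) (d := 0) (by decide +kernel)

theorem nt_c5_ge : 720 ≤ Nat.card (grp 100 nt_c5_K) :=
  Ch.le_card_grp (k := 7) (L := (lab 100 7)) t_hn nt_c5_K_ok (c := (Ch.cons (nat_lit 95) [nat_lit 1] (Ch.cons (nat_lit 40) [nat_lit 3] (Ch.cons (nat_lit 69) [nat_lit 5] (Ch.cons (nat_lit 7) [nat_lit 7] (Ch.cons (nat_lit 39) [nat_lit 9] Ch.nil)))))) (by decide +kernel)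

theorem nt_c5_eq : (grp 100 EG) ⊓ Subgroup.centralizer {Net.toPerm 100 t_g126} = grp 100 nt_c5_K :=
  cent_eq nt_c5_sym nt_c5_cnt nt_c5_ge

theorem nt_c5_card : Nat.card ↥((grp 100 EG) ⊓ Subgroup.centralizer {Net.toPerm 100 t_g126}) = 720 :=
  card_cent nt_c5_sym nt_c5_cnt nt_c5_ge

theorem nt_c5_ord : orderOf (Net.toPerm 100 t_g126) = 3 :=
  orderOf_net t_hn t_hk t_g126_ok (by decide) (ps := [3]) (by set_option linter.unusedSimpArgs false in simp [Nat.primeFactorsList_ofNat]) (by decide +kernel)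

theorem t_le151 : grp 100 nt_c6_K ≤ grp 100 lb_E :=
  grp_le_of_memB t_hn t_hk lb_E_ok nt_c6_K_ok (ws := [nat_lit 0x2f252b1f190f0f0c21070401, nat_lit 0x312f1f1a170f110c140527, nat_lit 0x312f252b1a130e070a, nat_lit 0x251a170f110b1d080e031b, nat_lit 0x2f2b1a13180c21070e031b]) (by decide +kernel)

theorem nt_c6_le : grp 100 nt_c6_K ≤ (grp 100 EG) :=
  (t_le151.trans T_s0.le)

theorem nt_c6_mem : Net.toPerm 100 t_g145 ∈ (grp 100 EG) :=
  nt_c6_le (mem_grp_of_memB t_hn t_hk nt_c6_K_ok t_g145_ok (w := (nat_lit 0x90805030504010101)) (by decide +kernel))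

theorem nt_c6_sym : Sym 100 (grp 100 EG) [t_g145] nt_c6_K 0 :=
  Sym.of_lab t_hn t_hk (okE_cons.2 ⟨t_g145_ok, okE_nil _⟩) nt_c6_K_ok nt_c6_le (kT := 0) (by decide +kernel)

theorem t_le157 : grp 100 t_V156 ≤ grp 100 t_V138 :=
  grp_le_of_memB t_hn t_hk t_V138_ok t_V156_ok (ws := [nat_lit 0x80503050105, nat_lit 0x8030207, nat_lit 1025, nat_lit 0x3030501]) (by decide +kernel)

theorem T_s36 : Stab 100 (grp 100 EG) [nat_lit 94, nat_lit 93, nat_lit 89, nat_lit 0] t_V156 120 :=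
  Stab.step (k := 7) (L := (lab 100 7)) t_hn T_s30 t_V156_ok t_le157 (c := (Ch.cons (nat_lit 52) [nat_lit 1] (Ch.cons (nat_lit 18) [nat_lit 3] (Ch.cons (nat_lit 95) [nat_lit 5] (Ch.cons (nat_lit 59) [nat_lit 7] Ch.nil))))) (by decide +kernel)

theorem T_s37 : Stab 100 (grp 100 EG) [nat_lit 52, nat_lit 94, nat_lit 93, nat_lit 89, nat_lit 0] t_V158 24 :=
  Stab.step (k := 7) (L := (lab 100 7)) t_hn T_s36 t_V158_ok (grp_mono (List.subset_append_right [t_g152] _)) (c := (Ch.cons (nat_lit 18) [nat_lit 1] (Ch.cons (nat_lit 95) [nat_lit 3] (Ch.cons (nat_lit 59) [nat_lit 5] Ch.nil)))) (by decide +kernel)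

theorem T_s38 : Stab 100 (grp 100 EG) [nat_lit 18, nat_lit 52, nat_lit 94, nat_lit 93, nat_lit 89, nat_lit 0] t_V159 6 :=
  Stab.step (k := 7) (L := (lab 100 7)) t_hn T_s37 t_V159_ok (grp_mono (List.subset_append_right [t_g153] _)) (c := (Ch.cons (nat_lit 95) [nat_lit 1] (Ch.cons (nat_lit 59) [nat_lit 3] Ch.nil))) (by decide +kernel)

theorem T_s39 : Stab 100 (grp 100 EG) [nat_lit 95, nat_lit 18, nat_lit 52, nat_lit 94, nat_lit 93, nat_lit 89, nat_lit 0] t_V160 2 :=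
  Stab.step (k := 7) (L := (lab 100 7)) t_hn T_s38 t_V160_ok (grp_mono (List.subset_append_right [t_g154] _)) (c := (Ch.cons (nat_lit 59) [nat_lit 1] Ch.nil)) (by decide +kernel)

theorem T_s40 : Stab 100 (grp 100 EG) [nat_lit 59, nat_lit 95, nat_lit 18, nat_lit 52, nat_lit 94, nat_lit 93, nat_lit 89, nat_lit 0] t_V161 1 :=
  Stab.step (k := 7) (L := (lab 100 7)) t_hn T_s39 t_V161_ok (grp_mono (List.subset_append_right [t_g155] _)) (c := Ch.nil) (by decide +kernel)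

theorem t_g153_T : Net.toPerm 100 t_g153 ∈ (grp 100 EG) :=
  T_s37.le (toPerm_mem_grp (E := t_V158) (List.Mem.head _))

theorem t_g154_T : Net.toPerm 100 t_g154 ∈ (grp 100 EG) :=
  T_s37.le (toPerm_mem_grp (E := t_V158) (List.Mem.tail _ (List.Mem.head _)))

theorem t_g155_T : Net.toPerm 100 t_g155 ∈ (grp 100 EG) :=
  T_s37.le (toPerm_mem_grp (E := t_V158) (List.Mem.tail _ (List.Mem.tail _ (List.Mem.head _))))

theorem t_g152_T : Net.toPerm 100 t_g152 ∈ (grp 100 EG) :=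
  T_s36.le (toPerm_mem_grp (E := t_V156) (List.Mem.head _))

noncomputable def T_s40_O : ℕ := (nat_lit 0x3333266666ccccd99999333321f07c1f03e0f83e0f83e0f83ee63398c67319ce63398c673184db24d926c93649b64db26d9200000000000000000000000010020000000000000000000000020000000000000000000000004000000000000000000000000000000000010000000000000000000000000000000004000008000000000000000000000000000000000800000000000000)

theorem T_s40_F : Frame 100 (grp 100 EG) 8 12 T_s40_O 1 1 :=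
  IsBase.frame T_s40.isBase (by decide +kernel)

noncomputable def T_s38_O : ℕ := (nat_lit 0x100000000000000000000000000000004000000000000000000000000010000000000000000000000000000200000000014008000000000000000000000060200000000000000000000010000020000800000000000400800000000000080000000000000010080000000800000000000000800000000140000000000081000000000002000000010000000000040000100000000000000000002080002000000800000000000010000040000000000000810000000002000000000000200000001000100000000000004000000000088000008000000008000000000200000000040000000000004000800200000001000000000000008000000020002000000000000400000000000000030000000020000000c00000000000000001000000000000802000000000080000000102000400409000000008000000000804000000a40000002000040000020000142000000400000520004000000100000000000000000000000000100200000000000000000000000200000000000000000000000040000000000000000000000000000000000100000000000000000000000000000000040000)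

theorem T_s38_F : Frame 100 (grp 100 EG) 6 34 T_s38_O 0 1 :=
  Stab.frame t_hn T_s38 (by decide +kernel)

noncomputable def T_s30_O : ℕ := (nat_lit 0x4001000000000300000400200001000400000008000001006200602009104000000020008010100002600158012109800008140c90000520104020400100000000000000000000000000100200000000000000000000000200000000000000000000000)

theorem T_s30_F : Frame 100 (grp 100 EG) 3 8 T_s30_O 0 1 :=
  Stab.frame t_hn T_s30 (by decide +kernel)

noncomputable def nt_c6_cnt_L : List ℕ := [1, 2, T_s1_O, 0, 0, 3, 8, T_s30_O, 0, 0, 6, 34, T_s38_O, 0, 0, 8, 12, T_s40_O, 1, 0]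

theorem nt_c6_cnt_P : Prob 100 7 (grp 100 EG) nt_c6_cnt_EG [t_g145] [t_g145] nt_c6_K nt_c6_cnt_L 0 0 :=
  Sym.prob t_hn t_hk nt_c6_sym nt_c6_cnt_EG_ok (grp_cons_le MpHS.a_T (grp_cons_le HSM.g1_T (grp_cons_le HSM.g2_T (grp_cons_le t_g1_T (grp_cons_le t_g2_T (grp_cons_le t_g5_T (grp_cons_le t_g6_T (grp_cons_le t_g9_T (grp_cons_le t_g10_T (grp_cons_le t_g13_T (grp_cons_le t_g14_T (grp_cons_le t_g15_T (grp_cons_le t_g18_T (grp_cons_le t_g19_T (grp_cons_le t_g20_T (grp_cons_le t_g23_T (grp_cons_le t_g24_T (grp_cons_le t_g25_T (grp_cons_le t_g28_T (grp_cons_le t_g29_T (grp_cons_le t_g30_T (grp_cons_le t_g31_T (grp_cons_le t_g34_T (grp_cons_le t_g86_T (grp_cons_le t_g87_T (grp_cons_le t_g88_T (grp_cons_le t_g89_T (grp_cons_le t_g90_T (grp_cons_le t_g91_T (grp_cons_le t_g92_T (grp_cons_le t_g93_T (grp_cons_le t_g153_T (grp_cons_le t_g154_T (grp_cons_le t_g155_T (grp_cons_le t_g152_T (grp_cons_le t_g133_T (grp_cons_le t_g134_T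 (grp_cons_le t_g135_T (grp_cons_le t_g136_T (grp_cons_le t_g137_T (grp_nil_le _))))))))))))))))))))))))))))))))))))))))) (Frames.cons T_s1_F (Frames.cons T_s30_F (Frames.cons T_s38_F (Frames.cons T_s40_F Frames.nil)))) (okE_cons.2 ⟨t_g145_ok, okE_nil _⟩) _

noncomputable def nt_c6_cnt_t : BT := (BT.fix (nat_lit 257) (BT.br (nat_lit 0) (nat_lit 98) [nat_lit 1, nat_lit 7] (BT.kid (nat_lit 98) (nat_lit 384) (BT.frm (nat_lit 0) (nat_lit 69382) (nat_lit 69382) [nat_lit 0] (BT.pln (nat_lit 0) (nat_lit 1) (BT.dif (nat_lit 0) (nat_lit 3) (BT.br (nat_lit 0) (nat_lit 71) [nat_lit 3, nat_lit 5] (BT.kid (nat_lit 71) (nat_lit 24) (BT.img (nat_lit 1) (nat_lit 4) (BT.frm (nat_lit 1) (nat_lit 0x2f360711010f06) (nat_lit 0x2f360711010f06) [nat_lit 1, nat_lit 0, nat_lit 5] (BT.pln (nat_lit 0) (nat_lit 7) (BT.img (nat_lit 1) (nat_lit 3) (BT.dif (nat_lit 1) (nat_lit 0) (BT.img (nat_lit 1) (nat_lit 1) (BT.img (nat_lit 1) (nat_lit 0) (BT.dif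 (nat_lit 2) (nat_lit 0) (BT.br (nat_lit 0) (nat_lit 78) [nat_lit 5, nat_lit 7] (BT.kid (nat_lit 78) (nat_lit 6) (BT.frm (nat_lit 2) (nat_lit 0x3f4245402f360711010f06) (nat_lit 0x3f4245402f360711010f06) [nat_lit 0, nat_lit 3, nat_lit 5, nat_lit 9, nat_lit 8, nat_lit 13] (BT.pln (nat_lit 0) (nat_lit 16) (BT.br (nat_lit 0) (nat_lit 31) [nat_lit 7] (BT.kid (nat_lit 31) (nat_lit 2) (BT.dif (nat_lit 1) (nat_lit 0) (BT.br (nat_lit 0) (nat_lit 10) [nat_lit 9] (BT.kid (nat_lit 10) (nat_lit 1) (BT.one (nat_lit 3) (nat_lit 0x423f4245402f360711010f06) (nat_lit 0x423f4245402f360711010f06) [nat_lit 0, nat_lit 2, nat_lit 5, nat_lit 8, nat_lit 10, nat_lit 14, nat_lit 13, nat_lit 18]) BT.nil))) BT.nil)))) BT.nil)))))))))) BT.nil))))) BT.nil)))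

theorem nt_c6_cnt : Cnt 100 (grp 100 EG) [t_g145] [t_g145] 0 0 0 0 7680 :=
  BT.sound nt_c6_cnt_P Known.nil (t := nt_c6_cnt_t) (d := 0) (by decide +kernel)

theorem nt_c6_ge : 7680 ≤ Nat.card (grp 100 nt_c6_K) :=
  Ch.le_card_grp (k := 7) (L := (lab 100 7)) t_hn nt_c6_K_ok (c := (Ch.cons (nat_lit 98) [nat_lit 1] (Ch.cons (nat_lit 71) [nat_lit 3] (Ch.cons (nat_lit 78) [nat_lit 5] (Ch.cons (nat_lit 31) [nat_lit 7] (Ch.cons (nat_lit 10) [nat_lit 9] Ch.nil)))))) (by decide +kernel)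

theorem nt_c6_eq : (grp 100 EG) ⊓ Subgroup.centralizer {Net.toPerm 100 t_g145} = grp 100 nt_c6_K :=
  cent_eq nt_c6_sym nt_c6_cnt nt_c6_ge

theorem nt_c6_card : Nat.card ↥((grp 100 EG) ⊓ Subgroup.centralizer {Net.toPerm 100 t_g145}) = 7680 :=
  card_cent nt_c6_sym nt_c6_cnt nt_c6_ge

theorem nt_c6_ord : orderOf (Net.toPerm 100 t_g145) = 4 :=
  orderOf_net t_hn t_hk t_g145_ok (by decide) (ps := [2]) (by set_option linter.unusedSimpArgs false in simp [Nat.primeFactorsList_ofNat]) (by decide +kernel)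

theorem t_le168 : grp 100 nt_c7_K ≤ grp 100 lb_E :=
  grp_le_of_memB t_hn t_hk lb_E_ok nt_c7_K_ok (ws := [nat_lit 0x31252b0b1a080305, nat_lit 0x312f251913180f110c21070d080408, nat_lit 0x251f19130f0e1207110527, nat_lit 0x312f252b1f130b0b0510, nat_lit 0x1f19170f0c070a]) (by decide +kernel)

theorem nt_c7_le : grp 100 nt_c7_K ≤ (grp 100 EG) :=
  (t_le168.trans T_s0.le)

theorem nt_c7_mem : Net.toPerm 100 t_g162 ∈ (grp 100 EG) :=
  nt_c7_le (mem_grp_of_memB t_hn t_hk nt_c7_K_ok t_g162_ok (w := (nat_lit 0x80503010301)) (by decide +kernel))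

theorem nt_c7_sym : Sym 100 (grp 100 EG) [t_g162] nt_c7_K 0 :=
  Sym.of_lab t_hn t_hk (okE_cons.2 ⟨t_g162_ok, okE_nil _⟩) nt_c7_K_ok nt_c7_le (kT := 0) (by decide +kernel)

theorem t_le172 : grp 100 t_V171 ≤ grp 100 t_V97 :=
  grp_le_of_memB t_hn t_hk t_V97_ok t_V171_ok (ws := [nat_lit 0xb0d0905030103, nat_lit 0x709040103, nat_lit 0xb07090504]) (by decide +kernel)

theorem T_s41 : Stab 100 (grp 100 EG) [nat_lit 90, nat_lit 1, nat_lit 2, nat_lit 89, nat_lit 0] t_V171 16 :=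
  Stab.step (k := 7) (L := (lab 100 7)) t_hn T_s17 t_V171_ok t_le172 (c := (Ch.cons (nat_lit 93) [nat_lit 1] (Ch.cons (nat_lit 21) [nat_lit 3] (Ch.cons (nat_lit 58) [nat_lit 5] Ch.nil)))) (by decide +kernel)

theorem T_s42 : Stab 100 (grp 100 EG) [nat_lit 93, nat_lit 90, nat_lit 1, nat_lit 2, nat_lit 89, nat_lit 0] t_V173 4 :=
  Stab.step (k := 7) (L := (lab 100 7)) t_hn T_s41 t_V173_ok (grp_mono (List.subset_append_right [t_g169] _)) (c := (Ch.cons (nat_lit 21) [nat_lit 1] (Ch.cons (nat_lit 58) [nat_lit 3] Ch.nil))) (by decide +kernel)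

theorem T_s43 : Stab 100 (grp 100 EG) [nat_lit 21, nat_lit 93, nat_lit 90, nat_lit 1, nat_lit 2, nat_lit 89, nat_lit 0] t_V174 2 :=
  Stab.step (k := 7) (L := (lab 100 7)) t_hn T_s42 t_V174_ok (grp_mono (List.subset_append_right [t_g137] _)) (c := (Ch.cons (nat_lit 58) [nat_lit 1] Ch.nil)) (by decide +kernel)

theorem T_s44 : Stab 100 (grp 100 EG) [nat_lit 58, nat_lit 21, nat_lit 93, nat_lit 90, nat_lit 1, nat_lit 2, nat_lit 89, nat_lit 0] t_V175 1 :=
  Stab.step (k := 7) (L := (lab 100 7)) t_hn T_s43 t_V175_ok (grp_mono (List.subset_append_right [t_g170] _)) (c := Ch.nil) (by decide +kernel)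

theorem t_g170_T : Net.toPerm 100 t_g170 ∈ (grp 100 EG) :=
  T_s42.le (toPerm_mem_grp (E := t_V173) (List.Mem.tail _ (List.Mem.head _)))

theorem t_g169_T : Net.toPerm 100 t_g169 ∈ (grp 100 EG) :=
  T_s41.le (toPerm_mem_grp (E := t_V171) (List.Mem.head _))

noncomputable def T_s44_O : ℕ := (nat_lit 0x3333266666ccccd99999333321f07c1f03e0f83e0f83e0f83ee63398c67319ce63398c673184db24d926c93649b64db26d9200000000000000000000000010020000000000000000000000000000000000000000000000400000000000000000000000020040000000000000000000000020000000000000000000000000000000000000000002000000000000000400000000000000)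

theorem T_s44_F : Frame 100 (grp 100 EG) 8 12 T_s44_O 1 1 :=
  IsBase.frame T_s44.isBase (by decide +kernel)

noncomputable def T_s43_O : ℕ := (nat_lit 0x8000000000000000000000000400000000000000000000000000080000000000000000000000004000000000000000000000000040000000000000000000000000200000000000000000000000000400000000000000000000000008000000000000000000000000040000000000000000000000000200000000000000000000000002000000000000000000000000020000000000000000000000000800000000000000000000000010000000000000000000000000020000000000000000000000000800000000000000000000000020000000000000000000000001000000000000000000000000080000000000000000000000002000000000000000000000000004000000000000000000000000100000000000000000000000000100008000080000000000000000000000000220000000000000000000020000800000000000000000020000010000000000000000000000100800000000000000000001000040000000000000000008000001000000000000000000000010040000000000000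00000000020080000000000000000000040004000000000000000000200000008000000000000001000000000200000000000001000000000008000000000000008000000000400000000000100000000000010000000000000000000000200400000000000000000000100001000000000000000000800000080000000080000000000000001000000100000000000000000080000000000000000100000000800000400000000000000000040000000000000000040000002000000000000000000000400100000000004000000000000008000000000080000000000000400000000000000000000040020000000000000000000000000c000000001000000000000000200010000000000000000000010020000000000000000000000800000000000000000002000040000000000000001000000002000000000000000400000000100000000000000000000000001002000000000000000000000000000000000000000000000040000000000000000000000002004000000000000000000000002000000000000000000000000000000000000000000200000)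

theorem T_s43_F : Frame 100 (grp 100 EG) 7 64 T_s43_O 0 1 :=
  Stab.frame t_hn T_s43 (by decide +kernel)

noncomputable def T_s41_O : ℕ := (nat_lit 0x80000000080000800000000000000000000080000002000000000000008000000000002000000000000000100000000000800000000000000000000000001200000000000000400000000000001000000004000000000000000000802000000000010000101000000000000000010800200080000000008000000040400002000000002040080000000000080000100000100800000000000100200402000000000000000008000000000800000100002000200000001000000040000000210101000026000400100080000000000020020280828004000000402100011040020000040000408040000400010000300004000000000000000000000000010020000000000000000000000000000000000000000000000400000000000000000000000020040000000000000000000000)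

theorem T_s41_F : Frame 100 (grp 100 EG) 5 25 T_s41_O 0 1 :=
  Stab.frame t_hn T_s41 (by decide +kernel)

noncomputable def T_s16_O : ℕ := (nat_lit 0x1000400000008000001002121000026001580121098000024061200910400300002400a000002c600a028486920428008000000000000000000000000100200000000000000000000000000000000000000000000004)

theorem T_s16_F : Frame 100 (grp 100 EG) 3 7 T_s16_O 0 1 :=
  Stab.frame t_hn T_s16 (by decide +kernel)

noncomputable def nt_c7_cnt_L : List ℕ := [1, 2, T_s1_O, 0, 0, 3, 7, T_s16_O, 0, 0, 5, 25, T_s41_O, 0, 0, 7, 64, T_s43_O, 0, 0, 8, 12, T_s44_O, 1, 0]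

theorem nt_c7_cnt_P : Prob 100 7 (grp 100 EG) nt_c7_cnt_EG [t_g162] [t_g162] nt_c7_K nt_c7_cnt_L 0 0 :=
  Sym.prob t_hn t_hk nt_c7_sym nt_c7_cnt_EG_ok (grp_cons_le MpHS.a_T (grp_cons_le HSM.g1_T (grp_cons_le HSM.g2_T (grp_cons_le t_g1_T (grp_cons_le t_g2_T (grp_cons_le t_g5_T (grp_cons_le t_g6_T (grp_cons_le t_g9_T (grp_cons_le t_g10_T (grp_cons_le t_g13_T (grp_cons_le t_g14_T (grp_cons_le t_g15_T (grp_cons_le t_g18_T (grp_cons_le t_g19_T (grp_cons_le t_g20_T (grp_cons_le t_g23_T (grp_cons_le t_g24_T (grp_cons_le t_g25_T (grp_cons_le t_g28_T (grp_cons_le t_g29_T (grp_cons_le t_g30_T (grp_cons_le t_g31_T (grp_cons_le t_g34_T (grp_cons_le t_g86_T (grp_cons_le t_g87_T (grp_cons_le t_g88_T (grp_cons_le t_g89_T (grp_cons_le t_g90_T (grp_cons_le t_g91_T (grp_cons_le t_g92_T (grp_cons_le t_g93_T (grp_cons_le t_g137_T (grp_cons_le t_g170_T (grp_cons_le t_g169_T (grp_nil_le _))))))))))))))))))))))))))))))))))) (Frames.cons T_s1_F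 (Frames.cons T_s16_F (Frames.cons T_s41_F (Frames.cons T_s43_F (Frames.cons T_s44_F Frames.nil))))) (okE_cons.2 ⟨t_g162_ok, okE_nil _⟩) _

noncomputable def nt_c7_cnt_t : BT := (BT.fix (nat_lit 257) (BT.fix (nat_lit 1) (BT.dif (nat_lit 1) (nat_lit 0) (BT.br (nat_lit 0) (nat_lit 98) [nat_lit 1, nat_lit 3] (BT.kid (nat_lit 98) (nat_lit 64) (BT.frm (nat_lit 0) (nat_lit 69382) (nat_lit 69382) [nat_lit 0] (BT.pln (nat_lit 0) (nat_lit 1) (BT.and (nat_lit 3) (nat_lit 0) (BT.br (nat_lit 0) (nat_lit 57) [nat_lit 3] (BT.kid (nat_lit 57) (nat_lit 16) (BT.dif (nat_lit 5) (nat_lit 2) (BT.dif (nat_lit 0) (nat_lit 5) (BT.img (nat_lit 1) (nat_lit 6) (BT.dif (nat_lit 1) (nat_lit 0) (BT.frm (nat_lit 1) (nat_lit 0x2f320719010f06) (nat_lit 0x2f320719010f06) [nat_lit 4, nat_lit 1, nat_lit 8] (BT.pln (nat_lit 0) (nat_lit 3) (BT.dif (nat_lit 2) (nat_lit 0) (BT.br (nat_lit 0) (nat_lit 82) [nat_lit 5] (BT.kid (nat_lit 82) (nat_lit 8) (BT.dif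 (nat_lit 10) (nat_lit 15) (BT.img (nat_lit 1) (nat_lit 9) (BT.frm (nat_lit 2) (nat_lit 0x363831362f320719010f06) (nat_lit 0x363831362f320719010f06) [nat_lit 2, nat_lit 0, nat_lit 10, nat_lit 7, nat_lit 14] (BT.pln (nat_lit 0) (nat_lit 16) (BT.and (nat_lit 3) (nat_lit 0) (BT.br (nat_lit 0) (nat_lit 63) [nat_lit 7] (BT.kid (nat_lit 63) (nat_lit 2) (BT.img (nat_lit 1) (nat_lit 0) (BT.frm (nat_lit 3) (nat_lit 0x3f363831362f320719010f06) (nat_lit 0x3f363831362f320719010f06) [nat_lit 0, nat_lit 1, nat_lit 7, nat_lit 5, nat_lit 15, nat_lit 12, nat_lit 19] (BT.pln (nat_lit 0) (nat_lit 35) (BT.br (nat_lit 0) (nat_lit 2) [nat_lit 9] (BT.kid (nat_lit 2) (nat_lit 1) (BT.one (nat_lit 4) (nat_lit 0x3f363831362f320719010f06) (nat_lit 0x3f363831362f320719010f06) [nat_lit 0, nat_lit 3, nat_lit 4, nat_lit 10, nat_lit 8, nat_lit 18, nat_lit 15, nat_lit 22]) BT.nil))))) BT.nil))))))) BT.nil))))))))) BT.nil))))) BT.nil)))))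

theorem nt_c7_cnt : Cnt 100 (grp 100 EG) [t_g162] [t_g162] 0 0 0 0 640 :=
  BT.sound nt_c7_cnt_P Known.nil (t := nt_c7_cnt_t) (d := 0) (by decide +kernel)

theorem nt_c7_ge : 640 ≤ Nat.card (grp 100 nt_c7_K) :=
  Ch.le_card_grp (k := 7) (L := (lab 100 7)) t_hn nt_c7_K_ok (c := (Ch.cons (nat_lit 98) [nat_lit 1] (Ch.cons (nat_lit 57) [nat_lit 3] (Ch.cons (nat_lit 82) [nat_lit 5] (Ch.cons (nat_lit 63) [nat_lit 7] (Ch.cons (nat_lit 2) [nat_lit 9] Ch.nil)))))) (by decide +kernel)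

theorem nt_c7_eq : (grp 100 EG) ⊓ Subgroup.centralizer {Net.toPerm 100 t_g162} = grp 100 nt_c7_K :=
  cent_eq nt_c7_sym nt_c7_cnt nt_c7_ge

theorem nt_c7_card : Nat.card ↥((grp 100 EG) ⊓ Subgroup.centralizer {Net.toPerm 100 t_g162}) = 640 :=
  card_cent nt_c7_sym nt_c7_cnt nt_c7_ge

theorem nt_c7_ord : orderOf (Net.toPerm 100 t_g162) = 4 :=
  orderOf_net t_hn t_hk t_g162_ok (by decide) (ps := [2]) (by set_option linter.unusedSimpArgs false in simp [Nat.primeFactorsList_ofNat]) (by decide +kernel)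

theorem t_le182 : grp 100 nt_c8_K ≤ grp 100 lb_E :=
  grp_le_of_memB t_hn t_hk lb_E_ok nt_c8_K_ok (ws := [nat_lit 0x2f190f0b0d09010709, nat_lit 0x2f2b1f1a0f110b0e0707020217, nat_lit 0x312f0f0f0b0f010322, nat_lit 0x2b1a170f0f0d110611, nat_lit 0x2b1a13180b1a0611]) (by decide +kernel)

theorem nt_c8_le : grp 100 nt_c8_K ≤ (grp 100 EG) :=
  (t_le182.trans T_s0.le)

theorem nt_c8_mem : Net.toPerm 100 t_g176 ∈ (grp 100 EG) :=
  nt_c8_le (mem_grp_of_memB t_hn t_hk nt_c8_K_ok t_g176_ok (w := (nat_lit 0x3010301)) (by decide +kernel))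

theorem nt_c8_sym : Sym 100 (grp 100 EG) [t_g176] nt_c8_K 0 :=
  Sym.of_lab t_hn t_hk (okE_cons.2 ⟨t_g176_ok, okE_nil _⟩) nt_c8_K_ok nt_c8_le (kT := 0) (by decide +kernel)

theorem t_le184 : grp 100 t_V183 ≤ grp 100 t_V173 :=
  grp_le_of_memB t_hn t_hk t_V173_ok t_V183_ok (ws := [nat_lit 769]) (by decide +kernel)

theorem T_s45 : Stab 100 (grp 100 EG) [nat_lit 40, nat_lit 93, nat_lit 90, nat_lit 1, nat_lit 2, nat_lit 89, nat_lit 0] t_V183 2 :=
  Stab.step (k := 7) (L := (lab 100 7)) t_hn T_s42 t_V183_ok t_le184 (c := (Ch.cons (nat_lit 83) [nat_lit 1] Ch.nil)) (by decide +kernel)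

theorem T_s46 : Stab 100 (grp 100 EG) [nat_lit 83, nat_lit 40, nat_lit 93, nat_lit 90, nat_lit 1, nat_lit 2, nat_lit 89, nat_lit 0] t_V185 1 :=
  Stab.step (k := 7) (L := (lab 100 7)) t_hn T_s45 t_V185_ok (grp_mono (List.subset_append_right [t_g30] _)) (c := Ch.nil) (by decide +kernel)

noncomputable def T_s46_O : ℕ := (nat_lit 0x3333266666ccccd99999333321f07c1f03e0f83e0f83e0f83ee63398c67319ce63398c673184db24d926c93649b64db26d9200000000000000000000000010020000000000000000000000000000000000000000000000400000000000000000000000020040000000000000000000000020000000000000000000000000000000000000100000000000000800000000000000000000)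

theorem T_s46_F : Frame 100 (grp 100 EG) 8 12 T_s46_O 1 1 :=
  IsBase.frame T_s46.isBase (by decide +kernel)

noncomputable def T_s45_O : ℕ := (nat_lit 0x8000000000000000000000000000400000000000000000000000000400000000000000000000000020000000000000000000000000000001000000000000000000000000020000000000000000000000000000100000000000000000000000008000000000000000000000000200000000000000000000000000100000000000000000000000008000000000000000000000000000200000000000000000000000008040010000000000000000000000008100000000000000000000800008000000000000000000000020400000000000000000010000000200000000000000004000000004000000000000000000000200200000000000000000000000110000000000000000000000100800000000000000000800000020000000000000000000000005000000000000000002000000040000000000000001000000000400000000000000000008000002000000000000000400000000100000000000000000000000808000000000000000010000000400000000000001000000000008000000000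0000080000000004000000000000000004000000100000000000000000000000028000000000000000000000800200000000000000000008000004000000000000000000010000100000000080000000000000002000000000000020000000000080000000000000000200000004000000000000080000000000200000000000000000002000004000000000000000004000000200000000000000000000008010000000000000800000000000800000000000000000004000040000000000400000000000001000000000000000000000400080000000000000000000000024000100000000000000000000100200000000000000000000008000000000000000000010000400000000000000000000000001002000000000000000000000000000000000000000000000040000000000000000000000002004000000000000000000000002000000000000000000000000000000000000010000000000)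

theorem T_s45_F : Frame 100 (grp 100 EG) 7 59 T_s45_O 0 1 :=
  Stab.frame t_hn T_s45 (by decide +kernel)

noncomputable def nt_c8_cnt_L : List ℕ := [1, 2, T_s1_O, 0, 0, 3, 7, T_s16_O, 0, 0, 5, 25, T_s41_O, 0, 0, 7, 59, T_s45_O, 0, 0, 8, 12, T_s46_O, 1, 0]

theorem nt_c8_cnt_P : Prob 100 7 (grp 100 EG) nt_c8_cnt_EG [t_g176] [t_g176] nt_c8_K nt_c8_cnt_L 0 0 :=
  Sym.prob t_hn t_hk nt_c8_sym nt_c8_cnt_EG_ok (grp_cons_le MpHS.a_T (grp_cons_le HSM.g1_T (grp_cons_le HSM.g2_T (grp_cons_le t_g1_T (grp_cons_le t_g2_T (grp_cons_le t_g5_T (grp_cons_le t_g6_T (grp_cons_le t_g9_T (grp_cons_le t_g10_T (grp_cons_le t_g13_T (grp_cons_le t_g14_T (grp_cons_le t_g15_T (grp_cons_le t_g18_T (grp_cons_le t_g19_T (grp_cons_le t_g20_T (grp_cons_le t_g23_T (grp_cons_le t_g24_T (grp_cons_le t_g25_T (grp_cons_le t_g28_T (grp_cons_le t_g29_T (grp_cons_le t_g30_T (grp_cons_le t_g31_T (grp_cons_le t_g34_T (grp_cons_le t_g86_T (grp_cons_le t_g87_T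 (grp_cons_le t_g88_T (grp_cons_le t_g89_T (grp_cons_le t_g90_T (grp_cons_le t_g91_T (grp_cons_le t_g92_T (grp_cons_le t_g93_T (grp_cons_le t_g137_T (grp_cons_le t_g170_T (grp_cons_le t_g169_T (grp_nil_le _))))))))))))))))))))))))))))))))))) (Frames.cons T_s1_F (Frames.cons T_s16_F (Frames.cons T_s41_F (Frames.cons T_s45_F (Frames.cons T_s46_F Frames.nil))))) (okE_cons.2 ⟨t_g176_ok, okE_nil _⟩) _

noncomputable def nt_c8_cnt_t : BT := (BT.fix (nat_lit 257) (BT.fix (nat_lit 1) (BT.dif (nat_lit 1) (nat_lit 0) (BT.br (nat_lit 0) (nat_lit 86) [nat_lit 1, nat_lit 3] (BT.dead (nat_lit 76) (BT.frm (nat_lit 0) (nat_lit 1294) (nat_lit 1557) [nat_lit 0] (BT.pln (nat_lit 0) (nat_lit 1) (BT.and (nat_lit 0) (nat_lit 4) (BT.cnt (nat_lit 0))))) (BT.kid (nat_lit 86) (nat_lit 64) (BT.frm (nat_lit 0) (nat_lit 1294) (nat_lit 1294) [nat_lit 0] (BT.pln (nat_lit 0) (nat_lit 1) (BT.and (nat_lit 3) (nat_lit 0) (BT.br (nat_lit 0) (nat_lit 71)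 [nat_lit 3] (BT.kid (nat_lit 71) (nat_lit 32) (BT.dif (nat_lit 5) (nat_lit 2) (BT.dif (nat_lit 0) (nat_lit 5) (BT.img (nat_lit 1) (nat_lit 6) (BT.dif (nat_lit 1) (nat_lit 0) (BT.frm (nat_lit 1) (nat_lit 0x3033090e050e) (nat_lit 0x3033090e050e) [nat_lit 4, nat_lit 1, nat_lit 8] (BT.pln (nat_lit 0) (nat_lit 3) (BT.dif (nat_lit 2) (nat_lit 0) (BT.br (nat_lit 0) (nat_lit 62) [nat_lit 5] (BT.kid (nat_lit 62) (nat_lit 8) (BT.dif (nat_lit 10) (nat_lit 15) (BT.and (nat_lit 11) (nat_lit 16) (BT.dif (nat_lit 0) (nat_lit 16) (BT.dif (nat_lit 0) (nat_lit 11) (BT.frm (nat_lit 2) (nat_lit 0x333531313033090e050e) (nat_lit 0x333531313033090e050e) [nat_lit 4, nat_lit 0, nat_lit 12, nat_lit 9, nat_lit 16] (BT.pln (nat_lit 0) (nat_lit 16) (BT.and (nat_lit 5) (nat_lit 0) (BT.br (nat_lit 0) (nat_lit 38) [nat_lit 7] (BT.kid (nat_lit 38) (nat_lit 2) (BT.dif (nat_lit 26) (nat_lit 18) (BT.dif (nat_lit 0) (nat_lit 11) (BT.pln (nat_lit 13) (nat_lit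 4) (BT.dif (nat_lit 1) (nat_lit 0) (BT.dif (nat_lit 0) (nat_lit 27) (BT.img (nat_lit 1) (nat_lit 5) (BT.frm (nat_lit 3) (nat_lit 0x43333531313033090e050e) (nat_lit 0x43333531313033090e050e) [nat_lit 0, nat_lit 6, nat_lit 14, nat_lit 10, nat_lit 22, nat_lit 19, nat_lit 26] (BT.pln (nat_lit 0) (nat_lit 44) (BT.and (nat_lit 3) (nat_lit 0) (BT.br (nat_lit 0) (nat_lit 31) [nat_lit 9] (BT.kid (nat_lit 31) (nat_lit 1) (BT.one (nat_lit 4) (nat_lit 0x2943333531313033090e050e) (nat_lit 0x2943333531313033090e050e) [nat_lit 0, nat_lit 4, nat_lit 10, nat_lit 18, nat_lit 14, nat_lit 26, nat_lit 23, nat_lit 30]) BT.nil))))))))))) BT.nil))))))))) BT.nil))))))))) BT.nil))))) BT.nil))))))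

theorem nt_c8_cnt : Cnt 100 (grp 100 EG) [t_g176] [t_g176] 0 0 0 0 512 :=
  BT.sound nt_c8_cnt_P Known.nil (t := nt_c8_cnt_t) (d := 0) (by decide +kernel)

theorem nt_c8_ge : 512 ≤ Nat.card (grp 100 nt_c8_K) :=
  Ch.le_card_grp (k := 7) (L := (lab 100 7)) t_hn nt_c8_K_ok (c := (Ch.cons (nat_lit 86) [nat_lit 1] (Ch.cons (nat_lit 71) [nat_lit 3] (Ch.cons (nat_lit 62) [nat_lit 5] (Ch.cons (nat_lit 38) [nat_lit 7] (Ch.cons (nat_lit 31) [nat_lit 9] Ch.nil)))))) (by decide +kernel)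

theorem nt_c8_eq : (grp 100 EG) ⊓ Subgroup.centralizer {Net.toPerm 100 t_g176} = grp 100 nt_c8_K :=
  cent_eq nt_c8_sym nt_c8_cnt nt_c8_ge

theorem nt_c8_card : Nat.card ↥((grp 100 EG) ⊓ Subgroup.centralizer {Net.toPerm 100 t_g176}) = 512 :=
  card_cent nt_c8_sym nt_c8_cnt nt_c8_ge

theorem nt_c8_ord : orderOf (Net.toPerm 100 t_g176) = 4 :=
  orderOf_net t_hn t_hk t_g176_ok (by decide) (ps := [2]) (by set_option linter.unusedSimpArgs false in simp [Nat.primeFactorsList_ofNat]) (by decide +kernel)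

theorem t_le191 : grp 100 nt_c9_K ≤ grp 100 lb_E :=
  grp_le_of_memB t_hn t_hk lb_E_ok nt_c9_K_ok (ws := [nat_lit 0x2f2b190b12020217, nat_lit 0x2f130f110c0f020214, nat_lit 0x190d080216, nat_lit 0x1913180b150707010313, nat_lit 0x312f2b19130f0c0f0818]) (by decide +kernel)

theorem nt_c9_le : grp 100 nt_c9_K ≤ (grp 100 EG) :=
  (t_le191.trans T_s0.le)

theorem nt_c9_mem : Net.toPerm 100 t_g186 ∈ (grp 100 EG) :=
  nt_c9_le (toPerm_mem_grp (E := nt_c9_K) (List.Mem.tail _ (List.Mem.head _)))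

theorem nt_c9_sym : Sym 100 (grp 100 EG) [t_g186] nt_c9_K 0 :=
  Sym.of_lab t_hn t_hk (okE_cons.2 ⟨t_g186_ok, okE_nil _⟩) nt_c9_K_ok nt_c9_le (kT := 0) (by decide +kernel)

theorem t_le196 : grp 100 t_V195 ≤ grp 100 t_V140 :=
  grp_le_of_memB t_hn t_hk t_V140_ok t_V195_ok (ws := [nat_lit 460033, nat_lit 0x706010103, nat_lit 460290]) (by decide +kernel)

theorem T_s47 : Stab 100 (grp 100 EG) [nat_lit 80, nat_lit 7, nat_lit 93, nat_lit 89, nat_lit 0] t_V195 12 :=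
  Stab.step (k := 7) (L := (lab 100 7)) t_hn T_s31 t_V195_ok t_le196 (c := (Ch.cons (nat_lit 65) [nat_lit 1] (Ch.cons (nat_lit 63) [nat_lit 3] (Ch.cons (nat_lit 71) [nat_lit 5] Ch.nil)))) (by decide +kernel)

theorem T_s48 : Stab 100 (grp 100 EG) [nat_lit 65, nat_lit 80, nat_lit 7, nat_lit 93, nat_lit 89, nat_lit 0] t_V197 6 :=
  Stab.step (k := 7) (L := (lab 100 7)) t_hn T_s47 t_V197_ok (grp_mono (List.subset_append_right [t_g192] _)) (c := (Ch.cons (nat_lit 63) [nat_lit 1] (Ch.cons (nat_lit 71) [nat_lit 3] Ch.nil))) (by decide +kernel)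

theorem T_s49 : Stab 100 (grp 100 EG) [nat_lit 63, nat_lit 65, nat_lit 80, nat_lit 7, nat_lit 93, nat_lit 89, nat_lit 0] t_V198 2 :=
  Stab.step (k := 7) (L := (lab 100 7)) t_hn T_s48 t_V198_ok (grp_mono (List.subset_append_right [t_g193] _)) (c := (Ch.cons (nat_lit 71) [nat_lit 1] Ch.nil)) (by decide +kernel)

theorem T_s50 : Stab 100 (grp 100 EG) [nat_lit 71, nat_lit 63, nat_lit 65, nat_lit 80, nat_lit 7, nat_lit 93, nat_lit 89, nat_lit 0] t_V199 1 :=
  Stab.step (k := 7) (L := (lab 100 7)) t_hn T_s49 t_V199_ok (grp_mono (List.subset_append_right [t_g194] _)) (c := Ch.nil) (by decide +kernel)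

theorem t_g194_T : Net.toPerm 100 t_g194 ∈ (grp 100 EG) :=
  T_s49.le (toPerm_mem_grp (E := t_V198) (List.Mem.head _))

theorem t_g193_T : Net.toPerm 100 t_g193 ∈ (grp 100 EG) :=
  T_s48.le (toPerm_mem_grp (E := t_V197) (List.Mem.head _))

theorem t_g192_T : Net.toPerm 100 t_g192 ∈ (grp 100 EG) :=
  T_s47.le (toPerm_mem_grp (E := t_V195) (List.Mem.head _))

noncomputable def T_s50_O : ℕ := (nat_lit 0x3333266666ccccd99999333321f07c1f03e0f83e0f83e0f83ee63398c67319ce63398c673184db24d926c93649b64db26d9200000000000000000000000010020000000000000000000000020000000000000000000000000000000000000000000000800000100000000000000000000000000002000000000000000000000000080000000000000000000000800000000000000000)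

theorem T_s50_F : Frame 100 (grp 100 EG) 8 12 T_s50_O 1 1 :=
  IsBase.frame T_s50.isBase (by decide +kernel)

noncomputable def T_s47_O : ℕ := (nat_lit 0x10000000000000000020000800000000000000000000000002000000002040000040000800000000000000010000000011000000000000000088000000010000000000000000008080000000020000000000000000004000200800000000002000004000000020000004000000000000100000400000000000000000000000020840200600009100000000000000001400100001000040200000000008000000008040c0100000010000002400000000101800000800240000800000004004000008000010200208000000200000000020042000020000102008000400000420000000400100000100040000000800000100600000000000000000000000010020000000000000000000000020000000000000000000000000000000000000000000000800000100000000000000000000)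

theorem T_s47_F : Frame 100 (grp 100 EG) 5 25 T_s47_O 0 1 :=
  Stab.frame t_hn T_s47 (by decide +kernel)

noncomputable def nt_c9_cnt_L : List ℕ := [1, 2, T_s1_O, 0, 0, 2, 5, T_s15_O, 0, 0, 3, 8, T_s30_O, 0, 0, 5, 25, T_s47_O, 0, 0, 8, 12, T_s50_O, 1, 0]

theorem nt_c9_cnt_P : Prob 100 7 (grp 100 EG) nt_c9_cnt_EG [t_g186] [t_g186] nt_c9_K nt_c9_cnt_L 0 0 :=
  Sym.prob t_hn t_hk nt_c9_sym nt_c9_cnt_EG_ok (grp_cons_le MpHS.a_T (grp_cons_le HSM.g1_T (grp_cons_le HSM.g2_T (grp_cons_le t_g1_T (grp_cons_le t_g2_T (grp_cons_le t_g5_T (grp_cons_le t_g6_T (grp_cons_le t_g9_T (grp_cons_le t_g10_T (grp_cons_le t_g13_T (grp_cons_le t_g14_T (grp_cons_le t_g15_T (grp_cons_le t_g18_T (grp_cons_le t_g19_T (grp_cons_le t_g20_T (grp_cons_le t_g23_T (grp_cons_le t_g24_T (grp_cons_le t_g25_T (grp_cons_le t_g28_T (grp_cons_le t_g29_T (grp_cons_le t_g30_T (grp_cons_le t_g31_T (grp_cons_le t_g34_T (grp_cons_le t_g86_T (grp_cons_le t_g87_T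 (grp_cons_le t_g88_T (grp_cons_le t_g89_T (grp_cons_le t_g90_T (grp_cons_le t_g91_T (grp_cons_le t_g92_T (grp_cons_le t_g93_T (grp_cons_le t_g134_T (grp_cons_le t_g135_T (grp_cons_le t_g136_T (grp_cons_le t_g137_T (grp_cons_le t_g133_T (grp_cons_le t_g194_T (grp_cons_le t_g193_T (grp_cons_le t_g192_T (grp_nil_le _)))))))))))))))))))))))))))))))))))))))) (Frames.cons T_s1_F (Frames.cons T_s15_F (Frames.cons T_s30_F (Frames.cons T_s47_F (Frames.cons T_s50_F Frames.nil))))) (okE_cons.2 ⟨t_g186_ok, okE_nil _⟩) _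

noncomputable def nt_c9_cnt_t : BT := (BT.fix (nat_lit 1) (BT.br (nat_lit 0) (nat_lit 87) [nat_lit 1] (BT.kid (nat_lit 87) (nat_lit 96) (BT.frm (nat_lit 0) (nat_lit 1301) (nat_lit 1301) [nat_lit 0] (BT.pln (nat_lit 0) (nat_lit 1) (BT.fix (nat_lit 257) (BT.dif (nat_lit 1) (nat_lit 0) (BT.br (nat_lit 0) (nat_lit 6) [nat_lit 5, nat_lit 7] (BT.kid (nat_lit 6) (nat_lit 6) (BT.dif (nat_lit 9) (nat_lit 3) (BT.dif (nat_lit 0) (nat_lit 3) (BT.dif (nat_lit 8) (nat_lit 7) (BT.frm (nat_lit 1) (nat_lit 0x70b220515) (nat_lit 0x70b220515) [nat_lit 0, nat_lit 8] (BT.pln (nat_lit 0) (nat_lit 2) (BT.dif (nat_lit 3) (nat_lit 0) (BT.frm (nat_lit 2) (nat_lit 0x30070b220515) (nat_lit 0x30070b220515) [nat_lit 6, nat_lit 3, nat_lit 11] (BT.pln (nat_lit 0) (nat_lit 3) (BT.dif (nat_lit 2) (nat_lit 0) (BT.pln (nat_lit 2) (nat_lit 7) (BT.img (nat_lit 1) (nat_lit 0) (BT.and (nat_lit 1) (nat_lit 0) (BT.img (nat_lit 1) (nat_lit 0) (BT.and (nat_lit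 8) (nat_lit 0) (BT.pln (nat_lit 7) (nat_lit 5) (BT.and (nat_lit 1) (nat_lit 0) (BT.img (nat_lit 1) (nat_lit 0) (BT.and (nat_lit 7) (nat_lit 0) (BT.frm (nat_lit 3) (nat_lit 0x484430070b220515) (nat_lit 0x484430070b220515) [nat_lit 0, nat_lit 2, nat_lit 18, nat_lit 15, nat_lit 23] (BT.pln (nat_lit 0) (nat_lit 18) (BT.and (nat_lit 11) (nat_lit 0) (BT.br (nat_lit 0) (nat_lit 33) [nat_lit 7] (BT.kid (nat_lit 33) (nat_lit 2) (BT.dif (nat_lit 2) (nat_lit 0) (BT.br (nat_lit 0) (nat_lit 41) [nat_lit 9] (BT.kid (nat_lit 41) (nat_lit 1) (BT.img (nat_lit 1) (nat_lit 24) (BT.img (nat_lit 1) (nat_lit 0) (BT.one (nat_lit 4) (nat_lit 0x4b4d484430070b220515) (nat_lit 0x4b4d484430070b220515) [nat_lit 2, nat_lit 4, nat_lit 0, nat_lit 8, nat_lit 10, nat_lit 26, nat_lit 23, nat_lit 31]))) BT.nil))) BT.nil))))))))))))))))))))))) BT.nil)))))) BT.nil)))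

theorem nt_c9_cnt : Cnt 100 (grp 100 EG) [t_g186] [t_g186] 0 0 0 0 192 :=
  BT.sound nt_c9_cnt_P Known.nil (t := nt_c9_cnt_t) (d := 0) (by decide +kernel)

theorem nt_c9_ge : 192 ≤ Nat.card (grp 100 nt_c9_K) :=
  Ch.le_card_grp (k := 7) (L := (lab 100 7)) t_hn nt_c9_K_ok (c := (Ch.cons (nat_lit 87) [nat_lit 1] (Ch.cons (nat_lit 6) [nat_lit 3, nat_lit 5] (Ch.cons (nat_lit 33) [nat_lit 7] (Ch.cons (nat_lit 41) [nat_lit 9] Ch.nil))))) (by decide +kernel)

theorem nt_c9_eq : (grp 100 EG) ⊓ Subgroup.centralizer {Net.toPerm 100 t_g186} = grp 100 nt_c9_K :=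
  cent_eq nt_c9_sym nt_c9_cnt nt_c9_ge

theorem nt_c9_card : Nat.card ↥((grp 100 EG) ⊓ Subgroup.centralizer {Net.toPerm 100 t_g186}) = 192 :=
  card_cent nt_c9_sym nt_c9_cnt nt_c9_ge

theorem nt_c9_ord : orderOf (Net.toPerm 100 t_g186) = 4 :=
  orderOf_net t_hn t_hk t_g186_ok (by decide) (ps := [2]) (by set_option linter.unusedSimpArgs false in simp [Nat.primeFactorsList_ofNat]) (by decide +kernel)

theorem t_le205 : grp 100 nt_c10_K ≤ grp 100 lb_E :=
  grp_le_of_memB t_hn t_hk lb_E_ok nt_c10_K_ok (ws := [nat_lit 0x2f251318100e120818010d, nat_lit 0x2f2b100b0f071206, nat_lit 0x31252b13180f110b11070d010a02, nat_lit 0x312f2b1f1913180f0b0f080e051d, nat_lit 0x312f1913180f110c070e0313]) (by decide +kernel)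

theorem nt_c10_le : grp 100 nt_c10_K ≤ (grp 100 EG) :=
  (t_le205.trans T_s0.le)

theorem nt_c10_mem : Net.toPerm 100 t_g200 ∈ (grp 100 EG) :=
  nt_c10_le (toPerm_mem_grp (E := nt_c10_K) (List.Mem.tail _ (List.Mem.head _)))

theorem nt_c10_sym : Sym 100 (grp 100 EG) [t_g200] nt_c10_K 0 :=
  Sym.of_lab t_hn t_hk (okE_cons.2 ⟨t_g200_ok, okE_nil _⟩) nt_c10_K_ok nt_c10_le (kT := 0) (by decide +kernel)

theorem t_le209 : grp 100 t_V208 ≤ grp 100 t_V99 :=
  grp_le_of_memB t_hn t_hk t_V99_ok t_V208_ok (ws := [nat_lit 1281, nat_lit 590597, nat_lit 773]) (by decide +kernel)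

theorem T_s51 : Stab 100 (grp 100 EG) [nat_lit 32, nat_lit 39, nat_lit 70, nat_lit 1, nat_lit 2, nat_lit 89, nat_lit 0] t_V208 8 :=
  Stab.step (k := 7) (L := (lab 100 7)) t_hn T_s19 t_V208_ok t_le209 (c := (Ch.cons (nat_lit 3) [nat_lit 1] (Ch.cons (nat_lit 99) [nat_lit 3] (Ch.cons (nat_lit 55) [nat_lit 5] Ch.nil)))) (by decide +kernel)

theorem T_s52 : Stab 100 (grp 100 EG) [nat_lit 3, nat_lit 32, nat_lit 39, nat_lit 70, nat_lit 1, nat_lit 2, nat_lit 89, nat_lit 0] t_V210 4 :=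
  Stab.step (k := 7) (L := (lab 100 7)) t_hn T_s51 t_V210_ok (grp_mono (List.subset_append_right [t_g206] _)) (c := (Ch.cons (nat_lit 99) [nat_lit 1] (Ch.cons (nat_lit 55) [nat_lit 3] Ch.nil))) (by decide +kernel)

theorem T_s53 : Stab 100 (grp 100 EG) [nat_lit 99, nat_lit 3, nat_lit 32, nat_lit 39, nat_lit 70, nat_lit 1, nat_lit 2, nat_lit 89, nat_lit 0] t_V211 2 :=
  Stab.step (k := 7) (L := (lab 100 7)) t_hn T_s52 t_V211_ok (grp_mono (List.subset_append_right [t_g207] _)) (c := (Ch.cons (nat_lit 55) [nat_lit 1] Ch.nil)) (by decide +kernel)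

theorem T_s54 : Stab 100 (grp 100 EG) [nat_lit 55, nat_lit 99, nat_lit 3, nat_lit 32, nat_lit 39, nat_lit 70, nat_lit 1, nat_lit 2, nat_lit 89, nat_lit 0] t_V212 1 :=
  Stab.step (k := 7) (L := (lab 100 7)) t_hn T_s53 t_V212_ok (grp_mono (List.subset_append_right [t_g54] _)) (c := Ch.nil) (by decide +kernel)

theorem t_g206_T : Net.toPerm 100 t_g206 ∈ (grp 100 EG) :=
  T_s51.le (toPerm_mem_grp (E := t_V208) (List.Mem.head _))

theorem t_g207_T : Net.toPerm 100 t_g207 ∈ (grp 100 EG) :=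
  T_s51.le (toPerm_mem_grp (E := t_V208) (List.Mem.tail _ (List.Mem.head _)))

noncomputable def T_s54_O : ℕ := (nat_lit 0x3333266666ccccd99999333321f07c1f03e0f83e0f83e0f83ee63398c67319ce63398c673184db24d926c93649b64db26d920000000000000000000000001002000000000000000000000000000000000000000000000040000000000000000000000002000000040000000000000000000000000000000080000000000000000000000000100000000000000000000000000000000880000000000000000000000000000000000080000000000000)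

theorem T_s54_F : Frame 100 (grp 100 EG) 10 14 T_s54_O 1 1 :=
  IsBase.frame T_s54.isBase (by decide +kernel)

noncomputable def T_s52_O : ℕ := (nat_lit 0x100000000000000000000000000400000000000000000000000000000000000020000000000000000000000000000100008000080000000000000000000008000000200000000000000000000080008000000000000080000000000020000000000000040000000000000080000000000000000000020004000000000000100000000000040000000000000000000000400010000000000000000000000800400000000000004000000000020000000800000000000000000800000000000010000000000040004001000110000000000000001010000020004000000000000000000000202800200000000000000000000018002100000000080400004000000001000000000000024000000100080000000000020000000808004000000200000000010000000180000000200000004002000004000000000840080000000000200000000200000000404000008000000000010000004000000030020000000800000000002000804000000000000100002000040000402000000001000000002000000000000000000000000010020000000000000000000000000000000000000000000000400000000000000000000000020000000400000000000000000000000000000000800000000000000000000000001000000000000000000000000000000008)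

theorem T_s52_F : Frame 100 (grp 100 EG) 8 39 T_s52_O 0 1 :=
  Stab.frame t_hn T_s52 (by decide +kernel)

noncomputable def T_s18_O : ℕ := (nat_lit 0x1000000000008000001000008040000400000000100000000000020000000808004000000000040000000000120000008000028400a02840600002800080080100006022004440120000840808800180000088004c004100001100800140002000350121000026001580121098000000000000000000000000000010020000000000000000000000000000000000000000000000400000000000000000000000020000000400000000000000000)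

theorem T_s18_F : Frame 100 (grp 100 EG) 5 14 T_s18_O 0 1 :=
  Stab.frame t_hn T_s18 (by decide +kernel)

noncomputable def T_s17_O : ℕ := (nat_lit 0x100040000000800000100000000400000000001200000081210000260015801210980000000028600a02848680042800024061200910400300002400a041804011048001400030003500000000000000000000000001002000000000000000000000000000000000000000000000040000000000000000000000002)

theorem T_s17_F : Frame 100 (grp 100 EG) 4 10 T_s17_O 0 1 :=
  Stab.frame t_hn T_s17 (by decide +kernel)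

noncomputable def nt_c10_cnt_L : List ℕ := [1, 2, T_s1_O, 0, 0, 4, 10, T_s17_O, 0, 0, 5, 14, T_s18_O, 0, 0, 8, 39, T_s52_O, 0, 0, 10, 14, T_s54_O, 1, 0]

theorem nt_c10_cnt_P : Prob 100 7 (grp 100 EG) nt_c10_cnt_EG [t_g200] [t_g200] nt_c10_K nt_c10_cnt_L 0 0 :=
  Sym.prob t_hn t_hk nt_c10_sym nt_c10_cnt_EG_ok (grp_cons_le MpHS.a_T (grp_cons_le HSM.g1_T (grp_cons_le HSM.g2_T (grp_cons_le t_g1_T (grp_cons_le t_g2_T (grp_cons_le t_g5_T (grp_cons_le t_g6_T (grp_cons_le t_g9_T (grp_cons_le t_g10_T (grp_cons_le t_g13_T (grp_cons_le t_g14_T (grp_cons_le t_g15_T (grp_cons_le t_g18_T (grp_cons_le t_g19_T (grp_cons_le t_g20_T (grp_cons_le t_g23_T (grp_cons_le t_g24_T (grp_cons_le t_g25_T (grp_cons_le t_g28_T (grp_cons_le t_g29_T (grp_cons_le t_g30_T (grp_cons_le t_g31_T (grp_cons_le t_g34_T (grp_cons_le t_g87_T (grp_cons_le t_g88_T (grp_cons_le t_g89_T (grp_cons_le t_g90_T (grp_cons_le t_g91_T (grp_cons_le t_g92_T (grp_cons_le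 t_g93_T (grp_cons_le t_g86_T (grp_cons_le t_g206_T (grp_cons_le t_g207_T (grp_cons_le t_g54_T (grp_nil_le _))))))))))))))))))))))))))))))))))) (Frames.cons T_s1_F (Frames.cons T_s17_F (Frames.cons T_s18_F (Frames.cons T_s52_F (Frames.cons T_s54_F Frames.nil))))) (okE_cons.2 ⟨t_g200_ok, okE_nil _⟩) _

noncomputable def nt_c10_cnt_t : BT := (BT.fix (nat_lit 1) (BT.br (nat_lit 0) (nat_lit 94) [nat_lit 1] (BT.kid (nat_lit 94) (nat_lit 32) (BT.frm (nat_lit 0) (nat_lit 1285) (nat_lit 1285) [nat_lit 0] (BT.pln (nat_lit 0) (nat_lit 1) (BT.fix (nat_lit 257) (BT.and (nat_lit 1) (nat_lit 0) (BT.dif (nat_lit 0) (nat_lit 5) (BT.br (nat_lit 0) (nat_lit 78) [nat_lit 3, nat_lit 5] (BT.kid (nat_lit 78) (nat_lit 8) (BT.and (nat_lit 3) (nat_lit 4) (BT.dif (nat_lit 0) (nat_lit 8) (BT.dif (nat_lit 0) (nat_lit 2) (BT.img (nat_lit 1) (nat_lit 3) (BT.dif (nat_lit 1) (nat_lit 0) (BT.br (nat_lit 0) (nat_lit 50) [] (BT.dead (nat_lit 61) (BT.dif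 (nat_lit 13) (nat_lit 12) (BT.dif (nat_lit 0) (nat_lit 11) (BT.frm (nat_lit 2) (nat_lit 0x31332f3d3007140505) (nat_lit 0x31342f3d3007140505) [nat_lit 2, nat_lit 4, nat_lit 8, nat_lit 0, nat_lit 14] (BT.pln (nat_lit 0) (nat_lit 6) (BT.and (nat_lit 0) (nat_lit 13) (BT.cnt (nat_lit 0))))))) (BT.kid (nat_lit 50) (nat_lit 8) (BT.dif (nat_lit 13) (nat_lit 12) (BT.dif (nat_lit 0) (nat_lit 11) (BT.frm (nat_lit 1) (nat_lit 0x2f3d3007140505) (nat_lit 0x2f3d3007140505) [nat_lit 4, nat_lit 8, nat_lit 0, nat_lit 14] (BT.pln (nat_lit 0) (nat_lit 8) (BT.br (nat_lit 0) (nat_lit 1) [nat_lit 7] (BT.kid (nat_lit 1) (nat_lit 2) (BT.dif (nat_lit 21) (nat_lit 15) (BT.dif (nat_lit 0) (nat_lit 15) (BT.img (nat_lit 1) (nat_lit 2) (BT.dif (nat_lit 16) (nat_lit 14) (BT.dif (nat_lit 0) (nat_lit 9) (BT.dif (nat_lit 0) (nat_lit 23) (BT.dif (nat_lit 0) (nat_lit 13) (BT.frm (nat_lit 3) (nat_lit 0x353331332f3d3007140505) (nat_lit 0x353331332f3d3007140505)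 [nat_lit 4, nat_lit 7, nat_lit 0, nat_lit 12, nat_lit 14, nat_lit 18, nat_lit 10, nat_lit 24] (BT.pln (nat_lit 0) (nat_lit 31) (BT.and (nat_lit 7) (nat_lit 0) (BT.br (nat_lit 0) (nat_lit 85) [nat_lit 9] (BT.kid (nat_lit 85) (nat_lit 1) (BT.img (nat_lit 1) (nat_lit 0) (BT.one (nat_lit 4) (nat_lit 0x43353331332f3d3007140505) (nat_lit 0x43353331332f3d3007140505) [nat_lit 0, nat_lit 1, nat_lit 9, nat_lit 12, nat_lit 5, nat_lit 17, nat_lit 19, nat_lit 23, nat_lit 15, nat_lit 29])) BT.nil)))))))))))) BT.nil)))))) BT.nil)))))))) BT.nil))))))) BT.nil)))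

theorem nt_c10_cnt : Cnt 100 (grp 100 EG) [t_g200] [t_g200] 0 0 0 0 128 :=
  BT.sound nt_c10_cnt_P Known.nil (t := nt_c10_cnt_t) (d := 0) (by decide +kernel)

theorem nt_c10_ge : 128 ≤ Nat.card (grp 100 nt_c10_K) :=
  Ch.le_card_grp (k := 7) (L := (lab 100 7)) t_hn nt_c10_K_ok (c := (Ch.cons (nat_lit 94) [nat_lit 1] (Ch.cons (nat_lit 78) [nat_lit 3, nat_lit 5] (Ch.cons (nat_lit 1) [nat_lit 7] (Ch.cons (nat_lit 85) [nat_lit 9] Ch.nil))))) (by decide +kernel)

theorem nt_c10_eq : (grp 100 EG) ⊓ Subgroup.centralizer {Net.toPerm 100 t_g200} = grp 100 nt_c10_K :=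
  cent_eq nt_c10_sym nt_c10_cnt nt_c10_ge

theorem nt_c10_card : Nat.card ↥((grp 100 EG) ⊓ Subgroup.centralizer {Net.toPerm 100 t_g200}) = 128 :=
  card_cent nt_c10_sym nt_c10_cnt nt_c10_ge

theorem nt_c10_ord : orderOf (Net.toPerm 100 t_g200) = 4 :=
  orderOf_net t_hn t_hk t_g200_ok (by decide) (ps := [2]) (by set_option linter.unusedSimpArgs false in simp [Nat.primeFactorsList_ofNat]) (by decide +kernel)

theorem t_le216 : grp 100 nt_c11_K ≤ grp 100 lb_E :=
  grp_le_of_memB t_hn t_hk lb_E_ok nt_c11_K_ok (ws := [nat_lit 0x1a13100b11070a05, nat_lit 0x312f251f19170f0e120a0b010d, nat_lit 0x312b1f170f0b0f0809]) (by decide +kernel)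

theorem nt_c11_le : grp 100 nt_c11_K ≤ (grp 100 EG) :=
  (t_le216.trans T_s0.le)

theorem nt_c11_mem : Net.toPerm 100 t_g213 ∈ (grp 100 EG) :=
  nt_c11_le (toPerm_mem_grp (E := nt_c11_K) (List.Mem.head _))

theorem nt_c11_sym : Sym 100 (grp 100 EG) [t_g213] nt_c11_K 0 :=
  Sym.of_lab t_hn t_hk (okE_cons.2 ⟨t_g213_ok, okE_nil _⟩) nt_c11_K_ok nt_c11_le (kT := 0) (by decide +kernel)

theorem t_le222 : grp 100 t_V221 ≤ grp 100 t_V50 :=
  grp_le_of_memB t_hn t_hk t_V50_ok t_V221_ok (ws := [nat_lit 0x2715050108, nat_lit 0x27250f090e050103, nat_lit 0x252110090507010b, nat_lit 0x2715100d0105]) (by decide +kernel)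

theorem T_s55 : Stab 100 (grp 100 EG) [nat_lit 40, nat_lit 1, nat_lit 0] t_V221 720 :=
  Stab.step (k := 7) (L := (lab 100 7)) t_hn T_s2 t_V221_ok t_le222 (c := (Ch.cons (nat_lit 81) [nat_lit 1] (Ch.cons (nat_lit 6) [nat_lit 3] (Ch.cons (nat_lit 91) [nat_lit 5] (Ch.cons (nat_lit 12) [nat_lit 7] Ch.nil))))) (by decide +kernel)

theorem T_s56 : Stab 100 (grp 100 EG) [nat_lit 81, nat_lit 40, nat_lit 1, nat_lit 0] t_V223 72 :=
  Stab.step (k := 7) (L := (lab 100 7)) t_hn T_s55 t_V223_ok (grp_mono (List.subset_append_right [t_g217] _)) (c := (Ch.cons (nat_lit 6) [nat_lit 1] (Ch.cons (nat_lit 91) [nat_lit 3] (Ch.cons (nat_lit 12) [nat_lit 5] Ch.nil)))) (by decide +kernel)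

theorem T_s57 : Stab 100 (grp 100 EG) [nat_lit 6, nat_lit 81, nat_lit 40, nat_lit 1, nat_lit 0] t_V224 12 :=
  Stab.step (k := 7) (L := (lab 100 7)) t_hn T_s56 t_V224_ok (grp_mono (List.subset_append_right [t_g218] _)) (c := (Ch.cons (nat_lit 91) [nat_lit 1] (Ch.cons (nat_lit 12) [nat_lit 3] Ch.nil))) (by decide +kernel)

theorem T_s58 : Stab 100 (grp 100 EG) [nat_lit 91, nat_lit 6, nat_lit 81, nat_lit 40, nat_lit 1, nat_lit 0] t_V225 2 :=
  Stab.step (k := 7) (L := (lab 100 7)) t_hn T_s57 t_V225_ok (grp_mono (List.subset_append_right [t_g219] _)) (c := (Ch.cons (nat_lit 12) [nat_lit 1] Ch.nil)) (by decide +kernel)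

theorem T_s59 : Stab 100 (grp 100 EG) [nat_lit 12, nat_lit 91, nat_lit 6, nat_lit 81, nat_lit 40, nat_lit 1, nat_lit 0] t_V226 1 :=
  Stab.step (k := 7) (L := (lab 100 7)) t_hn T_s58 t_V226_ok (grp_mono (List.subset_append_right [t_g220] _)) (c := Ch.nil) (by decide +kernel)

theorem t_g218_T : Net.toPerm 100 t_g218 ∈ (grp 100 EG) :=
  T_s56.le (toPerm_mem_grp (E := t_V223) (List.Mem.head _))

theorem t_g219_T : Net.toPerm 100 t_g219 ∈ (grp 100 EG) :=
  T_s56.le (toPerm_mem_grp (E := t_V223) (List.Mem.tail _ (List.Mem.head _)))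

theorem t_g220_T : Net.toPerm 100 t_g220 ∈ (grp 100 EG) :=
  T_s56.le (toPerm_mem_grp (E := t_V223) (List.Mem.tail _ (List.Mem.tail _ (List.Mem.head _))))

theorem t_g217_T : Net.toPerm 100 t_g217 ∈ (grp 100 EG) :=
  T_s55.le (toPerm_mem_grp (E := t_V221) (List.Mem.head _))

noncomputable def T_s59_O : ℕ := (nat_lit 0x3333266666ccccd99999333321f07c1f03e0f83e0f83e0f83ee63398c67319ce63398c673184db24d926c93649b64db26d920000000000000000000000001000000000000000000000000200000000000000100000000000000200000000000000000000000000000000000000000004000800000000000000000000000000000000000000000001000)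

theorem T_s59_F : Frame 100 (grp 100 EG) 7 11 T_s59_O 1 1 :=
  IsBase.frame T_s59.isBase (by decide +kernel)

noncomputable def T_s58_O : ℕ := (nat_lit 0x8000000000000000000000000100000000000000000000000008000000000000000000000000000001000000000000000000000000080000000000000000000000000040000000000000000000000000002000000000000000000000000100000000000000000000000004000000000000000000000000100000000000000000000000001000000000000000000000000001000000000000000000000000000400000000000000000000000010000420000000000000000000000800020000000000000000000000001800000000000000000004000020000000000000000000020001000000000000000000001000020000000000000000040000001000000000000000002000000002000000000000000000000000060000000000000000040000001000000000000000000000400010000000000000000000000008200000000000000000000000018000000000008000000000000400000000000000000008000020000000000000000400000001000000000000000000020000008000000000000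0000000040000800000000000000000000008008000000000000040000000000400000000000000004000000020000000000010000000000000800000000004000000000000020000000000000000000040001000000020000000000000000080000000000000080000000004000000000000000000020000200000100000000000000000008000000000000000200000000400000000000010000000000020000000000000000000400001000000000008000000000000080000000000000008000000004000000000004000000000000100000000000000000000000028000000080000000000000000080000000000000000000400002001000000000000000000000100000000000000000000000208000000000000000000000000100000000000000000000000020000000000000010000000000000020000000000000000000000000000000000000000000400080000000000000000000000)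

theorem T_s58_F : Frame 100 (grp 100 EG) 6 59 T_s58_O 0 1 :=
  Stab.frame t_hn T_s58 (by decide +kernel)

noncomputable def T_s57_O : ℕ := (nat_lit 0x100000000000000000000000400010000001000000000000000000080000000400000110000000000000000000400008001000000000000020001000000000100000000000000000000000600001000000000000000080004000040000000000040000000010001000000010000000000000800040000010000000000002000000040042018080000200000000000000000042001180800000000000000040000820800c000000002100002000040000009000008000000808000400000408000408040010000000000200010000088800000400008000000800800020000000020004200020010000000400000002000021800000000000000000000000010000000000000000000000002000000000000001000000000000002000000000000000000000000000000000000000000040)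

theorem T_s57_F : Frame 100 (grp 100 EG) 5 25 T_s57_O 0 1 :=
  Stab.frame t_hn T_s57 (by decide +kernel)

noncomputable def T_s55_O : ℕ := (nat_lit 0x2100002000040000009000000020001000000040101000040000020400008a0804c000400041804401048001000220003181001000460011809210081004000000000000000000000000100000000000000000000000020000000000000010000000000)

theorem T_s55_F : Frame 100 (grp 100 EG) 3 8 T_s55_O 0 1 :=
  Stab.frame t_hn T_s55 (by decide +kernel)

noncomputable def nt_c11_cnt_L : List ℕ := [1, 2, T_s1_O, 0, 0, 3, 8, T_s55_O, 0, 0, 5, 25, T_s57_O, 0, 0, 6, 59, T_s58_O, 0, 0, 7, 11, T_s59_O, 1, 0]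

theorem nt_c11_cnt_P : Prob 100 7 (grp 100 EG) nt_c11_cnt_EG [t_g213] [t_g213] nt_c11_K nt_c11_cnt_L 0 0 :=
  Sym.prob t_hn t_hk nt_c11_sym nt_c11_cnt_EG_ok (grp_cons_le MpHS.a_T (grp_cons_le HSM.g1_T (grp_cons_le HSM.g2_T (grp_cons_le t_g1_T (grp_cons_le t_g2_T (grp_cons_le t_g5_T (grp_cons_le t_g6_T (grp_cons_le t_g9_T (grp_cons_le t_g10_T (grp_cons_le t_g13_T (grp_cons_le t_g14_T (grp_cons_le t_g15_T (grp_cons_le t_g18_T (grp_cons_le t_g19_T (grp_cons_le t_g20_T (grp_cons_le t_g23_T (grp_cons_le t_g24_T (grp_cons_le t_g25_T (grp_cons_le t_g28_T (grp_cons_le t_g29_T (grp_cons_le t_g30_T (grp_cons_le t_g31_T (grp_cons_le t_g34_T (grp_cons_le t_g218_T (grp_cons_le t_g219_T (grp_cons_le t_g220_T (grp_cons_le t_g217_T (grp_nil_le _)))))))))))))))))))))))))))) (Frames.cons T_s1_F (Frames.cons T_s55_F (Frames.cons T_s57_F (Frames.cons T_s58_F (Frames.cons T_s59_F Frames.nil))))) (okE_cons.2 ⟨t_g213_ok, okE_nil _⟩) _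

noncomputable def nt_c11_cnt_t : BT := (BT.br (nat_lit 2) (nat_lit 0) [nat_lit 1, nat_lit 3, nat_lit 5] (BT.dead (nat_lit 1) (BT.frm (nat_lit 0) (nat_lit 0) (nat_lit 265) [nat_lit 0] (BT.pln (nat_lit 0) (nat_lit 1) (BT.img (nat_lit 1) (nat_lit 2) (BT.img (nat_lit 1) (nat_lit 0) (BT.and (nat_lit 2) (nat_lit 0) (BT.cnt (nat_lit 0))))))) (BT.dead (nat_lit 16) (BT.frm (nat_lit 0) (nat_lit 0) (nat_lit 1560) [nat_lit 0] (BT.pln (nat_lit 0) (nat_lit 1) (BT.img (nat_lit 1) (nat_lit 2) (BT.and (nat_lit 1) (nat_lit 0) (BT.cnt (nat_lit 0)))))) (BT.kid (nat_lit 0) (nat_lit 2) (BT.img (nat_lit 1) (nat_lit 0) (BT.img (nat_lit 1) (nat_lit 0) (BT.frm (nat_lit 1) (nat_lit 0xb2b0719) (nat_lit 0xb2b0719) [nat_lit 1, nat_lit 0, nat_lit 2] (BT.pln (nat_lit 0) (nat_lit 6) (BT.br (nat_lit 0) (nat_lit 97) [nat_lit 5] (BT.dead (nat_lit 18) (BT.frm (nat_lit 0) (nat_lit 0) (nat_lit 0) [nat_lit 5] (BT.pln (nat_lit 0) (nat_lit 1) (BT.img (nat_lit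 1) (nat_lit 2) (BT.img (nat_lit 1) (nat_lit 6) (BT.frm (nat_lit 3) (nat_lit 0x31312f2f0b2b0719) (nat_lit 0x2f310b2b0719) [nat_lit 1, nat_lit 4, nat_lit 0, nat_lit 8, nat_lit 7, nat_lit 9] (BT.pln (nat_lit 0) (nat_lit 11) (BT.and (nat_lit 4) (nat_lit 0) (BT.br (nat_lit 0) (nat_lit 96) [nat_lit 5] (BT.dead (nat_lit 23) (BT.frm (nat_lit 4) (nat_lit 0x31312f2f0b2b0719) (nat_lit 0x332f310b2b0719) [nat_lit 0, nat_lit 5, nat_lit 8, nat_lit 4, nat_lit 12, nat_lit 11, nat_lit 13] (BT.pln (nat_lit 0) (nat_lit 7) (BT.img (nat_lit 1) (nat_lit 2) (BT.and (nat_lit 1) (nat_lit 0) (BT.cnt (nat_lit 0)))))) BT.nil))))))))) (BT.dead (nat_lit 78) (BT.img (nat_lit 1) (nat_lit 3) (BT.frm (nat_lit 2) (nat_lit 0x2f2f0b2b0719) (nat_lit 0x30300b2b0719) [nat_lit 1, nat_lit 0, nat_lit 5, nat_lit 4, nat_lit 6] (BT.pln (nat_lit 0) (nat_lit 22) (BT.img (nat_lit 1) (nat_lit 3) (BT.img (nat_lit 1) (nat_lit 0) (BT.and (nat_lit 2) (nat_lit 0) (BT.cnt (nat_lit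 0)))))))) (BT.dead (nat_lit 6) (BT.img (nat_lit 1) (nat_lit 3) (BT.frm (nat_lit 2) (nat_lit 0x2f2f0b2b0719) (nat_lit 0x300b2b0719) [nat_lit 1, nat_lit 0, nat_lit 5, nat_lit 4, nat_lit 6] (BT.pln (nat_lit 0) (nat_lit 22) (BT.img (nat_lit 1) (nat_lit 3) (BT.img (nat_lit 1) (nat_lit 0) (BT.and (nat_lit 2) (nat_lit 0) (BT.cnt (nat_lit 0)))))))) (BT.kid (nat_lit 97) (nat_lit 2) (BT.frm (nat_lit 0) (nat_lit 0) (nat_lit 0) [nat_lit 5] (BT.pln (nat_lit 0) (nat_lit 1) (BT.img (nat_lit 1) (nat_lit 2) (BT.img (nat_lit 1) (nat_lit 6) (BT.frm (nat_lit 3) (nat_lit 0x31312f2f0b2b0719) (nat_lit 0x31312f2f0b2b0719) [nat_lit 1, nat_lit 4, nat_lit 0, nat_lit 8, nat_lit 7, nat_lit 9] (BT.pln (nat_lit 0) (nat_lit 11) (BT.and (nat_lit 4) (nat_lit 0) (BT.br (nat_lit 0) (nat_lit 96) [nat_lit 5] (BT.kid (nat_lit 96) (nat_lit 1) (BT.one (nat_lit 4) (nat_lit 0x31312f2f0b2b0719) (nat_lit 0x31312f2f0b2b0719) [nat_lit 0, nat_lit 5, nat_lit 8, nat_lit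 4, nat_lit 12, nat_lit 11, nat_lit 13]) BT.nil))))))))) BT.nil))))))))) BT.nil))))

theorem nt_c11_cnt : Cnt 100 (grp 100 EG) [t_g213] [t_g213] 0 0 0 0 80 :=
  BT.sound nt_c11_cnt_P Known.nil (t := nt_c11_cnt_t) (d := 0) (by decide +kernel)

theorem nt_c11_ge : 80 ≤ Nat.card (grp 100 nt_c11_K) :=
  Ch.le_card_grp (k := 7) (L := (lab 100 7)) t_hn nt_c11_K_ok (c := (Ch.cons (nat_lit 0) [nat_lit 1, nat_lit 3] (Ch.cons (nat_lit 96) [nat_lit 5] Ch.nil))) (by decide +kernel)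

theorem nt_c11_eq : (grp 100 EG) ⊓ Subgroup.centralizer {Net.toPerm 100 t_g213} = grp 100 nt_c11_K :=
  cent_eq nt_c11_sym nt_c11_cnt nt_c11_ge

theorem nt_c11_card : Nat.card ↥((grp 100 EG) ⊓ Subgroup.centralizer {Net.toPerm 100 t_g213}) = 80 :=
  card_cent nt_c11_sym nt_c11_cnt nt_c11_ge

theorem nt_c11_ord : orderOf (Net.toPerm 100 t_g213) = 4 :=
  orderOf_net t_hn t_hk t_g213_ok (by decide) (ps := [2]) (by set_option linter.unusedSimpArgs false in simp [Nat.primeFactorsList_ofNat]) (by decide +kernel)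

theorem t_le233 : grp 100 nt_c12_K ≤ grp 100 lb_E :=
  grp_le_of_memB t_hn t_hk lb_E_ok nt_c12_K_ok (ws := [nat_lit 0x312b19130f0b1d070d010a02, nat_lit 0x310b1d080a02, nat_lit 0x312f251f19130f110b220a0b, nat_lit 0x252b1f1917100b0d080a, nat_lit 0x2f251f19130f0f0b1a09]) (by decide +kernel)

theorem nt_c12_le : grp 100 nt_c12_K ≤ (grp 100 EG) :=
  (t_le233.trans T_s0.le)

theorem nt_c12_mem : Net.toPerm 100 t_g227 ∈ (grp 100 EG) :=
  nt_c12_le (mem_grp_of_memB t_hn t_hk nt_c12_K_ok t_g227_ok (w := (nat_lit 0x90706040204)) (by decide +kernel))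

theorem nt_c12_sym : Sym 100 (grp 100 EG) [t_g227] nt_c12_K 0 :=
  Sym.of_lab t_hn t_hk (okE_cons.2 ⟨t_g227_ok, okE_nil _⟩) nt_c12_K_ok nt_c12_le (kT := 0) (by decide +kernel)

theorem t_le239 : grp 100 t_V238 ≤ grp 100 t_V51 :=
  grp_le_of_memB t_hn t_hk t_V51_ok t_V238_ok (ws := [nat_lit 0x231d110c0103, nat_lit 0x2321110b050103, nat_lit 0x23171d0c0103, nat_lit 0x23210c050101]) (by decide +kernel)

theorem T_s60 : Stab 100 (grp 100 EG) [nat_lit 59, nat_lit 2, nat_lit 1, nat_lit 0] t_V238 120 :=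
  Stab.step (k := 7) (L := (lab 100 7)) t_hn T_s3 t_V238_ok t_le239 (c := (Ch.cons (nat_lit 63) [nat_lit 1] (Ch.cons (nat_lit 36) [nat_lit 3] (Ch.cons (nat_lit 66) [nat_lit 5] (Ch.cons (nat_lit 57) [nat_lit 7] Ch.nil))))) (by decide +kernel)

theorem T_s61 : Stab 100 (grp 100 EG) [nat_lit 63, nat_lit 59, nat_lit 2, nat_lit 1, nat_lit 0] t_V240 20 :=
  Stab.step (k := 7) (L := (lab 100 7)) t_hn T_s60 t_V240_ok (grp_mono (List.subset_append_right [t_g234] _)) (c := (Ch.cons (nat_lit 36) [nat_lit 1] (Ch.cons (nat_lit 66) [nat_lit 3] (Ch.cons (nat_lit 57) [nat_lit 5] Ch.nil)))) (by decide +kernel)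

theorem T_s62 : Stab 100 (grp 100 EG) [nat_lit 36, nat_lit 63, nat_lit 59, nat_lit 2, nat_lit 1, nat_lit 0] t_V241 4 :=
  Stab.step (k := 7) (L := (lab 100 7)) t_hn T_s61 t_V241_ok (grp_mono (List.subset_append_right [t_g235] _)) (c := (Ch.cons (nat_lit 66) [nat_lit 1] (Ch.cons (nat_lit 57) [nat_lit 3] Ch.nil))) (by decide +kernel)

theorem T_s63 : Stab 100 (grp 100 EG) [nat_lit 66, nat_lit 36, nat_lit 63, nat_lit 59, nat_lit 2, nat_lit 1, nat_lit 0] t_V242 2 :=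
  Stab.step (k := 7) (L := (lab 100 7)) t_hn T_s62 t_V242_ok (grp_mono (List.subset_append_right [t_g236] _)) (c := (Ch.cons (nat_lit 57) [nat_lit 1] Ch.nil)) (by decide +kernel)

theorem T_s64 : Stab 100 (grp 100 EG) [nat_lit 57, nat_lit 66, nat_lit 36, nat_lit 63, nat_lit 59, nat_lit 2, nat_lit 1, nat_lit 0] t_V243 1 :=
  Stab.step (k := 7) (L := (lab 100 7)) t_hn T_s63 t_V243_ok (grp_mono (List.subset_append_right [t_g237] _)) (c := Ch.nil) (by decide +kernel)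

theorem t_g235_T : Net.toPerm 100 t_g235 ∈ (grp 100 EG) :=
  T_s61.le (toPerm_mem_grp (E := t_V240) (List.Mem.head _))

theorem t_g236_T : Net.toPerm 100 t_g236 ∈ (grp 100 EG) :=
  T_s61.le (toPerm_mem_grp (E := t_V240) (List.Mem.tail _ (List.Mem.head _)))

theorem t_g237_T : Net.toPerm 100 t_g237 ∈ (grp 100 EG) :=
  T_s61.le (toPerm_mem_grp (E := t_V240) (List.Mem.tail _ (List.Mem.tail _ (List.Mem.head _))))

theorem t_g234_T : Net.toPerm 100 t_g234 ∈ (grp 100 EG) :=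
  T_s60.le (toPerm_mem_grp (E := t_V238) (List.Mem.head _))

noncomputable def T_s64_O : ℕ := (nat_lit 0x3333266666ccccd99999333321f07c1f03e0f83e0f83e0f83ee63398c67319ce63398c673184db24d926c93649b64db26d9200000000000000000000000010000000000000000000000002000000000000000000000000400000000008000000000000000000000008000000000000000000000000000000100000000000000000400000000000000000000000000200000000000000)

theorem T_s64_F : Frame 100 (grp 100 EG) 8 12 T_s64_O 1 1 :=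
  IsBase.frame T_s64.isBase (by decide +kernel)

noncomputable def T_s63_O : ℕ := (nat_lit 0x200000000000000000000000000000400000000000000000000000010000000000000000000000000200000000000000000000000002000000000000000000000000080000000000000000000000000002000000000000000000000000004000000000000000000000000100000000000000000000000004000000000000000000000000000010000000000000000000000000800000000000000000000000000080041000000000000000000000000000001100000000000000000000000081000000000000000000400000004000000000000000002000000200000000000000000000000108000000000000000080000000400000000000000000080000008000000000000000000002000100000000000010000000000008000000000000400000000000200000000000000000400000008000000000008000000000000200000000000000000000010008000000000000000000000000600000000000002000000000008000000000010000000000000200000000000000000010000008000000000001000000000000400000000020000000000000020000000000000000000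40000100000000004000000000000008000000000080000000000000400000000000000020000000004000000001000000000000000100000000000040000000000008000000000080000000000000400000000000000000010000010000000000000000000000002800000000200000000000000040008000000000000000000002000020000000000000000000100000000000000020000000004000080000000000000000000200000000000000000000200010000000000000000000002000800000400000000000000000040000000000000000040000002000000000040000000000000100000000000000000000000001000000000000000000000000200000000000000000000000040000000000800000000000000000000000800000000000000000000000000000010000000000000000040000000000000000)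

theorem T_s63_F : Frame 100 (grp 100 EG) 7 59 T_s63_O 0 1 :=
  Stab.frame t_hn T_s63 (by decide +kernel)

noncomputable def T_s62_O : ℕ := (nat_lit 0x400000000000000000000000000000020000000000000000000000000000000100000000000000000000000008000002000010000000000000000000000000024000000000000000000000020000004000000000000000000000000140000000000000000008000000000000080000400000014800000000000000000280000008000800000000001000000001000820000000000001000001000000c0000000000000400200008000040000000010000000040000101000000000000420001000000080000000400800000000000804000000020000002000100000100000000000000000006000028000000802000004000000000400084000000000002000000020001200000000000800000001000000000081000200000000040000800011000000000000002000000800000000000004200080410040000000000000000004008000000000000204000000200000000004000000002000110000000000000000000000000100000000000000000000000020000000000000000000000004000000000080000000000000000000000080000000000000000000000000000001000000000)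

theorem T_s62_F : Frame 100 (grp 100 EG) 6 34 T_s62_O 0 1 :=
  Stab.frame t_hn T_s62 (by decide +kernel)

noncomputable def T_s60_O : ℕ := (nat_lit 0x10000000040010101000000020040000000000120000008000000400a02008000040000020041180001000000c80400000000282000008406800028000121000066001180820088100041804011040001400030003500000000000000000000000001000000000000000000000000200000000000000000000000040000000000800000000000000)

theorem T_s60_F : Frame 100 (grp 100 EG) 4 11 T_s60_O 0 1 :=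
  Stab.frame t_hn T_s60 (by decide +kernel)

noncomputable def nt_c12_cnt_L : List ℕ := [1, 2, T_s1_O, 0, 0, 4, 11, T_s60_O, 0, 0, 6, 34, T_s62_O, 0, 0, 7, 59, T_s63_O, 0, 0, 8, 12, T_s64_O, 1, 0]

theorem nt_c12_cnt_P : Prob 100 7 (grp 100 EG) nt_c12_cnt_EG [t_g227] [t_g227] nt_c12_K nt_c12_cnt_L 0 0 :=
  Sym.prob t_hn t_hk nt_c12_sym nt_c12_cnt_EG_ok (grp_cons_le MpHS.a_T (grp_cons_le HSM.g1_T (grp_cons_le HSM.g2_T (grp_cons_le t_g1_T (grp_cons_le t_g2_T (grp_cons_le t_g5_T (grp_cons_le t_g6_T (grp_cons_le t_g9_T (grp_cons_le t_g10_T (grp_cons_le t_g13_T (grp_cons_le t_g14_T (grp_cons_le t_g15_T (grp_cons_le t_g18_T (grp_cons_le t_g19_T (grp_cons_le t_g20_T (grp_cons_le t_g23_T (grp_cons_le t_g24_T (grp_cons_le t_g25_T (grp_cons_le t_g28_T (grp_cons_le t_g29_T (grp_cons_le t_g30_T (grp_cons_le t_g31_T (grp_cons_le t_g34_T (grp_cons_le t_g235_T (grp_cons_le t_g236_T (grp_cons_le t_g237_T (grp_cons_le t_g234_T (grp_nil_le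 _)))))))))))))))))))))))))))) (Frames.cons T_s1_F (Frames.cons T_s60_F (Frames.cons T_s62_F (Frames.cons T_s63_F (Frames.cons T_s64_F Frames.nil))))) (okE_cons.2 ⟨t_g227_ok, okE_nil _⟩) _

noncomputable def nt_c12_cnt_t : BT := (BT.br (nat_lit 2) (nat_lit 0) [nat_lit 1, nat_lit 3] (BT.dead (nat_lit 3) (BT.frm (nat_lit 0) (nat_lit 0) (nat_lit 780) [nat_lit 0] (BT.pln (nat_lit 0) (nat_lit 1) (BT.img (nat_lit 1) (nat_lit 2) (BT.and (nat_lit 1) (nat_lit 0) (BT.cnt (nat_lit 0)))))) (BT.kid (nat_lit 0) (nat_lit 20) (BT.frm (nat_lit 0) (nat_lit 0) (nat_lit 0) [nat_lit 0] (BT.pln (nat_lit 0) (nat_lit 1) (BT.img (nat_lit 1) (nat_lit 2) (BT.img (nat_lit 1) (nat_lit 0) (BT.img (nat_lit 1) (nat_lit 0) (BT.img (nat_lit 1) (nat_lit 0) (BT.frm (nat_lit 1) (nat_lit 0x100b12070d08) (nat_lit 0x100b12070d08) [nat_lit 2, nat_lit 0, nat_lit 3, nat_lit 6] (BT.pln (nat_lit 0) (nat_lit 10) (BT.and (nat_lit 6) (nat_lit 0) (BT.br (nat_lit 0) (nat_lit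 47) [nat_lit 5, nat_lit 7] (BT.kid (nat_lit 47) (nat_lit 4) (BT.dif (nat_lit 8) (nat_lit 2) (BT.frm (nat_lit 2) (nat_lit 0x2f3135100b12070d08) (nat_lit 0x2f3135100b12070d08) [nat_lit 1, nat_lit 6, nat_lit 7, nat_lit 5, nat_lit 8, nat_lit 11] (BT.pln (nat_lit 0) (nat_lit 28) (BT.and (nat_lit 2) (nat_lit 0) (BT.br (nat_lit 0) (nat_lit 52) [nat_lit 7] (BT.kid (nat_lit 52) (nat_lit 2) (BT.frm (nat_lit 3) (nat_lit 0x312f3135100b12070d08) (nat_lit 0x312f3135100b12070d08) [nat_lit 0, nat_lit 5, nat_lit 10, nat_lit 11, nat_lit 9, nat_lit 12, nat_lit 15] (BT.pln (nat_lit 0) (nat_lit 41) (BT.br (nat_lit 0) (nat_lit 91) [nat_lit 9] (BT.kid (nat_lit 91) (nat_lit 1) (BT.one (nat_lit 4) (nat_lit 0x312f3135100b12070d08) (nat_lit 0x312f3135100b12070d08) [nat_lit 0, nat_lit 3, nat_lit 8, nat_lit 13, nat_lit 14, nat_lit 12, nat_lit 15, nat_lit 18]) BT.nil)))) BT.nil)))))) BT.nil))))))))))) BT.nil)))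

theorem nt_c12_cnt : Cnt 100 (grp 100 EG) [t_g227] [t_g227] 0 0 0 0 1000 :=
  BT.sound nt_c12_cnt_P Known.nil (t := nt_c12_cnt_t) (d := 0) (by decide +kernel)

theorem nt_c12_ge : 1000 ≤ Nat.card (grp 100 nt_c12_K) :=
  Ch.le_card_grp (k := 7) (L := (lab 100 7)) t_hn nt_c12_K_ok (c := (Ch.cons (nat_lit 0) [nat_lit 1, nat_lit 3] (Ch.cons (nat_lit 47) [nat_lit 5] (Ch.cons (nat_lit 52) [nat_lit 7] (Ch.cons (nat_lit 91) [nat_lit 9] Ch.nil))))) (by decide +kernel)

theorem nt_c12_eq : (grp 100 EG) ⊓ Subgroup.centralizer {Net.toPerm 100 t_g227} = grp 100 nt_c12_K :=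
  cent_eq nt_c12_sym nt_c12_cnt nt_c12_ge

theorem nt_c12_card : Nat.card ↥((grp 100 EG) ⊓ Subgroup.centralizer {Net.toPerm 100 t_g227}) = 1000 :=
  card_cent nt_c12_sym nt_c12_cnt nt_c12_ge

theorem nt_c12_ord : orderOf (Net.toPerm 100 t_g227) = 5 :=
  orderOf_net t_hn t_hk t_g227_ok (by decide) (ps := [5]) (by set_option linter.unusedSimpArgs false in simp [Nat.primeFactorsList_ofNat]) (by decide +kernel)

theorem t_le248 : grp 100 nt_c13_K ≤ grp 100 lb_E :=
  grp_le_of_memB t_hn t_hk lb_E_ok nt_c13_K_ok (ws := [nat_lit 0x1f1a1318100b0e0a0103, nat_lit 0x31252b1a130c0f0818, nat_lit 0x2f252b1f191318100c0f0818]) (by decide +kernel)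

theorem nt_c13_le : grp 100 nt_c13_K ≤ (grp 100 EG) :=
  (t_le248.trans T_s0.le)

theorem nt_c13_mem : Net.toPerm 100 t_g244 ∈ (grp 100 EG) :=
  nt_c13_le (mem_grp_of_memB t_hn t_hk nt_c13_K_ok t_g244_ok (w := (nat_lit 0x1010101)) (by decide +kernel))

theorem nt_c13_sym : Sym 100 (grp 100 EG) [t_g244] nt_c13_K 0 :=
  Sym.of_lab t_hn t_hk (okE_cons.2 ⟨t_g244_ok, okE_nil _⟩) nt_c13_K_ok nt_c13_le (kT := 0) (by decide +kernel)

theorem t_le252 : grp 100 t_V251 ≤ grp 100 t_V53 :=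
  grp_le_of_memB t_hn t_hk t_V53_ok t_V251_ok (ws := [nat_lit 0x190d02, nat_lit 0x190702]) (by decide +kernel)

theorem T_s65 : Stab 100 (grp 100 EG) [nat_lit 61, nat_lit 29, nat_lit 3, nat_lit 2, nat_lit 1, nat_lit 0] t_V251 6 :=
  Stab.step (k := 7) (L := (lab 100 7)) t_hn T_s5 t_V251_ok t_le252 (c := (Ch.cons (nat_lit 40) [nat_lit 1] (Ch.cons (nat_lit 98) [nat_lit 3] Ch.nil))) (by decide +kernel)

theorem T_s66 : Stab 100 (grp 100 EG) [nat_lit 40, nat_lit 61, nat_lit 29, nat_lit 3, nat_lit 2, nat_lit 1, nat_lit 0] t_V253 2 :=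
  Stab.step (k := 7) (L := (lab 100 7)) t_hn T_s65 t_V253_ok (grp_mono (List.subset_append_right [t_g249] _)) (c := (Ch.cons (nat_lit 98) [nat_lit 1] Ch.nil)) (by decide +kernel)

theorem T_s67 : Stab 100 (grp 100 EG) [nat_lit 98, nat_lit 40, nat_lit 61, nat_lit 29, nat_lit 3, nat_lit 2, nat_lit 1, nat_lit 0] t_V254 1 :=
  Stab.step (k := 7) (L := (lab 100 7)) t_hn T_s66 t_V254_ok (grp_mono (List.subset_append_right [t_g250] _)) (c := Ch.nil) (by decide +kernel)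

theorem t_g249_T : Net.toPerm 100 t_g249 ∈ (grp 100 EG) :=
  T_s65.le (toPerm_mem_grp (E := t_V251) (List.Mem.head _))

theorem t_g250_T : Net.toPerm 100 t_g250 ∈ (grp 100 EG) :=
  T_s65.le (toPerm_mem_grp (E := t_V251) (List.Mem.tail _ (List.Mem.head _)))

noncomputable def T_s67_O : ℕ := (nat_lit 0x3333266666ccccd99999333321f07c1f03e0f83e0f83e0f83ee63398c67319ce63398c673184db24d926c93649b64db26d9200000000000000000000000010000000000000000000000002000000000000000000000000400000000000000000000000080000000000000000020000000000000000200000000000000000000000000000100000000004000000000000000000000000)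

theorem T_s67_F : Frame 100 (grp 100 EG) 8 12 T_s67_O 1 1 :=
  IsBase.frame T_s67.isBase (by decide +kernel)

noncomputable def T_s66_O : ℕ := (nat_lit 0x8000000000000000000000000008000000000000000000000000400000000000000000000000010000000000000000000000000400000000000000000000000000400000000000000000000000020000000000000000000000000200000000000000000000000002000000000000000000000000008000000000000000000000000008000000000000000000000000100000000000000000000000004000000000000000000000000000040000000000000000000000000400000000000000000000000002000000000000000000000000080000000000000000000000000800000000000000000000000008000000000000000000000000400000000000000000000000002000000000000000000000000020000000000000000000000001041000000000000000000000002008000000000000000000000000280000000000000000000000002040000000000000000000800000080000000000000000100000002000000000000000000004000008000000000000000000000001400000000000000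000000001010000000000000000000100000400000000000000001000000000800000000000000000000002040000000000000000008000002000000000000000000100000100000000000000000000000808000000000000000010000000400000000000000080000000002000000000000000004000000100000000000000000000000048000000000000000000000008200000000002000000000000010000000000000000000020000800000000000000400000000010000000000000800000000000020000002000000000000000001000000000000000000000004040000000000000000000000042000000000000000000000080100000000100000000000000002000000000000000100000000100000000000000000200000008000400000000000000000000400000000000400000000000010000000000002000000000000800000000000000000000000001000000000000000000000000200000000000000000000000040000000000000000000000008000000000000000002000000000000000020000000000000000000000000000010000000000)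

theorem T_s66_F : Frame 100 (grp 100 EG) 7 64 T_s66_O 0 1 :=
  Stab.frame t_hn T_s66 (by decide +kernel)

noncomputable def T_s65_O : ℕ := (nat_lit 0x10000000000000000000000000000000000000000008000000000000000000000000040000000000000000000000000010800280000000000000000000000002060000000000000000000004000001400000000000000000002001010000000000000000400100000400000000000001000000020004000000000000008000010000010000000000000000000080000048000000000020040000000000100000000080000008000000004000000041000000000000000020000000001000000000800000800000020000000001000000010000000000000000000004080100000000000000020400000008000000010000000001000000200000000002000010000000010000000000000280000000000080000000000000000000100024004000000000000000000004200000000440000009210000000200800880000020000020000000000800000080820004200000000000000002020084040800000000000000000000000000100000000000000000000000020000000000000000000000004000000000000000000000000800000000000000000200000000000000002000000000000000)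

theorem T_s65_F : Frame 100 (grp 100 EG) 6 34 T_s65_O 0 1 :=
  Stab.frame t_hn T_s65 (by decide +kernel)

noncomputable def nt_c13_cnt_L : List ℕ := [1, 2, T_s1_O, 0, 0, 6, 34, T_s65_O, 0, 0, 7, 64, T_s66_O, 0, 0, 8, 12, T_s67_O, 1, 0]

theorem nt_c13_cnt_P : Prob 100 7 (grp 100 EG) nt_c13_cnt_EG [t_g244] [t_g244] nt_c13_K nt_c13_cnt_L 0 0 :=
  Sym.prob t_hn t_hk nt_c13_sym nt_c13_cnt_EG_ok (grp_cons_le MpHS.a_T (grp_cons_le HSM.g1_T (grp_cons_le HSM.g2_T (grp_cons_le t_g1_T (grp_cons_le t_g2_T (grp_cons_le t_g5_T (grp_cons_le t_g6_T (grp_cons_le t_g9_T (grp_cons_le t_g10_T (grp_cons_le t_g13_T (grp_cons_le t_g14_T (grp_cons_le t_g15_T (grp_cons_le t_g18_T (grp_cons_le t_g19_T (grp_cons_le t_g20_T (grp_cons_le t_g23_T (grp_cons_le t_g24_T (grp_cons_le t_g25_T (grp_cons_le t_g28_T (grp_cons_le t_g29_T (grp_cons_le t_g30_T (grp_cons_le t_g31_T (grp_cons_le t_g34_T (grp_cons_le t_g249_T (grp_cons_le t_g250_T (grp_nil_le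 _)))))))))))))))))))))))))) (Frames.cons T_s1_F (Frames.cons T_s65_F (Frames.cons T_s66_F (Frames.cons T_s67_F Frames.nil)))) (okE_cons.2 ⟨t_g244_ok, okE_nil _⟩) _

noncomputable def nt_c13_cnt_t : BT := (BT.br (nat_lit 2) (nat_lit 0) [nat_lit 1, nat_lit 3] (BT.kid (nat_lit 0) (nat_lit 6) (BT.frm (nat_lit 0) (nat_lit 0) (nat_lit 0) [nat_lit 0] (BT.pln (nat_lit 0) (nat_lit 1) (BT.dif (nat_lit 5) (nat_lit 0) (BT.img (nat_lit 1) (nat_lit 1) (BT.dif (nat_lit 1) (nat_lit 0) (BT.img (nat_lit 1) (nat_lit 5) (BT.img (nat_lit 1) (nat_lit 0) (BT.img (nat_lit 1) (nat_lit 0) (BT.img (nat_lit 1) (nat_lit 0) (BT.and (nat_lit 7) (nat_lit 5) (BT.img (nat_lit 1) (nat_lit 0) (BT.dif (nat_lit 1) (nat_lit 0) (BT.dif (nat_lit 10) (nat_lit 8) (BT.and (nat_lit 9) (nat_lit 2) (BT.dif (nat_lit 0) (nat_lit 12) (BT.img (nat_lit 1) (nat_lit 0) (BT.dif (nat_lit 0) (nat_lit 14) (BT.img (nat_lit 1) (nat_lit 0) (BT.img (nat_lit 1) (nat_lit 0) (BT.and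 (nat_lit 6) (nat_lit 0) (BT.img (nat_lit 1) (nat_lit 0) (BT.dif (nat_lit 9) (nat_lit 0) (BT.and (nat_lit 20) (nat_lit 6) (BT.frm (nat_lit 1) (nat_lit 0x1d1318100e09) (nat_lit 0x1d1318100e09) [nat_lit 17, nat_lit 14, nat_lit 15, nat_lit 1, nat_lit 0, nat_lit 23] (BT.pln (nat_lit 0) (nat_lit 14) (BT.and (nat_lit 20) (nat_lit 0) (BT.br (nat_lit 0) (nat_lit 55) [nat_lit 3] (BT.kid (nat_lit 55) (nat_lit 2) (BT.frm (nat_lit 2) (nat_lit 0x301d1318100e09) (nat_lit 0x301d1318100e09) [nat_lit 0, nat_lit 21, nat_lit 18, nat_lit 19, nat_lit 5, nat_lit 4, nat_lit 27] (BT.pln (nat_lit 0) (nat_lit 40) (BT.and (nat_lit 24) (nat_lit 0) (BT.br (nat_lit 0) (nat_lit 32) [nat_lit 5] (BT.kid (nat_lit 32) (nat_lit 1) (BT.one (nat_lit 3) (nat_lit 0x31301d1318100e09) (nat_lit 0x31301d1318100e09) [nat_lit 0, nat_lit 4, nat_lit 25, nat_lit 22, nat_lit 23, nat_lit 9, nat_lit 8, nat_lit 31]) BT.nil))))) BT.nil)))))))))))))))))))))))))))) BT.nil))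

theorem nt_c13_cnt : Cnt 100 (grp 100 EG) [t_g244] [t_g244] 0 0 0 0 600 :=
  BT.sound nt_c13_cnt_P Known.nil (t := nt_c13_cnt_t) (d := 0) (by decide +kernel)

theorem nt_c13_ge : 600 ≤ Nat.card (grp 100 nt_c13_K) :=
  Ch.le_card_grp (k := 7) (L := (lab 100 7)) t_hn nt_c13_K_ok (c := (Ch.cons (nat_lit 0) [nat_lit 1] (Ch.cons (nat_lit 55) [nat_lit 3] (Ch.cons (nat_lit 32) [nat_lit 5] Ch.nil)))) (by decide +kernel)

theorem nt_c13_eq : (grp 100 EG) ⊓ Subgroup.centralizer {Net.toPerm 100 t_g244} = grp 100 nt_c13_K :=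
  cent_eq nt_c13_sym nt_c13_cnt nt_c13_ge

theorem nt_c13_card : Nat.card ↥((grp 100 EG) ⊓ Subgroup.centralizer {Net.toPerm 100 t_g244}) = 600 :=
  card_cent nt_c13_sym nt_c13_cnt nt_c13_ge

theorem nt_c13_ord : orderOf (Net.toPerm 100 t_g244) = 5 :=
  orderOf_net t_hn t_hk t_g244_ok (by decide) (ps := [5]) (by set_option linter.unusedSimpArgs false in simp [Nat.primeFactorsList_ofNat]) (by decide +kernel)

theorem t_le258 : grp 100 nt_c14_K ≤ grp 100 lb_E :=
  grp_le_of_memB t_hn t_hk lb_E_ok nt_c14_K_ok (ws := [nat_lit 0x2f1913100b0f08080616, nat_lit 0x312f251913180f0b150712010f, nat_lit 0x312f2b1f0f0e080d0618]) (by decide +kernel)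

theorem nt_c14_le : grp 100 nt_c14_K ≤ (grp 100 EG) :=
  (t_le258.trans T_s0.le)

theorem nt_c14_mem : Net.toPerm 100 t_g255 ∈ (grp 100 EG) :=
  nt_c14_le (toPerm_mem_grp (E := nt_c14_K) (List.Mem.tail _ (List.Mem.tail _ (List.Mem.head _))))

theorem nt_c14_sym : Sym 100 (grp 100 EG) [t_g255] nt_c14_K 0 :=
  Sym.of_lab t_hn t_hk (okE_cons.2 ⟨t_g255_ok, okE_nil _⟩) nt_c14_K_ok nt_c14_le (kT := 0) (by decide +kernel)

theorem t_le262 : grp 100 t_V261 ≤ grp 100 t_V156 :=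
  grp_le_of_memB t_hn t_hk t_V156_ok t_V261_ok (ws := [nat_lit 0x603060103, nat_lit 460292]) (by decide +kernel)

theorem T_s68 : Stab 100 (grp 100 EG) [nat_lit 1, nat_lit 94, nat_lit 93, nat_lit 89, nat_lit 0] t_V261 20 :=
  Stab.step (k := 7) (L := (lab 100 7)) t_hn T_s36 t_V261_ok t_le262 (c := (Ch.cons (nat_lit 2) [nat_lit 1] (Ch.cons (nat_lit 84) [nat_lit 3] Ch.nil))) (by decide +kernel)

theorem T_s69 : Stab 100 (grp 100 EG) [nat_lit 2, nat_lit 1, nat_lit 94, nat_lit 93, nat_lit 89, nat_lit 0] t_V263 4 :=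
  Stab.step (k := 7) (L := (lab 100 7)) t_hn T_s68 t_V263_ok (grp_mono (List.subset_append_right [t_g259] _)) (c := (Ch.cons (nat_lit 84) [nat_lit 1] Ch.nil)) (by decide +kernel)

theorem T_s70 : Stab 100 (grp 100 EG) [nat_lit 84, nat_lit 2, nat_lit 1, nat_lit 94, nat_lit 93, nat_lit 89, nat_lit 0] t_V264 1 :=
  Stab.step (k := 7) (L := (lab 100 7)) t_hn T_s69 t_V264_ok (grp_mono (List.subset_append_right [t_g260] _)) (c := Ch.nil) (by decide +kernel)

theorem t_g260_T : Net.toPerm 100 t_g260 ∈ (grp 100 EG) :=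
  T_s69.le (toPerm_mem_grp (E := t_V263) (List.Mem.head _))

theorem t_g259_T : Net.toPerm 100 t_g259 ∈ (grp 100 EG) :=
  T_s68.le (toPerm_mem_grp (E := t_V261) (List.Mem.head _))

noncomputable def T_s70_O : ℕ := (nat_lit 0x3333266666ccccd99999333321f07c1f03e0f83e0f83e0f83ee63398c67319ce63398c673184db24d926c93649b64db26d920000000000000000000000001002000000000000000000000002000000000000000000000000400000000000000000000000000000000000000000000000200000000000000000000000040001000000000000000000000)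

theorem T_s70_F : Frame 100 (grp 100 EG) 7 11 T_s70_O 1 1 :=
  IsBase.frame T_s70.isBase (by decide +kernel)

noncomputable def nt_c14_cnt_L : List ℕ := [1, 2, T_s1_O, 0, 0, 2, 5, T_s15_O, 0, 0, 7, 11, T_s70_O, 1, 0]

theorem nt_c14_cnt_P : Prob 100 7 (grp 100 EG) nt_c14_cnt_EG [t_g255] [t_g255] nt_c14_K nt_c14_cnt_L 0 0 :=
  Sym.prob t_hn t_hk nt_c14_sym nt_c14_cnt_EG_ok (grp_cons_le MpHS.a_T (grp_cons_le HSM.g1_T (grp_cons_le HSM.g2_T (grp_cons_le t_g1_T (grp_cons_le t_g2_T (grp_cons_le t_g5_T (grp_cons_le t_g6_T (grp_cons_le t_g9_T (grp_cons_le t_g10_T (grp_cons_le t_g13_T (grp_cons_le t_g14_T (grp_cons_le t_g15_T (grp_cons_le t_g18_T (grp_cons_le t_g19_T (grp_cons_le t_g20_T (grp_cons_le t_g23_T (grp_cons_le t_g24_T (grp_cons_le t_g25_T (grp_cons_le t_g28_T (grp_cons_le t_g29_T (grp_cons_le t_g30_T (grp_cons_le t_g31_T (grp_cons_le t_g34_T (grp_cons_le t_g260_T (grp_cons_le t_g259_T (grp_cons_le t_g152_T (grp_cons_le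 t_g153_T (grp_cons_le t_g154_T (grp_cons_le t_g155_T (grp_cons_le t_g133_T (grp_cons_le t_g134_T (grp_cons_le t_g135_T (grp_cons_le t_g136_T (grp_cons_le t_g137_T (grp_cons_le t_g86_T (grp_cons_le t_g87_T (grp_cons_le t_g88_T (grp_cons_le t_g89_T (grp_cons_le t_g90_T (grp_cons_le t_g91_T (grp_cons_le t_g92_T (grp_cons_le t_g93_T (grp_nil_le _))))))))))))))))))))))))))))))))))))))))))) (Frames.cons T_s1_F (Frames.cons T_s15_F (Frames.cons T_s70_F Frames.nil))) (okE_cons.2 ⟨t_g255_ok, okE_nil _⟩) _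

noncomputable def nt_c14_cnt_t : BT := (BT.fix (nat_lit 1) (BT.br (nat_lit 0) (nat_lit 97) [nat_lit 1] (BT.kid (nat_lit 97) (nat_lit 10) (BT.dif (nat_lit 1) (nat_lit 0) (BT.frm (nat_lit 0) (nat_lit 1032) (nat_lit 1032) [nat_lit 1] (BT.pln (nat_lit 0) (nat_lit 1) (BT.dif (nat_lit 2) (nat_lit 0) (BT.br (nat_lit 0) (nat_lit 84) [nat_lit 3] (BT.kid (nat_lit 84) (nat_lit 5) (BT.frm (nat_lit 1) (nat_lit 0x7100408) (nat_lit 0x7100408) [nat_lit 0, nat_lit 5] (BT.pln (nat_lit 0) (nat_lit 3) (BT.dif (nat_lit 4) (nat_lit 0) (BT.dif (nat_lit 0) (nat_lit 9) (BT.br (nat_lit 0) (nat_lit 49) [nat_lit 5] (BT.kid (nat_lit 49) (nat_lit 1) (BT.img (nat_lit 1) (nat_lit 0) (BT.pln (nat_lit 5) (nat_lit 4) (BT.and (nat_lit 13) (nat_lit 0) (BT.pln (nat_lit 7) (nat_lit 2) (BT.and (nat_lit 15) (nat_lit 0) (BT.and (nat_lit 16) (nat_lit 8) (BT.one (nat_lit 2) (nat_lit 0x303130353b4e07100408) (nat_lit 0x303130353b4e07100408) [nat_lit 5, nat_lit 6,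 nat_lit 3, nat_lit 1, nat_lit 0, nat_lit 11, nat_lit 16]))))))) BT.nil)))))) BT.nil)))))) BT.nil)))

theorem nt_c14_cnt : Cnt 100 (grp 100 EG) [t_g255] [t_g255] 0 0 0 0 50 :=
  BT.sound nt_c14_cnt_P Known.nil (t := nt_c14_cnt_t) (d := 0) (by decide +kernel)

theorem nt_c14_ge : 50 ≤ Nat.card (grp 100 nt_c14_K) :=
  Ch.le_card_grp (k := 7) (L := (lab 100 7)) t_hn nt_c14_K_ok (c := (Ch.cons (nat_lit 97) [nat_lit 1] (Ch.cons (nat_lit 84) [nat_lit 3] (Ch.cons (nat_lit 49) [nat_lit 5] Ch.nil)))) (by decide +kernel)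

theorem nt_c14_eq : (grp 100 EG) ⊓ Subgroup.centralizer {Net.toPerm 100 t_g255} = grp 100 nt_c14_K :=
  cent_eq nt_c14_sym nt_c14_cnt nt_c14_ge

theorem nt_c14_card : Nat.card ↥((grp 100 EG) ⊓ Subgroup.centralizer {Net.toPerm 100 t_g255}) = 50 :=
  card_cent nt_c14_sym nt_c14_cnt nt_c14_ge

theorem nt_c14_ord : orderOf (Net.toPerm 100 t_g255) = 5 :=
  orderOf_net t_hn t_hk t_g255_ok (by decide) (ps := [5]) (by set_option linter.unusedSimpArgs false in simp [Nat.primeFactorsList_ofNat]) (by decide +kernel)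

theorem t_le270 : grp 100 nt_c15_K ≤ grp 100 lb_E :=
  grp_le_of_memB t_hn t_hk lb_E_ok nt_c15_K_ok (ws := [nat_lit 0x2b1f1a170f0f0b080801, nat_lit 0x312f2b19130f0f0b1607040c, nat_lit 0x311f1a13100e12070a0608, nat_lit 0x2f13100c21080d020217]) (by decide +kernel)

theorem nt_c15_le : grp 100 nt_c15_K ≤ (grp 100 EG) :=
  (t_le270.trans T_s0.le)

theorem nt_c15_mem : Net.toPerm 100 t_g265 ∈ (grp 100 EG) :=
  nt_c15_le (mem_grp_of_memB t_hn t_hk nt_c15_K_ok t_g265_ok (w := (nat_lit 0x704010101)) (by decide +kernel))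

theorem nt_c15_sym : Sym 100 (grp 100 EG) [t_g265] nt_c15_K 0 :=
  Sym.of_lab t_hn t_hk (okE_cons.2 ⟨t_g265_ok, okE_nil _⟩) nt_c15_K_ok nt_c15_le (kT := 0) (by decide +kernel)

noncomputable def nt_c15_cnt_L : List ℕ := [1, 2, T_s1_O, 0, 0, 5, 25, T_s47_O, 0, 0, 8, 12, T_s50_O, 1, 0]

theorem nt_c15_cnt_P : Prob 100 7 (grp 100 EG) nt_c15_cnt_EG [t_g265] [t_g265] nt_c15_K nt_c15_cnt_L 0 0 :=
  Sym.prob t_hn t_hk nt_c15_sym nt_c15_cnt_EG_ok (grp_cons_le MpHS.a_T (grp_cons_le HSM.g1_T (grp_cons_le HSM.g2_T (grp_cons_le t_g1_T (grp_cons_le t_g2_T (grp_cons_le t_g5_T (grp_cons_le t_g6_T (grp_cons_le t_g9_T (grp_cons_le t_g10_T (grp_cons_le t_g13_T (grp_cons_le t_g14_T (grp_cons_le t_g15_T (grp_cons_le t_g18_T (grp_cons_le t_g19_T (grp_cons_le t_g20_T (grp_cons_le t_g23_T (grp_cons_le t_g24_T (grp_cons_le t_g25_T (grp_cons_le t_g28_T (grp_cons_le t_g29_T (grp_cons_le t_g30_T (grp_cons_le t_g31_T (grp_cons_le t_g34_T (grp_cons_le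 t_g134_T (grp_cons_le t_g135_T (grp_cons_le t_g136_T (grp_cons_le t_g137_T (grp_cons_le t_g133_T (grp_cons_le t_g86_T (grp_cons_le t_g87_T (grp_cons_le t_g88_T (grp_cons_le t_g89_T (grp_cons_le t_g90_T (grp_cons_le t_g91_T (grp_cons_le t_g92_T (grp_cons_le t_g93_T (grp_cons_le t_g194_T (grp_cons_le t_g193_T (grp_cons_le t_g192_T (grp_nil_le _)))))))))))))))))))))))))))))))))))))))) (Frames.cons T_s1_F (Frames.cons T_s47_F (Frames.cons T_s50_F Frames.nil))) (okE_cons.2 ⟨t_g265_ok, okE_nil _⟩) _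

noncomputable def nt_c15_cnt_t : BT := (BT.fix (nat_lit 257) (BT.br (nat_lit 0) (nat_lit 97) [nat_lit 1, nat_lit 5] (BT.kid (nat_lit 97) (nat_lit 72) (BT.frm (nat_lit 0) (nat_lit 1032) (nat_lit 1032) [nat_lit 0] (BT.pln (nat_lit 0) (nat_lit 1) (BT.dif (nat_lit 0) (nat_lit 3) (BT.fix (nat_lit 65793) (BT.dif (nat_lit 1) (nat_lit 0) (BT.br (nat_lit 0) (nat_lit 79) [nat_lit 3, nat_lit 5] (BT.kid (nat_lit 79) (nat_lit 6) (BT.img (nat_lit 1) (nat_lit 0) (BT.img (nat_lit 1) (nat_lit 0) (BT.img (nat_lit 1) (nat_lit 0) (BT.img (nat_lit 1) (nat_lit 9) (BT.frm (nat_lit 1) (nat_lit 0x383339400714080408) (nat_lit 0x383339400714080408) [nat_lit 3, nat_lit 1, nat_lit 4, nat_lit 0, nat_lit 10] (BT.pln (nat_lit 0) (nat_lit 18) (BT.br (nat_lit 0) (nat_lit 61) [nat_lit 5] (BT.kid (nat_lit 61) (nat_lit 2) (BT.dif (nat_lit 1) (nat_lit 0) (BT.br (nat_lit 0) (nat_lit 54) [nat_lit 7] (BT.kid (nat_lit 54) (nat_lit 1) (BT.one (nat_lit 2) (nat_lit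 0x4d383339400714080408) (nat_lit 0x4d383339400714080408) [nat_lit 0, nat_lit 2, nat_lit 7, nat_lit 8, nat_lit 6, nat_lit 9, nat_lit 5, nat_lit 15]) BT.nil))) BT.nil)))))))) BT.nil))))))) BT.nil)))

theorem nt_c15_cnt : Cnt 100 (grp 100 EG) [t_g265] [t_g265] 0 0 0 0 720 :=
  BT.sound nt_c15_cnt_P Known.nil (t := nt_c15_cnt_t) (d := 0) (by decide +kernel)

theorem nt_c15_ge : 720 ≤ Nat.card (grp 100 nt_c15_K) :=
  Ch.le_card_grp (k := 7) (L := (lab 100 7)) t_hn nt_c15_K_ok (c := (Ch.cons (nat_lit 97) [nat_lit 1] (Ch.cons (nat_lit 79) [nat_lit 3] (Ch.cons (nat_lit 61) [nat_lit 5] (Ch.cons (nat_lit 54) [nat_lit 7] Ch.nil))))) (by decide +kernel)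

theorem nt_c15_eq : (grp 100 EG) ⊓ Subgroup.centralizer {Net.toPerm 100 t_g265} = grp 100 nt_c15_K :=
  cent_eq nt_c15_sym nt_c15_cnt nt_c15_ge

theorem nt_c15_card : Nat.card ↥((grp 100 EG) ⊓ Subgroup.centralizer {Net.toPerm 100 t_g265}) = 720 :=
  card_cent nt_c15_sym nt_c15_cnt nt_c15_ge

theorem nt_c15_ord : orderOf (Net.toPerm 100 t_g265) = 6 :=
  orderOf_net t_hn t_hk t_g265_ok (by decide) (ps := [2, 3]) (by set_option linter.unusedSimpArgs false in simp [Nat.primeFactorsList_ofNat]) (by decide +kernel)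

theorem t_le275 : grp 100 nt_c16_K ≤ grp 100 lb_E :=
  grp_le_of_memB t_hn t_hk lb_E_ok nt_c16_K_ok (ws := [nat_lit 0x2519170e07030f, nat_lit 0x2b13180b220a0b0307, nat_lit 0x312b1f1a13180f0f0c0a0202, nat_lit 0x312f252b0b1208180307]) (by decide +kernel)

theorem nt_c16_le : grp 100 nt_c16_K ≤ (grp 100 EG) :=
  (t_le275.trans T_s0.le)

theorem nt_c16_mem : Net.toPerm 100 t_g271 ∈ (grp 100 EG) :=
  nt_c16_le (toPerm_mem_grp (E := nt_c16_K) (List.Mem.head _))

theorem nt_c16_sym : Sym 100 (grp 100 EG) [t_g271] nt_c16_K 0 :=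
  Sym.of_lab t_hn t_hk (okE_cons.2 ⟨t_g271_ok, okE_nil _⟩) nt_c16_K_ok nt_c16_le (kT := 0) (by decide +kernel)

theorem t_le279 : grp 100 t_V278 ≤ grp 100 t_V224 :=
  grp_le_of_memB t_hn t_hk t_V224_ok t_V278_ok (ws := [nat_lit 514, nat_lit 0x3010101]) (by decide +kernel)

theorem T_s71 : Stab 100 (grp 100 EG) [nat_lit 96, nat_lit 6, nat_lit 81, nat_lit 40, nat_lit 1, nat_lit 0] t_V278 6 :=
  Stab.step (k := 7) (L := (lab 100 7)) t_hn T_s57 t_V278_ok t_le279 (c := (Ch.cons (nat_lit 60) [nat_lit 1] (Ch.cons (nat_lit 71) [nat_lit 3] Ch.nil))) (by decide +kernel)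

theorem T_s72 : Stab 100 (grp 100 EG) [nat_lit 60, nat_lit 96, nat_lit 6, nat_lit 81, nat_lit 40, nat_lit 1, nat_lit 0] t_V280 2 :=
  Stab.step (k := 7) (L := (lab 100 7)) t_hn T_s71 t_V280_ok (grp_mono (List.subset_append_right [t_g276] _)) (c := (Ch.cons (nat_lit 71) [nat_lit 1] Ch.nil)) (by decide +kernel)

theorem T_s73 : Stab 100 (grp 100 EG) [nat_lit 71, nat_lit 60, nat_lit 96, nat_lit 6, nat_lit 81, nat_lit 40, nat_lit 1, nat_lit 0] t_V281 1 :=
  Stab.step (k := 7) (L := (lab 100 7)) t_hn T_s72 t_V281_ok (grp_mono (List.subset_append_right [t_g277] _)) (c := Ch.nil) (by decide +kernel)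

theorem t_g277_T : Net.toPerm 100 t_g277 ∈ (grp 100 EG) :=
  T_s72.le (toPerm_mem_grp (E := t_V280) (List.Mem.head _))

theorem t_g276_T : Net.toPerm 100 t_g276 ∈ (grp 100 EG) :=
  T_s71.le (toPerm_mem_grp (E := t_V278) (List.Mem.head _))

noncomputable def T_s73_O : ℕ := (nat_lit 0x3333266666ccccd99999333321f07c1f03e0f83e0f83e0f83ee63398c67319ce63398c673184db24d926c93649b64db26d9200000000000000000000000010000000000000000000000002000000000000001000000000000002000000000000000000000000000000000000000000040100000000000000000000000000000000010000000000000000000000800000000000000000)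

theorem T_s73_F : Frame 100 (grp 100 EG) 8 12 T_s73_O 1 1 :=
  IsBase.frame T_s73.isBase (by decide +kernel)

noncomputable def nt_c16_cnt_L : List ℕ := [1, 2, T_s1_O, 0, 0, 3, 8, T_s55_O, 0, 0, 5, 25, T_s57_O, 0, 0, 8, 12, T_s73_O, 1, 0]

theorem nt_c16_cnt_P : Prob 100 7 (grp 100 EG) nt_c16_cnt_EG [t_g271] [t_g271] nt_c16_K nt_c16_cnt_L 0 0 :=
  Sym.prob t_hn t_hk nt_c16_sym nt_c16_cnt_EG_ok (grp_cons_le MpHS.a_T (grp_cons_le HSM.g1_T (grp_cons_le HSM.g2_T (grp_cons_le t_g1_T (grp_cons_le t_g2_T (grp_cons_le t_g5_T (grp_cons_le t_g6_T (grp_cons_le t_g9_T (grp_cons_le t_g10_T (grp_cons_le t_g13_T (grp_cons_le t_g14_T (grp_cons_le t_g15_T (grp_cons_le t_g18_T (grp_cons_le t_g19_T (grp_cons_le t_g20_T (grp_cons_le t_g23_T (grp_cons_le t_g24_T (grp_cons_le t_g25_T (grp_cons_le t_g28_T (grp_cons_le t_g29_T (grp_cons_le t_g30_T (grp_cons_le t_g31_T (grp_cons_le t_g34_T (grp_cons_le t_g218_T (grp_cons_le t_g219_T (grp_cons_le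 t_g220_T (grp_cons_le t_g217_T (grp_cons_le t_g277_T (grp_cons_le t_g276_T (grp_nil_le _)))))))))))))))))))))))))))))) (Frames.cons T_s1_F (Frames.cons T_s55_F (Frames.cons T_s57_F (Frames.cons T_s73_F Frames.nil)))) (okE_cons.2 ⟨t_g271_ok, okE_nil _⟩) _

noncomputable def nt_c16_cnt_t : BT := (BT.fix (nat_lit 257) (BT.fix (nat_lit 1) (BT.dif (nat_lit 1) (nat_lit 0) (BT.br (nat_lit 0) (nat_lit 95) [nat_lit 1, nat_lit 3] (BT.kid (nat_lit 95) (nat_lit 18) (BT.img (nat_lit 1) (nat_lit 0) (BT.frm (nat_lit 0) (nat_lit 131603) (nat_lit 131603) [nat_lit 1] (BT.pln (nat_lit 0) (nat_lit 1) (BT.and (nat_lit 4) (nat_lit 0) (BT.frm (nat_lit 1) (nat_lit 0x130808020213) (nat_lit 0x130808020213) [nat_lit 3, nat_lit 0, nat_lit 4] (BT.pln (nat_lit 0) (nat_lit 6) (BT.br (nat_lit 0) (nat_lit 21) [nat_lit 5] (BT.kid (nat_lit 21) (nat_lit 3) (BT.dif (nat_lit 13) (nat_lit 4) (BT.dif (nat_lit 9) (nat_lit 8) (BT.dif (nat_lit 0) (nat_lit 8) (BT.dif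 (nat_lit 0) (nat_lit 7) (BT.frm (nat_lit 2) (nat_lit 0x3632130808020213) (nat_lit 0x3632130808020213) [nat_lit 4, nat_lit 0, nat_lit 10, nat_lit 7, nat_lit 11] (BT.pln (nat_lit 0) (nat_lit 21) (BT.and (nat_lit 5) (nat_lit 0) (BT.br (nat_lit 0) (nat_lit 51) [nat_lit 7] (BT.kid (nat_lit 51) (nat_lit 1) (BT.img (nat_lit 1) (nat_lit 0) (BT.img (nat_lit 1) (nat_lit 9) (BT.one (nat_lit 3) (nat_lit 0x373632130808020213) (nat_lit 0x373632130808020213) [nat_lit 1, nat_lit 2, nat_lit 0, nat_lit 10, nat_lit 6, nat_lit 16, nat_lit 13, nat_lit 17]))) BT.nil))))))))) BT.nil)))))))) BT.nil)))))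

theorem nt_c16_cnt : Cnt 100 (grp 100 EG) [t_g271] [t_g271] 0 0 0 0 72 :=
  BT.sound nt_c16_cnt_P Known.nil (t := nt_c16_cnt_t) (d := 0) (by decide +kernel)

theorem nt_c16_ge : 72 ≤ Nat.card (grp 100 nt_c16_K) :=
  Ch.le_card_grp (k := 7) (L := (lab 100 7)) t_hn nt_c16_K_ok (c := (Ch.cons (nat_lit 95) [nat_lit 1, nat_lit 3] (Ch.cons (nat_lit 21) [nat_lit 5] (Ch.cons (nat_lit 51) [nat_lit 7] Ch.nil)))) (by decide +kernel)

theorem nt_c16_eq : (grp 100 EG) ⊓ Subgroup.centralizer {Net.toPerm 100 t_g271} = grp 100 nt_c16_K :=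
  cent_eq nt_c16_sym nt_c16_cnt nt_c16_ge

theorem nt_c16_card : Nat.card ↥((grp 100 EG) ⊓ Subgroup.centralizer {Net.toPerm 100 t_g271}) = 72 :=
  card_cent nt_c16_sym nt_c16_cnt nt_c16_ge

theorem nt_c16_ord : orderOf (Net.toPerm 100 t_g271) = 6 :=
  orderOf_net t_hn t_hk t_g271_ok (by decide) (ps := [2, 3]) (by set_option linter.unusedSimpArgs false in simp [Nat.primeFactorsList_ofNat]) (by decide +kernel)

theorem t_le286 : grp 100 nt_c17_K ≤ grp 100 lb_E :=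
  grp_le_of_memB t_hn t_hk lb_E_ok nt_c17_K_ok (ws := [nat_lit 0x31251f13180c140a0c010410, nat_lit 0x312f2b0f110b1608090113, nat_lit 0x2f252b19170f11080a0604, nat_lit 0x2f1f1318080307]) (by decide +kernel)

theorem nt_c17_le : grp 100 nt_c17_K ≤ (grp 100 EG) :=
  (t_le286.trans T_s0.le)

theorem nt_c17_mem : Net.toPerm 100 t_g282 ∈ (grp 100 EG) :=
  nt_c17_le (toPerm_mem_grp (E := nt_c17_K) (List.Mem.head _))

theorem nt_c17_sym : Sym 100 (grp 100 EG) [t_g282] nt_c17_K 0 :=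
  Sym.of_lab t_hn t_hk (okE_cons.2 ⟨t_g282_ok, okE_nil _⟩) nt_c17_K_ok nt_c17_le (kT := 0) (by decide +kernel)

noncomputable def nt_c17_cnt_L : List ℕ := [1, 2, T_s1_O, 0, 0, 2, 5, T_s15_O, 0, 0, 6, 19, T_s19_O, 0, 0, 8, 39, T_s21_O, 0, 0, 9, 13, T_s22_O, 1, 0]

theorem nt_c17_cnt_P : Prob 100 7 (grp 100 EG) nt_c17_cnt_EG [t_g282] [t_g282] nt_c17_K nt_c17_cnt_L 0 0 :=
  Sym.prob t_hn t_hk nt_c17_sym nt_c17_cnt_EG_ok (grp_cons_le MpHS.a_T (grp_cons_le HSM.g1_T (grp_cons_le HSM.g2_T (grp_cons_le t_g1_T (grp_cons_le t_g2_T (grp_cons_le t_g5_T (grp_cons_le t_g6_T (grp_cons_le t_g9_T (grp_cons_le t_g10_T (grp_cons_le t_g13_T (grp_cons_le t_g14_T (grp_cons_le t_g15_T (grp_cons_le t_g18_T (grp_cons_le t_g19_T (grp_cons_le t_g20_T (grp_cons_le t_g23_T (grp_cons_le t_g24_T (grp_cons_le t_g25_T (grp_cons_le t_g28_T (grp_cons_le t_g29_T (grp_cons_le t_g30_T (grp_cons_le t_g31_T (grp_cons_le t_g34_T (grp_cons_le t_g89_T (grp_cons_le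 t_g90_T (grp_cons_le t_g91_T (grp_cons_le t_g92_T (grp_cons_le t_g93_T (grp_cons_le t_g88_T (grp_cons_le t_g87_T (grp_cons_le t_g86_T (grp_nil_le _)))))))))))))))))))))))))))))))) (Frames.cons T_s1_F (Frames.cons T_s15_F (Frames.cons T_s19_F (Frames.cons T_s21_F (Frames.cons T_s22_F Frames.nil))))) (okE_cons.2 ⟨t_g282_ok, okE_nil _⟩) _

noncomputable def nt_c17_cnt_t : BT := (BT.fix (nat_lit 257) (BT.br (nat_lit 0) (nat_lit 95) [nat_lit 1, nat_lit 3] (BT.dead (nat_lit 50) (BT.frm (nat_lit 0) (nat_lit 131603) (nat_lit 268) [nat_lit 0] (BT.pln (nat_lit 0) (nat_lit 1) (BT.img (nat_lit 1) (nat_lit 2) (BT.and (nat_lit 1) (nat_lit 0) (BT.cnt (nat_lit 0)))))) (BT.kid (nat_lit 95) (nat_lit 12) (BT.img (nat_lit 1) (nat_lit 0) (BT.frm (nat_lit 1) (nat_lit 0x80c020213) (nat_lit 0x80c020213) [nat_lit 0, nat_lit 1] (BT.pln (nat_lit 0) (nat_lit 4) (BT.br (nat_lit 0) (nat_lit 36) [nat_lit 5] (BT.kid (nat_lit 36) (nat_lit 2) (BT.img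 (nat_lit 1) (nat_lit 0) (BT.img (nat_lit 1) (nat_lit 0) (BT.img (nat_lit 1) (nat_lit 0) (BT.frm (nat_lit 2) (nat_lit 0x2f393c3d3c080c020213) (nat_lit 0x2f393c3d3c080c020213) [nat_lit 0, nat_lit 1, nat_lit 2, nat_lit 3, nat_lit 6, nat_lit 7] (BT.pln (nat_lit 0) (nat_lit 14) (BT.br (nat_lit 0) (nat_lit 82) [nat_lit 7] (BT.dead (nat_lit 55) (BT.img (nat_lit 1) (nat_lit 3) (BT.frm (nat_lit 3) (nat_lit 0x312f393c3d3c080c020213) (nat_lit 0x3335312f393c3d3c080c020213) [nat_lit 1, nat_lit 0, nat_lit 4, nat_lit 5, nat_lit 6, nat_lit 7, nat_lit 10, nat_lit 11] (BT.pln (nat_lit 0) (nat_lit 8) (BT.and (nat_lit 0) (nat_lit 14) (BT.cnt (nat_lit 0)))))) (BT.kid (nat_lit 82) (nat_lit 1) (BT.img (nat_lit 1) (nat_lit 0) (BT.img (nat_lit 1) (nat_lit 4) (BT.one (nat_lit 4) (nat_lit 0x23312f393c3d3c080c020213) (nat_lit 0x23312f393c3d3c080c020213) [nat_lit 1, nat_lit 2, nat_lit 0, nat_lit 5, nat_lit 6, nat_lit 7, nat_lit 8, nat_lit 11, nat_lit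 12]))) BT.nil)))))))) BT.nil))))) BT.nil))))

theorem nt_c17_cnt : Cnt 100 (grp 100 EG) [t_g282] [t_g282] 0 0 0 0 72 :=
  BT.sound nt_c17_cnt_P Known.nil (t := nt_c17_cnt_t) (d := 0) (by decide +kernel)

theorem nt_c17_ge : 72 ≤ Nat.card (grp 100 nt_c17_K) :=
  Ch.le_card_grp (k := 7) (L := (lab 100 7)) t_hn nt_c17_K_ok (c := (Ch.cons (nat_lit 95) [nat_lit 1, nat_lit 3] (Ch.cons (nat_lit 36) [nat_lit 5] (Ch.cons (nat_lit 82) [nat_lit 7] Ch.nil)))) (by decide +kernel)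

theorem nt_c17_eq : (grp 100 EG) ⊓ Subgroup.centralizer {Net.toPerm 100 t_g282} = grp 100 nt_c17_K :=
  cent_eq nt_c17_sym nt_c17_cnt nt_c17_ge

theorem nt_c17_card : Nat.card ↥((grp 100 EG) ⊓ Subgroup.centralizer {Net.toPerm 100 t_g282}) = 72 :=
  card_cent nt_c17_sym nt_c17_cnt nt_c17_ge

theorem nt_c17_ord : orderOf (Net.toPerm 100 t_g282) = 6 :=
  orderOf_net t_hn t_hk t_g282_ok (by decide) (ps := [2, 3]) (by set_option linter.unusedSimpArgs false in simp [Nat.primeFactorsList_ofNat]) (by decide +kernel)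

theorem t_le291 : grp 100 nt_c18_K ≤ grp 100 lb_E :=
  grp_le_of_memB t_hn t_hk lb_E_ok nt_c18_K_ok (ws := [nat_lit 0x2f252b1f130711031b, nat_lit 0x311f1a0f0f0b2208180112, nat_lit 0x31251f1a17100b0d070d010a, nat_lit 0x2f252b1f130c070d08051d]) (by decide +kernel)

theorem nt_c18_le : grp 100 nt_c18_K ≤ (grp 100 EG) :=
  (t_le291.trans T_s0.le)

theorem nt_c18_mem : Net.toPerm 100 t_g287 ∈ (grp 100 EG) :=
  nt_c18_le (toPerm_mem_grp (E := nt_c18_K) (List.Mem.tail _ (List.Mem.head _)))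

theorem nt_c18_sym : Sym 100 (grp 100 EG) [t_g287] nt_c18_K 0 :=
  Sym.of_lab t_hn t_hk (okE_cons.2 ⟨t_g287_ok, okE_nil _⟩) nt_c18_K_ok nt_c18_le (kT := 0) (by decide +kernel)

theorem t_le295 : grp 100 t_V294 ≤ grp 100 t_V195 :=
  grp_le_of_memB t_hn t_hk t_V195_ok t_V294_ok (ws := [nat_lit 1284, nat_lit 769]) (by decide +kernel)

theorem T_s74 : Stab 100 (grp 100 EG) [nat_lit 23, nat_lit 80, nat_lit 7, nat_lit 93, nat_lit 89, nat_lit 0] t_V294 4 :=
  Stab.step (k := 7) (L := (lab 100 7)) t_hn T_s47 t_V294_ok t_le295 (c := (Ch.cons (nat_lit 48) [nat_lit 1] (Ch.cons (nat_lit 3) [nat_lit 3] Ch.nil))) (by decide +kernel)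

theorem T_s75 : Stab 100 (grp 100 EG) [nat_lit 48, nat_lit 23, nat_lit 80, nat_lit 7, nat_lit 93, nat_lit 89, nat_lit 0] t_V296 2 :=
  Stab.step (k := 7) (L := (lab 100 7)) t_hn T_s74 t_V296_ok (grp_mono (List.subset_append_right [t_g292] _)) (c := (Ch.cons (nat_lit 3) [nat_lit 1] Ch.nil)) (by decide +kernel)

theorem T_s76 : Stab 100 (grp 100 EG) [nat_lit 3, nat_lit 48, nat_lit 23, nat_lit 80, nat_lit 7, nat_lit 93, nat_lit 89, nat_lit 0] t_V297 1 :=
  Stab.step (k := 7) (L := (lab 100 7)) t_hn T_s75 t_V297_ok (grp_mono (List.subset_append_right [t_g293] _)) (c := Ch.nil) (by decide +kernel)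

theorem t_g292_T : Net.toPerm 100 t_g292 ∈ (grp 100 EG) :=
  T_s74.le (toPerm_mem_grp (E := t_V294) (List.Mem.head _))

theorem t_g293_T : Net.toPerm 100 t_g293 ∈ (grp 100 EG) :=
  T_s74.le (toPerm_mem_grp (E := t_V294) (List.Mem.tail _ (List.Mem.head _)))

noncomputable def T_s76_O : ℕ := (nat_lit 0x3333266666ccccd99999333321f07c1f03e0f83e0f83e0f83ee63398c67319ce63398c673184db24d926c93649b64db26d9200000000000000000000000010020000000000000000000000020000000000000000000000000000000000000000000000800000100000000000000000000000000000000000000080000000000000000010000000000000000000000000000000000008)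

theorem T_s76_F : Frame 100 (grp 100 EG) 8 12 T_s76_O 1 1 :=
  IsBase.frame T_s76.isBase (by decide +kernel)

noncomputable def T_s75_O : ℕ := (nat_lit 0x4000000000000000000000000040000000000000000000000000100000000000000000000000000800000000000000000000000008000000000000000000000000200000000000000000000000004000000000000000000000000080000000000000000000000000080000000000000000000000000080000000000000000000000004000000000000000000000000100000000000000000000000004000000000000000000000000010000000000000000000000000100000000000000000000000001000000000000000000000000020000000000000000000000000020000000000000000000000000200000000000000000000000004000000000000000000000000200000000000000000000000000800000000000000000000000004001400000000000000000000000006000000000000000000000000100040000000000000000020000000100000000000000000000000102000000000000000000000008100000000000000008000000008000000000000000000400000400000000000000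000000200020000000000000000000000200008000000000000000000000002080000000000000000000000804000000000000000000001000040000000000008000000000000800000000000000100000000008000000000000000000000001400000000000010000000000020000000100000000000000001000000000000000000004000080000000000040000000000004000000000000000000000040100000080000000000000000004000000000000200000000000100000000000004000000000008000000000000040000000000100000000200000000000000004000008000000000000000000200000000000000000000000084000000000000000002000000200000000000002000000000010000000000000000200000000200000008000000000000000010000000000000020000000000800000000000000080000000040000000000000000000000001002000000000000000000000002000000000000000000000000000000000000000000000080000010000000000000000000000000000000000000008000000000000000001000000000000)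

theorem T_s75_F : Frame 100 (grp 100 EG) 7 64 T_s75_O 0 1 :=
  Stab.frame t_hn T_s75 (by decide +kernel)

noncomputable def nt_c18_cnt_L : List ℕ := [1, 2, T_s1_O, 0, 0, 3, 8, T_s30_O, 0, 0, 7, 64, T_s75_O, 0, 0, 8, 12, T_s76_O, 1, 0]

theorem nt_c18_cnt_P : Prob 100 7 (grp 100 EG) nt_c18_cnt_EG [t_g287] [t_g287] nt_c18_K nt_c18_cnt_L 0 0 :=
  Sym.prob t_hn t_hk nt_c18_sym nt_c18_cnt_EG_ok (grp_cons_le MpHS.a_T (grp_cons_le HSM.g1_T (grp_cons_le HSM.g2_T (grp_cons_le t_g1_T (grp_cons_le t_g2_T (grp_cons_le t_g5_T (grp_cons_le t_g6_T (grp_cons_le t_g9_T (grp_cons_le t_g10_T (grp_cons_le t_g13_T (grp_cons_le t_g14_T (grp_cons_le t_g15_T (grp_cons_le t_g18_T (grp_cons_le t_g19_T (grp_cons_le t_g20_T (grp_cons_le t_g23_T (grp_cons_le t_g24_T (grp_cons_le t_g25_T (grp_cons_le t_g28_T (grp_cons_le t_g29_T (grp_cons_le t_g30_T (grp_cons_le t_g31_T (grp_cons_le t_g34_T (grp_cons_le t_g86_T (grp_cons_le t_g87_T (grp_cons_le t_g88_T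 (grp_cons_le t_g89_T (grp_cons_le t_g90_T (grp_cons_le t_g91_T (grp_cons_le t_g92_T (grp_cons_le t_g93_T (grp_cons_le t_g292_T (grp_cons_le t_g293_T (grp_cons_le t_g192_T (grp_cons_le t_g193_T (grp_cons_le t_g194_T (grp_cons_le t_g134_T (grp_cons_le t_g135_T (grp_cons_le t_g136_T (grp_cons_le t_g137_T (grp_cons_le t_g133_T (grp_nil_le _)))))))))))))))))))))))))))))))))))))))))) (Frames.cons T_s1_F (Frames.cons T_s30_F (Frames.cons T_s75_F (Frames.cons T_s76_F Frames.nil)))) (okE_cons.2 ⟨t_g287_ok, okE_nil _⟩) _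

noncomputable def nt_c18_cnt_t : BT := (BT.fix (nat_lit 1) (BT.br (nat_lit 0) (nat_lit 87) [nat_lit 1] (BT.kid (nat_lit 87) (nat_lit 24) (BT.frm (nat_lit 0) (nat_lit 1301) (nat_lit 1301) [nat_lit 0] (BT.pln (nat_lit 0) (nat_lit 1) (BT.fix (nat_lit 65793) (BT.dif (nat_lit 1) (nat_lit 0) (BT.fix (nat_lit 257) (BT.dif (nat_lit 1) (nat_lit 0) (BT.br (nat_lit 0) (nat_lit 18) [nat_lit 3, nat_lit 5] (BT.kid (nat_lit 18) (nat_lit 2) (BT.dif (nat_lit 11) (nat_lit 5) (BT.dif (nat_lit 0) (nat_lit 5) (BT.img (nat_lit 1) (nat_lit 2) (BT.img (nat_lit 1) (nat_lit 0) (BT.dif (nat_lit 12) (nat_lit 11) (BT.frm (nat_lit 1) (nat_lit 0x31070b220515) (nat_lit 0x31070b220515) [nat_lit 5, nat_lit 0, nat_lit 12] (BT.pln (nat_lit 0) (nat_lit 7) (BT.and (nat_lit 9) (nat_lit 0) (BT.img (nat_lit 1) (nat_lit 0) (BT.and (nat_lit 11) (nat_lit 0) (BT.frm (nat_lit 2) (nat_lit 0x434e31070b220515) (nat_lit 0x434e31070b220515) [nat_lit 6, nat_lit 7, nat_lit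 2, nat_lit 0, nat_lit 10, nat_lit 5, nat_lit 17] (BT.pln (nat_lit 0) (nat_lit 8) (BT.and (nat_lit 10) (nat_lit 0) (BT.br (nat_lit 0) (nat_lit 72) [nat_lit 7] (BT.kid (nat_lit 72) (nat_lit 1) (BT.one (nat_lit 3) (nat_lit 0x41434e31070b220515) (nat_lit 0x41434e31070b220515) [nat_lit 0, nat_lit 10, nat_lit 11, nat_lit 6, nat_lit 4, nat_lit 14, nat_lit 9, nat_lit 21]) BT.nil))))))))))))))) BT.nil)))))))) BT.nil)))

theorem nt_c18_cnt : Cnt 100 (grp 100 EG) [t_g287] [t_g287] 0 0 0 0 48 :=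
  BT.sound nt_c18_cnt_P Known.nil (t := nt_c18_cnt_t) (d := 0) (by decide +kernel)

theorem nt_c18_ge : 48 ≤ Nat.card (grp 100 nt_c18_K) :=
  Ch.le_card_grp (k := 7) (L := (lab 100 7)) t_hn nt_c18_K_ok (c := (Ch.cons (nat_lit 87) [nat_lit 1] (Ch.cons (nat_lit 18) [nat_lit 3, nat_lit 5] (Ch.cons (nat_lit 72) [nat_lit 7] Ch.nil)))) (by decide +kernel)

theorem nt_c18_eq : (grp 100 EG) ⊓ Subgroup.centralizer {Net.toPerm 100 t_g287} = grp 100 nt_c18_K :=
  cent_eq nt_c18_sym nt_c18_cnt nt_c18_ge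

theorem nt_c18_card : Nat.card ↥((grp 100 EG) ⊓ Subgroup.centralizer {Net.toPerm 100 t_g287}) = 48 :=
  card_cent nt_c18_sym nt_c18_cnt nt_c18_ge

theorem nt_c18_ord : orderOf (Net.toPerm 100 t_g287) = 6 :=
  orderOf_net t_hn t_hk t_g287_ok (by decide) (ps := [2, 3]) (by set_option linter.unusedSimpArgs false in simp [Nat.primeFactorsList_ofNat]) (by decide +kernel)

theorem t_le303 : grp 100 nt_c19_K ≤ grp 100 lb_E :=
  grp_le_of_memB t_hn t_hk lb_E_ok nt_c19_K_ok (ws := [nat_lit 0x2f252b1f19130f110b0b01, nat_lit 0x312f2b1f13180f0b12080901, nat_lit 0x312f252b1a13180b1a09, nat_lit 0x250f0b0d08010316, nat_lit 0x31251f170c14070e031b]) (by decide +kernel)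

theorem nt_c19_le : grp 100 nt_c19_K ≤ (grp 100 EG) :=
  (t_le303.trans T_s0.le)

theorem nt_c19_mem : Net.toPerm 100 t_g298 ∈ (grp 100 EG) :=
  nt_c19_le (toPerm_mem_grp (E := nt_c19_K) (List.Mem.head _))

theorem nt_c19_sym : Sym 100 (grp 100 EG) [t_g298] nt_c19_K 0 :=
  Sym.of_lab t_hn t_hk (okE_cons.2 ⟨t_g298_ok, okE_nil _⟩) nt_c19_K_ok nt_c19_le (kT := 0) (by decide +kernel)

theorem t_le309 : grp 100 t_V308 ≤ grp 100 t_V118 :=
  grp_le_of_memB t_hn t_hk t_V118_ok t_V308_ok (ws := [nat_lit 0xb09070501, nat_lit 9, nat_lit 591105, nat_lit 0x7060306, nat_lit 0xb0705030601, nat_lit 722177]) (by decide +kernel)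

theorem T_s77 : Stab 100 (grp 100 EG) [nat_lit 29, nat_lit 78, nat_lit 89, nat_lit 0] t_V308 64 :=
  Stab.step (k := 7) (L := (lab 100 7)) t_hn T_s23 t_V308_ok t_le309 (c := (Ch.cons (nat_lit 32) [nat_lit 1] (Ch.cons (nat_lit 39) [nat_lit 3, nat_lit 5] (Ch.cons (nat_lit 64) [nat_lit 7, nat_lit 9] (Ch.cons (nat_lit 38) [nat_lit 11] Ch.nil))))) (by decide +kernel)

theorem T_s78 : Stab 100 (grp 100 EG) [nat_lit 32, nat_lit 29, nat_lit 78, nat_lit 89, nat_lit 0] t_V310 32 :=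
  Stab.step (k := 7) (L := (lab 100 7)) t_hn T_s77 t_V310_ok (grp_mono (List.subset_append_right [t_g304] _)) (c := (Ch.cons (nat_lit 39) [nat_lit 1, nat_lit 3] (Ch.cons (nat_lit 64) [nat_lit 5, nat_lit 7] (Ch.cons (nat_lit 38) [nat_lit 9] Ch.nil)))) (by decide +kernel)

theorem T_s79 : Stab 100 (grp 100 EG) [nat_lit 39, nat_lit 32, nat_lit 29, nat_lit 78, nat_lit 89, nat_lit 0] t_V311 8 :=
  Stab.step (k := 7) (L := (lab 100 7)) t_hn T_s78 t_V311_ok (grp_mono (List.subset_append_right [t_g72, t_g305] _)) (c := (Ch.cons (nat_lit 64) [nat_lit 1, nat_lit 3] (Ch.cons (nat_lit 38) [nat_lit 5] Ch.nil))) (by decide +kernel)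

theorem T_s80 : Stab 100 (grp 100 EG) [nat_lit 64, nat_lit 39, nat_lit 32, nat_lit 29, nat_lit 78, nat_lit 89, nat_lit 0] t_V312 2 :=
  Stab.step (k := 7) (L := (lab 100 7)) t_hn T_s79 t_V312_ok (grp_mono (List.subset_append_right [t_g25, t_g306] _)) (c := (Ch.cons (nat_lit 38) [nat_lit 1] Ch.nil)) (by decide +kernel)

theorem T_s81 : Stab 100 (grp 100 EG) [nat_lit 38, nat_lit 64, nat_lit 39, nat_lit 32, nat_lit 29, nat_lit 78, nat_lit 89, nat_lit 0] t_V313 1 :=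
  Stab.step (k := 7) (L := (lab 100 7)) t_hn T_s80 t_V313_ok (grp_mono (List.subset_append_right [t_g307] _)) (c := Ch.nil) (by decide +kernel)

theorem t_g305_T : Net.toPerm 100 t_g305 ∈ (grp 100 EG) :=
  T_s78.le (toPerm_mem_grp (E := t_V310) (List.Mem.tail _ (List.Mem.head _)))

theorem t_g306_T : Net.toPerm 100 t_g306 ∈ (grp 100 EG) :=
  T_s78.le (toPerm_mem_grp (E := t_V310) (List.Mem.tail _ (List.Mem.tail _ (List.Mem.tail _ (List.Mem.head _)))))

theorem t_g307_T : Net.toPerm 100 t_g307 ∈ (grp 100 EG) :=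
  T_s78.le (toPerm_mem_grp (E := t_V310) (List.Mem.tail _ (List.Mem.tail _ (List.Mem.tail _ (List.Mem.tail _ (List.Mem.head _))))))

theorem t_g304_T : Net.toPerm 100 t_g304 ∈ (grp 100 EG) :=
  T_s77.le (toPerm_mem_grp (E := t_V308) (List.Mem.head _))

noncomputable def T_s81_O : ℕ := (nat_lit 0x3333266666ccccd99999333321f07c1f03e0f83e0f83e0f83ee63398c67319ce63398c673184db24d926c93649b64db26d9200000000000000000000000010020000000000000000000000000004000000000000000000000000000000000000200000000000000000000000100000000000000000000000800000000000000000100000000000000000000000000000004000000000)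

theorem T_s81_F : Frame 100 (grp 100 EG) 8 12 T_s81_O 1 1 :=
  IsBase.frame T_s81.isBase (by decide +kernel)

noncomputable def T_s80_O : ℕ := (nat_lit 0x8000000000000000000000000400000000000000000000000000800000000000000000000000010000000000000000000000000800000000000000000000000010000000000000000000000000100000000000000000000000008000000000000000000000000040000000000000000000000002000000000000000000000000040000000000000000000000000100000000000000000000000002000000000000000000000000000001000000000000000000000000040000000000000000000000000080000000000000000000000004000000000000000000000000080000000000000000000000000100000000000000000000000004000000000000000000000000100000000000000000000000008000000000000000000000000008000000410000000000000000020000000800000000000000000010000020000000000000000000000200400000000000000040000000020000000000000000000200000800000000000000000000080008000000000000002000000000100000000000001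00000000000400000000000080000000000020000000000000000000000001800000000000000000000000810000000000000004000000000800000000000000080000000040000000000000000000004002000000000000040000000000100000000000000001000000004000000000004000000000000008000000000000000000002000400000000000000000000000210000000000000000002000000200000000000000000000008010000000080000000000000000400000000000000000000000018000000020000000000000000400000100000000000000000008000000000000040000000000200000000000001000000000004000000000000000000000020200000000000800000000000010000000000000000000002000800000000000000002000000040000002000000000000000002000000000000004000000000100000000000000000000000001002000000000000000000000000000400000000000000000000000000000000000020000000000000000000000010000000000000000000000080000000000000000010000000000000000)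

theorem T_s80_F : Frame 100 (grp 100 EG) 7 64 T_s80_O 0 1 :=
  Stab.frame t_hn T_s80 (by decide +kernel)

noncomputable def T_s79_O : ℕ := (nat_lit 0x1000000000000000000000000000040000000000000000000000000000000000000010000000000000000000000000008080000800000000000000000000080000002000000000000000000000800080000000000000800000000000200000000000000400000000000000800000000000000000000200040000000000001000000000000400000000000000000000004000100000000000000000000008004000000000000040000000000200000008000000000000000008000000000000100000000000400000000000000000000000000604001000110000000000000001010000020004000000000000000000000000180021000000000000002400000010008000000200000000010000000180000000200000004002000004000020000000800000000002000800004020000000010000000020008040200400008080140000000000841080000400000203004000000002028102002000040000000000000000000000000100200000000000000000000000000040000000000000000000000000000000000002000000000000000000000001000000000000000000000008000000000)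

theorem T_s79_F : Frame 100 (grp 100 EG) 6 34 T_s79_O 0 1 :=
  Stab.frame t_hn T_s79 (by decide +kernel)

noncomputable def nt_c19_cnt_L : List ℕ := [1, 2, T_s1_O, 0, 0, 3, 12, T_s23_O, 0, 0, 6, 34, T_s79_O, 0, 0, 7, 64, T_s80_O, 0, 0, 8, 12, T_s81_O, 1, 0]

theorem nt_c19_cnt_P : Prob 100 7 (grp 100 EG) nt_c19_cnt_EG [t_g298] [t_g298] nt_c19_K nt_c19_cnt_L 0 0 :=
  Sym.prob t_hn t_hk nt_c19_sym nt_c19_cnt_EG_ok (grp_cons_le MpHS.a_T (grp_cons_le HSM.g1_T (grp_cons_le HSM.g2_T (grp_cons_le t_g1_T (grp_cons_le t_g2_T (grp_cons_le t_g5_T (grp_cons_le t_g6_T (grp_cons_le t_g9_T (grp_cons_le t_g10_T (grp_cons_le t_g13_T (grp_cons_le t_g14_T (grp_cons_le t_g15_T (grp_cons_le t_g18_T (grp_cons_le t_g19_T (grp_cons_le t_g20_T (grp_cons_le t_g23_T (grp_cons_le t_g24_T (grp_cons_le t_g25_T (grp_cons_le t_g28_T (grp_cons_le t_g29_T (grp_cons_le t_g30_T (grp_cons_le t_g31_T (grp_cons_le t_g34_T (grp_cons_le t_g86_T (grp_cons_le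 t_g87_T (grp_cons_le t_g88_T (grp_cons_le t_g89_T (grp_cons_le t_g90_T (grp_cons_le t_g91_T (grp_cons_le t_g92_T (grp_cons_le t_g93_T (grp_cons_le t_g72_T (grp_cons_le t_g305_T (grp_cons_le t_g306_T (grp_cons_le t_g307_T (grp_cons_le t_g304_T (grp_cons_le t_g113_T (grp_cons_le t_g114_T (grp_cons_le t_g115_T (grp_cons_le t_g116_T (grp_cons_le t_g117_T (grp_nil_le _)))))))))))))))))))))))))))))))))))))))))) (Frames.cons T_s1_F (Frames.cons T_s23_F (Frames.cons T_s79_F (Frames.cons T_s80_F (Frames.cons T_s81_F Frames.nil))))) (okE_cons.2 ⟨t_g298_ok, okE_nil _⟩) _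

noncomputable def nt_c19_cnt_t : BT := (BT.fix (nat_lit 65793) (BT.br (nat_lit 0) (nat_lit 73) [nat_lit 3] (BT.kid (nat_lit 73) (nat_lit 8) (BT.dif (nat_lit 1) (nat_lit 0) (BT.img (nat_lit 1) (nat_lit 1) (BT.img (nat_lit 1) (nat_lit 0) (BT.frm (nat_lit 1) (nat_lit 0x2f37090e050c) (nat_lit 0x2f37090e050c) [nat_lit 0, nat_lit 1, nat_lit 3] (BT.pln (nat_lit 0) (nat_lit 10) (BT.and (nat_lit 4) (nat_lit 0) (BT.br (nat_lit 0) (nat_lit 25) [] (BT.dead (nat_lit 65) (BT.frm (nat_lit 0) (nat_lit 1292) (nat_lit 1292) [nat_lit 7] (BT.pln (nat_lit 0) (nat_lit 1) (BT.pln (nat_lit 5) (nat_lit 7) (BT.and (nat_lit 1) (nat_lit 0) (BT.br (nat_lit 0) (nat_lit 44) [nat_lit 5, nat_lit 7] (BT.dead (nat_lit 44) (BT.img (nat_lit 1) (nat_lit 5) (BT.frm (nat_lit 2) (nat_lit 0x3f414a2f37090e050c) (nat_lit 0x3f41492f37090e050c) [nat_lit 1, nat_lit 0, nat_lit 6, nat_lit 10, nat_lit 11, nat_lit 13] (BT.pln (nat_lit 0) (nat_lit 31) (BT.img (nat_lit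 1) (nat_lit 3) (BT.img (nat_lit 1) (nat_lit 0) (BT.img (nat_lit 1) (nat_lit 0) (BT.and (nat_lit 3) (nat_lit 0) (BT.cnt (nat_lit 0))))))))) BT.nil)))))) (BT.dead (nat_lit 32) (BT.frm (nat_lit 0) (nat_lit 1292) (nat_lit 1292) [nat_lit 7] (BT.pln (nat_lit 0) (nat_lit 1) (BT.pln (nat_lit 5) (nat_lit 7) (BT.and (nat_lit 1) (nat_lit 0) (BT.br (nat_lit 0) (nat_lit 44) [nat_lit 5, nat_lit 7] (BT.dead (nat_lit 44) (BT.img (nat_lit 1) (nat_lit 5) (BT.frm (nat_lit 2) (nat_lit 0x3f414a2f37090e050c) (nat_lit 0x3f412f37090e050c) [nat_lit 1, nat_lit 0, nat_lit 6, nat_lit 10, nat_lit 11, nat_lit 13] (BT.pln (nat_lit 0) (nat_lit 31) (BT.img (nat_lit 1) (nat_lit 3) (BT.img (nat_lit 1) (nat_lit 0) (BT.img (nat_lit 1) (nat_lit 0) (BT.and (nat_lit 3) (nat_lit 0) (BT.cnt (nat_lit 0))))))))) BT.nil)))))) (BT.kid (nat_lit 25) (nat_lit 8) (BT.frm (nat_lit 0) (nat_lit 1292) (nat_lit 1292) [nat_lit 7] (BT.pln (nat_lit 0) (nat_lit 1) (BT.pln (nat_lit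 5) (nat_lit 7) (BT.and (nat_lit 1) (nat_lit 0) (BT.br (nat_lit 0) (nat_lit 44) [nat_lit 5, nat_lit 7] (BT.kid (nat_lit 44) (nat_lit 2) (BT.img (nat_lit 1) (nat_lit 0) (BT.img (nat_lit 1) (nat_lit 6) (BT.frm (nat_lit 3) (nat_lit 0x233f414a2f37090e050c) (nat_lit 0x233f414a2f37090e050c) [nat_lit 1, nat_lit 2, nat_lit 0, nat_lit 7, nat_lit 11, nat_lit 12, nat_lit 14] (BT.pln (nat_lit 0) (nat_lit 24) (BT.br (nat_lit 0) (nat_lit 16) [nat_lit 9] (BT.kid (nat_lit 16) (nat_lit 1) (BT.one (nat_lit 4) (nat_lit 0x45233f414a2f37090e050c) (nat_lit 0x45233f414a2f37090e050c) [nat_lit 0, nat_lit 4, nat_lit 5, nat_lit 3, nat_lit 10, nat_lit 14, nat_lit 15, nat_lit 17]) BT.nil)))))) BT.nil)))))) BT.nil)))))))))) BT.nil)))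

theorem nt_c19_cnt : Cnt 100 (grp 100 EG) [t_g298] [t_g298] 0 0 0 0 48 :=
  BT.sound nt_c19_cnt_P Known.nil (t := nt_c19_cnt_t) (d := 0) (by decide +kernel)

theorem nt_c19_ge : 48 ≤ Nat.card (grp 100 nt_c19_K) :=
  Ch.le_card_grp (k := 7) (L := (lab 100 7)) t_hn nt_c19_K_ok (c := (Ch.cons (nat_lit 73) [nat_lit 1, nat_lit 3] (Ch.cons (nat_lit 44) [nat_lit 5, nat_lit 7] (Ch.cons (nat_lit 16) [nat_lit 9] Ch.nil)))) (by decide +kernel)

theorem nt_c19_eq : (grp 100 EG) ⊓ Subgroup.centralizer {Net.toPerm 100 t_g298} = grp 100 nt_c19_K :=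
  cent_eq nt_c19_sym nt_c19_cnt nt_c19_ge

theorem nt_c19_card : Nat.card ↥((grp 100 EG) ⊓ Subgroup.centralizer {Net.toPerm 100 t_g298}) = 48 :=
  card_cent nt_c19_sym nt_c19_cnt nt_c19_ge

theorem nt_c19_ord : orderOf (Net.toPerm 100 t_g298) = 6 :=
  orderOf_net t_hn t_hk t_g298_ok (by decide) (ps := [2, 3]) (by set_option linter.unusedSimpArgs false in simp [Nat.primeFactorsList_ofNat]) (by decide +kernel)

theorem t_le316 : grp 100 nt_c20_K ≤ grp 100 lb_E :=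
  grp_le_of_memB t_hn t_hk lb_E_ok nt_c20_K_ok (ws := [nat_lit 0x2f252b1f170f110b1a080408, nat_lit 0x13180b0d0801030f]) (by decide +kernel)

theorem nt_c20_le : grp 100 nt_c20_K ≤ (grp 100 EG) :=
  (t_le316.trans T_s0.le)

theorem nt_c20_mem : Net.toPerm 100 t_g314 ∈ (grp 100 EG) :=
  nt_c20_le (toPerm_mem_grp (E := nt_c20_K) (List.Mem.head _))

theorem nt_c20_sym : Sym 100 (grp 100 EG) [t_g314] nt_c20_K 0 :=
  Sym.of_lab t_hn t_hk (okE_cons.2 ⟨t_g314_ok, okE_nil _⟩) nt_c20_K_ok nt_c20_le (kT := 0) (by decide +kernel)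

theorem t_le318 : grp 100 t_V317 ≤ grp 100 t_V70 :=
  grp_le_of_memB t_hn t_hk t_V70_ok t_V317_ok (ws := [nat_lit 1]) (by decide +kernel)

theorem T_s82 : Stab 100 (grp 100 EG) [nat_lit 24, nat_lit 32, nat_lit 29, nat_lit 3, nat_lit 2, nat_lit 1, nat_lit 0] t_V317 2 :=
  Stab.step (k := 7) (L := (lab 100 7)) t_hn T_s10 t_V317_ok t_le318 (c := (Ch.cons (nat_lit 96) [nat_lit 1] Ch.nil)) (by decide +kernel)

theorem T_s83 : Stab 100 (grp 100 EG) [nat_lit 96, nat_lit 24, nat_lit 32, nat_lit 29, nat_lit 3, nat_lit 2, nat_lit 1, nat_lit 0] t_V319 1 :=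
  Stab.step (k := 7) (L := (lab 100 7)) t_hn T_s82 t_V319_ok (grp_mono (List.subset_append_right [t_g23] _)) (c := Ch.nil) (by decide +kernel)

noncomputable def T_s83_O : ℕ := (nat_lit 0x3333266666ccccd99999333321f07c1f03e0f83e0f83e0f83ee63398c67319ce63398c673184db24d926c93649b64db26d9200000000000000000000000010000000000000000000000002000000000000000000000000400000000000000000000000080000000000000000020000000000000000000000010000000000000000000000000010000001000000000000000000000000)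

theorem T_s83_F : Frame 100 (grp 100 EG) 8 12 T_s83_O 1 1 :=
  IsBase.frame T_s83.isBase (by decide +kernel)

noncomputable def nt_c20_cnt_L : List ℕ := [1, 2, T_s1_O, 0, 0, 2, 4, T_s2_O, 0, 0, 3, 7, T_s3_O, 0, 0, 8, 12, T_s83_O, 1, 0]

theorem nt_c20_cnt_P : Prob 100 7 (grp 100 EG) nt_c20_cnt_EG [t_g314] [t_g314] nt_c20_K nt_c20_cnt_L 0 0 :=
  Sym.prob t_hn t_hk nt_c20_sym nt_c20_cnt_EG_ok (grp_cons_le MpHS.a_T (grp_cons_le HSM.g1_T (grp_cons_le HSM.g2_T (grp_cons_le t_g1_T (grp_cons_le t_g2_T (grp_cons_le t_g5_T (grp_cons_le t_g6_T (grp_cons_le t_g9_T (grp_cons_le t_g10_T (grp_cons_le t_g13_T (grp_cons_le t_g14_T (grp_cons_le t_g15_T (grp_cons_le t_g18_T (grp_cons_le t_g19_T (grp_cons_le t_g20_T (grp_cons_le t_g23_T (grp_cons_le t_g24_T (grp_cons_le t_g25_T (grp_cons_le t_g28_T (grp_cons_le t_g29_T (grp_cons_le t_g30_T (grp_cons_le t_g31_T (grp_cons_le t_g34_T (grp_nil_le _)))))))))))))))))))))))) (Frames.cons T_s1_F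 (Frames.cons T_s2_F (Frames.cons T_s3_F (Frames.cons T_s83_F Frames.nil)))) (okE_cons.2 ⟨t_g314_ok, okE_nil _⟩) _

noncomputable def nt_c20_cnt_t : BT := (BT.fix (nat_lit 1) (BT.br (nat_lit 0) (nat_lit 78) [] (BT.dead (nat_lit 45) (BT.frm (nat_lit 0) (nat_lit 1036) (nat_lit 771) [nat_lit 0] (BT.pln (nat_lit 0) (nat_lit 1) (BT.dif (nat_lit 0) (nat_lit 3) (BT.br (nat_lit 0) (nat_lit 90) [nat_lit 3] (BT.dead (nat_lit 18) (BT.dif (nat_lit 5) (nat_lit 4) (BT.frm (nat_lit 2) (nat_lit 0xd1108040c) (nat_lit 0xb1507120303) [nat_lit 1, nat_lit 0, nat_lit 5] (BT.pln (nat_lit 0) (nat_lit 5) (BT.img (nat_lit 1) (nat_lit 0) (BT.and (nat_lit 1) (nat_lit 0) (BT.img (nat_lit 1) (nat_lit 0) (BT.and (nat_lit 2) (nat_lit 0) (BT.dif (nat_lit 0) (nat_lit 4) (BT.and (nat_lit 5) (nat_lit 2) (BT.img (nat_lit 1) (nat_lit 0) (BT.dif (nat_lit 2) (nat_lit 0) (BT.img (nat_lit 1) (nat_lit 0) (BT.and (nat_lit 0) (nat_lit 9) (BT.cnt (nat_lit 0)))))))))))))))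 (BT.dead (nat_lit 81) (BT.dif (nat_lit 5) (nat_lit 4) (BT.frm (nat_lit 2) (nat_lit 0xd1108040c) (nat_lit 0xb1107120303) [nat_lit 1, nat_lit 0, nat_lit 5] (BT.pln (nat_lit 0) (nat_lit 5) (BT.img (nat_lit 1) (nat_lit 0) (BT.and (nat_lit 1) (nat_lit 0) (BT.img (nat_lit 1) (nat_lit 0) (BT.and (nat_lit 3) (nat_lit 0) (BT.img (nat_lit 1) (nat_lit 0) (BT.and (nat_lit 4) (nat_lit 0) (BT.img (nat_lit 1) (nat_lit 0) (BT.img (nat_lit 1) (nat_lit 0) (BT.and (nat_lit 0) (nat_lit 8) (BT.cnt (nat_lit 0)))))))))))))) BT.nil)))))) (BT.kid (nat_lit 78) (nat_lit 14) (BT.frm (nat_lit 0) (nat_lit 1036) (nat_lit 1036) [nat_lit 0] (BT.pln (nat_lit 0) (nat_lit 1) (BT.dif (nat_lit 0) (nat_lit 3) (BT.br (nat_lit 0) (nat_lit 90) [nat_lit 3] (BT.dead (nat_lit 49) (BT.dif (nat_lit 5) (nat_lit 4) (BT.frm (nat_lit 2) (nat_lit 0xd1108040c) (nat_lit 0xd08040c) [nat_lit 1, nat_lit 0, nat_lit 5] (BT.pln (nat_lit 0) (nat_lit 5) (BT.img (nat_lit 1) (nat_lit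 0) (BT.and (nat_lit 1) (nat_lit 0) (BT.img (nat_lit 1) (nat_lit 0) (BT.and (nat_lit 3) (nat_lit 0) (BT.img (nat_lit 1) (nat_lit 0) (BT.and (nat_lit 4) (nat_lit 0) (BT.img (nat_lit 1) (nat_lit 0) (BT.and (nat_lit 0) (nat_lit 7) (BT.cnt (nat_lit 0))))))))))))) (BT.kid (nat_lit 90) (nat_lit 1) (BT.img (nat_lit 1) (nat_lit 0) (BT.img (nat_lit 1) (nat_lit 0) (BT.img (nat_lit 1) (nat_lit 0) (BT.dif (nat_lit 8) (nat_lit 7) (BT.frm (nat_lit 1) (nat_lit 525324) (nat_lit 525324) [nat_lit 0, nat_lit 8] (BT.pln (nat_lit 0) (nat_lit 3) (BT.frm (nat_lit 2) (nat_lit 0xd1108040c) (nat_lit 0xd1108040c) [nat_lit 6, nat_lit 2, nat_lit 10] (BT.pln (nat_lit 0) (nat_lit 6) (BT.img (nat_lit 1) (nat_lit 0) (BT.and (nat_lit 1) (nat_lit 0) (BT.img (nat_lit 1) (nat_lit 0) (BT.and (nat_lit 5) (nat_lit 0) (BT.and (nat_lit 6) (nat_lit 3) (BT.pln (nat_lit 6) (nat_lit 4) (BT.and (nat_lit 1) (nat_lit 0) (BT.img (nat_lit 1) (nat_lit 0) (BT.and (nat_lit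 10) (nat_lit 0) (BT.and (nat_lit 0) (nat_lit 3) (BT.img (nat_lit 1) (nat_lit 0) (BT.and (nat_lit 13) (nat_lit 0) (BT.img (nat_lit 1) (nat_lit 0) (BT.and (nat_lit 13) (nat_lit 0) (BT.and (nat_lit 14) (nat_lit 6) (BT.one (nat_lit 3) (nat_lit 0x1f22291a170d1108040c) (nat_lit 0x1f22291a170d1108040c) [nat_lit 20, nat_lit 11, nat_lit 1, nat_lit 0, nat_lit 13, nat_lit 23, nat_lit 19, nat_lit 27])))))))))))))))))))))))) BT.nil)))))) BT.nil))))

theorem nt_c20_cnt : Cnt 100 (grp 100 EG) [t_g314] [t_g314] 0 0 0 0 14 :=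
  BT.sound nt_c20_cnt_P Known.nil (t := nt_c20_cnt_t) (d := 0) (by decide +kernel)

theorem nt_c20_ge : 14 ≤ Nat.card (grp 100 nt_c20_K) :=
  Ch.le_card_grp (k := 7) (L := (lab 100 7)) t_hn nt_c20_K_ok (c := (Ch.cons (nat_lit 90) [nat_lit 1, nat_lit 3] Ch.nil)) (by decide +kernel)

theorem nt_c20_eq : (grp 100 EG) ⊓ Subgroup.centralizer {Net.toPerm 100 t_g314} = grp 100 nt_c20_K :=
  cent_eq nt_c20_sym nt_c20_cnt nt_c20_ge

theorem nt_c20_card : Nat.card ↥((grp 100 EG) ⊓ Subgroup.centralizer {Net.toPerm 100 t_g314}) = 14 :=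
  card_cent nt_c20_sym nt_c20_cnt nt_c20_ge

theorem nt_c20_ord : orderOf (Net.toPerm 100 t_g314) = 7 :=
  orderOf_net t_hn t_hk t_g314_ok (by decide) (ps := [7]) (by set_option linter.unusedSimpArgs false in simp [Nat.primeFactorsList_ofNat]) (by decide +kernel)

theorem t_le324 : grp 100 nt_c21_K ≤ grp 100 lb_E :=
  grp_le_of_memB t_hn t_hk lb_E_ok nt_c21_K_ok (ws := [nat_lit 0x312f251f1913100b0f080a050d, nat_lit 0x312b1f19170f0f0e1207010322, nat_lit 0x2f252b1f1a130f0b1d0719010316, nat_lit 0x2f252b1a170f0f0d110712040a, nat_lit 0x252b1f1a13180f110b160710031b]) (by decide +kernel)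

theorem nt_c21_le : grp 100 nt_c21_K ≤ (grp 100 EG) :=
  (t_le324.trans T_s0.le)

theorem nt_c21_mem : Net.toPerm 100 t_g320 ∈ (grp 100 EG) :=
  nt_c21_le (toPerm_mem_grp (E := nt_c21_K) (List.Mem.head _))

theorem nt_c21_sym : Sym 100 (grp 100 EG) [t_g320] nt_c21_K 0 :=
  Sym.of_lab t_hn t_hk (okE_cons.2 ⟨t_g320_ok, okE_nil _⟩) nt_c21_K_ok nt_c21_le (kT := 0) (by decide +kernel)

theorem t_le328 : grp 100 t_V327 ≤ grp 100 t_V70 :=
  grp_le_of_memB t_hn t_hk t_V70_ok t_V327_ok (ws := [nat_lit 0x131101, nat_lit 0x13070d]) (by decide +kernel)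

theorem T_s84 : Stab 100 (grp 100 EG) [nat_lit 65, nat_lit 32, nat_lit 29, nat_lit 3, nat_lit 2, nat_lit 1, nat_lit 0] t_V327 8 :=
  Stab.step (k := 7) (L := (lab 100 7)) t_hn T_s10 t_V327_ok t_le328 (c := (Ch.cons (nat_lit 67) [nat_lit 1] (Ch.cons (nat_lit 55) [nat_lit 3] Ch.nil))) (by decide +kernel)

theorem T_s85 : Stab 100 (grp 100 EG) [nat_lit 67, nat_lit 65, nat_lit 32, nat_lit 29, nat_lit 3, nat_lit 2, nat_lit 1, nat_lit 0] t_V329 2 :=
  Stab.step (k := 7) (L := (lab 100 7)) t_hn T_s84 t_V329_ok (grp_mono (List.subset_append_right [t_g325] _)) (c := (Ch.cons (nat_lit 55) [nat_lit 1] Ch.nil)) (by decide +kernel)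

theorem T_s86 : Stab 100 (grp 100 EG) [nat_lit 55, nat_lit 67, nat_lit 65, nat_lit 32, nat_lit 29, nat_lit 3, nat_lit 2, nat_lit 1, nat_lit 0] t_V330 1 :=
  Stab.step (k := 7) (L := (lab 100 7)) t_hn T_s85 t_V330_ok (grp_mono (List.subset_append_right [t_g326] _)) (c := Ch.nil) (by decide +kernel)

theorem t_g325_T : Net.toPerm 100 t_g325 ∈ (grp 100 EG) :=
  T_s84.le (toPerm_mem_grp (E := t_V327) (List.Mem.head _))

theorem t_g326_T : Net.toPerm 100 t_g326 ∈ (grp 100 EG) :=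
  T_s84.le (toPerm_mem_grp (E := t_V327) (List.Mem.tail _ (List.Mem.head _)))

noncomputable def T_s86_O : ℕ := (nat_lit 0x3333266666ccccd99999333321f07c1f03e0f83e0f83e0f83ee63398c67319ce63398c673184db24d926c93649b64db26d92000000000000000000000000100000000000000000000000020000000000000000000000004000000000000000000000000800000000000000000200000000000000000000000100000000000000002000000000000000000000000800000000000000000000000000080000000000000)

theorem T_s86_F : Frame 100 (grp 100 EG) 9 13 T_s86_O 1 1 :=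
  IsBase.frame T_s86.isBase (by decide +kernel)

noncomputable def T_s85_O : ℕ := (nat_lit 0x200000000000000000000000010000000000000000000000000020000000000000000000000001000000000000000000000000000400000000000000000000000000000400000000000000000000000010000000000000000000000000040000000000000000000000000000000200000000000000000000000000200000000000000000000000004000000000000000000000000080000800800000000000000000000000820000000000000000004000001000000000000000000008000010000000000000000000000002400000000000000000000100010000000000000000040000000100000000000000008000000002000000000000000002000000040000000000000000020000002000000000000000400000000020000000000000000000000008400000000000000000080000020000000000000000000040000400000000000000020000000010000000000000000040000000800000000000000000020000040000000000000000008000000800000000000000000000080020000000080000000000000000800000000000000000080000040000000000000000000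10000100000000000800000000000004000000000000000080000000200000000000000000000010008000000000004000000000000400000000000000001000000010000002000000000000000000800000000000000000020000040000000000000000008000002000000000000000000004000100000000000000000002000008000000000000000000000800400000010000000000000000010000000010000000000000000800000040000000000000000020000000000000000000010001000100000000000000000000040000400000000000000000002000000000000000000000000010000000000000000000000002000000000000000000000000400000000000000000000000080000000000000000020000000000000000000000010000000000000000200000000000000000000000080000000000000000)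

theorem T_s85_F : Frame 100 (grp 100 EG) 8 59 T_s85_O 0 1 :=
  Stab.frame t_hn T_s85 (by decide +kernel)

noncomputable def T_s84_O : ℕ := (nat_lit 0x10000000000000000000000002004000000000000000000000080080000000000000000000000100010000000000000000040000000100000000000000008000000002000000000000001000000000004000000000000000000000a000004800000000000000000000180021000000000000040000084000004000002000000800000200000200000020000000001000000018000000000000000000004080140000000020000100010000002000000081000000000000400080040000010000000000010001000000000080080000040000080000400000040000000000042000800001000001000000000108042000000042020080040000000028200002008200002800000010006400000090008010000000000000000000000000001000000000000000000000000200000000000000000000000040000000000000000000000008000000000000000002000000000000000000000001000000000000000020000000000000000)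

theorem T_s84_F : Frame 100 (grp 100 EG) 7 29 T_s84_O 0 1 :=
  Stab.frame t_hn T_s84 (by decide +kernel)

noncomputable def nt_c21_cnt_L : List ℕ := [2, 4, T_s2_O, 0, 0, 7, 29, T_s84_O, 0, 0, 8, 59, T_s85_O, 0, 0, 9, 13, T_s86_O, 1, 0]

theorem nt_c21_cnt_P : Prob 100 7 (grp 100 EG) nt_c21_cnt_EG [t_g320] [t_g320] nt_c21_K nt_c21_cnt_L 0 0 :=
  Sym.prob t_hn t_hk nt_c21_sym nt_c21_cnt_EG_ok (grp_cons_le t_g1_T (grp_cons_le t_g2_T (grp_cons_le t_g5_T (grp_cons_le t_g6_T (grp_cons_le t_g9_T (grp_cons_le t_g10_T (grp_cons_le t_g13_T (grp_cons_le t_g14_T (grp_cons_le t_g15_T (grp_cons_le t_g18_T (grp_cons_le t_g19_T (grp_cons_le t_g20_T (grp_cons_le t_g23_T (grp_cons_le t_g24_T (grp_cons_le t_g25_T (grp_cons_le t_g28_T (grp_cons_le t_g29_T (grp_cons_le t_g30_T (grp_cons_le t_g31_T (grp_cons_le t_g34_T (grp_cons_le MpHS.a_T (grp_cons_le HSM.g1_T (grp_cons_le HSM.g2_T (grp_cons_le t_g325_T (grp_cons_le t_g326_T (grp_nil_le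 _)))))))))))))))))))))))))) (Frames.cons T_s2_F (Frames.cons T_s84_F (Frames.cons T_s85_F (Frames.cons T_s86_F Frames.nil)))) (okE_cons.2 ⟨t_g320_ok, okE_nil _⟩) _

noncomputable def nt_c21_cnt_t : BT := (BT.fix (nat_lit 257) (BT.fix (nat_lit 1) (BT.dif (nat_lit 1) (nat_lit 0) (BT.br (nat_lit 0) (nat_lit 91) [nat_lit 1, nat_lit 3] (BT.kid (nat_lit 91) (nat_lit 16) (BT.fix (nat_lit 0x1010101) (BT.dif (nat_lit 0) (nat_lit 4) (BT.img (nat_lit 1) (nat_lit 2) (BT.frm (nat_lit 0) (nat_lit 273197) (nat_lit 273197) [nat_lit 0, nat_lit 3] (BT.pln (nat_lit 0) (nat_lit 3) (BT.and (nat_lit 3) (nat_lit 0) (BT.br (nat_lit 0) (nat_lit 86) [nat_lit 5] (BT.kid (nat_lit 86) (nat_lit 4) (BT.dif (nat_lit 13) (nat_lit 2) (BT.pln (nat_lit 4) (nat_lit 2) (BT.dif (nat_lit 1) (nat_lit 0) (BT.dif (nat_lit 0) (nat_lit 9) (BT.img (nat_lit 1) (nat_lit 4) (BT.img (nat_lit 1) (nat_lit 0) (BT.and (nat_lit 16) (nat_lit 8) (BT.and (nat_lit 17) (nat_lit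 5) (BT.frm (nat_lit 1) (nat_lit 0x1f130d090505042b2d) (nat_lit 0x1f130d090505042b2d) [nat_lit 3, nat_lit 2, nat_lit 8, nat_lit 1, nat_lit 0, nat_lit 12, nat_lit 15] (BT.pln (nat_lit 0) (nat_lit 12) (BT.and (nat_lit 6) (nat_lit 0) (BT.br (nat_lit 0) (nat_lit 19) [nat_lit 7] (BT.dead (nat_lit 96) (BT.frm (nat_lit 2) (nat_lit 0x1f130d090505042b2d) (nat_lit 0x301f130d090505042b2d) [nat_lit 0, nat_lit 7, nat_lit 6, nat_lit 12, nat_lit 5, nat_lit 4, nat_lit 16, nat_lit 19] (BT.pln (nat_lit 0) (nat_lit 48) (BT.img (nat_lit 1) (nat_lit 2) (BT.and (nat_lit 1) (nat_lit 0) (BT.cnt (nat_lit 0)))))) (BT.kid (nat_lit 19) (nat_lit 2) (BT.dif (nat_lit 2) (nat_lit 0) (BT.img (nat_lit 1) (nat_lit 1) (BT.img (nat_lit 1) (nat_lit 0) (BT.img (nat_lit 1) (nat_lit 0) (BT.img (nat_lit 1) (nat_lit 0) (BT.dif (nat_lit 4) (nat_lit 0) (BT.br (nat_lit 0) (nat_lit 45) [nat_lit 9] (BT.kid (nat_lit 45) (nat_lit 1) (BT.one (nat_lit 3) (nat_lit 0x1f130d090505042b2d)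 (nat_lit 0x1f130d090505042b2d) [nat_lit 0, nat_lit 7, nat_lit 14, nat_lit 13, nat_lit 19, nat_lit 12, nat_lit 11, nat_lit 23, nat_lit 26]) BT.nil)))))))) BT.nil)))))))))))))) BT.nil)))))))) BT.nil)))))

theorem nt_c21_cnt : Cnt 100 (grp 100 EG) [t_g320] [t_g320] 0 0 0 0 64 :=
  BT.sound nt_c21_cnt_P Known.nil (t := nt_c21_cnt_t) (d := 0) (by decide +kernel)

theorem nt_c21_ge : 64 ≤ Nat.card (grp 100 nt_c21_K) :=
  Ch.le_card_grp (k := 7) (L := (lab 100 7)) t_hn nt_c21_K_ok (c := (Ch.cons (nat_lit 91) [nat_lit 1, nat_lit 3] (Ch.cons (nat_lit 86) [nat_lit 5] (Ch.cons (nat_lit 19) [nat_lit 7] (Ch.cons (nat_lit 45) [nat_lit 9] Ch.nil))))) (by decide +kernel)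

theorem nt_c21_eq : (grp 100 EG) ⊓ Subgroup.centralizer {Net.toPerm 100 t_g320} = grp 100 nt_c21_K :=
  cent_eq nt_c21_sym nt_c21_cnt nt_c21_ge

theorem nt_c21_card : Nat.card ↥((grp 100 EG) ⊓ Subgroup.centralizer {Net.toPerm 100 t_g320}) = 64 :=
  card_cent nt_c21_sym nt_c21_cnt nt_c21_ge

theorem nt_c21_ord : orderOf (Net.toPerm 100 t_g320) = 8 :=
  orderOf_net t_hn t_hk t_g320_ok (by decide) (ps := [2]) (by set_option linter.unusedSimpArgs false in simp [Nat.primeFactorsList_ofNat]) (by decide +kernel)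

theorem t_le335 : grp 100 nt_c22_K ≤ grp 100 lb_E :=
  grp_le_of_memB t_hn t_hk lb_E_ok nt_c22_K_ok (ws := [nat_lit 0x312f25170f0f0b0f081804, nat_lit 0x312f251a170f110c08080601, nat_lit 0x312f1f19130f110b120712030c, nat_lit 0x312f252b1f1a13180f0f0e12080a0508]) (by decide +kernel)

theorem nt_c22_le : grp 100 nt_c22_K ≤ (grp 100 EG) :=
  (t_le335.trans T_s0.le)

theorem nt_c22_mem : Net.toPerm 100 t_g331 ∈ (grp 100 EG) :=
  nt_c22_le (toPerm_mem_grp (E := nt_c22_K) (List.Mem.head _))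

theorem nt_c22_sym : Sym 100 (grp 100 EG) [t_g331] nt_c22_K 0 :=
  Sym.of_lab t_hn t_hk (okE_cons.2 ⟨t_g331_ok, okE_nil _⟩) nt_c22_K_ok nt_c22_le (kT := 0) (by decide +kernel)

theorem t_le339 : grp 100 t_V338 ≤ grp 100 t_V308 :=
  grp_le_of_memB t_hn t_hk t_V308_ok t_V338_ok (ws := [nat_lit 460033, nat_lit 11, nat_lit 722177]) (by decide +kernel)

theorem T_s87 : Stab 100 (grp 100 EG) [nat_lit 12, nat_lit 29, nat_lit 78, nat_lit 89, nat_lit 0] t_V338 16 :=
  Stab.step (k := 7) (L := (lab 100 7)) t_hn T_s77 t_V338_ok t_le339 (c := (Ch.cons (nat_lit 64) [nat_lit 1] (Ch.cons (nat_lit 30) [nat_lit 3] (Ch.cons (nat_lit 24) [nat_lit 5] Ch.nil)))) (by decide +kernel)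

theorem T_s88 : Stab 100 (grp 100 EG) [nat_lit 64, nat_lit 12, nat_lit 29, nat_lit 78, nat_lit 89, nat_lit 0] t_V340 4 :=
  Stab.step (k := 7) (L := (lab 100 7)) t_hn T_s87 t_V340_ok (grp_mono (List.subset_append_right [t_g336] _)) (c := (Ch.cons (nat_lit 30) [nat_lit 1] (Ch.cons (nat_lit 24) [nat_lit 3] Ch.nil))) (by decide +kernel)

theorem T_s89 : Stab 100 (grp 100 EG) [nat_lit 30, nat_lit 64, nat_lit 12, nat_lit 29, nat_lit 78, nat_lit 89, nat_lit 0] t_V341 2 :=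
  Stab.step (k := 7) (L := (lab 100 7)) t_hn T_s88 t_V341_ok (grp_mono (List.subset_append_right [t_g307] _)) (c := (Ch.cons (nat_lit 24) [nat_lit 1] Ch.nil)) (by decide +kernel)

theorem T_s90 : Stab 100 (grp 100 EG) [nat_lit 24, nat_lit 30, nat_lit 64, nat_lit 12, nat_lit 29, nat_lit 78, nat_lit 89, nat_lit 0] t_V342 1 :=
  Stab.step (k := 7) (L := (lab 100 7)) t_hn T_s89 t_V342_ok (grp_mono (List.subset_append_right [t_g337] _)) (c := Ch.nil) (by decide +kernel)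

theorem t_g337_T : Net.toPerm 100 t_g337 ∈ (grp 100 EG) :=
  T_s88.le (toPerm_mem_grp (E := t_V340) (List.Mem.tail _ (List.Mem.head _)))

theorem t_g336_T : Net.toPerm 100 t_g336 ∈ (grp 100 EG) :=
  T_s87.le (toPerm_mem_grp (E := t_V338) (List.Mem.head _))

noncomputable def T_s90_O : ℕ := (nat_lit 0x3333266666ccccd99999333321f07c1f03e0f83e0f83e0f83ee63398c67319ce63398c673184db24d926c93649b64db26d9200000000000000000000000010020000000000000000000000000004000000000000000000000000000000000000200000000000000000000000000001000000000001000000000000000000000000000000000400000000000000000000000001000000)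

theorem T_s90_F : Frame 100 (grp 100 EG) 8 12 T_s90_O 1 1 :=
  IsBase.frame T_s90.isBase (by decide +kernel)

noncomputable def T_s89_O : ℕ := (nat_lit 0x8000000000000000000000000010000000000000000000000000000100000000000000000000000000002000000000000000000000000008000000000000000000000000100000000000000000000000000040000000000000000000000000800000000000000000000000020000000000000000000000001000000000000000000000000080000000000000000000000000080000000000000000000000000800400100000000000000000000000100040000000000000000020000000800000000000000000000000240000000000000000000000080008000000000000002000000000100000000000000000000000102000000000000100000000000100000000000000000000000048000000000000000000004000400000000000000000000000810000000000001000000000000800000000000000080000000040000000000000002000000002000000000000020000000000100000000000080000000000004000000000400000000000000200000000000000000008000008000000000800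000000000000400000000000000002000000020000000000000000004000000800000000010000000000000010000000000000000020000000800000000000000000200000020000000000200000000000001000000000000100000000000040000000040000000000000000400000000000100000000000020000000000800000000000001000000004000000000000000080000008000000000000000004000004000000000000000000200080000000000000000000004000000004000000000000000200000000000800000000000010000000000020000000000000400000000000040000000000020000000200000000000000001000000000000000001000000080000000000000000000000001002000000000000000000000000000400000000000000000000000000000000000020000000000000000000000000000100000000000100000000000000000000000000000000040000000)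

theorem T_s89_F : Frame 100 (grp 100 EG) 7 59 T_s89_O 0 1 :=
  Stab.frame t_hn T_s89 (by decide +kernel)

noncomputable def nt_c22_cnt_L : List ℕ := [1, 2, T_s1_O, 0, 0, 3, 12, T_s23_O, 0, 0, 7, 59, T_s89_O, 0, 0, 8, 12, T_s90_O, 1, 0]

theorem nt_c22_cnt_P : Prob 100 7 (grp 100 EG) nt_c22_cnt_EG [t_g331] [t_g331] nt_c22_K nt_c22_cnt_L 0 0 :=
  Sym.prob t_hn t_hk nt_c22_sym nt_c22_cnt_EG_ok (grp_cons_le MpHS.a_T (grp_cons_le HSM.g1_T (grp_cons_le HSM.g2_T (grp_cons_le t_g1_T (grp_cons_le t_g2_T (grp_cons_le t_g5_T (grp_cons_le t_g6_T (grp_cons_le t_g9_T (grp_cons_le t_g10_T (grp_cons_le t_g13_T (grp_cons_le t_g14_T (grp_cons_le t_g15_T (grp_cons_le t_g18_T (grp_cons_le t_g19_T (grp_cons_le t_g20_T (grp_cons_le t_g23_T (grp_cons_le t_g24_T (grp_cons_le t_g25_T (grp_cons_le t_g28_T (grp_cons_le t_g29_T (grp_cons_le t_g30_T (grp_cons_le t_g31_T (grp_cons_le t_g34_T (grp_cons_le t_g86_T (grp_cons_le t_g87_T (grp_cons_le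 t_g88_T (grp_cons_le t_g89_T (grp_cons_le t_g90_T (grp_cons_le t_g91_T (grp_cons_le t_g92_T (grp_cons_le t_g93_T (grp_cons_le t_g307_T (grp_cons_le t_g337_T (grp_cons_le t_g336_T (grp_cons_le t_g304_T (grp_cons_le t_g72_T (grp_cons_le t_g305_T (grp_cons_le t_g306_T (grp_cons_le t_g113_T (grp_cons_le t_g114_T (grp_cons_le t_g115_T (grp_cons_le t_g116_T (grp_cons_le t_g117_T (grp_nil_le _)))))))))))))))))))))))))))))))))))))))))))) (Frames.cons T_s1_F (Frames.cons T_s23_F (Frames.cons T_s89_F (Frames.cons T_s90_F Frames.nil)))) (okE_cons.2 ⟨t_g331_ok, okE_nil _⟩) _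

noncomputable def nt_c22_cnt_t : BT := (BT.fix (nat_lit 0x1010101) (BT.fix (nat_lit 257) (BT.dif (nat_lit 1) (nat_lit 0) (BT.br (nat_lit 0) (nat_lit 96) [nat_lit 1, nat_lit 3] (BT.dead (nat_lit 94) (BT.frm (nat_lit 0) (nat_lit 270) (nat_lit 1285) [nat_lit 0] (BT.pln (nat_lit 0) (nat_lit 1) (BT.and (nat_lit 0) (nat_lit 4) (BT.cnt (nat_lit 0))))) (BT.kid (nat_lit 96) (nat_lit 8) (BT.frm (nat_lit 0) (nat_lit 270) (nat_lit 270) [nat_lit 0] (BT.pln (nat_lit 0) (nat_lit 1) (BT.img (nat_lit 1) (nat_lit 2) (BT.img (nat_lit 1) (nat_lit 0) (BT.frm (nat_lit 1) (nat_lit 0x2f3b10010e) (nat_lit 0x2f3b10010e) [nat_lit 0, nat_lit 1, nat_lit 4] (BT.pln (nat_lit 0) (nat_lit 7) (BT.and (nat_lit 4) (nat_lit 0) (BT.br (nat_lit 0) (nat_lit 62) [nat_lit 5] (BT.kid (nat_lit 62) (nat_lit 2) (BT.img (nat_lit 1) (nat_lit 0) (BT.img (nat_lit 1) (nat_lit 0) (BT.img (nat_lit 1) (nat_lit 6) (BT.frm (nat_lit 2) (nat_lit 0x434e2f3b10010e) (nat_lit 0x434e2f3b10010e)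 [nat_lit 1, nat_lit 2, nat_lit 3, nat_lit 0, nat_lit 7, nat_lit 8, nat_lit 11] (BT.pln (nat_lit 0) (nat_lit 21) (BT.br (nat_lit 0) (nat_lit 19) [nat_lit 7] (BT.kid (nat_lit 19) (nat_lit 1) (BT.one (nat_lit 3) (nat_lit 0x434e2f3b10010e) (nat_lit 0x434e2f3b10010e) [nat_lit 0, nat_lit 4, nat_lit 5, nat_lit 6, nat_lit 3, nat_lit 10, nat_lit 11, nat_lit 14]) BT.nil))))))) BT.nil))))))))) BT.nil))))))

theorem nt_c22_cnt : Cnt 100 (grp 100 EG) [t_g331] [t_g331] 0 0 0 0 64 :=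
  BT.sound nt_c22_cnt_P Known.nil (t := nt_c22_cnt_t) (d := 0) (by decide +kernel)

theorem nt_c22_ge : 64 ≤ Nat.card (grp 100 nt_c22_K) :=
  Ch.le_card_grp (k := 7) (L := (lab 100 7)) t_hn nt_c22_K_ok (c := (Ch.cons (nat_lit 96) [nat_lit 1, nat_lit 3] (Ch.cons (nat_lit 62) [nat_lit 5] (Ch.cons (nat_lit 19) [nat_lit 7] Ch.nil)))) (by decide +kernel)

theorem nt_c22_eq : (grp 100 EG) ⊓ Subgroup.centralizer {Net.toPerm 100 t_g331} = grp 100 nt_c22_K :=
  cent_eq nt_c22_sym nt_c22_cnt nt_c22_ge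

theorem nt_c22_card : Nat.card ↥((grp 100 EG) ⊓ Subgroup.centralizer {Net.toPerm 100 t_g331}) = 64 :=
  card_cent nt_c22_sym nt_c22_cnt nt_c22_ge

theorem nt_c22_ord : orderOf (Net.toPerm 100 t_g331) = 8 :=
  orderOf_net t_hn t_hk t_g331_ok (by decide) (ps := [2]) (by set_option linter.unusedSimpArgs false in simp [Nat.primeFactorsList_ofNat]) (by decide +kernel)

theorem t_le346 : grp 100 nt_c23_K ≤ grp 100 lb_E :=
  grp_le_of_memB t_hn t_hk lb_E_ok nt_c23_K_ok (ws := [nat_lit 0x311f170f0b1d08180314, nat_lit 0x252b1f1a170f0b0d070d0516, nat_lit 0x251f13180f0b0710020217]) (by decide +kernel)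

theorem nt_c23_le : grp 100 nt_c23_K ≤ (grp 100 EG) :=
  (t_le346.trans T_s0.le)

theorem nt_c23_mem : Net.toPerm 100 t_g343 ∈ (grp 100 EG) :=
  nt_c23_le (toPerm_mem_grp (E := nt_c23_K) (List.Mem.tail _ (List.Mem.head _)))

theorem nt_c23_sym : Sym 100 (grp 100 EG) [t_g343] nt_c23_K 0 :=
  Sym.of_lab t_hn t_hk (okE_cons.2 ⟨t_g343_ok, okE_nil _⟩) nt_c23_K_ok nt_c23_le (kT := 0) (by decide +kernel)

theorem t_le348 : grp 100 t_V347 ≤ grp 100 t_V208 :=
  grp_le_of_memB t_hn t_hk t_V208_ok t_V347_ok (ws := []) (by decide +kernel)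

theorem T_s91 : Stab 100 (grp 100 EG) [nat_lit 97, nat_lit 32, nat_lit 39, nat_lit 70, nat_lit 1, nat_lit 2, nat_lit 89, nat_lit 0] t_V347 1 :=
  Stab.step (k := 7) (L := (lab 100 7)) t_hn T_s51 t_V347_ok t_le348 (c := Ch.nil) (by decide +kernel)

noncomputable def T_s91_O : ℕ := (nat_lit 0x3333266666ccccd99999333321f07c1f03e0f83e0f83e0f83ee63398c67319ce63398c673184db24d926c93649b64db26d9200000000000000000000000010020000000000000000000000000000000000000000000000400000000000000000000000020000000400000000000000000000000000000000800000000000000000000000001000000002000000000000000000000000)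

theorem T_s91_F : Frame 100 (grp 100 EG) 8 12 T_s91_O 1 1 :=
  IsBase.frame T_s91.isBase (by decide +kernel)

noncomputable def T_s51_O : ℕ := (nat_lit 0x400000000000000000000000000000000000400010000000000000000000000800400000000000004000000000020000001000000000000000001000000000000010000000000040000000000000000000200000080400100011000000000000000004000080008000008000000080000000000022000400000000000000000001800210000000000801000020000000400000000804000040000000010000000000000240000001000800000000000200000008080040000000000840080000000000200000800808000000000000000800000000010000004000000030000040200000000100000000201210000020014000000180000000020000202840600000800020020000800400200002400800000000000000000000000001002000000000000000000000000000000000000000000000040000000000000000000000002000000040000000000000000000000000000000080000000000000000000000000100000000)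

theorem T_s51_F : Frame 100 (grp 100 EG) 7 29 T_s51_O 0 1 :=
  Stab.frame t_hn T_s51 (by decide +kernel)

noncomputable def nt_c23_cnt_L : List ℕ := [1, 2, T_s1_O, 0, 0, 2, 5, T_s15_O, 0, 0, 4, 10, T_s17_O, 0, 0, 7, 29, T_s51_O, 0, 0, 8, 12, T_s91_O, 1, 0]

theorem nt_c23_cnt_P : Prob 100 7 (grp 100 EG) nt_c23_cnt_EG [t_g343] [t_g343] nt_c23_K nt_c23_cnt_L 0 0 :=
  Sym.prob t_hn t_hk nt_c23_sym nt_c23_cnt_EG_ok (grp_cons_le MpHS.a_T (grp_cons_le HSM.g1_T (grp_cons_le HSM.g2_T (grp_cons_le t_g1_T (grp_cons_le t_g2_T (grp_cons_le t_g5_T (grp_cons_le t_g6_T (grp_cons_le t_g9_T (grp_cons_le t_g10_T (grp_cons_le t_g13_T (grp_cons_le t_g14_T (grp_cons_le t_g15_T (grp_cons_le t_g18_T (grp_cons_le t_g19_T (grp_cons_le t_g20_T (grp_cons_le t_g23_T (grp_cons_le t_g24_T (grp_cons_le t_g25_T (grp_cons_le t_g28_T (grp_cons_le t_g29_T (grp_cons_le t_g30_T (grp_cons_le t_g31_T (grp_cons_le t_g34_T (grp_cons_le t_g87_T (grp_cons_le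 t_g88_T (grp_cons_le t_g89_T (grp_cons_le t_g90_T (grp_cons_le t_g91_T (grp_cons_le t_g92_T (grp_cons_le t_g93_T (grp_cons_le t_g86_T (grp_cons_le t_g206_T (grp_cons_le t_g207_T (grp_cons_le t_g54_T (grp_nil_le _))))))))))))))))))))))))))))))))))) (Frames.cons T_s1_F (Frames.cons T_s15_F (Frames.cons T_s17_F (Frames.cons T_s51_F (Frames.cons T_s91_F Frames.nil))))) (okE_cons.2 ⟨t_g343_ok, okE_nil _⟩) _

noncomputable def nt_c23_cnt_t : BT := (BT.fix (nat_lit 1) (BT.br (nat_lit 0) (nat_lit 90) [nat_lit 1] (BT.kid (nat_lit 90) (nat_lit 16) (BT.frm (nat_lit 0) (nat_lit 1025) (nat_lit 1025) [nat_lit 0] (BT.pln (nat_lit 0) (nat_lit 1) (BT.fix (nat_lit 0x1010101) (BT.and (nat_lit 1) (nat_lit 0) (BT.fix (nat_lit 257) (BT.dif (nat_lit 1) (nat_lit 0) (BT.br (nat_lit 0) (nat_lit 7) [nat_lit 3] (BT.kid (nat_lit 7) (nat_lit 4) (BT.img (nat_lit 1) (nat_lit 0) (BT.dif (nat_lit 9) (nat_lit 8) (BT.frm (nat_lit 2) (nat_lit 0x3d30070d0401)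 (nat_lit 0x3d30070d0401) [nat_lit 1, nat_lit 2, nat_lit 0, nat_lit 9] (BT.pln (nat_lit 0) (nat_lit 8) (BT.br (nat_lit 0) (nat_lit 49) [nat_lit 5] (BT.kid (nat_lit 49) (nat_lit 1) (BT.frm (nat_lit 1) (nat_lit 0x70d0401) (nat_lit 0x70d0401) [nat_lit 3, nat_lit 12] (BT.pln (nat_lit 0) (nat_lit 2) (BT.dif (nat_lit 10) (nat_lit 7) (BT.dif (nat_lit 0) (nat_lit 10) (BT.dif (nat_lit 0) (nat_lit 8) (BT.img (nat_lit 1) (nat_lit 9) (BT.dif (nat_lit 1) (nat_lit 0) (BT.frm (nat_lit 3) (nat_lit 0x3b343d30070d0401) (nat_lit 0x3b343d30070d0401) [nat_lit 7, nat_lit 0, nat_lit 1, nat_lit 11, nat_lit 12, nat_lit 10, nat_lit 19] (BT.pln (nat_lit 0) (nat_lit 10) (BT.and (nat_lit 7) (nat_lit 0) (BT.img (nat_lit 1) (nat_lit 0) (BT.and (nat_lit 1) (nat_lit 0) (BT.img (nat_lit 1) (nat_lit 0) (BT.and (nat_lit 11) (nat_lit 0) (BT.one (nat_lit 4) (nat_lit 0x403b343d30070d0401) (nat_lit 0x403b343d30070d0401) [nat_lit 0, nat_lit 14, nat_lit 7, nat_lit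 8, nat_lit 18, nat_lit 19, nat_lit 17, nat_lit 26]))))))))))))))) BT.nil)))))) BT.nil)))))))) BT.nil)))

theorem nt_c23_cnt : Cnt 100 (grp 100 EG) [t_g343] [t_g343] 0 0 0 0 32 :=
  BT.sound nt_c23_cnt_P Known.nil (t := nt_c23_cnt_t) (d := 0) (by decide +kernel)

theorem nt_c23_ge : 32 ≤ Nat.card (grp 100 nt_c23_K) :=
  Ch.le_card_grp (k := 7) (L := (lab 100 7)) t_hn nt_c23_K_ok (c := (Ch.cons (nat_lit 90) [nat_lit 1] (Ch.cons (nat_lit 7) [nat_lit 3] (Ch.cons (nat_lit 49) [nat_lit 5] Ch.nil)))) (by decide +kernel)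

theorem nt_c23_eq : (grp 100 EG) ⊓ Subgroup.centralizer {Net.toPerm 100 t_g343} = grp 100 nt_c23_K :=
  cent_eq nt_c23_sym nt_c23_cnt nt_c23_ge

theorem nt_c23_card : Nat.card ↥((grp 100 EG) ⊓ Subgroup.centralizer {Net.toPerm 100 t_g343}) = 32 :=
  card_cent nt_c23_sym nt_c23_cnt nt_c23_ge

theorem nt_c23_ord : orderOf (Net.toPerm 100 t_g343) = 8 :=
  orderOf_net t_hn t_hk t_g343_ok (by decide) (ps := [2]) (by set_option linter.unusedSimpArgs false in simp [Nat.primeFactorsList_ofNat]) (by decide +kernel)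

theorem t_le352 : grp 100 nt_c24_K ≤ grp 100 lb_E :=
  grp_le_of_memB t_hn t_hk lb_E_ok nt_c24_K_ok (ws := [nat_lit 0x2b1a13180f110c0f0712011a, nat_lit 0x2f2519130c0f07070511, nat_lit 0x2f2b100b0f071206, nat_lit 0x312f1f19100b1107100507]) (by decide +kernel)

theorem nt_c24_le : grp 100 nt_c24_K ≤ (grp 100 EG) :=
  (t_le352.trans T_s0.le)

theorem nt_c24_mem : Net.toPerm 100 t_g349 ∈ (grp 100 EG) :=
  nt_c24_le (toPerm_mem_grp (E := nt_c24_K) (List.Mem.head _))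

theorem nt_c24_sym : Sym 100 (grp 100 EG) [t_g349] nt_c24_K 0 :=
  Sym.of_lab t_hn t_hk (okE_cons.2 ⟨t_g349_ok, okE_nil _⟩) nt_c24_K_ok nt_c24_le (kT := 0) (by decide +kernel)

theorem t_le355 : grp 100 t_V354 ≤ grp 100 t_V327 :=
  grp_le_of_memB t_hn t_hk t_V327_ok t_V354_ok (ws := [nat_lit 196865, nat_lit 257]) (by decide +kernel)

theorem T_s92 : Stab 100 (grp 100 EG) [nat_lit 50, nat_lit 65, nat_lit 32, nat_lit 29, nat_lit 3, nat_lit 2, nat_lit 1, nat_lit 0] t_V354 4 :=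
  Stab.step (k := 7) (L := (lab 100 7)) t_hn T_s84 t_V354_ok t_le355 (c := (Ch.cons (nat_lit 75) [nat_lit 1] (Ch.cons (nat_lit 58) [nat_lit 3] Ch.nil))) (by decide +kernel)

theorem T_s93 : Stab 100 (grp 100 EG) [nat_lit 75, nat_lit 50, nat_lit 65, nat_lit 32, nat_lit 29, nat_lit 3, nat_lit 2, nat_lit 1, nat_lit 0] t_V356 2 :=
  Stab.step (k := 7) (L := (lab 100 7)) t_hn T_s92 t_V356_ok (grp_mono (List.subset_append_right [t_g353] _)) (c := (Ch.cons (nat_lit 58) [nat_lit 1] Ch.nil)) (by decide +kernel)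

theorem T_s94 : Stab 100 (grp 100 EG) [nat_lit 58, nat_lit 75, nat_lit 50, nat_lit 65, nat_lit 32, nat_lit 29, nat_lit 3, nat_lit 2, nat_lit 1, nat_lit 0] t_V357 1 :=
  Stab.step (k := 7) (L := (lab 100 7)) t_hn T_s93 t_V357_ok (grp_mono (List.subset_append_right [t_g72] _)) (c := Ch.nil) (by decide +kernel)

theorem t_g353_T : Net.toPerm 100 t_g353 ∈ (grp 100 EG) :=
  T_s92.le (toPerm_mem_grp (E := t_V354) (List.Mem.head _))

noncomputable def T_s94_O : ℕ := (nat_lit 0x3333266666ccccd99999333321f07c1f03e0f83e0f83e0f83ee63398c67319ce63398c673184db24d926c93649b64db26d920000000000000000000000001000000000000000000000000200000000000000000000000040000000000000000000000008000000000000000002000000000000000000000001000000000000000020000000000000000000000000000400000000000000000080000000000000000000000000000400000000000000)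

theorem T_s94_F : Frame 100 (grp 100 EG) 10 14 T_s94_O 1 1 :=
  IsBase.frame T_s94.isBase (by decide +kernel)

noncomputable def T_s93_O : ℕ := (nat_lit 0x100000000000000000000000008000000000000000000000000400000000000000000000000002000000000000000000000000100000000000000000000000008000000000000000000000000010000000000000000000000000400000000000000000000000000010000000000000000000000000100000000000000000000000002000000000000000000810000000000000000000020000000001000000000000080000000000020000000000000000000000001800000000000000000400000040000000000000000008000002000000000000080000000000100000000000000000000002008000000000001000000000000400000000000000000000040020000000000000002000000001000000000000010000000000080000000000000000008000004000000000000000200000000200000000000000002000000010000000000000000002000000800000000004000000000000008000000000000000000800000400000000000000000000000210000000000000000000000040800000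00000400000000000002000000400000000000000000100000000000000400000000008000000000000000008000000400000200000000000000000020000000000000000000000001800000002000000000000000040000000020000000000000002000000000800000000000000080000000000000000000000014000000000000010000000000200000000004000000000000010000000000000000000004000800000000000040000000000040000000000008000000000002000000001000000000000000100000000008000000000000008000000000040000000000000400004000000000000000000020000000000000000000000000100000000000000000000000020000000000000000000000004000000000000000000000000800000000000000000200000000000000000000000100000000000000002000000000000000000000000000040000000000000000008000000000000000000)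

theorem T_s93_F : Frame 100 (grp 100 EG) 9 59 T_s93_O 0 1 :=
  Stab.frame t_hn T_s93 (by decide +kernel)

noncomputable def nt_c24_cnt_L : List ℕ := [1, 2, T_s1_O, 0, 0, 2, 4, T_s2_O, 0, 0, 7, 29, T_s84_O, 0, 0, 9, 59, T_s93_O, 0, 0, 10, 14, T_s94_O, 1, 0]

theorem nt_c24_cnt_P : Prob 100 7 (grp 100 EG) nt_c24_cnt_EG [t_g349] [t_g349] nt_c24_K nt_c24_cnt_L 0 0 :=
  Sym.prob t_hn t_hk nt_c24_sym nt_c24_cnt_EG_ok (grp_cons_le MpHS.a_T (grp_cons_le HSM.g1_T (grp_cons_le HSM.g2_T (grp_cons_le t_g1_T (grp_cons_le t_g2_T (grp_cons_le t_g5_T (grp_cons_le t_g6_T (grp_cons_le t_g9_T (grp_cons_le t_g10_T (grp_cons_le t_g13_T (grp_cons_le t_g14_T (grp_cons_le t_g15_T (grp_cons_le t_g18_T (grp_cons_le t_g19_T (grp_cons_le t_g20_T (grp_cons_le t_g23_T (grp_cons_le t_g24_T (grp_cons_le t_g25_T (grp_cons_le t_g28_T (grp_cons_le t_g29_T (grp_cons_le t_g30_T (grp_cons_le t_g31_T (grp_cons_le t_g34_T (grp_cons_le t_g353_T (grp_cons_le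 t_g72_T (grp_cons_le t_g325_T (grp_cons_le t_g326_T (grp_nil_le _)))))))))))))))))))))))))))) (Frames.cons T_s1_F (Frames.cons T_s2_F (Frames.cons T_s84_F (Frames.cons T_s93_F (Frames.cons T_s94_F Frames.nil))))) (okE_cons.2 ⟨t_g349_ok, okE_nil _⟩) _

noncomputable def nt_c24_cnt_t : BT := (BT.fix (nat_lit 257) (BT.br (nat_lit 0) (nat_lit 94) [nat_lit 1, nat_lit 3] (BT.kid (nat_lit 94) (nat_lit 4) (BT.frm (nat_lit 0) (nat_lit 1285) (nat_lit 1285) [nat_lit 0] (BT.pln (nat_lit 0) (nat_lit 1) (BT.fix (nat_lit 0x1010101) (BT.and (nat_lit 1) (nat_lit 0) (BT.dif (nat_lit 0) (nat_lit 5) (BT.img (nat_lit 1) (nat_lit 0) (BT.br (nat_lit 0) (nat_lit 29) [nat_lit 5] (BT.dead (nat_lit 91) (BT.dif (nat_lit 11) (nat_lit 5) (BT.dif (nat_lit 0) (nat_lit 5) (BT.img (nat_lit 1) (nat_lit 2) (BT.img (nat_lit 1) (nat_lit 0) (BT.img (nat_lit 1) (nat_lit 11) (BT.frm (nat_lit 1) (nat_lit 656645) (nat_lit 656645) [nat_lit 0, nat_lit 12] (BT.pln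 (nat_lit 0) (nat_lit 3) (BT.and (nat_lit 15) (nat_lit 0) (BT.pln (nat_lit 2) (nat_lit 2) (BT.and (nat_lit 17) (nat_lit 0) (BT.frm (nat_lit 2) (nat_lit 0x29190f0c0f0a0505) (nat_lit 0x25170f0c0f0a0505) [nat_lit 7, nat_lit 6, nat_lit 10, nat_lit 2, nat_lit 0, nat_lit 5, nat_lit 17] (BT.pln (nat_lit 0) (nat_lit 26) (BT.and (nat_lit 10) (nat_lit 0) (BT.br (nat_lit 0) (nat_lit 55) [nat_lit 7] (BT.dead (nat_lit 99) (BT.img (nat_lit 1) (nat_lit 10) (BT.frm (nat_lit 3) (nat_lit 0x2f29190f0c0f0a0505) (nat_lit 0x2f3325170f0c0f0a0505) [nat_lit 1, nat_lit 0, nat_lit 12, nat_lit 11, nat_lit 15, nat_lit 7, nat_lit 5, nat_lit 10, nat_lit 22] (BT.pln (nat_lit 0) (nat_lit 48) (BT.img (nat_lit 1) (nat_lit 3) (BT.img (nat_lit 1) (nat_lit 0) (BT.and (nat_lit 2) (nat_lit 0) (BT.cnt (nat_lit 0)))))))) BT.nil))))))))))))))) (BT.kid (nat_lit 29) (nat_lit 2) (BT.dif (nat_lit 11) (nat_lit 5) (BT.dif (nat_lit 0) (nat_lit 5) (BT.img (nat_lit 1) (nat_lit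 2) (BT.img (nat_lit 1) (nat_lit 0) (BT.img (nat_lit 1) (nat_lit 11) (BT.frm (nat_lit 1) (nat_lit 656645) (nat_lit 656645) [nat_lit 0, nat_lit 12] (BT.pln (nat_lit 0) (nat_lit 3) (BT.and (nat_lit 15) (nat_lit 0) (BT.pln (nat_lit 2) (nat_lit 2) (BT.and (nat_lit 17) (nat_lit 0) (BT.frm (nat_lit 2) (nat_lit 0x29190f0c0f0a0505) (nat_lit 0x29190f0c0f0a0505) [nat_lit 7, nat_lit 6, nat_lit 10, nat_lit 2, nat_lit 0, nat_lit 5, nat_lit 17] (BT.pln (nat_lit 0) (nat_lit 26) (BT.and (nat_lit 10) (nat_lit 0) (BT.br (nat_lit 0) (nat_lit 55) [nat_lit 7] (BT.kid (nat_lit 55) (nat_lit 1) (BT.img (nat_lit 1) (nat_lit 0) (BT.img (nat_lit 1) (nat_lit 11) (BT.one (nat_lit 4) (nat_lit 0x312f29190f0c0f0a0505) (nat_lit 0x312f29190f0c0f0a0505) [nat_lit 1, nat_lit 2, nat_lit 0, nat_lit 13, nat_lit 12, nat_lit 16, nat_lit 8, nat_lit 6, nat_lit 11, nat_lit 23]))) BT.nil))))))))))))))) BT.nil))))))))) BT.nil)))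

theorem nt_c24_cnt : Cnt 100 (grp 100 EG) [t_g349] [t_g349] 0 0 0 0 16 :=
  BT.sound nt_c24_cnt_P Known.nil (t := nt_c24_cnt_t) (d := 0) (by decide +kernel)

theorem nt_c24_ge : 16 ≤ Nat.card (grp 100 nt_c24_K) :=
  Ch.le_card_grp (k := 7) (L := (lab 100 7)) t_hn nt_c24_K_ok (c := (Ch.cons (nat_lit 94) [nat_lit 1, nat_lit 3] (Ch.cons (nat_lit 29) [nat_lit 5] (Ch.cons (nat_lit 55) [nat_lit 7] Ch.nil)))) (by decide +kernel)

theorem nt_c24_eq : (grp 100 EG) ⊓ Subgroup.centralizer {Net.toPerm 100 t_g349} = grp 100 nt_c24_K :=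
  cent_eq nt_c24_sym nt_c24_cnt nt_c24_ge

theorem nt_c24_card : Nat.card ↥((grp 100 EG) ⊓ Subgroup.centralizer {Net.toPerm 100 t_g349}) = 16 :=
  card_cent nt_c24_sym nt_c24_cnt nt_c24_ge

theorem nt_c24_ord : orderOf (Net.toPerm 100 t_g349) = 8 :=
  orderOf_net t_hn t_hk t_g349_ok (by decide) (ps := [2]) (by set_option linter.unusedSimpArgs false in simp [Nat.primeFactorsList_ofNat]) (by decide +kernel)

theorem t_le362 : grp 100 nt_c25_K ≤ grp 100 lb_E :=
  grp_le_of_memB t_hn t_hk lb_E_ok nt_c25_K_ok (ws := [nat_lit 0x252b19170f0c21080612, nat_lit 0x312f100c1401, nat_lit 0x2f13100b1107030a, nat_lit 0x312f2b100e0707]) (by decide +kernel)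

theorem nt_c25_le : grp 100 nt_c25_K ≤ (grp 100 EG) :=
  (t_le362.trans T_s0.le)

theorem nt_c25_mem : Net.toPerm 100 t_g358 ∈ (grp 100 EG) :=
  nt_c25_le (toPerm_mem_grp (E := nt_c25_K) (List.Mem.head _))

theorem nt_c25_sym : Sym 100 (grp 100 EG) [t_g358] nt_c25_K 0 :=
  Sym.of_lab t_hn t_hk (okE_cons.2 ⟨t_g358_ok, okE_nil _⟩) nt_c25_K_ok nt_c25_le (kT := 0) (by decide +kernel)

noncomputable def nt_c25_cnt_L : List ℕ := [1, 2, T_s1_O, 0, 0, 3, 7, T_s3_O, 0, 0, 8, 12, T_s83_O, 1, 0]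

theorem nt_c25_cnt_P : Prob 100 7 (grp 100 EG) nt_c25_cnt_EG [t_g358] [t_g358] nt_c25_K nt_c25_cnt_L 0 0 :=
  Sym.prob t_hn t_hk nt_c25_sym nt_c25_cnt_EG_ok (grp_cons_le MpHS.a_T (grp_cons_le HSM.g1_T (grp_cons_le HSM.g2_T (grp_cons_le t_g1_T (grp_cons_le t_g2_T (grp_cons_le t_g5_T (grp_cons_le t_g6_T (grp_cons_le t_g9_T (grp_cons_le t_g10_T (grp_cons_le t_g13_T (grp_cons_le t_g14_T (grp_cons_le t_g15_T (grp_cons_le t_g18_T (grp_cons_le t_g19_T (grp_cons_le t_g20_T (grp_cons_le t_g23_T (grp_cons_le t_g24_T (grp_cons_le t_g25_T (grp_cons_le t_g28_T (grp_cons_le t_g29_T (grp_cons_le t_g30_T (grp_cons_le t_g31_T (grp_cons_le t_g34_T (grp_nil_le _)))))))))))))))))))))))) (Frames.cons T_s1_F (Frames.cons T_s3_F (Frames.cons T_s83_F Frames.nil))) (okE_cons.2 ⟨t_g358_ok, okE_nil _⟩) _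

noncomputable def nt_c25_cnt_t : BT := (BT.fix (nat_lit 0x101010101) (BT.br (nat_lit 0) (nat_lit 98) [nat_lit 3, nat_lit 5] (BT.kid (nat_lit 98) (nat_lit 2) (BT.frm (nat_lit 0) (nat_lit 69382) (nat_lit 69382) [nat_lit 0] (BT.pln (nat_lit 0) (nat_lit 1) (BT.dif (nat_lit 0) (nat_lit 3) (BT.img (nat_lit 1) (nat_lit 0) (BT.and (nat_lit 1) (nat_lit 0) (BT.br (nat_lit 0) (nat_lit 56) [nat_lit 7] (BT.kid (nat_lit 56) (nat_lit 1) (BT.img (nat_lit 1) (nat_lit 6) (BT.img (nat_lit 1) (nat_lit 0) (BT.img (nat_lit 1) (nat_lit 0) (BT.dif (nat_lit 10) (nat_lit 7) (BT.dif (nat_lit 0) (nat_lit 10) (BT.dif (nat_lit 0) (nat_lit 4) (BT.dif (nat_lit 0) (nat_lit 4) (BT.dif (nat_lit 0) (nat_lit 4) (BT.img (nat_lit 1) (nat_lit 5) (BT.dif (nat_lit 1) (nat_lit 0) (BT.and (nat_lit 14) (nat_lit 17) (BT.img (nat_lit 1) (nat_lit 0) (BT.and (nat_lit 1) (nat_lit 0) (BT.and (nat_lit 9) (nat_lit 1) (BT.img (nat_lit 1) (nat_lit 0) (BT.and (nat_lit 4)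 (nat_lit 0) (BT.img (nat_lit 1) (nat_lit 0) (BT.and (nat_lit 6) (nat_lit 0) (BT.img (nat_lit 1) (nat_lit 0) (BT.and (nat_lit 6) (nat_lit 0) (BT.frm (nat_lit 1) (nat_lit 0xc140808010f06) (nat_lit 0xc140808010f06) [nat_lit 0, nat_lit 2, nat_lit 26] (BT.pln (nat_lit 0) (nat_lit 6) (BT.and (nat_lit 12) (nat_lit 0) (BT.one (nat_lit 2) (nat_lit 0x21100c140808010f06) (nat_lit 0x21100c140808010f06) [nat_lit 23, nat_lit 20, nat_lit 0, nat_lit 14, nat_lit 22, nat_lit 3, nat_lit 5, nat_lit 29])))))))))))))))))))))))) BT.nil))))))) BT.nil)))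

theorem nt_c25_cnt : Cnt 100 (grp 100 EG) [t_g358] [t_g358] 0 0 0 0 60 :=
  BT.sound nt_c25_cnt_P Known.nil (t := nt_c25_cnt_t) (d := 0) (by decide +kernel)

theorem nt_c25_ge : 60 ≤ Nat.card (grp 100 nt_c25_K) :=
  Ch.le_card_grp (k := 7) (L := (lab 100 7)) t_hn nt_c25_K_ok (c := (Ch.cons (nat_lit 98) [nat_lit 1, nat_lit 3, nat_lit 5] (Ch.cons (nat_lit 56) [nat_lit 7] Ch.nil))) (by decide +kernel)

theorem nt_c25_eq : (grp 100 EG) ⊓ Subgroup.centralizer {Net.toPerm 100 t_g358} = grp 100 nt_c25_K :=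
  cent_eq nt_c25_sym nt_c25_cnt nt_c25_ge

theorem nt_c25_card : Nat.card ↥((grp 100 EG) ⊓ Subgroup.centralizer {Net.toPerm 100 t_g358}) = 60 :=
  card_cent nt_c25_sym nt_c25_cnt nt_c25_ge

theorem nt_c25_ord : orderOf (Net.toPerm 100 t_g358) = 10 :=
  orderOf_net t_hn t_hk t_g358_ok (by decide) (ps := [2, 5]) (by set_option linter.unusedSimpArgs false in simp [Nat.primeFactorsList_ofNat]) (by decide +kernel)

theorem t_le366 : grp 100 nt_c26_K ≤ grp 100 lb_E :=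
  grp_le_of_memB t_hn t_hk lb_E_ok nt_c26_K_ok (ws := [nat_lit 0x311f1a13180f0f0b1208080408, nat_lit 0x2f1f0f110b110719011a, nat_lit 0x1f1a13180c070a0510]) (by decide +kernel)

theorem nt_c26_le : grp 100 nt_c26_K ≤ (grp 100 EG) :=
  (t_le366.trans T_s0.le)

theorem nt_c26_mem : Net.toPerm 100 t_g363 ∈ (grp 100 EG) :=
  nt_c26_le (toPerm_mem_grp (E := nt_c26_K) (List.Mem.head _))

theorem nt_c26_sym : Sym 100 (grp 100 EG) [t_g363] nt_c26_K 0 :=
  Sym.of_lab t_hn t_hk (okE_cons.2 ⟨t_g363_ok, okE_nil _⟩) nt_c26_K_ok nt_c26_le (kT := 0) (by decide +kernel)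

theorem t_le370 : grp 100 t_V369 ≤ grp 100 t_V52 :=
  grp_le_of_memB t_hn t_hk t_V52_ok t_V369_ok (ws := [nat_lit 0x1f190801, nat_lit 0x1d19070106]) (by decide +kernel)

theorem T_s95 : Stab 100 (grp 100 EG) [nat_lit 44, nat_lit 3, nat_lit 2, nat_lit 1, nat_lit 0] t_V369 24 :=
  Stab.step (k := 7) (L := (lab 100 7)) t_hn T_s4 t_V369_ok t_le370 (c := (Ch.cons (nat_lit 46) [nat_lit 1] (Ch.cons (nat_lit 80) [nat_lit 3] Ch.nil))) (by decide +kernel)

theorem T_s96 : Stab 100 (grp 100 EG) [nat_lit 46, nat_lit 44, nat_lit 3, nat_lit 2, nat_lit 1, nat_lit 0] t_V371 4 :=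
  Stab.step (k := 7) (L := (lab 100 7)) t_hn T_s95 t_V371_ok (grp_mono (List.subset_append_right [t_g367] _)) (c := (Ch.cons (nat_lit 80) [nat_lit 1] Ch.nil)) (by decide +kernel)

theorem T_s97 : Stab 100 (grp 100 EG) [nat_lit 80, nat_lit 46, nat_lit 44, nat_lit 3, nat_lit 2, nat_lit 1, nat_lit 0] t_V372 1 :=
  Stab.step (k := 7) (L := (lab 100 7)) t_hn T_s96 t_V372_ok (grp_mono (List.subset_append_right [t_g368] _)) (c := Ch.nil) (by decide +kernel)

theorem t_g367_T : Net.toPerm 100 t_g367 ∈ (grp 100 EG) :=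
  T_s95.le (toPerm_mem_grp (E := t_V369) (List.Mem.head _))

theorem t_g368_T : Net.toPerm 100 t_g368 ∈ (grp 100 EG) :=
  T_s95.le (toPerm_mem_grp (E := t_V369) (List.Mem.tail _ (List.Mem.head _)))

noncomputable def T_s97_O : ℕ := (nat_lit 0x3333266666ccccd99999333321f07c1f03e0f83e0f83e0f83ee63398c67319ce63398c673184db24d926c93649b64db26d920000000000000000000000001000000000000000000000000200000000000000000000000040000000000000000000000008000000000000010000000000000000000000004000000000000000100000000000000000000)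

theorem T_s97_F : Frame 100 (grp 100 EG) 7 11 T_s97_O 1 1 :=
  IsBase.frame T_s97.isBase (by decide +kernel)

noncomputable def T_s96_O : ℕ := (nat_lit 0x800000000000000000000000010000000000000000000000000000400000000000000000000000000200000000000000000c000000000000000000000000000000001200000000000000100000000000400000000000000000000000080000004000000000000100000000000000010000810801000000000000000020000200001002000000000000000280000020002000000000000000000a000004800000000002004000000000012000000000000006000100000100000000100000004800000002000000000100000000100000090000000000000400008080000800008000000000000000404040000004080000004000000001000000000020000000800000280000000010000000020080004000000000080000001000020200002000000000000012000010000002000000002000008000800000400008008000000000040040000010000000000010001000000400000000040000000240000000000000000000000000100000000000000000000000020000000000000000000000004000000000000000000000000800000000000001000000000000000000000000400000000000)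

theorem T_s96_F : Frame 100 (grp 100 EG) 6 34 T_s96_O 0 1 :=
  Stab.frame t_hn T_s96 (by decide +kernel)

noncomputable def nt_c26_cnt_L : List ℕ := [1, 2, T_s1_O, 0, 0, 3, 7, T_s3_O, 0, 0, 6, 34, T_s96_O, 0, 0, 7, 11, T_s97_O, 1, 0]

theorem nt_c26_cnt_P : Prob 100 7 (grp 100 EG) nt_c26_cnt_EG [t_g363] [t_g363] nt_c26_K nt_c26_cnt_L 0 0 :=
  Sym.prob t_hn t_hk nt_c26_sym nt_c26_cnt_EG_ok (grp_cons_le MpHS.a_T (grp_cons_le HSM.g1_T (grp_cons_le HSM.g2_T (grp_cons_le t_g1_T (grp_cons_le t_g2_T (grp_cons_le t_g5_T (grp_cons_le t_g6_T (grp_cons_le t_g9_T (grp_cons_le t_g10_T (grp_cons_le t_g13_T (grp_cons_le t_g14_T (grp_cons_le t_g15_T (grp_cons_le t_g18_T (grp_cons_le t_g19_T (grp_cons_le t_g20_T (grp_cons_le t_g23_T (grp_cons_le t_g24_T (grp_cons_le t_g25_T (grp_cons_le t_g28_T (grp_cons_le t_g29_T (grp_cons_le t_g30_T (grp_cons_le t_g31_T (grp_cons_le t_g34_T (grp_cons_le t_g367_T (grp_cons_le t_g368_T (grp_nil_le _))))))))))))))))))))))))))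 (Frames.cons T_s1_F (Frames.cons T_s3_F (Frames.cons T_s96_F (Frames.cons T_s97_F Frames.nil)))) (okE_cons.2 ⟨t_g363_ok, okE_nil _⟩) _

noncomputable def nt_c26_cnt_t : BT := (BT.fix (nat_lit 0x101010101) (BT.br (nat_lit 0) (nat_lit 98) [nat_lit 3, nat_lit 5] (BT.dead (nat_lit 94) (BT.frm (nat_lit 0) (nat_lit 69382) (nat_lit 1285) [nat_lit 0] (BT.pln (nat_lit 0) (nat_lit 1) (BT.img (nat_lit 1) (nat_lit 2) (BT.and (nat_lit 1) (nat_lit 0) (BT.cnt (nat_lit 0)))))) (BT.kid (nat_lit 98) (nat_lit 4) (BT.dif (nat_lit 4) (nat_lit 1) (BT.frm (nat_lit 0) (nat_lit 69382) (nat_lit 69382) [nat_lit 1] (BT.pln (nat_lit 0) (nat_lit 1) (BT.dif (nat_lit 2) (nat_lit 0) (BT.img (nat_lit 1) (nat_lit 4) (BT.img (nat_lit 1) (nat_lit 0) (BT.img (nat_lit 1) (nat_lit 0) (BT.img (nat_lit 1) (nat_lit 0) (BT.frm (nat_lit 1) (nat_lit 0xb0f0818010f06) (nat_lit 0xb0f0818010f06) [nat_lit 1, nat_lit 2, nat_lit 8] (BT.pln (nat_lit 0) (nat_lit 6) (BT.and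 (nat_lit 0) (nat_lit 11) (BT.frm (nat_lit 2) (nat_lit 0x2f130f110b0f0818010f06) (nat_lit 0x2f130f110b0f0818010f06) [nat_lit 6, nat_lit 3, nat_lit 0, nat_lit 4, nat_lit 5, nat_lit 11] (BT.pln (nat_lit 0) (nat_lit 24) (BT.and (nat_lit 9) (nat_lit 0) (BT.br (nat_lit 0) (nat_lit 84) [nat_lit 5] (BT.kid (nat_lit 84) (nat_lit 1) (BT.one (nat_lit 3) (nat_lit 0x31312f130f110b0f0818010f06) (nat_lit 0x31312f130f110b0f0818010f06) [nat_lit 0, nat_lit 10, nat_lit 7, nat_lit 4, nat_lit 8, nat_lit 9, nat_lit 15]) BT.nil)))))))))))))))) BT.nil))))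

theorem nt_c26_cnt : Cnt 100 (grp 100 EG) [t_g363] [t_g363] 0 0 0 0 40 :=
  BT.sound nt_c26_cnt_P Known.nil (t := nt_c26_cnt_t) (d := 0) (by decide +kernel)

theorem nt_c26_ge : 40 ≤ Nat.card (grp 100 nt_c26_K) :=
  Ch.le_card_grp (k := 7) (L := (lab 100 7)) t_hn nt_c26_K_ok (c := (Ch.cons (nat_lit 98) [nat_lit 1, nat_lit 3] (Ch.cons (nat_lit 84) [nat_lit 5] Ch.nil))) (by decide +kernel)

theorem nt_c26_eq : (grp 100 EG) ⊓ Subgroup.centralizer {Net.toPerm 100 t_g363} = grp 100 nt_c26_K :=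
  cent_eq nt_c26_sym nt_c26_cnt nt_c26_ge

theorem nt_c26_card : Nat.card ↥((grp 100 EG) ⊓ Subgroup.centralizer {Net.toPerm 100 t_g363}) = 40 :=
  card_cent nt_c26_sym nt_c26_cnt nt_c26_ge

theorem nt_c26_ord : orderOf (Net.toPerm 100 t_g363) = 10 :=
  orderOf_net t_hn t_hk t_g363_ok (by decide) (ps := [2, 5]) (by set_option linter.unusedSimpArgs false in simp [Nat.primeFactorsList_ofNat]) (by decide +kernel)

theorem t_le376 : grp 100 nt_c27_K ≤ grp 100 lb_E :=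
  grp_le_of_memB t_hn t_hk lb_E_ok nt_c27_K_ok (ws := [nat_lit 0x25130c21090329, nat_lit 0x31251a170b0d070e0527, nat_lit 0x252b1a1318100c210809]) (by decide +kernel)

theorem nt_c27_le : grp 100 nt_c27_K ≤ (grp 100 EG) :=
  (t_le376.trans T_s0.le)

theorem nt_c27_mem : Net.toPerm 100 t_g373 ∈ (grp 100 EG) :=
  nt_c27_le (toPerm_mem_grp (E := nt_c27_K) (List.Mem.head _))

theorem nt_c27_sym : Sym 100 (grp 100 EG) [t_g373] nt_c27_K 0 :=
  Sym.of_lab t_hn t_hk (okE_cons.2 ⟨t_g373_ok, okE_nil _⟩) nt_c27_K_ok nt_c27_le (kT := 0) (by decide +kernel)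

noncomputable def nt_c27_cnt_L : List ℕ := [1, 2, T_s1_O, 0, 0, 3, 7, T_s3_O, 0, 0, 8, 12, T_s83_O, 1, 0]

theorem nt_c27_cnt_P : Prob 100 7 (grp 100 EG) nt_c27_cnt_EG [t_g373] [t_g373] nt_c27_K nt_c27_cnt_L 0 0 :=
  Sym.prob t_hn t_hk nt_c27_sym nt_c27_cnt_EG_ok (grp_cons_le MpHS.a_T (grp_cons_le HSM.g1_T (grp_cons_le HSM.g2_T (grp_cons_le t_g1_T (grp_cons_le t_g2_T (grp_cons_le t_g5_T (grp_cons_le t_g6_T (grp_cons_le t_g9_T (grp_cons_le t_g10_T (grp_cons_le t_g13_T (grp_cons_le t_g14_T (grp_cons_le t_g15_T (grp_cons_le t_g18_T (grp_cons_le t_g19_T (grp_cons_le t_g20_T (grp_cons_le t_g23_T (grp_cons_le t_g24_T (grp_cons_le t_g25_T (grp_cons_le t_g28_T (grp_cons_le t_g29_T (grp_cons_le t_g30_T (grp_cons_le t_g31_T (grp_cons_le t_g34_T (grp_nil_le _)))))))))))))))))))))))) (Frames.cons T_s1_F (Frames.cons T_s3_F (Frames.cons T_s83_F Frames.nil))) (okE_cons.2 ⟨t_g373_ok, okE_nil _⟩) _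

noncomputable def nt_c27_cnt_t : BT := (BT.br (nat_lit 2) (nat_lit 0) [nat_lit 1, nat_lit 3, nat_lit 5] (BT.dead (nat_lit 2) (BT.frm (nat_lit 0) (nat_lit 0) (nat_lit 67337) [nat_lit 0] (BT.pln (nat_lit 0) (nat_lit 1) (BT.img (nat_lit 1) (nat_lit 2) (BT.img (nat_lit 1) (nat_lit 0) (BT.img (nat_lit 1) (nat_lit 0) (BT.and (nat_lit 3) (nat_lit 0) (BT.cnt (nat_lit 0)))))))) (BT.dead (nat_lit 8) (BT.frm (nat_lit 0) (nat_lit 0) (nat_lit 132359) [nat_lit 0] (BT.pln (nat_lit 0) (nat_lit 1) (BT.img (nat_lit 1) (nat_lit 2) (BT.and (nat_lit 1) (nat_lit 0) (BT.cnt (nat_lit 0)))))) (BT.dead (nat_lit 4) (BT.frm (nat_lit 0) (nat_lit 0) (nat_lit 1283) [nat_lit 0] (BT.pln (nat_lit 0) (nat_lit 1) (BT.img (nat_lit 1) (nat_lit 2) (BT.and (nat_lit 1) (nat_lit 0) (BT.cnt (nat_lit 0)))))) (BT.kid (nat_lit 0) (nat_lit 2) (BT.frm (nat_lit 0) (nat_lit 0) (nat_lit 0) [nat_lit 0] (BT.pln (nat_lit 0) (nat_lit 1) (BT.img (nat_lit 1) (nat_lit 2) (BT.img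 (nat_lit 1) (nat_lit 0) (BT.img (nat_lit 1) (nat_lit 0) (BT.dif (nat_lit 3) (nat_lit 0) (BT.img (nat_lit 1) (nat_lit 1) (BT.img (nat_lit 1) (nat_lit 0) (BT.img (nat_lit 1) (nat_lit 0) (BT.img (nat_lit 1) (nat_lit 0) (BT.dif (nat_lit 4) (nat_lit 0) (BT.img (nat_lit 1) (nat_lit 0) (BT.dif (nat_lit 1) (nat_lit 0) (BT.dif (nat_lit 16) (nat_lit 11) (BT.and (nat_lit 0) (nat_lit 2) (BT.and (nat_lit 13) (nat_lit 3) (BT.img (nat_lit 1) (nat_lit 0) (BT.dif (nat_lit 2) (nat_lit 0) (BT.img (nat_lit 1) (nat_lit 0) (BT.dif (nat_lit 6) (nat_lit 0) (BT.and (nat_lit 18) (nat_lit 3) (BT.img (nat_lit 1) (nat_lit 0) (BT.and (nat_lit 7) (nat_lit 0) (BT.img (nat_lit 1) (nat_lit 0) (BT.and (nat_lit 10) (nat_lit 0) (BT.img (nat_lit 1) (nat_lit 0) (BT.and (nat_lit 12) (nat_lit 0) (BT.img (nat_lit 1) (nat_lit 0) (BT.and (nat_lit 14) (nat_lit 0) (BT.img (nat_lit 1) (nat_lit 0) (BT.and (nat_lit 16) (nat_lit 0) (BT.img (nat_lit 1) (nat_lit 0) (BT.and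 (nat_lit 18) (nat_lit 0) (BT.img (nat_lit 1) (nat_lit 0) (BT.and (nat_lit 20) (nat_lit 0) (BT.img (nat_lit 1) (nat_lit 0) (BT.dif (nat_lit 16) (nat_lit 0) (BT.dif (nat_lit 23) (nat_lit 37) (BT.dif (nat_lit 0) (nat_lit 35) (BT.dif (nat_lit 0) (nat_lit 35) (BT.dif (nat_lit 0) (nat_lit 28) (BT.dif (nat_lit 0) (nat_lit 34) (BT.dif (nat_lit 0) (nat_lit 34) (BT.dif (nat_lit 0) (nat_lit 34) (BT.img (nat_lit 1) (nat_lit 34) (BT.dif (nat_lit 1) (nat_lit 0) (BT.img (nat_lit 1) (nat_lit 1) (BT.dif (nat_lit 1) (nat_lit 0) (BT.and (nat_lit 34) (nat_lit 29) (BT.and (nat_lit 47) (nat_lit 30) (BT.img (nat_lit 1) (nat_lit 0) (BT.and (nat_lit 33) (nat_lit 0) (BT.img (nat_lit 1) (nat_lit 0) (BT.dif (nat_lit 4) (nat_lit 0) (BT.img (nat_lit 1) (nat_lit 0) (BT.and (nat_lit 7) (nat_lit 0) (BT.img (nat_lit 1) (nat_lit 0) (BT.and (nat_lit 9) (nat_lit 0) (BT.img (nat_lit 1) (nat_lit 0) (BT.and (nat_lit 22) (nat_lit 0) (BT.br (nat_lit 0) (nat_lit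 28) [nat_lit 5] (BT.kid (nat_lit 28) (nat_lit 1) (BT.frm (nat_lit 1) (nat_lit 0xb22080a) (nat_lit 0xb22080a) [nat_lit 51, nat_lit 56, nat_lit 61] (BT.pln (nat_lit 0) (nat_lit 6) (BT.and (nat_lit 0) (nat_lit 51) (BT.and (nat_lit 58) (nat_lit 45) (BT.and (nat_lit 0) (nat_lit 12) (BT.img (nat_lit 1) (nat_lit 0) (BT.and (nat_lit 3) (nat_lit 0) (BT.dif (nat_lit 5) (nat_lit 56) (BT.and (nat_lit 54) (nat_lit 52) (BT.dif (nat_lit 0) (nat_lit 48) (BT.img (nat_lit 1) (nat_lit 0) (BT.dif (nat_lit 3) (nat_lit 0) (BT.dif (nat_lit 9) (nat_lit 6) (BT.one (nat_lit 2) (nat_lit 0x1f2213100b22080a) (nat_lit 0x1f2213100b22080a) [nat_lit 13, nat_lit 65, nat_lit 6, nat_lit 1, nat_lit 0, nat_lit 64, nat_lit 69, nat_lit 74])))))))))))))) BT.nil)))))))))))))))))))))))))))))))))))))))))))))))))))))))))))))) BT.nil)))))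

theorem nt_c27_cnt : Cnt 100 (grp 100 EG) [t_g373] [t_g373] 0 0 0 0 40 :=
  BT.sound nt_c27_cnt_P Known.nil (t := nt_c27_cnt_t) (d := 0) (by decide +kernel)

theorem nt_c27_ge : 40 ≤ Nat.card (grp 100 nt_c27_K) :=
  Ch.le_card_grp (k := 7) (L := (lab 100 7)) t_hn nt_c27_K_ok (c := (Ch.cons (nat_lit 0) [nat_lit 1, nat_lit 3] (Ch.cons (nat_lit 28) [nat_lit 5] Ch.nil))) (by decide +kernel)

theorem nt_c27_eq : (grp 100 EG) ⊓ Subgroup.centralizer {Net.toPerm 100 t_g373} = grp 100 nt_c27_K :=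
  cent_eq nt_c27_sym nt_c27_cnt nt_c27_ge

theorem nt_c27_card : Nat.card ↥((grp 100 EG) ⊓ Subgroup.centralizer {Net.toPerm 100 t_g373}) = 40 :=
  card_cent nt_c27_sym nt_c27_cnt nt_c27_ge

theorem nt_c27_ord : orderOf (Net.toPerm 100 t_g373) = 10 :=
  orderOf_net t_hn t_hk t_g373_ok (by decide) (ps := [2, 5]) (by set_option linter.unusedSimpArgs false in simp [Nat.primeFactorsList_ofNat]) (by decide +kernel)

theorem t_le378 : grp 100 nt_c28_K ≤ grp 100 lb_E :=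
  grp_le_of_memB t_hn t_hk lb_E_ok nt_c28_K_ok (ws := [nat_lit 0x2f2b1913180f0b11080e0112, nat_lit 0x2f252b1f1a130b16070a0517]) (by decide +kernel)

theorem nt_c28_le : grp 100 nt_c28_K ≤ (grp 100 EG) :=
  (t_le378.trans T_s0.le)

theorem nt_c28_mem : Net.toPerm 100 t_g377 ∈ (grp 100 EG) :=
  nt_c28_le (toPerm_mem_grp (E := nt_c28_K) (List.Mem.head _))

theorem nt_c28_sym : Sym 100 (grp 100 EG) [t_g377] nt_c28_K 0 :=
  Sym.of_lab t_hn t_hk (okE_cons.2 ⟨t_g377_ok, okE_nil _⟩) nt_c28_K_ok nt_c28_le (kT := 0) (by decide +kernel)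

theorem t_le380 : grp 100 t_V379 ≤ grp 100 t_V311 :=
  grp_le_of_memB t_hn t_hk t_V311_ok t_V379_ok (ws := []) (by decide +kernel)

theorem T_s98 : Stab 100 (grp 100 EG) [nat_lit 35, nat_lit 39, nat_lit 32, nat_lit 29, nat_lit 78, nat_lit 89, nat_lit 0] t_V379 1 :=
  Stab.step (k := 7) (L := (lab 100 7)) t_hn T_s79 t_V379_ok t_le380 (c := Ch.nil) (by decide +kernel)

noncomputable def T_s98_O : ℕ := (nat_lit 0x3333266666ccccd99999333321f07c1f03e0f83e0f83e0f83ee63398c67319ce63398c673184db24d926c93649b64db26d920000000000000000000000001002000000000000000000000000000400000000000000000000000000000000000020000000000000000000000010000000000000000000000080000000000000000000000000800000000)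

theorem T_s98_F : Frame 100 (grp 100 EG) 7 11 T_s98_O 1 1 :=
  IsBase.frame T_s98.isBase (by decide +kernel)

noncomputable def nt_c28_cnt_L : List ℕ := [3, 12, T_s23_O, 0, 0, 6, 34, T_s79_O, 0, 0, 7, 11, T_s98_O, 1, 0]

theorem nt_c28_cnt_P : Prob 100 7 (grp 100 EG) nt_c28_cnt_EG [t_g377] [t_g377] nt_c28_K nt_c28_cnt_L 0 0 :=
  Sym.prob t_hn t_hk nt_c28_sym nt_c28_cnt_EG_ok (grp_cons_le t_g86_T (grp_cons_le t_g87_T (grp_cons_le t_g88_T (grp_cons_le t_g89_T (grp_cons_le t_g90_T (grp_cons_le t_g91_T (grp_cons_le t_g92_T (grp_cons_le t_g93_T (grp_cons_le t_g25_T (grp_cons_le t_g1_T (grp_cons_le t_g2_T (grp_cons_le t_g5_T (grp_cons_le t_g6_T (grp_cons_le t_g9_T (grp_cons_le t_g10_T (grp_cons_le t_g13_T (grp_cons_le t_g14_T (grp_cons_le t_g15_T (grp_cons_le t_g18_T (grp_cons_le t_g19_T (grp_cons_le t_g20_T (grp_cons_le t_g23_T (grp_cons_le t_g24_T (grp_cons_le t_g28_T (grp_cons_le t_g29_T (grp_cons_le t_g30_T (grp_cons_le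 t_g31_T (grp_cons_le t_g34_T (grp_cons_le MpHS.a_T (grp_cons_le HSM.g1_T (grp_cons_le HSM.g2_T (grp_cons_le t_g72_T (grp_cons_le t_g305_T (grp_cons_le t_g306_T (grp_cons_le t_g307_T (grp_cons_le t_g304_T (grp_cons_le t_g113_T (grp_cons_le t_g114_T (grp_cons_le t_g115_T (grp_cons_le t_g116_T (grp_cons_le t_g117_T (grp_nil_le _)))))))))))))))))))))))))))))))))))))))))) (Frames.cons T_s23_F (Frames.cons T_s79_F (Frames.cons T_s98_F Frames.nil))) (okE_cons.2 ⟨t_g377_ok, okE_nil _⟩) _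

noncomputable def nt_c28_cnt_t : BT := (BT.fix (nat_lit 0x101010101) (BT.fix (nat_lit 1) (BT.dif (nat_lit 1) (nat_lit 0) (BT.br (nat_lit 0) (nat_lit 79) [nat_lit 1] (BT.kid (nat_lit 79) (nat_lit 2) (BT.img (nat_lit 1) (nat_lit 0) (BT.frm (nat_lit 0) (nat_lit 0x20813173a3d13) (nat_lit 0x20813173a3d13) [nat_lit 0, nat_lit 1, nat_lit 3] (BT.pln (nat_lit 0) (nat_lit 7) (BT.br (nat_lit 0) (nat_lit 93) [nat_lit 3] (BT.dead (nat_lit 13) (BT.img (nat_lit 1) (nat_lit 3) (BT.img (nat_lit 1) (nat_lit 0) (BT.frm (nat_lit 1) (nat_lit 0x4a020813173a3d13) (nat_lit 0x3f414a020813173a3d13) [nat_lit 2, nat_lit 0, nat_lit 1, nat_lit 5, nat_lit 6, nat_lit 8] (BT.pln (nat_lit 0) (nat_lit 6) (BT.fix (nat_lit 257) (BT.and (nat_lit 1) (nat_lit 0) (BT.cnt (nat_lit 0)))))))) (BT.kid (nat_lit 93) (nat_lit 1) (BT.fix (nat_lit 257) (BT.img (nat_lit 1) (nat_lit 4) (BT.img (nat_lit 1) (nat_lit 0) (BT.frm (nat_lit 1) (nat_lit 0x4a020813173a3d13) (nat_lit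 0x4a020813173a3d13) [nat_lit 3, nat_lit 0, nat_lit 1, nat_lit 6, nat_lit 7, nat_lit 9] (BT.pln (nat_lit 0) (nat_lit 8) (BT.and (nat_lit 4) (nat_lit 0) (BT.one (nat_lit 2) (nat_lit 0x1143454a020813173a3d13) (nat_lit 0x1143454a020813173a3d13) [nat_lit 0, nat_lit 6, nat_lit 3, nat_lit 4, nat_lit 9, nat_lit 10, nat_lit 12]))))))) BT.nil)))))) BT.nil)))))

theorem nt_c28_cnt : Cnt 100 (grp 100 EG) [t_g377] [t_g377] 0 0 0 0 10 :=
  BT.sound nt_c28_cnt_P Known.nil (t := nt_c28_cnt_t) (d := 0) (by decide +kernel)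

theorem nt_c28_ge : 10 ≤ Nat.card (grp 100 nt_c28_K) :=
  Ch.le_card_grp (k := 7) (L := (lab 100 7)) t_hn nt_c28_K_ok (c := (Ch.cons (nat_lit 79) [nat_lit 1] (Ch.cons (nat_lit 93) [nat_lit 3] Ch.nil))) (by decide +kernel)

theorem nt_c28_eq : (grp 100 EG) ⊓ Subgroup.centralizer {Net.toPerm 100 t_g377} = grp 100 nt_c28_K :=
  cent_eq nt_c28_sym nt_c28_cnt nt_c28_ge

theorem nt_c28_card : Nat.card ↥((grp 100 EG) ⊓ Subgroup.centralizer {Net.toPerm 100 t_g377}) = 10 :=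
  card_cent nt_c28_sym nt_c28_cnt nt_c28_ge

theorem nt_c28_ord : orderOf (Net.toPerm 100 t_g377) = 10 :=
  orderOf_net t_hn t_hk t_g377_ok (by decide) (ps := [2, 5]) (by set_option linter.unusedSimpArgs false in simp [Nat.primeFactorsList_ofNat]) (by decide +kernel)

theorem t_le382 : grp 100 nt_c29_K ≤ grp 100 lb_E :=
  grp_le_of_memB t_hn t_hk lb_E_ok nt_c29_K_ok (ws := [nat_lit 0x2f2b1a130b22080310]) (by decide +kernel)

theorem nt_c29_le : grp 100 nt_c29_K ≤ (grp 100 EG) :=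
  (t_le382.trans T_s0.le)

theorem nt_c29_mem : Net.toPerm 100 t_g381 ∈ (grp 100 EG) :=
  nt_c29_le (toPerm_mem_grp (E := nt_c29_K) (List.Mem.head _))

theorem nt_c29_sym : Sym 100 (grp 100 EG) [t_g381] nt_c29_K 0 :=
  Sym.of_lab t_hn t_hk (okE_cons.2 ⟨t_g381_ok, okE_nil _⟩) nt_c29_K_ok nt_c29_le (kT := 0) (by decide +kernel)

theorem T_s99 : Stab 100 (grp 100 EG) [nat_lit 5, nat_lit 78, nat_lit 32, nat_lit 29, nat_lit 3, nat_lit 2, nat_lit 1, nat_lit 0] t_V383 4 :=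
  Stab.step (k := 7) (L := (lab 100 7)) t_hn T_s11 t_V383_ok (grp_mono (List.subset_append_right [t_g28, t_g29, t_g30, t_g31] _)) (c := (Ch.cons (nat_lit 14) [nat_lit 1, nat_lit 3] (Ch.cons (nat_lit 4) [nat_lit 5, nat_lit 7] Ch.nil))) (by decide +kernel)

theorem T_s100 : Stab 100 (grp 100 EG) [nat_lit 14, nat_lit 5, nat_lit 78, nat_lit 32, nat_lit 29, nat_lit 3, nat_lit 2, nat_lit 1, nat_lit 0] t_V384 2 :=
  Stab.step (k := 7) (L := (lab 100 7)) t_hn T_s99 t_V384_ok (grp_mono (List.subset_append_right [t_g34, t_g30] _)) (c := (Ch.cons (nat_lit 4) [nat_lit 1, nat_lit 3] Ch.nil)) (by decide +kernel)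

theorem T_s101 : Stab 100 (grp 100 EG) [nat_lit 4, nat_lit 14, nat_lit 5, nat_lit 78, nat_lit 32, nat_lit 29, nat_lit 3, nat_lit 2, nat_lit 1, nat_lit 0] t_V385 1 :=
  Stab.step (k := 7) (L := (lab 100 7)) t_hn T_s100 t_V385_ok (grp_mono (List.subset_append_right [t_g34, t_g34] _)) (c := Ch.nil) (by decide +kernel)

noncomputable def T_s101_O : ℕ := (nat_lit 0x3333266666ccccd99999333321f07c1f03e0f83e0f83e0f83ee63398c67319ce63398c673184db24d926c93649b64db26d920000000000000000000000001000000000000000000000000200000000000000000000000040000000000000000000000008000000000000000002000000000000000000000001000000000000040000000000000000000000000000000000000000002000000000000000000000040000000000000000000000000010)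

theorem T_s101_F : Frame 100 (grp 100 EG) 10 14 T_s101_O 1 1 :=
  IsBase.frame T_s101.isBase (by decide +kernel)

noncomputable def nt_c29_cnt_L : List ℕ := [1, 2, T_s1_O, 0, 0, 2, 4, T_s2_O, 0, 0, 3, 7, T_s3_O, 0, 0, 10, 14, T_s101_O, 1, 0]

theorem nt_c29_cnt_P : Prob 100 7 (grp 100 EG) nt_c29_cnt_EG [t_g381] [t_g381] nt_c29_K nt_c29_cnt_L 0 0 :=
  Sym.prob t_hn t_hk nt_c29_sym nt_c29_cnt_EG_ok (grp_cons_le MpHS.a_T (grp_cons_le HSM.g1_T (grp_cons_le HSM.g2_T (grp_cons_le t_g1_T (grp_cons_le t_g2_T (grp_cons_le t_g5_T (grp_cons_le t_g6_T (grp_cons_le t_g9_T (grp_cons_le t_g10_T (grp_cons_le t_g13_T (grp_cons_le t_g14_T (grp_cons_le t_g15_T (grp_cons_le t_g18_T (grp_cons_le t_g19_T (grp_cons_le t_g20_T (grp_cons_le t_g23_T (grp_cons_le t_g24_T (grp_cons_le t_g25_T (grp_cons_le t_g28_T (grp_cons_le t_g29_T (grp_cons_le t_g30_T (grp_cons_le t_g31_T (grp_cons_le t_g34_T (grp_nil_le _)))))))))))))))))))))))) (Frames.cons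 T_s1_F (Frames.cons T_s2_F (Frames.cons T_s3_F (Frames.cons T_s101_F Frames.nil)))) (okE_cons.2 ⟨t_g381_ok, okE_nil _⟩) _

noncomputable def nt_c29_cnt_t : BT := (BT.fix (nat_lit 1) (BT.frm (nat_lit 0) (nat_lit 1294) (nat_lit 1294) [nat_lit 0] (BT.pln (nat_lit 0) (nat_lit 1) (BT.br (nat_lit 0) (nat_lit 14) [nat_lit 1] (BT.dead (nat_lit 44) (BT.frm (nat_lit 1) (nat_lit 0x80d050e) (nat_lit 460046) [nat_lit 0, nat_lit 3] (BT.pln (nat_lit 0) (nat_lit 3) (BT.img (nat_lit 1) (nat_lit 0) (BT.and (nat_lit 1) (nat_lit 0) (BT.img (nat_lit 1) (nat_lit 0) (BT.and (nat_lit 2) (nat_lit 0) (BT.dif (nat_lit 0) (nat_lit 4) (BT.img (nat_lit 1) (nat_lit 0) (BT.and (nat_lit 6) (nat_lit 0) (BT.img (nat_lit 1) (nat_lit 0) (BT.and (nat_lit 7) (nat_lit 0) (BT.img (nat_lit 1) (nat_lit 0) (BT.img (nat_lit 1) (nat_lit 0) (BT.and (nat_lit 0) (nat_lit 11) (BT.cnt (nat_lit 0)))))))))))))))) (BT.kid (nat_lit 14) (nat_lit 1) (BT.frm (nat_lit 1) (nat_lit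 0x80d050e) (nat_lit 0x80d050e) [nat_lit 0, nat_lit 3] (BT.pln (nat_lit 0) (nat_lit 3) (BT.img (nat_lit 1) (nat_lit 0) (BT.and (nat_lit 1) (nat_lit 0) (BT.img (nat_lit 1) (nat_lit 0) (BT.and (nat_lit 2) (nat_lit 0) (BT.dif (nat_lit 0) (nat_lit 4) (BT.img (nat_lit 1) (nat_lit 0) (BT.and (nat_lit 6) (nat_lit 0) (BT.img (nat_lit 1) (nat_lit 0) (BT.and (nat_lit 7) (nat_lit 0) (BT.img (nat_lit 1) (nat_lit 0) (BT.img (nat_lit 1) (nat_lit 0) (BT.img (nat_lit 1) (nat_lit 0) (BT.img (nat_lit 1) (nat_lit 0) (BT.img (nat_lit 1) (nat_lit 0) (BT.img (nat_lit 1) (nat_lit 0) (BT.img (nat_lit 1) (nat_lit 0) (BT.and (nat_lit 16) (nat_lit 0) (BT.and (nat_lit 17) (nat_lit 14) (BT.img (nat_lit 1) (nat_lit 0) (BT.and (nat_lit 18) (nat_lit 0) (BT.img (nat_lit 1) (nat_lit 0) (BT.img (nat_lit 1) (nat_lit 23) (BT.frm (nat_lit 2) (nat_lit 0xc21080d050e) (nat_lit 0xc21080d050e) [nat_lit 0, nat_lit 24, nat_lit 27] (BT.pln (nat_lit 0) (nat_lit 6)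 (BT.dif (nat_lit 0) (nat_lit 21) (BT.img (nat_lit 1) (nat_lit 8) (BT.dif (nat_lit 1) (nat_lit 0) (BT.dif (nat_lit 27) (nat_lit 26) (BT.dif (nat_lit 27) (nat_lit 28) (BT.dif (nat_lit 0) (nat_lit 26) (BT.dif (nat_lit 38) (nat_lit 33) (BT.dif (nat_lit 0) (nat_lit 31) (BT.dif (nat_lit 0) (nat_lit 31) (BT.dif (nat_lit 0) (nat_lit 38) (BT.dif (nat_lit 28) (nat_lit 34) (BT.img (nat_lit 1) (nat_lit 0) (BT.dif (nat_lit 0) (nat_lit 36) (BT.img (nat_lit 1) (nat_lit 0) (BT.and (nat_lit 10) (nat_lit 0) (BT.img (nat_lit 1) (nat_lit 0) (BT.and (nat_lit 10) (nat_lit 0) (BT.img (nat_lit 1) (nat_lit 0) (BT.and (nat_lit 8) (nat_lit 0) (BT.img (nat_lit 1) (nat_lit 0) (BT.and (nat_lit 16) (nat_lit 0) (BT.img (nat_lit 1) (nat_lit 0) (BT.and (nat_lit 16) (nat_lit 0) (BT.img (nat_lit 1) (nat_lit 0) (BT.and (nat_lit 20) (nat_lit 0) (BT.img (nat_lit 1) (nat_lit 0) (BT.and (nat_lit 23) (nat_lit 0) (BT.and (nat_lit 51) (nat_lit 15) (BT.img (nat_lit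 1) (nat_lit 0) (BT.and (nat_lit 24) (nat_lit 0) (BT.img (nat_lit 1) (nat_lit 0) (BT.and (nat_lit 22) (nat_lit 0) (BT.img (nat_lit 1) (nat_lit 0) (BT.and (nat_lit 24) (nat_lit 0) (BT.img (nat_lit 1) (nat_lit 0) (BT.and (nat_lit 26) (nat_lit 0) (BT.img (nat_lit 1) (nat_lit 0) (BT.and (nat_lit 28) (nat_lit 0) (BT.img (nat_lit 1) (nat_lit 0) (BT.and (nat_lit 30) (nat_lit 0) (BT.img (nat_lit 1) (nat_lit 0) (BT.and (nat_lit 37) (nat_lit 0) (BT.img (nat_lit 1) (nat_lit 0) (BT.and (nat_lit 43) (nat_lit 0) (BT.and (nat_lit 44) (nat_lit 42) (BT.one (nat_lit 3) (nat_lit 0x2d29251f1a170c21080d050e) (nat_lit 0x2d29251f1a170c21080d050e) [nat_lit 52, nat_lit 58, nat_lit 48, nat_lit 18, nat_lit 1, nat_lit 0, nat_lit 51, nat_lit 47, nat_lit 71, nat_lit 74])))))))))))))))))))))))))))))))))))))))))))))))))))))))))))))))))))))))) BT.nil))))))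

theorem nt_c29_cnt : Cnt 100 (grp 100 EG) [t_g381] [t_g381] 0 0 0 0 11 :=
  BT.sound nt_c29_cnt_P Known.nil (t := nt_c29_cnt_t) (d := 0) (by decide +kernel)

theorem nt_c29_ge : 11 ≤ Nat.card (grp 100 nt_c29_K) :=
  Ch.le_card_grp (k := 7) (L := (lab 100 7)) t_hn nt_c29_K_ok (c := (Ch.cons (nat_lit 14) [nat_lit 1] Ch.nil)) (by decide +kernel)

theorem nt_c29_eq : (grp 100 EG) ⊓ Subgroup.centralizer {Net.toPerm 100 t_g381} = grp 100 nt_c29_K :=
  cent_eq nt_c29_sym nt_c29_cnt nt_c29_ge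

theorem nt_c29_card : Nat.card ↥((grp 100 EG) ⊓ Subgroup.centralizer {Net.toPerm 100 t_g381}) = 11 :=
  card_cent nt_c29_sym nt_c29_cnt nt_c29_ge

theorem nt_c29_ord : orderOf (Net.toPerm 100 t_g381) = 11 :=
  orderOf_net t_hn t_hk t_g381_ok (by decide) (ps := [11]) (by set_option linter.unusedSimpArgs false in simp [Nat.primeFactorsList_ofNat]) (by decide +kernel)

theorem t_le389 : grp 100 nt_c30_K ≤ grp 100 lb_E :=
  grp_le_of_memB t_hn t_hk lb_E_ok nt_c30_K_ok (ws := [nat_lit 0x2b1a13180f11080e01030f, nat_lit 0x1f100b16070e0111, nat_lit 0x1f1a130f0b07120527]) (by decide +kernel)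

theorem nt_c30_le : grp 100 nt_c30_K ≤ (grp 100 EG) :=
  (t_le389.trans T_s0.le)

theorem nt_c30_mem : Net.toPerm 100 t_g386 ∈ (grp 100 EG) :=
  nt_c30_le (toPerm_mem_grp (E := nt_c30_K) (List.Mem.head _))

theorem nt_c30_sym : Sym 100 (grp 100 EG) [t_g386] nt_c30_K 0 :=
  Sym.of_lab t_hn t_hk (okE_cons.2 ⟨t_g386_ok, okE_nil _⟩) nt_c30_K_ok nt_c30_le (kT := 0) (by decide +kernel)

noncomputable def nt_c30_cnt_L : List ℕ := [1, 2, T_s1_O, 0, 0, 2, 4, T_s2_O, 0, 0, 6, 34, T_s65_O, 0, 0, 7, 64, T_s66_O, 0, 0, 8, 12, T_s67_O, 1, 0]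

theorem nt_c30_cnt_P : Prob 100 7 (grp 100 EG) nt_c30_cnt_EG [t_g386] [t_g386] nt_c30_K nt_c30_cnt_L 0 0 :=
  Sym.prob t_hn t_hk nt_c30_sym nt_c30_cnt_EG_ok (grp_cons_le MpHS.a_T (grp_cons_le HSM.g1_T (grp_cons_le HSM.g2_T (grp_cons_le t_g1_T (grp_cons_le t_g2_T (grp_cons_le t_g5_T (grp_cons_le t_g6_T (grp_cons_le t_g9_T (grp_cons_le t_g10_T (grp_cons_le t_g13_T (grp_cons_le t_g14_T (grp_cons_le t_g15_T (grp_cons_le t_g18_T (grp_cons_le t_g19_T (grp_cons_le t_g20_T (grp_cons_le t_g23_T (grp_cons_le t_g24_T (grp_cons_le t_g25_T (grp_cons_le t_g28_T (grp_cons_le t_g29_T (grp_cons_le t_g30_T (grp_cons_le t_g31_T (grp_cons_le t_g34_T (grp_cons_le t_g249_T (grp_cons_le t_g250_T (grp_nil_le _)))))))))))))))))))))))))) (Frames.cons T_s1_F (Frames.cons T_s2_F (Frames.cons T_s65_F (Frames.cons T_s66_F (Frames.cons T_s67_F Frames.nil))))) (okE_cons.2 ⟨t_g386_ok, okE_nil _⟩) _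

noncomputable def nt_c30_cnt_t : BT := (BT.fix (nat_lit 0x1010101) (BT.fix (nat_lit 1) (BT.dif (nat_lit 1) (nat_lit 0) (BT.br (nat_lit 0) (nat_lit 90) [nat_lit 1, nat_lit 3] (BT.kid (nat_lit 90) (nat_lit 3) (BT.frm (nat_lit 0) (nat_lit 1025) (nat_lit 1025) [nat_lit 0] (BT.pln (nat_lit 0) (nat_lit 1) (BT.dif (nat_lit 4) (nat_lit 0) (BT.img (nat_lit 1) (nat_lit 3) (BT.img (nat_lit 1) (nat_lit 0) (BT.img (nat_lit 1) (nat_lit 0) (BT.and (nat_lit 4) (nat_lit 9) (BT.dif (nat_lit 10) (nat_lit 5) (BT.dif (nat_lit 0) (nat_lit 8) (BT.dif (nat_lit 0) (nat_lit 5) (BT.dif (nat_lit 0) (nat_lit 5) (BT.dif (nat_lit 0) (nat_lit 13) (BT.dif (nat_lit 0) (nat_lit 6) (BT.img (nat_lit 1) (nat_lit 0) (BT.and (nat_lit 7) (nat_lit 0) (BT.and (nat_lit 17) (nat_lit 13) (BT.frm (nat_lit 2) (nat_lit 0x1d190f0b1607070401) (nat_lit 0x1d190f0b1607070401) [nat_lit 13, nat_lit 10, nat_lit 11, nat_lit 1, nat_lit 0, nat_lit 16] (BT.pln (nat_lit 0) (nat_lit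 14) (BT.br (nat_lit 0) (nat_lit 51) [nat_lit 5] (BT.kid (nat_lit 51) (nat_lit 1) (BT.frm (nat_lit 1) (nat_lit 0x7070401) (nat_lit 0x7070401) [nat_lit 3, nat_lit 19] (BT.pln (nat_lit 0) (nat_lit 3) (BT.frm (nat_lit 3) (nat_lit 0x2f1d190f0b1607070401) (nat_lit 0x2f1d190f0b1607070401) [nat_lit 2, nat_lit 18, nat_lit 15, nat_lit 16, nat_lit 6, nat_lit 5, nat_lit 21] (BT.pln (nat_lit 0) (nat_lit 43) (BT.and (nat_lit 2) (nat_lit 0) (BT.img (nat_lit 1) (nat_lit 0) (BT.and (nat_lit 4) (nat_lit 0) (BT.img (nat_lit 1) (nat_lit 0) (BT.and (nat_lit 6) (nat_lit 0) (BT.one (nat_lit 4) (nat_lit 0x2f1d190f0b1607070401) (nat_lit 0x2f1d190f0b1607070401) [nat_lit 0, nat_lit 9, nat_lit 25, nat_lit 22, nat_lit 23, nat_lit 13, nat_lit 12, nat_lit 28])))))))))) BT.nil)))))))))))))))))))) BT.nil)))))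

theorem nt_c30_cnt : Cnt 100 (grp 100 EG) [t_g386] [t_g386] 0 0 0 0 24 :=
  BT.sound nt_c30_cnt_P Known.nil (t := nt_c30_cnt_t) (d := 0) (by decide +kernel)

theorem nt_c30_ge : 24 ≤ Nat.card (grp 100 nt_c30_K) :=
  Ch.le_card_grp (k := 7) (L := (lab 100 7)) t_hn nt_c30_K_ok (c := (Ch.cons (nat_lit 90) [nat_lit 1, nat_lit 3] (Ch.cons (nat_lit 51) [nat_lit 5] Ch.nil))) (by decide +kernel)

theorem nt_c30_eq : (grp 100 EG) ⊓ Subgroup.centralizer {Net.toPerm 100 t_g386} = grp 100 nt_c30_K :=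
  cent_eq nt_c30_sym nt_c30_cnt nt_c30_ge

theorem nt_c30_card : Nat.card ↥((grp 100 EG) ⊓ Subgroup.centralizer {Net.toPerm 100 t_g386}) = 24 :=
  card_cent nt_c30_sym nt_c30_cnt nt_c30_ge

theorem nt_c30_ord : orderOf (Net.toPerm 100 t_g386) = 12 :=
  orderOf_net t_hn t_hk t_g386_ok (by decide) (ps := [2, 3]) (by set_option linter.unusedSimpArgs false in simp [Nat.primeFactorsList_ofNat]) (by decide +kernel)

theorem t_le392 : grp 100 nt_c31_K ≤ grp 100 lb_E :=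
  grp_le_of_memB t_hn t_hk lb_E_ok nt_c31_K_ok (ws := [nat_lit 0x1a130c210a0c010325, nat_lit 0x2f251a170f0f0e1207110113]) (by decide +kernel)

theorem nt_c31_le : grp 100 nt_c31_K ≤ (grp 100 EG) :=
  (t_le392.trans T_s0.le)

theorem nt_c31_mem : Net.toPerm 100 t_g390 ∈ (grp 100 EG) :=
  nt_c31_le (toPerm_mem_grp (E := nt_c31_K) (List.Mem.head _))

theorem nt_c31_sym : Sym 100 (grp 100 EG) [t_g390] nt_c31_K 0 :=
  Sym.of_lab t_hn t_hk (okE_cons.2 ⟨t_g390_ok, okE_nil _⟩) nt_c31_K_ok nt_c31_le (kT := 0) (by decide +kernel)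

noncomputable def T_s74_O : ℕ := (nat_lit 0x40000000000000000000000000008000000000000000000000000000800000000000000000000000000008000000000000000000000000100000000000000000000000000001000000000000000000000000000020000000000000000000000000008000006000000000000000000000400000400000000000000000000010004000000000000000000000000102000000000000000000002000004000000000000000100000000010000000000000000000020000800000000000000008000000010000000000000000000000080400000000000000000000004000200000000000001000000000002000000010000000000000000100000000000040000000000004000000000000000800000000200000000000000000000100000400000000000000000002000000200000000000002000000000010000000000000000000000200400000000000000020000000020200000009100000000000000001400000001000040000000000008000000000000c0100000080004000004000000004000000000000240000000000180000000000200420000000001000008002000008000000000040000080000000002080000002000000000100000000008000840000000080000004000080000100000000000000200140000008000000000000000000000000100200000000000000000000000200000000000000000000000000000000000000000000008000001000000000000000000000000000000000000000800000)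

theorem T_s74_F : Frame 100 (grp 100 EG) 6 44 T_s74_O 0 1 :=
  Stab.frame t_hn T_s74 (by decide +kernel)

noncomputable def T_s31_O : ℕ := (nat_lit 0x140010000100004020000000000000002000480120080000004001000000000300000400200001000400000008000001006200602009104000000020000010100002400110000101800008000c800004201000004001000080000102002080000022840400800680c288042c030102000000000000000000000000001002000000000000000000000002000000000000000000000000000000000000000000000080)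

theorem T_s31_F : Frame 100 (grp 100 EG) 4 13 T_s31_O 0 1 :=
  Stab.frame t_hn T_s31 (by decide +kernel)

noncomputable def nt_c31_cnt_L : List ℕ := [1, 2, T_s1_O, 0, 0, 4, 13, T_s31_O, 0, 0, 5, 25, T_s47_O, 0, 0, 6, 44, T_s74_O, 0, 0, 7, 64, T_s75_O, 0, 0, 8, 12, T_s76_O, 1, 0]

theorem nt_c31_cnt_P : Prob 100 7 (grp 100 EG) nt_c31_cnt_EG [t_g390] [t_g390] nt_c31_K nt_c31_cnt_L 0 0 :=
  Sym.prob t_hn t_hk nt_c31_sym nt_c31_cnt_EG_ok (grp_cons_le MpHS.a_T (grp_cons_le HSM.g1_T (grp_cons_le HSM.g2_T (grp_cons_le t_g1_T (grp_cons_le t_g2_T (grp_cons_le t_g5_T (grp_cons_le t_g6_T (grp_cons_le t_g9_T (grp_cons_le t_g10_T (grp_cons_le t_g13_T (grp_cons_le t_g14_T (grp_cons_le t_g15_T (grp_cons_le t_g18_T (grp_cons_le t_g19_T (grp_cons_le t_g20_T (grp_cons_le t_g23_T (grp_cons_le t_g24_T (grp_cons_le t_g25_T (grp_cons_le t_g28_T (grp_cons_le t_g29_T (grp_cons_le t_g30_T (grp_cons_le t_g31_T (grp_cons_le t_g34_T (grp_cons_le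 t_g133_T (grp_cons_le t_g134_T (grp_cons_le t_g135_T (grp_cons_le t_g136_T (grp_cons_le t_g137_T (grp_cons_le t_g86_T (grp_cons_le t_g87_T (grp_cons_le t_g88_T (grp_cons_le t_g89_T (grp_cons_le t_g90_T (grp_cons_le t_g91_T (grp_cons_le t_g92_T (grp_cons_le t_g93_T (grp_cons_le t_g192_T (grp_cons_le t_g193_T (grp_cons_le t_g194_T (grp_cons_le t_g292_T (grp_cons_le t_g293_T (grp_nil_le _)))))))))))))))))))))))))))))))))))))))))) (Frames.cons T_s1_F (Frames.cons T_s31_F (Frames.cons T_s47_F (Frames.cons T_s74_F (Frames.cons T_s75_F (Frames.cons T_s76_F Frames.nil)))))) (okE_cons.2 ⟨t_g390_ok, okE_nil _⟩) _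

noncomputable def nt_c31_cnt_t : BT := (BT.fix (nat_lit 257) (BT.br (nat_lit 0) (nat_lit 37) [nat_lit 1] (BT.kid (nat_lit 37) (nat_lit 12) (BT.frm (nat_lit 0) (nat_lit 66331) (nat_lit 66331) [nat_lit 0] (BT.pln (nat_lit 0) (nat_lit 1) (BT.fix (nat_lit 0x10101010101) (BT.dif (nat_lit 1) (nat_lit 0) (BT.fix (nat_lit 0x1010101) (BT.dif (nat_lit 1) (nat_lit 0) (BT.br (nat_lit 0) (nat_lit 33) [nat_lit 3] (BT.kid (nat_lit 33) (nat_lit 1) (BT.dif (nat_lit 4) (nat_lit 5) (BT.dif (nat_lit 0) (nat_lit 8) (BT.img (nat_lit 1) (nat_lit 2) (BT.img (nat_lit 1) (nat_lit 0) (BT.img (nat_lit 1) (nat_lit 0) (BT.img (nat_lit 1) (nat_lit 0) (BT.dif (nat_lit 14) (nat_lit 13) (BT.frm (nat_lit 3) (nat_lit 0x4a332f33393f07140801031b) (nat_lit 0x4a332f33393f07140801031b) [nat_lit 1, nat_lit 2, nat_lit 4, nat_lit 7, nat_lit 0, nat_lit 14] (BT.pln (nat_lit 0) (nat_lit 6) (BT.and (nat_lit 7) (nat_lit 0) (BT.and (nat_lit 15) (nat_lit 12) (BT.frm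 (nat_lit 2) (nat_lit 0x332f33393f07140801031b) (nat_lit 0x332f33393f07140801031b) [nat_lit 6, nat_lit 8, nat_lit 11, nat_lit 4, nat_lit 18] (BT.pln (nat_lit 0) (nat_lit 20) (BT.and (nat_lit 2) (nat_lit 0) (BT.frm (nat_lit 4) (nat_lit 0x4a332f33393f07140801031b) (nat_lit 0x4a332f33393f07140801031b) [nat_lit 0, nat_lit 8, nat_lit 9, nat_lit 11, nat_lit 14, nat_lit 7, nat_lit 21] (BT.pln (nat_lit 0) (nat_lit 8) (BT.and (nat_lit 6) (nat_lit 0) (BT.frm (nat_lit 1) (nat_lit 0x2f33393f07140801031b) (nat_lit 0x2f33393f07140801031b) [nat_lit 14, nat_lit 17, nat_lit 10, nat_lit 24] (BT.pln (nat_lit 0) (nat_lit 4) (BT.and (nat_lit 23) (nat_lit 0) (BT.img (nat_lit 1) (nat_lit 0) (BT.and (nat_lit 4) (nat_lit 0) (BT.one (nat_lit 5) (nat_lit 0x514a332f33393f07140801031b) (nat_lit 0x514a332f33393f07140801031b) [nat_lit 0, nat_lit 8, nat_lit 16, nat_lit 17, nat_lit 19, nat_lit 22, nat_lit 15, nat_lit 29]))))))))))))))))))))))) BT.nil))))))))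 BT.nil)))

theorem nt_c31_cnt : Cnt 100 (grp 100 EG) [t_g390] [t_g390] 0 0 0 0 24 :=
  BT.sound nt_c31_cnt_P Known.nil (t := nt_c31_cnt_t) (d := 0) (by decide +kernel)

theorem nt_c31_ge : 24 ≤ Nat.card (grp 100 nt_c31_K) :=
  Ch.le_card_grp (k := 7) (L := (lab 100 7)) t_hn nt_c31_K_ok (c := (Ch.cons (nat_lit 37) [nat_lit 1] (Ch.cons (nat_lit 33) [nat_lit 3] Ch.nil))) (by decide +kernel)

theorem nt_c31_eq : (grp 100 EG) ⊓ Subgroup.centralizer {Net.toPerm 100 t_g390} = grp 100 nt_c31_K :=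
  cent_eq nt_c31_sym nt_c31_cnt nt_c31_ge

theorem nt_c31_card : Nat.card ↥((grp 100 EG) ⊓ Subgroup.centralizer {Net.toPerm 100 t_g390}) = 24 :=
  card_cent nt_c31_sym nt_c31_cnt nt_c31_ge

theorem nt_c31_ord : orderOf (Net.toPerm 100 t_g390) = 12 :=
  orderOf_net t_hn t_hk t_g390_ok (by decide) (ps := [2, 3]) (by set_option linter.unusedSimpArgs false in simp [Nat.primeFactorsList_ofNat]) (by decide +kernel)

theorem t_le394 : grp 100 nt_c32_K ≤ grp 100 lb_E :=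
  grp_le_of_memB t_hn t_hk lb_E_ok nt_c32_K_ok (ws := [nat_lit 0x31252b1a13180f110d1107190101]) (by decide +kernel)

theorem nt_c32_le : grp 100 nt_c32_K ≤ (grp 100 EG) :=
  (t_le394.trans T_s0.le)

theorem nt_c32_mem : Net.toPerm 100 t_g393 ∈ (grp 100 EG) :=
  nt_c32_le (toPerm_mem_grp (E := nt_c32_K) (List.Mem.head _))

theorem nt_c32_sym : Sym 100 (grp 100 EG) [t_g393] nt_c32_K 0 :=
  Sym.of_lab t_hn t_hk (okE_cons.2 ⟨t_g393_ok, okE_nil _⟩) nt_c32_K_ok nt_c32_le (kT := 0) (by decide +kernel)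

noncomputable def nt_c32_cnt_L : List ℕ := [1, 2, T_s1_O, 0, 0, 2, 4, T_s2_O, 0, 0, 3, 7, T_s3_O, 0, 0, 10, 14, T_s101_O, 1, 0]

theorem nt_c32_cnt_P : Prob 100 7 (grp 100 EG) nt_c32_cnt_EG [t_g393] [t_g393] nt_c32_K nt_c32_cnt_L 0 0 :=
  Sym.prob t_hn t_hk nt_c32_sym nt_c32_cnt_EG_ok (grp_cons_le MpHS.a_T (grp_cons_le HSM.g1_T (grp_cons_le HSM.g2_T (grp_cons_le t_g1_T (grp_cons_le t_g2_T (grp_cons_le t_g5_T (grp_cons_le t_g6_T (grp_cons_le t_g9_T (grp_cons_le t_g10_T (grp_cons_le t_g13_T (grp_cons_le t_g14_T (grp_cons_le t_g15_T (grp_cons_le t_g18_T (grp_cons_le t_g19_T (grp_cons_le t_g20_T (grp_cons_le t_g23_T (grp_cons_le t_g24_T (grp_cons_le t_g25_T (grp_cons_le t_g28_T (grp_cons_le t_g29_T (grp_cons_le t_g30_T (grp_cons_le t_g31_T (grp_cons_le t_g34_T (grp_nil_le _)))))))))))))))))))))))) (Frames.cons T_s1_F (Frames.cons T_s2_F (Frames.cons T_s3_F (Frames.cons T_s101_F Frames.nil)))) (okE_cons.2 ⟨t_g393_ok, okE_nil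 _⟩) _

noncomputable def nt_c32_cnt_t : BT := (BT.fix (nat_lit 1) (BT.br (nat_lit 0) (nat_lit 26) [] (BT.dead (nat_lit 23) (BT.frm (nat_lit 0) (nat_lit 1558) (nat_lit 275) [nat_lit 0] (BT.pln (nat_lit 0) (nat_lit 1) (BT.fix (nat_lit 0x1010101010101) (BT.dif (nat_lit 1) (nat_lit 0) (BT.br (nat_lit 0) (nat_lit 72) [nat_lit 1] (BT.dead (nat_lit 40) (BT.dif (nat_lit 2) (nat_lit 3) (BT.dif (nat_lit 7) (nat_lit 6) (BT.frm (nat_lit 2) (nat_lit 0xb1a0a0616) (nat_lit 0xb0b0a0113) [nat_lit 2, nat_lit 0, nat_lit 7] (BT.pln (nat_lit 0) (nat_lit 5) (BT.and (nat_lit 0) (nat_lit 6) (BT.img (nat_lit 1) (nat_lit 0) (BT.and (nat_lit 1) (nat_lit 0) (BT.img (nat_lit 1) (nat_lit 0) (BT.and (nat_lit 7) (nat_lit 0) (BT.img (nat_lit 1) (nat_lit 0) (BT.and (nat_lit 0) (nat_lit 6) (BT.cnt (nat_lit 0))))))))))))) BT.nil)))))) (BT.kid (nat_lit 26) (nat_lit 14) (BT.frm (nat_lit 0) (nat_lit 1558) (nat_lit 1558) [nat_lit 0] (BT.pln (nat_lit 0) (nat_lit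 1) (BT.fix (nat_lit 0x1010101010101) (BT.dif (nat_lit 1) (nat_lit 0) (BT.br (nat_lit 0) (nat_lit 72) [nat_lit 1] (BT.kid (nat_lit 72) (nat_lit 1) (BT.dif (nat_lit 6) (nat_lit 5) (BT.frm (nat_lit 1) (nat_lit 656918) (nat_lit 656918) [nat_lit 0, nat_lit 6] (BT.pln (nat_lit 0) (nat_lit 3) (BT.frm (nat_lit 2) (nat_lit 0xb1a0a0616) (nat_lit 0xb1a0a0616) [nat_lit 3, nat_lit 2, nat_lit 8] (BT.pln (nat_lit 0) (nat_lit 6) (BT.dif (nat_lit 0) (nat_lit 7) (BT.img (nat_lit 1) (nat_lit 0) (BT.and (nat_lit 4) (nat_lit 0) (BT.pln (nat_lit 4) (nat_lit 4) (BT.and (nat_lit 1) (nat_lit 0) (BT.img (nat_lit 1) (nat_lit 0) (BT.and (nat_lit 6) (nat_lit 0) (BT.img (nat_lit 1) (nat_lit 0) (BT.dif (nat_lit 3) (nat_lit 0) (BT.dif (nat_lit 11) (nat_lit 16) (BT.and (nat_lit 0) (nat_lit 6) (BT.and (nat_lit 0) (nat_lit 5) (BT.and (nat_lit 7) (nat_lit 4) (BT.img (nat_lit 1) (nat_lit 0) (BT.dif (nat_lit 2) (nat_lit 0) (BT.img (nat_lit 1) (nat_lit 0)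 (BT.and (nat_lit 15) (nat_lit 0) (BT.img (nat_lit 1) (nat_lit 0) (BT.dif (nat_lit 9) (nat_lit 0) (BT.dif (nat_lit 33) (nat_lit 27) (BT.dif (nat_lit 0) (nat_lit 22) (BT.dif (nat_lit 0) (nat_lit 28) (BT.pln (nat_lit 23) (nat_lit 5) (BT.dif (nat_lit 1) (nat_lit 0) (BT.dif (nat_lit 1) (nat_lit 31) (BT.img (nat_lit 1) (nat_lit 0) (BT.and (nat_lit 6) (nat_lit 0) (BT.dif (nat_lit 0) (nat_lit 4) (BT.and (nat_lit 5) (nat_lit 2) (BT.img (nat_lit 1) (nat_lit 0) (BT.and (nat_lit 2) (nat_lit 0) (BT.img (nat_lit 1) (nat_lit 0) (BT.and (nat_lit 8) (nat_lit 0) (BT.img (nat_lit 1) (nat_lit 0) (BT.and (nat_lit 10) (nat_lit 0) (BT.img (nat_lit 1) (nat_lit 0) (BT.and (nat_lit 12) (nat_lit 0) (BT.dif (nat_lit 44) (nat_lit 45) (BT.dif (nat_lit 0) (nat_lit 40) (BT.dif (nat_lit 0) (nat_lit 49) (BT.dif (nat_lit 0) (nat_lit 17) (BT.and (nat_lit 18) (nat_lit 48) (BT.img (nat_lit 1) (nat_lit 0) (BT.and (nat_lit 5) (nat_lit 0) (BT.dif (nat_lit 0)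 (nat_lit 21) (BT.and (nat_lit 3) (nat_lit 2) (BT.img (nat_lit 1) (nat_lit 0) (BT.dif (nat_lit 2) (nat_lit 0) (BT.and (nat_lit 10) (nat_lit 1) (BT.img (nat_lit 1) (nat_lit 0) (BT.and (nat_lit 8) (nat_lit 0) (BT.img (nat_lit 1) (nat_lit 0) (BT.dif (nat_lit 4) (nat_lit 0) (BT.img (nat_lit 1) (nat_lit 0) (BT.and (nat_lit 13) (nat_lit 0) (BT.img (nat_lit 1) (nat_lit 0) (BT.and (nat_lit 15) (nat_lit 0) (BT.img (nat_lit 1) (nat_lit 0) (BT.and (nat_lit 17) (nat_lit 0) (BT.and (nat_lit 59) (nat_lit 57) (BT.and (nat_lit 60) (nat_lit 67) (BT.one (nat_lit 3) (nat_lit 0x291f0f110b1a0a0616) (nat_lit 0x291f0f110b1a0a0616) [nat_lit 42, nat_lit 24, nat_lit 2, nat_lit 44, nat_lit 54, nat_lit 1, nat_lit 0, nat_lit 66, nat_lit 65, nat_lit 71]))))))))))))))))))))))))))))))))))))))))))))))))))))))))))))))))))) BT.nil)))))) BT.nil))))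

theorem nt_c32_cnt : Cnt 100 (grp 100 EG) [t_g393] [t_g393] 0 0 0 0 14 :=
  BT.sound nt_c32_cnt_P Known.nil (t := nt_c32_cnt_t) (d := 0) (by decide +kernel)

theorem nt_c32_ge : 14 ≤ Nat.card (grp 100 nt_c32_K) :=
  Ch.le_card_grp (k := 7) (L := (lab 100 7)) t_hn nt_c32_K_ok (c := (Ch.cons (nat_lit 72) [nat_lit 1] Ch.nil)) (by decide +kernel)

theorem nt_c32_eq : (grp 100 EG) ⊓ Subgroup.centralizer {Net.toPerm 100 t_g393} = grp 100 nt_c32_K :=
  cent_eq nt_c32_sym nt_c32_cnt nt_c32_ge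

theorem nt_c32_card : Nat.card ↥((grp 100 EG) ⊓ Subgroup.centralizer {Net.toPerm 100 t_g393}) = 14 :=
  card_cent nt_c32_sym nt_c32_cnt nt_c32_ge

theorem nt_c32_ord : orderOf (Net.toPerm 100 t_g393) = 14 :=
  orderOf_net t_hn t_hk t_g393_ok (by decide) (ps := [2, 7]) (by set_option linter.unusedSimpArgs false in simp [Nat.primeFactorsList_ofNat]) (by decide +kernel)

theorem t_le398 : grp 100 nt_c33_K ≤ grp 100 lb_E :=
  grp_le_of_memB t_hn t_hk lb_E_ok nt_c33_K_ok (ws := [nat_lit 0x31251a13100c14080e0308, nat_lit 0x2519170f0f0b1d0a0c0608, nat_lit 0x312f252b19170d1108180507]) (by decide +kernel)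

theorem nt_c33_le : grp 100 nt_c33_K ≤ (grp 100 EG) :=
  (t_le398.trans T_s0.le)

theorem nt_c33_mem : Net.toPerm 100 t_g395 ∈ (grp 100 EG) :=
  nt_c33_le (toPerm_mem_grp (E := nt_c33_K) (List.Mem.head _))

theorem nt_c33_sym : Sym 100 (grp 100 EG) [t_g395] nt_c33_K 0 :=
  Sym.of_lab t_hn t_hk (okE_cons.2 ⟨t_g395_ok, okE_nil _⟩) nt_c33_K_ok nt_c33_le (kT := 0) (by decide +kernel)

noncomputable def nt_c33_cnt_L : List ℕ := [1, 2, T_s1_O, 0, 0, 6, 34, T_s65_O, 0, 0, 8, 12, T_s67_O, 1, 0]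

theorem nt_c33_cnt_P : Prob 100 7 (grp 100 EG) nt_c33_cnt_EG [t_g395] [t_g395] nt_c33_K nt_c33_cnt_L 0 0 :=
  Sym.prob t_hn t_hk nt_c33_sym nt_c33_cnt_EG_ok (grp_cons_le MpHS.a_T (grp_cons_le HSM.g1_T (grp_cons_le HSM.g2_T (grp_cons_le t_g1_T (grp_cons_le t_g2_T (grp_cons_le t_g5_T (grp_cons_le t_g6_T (grp_cons_le t_g9_T (grp_cons_le t_g10_T (grp_cons_le t_g13_T (grp_cons_le t_g14_T (grp_cons_le t_g15_T (grp_cons_le t_g18_T (grp_cons_le t_g19_T (grp_cons_le t_g20_T (grp_cons_le t_g23_T (grp_cons_le t_g24_T (grp_cons_le t_g25_T (grp_cons_le t_g28_T (grp_cons_le t_g29_T (grp_cons_le t_g30_T (grp_cons_le t_g31_T (grp_cons_le t_g34_T (grp_cons_le t_g250_T (grp_cons_le t_g249_T (grp_nil_le _)))))))))))))))))))))))))) (Frames.cons T_s1_F (Frames.cons T_s65_F (Frames.cons T_s67_F Frames.nil))) (okE_cons.2 ⟨t_g395_ok, okE_nil _⟩) _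

noncomputable def nt_c33_cnt_t : BT := (BT.fix (nat_lit 0x101010101) (BT.br (nat_lit 0) (nat_lit 91) [nat_lit 3] (BT.kid (nat_lit 91) (nat_lit 3) (BT.dif (nat_lit 4) (nat_lit 1) (BT.img (nat_lit 1) (nat_lit 1) (BT.img (nat_lit 1) (nat_lit 0) (BT.img (nat_lit 1) (nat_lit 0) (BT.img (nat_lit 1) (nat_lit 0) (BT.frm (nat_lit 0) (nat_lit 773) (nat_lit 773) [nat_lit 5] (BT.pln (nat_lit 0) (nat_lit 1) (BT.and (nat_lit 0) (nat_lit 8) (BT.dif (nat_lit 9) (nat_lit 1) (BT.dif (nat_lit 0) (nat_lit 9) (BT.dif (nat_lit 0) (nat_lit 8) (BT.dif (nat_lit 0) (nat_lit 8) (BT.dif (nat_lit 0) (nat_lit 8) (BT.dif (nat_lit 0) (nat_lit 8) (BT.img (nat_lit 1) (nat_lit 0) (BT.and (nat_lit 7) (nat_lit 0) (BT.img (nat_lit 1) (nat_lit 0) (BT.and (nat_lit 9) (nat_lit 0) (BT.frm (nat_lit 1) (nat_lit 0x191e170c140a0b0305) (nat_lit 0x191e170c140a0b0305) [nat_lit 16, nat_lit 13, nat_lit 14, nat_lit 0, nat_lit 2, nat_lit 18] (BT.pln (nat_lit 0) (nat_lit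 14) (BT.and (nat_lit 19) (nat_lit 0) (BT.br (nat_lit 0) (nat_lit 41) [nat_lit 5] (BT.kid (nat_lit 41) (nat_lit 1) (BT.img (nat_lit 1) (nat_lit 0) (BT.one (nat_lit 2) (nat_lit 0x32191e170c140a0b0305) (nat_lit 0x32191e170c140a0b0305) [nat_lit 0, nat_lit 1, nat_lit 21, nat_lit 18, nat_lit 19, nat_lit 5, nat_lit 7, nat_lit 23])) BT.nil))))))))))))))))))))))) BT.nil)))

theorem nt_c33_cnt : Cnt 100 (grp 100 EG) [t_g395] [t_g395] 0 0 0 0 30 :=
  BT.sound nt_c33_cnt_P Known.nil (t := nt_c33_cnt_t) (d := 0) (by decide +kernel)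

theorem nt_c33_ge : 30 ≤ Nat.card (grp 100 nt_c33_K) :=
  Ch.le_card_grp (k := 7) (L := (lab 100 7)) t_hn nt_c33_K_ok (c := (Ch.cons (nat_lit 91) [nat_lit 1, nat_lit 3] (Ch.cons (nat_lit 41) [nat_lit 5] Ch.nil))) (by decide +kernel)

theorem nt_c33_eq : (grp 100 EG) ⊓ Subgroup.centralizer {Net.toPerm 100 t_g395} = grp 100 nt_c33_K :=
  cent_eq nt_c33_sym nt_c33_cnt nt_c33_ge

theorem nt_c33_card : Nat.card ↥((grp 100 EG) ⊓ Subgroup.centralizer {Net.toPerm 100 t_g395}) = 30 :=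
  card_cent nt_c33_sym nt_c33_cnt nt_c33_ge

theorem nt_c33_ord : orderOf (Net.toPerm 100 t_g395) = 15 :=
  orderOf_net t_hn t_hk t_g395_ok (by decide) (ps := [3, 5]) (by set_option linter.unusedSimpArgs false in simp [Nat.primeFactorsList_ofNat]) (by decide +kernel)

theorem t_le401 : grp 100 nt_c34_K ≤ grp 100 lb_E :=
  grp_le_of_memB t_hn t_hk lb_E_ok nt_c34_K_ok (ws := [nat_lit 0x312f251f1a170c210701031b, nat_lit 0x251f1a071103]) (by decide +kernel)

theorem nt_c34_le : grp 100 nt_c34_K ≤ (grp 100 EG) :=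
  (t_le401.trans T_s0.le)

theorem nt_c34_mem : Net.toPerm 100 t_g399 ∈ (grp 100 EG) :=
  nt_c34_le (toPerm_mem_grp (E := nt_c34_K) (List.Mem.head _))

theorem nt_c34_sym : Sym 100 (grp 100 EG) [t_g399] nt_c34_K 0 :=
  Sym.of_lab t_hn t_hk (okE_cons.2 ⟨t_g399_ok, okE_nil _⟩) nt_c34_K_ok nt_c34_le (kT := 0) (by decide +kernel)

noncomputable def nt_c34_cnt_L : List ℕ := [6, 34, T_s96_O, 0, 0, 7, 11, T_s97_O, 1, 0]

theorem nt_c34_cnt_P : Prob 100 7 (grp 100 EG) nt_c34_cnt_EG [t_g399] [t_g399] nt_c34_K nt_c34_cnt_L 0 0 :=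
  Sym.prob t_hn t_hk nt_c34_sym nt_c34_cnt_EG_ok (grp_cons_le t_g367_T (grp_cons_le t_g368_T (grp_cons_le t_g13_T (grp_cons_le t_g14_T (grp_cons_le t_g15_T (grp_cons_le t_g18_T (grp_cons_le t_g19_T (grp_cons_le t_g20_T (grp_cons_le t_g23_T (grp_cons_le t_g24_T (grp_cons_le t_g25_T (grp_cons_le t_g28_T (grp_cons_le t_g29_T (grp_cons_le t_g30_T (grp_cons_le t_g31_T (grp_cons_le t_g34_T (grp_cons_le t_g9_T (grp_cons_le t_g10_T (grp_cons_le t_g5_T (grp_cons_le t_g6_T (grp_cons_le t_g1_T (grp_cons_le t_g2_T (grp_cons_le MpHS.a_T (grp_cons_le HSM.g1_T (grp_cons_le HSM.g2_T (grp_nil_le _)))))))))))))))))))))))))) (Frames.cons T_s96_F (Frames.cons T_s97_F Frames.nil)) (okE_cons.2 ⟨t_g399_ok, okE_nil _⟩) _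

noncomputable def nt_c34_cnt_t : BT := (BT.fix (nat_lit 0x1010101010101010101) (BT.fix (nat_lit 0x101010101) (BT.dif (nat_lit 1) (nat_lit 0) (BT.br (nat_lit 0) (nat_lit 98) [nat_lit 1] (BT.kid (nat_lit 98) (nat_lit 2) (BT.img (nat_lit 1) (nat_lit 0) (BT.img (nat_lit 1) (nat_lit 0) (BT.img (nat_lit 1) (nat_lit 0) (BT.img (nat_lit 1) (nat_lit 0) (BT.img (nat_lit 1) (nat_lit 0) (BT.frm (nat_lit 0) (nat_lit 0x1040f222508290b2d2132) (nat_lit 0x1040f222508290b2d2132) [nat_lit 2, nat_lit 3, nat_lit 0, nat_lit 1, nat_lit 4, nat_lit 5] (BT.pln (nat_lit 0) (nat_lit 24) (BT.br (nat_lit 0) (nat_lit 19) [nat_lit 3] (BT.dead (nat_lit 25) (BT.frm (nat_lit 1) (nat_lit 0x1040f222508290b2d2132) (nat_lit 0x301040f222508290b2d2132) [nat_lit 0, nat_lit 5, nat_lit 6, nat_lit 3, nat_lit 4, nat_lit 7, nat_lit 8] (BT.pln (nat_lit 0) (nat_lit 7) (BT.img (nat_lit 1) (nat_lit 2) (BT.and (nat_lit 1) (nat_lit 0) (BT.cnt (nat_lit 0)))))) (BT.kid (nat_lit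 19) (nat_lit 1) (BT.one (nat_lit 1) (nat_lit 0x1040f222508290b2d2132) (nat_lit 0x1040f222508290b2d2132) [nat_lit 0, nat_lit 5, nat_lit 6, nat_lit 3, nat_lit 4, nat_lit 7, nat_lit 8]) BT.nil)))))))))) BT.nil)))))

theorem nt_c34_cnt : Cnt 100 (grp 100 EG) [t_g399] [t_g399] 0 0 0 0 20 :=
  BT.sound nt_c34_cnt_P Known.nil (t := nt_c34_cnt_t) (d := 0) (by decide +kernel)

theorem nt_c34_ge : 20 ≤ Nat.card (grp 100 nt_c34_K) :=
  Ch.le_card_grp (k := 7) (L := (lab 100 7)) t_hn nt_c34_K_ok (c := (Ch.cons (nat_lit 98) [nat_lit 1] (Ch.cons (nat_lit 19) [nat_lit 3] Ch.nil))) (by decide +kernel)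

theorem nt_c34_eq : (grp 100 EG) ⊓ Subgroup.centralizer {Net.toPerm 100 t_g399} = grp 100 nt_c34_K :=
  cent_eq nt_c34_sym nt_c34_cnt nt_c34_ge

theorem nt_c34_card : Nat.card ↥((grp 100 EG) ⊓ Subgroup.centralizer {Net.toPerm 100 t_g399}) = 20 :=
  card_cent nt_c34_sym nt_c34_cnt nt_c34_ge

theorem nt_c34_ord : orderOf (Net.toPerm 100 t_g399) = 20 :=
  orderOf_net t_hn t_hk t_g399_ok (by decide) (ps := [2, 5]) (by set_option linter.unusedSimpArgs false in simp [Nat.primeFactorsList_ofNat]) (by decide +kernel)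

theorem t_le402 : grp 100 nt_c35_K ≤ grp 100 lb_E :=
  grp_le_of_memB t_hn t_hk lb_E_ok nt_c35_K_ok (ws := [nat_lit 0x2f1f0f110b110719011a, nat_lit 0x251f1a071103]) (by decide +kernel)

theorem nt_c35_le : grp 100 nt_c35_K ≤ (grp 100 EG) :=
  (t_le402.trans T_s0.le)

theorem nt_c35_mem : Net.toPerm 100 t_g364 ∈ (grp 100 EG) :=
  nt_c35_le (toPerm_mem_grp (E := nt_c35_K) (List.Mem.head _))

theorem nt_c35_sym : Sym 100 (grp 100 EG) [t_g364] nt_c35_K 0 :=
  Sym.of_lab t_hn t_hk (okE_cons.2 ⟨t_g364_ok, okE_nil _⟩) nt_c35_K_ok nt_c35_le (kT := 0) (by decide +kernel)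

noncomputable def nt_c35_cnt_L : List ℕ := [6, 34, T_s96_O, 0, 0, 7, 11, T_s97_O, 1, 0]

theorem nt_c35_cnt_P : Prob 100 7 (grp 100 EG) nt_c35_cnt_EG [t_g364] [t_g364] nt_c35_K nt_c35_cnt_L 0 0 :=
  Sym.prob t_hn t_hk nt_c35_sym nt_c35_cnt_EG_ok (grp_cons_le t_g367_T (grp_cons_le t_g368_T (grp_cons_le t_g13_T (grp_cons_le t_g14_T (grp_cons_le t_g15_T (grp_cons_le t_g18_T (grp_cons_le t_g19_T (grp_cons_le t_g20_T (grp_cons_le t_g23_T (grp_cons_le t_g24_T (grp_cons_le t_g25_T (grp_cons_le t_g28_T (grp_cons_le t_g29_T (grp_cons_le t_g30_T (grp_cons_le t_g31_T (grp_cons_le t_g34_T (grp_cons_le t_g9_T (grp_cons_le t_g10_T (grp_cons_le t_g5_T (grp_cons_le t_g6_T (grp_cons_le t_g1_T (grp_cons_le t_g2_T (grp_cons_le MpHS.a_T (grp_cons_le HSM.g1_T (grp_cons_le HSM.g2_T (grp_nil_le _)))))))))))))))))))))))))) (Frames.cons T_s96_F (Frames.cons T_s97_F Frames.nil)) (okE_cons.2 ⟨t_g364_ok, okE_nil _⟩) _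

noncomputable def nt_c35_cnt_t : BT := (BT.fix (nat_lit 0x1010101010101010101) (BT.fix (nat_lit 0x101010101) (BT.dif (nat_lit 1) (nat_lit 0) (BT.br (nat_lit 0) (nat_lit 98) [nat_lit 1] (BT.kid (nat_lit 98) (nat_lit 2) (BT.img (nat_lit 1) (nat_lit 0) (BT.img (nat_lit 1) (nat_lit 0) (BT.img (nat_lit 1) (nat_lit 0) (BT.img (nat_lit 1) (nat_lit 0) (BT.img (nat_lit 1) (nat_lit 0) (BT.frm (nat_lit 0) (nat_lit 0x1040106212128242a2b2d2132) (nat_lit 0x1040106212128242a2b2d2132) [nat_lit 4, nat_lit 1, nat_lit 0, nat_lit 2, nat_lit 3, nat_lit 5] (BT.pln (nat_lit 0) (nat_lit 24) (BT.br (nat_lit 0) (nat_lit 29) [nat_lit 3] (BT.dead (nat_lit 23) (BT.frm (nat_lit 1) (nat_lit 0x30301040106212128242a2b2d2132) (nat_lit 0x401040106212128242a2b2d2132) [nat_lit 0, nat_lit 7, nat_lit 4, nat_lit 3, nat_lit 5, nat_lit 6, nat_lit 8] (BT.pln (nat_lit 0) (nat_lit 7) (BT.img (nat_lit 1) (nat_lit 2) (BT.and (nat_lit 1) (nat_lit 0) (BT.cnt (nat_lit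 0)))))) (BT.kid (nat_lit 29) (nat_lit 1) (BT.one (nat_lit 1) (nat_lit 0x30301040106212128242a2b2d2132) (nat_lit 0x30301040106212128242a2b2d2132) [nat_lit 0, nat_lit 7, nat_lit 4, nat_lit 3, nat_lit 5, nat_lit 6, nat_lit 8]) BT.nil)))))))))) BT.nil)))))

theorem nt_c35_cnt : Cnt 100 (grp 100 EG) [t_g364] [t_g364] 0 0 0 0 20 :=
  BT.sound nt_c35_cnt_P Known.nil (t := nt_c35_cnt_t) (d := 0) (by decide +kernel)

theorem nt_c35_ge : 20 ≤ Nat.card (grp 100 nt_c35_K) :=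
  Ch.le_card_grp (k := 7) (L := (lab 100 7)) t_hn nt_c35_K_ok (c := (Ch.cons (nat_lit 98) [nat_lit 1] (Ch.cons (nat_lit 29) [nat_lit 3] Ch.nil))) (by decide +kernel)

theorem nt_c35_eq : (grp 100 EG) ⊓ Subgroup.centralizer {Net.toPerm 100 t_g364} = grp 100 nt_c35_K :=
  cent_eq nt_c35_sym nt_c35_cnt nt_c35_ge

theorem nt_c35_card : Nat.card ↥((grp 100 EG) ⊓ Subgroup.centralizer {Net.toPerm 100 t_g364}) = 20 :=
  card_cent nt_c35_sym nt_c35_cnt nt_c35_ge

theorem nt_c35_ord : orderOf (Net.toPerm 100 t_g364) = 20 :=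
  orderOf_net t_hn t_hk t_g364_ok (by decide) (ps := [2, 5]) (by set_option linter.unusedSimpArgs false in simp [Nat.primeFactorsList_ofNat]) (by decide +kernel)

theorem t_le404 : grp 100 nt_c36_K ≤ grp 100 lb_E :=
  grp_le_of_memB t_hn t_hk lb_E_ok nt_c36_K_ok (ws := [nat_lit 0x311913180b1109010302, nat_lit 0x251f1a071103]) (by decide +kernel)

theorem nt_c36_le : grp 100 nt_c36_K ≤ (grp 100 EG) :=
  (t_le404.trans T_s0.le)

theorem nt_c36_mem : Net.toPerm 100 t_g403 ∈ (grp 100 EG) :=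
  nt_c36_le (toPerm_mem_grp (E := nt_c36_K) (List.Mem.head _))

theorem nt_c36_sym : Sym 100 (grp 100 EG) [t_g403] nt_c36_K 0 :=
  Sym.of_lab t_hn t_hk (okE_cons.2 ⟨t_g403_ok, okE_nil _⟩) nt_c36_K_ok nt_c36_le (kT := 0) (by decide +kernel)

noncomputable def nt_c36_cnt_L : List ℕ := [1, 2, T_s1_O, 0, 0, 6, 34, T_s96_O, 0, 0, 7, 11, T_s97_O, 1, 0]

theorem nt_c36_cnt_P : Prob 100 7 (grp 100 EG) nt_c36_cnt_EG [t_g403] [t_g403] nt_c36_K nt_c36_cnt_L 0 0 :=
  Sym.prob t_hn t_hk nt_c36_sym nt_c36_cnt_EG_ok (grp_cons_le MpHS.a_T (grp_cons_le HSM.g1_T (grp_cons_le HSM.g2_T (grp_cons_le t_g1_T (grp_cons_le t_g2_T (grp_cons_le t_g5_T (grp_cons_le t_g6_T (grp_cons_le t_g9_T (grp_cons_le t_g10_T (grp_cons_le t_g13_T (grp_cons_le t_g14_T (grp_cons_le t_g15_T (grp_cons_le t_g18_T (grp_cons_le t_g19_T (grp_cons_le t_g20_T (grp_cons_le t_g23_T (grp_cons_le t_g24_T (grp_cons_le t_g25_T (grp_cons_le t_g28_T (grp_cons_le t_g29_T (grp_cons_le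 t_g30_T (grp_cons_le t_g31_T (grp_cons_le t_g34_T (grp_cons_le t_g367_T (grp_cons_le t_g368_T (grp_nil_le _)))))))))))))))))))))))))) (Frames.cons T_s1_F (Frames.cons T_s96_F (Frames.cons T_s97_F Frames.nil))) (okE_cons.2 ⟨t_g403_ok, okE_nil _⟩) _

noncomputable def nt_c36_cnt_t : BT := (BT.fix (nat_lit 0x1010101010101010101) (BT.br (nat_lit 0) (nat_lit 98) [nat_lit 1] (BT.dead (nat_lit 94) (BT.frm (nat_lit 0) (nat_lit 69382) (nat_lit 1285) [nat_lit 0] (BT.pln (nat_lit 0) (nat_lit 1) (BT.img (nat_lit 1) (nat_lit 2) (BT.and (nat_lit 1) (nat_lit 0) (BT.cnt (nat_lit 0)))))) (BT.kid (nat_lit 98) (nat_lit 2) (BT.img (nat_lit 1) (nat_lit 0) (BT.img (nat_lit 1) (nat_lit 0) (BT.img (nat_lit 1) (nat_lit 0) (BT.img (nat_lit 1) (nat_lit 0) (BT.img (nat_lit 1) (nat_lit 0) (BT.frm (nat_lit 1) (nat_lit 0x2f321d100b160719010f06) (nat_lit 0x2f321d100b160719010f06) [nat_lit 2, nat_lit 3, nat_lit 0, nat_lit 1, nat_lit 4, nat_lit 5] (BT.pln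 (nat_lit 0) (nat_lit 24) (BT.br (nat_lit 0) (nat_lit 25) [nat_lit 3] (BT.dead (nat_lit 67) (BT.frm (nat_lit 2) (nat_lit 0x312f321d100b160719010f06) (nat_lit 0x31312f321d100b160719010f06) [nat_lit 0, nat_lit 5, nat_lit 6, nat_lit 3, nat_lit 4, nat_lit 7, nat_lit 8] (BT.pln (nat_lit 0) (nat_lit 7) (BT.img (nat_lit 1) (nat_lit 2) (BT.and (nat_lit 1) (nat_lit 0) (BT.cnt (nat_lit 0)))))) (BT.kid (nat_lit 25) (nat_lit 1) (BT.one (nat_lit 2) (nat_lit 0x312f321d100b160719010f06) (nat_lit 0x312f321d100b160719010f06) [nat_lit 0, nat_lit 5, nat_lit 6, nat_lit 3, nat_lit 4, nat_lit 7, nat_lit 8]) BT.nil)))))))))) BT.nil))))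

theorem nt_c36_cnt : Cnt 100 (grp 100 EG) [t_g403] [t_g403] 0 0 0 0 20 :=
  BT.sound nt_c36_cnt_P Known.nil (t := nt_c36_cnt_t) (d := 0) (by decide +kernel)

theorem nt_c36_ge : 20 ≤ Nat.card (grp 100 nt_c36_K) :=
  Ch.le_card_grp (k := 7) (L := (lab 100 7)) t_hn nt_c36_K_ok (c := (Ch.cons (nat_lit 98) [nat_lit 1] (Ch.cons (nat_lit 25) [nat_lit 3] Ch.nil))) (by decide +kernel)

theorem nt_c36_eq : (grp 100 EG) ⊓ Subgroup.centralizer {Net.toPerm 100 t_g403} = grp 100 nt_c36_K :=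
  cent_eq nt_c36_sym nt_c36_cnt nt_c36_ge

theorem nt_c36_card : Nat.card ↥((grp 100 EG) ⊓ Subgroup.centralizer {Net.toPerm 100 t_g403}) = 20 :=
  card_cent nt_c36_sym nt_c36_cnt nt_c36_ge

theorem nt_c36_ord : orderOf (Net.toPerm 100 t_g403) = 20 :=
  orderOf_net t_hn t_hk t_g403_ok (by decide) (ps := [2, 5]) (by set_option linter.unusedSimpArgs false in simp [Nat.primeFactorsList_ofNat]) (by decide +kernel)

theorem t_le406 : grp 100 nt_c37_K ≤ grp 100 lb_E :=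
  grp_le_of_memB t_hn t_hk lb_E_ok nt_c37_K_ok (ws := [nat_lit 0x312b1f1a130e120a0c0501]) (by decide +kernel)

theorem nt_c37_le : grp 100 nt_c37_K ≤ (grp 100 EG) :=
  (t_le406.trans T_s0.le)

theorem nt_c37_mem : Net.toPerm 100 t_g405 ∈ (grp 100 EG) :=
  nt_c37_le (toPerm_mem_grp (E := nt_c37_K) (List.Mem.head _))

theorem nt_c37_sym : Sym 100 (grp 100 EG) [t_g405] nt_c37_K 0 :=
  Sym.of_lab t_hn t_hk (okE_cons.2 ⟨t_g405_ok, okE_nil _⟩) nt_c37_K_ok nt_c37_le (kT := 0) (by decide +kernel)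

noncomputable def nt_c37_cnt_L : List ℕ := [1, 2, T_s1_O, 0, 0, 2, 4, T_s2_O, 0, 0, 3, 7, T_s3_O, 0, 0, 6, 19, T_s10_O, 0, 0, 10, 14, T_s101_O, 1, 0]

theorem nt_c37_cnt_P : Prob 100 7 (grp 100 EG) nt_c37_cnt_EG [t_g405] [t_g405] nt_c37_K nt_c37_cnt_L 0 0 :=
  Sym.prob t_hn t_hk nt_c37_sym nt_c37_cnt_EG_ok (grp_cons_le MpHS.a_T (grp_cons_le HSM.g1_T (grp_cons_le HSM.g2_T (grp_cons_le t_g1_T (grp_cons_le t_g2_T (grp_cons_le t_g5_T (grp_cons_le t_g6_T (grp_cons_le t_g9_T (grp_cons_le t_g10_T (grp_cons_le t_g13_T (grp_cons_le t_g14_T (grp_cons_le t_g15_T (grp_cons_le t_g18_T (grp_cons_le t_g19_T (grp_cons_le t_g20_T (grp_cons_le t_g23_T (grp_cons_le t_g24_T (grp_cons_le t_g25_T (grp_cons_le t_g28_T (grp_cons_le t_g29_T (grp_cons_le t_g30_T (grp_cons_le t_g31_T (grp_cons_le t_g34_T (grp_nil_le _)))))))))))))))))))))))) (Frames.cons T_s1_F (Frames.cons T_s2_F (Frames.cons T_s3_F (Frames.cons T_s10_F (Frames.cons T_s101_F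 Frames.nil))))) (okE_cons.2 ⟨t_g405_ok, okE_nil _⟩) _

noncomputable def nt_c37_cnt_t : BT := (BT.br (nat_lit 2) (nat_lit 0) [nat_lit 1] (BT.dead (nat_lit 5) (BT.frm (nat_lit 0) (nat_lit 0) (nat_lit 1296) [nat_lit 0] (BT.pln (nat_lit 0) (nat_lit 1) (BT.dif (nat_lit 5) (nat_lit 0) (BT.dif (nat_lit 0) (nat_lit 3) (BT.img (nat_lit 1) (nat_lit 4) (BT.img (nat_lit 1) (nat_lit 0) (BT.img (nat_lit 1) (nat_lit 0) (BT.img (nat_lit 1) (nat_lit 0) (BT.img (nat_lit 1) (nat_lit 0) (BT.img (nat_lit 1) (nat_lit 0) (BT.img (nat_lit 1) (nat_lit 0) (BT.img (nat_lit 1) (nat_lit 0) (BT.img (nat_lit 1) (nat_lit 0) (BT.img (nat_lit 1) (nat_lit 0) (BT.dif (nat_lit 12) (nat_lit 0) (BT.img (nat_lit 1) (nat_lit 0) (BT.and (nat_lit 12) (nat_lit 0) (BT.and (nat_lit 15) (nat_lit 1) (BT.img (nat_lit 1) (nat_lit 0) (BT.and (nat_lit 17) (nat_lit 0) (BT.img (nat_lit 1) (nat_lit 0) (BT.and (nat_lit 4) (nat_lit 0) (BT.img (nat_lit 1) (nat_lit 0) (BT.and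 (nat_lit 0) (nat_lit 21) (BT.cnt (nat_lit 0)))))))))))))))))))))))))) (BT.dead (nat_lit 2) (BT.frm (nat_lit 0) (nat_lit 0) (nat_lit 67337) [nat_lit 0] (BT.pln (nat_lit 0) (nat_lit 1) (BT.img (nat_lit 1) (nat_lit 2) (BT.img (nat_lit 1) (nat_lit 0) (BT.and (nat_lit 2) (nat_lit 0) (BT.cnt (nat_lit 0))))))) (BT.dead (nat_lit 16) (BT.frm (nat_lit 0) (nat_lit 0) (nat_lit 1560) [nat_lit 0] (BT.pln (nat_lit 0) (nat_lit 1) (BT.img (nat_lit 1) (nat_lit 2) (BT.img (nat_lit 1) (nat_lit 0) (BT.and (nat_lit 2) (nat_lit 0) (BT.cnt (nat_lit 0))))))) (BT.dead (nat_lit 1) (BT.frm (nat_lit 0) (nat_lit 0) (nat_lit 265) [nat_lit 0] (BT.pln (nat_lit 0) (nat_lit 1) (BT.img (nat_lit 1) (nat_lit 2) (BT.and (nat_lit 1) (nat_lit 0) (BT.cnt (nat_lit 0)))))) (BT.kid (nat_lit 0) (nat_lit 1) (BT.img (nat_lit 1) (nat_lit 0) (BT.img (nat_lit 1) (nat_lit 0) (BT.img (nat_lit 1) (nat_lit 0) (BT.img (nat_lit 1) (nat_lit 0) (BT.img (nat_lit 1) (nat_lit 0)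 (BT.img (nat_lit 1) (nat_lit 0) (BT.img (nat_lit 1) (nat_lit 0) (BT.img (nat_lit 1) (nat_lit 0) (BT.img (nat_lit 1) (nat_lit 0) (BT.img (nat_lit 1) (nat_lit 0) (BT.frm (nat_lit 1) (nat_lit 1817) (nat_lit 1817) [nat_lit 0, nat_lit 10] (BT.pln (nat_lit 0) (nat_lit 3) (BT.frm (nat_lit 0) (nat_lit 0) (nat_lit 0) [nat_lit 12] (BT.pln (nat_lit 0) (nat_lit 1) (BT.dif (nat_lit 0) (nat_lit 4) (BT.img (nat_lit 1) (nat_lit 0) (BT.and (nat_lit 4) (nat_lit 0) (BT.dif (nat_lit 20) (nat_lit 3) (BT.dif (nat_lit 0) (nat_lit 18) (BT.and (nat_lit 0) (nat_lit 3) (BT.and (nat_lit 6) (nat_lit 4) (BT.img (nat_lit 1) (nat_lit 0) (BT.and (nat_lit 2) (nat_lit 0) (BT.dif (nat_lit 4) (nat_lit 22) (BT.dif (nat_lit 0) (nat_lit 22) (BT.and (nat_lit 11) (nat_lit 3) (BT.img (nat_lit 1) (nat_lit 0) (BT.and (nat_lit 7) (nat_lit 0) (BT.img (nat_lit 1) (nat_lit 0) (BT.and (nat_lit 4) (nat_lit 0) (BT.img (nat_lit 1) (nat_lit 0) (BT.and (nat_lit 16) (nat_lit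 0) (BT.img (nat_lit 1) (nat_lit 0) (BT.and (nat_lit 12) (nat_lit 0) (BT.img (nat_lit 1) (nat_lit 0) (BT.and (nat_lit 12) (nat_lit 0) (BT.img (nat_lit 1) (nat_lit 0) (BT.and (nat_lit 22) (nat_lit 0) (BT.img (nat_lit 1) (nat_lit 0) (BT.and (nat_lit 22) (nat_lit 0) (BT.dif (nat_lit 22) (nat_lit 28) (BT.dif (nat_lit 0) (nat_lit 41) (BT.dif (nat_lit 0) (nat_lit 41) (BT.dif (nat_lit 0) (nat_lit 41) (BT.dif (nat_lit 0) (nat_lit 41) (BT.dif (nat_lit 0) (nat_lit 41) (BT.dif (nat_lit 0) (nat_lit 41) (BT.dif (nat_lit 0) (nat_lit 41) (BT.dif (nat_lit 0) (nat_lit 41) (BT.dif (nat_lit 0) (nat_lit 41) (BT.dif (nat_lit 0) (nat_lit 41) (BT.img (nat_lit 1) (nat_lit 41) (BT.dif (nat_lit 1) (nat_lit 0) (BT.img (nat_lit 1) (nat_lit 1) (BT.dif (nat_lit 1) (nat_lit 0) (BT.img (nat_lit 1) (nat_lit 1) (BT.dif (nat_lit 1) (nat_lit 0) (BT.img (nat_lit 1) (nat_lit 1) (BT.dif (nat_lit 1) (nat_lit 0) (BT.img (nat_lit 1) (nat_lit 1) (BT.dif (nat_lit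 1) (nat_lit 0) (BT.img (nat_lit 1) (nat_lit 1) (BT.dif (nat_lit 1) (nat_lit 0) (BT.img (nat_lit 1) (nat_lit 1) (BT.dif (nat_lit 1) (nat_lit 0) (BT.img (nat_lit 1) (nat_lit 1) (BT.dif (nat_lit 1) (nat_lit 0) (BT.img (nat_lit 1) (nat_lit 1) (BT.dif (nat_lit 1) (nat_lit 0) (BT.dif (nat_lit 0) (nat_lit 53) (BT.dif (nat_lit 50) (nat_lit 48) (BT.dif (nat_lit 56) (nat_lit 55) (BT.dif (nat_lit 47) (nat_lit 69) (BT.dif (nat_lit 0) (nat_lit 69) (BT.dif (nat_lit 0) (nat_lit 69) (BT.dif (nat_lit 0) (nat_lit 69) (BT.dif (nat_lit 0) (nat_lit 69) (BT.dif (nat_lit 0) (nat_lit 69) (BT.dif (nat_lit 0) (nat_lit 69) (BT.dif (nat_lit 56) (nat_lit 52) (BT.dif (nat_lit 0) (nat_lit 45) (BT.img (nat_lit 1) (nat_lit 0) (BT.and (nat_lit 3) (nat_lit 0) (BT.img (nat_lit 1) (nat_lit 0) (BT.and (nat_lit 12) (nat_lit 0) (BT.img (nat_lit 1) (nat_lit 0) (BT.and (nat_lit 15) (nat_lit 0) (BT.img (nat_lit 1) (nat_lit 0) (BT.and (nat_lit 18) (nat_lit 0) (BT.dif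 (nat_lit 77) (nat_lit 73) (BT.and (nat_lit 69) (nat_lit 68) (BT.dif (nat_lit 0) (nat_lit 64) (BT.frm (nat_lit 2) (nat_lit 0xb160719) (nat_lit 0xb160719) [nat_lit 0, nat_lit 82, nat_lit 92] (BT.pln (nat_lit 0) (nat_lit 4) (BT.dif (nat_lit 4) (nat_lit 0) (BT.and (nat_lit 75) (nat_lit 56) (BT.img (nat_lit 1) (nat_lit 0) (BT.and (nat_lit 72) (nat_lit 0) (BT.img (nat_lit 1) (nat_lit 0) (BT.dif (nat_lit 4) (nat_lit 0) (BT.dif (nat_lit 21) (nat_lit 48) (BT.dif (nat_lit 0) (nat_lit 85) (BT.dif (nat_lit 0) (nat_lit 48) (BT.dif (nat_lit 0) (nat_lit 47) (BT.dif (nat_lit 0) (nat_lit 46) (BT.dif (nat_lit 0) (nat_lit 45) (BT.dif (nat_lit 0) (nat_lit 44) (BT.dif (nat_lit 0) (nat_lit 43) (BT.dif (nat_lit 0) (nat_lit 42) (BT.dif (nat_lit 0) (nat_lit 41) (BT.and (nat_lit 0) (nat_lit 22) (BT.img (nat_lit 1) (nat_lit 0) (BT.and (nat_lit 2) (nat_lit 0) (BT.img (nat_lit 1) (nat_lit 0) (BT.and (nat_lit 4) (nat_lit 0) (BT.img (nat_lit 1) (nat_lit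 0) (BT.and (nat_lit 6) (nat_lit 0) (BT.img (nat_lit 1) (nat_lit 0) (BT.and (nat_lit 8) (nat_lit 0) (BT.img (nat_lit 1) (nat_lit 0) (BT.and (nat_lit 25) (nat_lit 0) (BT.and (nat_lit 109) (nat_lit 22) (BT.frm (nat_lit 3) (nat_lit 0x19170b160719) (nat_lit 0x19170b160719) [nat_lit 1, nat_lit 3, nat_lit 0, nat_lit 30, nat_lit 112, nat_lit 122] (BT.pln (nat_lit 0) (nat_lit 18) (BT.and (nat_lit 24) (nat_lit 0) (BT.dif (nat_lit 54) (nat_lit 86) (BT.and (nat_lit 101) (nat_lit 27) (BT.img (nat_lit 1) (nat_lit 0) (BT.and (nat_lit 103) (nat_lit 0) (BT.img (nat_lit 1) (nat_lit 0) (BT.and (nat_lit 115) (nat_lit 0) (BT.img (nat_lit 1) (nat_lit 0) (BT.dif (nat_lit 6) (nat_lit 0) (BT.and (nat_lit 113) (nat_lit 1) (BT.img (nat_lit 1) (nat_lit 0) (BT.and (nat_lit 110) (nat_lit 0) (BT.img (nat_lit 1) (nat_lit 0) (BT.and (nat_lit 112) (nat_lit 0) (BT.img (nat_lit 1) (nat_lit 0) (BT.and (nat_lit 124) (nat_lit 0) (BT.img (nat_lit 1) (nat_lit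 0) (BT.dif (nat_lit 8) (nat_lit 0) (BT.dif (nat_lit 0) (nat_lit 56) (BT.and (nat_lit 33) (nat_lit 23) (BT.img (nat_lit 1) (nat_lit 0) (BT.and (nat_lit 35) (nat_lit 0) (BT.img (nat_lit 1) (nat_lit 0) (BT.and (nat_lit 75) (nat_lit 0) (BT.img (nat_lit 1) (nat_lit 0) (BT.dif (nat_lit 6) (nat_lit 0) (BT.and (nat_lit 72) (nat_lit 66) (BT.img (nat_lit 1) (nat_lit 0) (BT.and (nat_lit 42) (nat_lit 0) (BT.img (nat_lit 1) (nat_lit 0) (BT.and (nat_lit 44) (nat_lit 0) (BT.img (nat_lit 1) (nat_lit 0) (BT.and (nat_lit 46) (nat_lit 0) (BT.img (nat_lit 1) (nat_lit 0) (BT.and (nat_lit 48) (nat_lit 0) (BT.img (nat_lit 1) (nat_lit 0) (BT.and (nat_lit 88) (nat_lit 0) (BT.img (nat_lit 1) (nat_lit 0) (BT.dif (nat_lit 12) (nat_lit 0) (BT.and (nat_lit 92) (nat_lit 1) (BT.img (nat_lit 1) (nat_lit 0) (BT.and (nat_lit 55) (nat_lit 0) (BT.img (nat_lit 1) (nat_lit 0) (BT.and (nat_lit 57) (nat_lit 0) (BT.img (nat_lit 1) (nat_lit 0) (BT.and (nat_lit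 59) (nat_lit 0) (BT.img (nat_lit 1) (nat_lit 0) (BT.and (nat_lit 61) (nat_lit 0) (BT.img (nat_lit 1) (nat_lit 0) (BT.and (nat_lit 101) (nat_lit 0) (BT.img (nat_lit 1) (nat_lit 0) (BT.dif (nat_lit 12) (nat_lit 0) (BT.img (nat_lit 1) (nat_lit 0) (BT.and (nat_lit 67) (nat_lit 0) (BT.and (nat_lit 106) (nat_lit 1) (BT.img (nat_lit 1) (nat_lit 0) (BT.and (nat_lit 38) (nat_lit 0) (BT.img (nat_lit 1) (nat_lit 0) (BT.and (nat_lit 4) (nat_lit 0) (BT.img (nat_lit 1) (nat_lit 0) (BT.and (nat_lit 59) (nat_lit 0) (BT.one (nat_lit 4) (nat_lit 0x2d29251f19170b160719) (nat_lit 0x2d29251f19170b160719) [nat_lit 145, nat_lit 176, nat_lit 96, nat_lit 0, nat_lit 41, nat_lit 66, nat_lit 58, nat_lit 93, nat_lit 175, nat_lit 185])))))))))))))))))))))))))))))))))))))))))))))))))))))))))))))))))))))))))))))))))))))))))))))))))))))))))))))))))))))))))))))))))))))))))))))))))))))))))))))))))))))))))))))))))))))))))) BT.nil))))))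

theorem nt_c37_cnt : Cnt 100 (grp 100 EG) [t_g405] [t_g405] 0 0 0 0 20 :=
  BT.sound nt_c37_cnt_P Known.nil (t := nt_c37_cnt_t) (d := 0) (by decide +kernel)

theorem nt_c37_ge : 20 ≤ Nat.card (grp 100 nt_c37_K) :=
  Ch.le_card_grp (k := 7) (L := (lab 100 7)) t_hn nt_c37_K_ok (c := (Ch.cons (nat_lit 0) [nat_lit 1] Ch.nil)) (by decide +kernel)

theorem nt_c37_eq : (grp 100 EG) ⊓ Subgroup.centralizer {Net.toPerm 100 t_g405} = grp 100 nt_c37_K :=
  cent_eq nt_c37_sym nt_c37_cnt nt_c37_ge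

theorem nt_c37_card : Nat.card ↥((grp 100 EG) ⊓ Subgroup.centralizer {Net.toPerm 100 t_g405}) = 20 :=
  card_cent nt_c37_sym nt_c37_cnt nt_c37_ge

theorem nt_c37_ord : orderOf (Net.toPerm 100 t_g405) = 20 :=
  orderOf_net t_hn t_hk t_g405_ok (by decide) (ps := [2, 5]) (by set_option linter.unusedSimpArgs false in simp [Nat.primeFactorsList_ofNat]) (by decide +kernel)

theorem t_le408 : grp 100 nt_c38_K ≤ grp 100 lb_E :=
  grp_le_of_memB t_hn t_hk lb_E_ok nt_c38_K_ok (ws := [nat_lit 0x2f13100b1107030a, nat_lit 0x2f2b1f190c0a0b0203]) (by decide +kernel)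

theorem nt_c38_le : grp 100 nt_c38_K ≤ (grp 100 EG) :=
  (t_le408.trans T_s0.le)

theorem nt_c38_mem : Net.toPerm 100 t_g360 ∈ (grp 100 EG) :=
  nt_c38_le (toPerm_mem_grp (E := nt_c38_K) (List.Mem.head _))

theorem nt_c38_sym : Sym 100 (grp 100 EG) [t_g360] nt_c38_K 0 :=
  Sym.of_lab t_hn t_hk (okE_cons.2 ⟨t_g360_ok, okE_nil _⟩) nt_c38_K_ok nt_c38_le (kT := 0) (by decide +kernel)

noncomputable def nt_c38_cnt_L : List ℕ := [6, 34, T_s65_O, 0, 0, 8, 12, T_s67_O, 1, 0]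

theorem nt_c38_cnt_P : Prob 100 7 (grp 100 EG) nt_c38_cnt_EG [t_g360] [t_g360] nt_c38_K nt_c38_cnt_L 0 0 :=
  Sym.prob t_hn t_hk nt_c38_sym nt_c38_cnt_EG_ok (grp_cons_le t_g18_T (grp_cons_le t_g19_T (grp_cons_le t_g20_T (grp_cons_le t_g23_T (grp_cons_le t_g24_T (grp_cons_le t_g25_T (grp_cons_le t_g28_T (grp_cons_le t_g29_T (grp_cons_le t_g30_T (grp_cons_le t_g31_T (grp_cons_le t_g34_T (grp_cons_le t_g13_T (grp_cons_le t_g14_T (grp_cons_le t_g15_T (grp_cons_le t_g9_T (grp_cons_le t_g10_T (grp_cons_le t_g5_T (grp_cons_le t_g6_T (grp_cons_le t_g1_T (grp_cons_le t_g2_T (grp_cons_le MpHS.a_T (grp_cons_le HSM.g1_T (grp_cons_le HSM.g2_T (grp_cons_le t_g250_T (grp_cons_le t_g249_T (grp_nil_le _)))))))))))))))))))))))))) (Frames.cons T_s65_F (Frames.cons T_s67_F Frames.nil)) (okE_cons.2 ⟨t_g360_ok, okE_nil _⟩) _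

noncomputable def nt_c38_cnt_t : BT := (BT.fix (nat_lit 0x1010101010101010101) (BT.br (nat_lit 0) (nat_lit 91) [nat_lit 1] (BT.kid (nat_lit 91) (nat_lit 3) (BT.img (nat_lit 1) (nat_lit 0) (BT.img (nat_lit 1) (nat_lit 0) (BT.img (nat_lit 1) (nat_lit 0) (BT.img (nat_lit 1) (nat_lit 0) (BT.img (nat_lit 1) (nat_lit 0) (BT.img (nat_lit 1) (nat_lit 0) (BT.frm (nat_lit 0) (nat_lit 0x1061e25202b2d) (nat_lit 0x1061e25202b2d) [nat_lit 0, nat_lit 2, nat_lit 4, nat_lit 3, nat_lit 5, nat_lit 6] (BT.pln (nat_lit 0) (nat_lit 14) (BT.br (nat_lit 0) (nat_lit 16) [nat_lit 3] (BT.kid (nat_lit 16) (nat_lit 1) (BT.img (nat_lit 1) (nat_lit 0) (BT.img (nat_lit 1) (nat_lit 0) (BT.img (nat_lit 1) (nat_lit 0) (BT.img (nat_lit 1) (nat_lit 0) (BT.img (nat_lit 1) (nat_lit 0) (BT.img (nat_lit 1) (nat_lit 0) (BT.img (nat_lit 1) (nat_lit 0) (BT.img (nat_lit 1) (nat_lit 0) (BT.img (nat_lit 1) (nat_lit 0) (BT.img (nat_lit 1) (nat_lit 0) (BT.img (nat_lit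 1) (nat_lit 0) (BT.img (nat_lit 1) (nat_lit 0) (BT.img (nat_lit 1) (nat_lit 0) (BT.img (nat_lit 1) (nat_lit 0) (BT.img (nat_lit 1) (nat_lit 0) (BT.img (nat_lit 1) (nat_lit 0) (BT.one (nat_lit 1) (nat_lit 0x3201061e25202b2d) (nat_lit 0x3201061e25202b2d) [nat_lit 0, nat_lit 16, nat_lit 19, nat_lit 21, nat_lit 23, nat_lit 22, nat_lit 24, nat_lit 25]))))))))))))))))) BT.nil)))))))))) BT.nil)))

theorem nt_c38_cnt : Cnt 100 (grp 100 EG) [t_g360] [t_g360] 0 0 0 0 30 :=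
  BT.sound nt_c38_cnt_P Known.nil (t := nt_c38_cnt_t) (d := 0) (by decide +kernel)

theorem nt_c38_ge : 30 ≤ Nat.card (grp 100 nt_c38_K) :=
  Ch.le_card_grp (k := 7) (L := (lab 100 7)) t_hn nt_c38_K_ok (c := (Ch.cons (nat_lit 91) [nat_lit 1] (Ch.cons (nat_lit 16) [nat_lit 3] Ch.nil))) (by decide +kernel)

theorem nt_c38_eq : (grp 100 EG) ⊓ Subgroup.centralizer {Net.toPerm 100 t_g360} = grp 100 nt_c38_K :=
  cent_eq nt_c38_sym nt_c38_cnt nt_c38_ge

theorem nt_c38_card : Nat.card ↥((grp 100 EG) ⊓ Subgroup.centralizer {Net.toPerm 100 t_g360}) = 30 :=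
  card_cent nt_c38_sym nt_c38_cnt nt_c38_ge

theorem nt_c38_ord : orderOf (Net.toPerm 100 t_g360) = 30 :=
  orderOf_net t_hn t_hk t_g360_ok (by decide) (ps := [2, 3, 5]) (by set_option linter.unusedSimpArgs false in simp [Nat.primeFactorsList_ofNat]) (by decide +kernel)

noncomputable def nt_xs : List Net := [Net.nil, t_g39, t_g60, t_g77, t_g103, t_g126, t_g145, t_g162, t_g176, t_g186, t_g200, t_g213, t_g227, t_g244, t_g255, t_g265, t_g271, t_g282, t_g287, t_g298, t_g314, t_g320, t_g331, t_g343, t_g349, t_g358, t_g363, t_g373, t_g377, t_g381, t_g386, t_g390, t_g393, t_g395, t_g399, t_g364, t_g403, t_g405, t_g360]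

noncomputable def nt_cs : List ℕ := [88704000, 80640, 15360, 5760, 3840, 720, 7680, 640, 512, 192, 128, 80, 1000, 600, 50, 720, 72, 72, 48, 48, 14, 64, 64, 32, 16, 60, 40, 40, 10, 11, 24, 24, 14, 30, 20, 20, 20, 20, 30]

noncomputable def nt_os : List ℕ := [1, 2, 2, 2, 2, 3, 4, 4, 4, 4, 4, 4, 5, 5, 5, 6, 6, 6, 6, 6, 7, 8, 8, 8, 8, 10, 10, 10, 10, 11, 12, 12, 14, 15, 20, 20, 20, 20, 30]

theorem nt_reps : Reps 100 (grp 100 EG) nt_xs nt_cs nt_os :=
  (Reps.cons rfl (one_mem _) (card_cent_nil card_N) orderOf_one (Reps.cons t_g39_ok nt_c1_mem nt_c1_card nt_c1_ord (Reps.cons t_g60_ok nt_c2_mem nt_c2_card nt_c2_ord (Reps.cons t_g77_ok nt_c3_mem nt_c3_card nt_c3_ord (Reps.cons t_g103_ok nt_c4_mem nt_c4_card nt_c4_ord (Reps.cons t_g126_ok nt_c5_mem nt_c5_card nt_c5_ord (Reps.cons t_g145_ok nt_c6_mem nt_c6_card nt_c6_ord (Reps.cons t_g162_ok nt_c7_mem nt_c7_card nt_c7_ord (Reps.cons t_g176_ok nt_c8_mem nt_c8_card nt_c8_ord (Reps.cons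 t_g186_ok nt_c9_mem nt_c9_card nt_c9_ord (Reps.cons t_g200_ok nt_c10_mem nt_c10_card nt_c10_ord (Reps.cons t_g213_ok nt_c11_mem nt_c11_card nt_c11_ord (Reps.cons t_g227_ok nt_c12_mem nt_c12_card nt_c12_ord (Reps.cons t_g244_ok nt_c13_mem nt_c13_card nt_c13_ord (Reps.cons t_g255_ok nt_c14_mem nt_c14_card nt_c14_ord (Reps.cons t_g265_ok nt_c15_mem nt_c15_card nt_c15_ord (Reps.cons t_g271_ok nt_c16_mem nt_c16_card nt_c16_ord (Reps.cons t_g282_ok nt_c17_mem nt_c17_card nt_c17_ord (Reps.cons t_g287_ok nt_c18_mem nt_c18_card nt_c18_ord (Reps.cons t_g298_ok nt_c19_mem nt_c19_card nt_c19_ord (Reps.cons t_g314_ok nt_c20_mem nt_c20_card nt_c20_ord (Reps.cons t_g320_ok nt_c21_mem nt_c21_card nt_c21_ord (Reps.cons t_g331_ok nt_c22_mem nt_c22_card nt_c22_ord (Reps.cons t_g343_ok nt_c23_mem nt_c23_card nt_c23_ord (Reps.cons t_g349_ok nt_c24_mem nt_c24_card nt_c24_ord (Reps.cons t_g358_ok nt_c25_mem nt_c25_card nt_c25_ord (Reps.cons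 t_g363_ok nt_c26_mem nt_c26_card nt_c26_ord (Reps.cons t_g373_ok nt_c27_mem nt_c27_card nt_c27_ord (Reps.cons t_g377_ok nt_c28_mem nt_c28_card nt_c28_ord (Reps.cons t_g381_ok nt_c29_mem nt_c29_card nt_c29_ord (Reps.cons t_g386_ok nt_c30_mem nt_c30_card nt_c30_ord (Reps.cons t_g390_ok nt_c31_mem nt_c31_card nt_c31_ord (Reps.cons t_g393_ok nt_c32_mem nt_c32_card nt_c32_ord (Reps.cons t_g395_ok nt_c33_mem nt_c33_card nt_c33_ord (Reps.cons t_g399_ok nt_c34_mem nt_c34_card nt_c34_ord (Reps.cons t_g364_ok nt_c35_mem nt_c35_card nt_c35_ord (Reps.cons t_g403_ok nt_c36_mem nt_c36_card nt_c36_ord (Reps.cons t_g405_ok nt_c37_mem nt_c37_card nt_c37_ord (Reps.cons t_g360_ok nt_c38_mem nt_c38_card nt_c38_ord Reps.nil)))))))))))))))))))))))))))))))))))))))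

noncomputable def nt_nc35_34_cnt_L : List ℕ := [1, 2, T_s1_O, 0, 0]

theorem nt_nc35_34_cnt_P : Prob 100 7 (grp 100 EG) nt_nc35_34_cnt_EG [t_g364] [t_g399] nt_c34_K nt_nc35_34_cnt_L 0 0 :=
  Sym.prob t_hn t_hk nt_c34_sym nt_nc35_34_cnt_EG_ok (grp_cons_le MpHS.a_T (grp_cons_le HSM.g1_T (grp_cons_le HSM.g2_T (grp_cons_le t_g1_T (grp_cons_le t_g2_T (grp_cons_le t_g5_T (grp_cons_le t_g6_T (grp_cons_le t_g9_T (grp_cons_le t_g10_T (grp_cons_le t_g13_T (grp_cons_le t_g14_T (grp_cons_le t_g15_T (grp_cons_le t_g18_T (grp_cons_le t_g19_T (grp_cons_le t_g20_T (grp_cons_le t_g23_T (grp_cons_le t_g24_T (grp_cons_le t_g25_T (grp_cons_le t_g28_T (grp_cons_le t_g29_T (grp_cons_le t_g30_T (grp_cons_le t_g31_T (grp_cons_le t_g34_T (grp_nil_le _)))))))))))))))))))))))) (Frames.cons T_s1_F Frames.nil) (okE_cons.2 ⟨t_g364_ok, okE_nil _⟩) _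

noncomputable def nt_nc35_34_cnt_t : BT := (BT.fix (nat_lit 0x1010101010101010101) (BT.fix (nat_lit 0x101010101) (BT.dif (nat_lit 1) (nat_lit 0) (BT.br (nat_lit 0) (nat_lit 98) [nat_lit 1] (BT.dead (nat_lit 98) (BT.frm (nat_lit 0) (nat_lit 69382) (nat_lit 69382) [nat_lit 0] (BT.pln (nat_lit 0) (nat_lit 1) (BT.img (nat_lit 1) (nat_lit 2) (BT.and (nat_lit 1) (nat_lit 0) (BT.cnt (nat_lit 0)))))) BT.nil)))))

theorem nt_nc35_34_cnt : Cnt 100 (grp 100 EG) [t_g364] [t_g399] 0 0 0 0 0 :=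
  BT.sound nt_nc35_34_cnt_P Known.nil (t := nt_nc35_34_cnt_t) (d := 0) (by decide +kernel)

theorem nt_nc35_34 : ¬ CjIn (grp 100 EG) (Net.toPerm 100 t_g364) (Net.toPerm 100 t_g399) :=
  not_cjIn nt_nc35_34_cnt

theorem nt_exc : Exc 100 (grp 100 EG) nt_xs [35034] :=
  (Exc.cons 35 34 (by decide) nt_nc35_34 Exc.nil)

theorem nt : Table 100 (grp 100 EG) nt_xs nt_cs nt_os :=
  Reps.table (D := 11) t_hn t_hk nt_reps nt_exc card_N (by decide +kernel)

end Cfsg.Agent.H17.EvHT
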