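import Mathlib
import Cfsg.Agent.H43.Cent
import Cfsg.Agent.H17.EvHT
import Cfsg.Agent.H17.EvP
import Cfsg.Agent.H74.MultHS
import Cfsg.Agent.H1.QTOut

set_option autoImplicit false
set_option maxRecDepth 200000
set_option linter.style.longLine false

namespace Cfsg.Agent.H17.EvHS

open Cfsg.Agent.H43
open scoped Pointwise

theorem p_hn : NOk 100 := by decide

theorem p_hk : 100 ≤ 2 ^ 7 := by decide

noncomputable def p_g1 : Net := (Net.cons (nat_lit 1) (nat_lit 0x1001410015414115454450000) (Net.cons (nat_lit 2) (nat_lit 0x2303301130020100013130100) (Net.cons (nat_lit 4) (nat_lit 0xc030a0a020c0400080b0408) (Net.cons (nat_lit 8) (nat_lit 0x4400860056008c001a0001) (Net.cons (nat_lit 16) (nat_lit 0x20e0000c11200000004) (Net.cons (nat_lit 32) (nat_lit 0x1283c880) (Net.cons (nat_lit 64) (nat_lit 0xe5aa3c89c) (Net.cons (nat_lit 32) (nat_lit 0x50000000080afeb94) (Net.cons (nat_lit 16) (nat_lit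 0x157e0000c752000034b6) (Net.cons (nat_lit 8) (nat_lit 0x7600960046009c002b0071) (Net.cons (nat_lit 4) (nat_lit 0xe010a08020e06000a09060a) (Net.cons (nat_lit 2) (nat_lit 0x2303301130320110013130101) (Net.cons (nat_lit 1) (nat_lit 0x1001411015414115454450400) Net.nil)))))))))))))

theorem p_g1_ok : Net.ok 100 p_g1 = true := by decide +kernel

noncomputable def p_g2 : Net := (Net.cons (nat_lit 1) (nat_lit 0x1550011515110154444110450) (Net.cons (nat_lit 2) (nat_lit 0x2001212011213321022000100) (Net.cons (nat_lit 4) (nat_lit 0xf090d0b070b030504080b01) (Net.cons (nat_lit 8) (nat_lit 0xc00d800050081007d0007) (Net.cons (nat_lit 16) (nat_lit 0x401400003d0e00000000) (Net.cons (nat_lit 32) (nat_lit 0x20000000071238c10) (Net.cons (nat_lit 64) (nat_lit 0xd7dffbed3) (Net.cons (nat_lit 32) (nat_lit 0x2000000006c53ae86) (Net.cons (nat_lit 16) (nat_lit 0xdd4300005fce0000c0bb) (Net.cons (nat_lit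 8) (nat_lit 0x9f008e001600e200e50025) (Net.cons (nat_lit 4) (nat_lit 0x50c0e060200000709080907) (Net.cons (nat_lit 2) (nat_lit 0x3322300311102221133121001) (Net.cons (nat_lit 1) (nat_lit 0x4141510515414444405540511) Net.nil)))))))))))))

theorem p_g2_ok : Net.ok 100 p_g2 = true := by decide +kernel

noncomputable def p_g3 : Net := (Net.cons (nat_lit 1) (nat_lit 0x1540014114115150014110000) (Net.cons (nat_lit 2) (nat_lit 0x2232320012001113213001200) (Net.cons (nat_lit 4) (nat_lit 0xa0209030c000c0505070401) (Net.cons (nat_lit 8) (nat_lit 0xd4003d00d0002000260000) (Net.cons (nat_lit 16) (nat_lit 0xc020000281400000008) (Net.cons (nat_lit 32) (nat_lit 0x145ac00) (Net.cons (nat_lit 64) (nat_lit 0xb1de5bd0f) (Net.cons (nat_lit 32) (nat_lit 0x900000000a545a819) (Net.cons (nat_lit 16) (nat_lit 0xf1200007db10000142a) (Net.cons (nat_lit 8) (nat_lit 0xd5007c00d1002500320008) (Net.cons (nat_lit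 4) (nat_lit 0xa0109020c00090502020703) (Net.cons (nat_lit 2) (nat_lit 0x2222220002010002202111200) (Net.cons (nat_lit 1) (nat_lit 0x1540014114115150014110000) Net.nil)))))))))))))

theorem p_g3_ok : Net.ok 100 p_g3 = true := by decide +kernel

noncomputable def p_g4 : Net := (Net.cons (nat_lit 1) (nat_lit 0x1105410010011544414541000) (Net.cons (nat_lit 2) (nat_lit 0x211202221332102122013200) (Net.cons (nat_lit 4) (nat_lit 0x70f090b00030a060a010104) (Net.cons (nat_lit 8) (nat_lit 0x4300840001004900130000) (Net.cons (nat_lit 16) (nat_lit 0x30450000804c00000000) (Net.cons (nat_lit 32) (nat_lit 0x20100060) (Net.cons (nat_lit 64) (nat_lit 0x6b29002f4) (Net.cons (nat_lit 32) (nat_lit 0xd000000006d5e8564) (Net.cons (nat_lit 16) (nat_lit 0x35c50000a6ec000034b1) (Net.cons (nat_lit 8) (nat_lit 0x6300b40021006900230078) (Net.cons (nat_lit 4) (nat_lit 0x70f090b00030b060a010104) (Net.cons (nat_lit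 2) (nat_lit 0x211202221332102122013200) (Net.cons (nat_lit 1) (nat_lit 0x1105410010011544414541000) Net.nil)))))))))))))

theorem p_g4_ok : Net.ok 100 p_g4 = true := by decide +kernel

noncomputable def p_g5 : Net := (Net.cons (nat_lit 1) (nat_lit 0x401405044110100500501400) (Net.cons (nat_lit 2) (nat_lit 0x23332121310000320021000) (Net.cons (nat_lit 4) (nat_lit 0x10c0105040b060d04000008) (Net.cons (nat_lit 8) (nat_lit 0xe900800005009800ac0000) (Net.cons (nat_lit 16) (nat_lit 0x30410000180a00000000) (Net.cons (nat_lit 32) (nat_lit 0x4000000000881f060) (Net.cons (nat_lit 64) (nat_lit 0xa18a3fae6) (Net.cons (nat_lit 32) (nat_lit 0x4000000001505ede0) (Net.cons (nat_lit 16) (nat_lit 0x6d8d0000068a0000bc91) (Net.cons (nat_lit 8) (nat_lit 0xad00c6006500d800ac0042) (Net.cons (nat_lit 4) (nat_lit 0x10c0105040b060d04010009) (Net.cons (nat_lit 2) (nat_lit 0x2023332121330000320223000) (Net.cons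 (nat_lit 1) (nat_lit 0x401405044110100500501400) Net.nil)))))))))))))

theorem p_g5_ok : Net.ok 100 p_g5 = true := by decide +kernel

noncomputable def p_g6 : Net := (Net.cons (nat_lit 1) (nat_lit 0x4404514440505010414111440) (Net.cons (nat_lit 2) (nat_lit 0x1102313333200132000310220) (Net.cons (nat_lit 4) (nat_lit 0xc0d05060b0b0406020002) (Net.cons (nat_lit 8) (nat_lit 0x1c0029008e0033000e0005) (Net.cons (nat_lit 16) (nat_lit 0x20480000400b00000000) (Net.cons (nat_lit 32) (nat_lit 0x25980f90) (Net.cons (nat_lit 64) (nat_lit 0xd7d981ff0) (Net.cons (nat_lit 32) (nat_lit 0x2000000000fdf47b0) (Net.cons (nat_lit 16) (nat_lit 0x3c5d0000ee190000bdb8) (Net.cons (nat_lit 8) (nat_lit 0x1e0009008c005100ac00a7) (Net.cons (nat_lit 4) (nat_lit 0xc0f05040b0b060e02000a) (Net.cons (nat_lit 2) (nat_lit 0x1302313333200132000310320) (Net.cons (nat_lit 1) (nat_lit 0x4404515440505010414111440) Net.nil)))))))))))))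

theorem p_g6_ok : Net.ok 100 p_g6 = true := by decide +kernel

noncomputable def ch2_Q : List Net := [EvHT.t_g60, p_g1, p_g2, p_g3, p_g4, p_g5, p_g6]

theorem ch2_Q_ok : okE 100 ch2_Q = true := (okE_cons.2 ⟨EvHT.t_g60_ok, (okE_cons.2 ⟨p_g1_ok, (okE_cons.2 ⟨p_g2_ok, (okE_cons.2 ⟨p_g3_ok, (okE_cons.2 ⟨p_g4_ok, (okE_cons.2 ⟨p_g5_ok, (okE_cons.2 ⟨p_g6_ok, (okE_nil 100)⟩)⟩)⟩)⟩)⟩)⟩)⟩)

noncomputable def p_V7 : List Net := [p_g1]

theorem p_V7_ok : okE 100 p_V7 = true := (okE_cons.2 ⟨p_g1_ok, (okE_nil 100)⟩)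

noncomputable def p_g9 : Net := (Net.cons (nat_lit 1) (nat_lit 0x5514100455015541041000000) (Net.cons (nat_lit 2) (nat_lit 0x1203211002030302203011100) (Net.cons (nat_lit 4) (nat_lit 0x404020f010b000f04030000) (Net.cons (nat_lit 8) (nat_lit 0x860026000e000a00020002) (Net.cons (nat_lit 16) (nat_lit 0x2c100000c00100000003) (Net.cons (nat_lit 32) (nat_lit 0x80000000021360800) (Net.cons (nat_lit 64) (nat_lit 0xb33be0e12) (Net.cons (nat_lit 32) (nat_lit 0xe00000000e9370902) (Net.cons (nat_lit 16) (nat_lit 0x2e520000d20300001213) (Net.cons (nat_lit 8) (nat_lit 0x960026000e002e00360012) (Net.cons (nat_lit 4) (nat_lit 0x404030f090f000f04030000) (Net.cons (nat_lit 2) (nat_lit 0x1203211002030302203011100) (Net.cons (nat_lit 1) (nat_lit 0x5514100455015541041000000) Net.nil)))))))))))))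

theorem p_g9_ok : Net.ok 100 p_g9 = true := by decide +kernel

noncomputable def p_g10 : Net := (Net.cons (nat_lit 1) (nat_lit 0x5404515050410054410100010) (Net.cons (nat_lit 2) (nat_lit 0x312110013311231120221000) (Net.cons (nat_lit 4) (nat_lit 0x307040b090e040a070d0409) (Net.cons (nat_lit 8) (nat_lit 0xf300c100b2003300c90007) (Net.cons (nat_lit 16) (nat_lit 0xd09900001c2d00000002) (Net.cons (nat_lit 32) (nat_lit 0x1101e220) (Net.cons (nat_lit 64) (nat_lit 0xd9133eae8) (Net.cons (nat_lit 32) (nat_lit 0x60000000074b9ba28) (Net.cons (nat_lit 16) (nat_lit 0x15ca0000ca3400009ab7) (Net.cons (nat_lit 8) (nat_lit 0x96008300bb003200c00073) (Net.cons (nat_lit 4) (nat_lit 0x402010e0d0f090b07060a0b) (Net.cons (nat_lit 2) (nat_lit 0x3013200023131011102201202) (Net.cons (nat_lit 1) (nat_lit 0x505410044404044410111454) Net.nil)))))))))))))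

theorem p_g10_ok : Net.ok 100 p_g10 = true := by decide +kernel

noncomputable def p_g11 : Net := (Net.cons (nat_lit 1) (nat_lit 0x4441005401140010400011100) (Net.cons (nat_lit 2) (nat_lit 0x1020231103003222000012000) (Net.cons (nat_lit 4) (nat_lit 0xd06090a0508070908000008) (Net.cons (nat_lit 8) (nat_lit 0xdf0092009d000900040008) (Net.cons (nat_lit 16) (nat_lit 0x99600000202f00000000) (Net.cons (nat_lit 32) (nat_lit 0x90000000005000370) (Net.cons (nat_lit 64) (nat_lit 0x497a01b79) (Net.cons (nat_lit 32) (nat_lit 0xb0000000036090172) (Net.cons (nat_lit 16) (nat_lit 0x1be00000fa3f00004600) (Net.cons (nat_lit 8) (nat_lit 0x1e000e008d001d00ae0088) (Net.cons (nat_lit 4) (nat_lit 0x80608080d0907090b02000c) (Net.cons (nat_lit 2) (nat_lit 0x1130331103103213020032000) (Net.cons (nat_lit 1) (nat_lit 0x4441005401140010400011100) Net.nil)))))))))))))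

theorem p_g11_ok : Net.ok 100 p_g11 = true := by decide +kernel

noncomputable def p_V12 : List Net := [p_g9, EvHT.t_g181, EvHT.t_g344, p_g10, p_g11]

theorem p_V12_ok : okE 100 p_V12 = true := (okE_cons.2 ⟨p_g9_ok, (okE_cons.2 ⟨EvHT.t_g181_ok, (okE_cons.2 ⟨EvHT.t_g344_ok, (okE_cons.2 ⟨p_g10_ok, (okE_cons.2 ⟨p_g11_ok, (okE_nil 100)⟩)⟩)⟩)⟩)⟩)

noncomputable def p_V14 : List Net := [EvHT.t_g344]

theorem p_V14_ok : okE 100 p_V14 = true := (okE_cons.2 ⟨EvHT.t_g344_ok, (okE_nil 100)⟩)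

noncomputable def p_g16 : Net := (Net.cons (nat_lit 1) (nat_lit 0x4404505010545111414454540) (Net.cons (nat_lit 2) (nat_lit 0x1210012321001233011203220) (Net.cons (nat_lit 4) (nat_lit 0x701040a06080a0e0c090507) (Net.cons (nat_lit 8) (nat_lit 0x6200af0096007c00ab0002) (Net.cons (nat_lit 16) (nat_lit 0x21a0000220400000005) (Net.cons (nat_lit 32) (nat_lit 0x80000000025978380) (Net.cons (nat_lit 64) (nat_lit 0x7a7ff8faf) (Net.cons (nat_lit 32) (nat_lit 0xb0000000057f481be) (Net.cons (nat_lit 16) (nat_lit 0xe33a0000e7020000ee3d) (Net.cons (nat_lit 8) (nat_lit 0xe300800079002b00970052) (Net.cons (nat_lit 4) (nat_lit 0x3030001050a03090b090f06) (Net.cons (nat_lit 2) (nat_lit 0x2313201301022133111231321) (Net.cons (nat_lit 1) (nat_lit 0x4414510444105051555005440) Net.nil)))))))))))))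

theorem p_g16_ok : Net.ok 100 p_g16 = true := by decide +kernel

noncomputable def p_g17 : Net := (Net.cons (nat_lit 1) (nat_lit 0x444405544110100100501400) (Net.cons (nat_lit 2) (nat_lit 0x1210101220030302010101000) (Net.cons (nat_lit 4) (nat_lit 0x50c070c0004070206090000) (Net.cons (nat_lit 8) (nat_lit 0x190030008c000500000000) (Net.cons (nat_lit 16) (nat_lit 0x28300000244800000000) (Net.cons (nat_lit 32) (nat_lit 0x69244510) (Net.cons (nat_lit 64) (nat_lit 0xeeda47712) (Net.cons (nat_lit 32) (nat_lit 0x69244551) (Net.cons (nat_lit 16) (nat_lit 0x68780000e64800000018) (Net.cons (nat_lit 8) (nat_lit 0x190032009c000500020002) (Net.cons (nat_lit 4) (nat_lit 0x50c070c0004070a070d0400) (Net.cons (nat_lit 2) (nat_lit 0x1210101220030302012101000) (Net.cons (nat_lit 1) (nat_lit 0x444405544110100100501400) Net.nil)))))))))))))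

theorem p_g17_ok : Net.ok 100 p_g17 = true := by decide +kernel

noncomputable def p_V18 : List Net := [p_g16, EvHT.t_g181, p_g9, p_g9, p_g17]

theorem p_V18_ok : okE 100 p_V18 = true := (okE_cons.2 ⟨p_g16_ok, (okE_cons.2 ⟨EvHT.t_g181_ok, (okE_cons.2 ⟨p_g9_ok, (okE_cons.2 ⟨p_g9_ok, (okE_cons.2 ⟨p_g17_ok, (okE_nil 100)⟩)⟩)⟩)⟩)⟩)

noncomputable def p_V20 : List Net := [EvHT.t_g181]

theorem p_V20_ok : okE 100 p_V20 = true := (okE_cons.2 ⟨EvHT.t_g181_ok, (okE_nil 100)⟩)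

noncomputable def p_g22 : Net := (Net.cons (nat_lit 1) (nat_lit 0x4414510444105051555005440) (Net.cons (nat_lit 2) (nat_lit 0x3202310210111022000320030) (Net.cons (nat_lit 4) (nat_lit 0x40402040700060e0e0e0f01) (Net.cons (nat_lit 8) (nat_lit 0x9400c00034004c00950002) (Net.cons (nat_lit 16) (nat_lit 0xb180000721200000009) (Net.cons (nat_lit 32) (nat_lit 0xa48147b0) (Net.cons (nat_lit 64) (nat_lit 0xfafade7b7) (Net.cons (nat_lit 32) (nat_lit 0x300000000f6e7458e) (Net.cons (nat_lit 16) (nat_lit 0xbf1e0000e7130000e935) (Net.cons (nat_lit 8) (nat_lit 0x9000cd009b003b00ec0052) (Net.cons (nat_lit 4) (nat_lit 0x5060108030a0809090e0505) (Net.cons (nat_lit 2) (nat_lit 0x103103230310322100312331) (Net.cons (nat_lit 1) (nat_lit 0x4404505010545111414454540) Net.nil)))))))))))))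

theorem p_g22_ok : Net.ok 100 p_g22 = true := by decide +kernel

noncomputable def p_g23 : Net := (Net.cons (nat_lit 1) (nat_lit 0x544515504404014400400000) (Net.cons (nat_lit 2) (nat_lit 0x3003200211101121100200100) (Net.cons (nat_lit 4) (nat_lit 0xf0509060c0008020a030008) (Net.cons (nat_lit 8) (nat_lit 0xc9001b0058001000220001) (Net.cons (nat_lit 16) (nat_lit 0x130d000014cc00000000) (Net.cons (nat_lit 32) (nat_lit 0x100000000840d9300) (Net.cons (nat_lit 64) (nat_lit 0x2960d9717) (Net.cons (nat_lit 32) (nat_lit 0x900000000941dc3c0) (Net.cons (nat_lit 16) (nat_lit 0xca8c00008dcd00003a02) (Net.cons (nat_lit 8) (nat_lit 0xc80018007b001100200003) (Net.cons (nat_lit 4) (nat_lit 0xf0509060e0208020a030008) (Net.cons (nat_lit 2) (nat_lit 0x3003200211101121122200300) (Net.cons (nat_lit 1) (nat_lit 0x544515504404014400400000) Net.nil)))))))))))))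

theorem p_g23_ok : Net.ok 100 p_g23 = true := by decide +kernel

noncomputable def p_g24 : Net := (Net.cons (nat_lit 1) (nat_lit 0x5054011100551010400000004) (Net.cons (nat_lit 2) (nat_lit 0x1222011123110313011023000) (Net.cons (nat_lit 4) (nat_lit 0x60a05000e04080000040400) (Net.cons (nat_lit 8) (nat_lit 0x550003008a008000420008) (Net.cons (nat_lit 16) (nat_lit 0x5c980000428000000002) (Net.cons (nat_lit 32) (nat_lit 0x300000000180943d0) (Net.cons (nat_lit 64) (nat_lit 0x1e4f4bd3) (Net.cons (nat_lit 32) (nat_lit 0xb0000000050eb4990) (Net.cons (nat_lit 16) (nat_lit 0x56d80000dfc400001a42) (Net.cons (nat_lit 8) (nat_lit 0x570056008c00840042000e) (Net.cons (nat_lit 4) (nat_lit 0x60a00050f04090004040c00) (Net.cons (nat_lit 2) (nat_lit 0x1222111123110313011023000) (Net.cons (nat_lit 1) (nat_lit 0x5054011100551010400000004) Net.nil)))))))))))))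

theorem p_g24_ok : Net.ok 100 p_g24 = true := by decide +kernel

noncomputable def p_V25 : List Net := [p_g22, p_g23, p_g24]

theorem p_V25_ok : okE 100 p_V25 = true := (okE_cons.2 ⟨p_g22_ok, (okE_cons.2 ⟨p_g23_ok, (okE_cons.2 ⟨p_g24_ok, (okE_nil 100)⟩)⟩)⟩)

noncomputable def p_g27 : Net := (Net.cons (nat_lit 1) (nat_lit 0x10444411400500011411400) (Net.cons (nat_lit 2) (nat_lit 0x2313132012130010120000100) (Net.cons (nat_lit 4) (nat_lit 0x40f090d00030108040a0200) (Net.cons (nat_lit 8) (nat_lit 0x4b000600a200d500610000) (Net.cons (nat_lit 16) (nat_lit 0x8000000421800000009) (Net.cons (nat_lit 32) (nat_lit 0xa120500) (Net.cons (nat_lit 64) (nat_lit 0xd0a920d1a) (Net.cons (nat_lit 32) (nat_lit 0x800000000ca3b0748) (Net.cons (nat_lit 16) (nat_lit 0xb8450000429800003109) (Net.cons (nat_lit 8) (nat_lit 0x4b000e00ae00d500670004) (Net.cons (nat_lit 4) (nat_lit 0x40f090d00030108040a0200)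 (Net.cons (nat_lit 2) (nat_lit 0x2313132012130010120000100) (Net.cons (nat_lit 1) (nat_lit 0x10444411400500011411400) Net.nil)))))))))))))

theorem p_g27_ok : Net.ok 100 p_g27 = true := by decide +kernel

noncomputable def p_g28 : Net := (Net.cons (nat_lit 1) (nat_lit 0x4441004045145140410051444) (Net.cons (nat_lit 2) (nat_lit 0x1013333022210110121130010) (Net.cons (nat_lit 4) (nat_lit 0x90802000302040c0a000201) (Net.cons (nat_lit 8) (nat_lit 0x4800ee002000940004000a) (Net.cons (nat_lit 16) (nat_lit 0x2a480000694000000000) (Net.cons (nat_lit 32) (nat_lit 0x71429000) (Net.cons (nat_lit 64) (nat_lit 0xf734bb90e) (Net.cons (nat_lit 32) (nat_lit 0xa000000007952d2da) (Net.cons (nat_lit 16) (nat_lit 0x3a680000796000001400) (Net.cons (nat_lit 8) (nat_lit 0x48002e00ed00940004004a) (Net.cons (nat_lit 4) (nat_lit 0xd0802000302040c0e020201) (Net.cons (nat_lit 2) (nat_lit 0x1013313022210110321130010)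 (Net.cons (nat_lit 1) (nat_lit 0x4441014445145140510051444) Net.nil)))))))))))))

theorem p_g28_ok : Net.ok 100 p_g28 = true := by decide +kernel

noncomputable def p_V29 : List Net := [p_g24, p_g27, p_g28]

theorem p_V29_ok : okE 100 p_V29 = true := (okE_cons.2 ⟨p_g24_ok, (okE_cons.2 ⟨p_g27_ok, (okE_cons.2 ⟨p_g28_ok, (okE_nil 100)⟩)⟩)⟩)

noncomputable def ch2_o_E4 : List Net := []

theorem ch2_o_E4_ok : okE 100 ch2_o_E4 = true := (okE_nil 100)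

noncomputable def ch2_o_G3 : List Net := [p_g24, p_g27, p_g28]

theorem ch2_o_G3_ok : okE 100 ch2_o_G3 = true := (okE_cons.2 ⟨p_g24_ok, (okE_cons.2 ⟨p_g27_ok, (okE_cons.2 ⟨p_g28_ok, (okE_nil 100)⟩)⟩)⟩)

noncomputable def ch2_o_E3 : List Net := [p_g24, p_g27, p_g28, p_g22, p_g23]

theorem ch2_o_E3_ok : okE 100 ch2_o_E3 = true := (okE_cons.2 ⟨p_g24_ok, (okE_cons.2 ⟨p_g27_ok, (okE_cons.2 ⟨p_g28_ok, (okE_cons.2 ⟨p_g22_ok, (okE_cons.2 ⟨p_g23_ok, (okE_nil 100)⟩)⟩)⟩)⟩)⟩)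

noncomputable def ch2_o_G2 : List Net := [EvHT.t_g181, p_g24, p_g27, p_g28, p_g22, p_g23]

theorem ch2_o_G2_ok : okE 100 ch2_o_G2 = true := (okE_cons.2 ⟨EvHT.t_g181_ok, (okE_cons.2 ⟨p_g24_ok, (okE_cons.2 ⟨p_g27_ok, (okE_cons.2 ⟨p_g28_ok, (okE_cons.2 ⟨p_g22_ok, (okE_cons.2 ⟨p_g23_ok, (okE_nil 100)⟩)⟩)⟩)⟩)⟩)⟩)

noncomputable def ch2_o_E2 : List Net := [EvHT.t_g181, p_g16, p_g9, p_g9, p_g17, p_g24, p_g27, p_g28, p_g22, p_g23]

theorem ch2_o_E2_ok : okE 100 ch2_o_E2 = true := (okE_cons.2 ⟨EvHT.t_g181_ok, (okE_cons.2 ⟨p_g16_ok, (okE_cons.2 ⟨p_g9_ok, (okE_cons.2 ⟨p_g9_ok, (okE_cons.2 ⟨p_g17_ok, (okE_cons.2 ⟨p_g24_ok, (okE_cons.2 ⟨p_g27_ok, (okE_cons.2 ⟨p_g28_ok, (okE_cons.2 ⟨p_g22_ok, (okE_cons.2 ⟨p_g23_ok, (okE_nil 100)⟩)⟩)⟩)⟩)⟩)⟩)⟩)⟩)⟩)⟩)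

noncomputable def ch2_o_G1 : List Net := [EvHT.t_g344, EvHT.t_g181, p_g16, p_g9, p_g9, p_g17, p_g24, p_g27, p_g28, p_g22, p_g23]

theorem ch2_o_G1_ok : okE 100 ch2_o_G1 = true := (okE_cons.2 ⟨EvHT.t_g344_ok, (okE_cons.2 ⟨EvHT.t_g181_ok, (okE_cons.2 ⟨p_g16_ok, (okE_cons.2 ⟨p_g9_ok, (okE_cons.2 ⟨p_g9_ok, (okE_cons.2 ⟨p_g17_ok, (okE_cons.2 ⟨p_g24_ok, (okE_cons.2 ⟨p_g27_ok, (okE_cons.2 ⟨p_g28_ok, (okE_cons.2 ⟨p_g22_ok, (okE_cons.2 ⟨p_g23_ok, (okE_nil 100)⟩)⟩)⟩)⟩)⟩)⟩)⟩)⟩)⟩)⟩)⟩)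

noncomputable def ch2_o_E1 : List Net := [EvHT.t_g344, p_g10, p_g11, EvHT.t_g181, p_g16, p_g9, p_g9, p_g17, p_g24, p_g27, p_g28, p_g22, p_g23]

theorem ch2_o_E1_ok : okE 100 ch2_o_E1 = true := (okE_cons.2 ⟨EvHT.t_g344_ok, (okE_cons.2 ⟨p_g10_ok, (okE_cons.2 ⟨p_g11_ok, (okE_cons.2 ⟨EvHT.t_g181_ok, (okE_cons.2 ⟨p_g16_ok, (okE_cons.2 ⟨p_g9_ok, (okE_cons.2 ⟨p_g9_ok, (okE_cons.2 ⟨p_g17_ok, (okE_cons.2 ⟨p_g24_ok, (okE_cons.2 ⟨p_g27_ok, (okE_cons.2 ⟨p_g28_ok, (okE_cons.2 ⟨p_g22_ok, (okE_cons.2 ⟨p_g23_ok, (okE_nil 100)⟩)⟩)⟩)⟩)⟩)⟩)⟩)⟩)⟩)⟩)⟩)⟩)⟩)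

noncomputable def ch2_o_G0 : List Net := [p_g1, EvHT.t_g344, p_g10, p_g11, EvHT.t_g181, p_g16, p_g9, p_g9, p_g17, p_g24, p_g27, p_g28, p_g22, p_g23]

theorem ch2_o_G0_ok : okE 100 ch2_o_G0 = true := (okE_cons.2 ⟨p_g1_ok, (okE_cons.2 ⟨EvHT.t_g344_ok, (okE_cons.2 ⟨p_g10_ok, (okE_cons.2 ⟨p_g11_ok, (okE_cons.2 ⟨EvHT.t_g181_ok, (okE_cons.2 ⟨p_g16_ok, (okE_cons.2 ⟨p_g9_ok, (okE_cons.2 ⟨p_g9_ok, (okE_cons.2 ⟨p_g17_ok, (okE_cons.2 ⟨p_g24_ok, (okE_cons.2 ⟨p_g27_ok, (okE_cons.2 ⟨p_g28_ok, (okE_cons.2 ⟨p_g22_ok, (okE_cons.2 ⟨p_g23_ok, (okE_nil 100)⟩)⟩)⟩)⟩)⟩)⟩)⟩)⟩)⟩)⟩)⟩)⟩)⟩)⟩)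

noncomputable def ch2_o_E0 : List Net := [p_g1, EvHT.t_g60, p_g2, p_g3, p_g4, p_g5, p_g6, EvHT.t_g344, p_g10, p_g11, EvHT.t_g181, p_g16, p_g9, p_g9, p_g17, p_g24, p_g27, p_g28, p_g22, p_g23]

theorem ch2_o_E0_ok : okE 100 ch2_o_E0 = true := (okE_cons.2 ⟨p_g1_ok, (okE_cons.2 ⟨EvHT.t_g60_ok, (okE_cons.2 ⟨p_g2_ok, (okE_cons.2 ⟨p_g3_ok, (okE_cons.2 ⟨p_g4_ok, (okE_cons.2 ⟨p_g5_ok, (okE_cons.2 ⟨p_g6_ok, (okE_cons.2 ⟨EvHT.t_g344_ok, (okE_cons.2 ⟨p_g10_ok, (okE_cons.2 ⟨p_g11_ok, (okE_cons.2 ⟨EvHT.t_g181_ok, (okE_cons.2 ⟨p_g16_ok, (okE_cons.2 ⟨p_g9_ok, (okE_cons.2 ⟨p_g9_ok, (okE_cons.2 ⟨p_g17_ok, (okE_cons.2 ⟨p_g24_ok, (okE_cons.2 ⟨p_g27_ok, (okE_cons.2 ⟨p_g28_ok, (okE_cons.2 ⟨p_g22_ok, (okE_cons.2 ⟨p_g23_ok, (okE_nil 100)⟩)⟩)⟩)⟩)⟩)⟩)⟩)⟩)⟩)⟩)⟩)⟩)⟩)⟩)⟩)⟩)⟩)⟩)⟩)⟩)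

noncomputable def p_g40 : Net := (Net.cons (nat_lit 1) (nat_lit 0x4401045100544501040004440) (Net.cons (nat_lit 2) (nat_lit 0x1031211232232122031103030) (Net.cons (nat_lit 4) (nat_lit 0x80108010f0e01020a090201) (Net.cons (nat_lit 8) (nat_lit 0x6c00210075000100b80009) (Net.cons (nat_lit 16) (nat_lit 0x24240000022c00000007) (Net.cons (nat_lit 32) (nat_lit 0x60000000009a12010) (Net.cons (nat_lit 64) (nat_lit 0x8edf1ab57) (Net.cons (nat_lit 32) (nat_lit 0xb00000000cbbb3d24) (Net.cons (nat_lit 16) (nat_lit 0xb0a0000e73c0000d059) (Net.cons (nat_lit 8) (nat_lit 0xf300cf00fd003100fe0012) (Net.cons (nat_lit 4) (nat_lit 0xe0b04020f04010a0a090304) (Net.cons (nat_lit 2) (nat_lit 0x2023303323233232311031022) (Net.cons (nat_lit 1) (nat_lit 0x1540101041145050150105040) Net.nil)))))))))))))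

theorem p_g40_ok : Net.ok 100 p_g40 = true := by decide +kernel

noncomputable def p_g41 : Net := (Net.cons (nat_lit 1) (nat_lit 0x5544500411414051115445040) (Net.cons (nat_lit 2) (nat_lit 0x3110022122130213202312030) (Net.cons (nat_lit 4) (nat_lit 0x603060008010b040d0b0a00) (Net.cons (nat_lit 8) (nat_lit 0x10002b0077001500990000) (Net.cons (nat_lit 16) (nat_lit 0xf60e0000ce0900000009) (Net.cons (nat_lit 32) (nat_lit 0x40000000078418490) (Net.cons (nat_lit 64) (nat_lit 0x7ff41cc98) (Net.cons (nat_lit 32) (nat_lit 0xa00000000838d6d25) (Net.cons (nat_lit 16) (nat_lit 0x9f54000021cd0000acf8) (Net.cons (nat_lit 8) (nat_lit 0xa50092008a000d000f000b) (Net.cons (nat_lit 4) (nat_lit 0xb070108050f0506090a0c0b) (Net.cons (nat_lit 2) (nat_lit 0x2213311000011310331021000) (Net.cons (nat_lit 1) (nat_lit 0x1155505454104100150401111) Net.nil)))))))))))))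

theorem p_g41_ok : Net.ok 100 p_g41 = true := by decide +kernel

noncomputable def p_g42 : Net := (Net.cons (nat_lit 1) (nat_lit 0x405104151111014000445400) (Net.cons (nat_lit 2) (nat_lit 0x3001002112310001230122030) (Net.cons (nat_lit 4) (nat_lit 0x803070e0b07040001000000) (Net.cons (nat_lit 8) (nat_lit 0xa0040001c006900040000) (Net.cons (nat_lit 16) (nat_lit 0x4090000094200000007) (Net.cons (nat_lit 32) (nat_lit 0x4000000000a0c1400) (Net.cons (nat_lit 64) (nat_lit 0x36a3d7c1f) (Net.cons (nat_lit 32) (nat_lit 0x5000000009f4e84b1) (Net.cons (nat_lit 16) (nat_lit 0x44490000c9420000c007) (Net.cons (nat_lit 8) (nat_lit 0x8a0050001d007900040010) (Net.cons (nat_lit 4) (nat_lit 0x803070e0b07040001080004) (Net.cons (nat_lit 2) (nat_lit 0x3001012112310001230122030) (Net.cons (nat_lit 1) (nat_lit 0x415104151511014000445400) Net.nil)))))))))))))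

theorem p_g42_ok : Net.ok 100 p_g42 = true := by decide +kernel

noncomputable def p_g43 : Net := (Net.cons (nat_lit 1) (nat_lit 0x5015404401001150004110000) (Net.cons (nat_lit 2) (nat_lit 0x3002322102231003220001030) (Net.cons (nat_lit 4) (nat_lit 0x806020006040e0b03060b02) (Net.cons (nat_lit 8) (nat_lit 0xec00800083002f00000008) (Net.cons (nat_lit 16) (nat_lit 0x29a000054f100000000) (Net.cons (nat_lit 32) (nat_lit 0x38802a40) (Net.cons (nat_lit 64) (nat_lit 0x97ce42ad8) (Net.cons (nat_lit 32) (nat_lit 0x20000000028f54f04) (Net.cons (nat_lit 16) (nat_lit 0xa25a0000dcf3000002e4) (Net.cons (nat_lit 8) (nat_lit 0xe9008000d3004b0004002c) (Net.cons (nat_lit 4) (nat_lit 0xe060a0002000a050b0c0f0c) (Net.cons (nat_lit 2) (nat_lit 0x3122121102031103021221012) (Net.cons (nat_lit 1) (nat_lit 0x5015404401001150004110000) Net.nil)))))))))))))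

theorem p_g43_ok : Net.ok 100 p_g43 = true := by decide +kernel

noncomputable def p_g44 : Net := (Net.cons (nat_lit 1) (nat_lit 0x554014411000444505044000) (Net.cons (nat_lit 2) (nat_lit 0x3030102021202113202220000) (Net.cons (nat_lit 4) (nat_lit 0x40103000c02000e00080008) (Net.cons (nat_lit 8) (nat_lit 0xc40028005600d200400008) (Net.cons (nat_lit 16) (nat_lit 0x1ecd0000e48e00000004) (Net.cons (nat_lit 32) (nat_lit 0x100000000280011c0) (Net.cons (nat_lit 64) (nat_lit 0xd680817ec) (Net.cons (nat_lit 32) (nat_lit 0xd000000000ed6dbdc) (Net.cons (nat_lit 16) (nat_lit 0x165d0000649c0000a894) (Net.cons (nat_lit 8) (nat_lit 0xcc0028005e00d000c00008) (Net.cons (nat_lit 4) (nat_lit 0xe0103080c0a0a0408080200) (Net.cons (nat_lit 2) (nat_lit 0x3030102021003131022202000) (Net.cons (nat_lit 1) (nat_lit 0x554014411000444505044000) Net.nil)))))))))))))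

theorem p_g44_ok : Net.ok 100 p_g44 = true := by decide +kernel

noncomputable def p_g45 : Net := (Net.cons (nat_lit 1) (nat_lit 0x541114015510404144405400) (Net.cons (nat_lit 2) (nat_lit 0x2013311220103211212000) (Net.cons (nat_lit 4) (nat_lit 0xa0906040208090009040900) (Net.cons (nat_lit 8) (nat_lit 0xd400070049002200800000) (Net.cons (nat_lit 16) (nat_lit 0x8b1e0000500c00000008) (Net.cons (nat_lit 32) (nat_lit 0x20000000002246930) (Net.cons (nat_lit 64) (nat_lit 0xb6af4eb78) (Net.cons (nat_lit 32) (nat_lit 0x6000000001e6d2130) (Net.cons (nat_lit 16) (nat_lit 0xc73f0000582c000089c8) (Net.cons (nat_lit 8) (nat_lit 0x140047003b00a2004000e0) (Net.cons (nat_lit 4) (nat_lit 0xa0b0606000a0f0009060900) (Net.cons (nat_lit 2) (nat_lit 0x2013311221103211212000) (Net.cons (nat_lit 1) (nat_lit 0x541114015510404144405400) Net.nil)))))))))))))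

theorem p_g45_ok : Net.ok 100 p_g45 = true := by decide +kernel

noncomputable def ch4_Q : List Net := [EvHT.t_g109, p_g42, p_g43, p_g44, p_g45]

theorem ch4_Q_ok : okE 100 ch4_Q = true := (okE_cons.2 ⟨EvHT.t_g109_ok, (okE_cons.2 ⟨p_g42_ok, (okE_cons.2 ⟨p_g43_ok, (okE_cons.2 ⟨p_g44_ok, (okE_cons.2 ⟨p_g45_ok, (okE_nil 100)⟩)⟩)⟩)⟩)⟩)

noncomputable def p_V46 : List Net := [p_g44]

theorem p_V46_ok : okE 100 p_V46 = true := (okE_cons.2 ⟨p_g44_ok, (okE_nil 100)⟩)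

noncomputable def p_g48 : Net := (Net.cons (nat_lit 1) (nat_lit 0x1550511101445154410040040) (Net.cons (nat_lit 2) (nat_lit 0x3031210211221203112122000) (Net.cons (nat_lit 4) (nat_lit 0x50a05040c02030007020208) (Net.cons (nat_lit 8) (nat_lit 0xe002a00940010000a0000) (Net.cons (nat_lit 16) (nat_lit 0x14c90000034400000009) (Net.cons (nat_lit 32) (nat_lit 0x40000000020802640) (Net.cons (nat_lit 64) (nat_lit 0x57cee6641) (Net.cons (nat_lit 32) (nat_lit 0xd0000000025d62035) (Net.cons (nat_lit 16) (nat_lit 0x328f0000ef10000026df) (Net.cons (nat_lit 8) (nat_lit 0x9c00280096001200080002) (Net.cons (nat_lit 4) (nat_lit 0x50a05040c02030c0702020c) (Net.cons (nat_lit 2) (nat_lit 0x3031210211223203112322002) (Net.cons (nat_lit 1) (nat_lit 0x1550511101445154410040040) Net.nil)))))))))))))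

theorem p_g48_ok : Net.ok 100 p_g48 = true := by decide +kernel

noncomputable def p_V49 : List Net := [p_g48, EvHT.t_g108, EvHT.t_g111, p_g45]

theorem p_V49_ok : okE 100 p_V49 = true := (okE_cons.2 ⟨p_g48_ok, (okE_cons.2 ⟨EvHT.t_g108_ok, (okE_cons.2 ⟨EvHT.t_g111_ok, (okE_cons.2 ⟨p_g45_ok, (okE_nil 100)⟩)⟩)⟩)⟩)

noncomputable def p_g51 : Net := (Net.cons (nat_lit 1) (nat_lit 0x1051144410541440041400000) (Net.cons (nat_lit 2) (nat_lit 0x102101012200000200210000) (Net.cons (nat_lit 4) (nat_lit 0x6040906000a0100010000) (Net.cons (nat_lit 8) (nat_lit 0x800052009a003200140006) (Net.cons (nat_lit 16) (nat_lit 0x2a4000006a800000000) (Net.cons (nat_lit 32) (nat_lit 0x81012230) (Net.cons (nat_lit 64) (nat_lit 0x8974322f9) (Net.cons (nat_lit 32) (nat_lit 0x6000000003330b4a1) (Net.cons (nat_lit 16) (nat_lit 0x1b40000d4ab00009204) (Net.cons (nat_lit 8) (nat_lit 0x1900d3001b002e00140086) (Net.cons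 (nat_lit 4) (nat_lit 0x7050d06040a0000080001) (Net.cons (nat_lit 2) (nat_lit 0x102101012200000200210000) (Net.cons (nat_lit 1) (nat_lit 0x1051144410541440041400000) Net.nil)))))))))))))

theorem p_g51_ok : Net.ok 100 p_g51 = true := by decide +kernel

noncomputable def p_g52 : Net := (Net.cons (nat_lit 1) (nat_lit 0x445444511551010514400000) (Net.cons (nat_lit 2) (nat_lit 0x213101303100200331300030) (Net.cons (nat_lit 4) (nat_lit 0x10402000000050400010000) (Net.cons (nat_lit 8) (nat_lit 0x150019009500c500810000) (Net.cons (nat_lit 16) (nat_lit 0x11c60000850900000000) (Net.cons (nat_lit 32) (nat_lit 0x400000000e0023140) (Net.cons (nat_lit 64) (nat_lit 0x5e00331fb) (Net.cons (nat_lit 32) (nat_lit 0x400000000fd8ef340) (Net.cons (nat_lit 16) (nat_lit 0x154e0000851900006400) (Net.cons (nat_lit 8) (nat_lit 0x150091009500c500810000) (Net.cons (nat_lit 4) (nat_lit 0x10c0b09000405000403040d)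 (Net.cons (nat_lit 2) (nat_lit 0x233101303100200331300030) (Net.cons (nat_lit 1) (nat_lit 0x445444511551110514500000) Net.nil)))))))))))))

theorem p_g52_ok : Net.ok 100 p_g52 = true := by decide +kernel

noncomputable def p_V53 : List Net := [EvHT.t_g111, p_g51, p_g52, p_g45]

theorem p_V53_ok : okE 100 p_V53 = true := (okE_cons.2 ⟨EvHT.t_g111_ok, (okE_cons.2 ⟨p_g51_ok, (okE_cons.2 ⟨p_g52_ok, (okE_cons.2 ⟨p_g45_ok, (okE_nil 100)⟩)⟩)⟩)⟩)

noncomputable def ch4_o_E2 : List Net := []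

theorem ch4_o_E2_ok : okE 100 ch4_o_E2 = true := (okE_nil 100)

noncomputable def ch4_o_G1 : List Net := [EvHT.t_g111, p_g51, p_g52, p_g45]

theorem ch4_o_G1_ok : okE 100 ch4_o_G1 = true := (okE_cons.2 ⟨EvHT.t_g111_ok, (okE_cons.2 ⟨p_g51_ok, (okE_cons.2 ⟨p_g52_ok, (okE_cons.2 ⟨p_g45_ok, (okE_nil 100)⟩)⟩)⟩)⟩)

noncomputable def ch4_o_E1 : List Net := [EvHT.t_g111, p_g51, p_g52, p_g45, p_g48, EvHT.t_g108]

theorem ch4_o_E1_ok : okE 100 ch4_o_E1 = true := (okE_cons.2 ⟨EvHT.t_g111_ok, (okE_cons.2 ⟨p_g51_ok, (okE_cons.2 ⟨p_g52_ok, (okE_cons.2 ⟨p_g45_ok, (okE_cons.2 ⟨p_g48_ok, (okE_cons.2 ⟨EvHT.t_g108_ok, (okE_nil 100)⟩)⟩)⟩)⟩)⟩)⟩)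

noncomputable def ch4_o_G0 : List Net := [p_g44, EvHT.t_g111, p_g51, p_g52, p_g45, p_g48, EvHT.t_g108]

theorem ch4_o_G0_ok : okE 100 ch4_o_G0 = true := (okE_cons.2 ⟨p_g44_ok, (okE_cons.2 ⟨EvHT.t_g111_ok, (okE_cons.2 ⟨p_g51_ok, (okE_cons.2 ⟨p_g52_ok, (okE_cons.2 ⟨p_g45_ok, (okE_cons.2 ⟨p_g48_ok, (okE_cons.2 ⟨EvHT.t_g108_ok, (okE_nil 100)⟩)⟩)⟩)⟩)⟩)⟩)⟩)

noncomputable def ch4_o_E0 : List Net := [p_g44, EvHT.t_g109, p_g42, p_g43, EvHT.t_g111, p_g51, p_g52, p_g45, p_g48, EvHT.t_g108]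

theorem ch4_o_E0_ok : okE 100 ch4_o_E0 = true := (okE_cons.2 ⟨p_g44_ok, (okE_cons.2 ⟨EvHT.t_g109_ok, (okE_cons.2 ⟨p_g42_ok, (okE_cons.2 ⟨p_g43_ok, (okE_cons.2 ⟨EvHT.t_g111_ok, (okE_cons.2 ⟨p_g51_ok, (okE_cons.2 ⟨p_g52_ok, (okE_cons.2 ⟨p_g45_ok, (okE_cons.2 ⟨p_g48_ok, (okE_cons.2 ⟨EvHT.t_g108_ok, (okE_nil 100)⟩)⟩)⟩)⟩)⟩)⟩)⟩)⟩)⟩)⟩)

noncomputable def p_g60 : Net := (Net.cons (nat_lit 1) (nat_lit 0x4545004111405051110044000) (Net.cons (nat_lit 2) (nat_lit 0x3032202320030012200122300) (Net.cons (nat_lit 4) (nat_lit 0xd040e0b010d0c0c00080202) (Net.cons (nat_lit 8) (nat_lit 0x67005b008e00d400310001) (Net.cons (nat_lit 16) (nat_lit 0x2a960000212500000005) (Net.cons (nat_lit 32) (nat_lit 0x70000000004c26ea0) (Net.cons (nat_lit 64) (nat_lit 0x587c37eba) (Net.cons (nat_lit 32) (nat_lit 0x200000000b94e7ec0) (Net.cons (nat_lit 16) (nat_lit 0x5f6e0000e3e700009e27) (Net.cons (nat_lit 8) (nat_lit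 0xf300110040005a00bb001c) (Net.cons (nat_lit 4) (nat_lit 0x80a050005000202000200) (Net.cons (nat_lit 2) (nat_lit 0x3002222121230013203103210) (Net.cons (nat_lit 1) (nat_lit 0x4445414511005001111154101) Net.nil)))))))))))))

theorem p_g60_ok : Net.ok 100 p_g60 = true := by decide +kernel

noncomputable def p_g61 : Net := (Net.cons (nat_lit 1) (nat_lit 0x5105554510154145015140510) (Net.cons (nat_lit 2) (nat_lit 0x1301201202132101321200130) (Net.cons (nat_lit 4) (nat_lit 0x40e0201050c0406010f040b) (Net.cons (nat_lit 8) (nat_lit 0xa2008a0026004600800000) (Net.cons (nat_lit 16) (nat_lit 0x21510000004100000000) (Net.cons (nat_lit 32) (nat_lit 0x8a450110) (Net.cons (nat_lit 64) (nat_lit 0xa9adf2b93) (Net.cons (nat_lit 32) (nat_lit 0x10000000092794d68) (Net.cons (nat_lit 16) (nat_lit 0x94c3000047da0000e200) (Net.cons (nat_lit 8) (nat_lit 0x1600d7001400c90082007c) (Net.cons (nat_lit 4) (nat_lit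 0x6060400020c06090008040f) (Net.cons (nat_lit 2) (nat_lit 0x3232222321101122321112300) (Net.cons (nat_lit 1) (nat_lit 0x1451544550054455011044415) Net.nil)))))))))))))

theorem p_g61_ok : Net.ok 100 p_g61 = true := by decide +kernel

noncomputable def p_g62 : Net := (Net.cons (nat_lit 1) (nat_lit 0x440151454440114545115440) (Net.cons (nat_lit 2) (nat_lit 0x1330320102331000300302110) (Net.cons (nat_lit 4) (nat_lit 0xe02050a0d0c0a0e080d0d01) (Net.cons (nat_lit 8) (nat_lit 0xb7005e000f00050008000f) (Net.cons (nat_lit 16) (nat_lit 0xaca20000302600000008) (Net.cons (nat_lit 32) (nat_lit 0x3000000001070eb10) (Net.cons (nat_lit 64) (nat_lit 0xcd373ffbb) (Net.cons (nat_lit 32) (nat_lit 0xe000000003d6cfa0e) (Net.cons (nat_lit 16) (nat_lit 0x11ba0000aa550000a815) (Net.cons (nat_lit 8) (nat_lit 0x89009100540018002700b2) (Net.cons (nat_lit 4) (nat_lit 0x802090d0f0f0b0e0c0f0d0d) (Net.cons (nat_lit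 2) (nat_lit 0x2100220223133122320002310) (Net.cons (nat_lit 1) (nat_lit 0x5500155000440051504055404) Net.nil)))))))))))))

theorem p_g62_ok : Net.ok 100 p_g62 = true := by decide +kernel

noncomputable def p_g63 : Net := (Net.cons (nat_lit 1) (nat_lit 0x1444515411505001015405004) (Net.cons (nat_lit 2) (nat_lit 0x200221013310223313222100) (Net.cons (nat_lit 4) (nat_lit 0x202040d0e0304090b010301) (Net.cons (nat_lit 8) (nat_lit 0xf4009800060027000d0007) (Net.cons (nat_lit 16) (nat_lit 0x8a760000301200000009) (Net.cons (nat_lit 32) (nat_lit 0x800000000a783c000) (Net.cons (nat_lit 64) (nat_lit 0x5a793f96d) (Net.cons (nat_lit 32) (nat_lit 0x300000000ad811996) (Net.cons (nat_lit 16) (nat_lit 0x35fb0000d93a00004965) (Net.cons (nat_lit 8) (nat_lit 0x9a006c00270004001200bf) (Net.cons (nat_lit 4) (nat_lit 0x80207050f02070f070b0d0f) (Net.cons (nat_lit 2) (nat_lit 0x301113100033233002300210)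 (Net.cons (nat_lit 1) (nat_lit 0x5004545450511555450140115) Net.nil)))))))))))))

theorem p_g63_ok : Net.ok 100 p_g63 = true := by decide +kernel

noncomputable def L1 : List Net := [p_g62, p_g63]

theorem L1_ok : okE 100 L1 = true := (okE_cons.2 ⟨p_g62_ok, (okE_cons.2 ⟨p_g63_ok, (okE_nil 100)⟩)⟩)

noncomputable def p_V64 : List Net := [p_g62]

theorem p_V64_ok : okE 100 p_V64 = true := (okE_cons.2 ⟨p_g62_ok, (okE_nil 100)⟩)

noncomputable def p_g66 : Net := (Net.cons (nat_lit 1) (nat_lit 0x5404154510550005110400504) (Net.cons (nat_lit 2) (nat_lit 0x3333032203121122102003200) (Net.cons (nat_lit 4) (nat_lit 0xd09060a08060b010b0c0f0a) (Net.cons (nat_lit 8) (nat_lit 0x5e0065006400ec00520005) (Net.cons (nat_lit 16) (nat_lit 0x2ac20000f0f400000006) (Net.cons (nat_lit 32) (nat_lit 0x40000000072200110) (Net.cons (nat_lit 64) (nat_lit 0xa7eb1715f) (Net.cons (nat_lit 32) (nat_lit 0xb000000004255f388)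 (Net.cons (nat_lit 16) (nat_lit 0x8afe0000a21b00001c3c) (Net.cons (nat_lit 8) (nat_lit 0x500740058007d00520079) (Net.cons (nat_lit 4) (nat_lit 0xd09010d09050101000b0a0e) (Net.cons (nat_lit 2) (nat_lit 0x312133122310013122031032) (Net.cons (nat_lit 1) (nat_lit 0x1101441544100145540004540) Net.nil)))))))))))))

theorem p_g66_ok : Net.ok 100 p_g66 = true := by decide +kernel

noncomputable def p_g67 : Net := (Net.cons (nat_lit 1) (nat_lit 0x5015410405511055451150114) (Net.cons (nat_lit 2) (nat_lit 0x1122220031321130303101220) (Net.cons (nat_lit 4) (nat_lit 0xc00090b0f060502000500) (Net.cons (nat_lit 8) (nat_lit 0x9c006a009b00b500b30006) (Net.cons (nat_lit 16) (nat_lit 0x99f5000019c200000001) (Net.cons (nat_lit 32) (nat_lit 0x100000000a9105040) (Net.cons (nat_lit 64) (nat_lit 0x2b9365fc5) (Net.cons (nat_lit 32) (nat_lit 0x4000000005320cc8d) (Net.cons (nat_lit 16) (nat_lit 0x5edb00002ad40000f543)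 (Net.cons (nat_lit 8) (nat_lit 0x55006400ee00b0004900f0) (Net.cons (nat_lit 4) (nat_lit 0x50c00020f02000e0c0d0d02) (Net.cons (nat_lit 2) (nat_lit 0x3100212320333033033033210) (Net.cons (nat_lit 1) (nat_lit 0x114111441015011441141154) Net.nil)))))))))))))

theorem p_g67_ok : Net.ok 100 p_g67 = true := by decide +kernel

noncomputable def p_V68 : List Net := [p_g66, p_g67]

theorem p_V68_ok : okE 100 p_V68 = true := (okE_cons.2 ⟨p_g66_ok, (okE_cons.2 ⟨p_g67_ok, (okE_nil 100)⟩)⟩)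

noncomputable def p_g70 : Net := (Net.cons (nat_lit 1) (nat_lit 0x114111441015011441141154) (Net.cons (nat_lit 2) (nat_lit 0x3000212321333022033122210) (Net.cons (nat_lit 4) (nat_lit 0x40d03060e02010a08080801) (Net.cons (nat_lit 8) (nat_lit 0xbc00c5000d001c00b40000) (Net.cons (nat_lit 16) (nat_lit 0xdaa00000930400000000) (Net.cons (nat_lit 32) (nat_lit 0x1000000002801d010) (Net.cons (nat_lit 64) (nat_lit 0x73c5dd2b2) (Net.cons (nat_lit 32) (nat_lit 0x4000000004bc158fd) (Net.cons (nat_lit 16) (nat_lit 0xb42b0000c9f20000542b) (Net.cons (nat_lit 8) (nat_lit 0x4a00d7007a0056004e00ef) (Net.cons (nat_lit 4) (nat_lit 0x70a01090b0e060003050401) (Net.cons (nat_lit 2) (nat_lit 0x1132221021331130302111320) (Net.cons (nat_lit 1) (nat_lit 0x5015410405511055451150114) Net.nil)))))))))))))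

theorem p_g70_ok : Net.ok 100 p_g70 = true := by decide +kernel

noncomputable def p_V71 : List Net := [p_g70]

theorem p_V71_ok : okE 100 p_V71 = true := (okE_cons.2 ⟨p_g70_ok, (okE_nil 100)⟩)

noncomputable def p_g73 : Net := (Net.cons (nat_lit 1) (nat_lit 0x1110450144140450415000450) (Net.cons (nat_lit 2) (nat_lit 0x3323111302212102301331100) (Net.cons (nat_lit 4) (nat_lit 0x70a09070804080f03040602) (Net.cons (nat_lit 8) (nat_lit 0x870041007100d400800006) (Net.cons (nat_lit 16) (nat_lit 0xdac0000940600000000) (Net.cons (nat_lit 32) (nat_lit 0xa0000000005c21020) (Net.cons (nat_lit 64) (nat_lit 0x6dfca712c) (Net.cons (nat_lit 32) (nat_lit 0xd0000000054a7bf64) (Net.cons (nat_lit 16) (nat_lit 0xa6a50000234800001444) (Net.cons (nat_lit 8) (nat_lit 0x97000a009a00c200770030) (Net.cons (nat_lit 4) (nat_lit 0xb070a050f08070e0b030d04) (Net.cons (nat_lit 2) (nat_lit 0x1130132033102220001311212)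 (Net.cons (nat_lit 1) (nat_lit 0x4444401045511554114411540) Net.nil)))))))))))))

theorem p_g73_ok : Net.ok 100 p_g73 = true := by decide +kernel

noncomputable def p_g74 : Net := (Net.cons (nat_lit 1) (nat_lit 0x4015415045510041154045000) (Net.cons (nat_lit 2) (nat_lit 0x1221101110123210003031010) (Net.cons (nat_lit 4) (nat_lit 0xf000d070f0a0c00090a0806) (Net.cons (nat_lit 8) (nat_lit 0x20005001100c200a2000e) (Net.cons (nat_lit 16) (nat_lit 0xb2a00009aa100000001) (Net.cons (nat_lit 32) (nat_lit 0x40000000080005260) (Net.cons (nat_lit 64) (nat_lit 0xaca3cd36f) (Net.cons (nat_lit 32) (nat_lit 0x100000000ccc6836b) (Net.cons (nat_lit 16) (nat_lit 0xae6e0000db700000ad4d) (Net.cons (nat_lit 8) (nat_lit 0x200d0005400eb00900062) (Net.cons (nat_lit 4) (nat_lit 0x3000403070e0c0305000902) (Net.cons (nat_lit 2) (nat_lit 0x230013120131210101320012) (Net.cons (nat_lit 1) (nat_lit 0x114414445511100014055010)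 Net.nil)))))))))))))

theorem p_g74_ok : Net.ok 100 p_g74 = true := by decide +kernel

noncomputable def p_g75 : Net := (Net.cons (nat_lit 1) (nat_lit 0x1015510045151440551115400) (Net.cons (nat_lit 2) (nat_lit 0x21130011023030011211200) (Net.cons (nat_lit 4) (nat_lit 0xc020e040c06000f02070d0c) (Net.cons (nat_lit 8) (nat_lit 0x7900c700ac002d0048000d) (Net.cons (nat_lit 16) (nat_lit 0x89010000520a0000000b) (Net.cons (nat_lit 32) (nat_lit 0x200000000804a1600) (Net.cons (nat_lit 64) (nat_lit 0xfd4f1653) (Net.cons (nat_lit 32) (nat_lit 0xd00000000ad065465) (Net.cons (nat_lit 16) (nat_lit 0x1dc1000036ed00006294) (Net.cons (nat_lit 8) (nat_lit 0x31008c00d40008006a006f) (Net.cons (nat_lit 4) (nat_lit 0xd000a01070407080b0f030c) (Net.cons (nat_lit 2) (nat_lit 0x3131001313310100211220000) (Net.cons (nat_lit 1) (nat_lit 0x1414411441141450115115414) Net.nil)))))))))))))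

theorem p_g75_ok : Net.ok 100 p_g75 = true := by decide +kernel

noncomputable def p_V76 : List Net := [p_g73, p_g74, p_g75]

theorem p_V76_ok : okE 100 p_V76 = true := (okE_cons.2 ⟨p_g73_ok, (okE_cons.2 ⟨p_g74_ok, (okE_cons.2 ⟨p_g75_ok, (okE_nil 100)⟩)⟩)⟩)

noncomputable def p_V78 : List Net := [p_g74]

theorem p_V78_ok : okE 100 p_V78 = true := (okE_cons.2 ⟨p_g74_ok, (okE_nil 100)⟩)

noncomputable def p_g80 : Net := (Net.cons (nat_lit 1) (nat_lit 0x4514445055014544105005004) (Net.cons (nat_lit 2) (nat_lit 0x1110203321023202011202000) (Net.cons (nat_lit 4) (nat_lit 0xa0b0200000901080f050000) (Net.cons (nat_lit 8) (nat_lit 0x61008c00120031001f0000) (Net.cons (nat_lit 16) (nat_lit 0x84e000080000000000c) (Net.cons (nat_lit 32) (nat_lit 0xc000000001c888460) (Net.cons (nat_lit 64) (nat_lit 0x1efd8c6c) (Net.cons (nat_lit 32) (nat_lit 0xe00000000df8085e0) (Net.cons (nat_lit 16) (nat_lit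 0x204e0000a11300001f0e) (Net.cons (nat_lit 8) (nat_lit 0xe9008400920031001d002a) (Net.cons (nat_lit 4) (nat_lit 0x20702090a01010a0f050000) (Net.cons (nat_lit 2) (nat_lit 0x1310223321021222011222002) (Net.cons (nat_lit 1) (nat_lit 0x4514445055014544105005004) Net.nil)))))))))))))

theorem p_g80_ok : Net.ok 100 p_g80 = true := by decide +kernel

noncomputable def p_g81 : Net := (Net.cons (nat_lit 1) (nat_lit 0x1515405111150040154000140) (Net.cons (nat_lit 2) (nat_lit 0x2130321322023201321022200) (Net.cons (nat_lit 4) (nat_lit 0xc03060600060a0909000600) (Net.cons (nat_lit 8) (nat_lit 0xb3004c006e00e8000a000a) (Net.cons (nat_lit 16) (nat_lit 0xa0400000002c0000000c) (Net.cons (nat_lit 32) (nat_lit 0x80000000003628200) (Net.cons (nat_lit 64) (nat_lit 0x75b6aaa2e) (Net.cons (nat_lit 32) (nat_lit 0xa00000000237f0642) (Net.cons (nat_lit 16) (nat_lit 0xa64000005aac0000030c) (Net.cons (nat_lit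 8) (nat_lit 0xb300cc006e0060000a000a) (Net.cons (nat_lit 4) (nat_lit 0xd0f0606080f020109010e00) (Net.cons (nat_lit 2) (nat_lit 0x2130323322023201323022200) (Net.cons (nat_lit 1) (nat_lit 0x1515405111150040154000140) Net.nil)))))))))))))

theorem p_g81_ok : Net.ok 100 p_g81 = true := by decide +kernel

noncomputable def p_g82 : Net := (Net.cons (nat_lit 1) (nat_lit 0x1410145154445151010505110) (Net.cons (nat_lit 2) (nat_lit 0x2231010221300030212310330) (Net.cons (nat_lit 4) (nat_lit 0xb0009010300070102020d08) (Net.cons (nat_lit 8) (nat_lit 0xde0082005c0081004f000e) (Net.cons (nat_lit 16) (nat_lit 0x4e980000886c00000002) (Net.cons (nat_lit 32) (nat_lit 0xa9805230) (Net.cons (nat_lit 64) (nat_lit 0xfbbbfff3e) (Net.cons (nat_lit 32) (nat_lit 0x600000000a843b23c) (Net.cons (nat_lit 16) (nat_lit 0xd49d0000920e0000d646) (Net.cons (nat_lit 8) (nat_lit 0xaf00a90011001300620044) (Net.cons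 (nat_lit 4) (nat_lit 0x9050203020e0d0e0d080304) (Net.cons (nat_lit 2) (nat_lit 0x21210222133033323321032) (Net.cons (nat_lit 1) (nat_lit 0x5154105050555055055415414) Net.nil)))))))))))))

theorem p_g82_ok : Net.ok 100 p_g82 = true := by decide +kernel

noncomputable def p_V83 : List Net := [p_g80, p_g81, p_g82]

theorem p_V83_ok : okE 100 p_V83 = true := (okE_cons.2 ⟨p_g80_ok, (okE_cons.2 ⟨p_g81_ok, (okE_cons.2 ⟨p_g82_ok, (okE_nil 100)⟩)⟩)⟩)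

noncomputable def p_V85 : List Net := [p_g82]

theorem p_V85_ok : okE 100 p_V85 = true := (okE_cons.2 ⟨p_g82_ok, (okE_nil 100)⟩)

noncomputable def p_g87 : Net := (Net.cons (nat_lit 1) (nat_lit 0x1540110010440554010100000) (Net.cons (nat_lit 2) (nat_lit 0x331013303303321010221000) (Net.cons (nat_lit 4) (nat_lit 0x20e000d0f08040803020102) (Net.cons (nat_lit 8) (nat_lit 0x4005b00840014000e0005) (Net.cons (nat_lit 16) (nat_lit 0xa6850000140c00000006) (Net.cons (nat_lit 32) (nat_lit 0x600000000d9940400) (Net.cons (nat_lit 64) (nat_lit 0x9df9ebc0f) (Net.cons (nat_lit 32) (nat_lit 0x7000000007bc08c01) (Net.cons (nat_lit 16) (nat_lit 0x37c10000940c00009036) (Net.cons (nat_lit 8) (nat_lit 0x14005b00c4004c001f0015) (Net.cons (nat_lit 4) (nat_lit 0x60e010c0a0a000803020102) (Net.cons (nat_lit 2) (nat_lit 0x221213202213210010321000) (Net.cons (nat_lit 1) (nat_lit 0x1540110104440500010500400)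 Net.nil)))))))))))))

theorem p_g87_ok : Net.ok 100 p_g87 = true := by decide +kernel

noncomputable def p_g88 : Net := (Net.cons (nat_lit 1) (nat_lit 0x1101000455440140115010100) (Net.cons (nat_lit 2) (nat_lit 0x3111022031030203300130020) (Net.cons (nat_lit 4) (nat_lit 0x40003020b0a05020a010900) (Net.cons (nat_lit 8) (nat_lit 0xf8008c001f00d100840008) (Net.cons (nat_lit 16) (nat_lit 0x82000000a44800000002) (Net.cons (nat_lit 32) (nat_lit 0x6301040) (Net.cons (nat_lit 64) (nat_lit 0xb97b85aca) (Net.cons (nat_lit 32) (nat_lit 0xe000000005e61b47e) (Net.cons (nat_lit 16) (nat_lit 0x86400000a09800001608) (Net.cons (nat_lit 8) (nat_lit 0xe8008c000f00d100b6001a) (Net.cons (nat_lit 4) (nat_lit 0x403070b0e01020a050300) (Net.cons (nat_lit 2) (nat_lit 0x1131022031230233300102320) (Net.cons (nat_lit 1) (nat_lit 0x1101000455440140115010100) Net.nil)))))))))))))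

theorem p_g88_ok : Net.ok 100 p_g88 = true := by decide +kernel

noncomputable def p_g89 : Net := (Net.cons (nat_lit 1) (nat_lit 0x1141155004440441010105000) (Net.cons (nat_lit 2) (nat_lit 0x1033110100202132031001000) (Net.cons (nat_lit 4) (nat_lit 0x4010a0e06080d030d010009) (Net.cons (nat_lit 8) (nat_lit 0x46006200a2000300430009) (Net.cons (nat_lit 16) (nat_lit 0x48880000542e00000001) (Net.cons (nat_lit 32) (nat_lit 0x300000000191a42c0) (Net.cons (nat_lit 64) (nat_lit 0x83d1f52e3) (Net.cons (nat_lit 32) (nat_lit 0x7000000003d780ac4) (Net.cons (nat_lit 16) (nat_lit 0x48880000a03d00004701) (Net.cons (nat_lit 8) (nat_lit 0x5200e200900013005f0009) (Net.cons (nat_lit 4) (nat_lit 0xe050a0e000a0b030f050c09) (Net.cons (nat_lit 2) (nat_lit 0x1033110100202132031001000) (Net.cons (nat_lit 1) (nat_lit 0x1141155004440441010105000) Net.nil)))))))))))))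

theorem p_g89_ok : Net.ok 100 p_g89 = true := by decide +kernel

noncomputable def p_g90 : Net := (Net.cons (nat_lit 1) (nat_lit 0x5501000115100014105444000) (Net.cons (nat_lit 2) (nat_lit 0x1211030000231320001111000) (Net.cons (nat_lit 4) (nat_lit 0x80205040f090a0908050101) (Net.cons (nat_lit 8) (nat_lit 0xf1002400e300c000000009) (Net.cons (nat_lit 16) (nat_lit 0x12e50000258900000008) (Net.cons (nat_lit 32) (nat_lit 0x200000000302001c0) (Net.cons (nat_lit 64) (nat_lit 0x93121b3eb) (Net.cons (nat_lit 32) (nat_lit 0x700000000b8e82cc1) (Net.cons (nat_lit 16) (nat_lit 0x76d500004d9b0000080c) (Net.cons (nat_lit 8) (nat_lit 0xd1002600c300c000320029) (Net.cons (nat_lit 4) (nat_lit 0xa0a05040f090a090e070301) (Net.cons (nat_lit 2) (nat_lit 0x1211030000231320001111000) (Net.cons (nat_lit 1) (nat_lit 0x5501040115140014105444010) Net.nil)))))))))))))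

theorem p_g90_ok : Net.ok 100 p_g90 = true := by decide +kernel

noncomputable def p_g91 : Net := (Net.cons (nat_lit 1) (nat_lit 0x5100141004010544100014000) (Net.cons (nat_lit 2) (nat_lit 0x310102220021010332020200) (Net.cons (nat_lit 4) (nat_lit 0x90207050e0f060a07060800) (Net.cons (nat_lit 8) (nat_lit 0x49000d007d008900780000) (Net.cons (nat_lit 16) (nat_lit 0x7af80000060000000008) (Net.cons (nat_lit 32) (nat_lit 0xa001070) (Net.cons (nat_lit 64) (nat_lit 0x94aa13278) (Net.cons (nat_lit 32) (nat_lit 0xc0000000011ee5edc) (Net.cons (nat_lit 16) (nat_lit 0x7dda0000602000008238) (Net.cons (nat_lit 8) (nat_lit 0x49001d007d008900780000) (Net.cons (nat_lit 4) (nat_lit 0x90a0f0d0e03020a070e0c00) (Net.cons (nat_lit 2) (nat_lit 0x310102220021010332020200) (Net.cons (nat_lit 1) (nat_lit 0x5100141004010544100014000) Net.nil)))))))))))))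

theorem p_g91_ok : Net.ok 100 p_g91 = true := by decide +kernel

noncomputable def p_V92 : List Net := [p_g87, p_g88, p_g89, p_g90, p_g91]

theorem p_V92_ok : okE 100 p_V92 = true := (okE_cons.2 ⟨p_g87_ok, (okE_cons.2 ⟨p_g88_ok, (okE_cons.2 ⟨p_g89_ok, (okE_cons.2 ⟨p_g90_ok, (okE_cons.2 ⟨p_g91_ok, (okE_nil 100)⟩)⟩)⟩)⟩)⟩)

noncomputable def p_g94 : Net := (Net.cons (nat_lit 1) (nat_lit 0x4550000155014540015110000) (Net.cons (nat_lit 2) (nat_lit 0x3130003121112112003000200) (Net.cons (nat_lit 4) (nat_lit 0xc0506000d090e0501000000) (Net.cons (nat_lit 8) (nat_lit 0x9a00040098000000020008) (Net.cons (nat_lit 16) (nat_lit 0x2102000007090000000c) (Net.cons (nat_lit 32) (nat_lit 0x41152200) (Net.cons (nat_lit 64) (nat_lit 0xd519deb8c) (Net.cons (nat_lit 32) (nat_lit 0xe000000004f15220c) (Net.cons (nat_lit 16) (nat_lit 0x2562000097290000201e) (Net.cons (nat_lit 8) (nat_lit 0xde000400dc00080003002a)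 (Net.cons (nat_lit 4) (nat_lit 0x8090605090d0e0503000202) (Net.cons (nat_lit 2) (nat_lit 0x3130003121112112003000200) (Net.cons (nat_lit 1) (nat_lit 0x5550000155014540055150000) Net.nil)))))))))))))

theorem p_g94_ok : Net.ok 100 p_g94 = true := by decide +kernel

noncomputable def p_g95 : Net := (Net.cons (nat_lit 1) (nat_lit 0x1441111010555410050010010) (Net.cons (nat_lit 2) (nat_lit 0x2203021322122100000102100) (Net.cons (nat_lit 4) (nat_lit 0x6090302060100000c070400) (Net.cons (nat_lit 8) (nat_lit 0xc000130020000100250000) (Net.cons (nat_lit 16) (nat_lit 0x6080000a00c00000008) (Net.cons (nat_lit 32) (nat_lit 0x149000c0) (Net.cons (nat_lit 64) (nat_lit 0xc949c06d8) (Net.cons (nat_lit 32) (nat_lit 0xb000000005cd1a8c8) (Net.cons (nat_lit 16) (nat_lit 0x46880000a38e0000052e) (Net.cons (nat_lit 8) (nat_lit 0xd400330070001100530004) (Net.cons (nat_lit 4) (nat_lit 0x60b0302060100000e050402)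 (Net.cons (nat_lit 2) (nat_lit 0x2223021322132110001102100) (Net.cons (nat_lit 1) (nat_lit 0x1441111010555510050010010) Net.nil)))))))))))))

theorem p_g95_ok : Net.ok 100 p_g95 = true := by decide +kernel

noncomputable def p_g96 : Net := (Net.cons (nat_lit 1) (nat_lit 0x41110414441005040150000) (Net.cons (nat_lit 2) (nat_lit 0x2131221310210310302002000) (Net.cons (nat_lit 4) (nat_lit 0xc04020c000b0400090b0e0a) (Net.cons (nat_lit 8) (nat_lit 0xac001000b1000400d10000) (Net.cons (nat_lit 16) (nat_lit 0x5200000000800000004) (Net.cons (nat_lit 32) (nat_lit 0x20000000020131080) (Net.cons (nat_lit 64) (nat_lit 0xc32bb1782) (Net.cons (nat_lit 32) (nat_lit 0x200000000611d508a) (Net.cons (nat_lit 16) (nat_lit 0x45480000cc420000e814) (Net.cons (nat_lit 8) (nat_lit 0xee005400b1002400d30000) (Net.cons (nat_lit 4) (nat_lit 0xe0d030c030b04000d090e0a) (Net.cons (nat_lit 2) (nat_lit 0x331221110230310102202020)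 (Net.cons (nat_lit 1) (nat_lit 0x41110414441005040150000) Net.nil)))))))))))))

theorem p_g96_ok : Net.ok 100 p_g96 = true := by decide +kernel

noncomputable def p_V97 : List Net := [p_g94, p_g89, p_g95, p_g96]

theorem p_V97_ok : okE 100 p_V97 = true := (okE_cons.2 ⟨p_g94_ok, (okE_cons.2 ⟨p_g89_ok, (okE_cons.2 ⟨p_g95_ok, (okE_cons.2 ⟨p_g96_ok, (okE_nil 100)⟩)⟩)⟩)⟩)

noncomputable def L1o_E5 : List Net := []

theorem L1o_E5_ok : okE 100 L1o_E5 = true := (okE_nil 100)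

noncomputable def L1o_G4 : List Net := [p_g94, p_g89, p_g95, p_g96]

theorem L1o_G4_ok : okE 100 L1o_G4 = true := (okE_cons.2 ⟨p_g94_ok, (okE_cons.2 ⟨p_g89_ok, (okE_cons.2 ⟨p_g95_ok, (okE_cons.2 ⟨p_g96_ok, (okE_nil 100)⟩)⟩)⟩)⟩)

noncomputable def L1o_E4 : List Net := [p_g94, p_g89, p_g95, p_g96, p_g87, p_g88, p_g90, p_g91]

theorem L1o_E4_ok : okE 100 L1o_E4 = true := (okE_cons.2 ⟨p_g94_ok, (okE_cons.2 ⟨p_g89_ok, (okE_cons.2 ⟨p_g95_ok, (okE_cons.2 ⟨p_g96_ok, (okE_cons.2 ⟨p_g87_ok, (okE_cons.2 ⟨p_g88_ok, (okE_cons.2 ⟨p_g90_ok, (okE_cons.2 ⟨p_g91_ok, (okE_nil 100)⟩)⟩)⟩)⟩)⟩)⟩)⟩)⟩)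

noncomputable def L1o_G3 : List Net := [p_g82, p_g94, p_g89, p_g95, p_g96, p_g87, p_g88, p_g90, p_g91]

theorem L1o_G3_ok : okE 100 L1o_G3 = true := (okE_cons.2 ⟨p_g82_ok, (okE_cons.2 ⟨p_g94_ok, (okE_cons.2 ⟨p_g89_ok, (okE_cons.2 ⟨p_g95_ok, (okE_cons.2 ⟨p_g96_ok, (okE_cons.2 ⟨p_g87_ok, (okE_cons.2 ⟨p_g88_ok, (okE_cons.2 ⟨p_g90_ok, (okE_cons.2 ⟨p_g91_ok, (okE_nil 100)⟩)⟩)⟩)⟩)⟩)⟩)⟩)⟩)⟩)

noncomputable def L1o_E3 : List Net := [p_g82, p_g80, p_g81, p_g94, p_g89, p_g95, p_g96, p_g87, p_g88, p_g90, p_g91]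

theorem L1o_E3_ok : okE 100 L1o_E3 = true := (okE_cons.2 ⟨p_g82_ok, (okE_cons.2 ⟨p_g80_ok, (okE_cons.2 ⟨p_g81_ok, (okE_cons.2 ⟨p_g94_ok, (okE_cons.2 ⟨p_g89_ok, (okE_cons.2 ⟨p_g95_ok, (okE_cons.2 ⟨p_g96_ok, (okE_cons.2 ⟨p_g87_ok, (okE_cons.2 ⟨p_g88_ok, (okE_cons.2 ⟨p_g90_ok, (okE_cons.2 ⟨p_g91_ok, (okE_nil 100)⟩)⟩)⟩)⟩)⟩)⟩)⟩)⟩)⟩)⟩)⟩)

noncomputable def L1o_G2 : List Net := [p_g74, p_g82, p_g80, p_g81, p_g94, p_g89, p_g95, p_g96, p_g87, p_g88, p_g90, p_g91]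

theorem L1o_G2_ok : okE 100 L1o_G2 = true := (okE_cons.2 ⟨p_g74_ok, (okE_cons.2 ⟨p_g82_ok, (okE_cons.2 ⟨p_g80_ok, (okE_cons.2 ⟨p_g81_ok, (okE_cons.2 ⟨p_g94_ok, (okE_cons.2 ⟨p_g89_ok, (okE_cons.2 ⟨p_g95_ok, (okE_cons.2 ⟨p_g96_ok, (okE_cons.2 ⟨p_g87_ok, (okE_cons.2 ⟨p_g88_ok, (okE_cons.2 ⟨p_g90_ok, (okE_cons.2 ⟨p_g91_ok, (okE_nil 100)⟩)⟩)⟩)⟩)⟩)⟩)⟩)⟩)⟩)⟩)⟩)⟩)

noncomputable def L1o_E2 : List Net := [p_g74, p_g73, p_g75, p_g82, p_g80, p_g81, p_g94, p_g89, p_g95, p_g96, p_g87, p_g88, p_g90, p_g91]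

theorem L1o_E2_ok : okE 100 L1o_E2 = true := (okE_cons.2 ⟨p_g74_ok, (okE_cons.2 ⟨p_g73_ok, (okE_cons.2 ⟨p_g75_ok, (okE_cons.2 ⟨p_g82_ok, (okE_cons.2 ⟨p_g80_ok, (okE_cons.2 ⟨p_g81_ok, (okE_cons.2 ⟨p_g94_ok, (okE_cons.2 ⟨p_g89_ok, (okE_cons.2 ⟨p_g95_ok, (okE_cons.2 ⟨p_g96_ok, (okE_cons.2 ⟨p_g87_ok, (okE_cons.2 ⟨p_g88_ok, (okE_cons.2 ⟨p_g90_ok, (okE_cons.2 ⟨p_g91_ok, (okE_nil 100)⟩)⟩)⟩)⟩)⟩)⟩)⟩)⟩)⟩)⟩)⟩)⟩)⟩)⟩)

noncomputable def L1o_G1 : List Net := [p_g70, p_g74, p_g73, p_g75, p_g82, p_g80, p_g81, p_g94, p_g89, p_g95, p_g96, p_g87, p_g88, p_g90, p_g91]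

theorem L1o_G1_ok : okE 100 L1o_G1 = true := (okE_cons.2 ⟨p_g70_ok, (okE_cons.2 ⟨p_g74_ok, (okE_cons.2 ⟨p_g73_ok, (okE_cons.2 ⟨p_g75_ok, (okE_cons.2 ⟨p_g82_ok, (okE_cons.2 ⟨p_g80_ok, (okE_cons.2 ⟨p_g81_ok, (okE_cons.2 ⟨p_g94_ok, (okE_cons.2 ⟨p_g89_ok, (okE_cons.2 ⟨p_g95_ok, (okE_cons.2 ⟨p_g96_ok, (okE_cons.2 ⟨p_g87_ok, (okE_cons.2 ⟨p_g88_ok, (okE_cons.2 ⟨p_g90_ok, (okE_cons.2 ⟨p_g91_ok, (okE_nil 100)⟩)⟩)⟩)⟩)⟩)⟩)⟩)⟩)⟩)⟩)⟩)⟩)⟩)⟩)⟩)

noncomputable def L1o_E1 : List Net := [p_g70, p_g66, p_g67, p_g74, p_g73, p_g75, p_g82, p_g80, p_g81, p_g94, p_g89, p_g95, p_g96, p_g87, p_g88, p_g90, p_g91]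

theorem L1o_E1_ok : okE 100 L1o_E1 = true := (okE_cons.2 ⟨p_g70_ok, (okE_cons.2 ⟨p_g66_ok, (okE_cons.2 ⟨p_g67_ok, (okE_cons.2 ⟨p_g74_ok, (okE_cons.2 ⟨p_g73_ok, (okE_cons.2 ⟨p_g75_ok, (okE_cons.2 ⟨p_g82_ok, (okE_cons.2 ⟨p_g80_ok, (okE_cons.2 ⟨p_g81_ok, (okE_cons.2 ⟨p_g94_ok, (okE_cons.2 ⟨p_g89_ok, (okE_cons.2 ⟨p_g95_ok, (okE_cons.2 ⟨p_g96_ok, (okE_cons.2 ⟨p_g87_ok, (okE_cons.2 ⟨p_g88_ok, (okE_cons.2 ⟨p_g90_ok, (okE_cons.2 ⟨p_g91_ok, (okE_nil 100)⟩)⟩)⟩)⟩)⟩)⟩)⟩)⟩)⟩)⟩)⟩)⟩)⟩)⟩)⟩)⟩)⟩)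

noncomputable def L1o_G0 : List Net := [p_g62, p_g70, p_g66, p_g67, p_g74, p_g73, p_g75, p_g82, p_g80, p_g81, p_g94, p_g89, p_g95, p_g96, p_g87, p_g88, p_g90, p_g91]

theorem L1o_G0_ok : okE 100 L1o_G0 = true := (okE_cons.2 ⟨p_g62_ok, (okE_cons.2 ⟨p_g70_ok, (okE_cons.2 ⟨p_g66_ok, (okE_cons.2 ⟨p_g67_ok, (okE_cons.2 ⟨p_g74_ok, (okE_cons.2 ⟨p_g73_ok, (okE_cons.2 ⟨p_g75_ok, (okE_cons.2 ⟨p_g82_ok, (okE_cons.2 ⟨p_g80_ok, (okE_cons.2 ⟨p_g81_ok, (okE_cons.2 ⟨p_g94_ok, (okE_cons.2 ⟨p_g89_ok, (okE_cons.2 ⟨p_g95_ok, (okE_cons.2 ⟨p_g96_ok, (okE_cons.2 ⟨p_g87_ok, (okE_cons.2 ⟨p_g88_ok, (okE_cons.2 ⟨p_g90_ok, (okE_cons.2 ⟨p_g91_ok, (okE_nil 100)⟩)⟩)⟩)⟩)⟩)⟩)⟩)⟩)⟩)⟩)⟩)⟩)⟩)⟩)⟩)⟩)⟩)⟩)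

noncomputable def L1o_E0 : List Net := [p_g62, p_g63, p_g70, p_g66, p_g67, p_g74, p_g73, p_g75, p_g82, p_g80, p_g81, p_g94, p_g89, p_g95, p_g96, p_g87, p_g88, p_g90, p_g91]

theorem L1o_E0_ok : okE 100 L1o_E0 = true := (okE_cons.2 ⟨p_g62_ok, (okE_cons.2 ⟨p_g63_ok, (okE_cons.2 ⟨p_g70_ok, (okE_cons.2 ⟨p_g66_ok, (okE_cons.2 ⟨p_g67_ok, (okE_cons.2 ⟨p_g74_ok, (okE_cons.2 ⟨p_g73_ok, (okE_cons.2 ⟨p_g75_ok, (okE_cons.2 ⟨p_g82_ok, (okE_cons.2 ⟨p_g80_ok, (okE_cons.2 ⟨p_g81_ok, (okE_cons.2 ⟨p_g94_ok, (okE_cons.2 ⟨p_g89_ok, (okE_cons.2 ⟨p_g95_ok, (okE_cons.2 ⟨p_g96_ok, (okE_cons.2 ⟨p_g87_ok, (okE_cons.2 ⟨p_g88_ok, (okE_cons.2 ⟨p_g90_ok, (okE_cons.2 ⟨p_g91_ok, (okE_nil 100)⟩)⟩)⟩)⟩)⟩)⟩)⟩)⟩)⟩)⟩)⟩)⟩)⟩)⟩)⟩)⟩)⟩)⟩)⟩)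

theorem a1_hn : NOk 8 := by decide

theorem a1_hk : 8 ≤ 2 ^ 3 := by decide

noncomputable def a1_g1 : Net := (Net.cons (nat_lit 1) (nat_lit 4) (Net.cons (nat_lit 2) (nat_lit 1) (Net.cons (nat_lit 1) (nat_lit 65) Net.nil)))

theorem a1_g1_ok : Net.ok 8 a1_g1 = true := by decide +kernel

noncomputable def a1_g2 : Net := (Net.cons (nat_lit 1) (nat_lit 84) (Net.cons (nat_lit 2) (nat_lit 16) (Net.cons (nat_lit 4) (nat_lit 11) (Net.cons (nat_lit 2) (nat_lit 35) (Net.cons (nat_lit 1) (nat_lit 5) Net.nil)))))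

theorem a1_g2_ok : Net.ok 8 a1_g2 = true := by decide +kernel

noncomputable def A1_E : List Net := [a1_g1, a1_g2]

theorem A1_E_ok : okE 8 A1_E = true := (okE_cons.2 ⟨a1_g1_ok, (okE_cons.2 ⟨a1_g2_ok, (okE_nil 8)⟩)⟩)

noncomputable def a1_g3 : Net := (Net.cons (nat_lit 1) (nat_lit 80) (Net.cons (nat_lit 2) (nat_lit 32) (Net.cons (nat_lit 4) (nat_lit 12) (Net.cons (nat_lit 2) (nat_lit 16) Net.nil))))

theorem a1_g3_ok : Net.ok 8 a1_g3 = true := by decide +kernel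

noncomputable def a1_g4 : Net := (Net.cons (nat_lit 1) (nat_lit 80) (Net.cons (nat_lit 2) (nat_lit 16) (Net.cons (nat_lit 4) (nat_lit 14) (Net.cons (nat_lit 1) (nat_lit 68) Net.nil))))

theorem a1_g4_ok : Net.ok 8 a1_g4 = true := by decide +kernel

noncomputable def a1_V5 : List Net := [a1_g3, a1_g4]

theorem a1_V5_ok : okE 8 a1_V5 = true := (okE_cons.2 ⟨a1_g3_ok, (okE_cons.2 ⟨a1_g4_ok, (okE_nil 8)⟩)⟩)

noncomputable def a1_g7 : Net := (Net.cons (nat_lit 1) (nat_lit 16) (Net.cons (nat_lit 2) (nat_lit 16) (Net.cons (nat_lit 4) (nat_lit 4) (Net.cons (nat_lit 1) (nat_lit 4) Net.nil))))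

theorem a1_g7_ok : Net.ok 8 a1_g7 = true := by decide +kernel

noncomputable def a1_g8 : Net := (Net.cons (nat_lit 2) (nat_lit 16) (Net.cons (nat_lit 4) (nat_lit 4) (Net.cons (nat_lit 1) (nat_lit 80) Net.nil)))

theorem a1_g8_ok : Net.ok 8 a1_g8 = true := by decide +kernel

noncomputable def a1_V9 : List Net := [a1_g7, a1_g8]

theorem a1_V9_ok : okE 8 a1_V9 = true := (okE_cons.2 ⟨a1_g7_ok, (okE_cons.2 ⟨a1_g8_ok, (okE_nil 8)⟩)⟩)

noncomputable def a1_g11 : Net := (Net.cons (nat_lit 1) (nat_lit 64) (Net.cons (nat_lit 4) (nat_lit 8) Net.nil))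

theorem a1_g11_ok : Net.ok 8 a1_g11 = true := by decide +kernel

noncomputable def a1_g12 : Net := (Net.cons (nat_lit 1) (nat_lit 64) (Net.cons (nat_lit 4) (nat_lit 8) (Net.cons (nat_lit 2) (nat_lit 48) (Net.cons (nat_lit 1) (nat_lit 80) Net.nil))))

theorem a1_g12_ok : Net.ok 8 a1_g12 = true := by decide +kernel

noncomputable def a1_V13 : List Net := [a1_g11, a1_g12]

theorem a1_V13_ok : okE 8 a1_V13 = true := (okE_cons.2 ⟨a1_g11_ok, (okE_cons.2 ⟨a1_g12_ok, (okE_nil 8)⟩)⟩)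

noncomputable def a1_g15 : Net := (Net.cons (nat_lit 2) (nat_lit 48) (Net.cons (nat_lit 1) (nat_lit 80) Net.nil))

theorem a1_g15_ok : Net.ok 8 a1_g15 = true := by decide +kernel

noncomputable def a1_g16 : Net := (Net.cons (nat_lit 2) (nat_lit 32) (Net.cons (nat_lit 1) (nat_lit 16) Net.nil))

theorem a1_g16_ok : Net.ok 8 a1_g16 = true := by decide +kernel

noncomputable def a1_V17 : List Net := [a1_g15, a1_g16]

theorem a1_V17_ok : okE 8 a1_V17 = true := (okE_cons.2 ⟨a1_g15_ok, (okE_cons.2 ⟨a1_g16_ok, (okE_nil 8)⟩)⟩)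

noncomputable def a1_g19 : Net := (Net.cons (nat_lit 1) (nat_lit 64) (Net.cons (nat_lit 2) (nat_lit 32) Net.nil))

theorem a1_g19_ok : Net.ok 8 a1_g19 = true := by decide +kernel

noncomputable def a1_g20 : Net := (Net.cons (nat_lit 2) (nat_lit 32) (Net.cons (nat_lit 1) (nat_lit 64) Net.nil))

theorem a1_g20_ok : Net.ok 8 a1_g20 = true := by decide +kernel

noncomputable def a1_V21 : List Net := [a1_g19, a1_g20]

theorem a1_V21_ok : okE 8 a1_V21 = true := (okE_cons.2 ⟨a1_g19_ok, (okE_cons.2 ⟨a1_g20_ok, (okE_nil 8)⟩)⟩)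

noncomputable def A1_lb_E : List Net := [a1_g1, a1_g2, a1_g3, a1_g4, a1_g7, a1_g8, a1_g11, a1_g12, a1_g15, a1_g16, a1_g19, a1_g20]

theorem A1_lb_E_ok : okE 8 A1_lb_E = true := (okE_cons.2 ⟨a1_g1_ok, (okE_cons.2 ⟨a1_g2_ok, (okE_cons.2 ⟨a1_g3_ok, (okE_cons.2 ⟨a1_g4_ok, (okE_cons.2 ⟨a1_g7_ok, (okE_cons.2 ⟨a1_g8_ok, (okE_cons.2 ⟨a1_g11_ok, (okE_cons.2 ⟨a1_g12_ok, (okE_cons.2 ⟨a1_g15_ok, (okE_cons.2 ⟨a1_g16_ok, (okE_cons.2 ⟨a1_g19_ok, (okE_cons.2 ⟨a1_g20_ok, (okE_nil 8)⟩)⟩)⟩)⟩)⟩)⟩)⟩)⟩)⟩)⟩)⟩)⟩)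

noncomputable def Y1 : List Net := [EvHT.t_g39]

theorem Y1_ok : okE 100 Y1 = true := (okE_cons.2 ⟨EvHT.t_g39_ok, (okE_nil 100)⟩)

noncomputable def p_V112 : List Net := [EvHT.t_g1, EvHT.t_g2, EvHT.t_g5, EvHT.t_g6, EvHT.t_g9, EvHT.t_g10, EvHT.t_g13, EvHT.t_g14, EvHT.t_g15, EvHT.t_g18, EvHT.t_g19, EvHT.t_g20, EvHT.t_g23, EvHT.t_g24, EvHT.t_g25, EvHT.t_g28, EvHT.t_g29, EvHT.t_g30, EvHT.t_g31, EvHT.t_g34, EvHT.t_g30, EvHT.t_g34, EvHT.t_g34]

theorem p_V112_ok : okE 100 p_V112 = true := (okE_cons.2 ⟨EvHT.t_g1_ok, (okE_cons.2 ⟨EvHT.t_g2_ok, (okE_cons.2 ⟨EvHT.t_g5_ok, (okE_cons.2 ⟨EvHT.t_g6_ok, (okE_cons.2 ⟨EvHT.t_g9_ok, (okE_cons.2 ⟨EvHT.t_g10_ok, (okE_cons.2 ⟨EvHT.t_g13_ok, (okE_cons.2 ⟨EvHT.t_g14_ok, (okE_cons.2 ⟨EvHT.t_g15_ok, (okE_cons.2 ⟨EvHT.t_g18_ok, (okE_cons.2 ⟨EvHT.t_g19_ok, (okE_cons.2 ⟨EvHT.t_g20_ok, (okE_cons.2 ⟨EvHT.t_g23_ok, (okE_cons.2 ⟨EvHT.t_g24_ok, (okE_cons.2 ⟨EvHT.t_g25_ok,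 (okE_cons.2 ⟨EvHT.t_g28_ok, (okE_cons.2 ⟨EvHT.t_g29_ok, (okE_cons.2 ⟨EvHT.t_g30_ok, (okE_cons.2 ⟨EvHT.t_g31_ok, (okE_cons.2 ⟨EvHT.t_g34_ok, (okE_cons.2 ⟨EvHT.t_g30_ok, (okE_cons.2 ⟨EvHT.t_g34_ok, (okE_cons.2 ⟨EvHT.t_g34_ok, (okE_nil 100)⟩)⟩)⟩)⟩)⟩)⟩)⟩)⟩)⟩)⟩)⟩)⟩)⟩)⟩)⟩)⟩)⟩)⟩)⟩)⟩)⟩)⟩)⟩)

noncomputable def p_V113 : List Net := [EvHT.t_g5, EvHT.t_g6, EvHT.t_g9, EvHT.t_g10, EvHT.t_g13, EvHT.t_g14, EvHT.t_g15, EvHT.t_g18, EvHT.t_g19, EvHT.t_g20, EvHT.t_g23, EvHT.t_g24, EvHT.t_g25, EvHT.t_g28, EvHT.t_g29, EvHT.t_g30, EvHT.t_g31, EvHT.t_g34, EvHT.t_g30, EvHT.t_g34, EvHT.t_g34]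

theorem p_V113_ok : okE 100 p_V113 = true := (okE_cons.2 ⟨EvHT.t_g5_ok, (okE_cons.2 ⟨EvHT.t_g6_ok, (okE_cons.2 ⟨EvHT.t_g9_ok, (okE_cons.2 ⟨EvHT.t_g10_ok, (okE_cons.2 ⟨EvHT.t_g13_ok, (okE_cons.2 ⟨EvHT.t_g14_ok, (okE_cons.2 ⟨EvHT.t_g15_ok, (okE_cons.2 ⟨EvHT.t_g18_ok, (okE_cons.2 ⟨EvHT.t_g19_ok, (okE_cons.2 ⟨EvHT.t_g20_ok, (okE_cons.2 ⟨EvHT.t_g23_ok, (okE_cons.2 ⟨EvHT.t_g24_ok, (okE_cons.2 ⟨EvHT.t_g25_ok, (okE_cons.2 ⟨EvHT.t_g28_ok, (okE_cons.2 ⟨EvHT.t_g29_ok, (okE_cons.2 ⟨EvHT.t_g30_ok, (okE_cons.2 ⟨EvHT.t_g31_ok, (okE_cons.2 ⟨EvHT.t_g34_ok, (okE_cons.2 ⟨EvHT.t_g30_ok, (okE_cons.2 ⟨EvHT.t_g34_ok, (okE_cons.2 ⟨EvHT.t_g34_ok, (okE_nil 100)⟩)⟩)⟩)⟩)⟩)⟩)⟩)⟩)⟩)⟩)⟩)⟩)⟩)⟩)⟩)⟩)⟩)⟩)⟩)⟩)⟩)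

noncomputable def p_V114 : List Net := [EvHT.t_g9, EvHT.t_g10, EvHT.t_g13, EvHT.t_g14, EvHT.t_g15, EvHT.t_g18, EvHT.t_g19, EvHT.t_g20, EvHT.t_g23, EvHT.t_g24, EvHT.t_g25, EvHT.t_g28, EvHT.t_g29, EvHT.t_g30, EvHT.t_g31, EvHT.t_g34, EvHT.t_g30, EvHT.t_g34, EvHT.t_g34]

theorem p_V114_ok : okE 100 p_V114 = true := (okE_cons.2 ⟨EvHT.t_g9_ok, (okE_cons.2 ⟨EvHT.t_g10_ok, (okE_cons.2 ⟨EvHT.t_g13_ok, (okE_cons.2 ⟨EvHT.t_g14_ok, (okE_cons.2 ⟨EvHT.t_g15_ok, (okE_cons.2 ⟨EvHT.t_g18_ok, (okE_cons.2 ⟨EvHT.t_g19_ok, (okE_cons.2 ⟨EvHT.t_g20_ok, (okE_cons.2 ⟨EvHT.t_g23_ok, (okE_cons.2 ⟨EvHT.t_g24_ok, (okE_cons.2 ⟨EvHT.t_g25_ok, (okE_cons.2 ⟨EvHT.t_g28_ok, (okE_cons.2 ⟨EvHT.t_g29_ok, (okE_cons.2 ⟨EvHT.t_g30_ok, (okE_cons.2 ⟨EvHT.t_g31_ok, (okE_cons.2 ⟨EvHT.t_g34_ok, (okE_cons.2 ⟨EvHT.t_g30_ok, (okE_cons.2 ⟨EvHT.t_g34_ok, (okE_cons.2 ⟨EvHT.t_g34_ok, (okE_nil 100)⟩)⟩)⟩)⟩)⟩)⟩)⟩)⟩)⟩)⟩)⟩)⟩)⟩)⟩)⟩)⟩)⟩)⟩)⟩)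

noncomputable def p_V115 : List Net := [EvHT.t_g13, EvHT.t_g14, EvHT.t_g15, EvHT.t_g18, EvHT.t_g19, EvHT.t_g20, EvHT.t_g23, EvHT.t_g24, EvHT.t_g25, EvHT.t_g28, EvHT.t_g29, EvHT.t_g30, EvHT.t_g31, EvHT.t_g34, EvHT.t_g30, EvHT.t_g34, EvHT.t_g34]

theorem p_V115_ok : okE 100 p_V115 = true := (okE_cons.2 ⟨EvHT.t_g13_ok, (okE_cons.2 ⟨EvHT.t_g14_ok, (okE_cons.2 ⟨EvHT.t_g15_ok, (okE_cons.2 ⟨EvHT.t_g18_ok, (okE_cons.2 ⟨EvHT.t_g19_ok, (okE_cons.2 ⟨EvHT.t_g20_ok, (okE_cons.2 ⟨EvHT.t_g23_ok, (okE_cons.2 ⟨EvHT.t_g24_ok, (okE_cons.2 ⟨EvHT.t_g25_ok, (okE_cons.2 ⟨EvHT.t_g28_ok, (okE_cons.2 ⟨EvHT.t_g29_ok, (okE_cons.2 ⟨EvHT.t_g30_ok, (okE_cons.2 ⟨EvHT.t_g31_ok, (okE_cons.2 ⟨EvHT.t_g34_ok, (okE_cons.2 ⟨EvHT.t_g30_ok, (okE_cons.2 ⟨EvHT.t_g34_ok, (okE_cons.2 ⟨EvHT.t_g34_ok, (okE_nil 100)⟩)⟩)⟩)⟩)⟩)⟩)⟩)⟩)⟩)⟩)⟩)⟩)⟩)⟩)⟩)⟩)⟩)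

noncomputable def p_V116 : List Net := [EvHT.t_g18, EvHT.t_g19, EvHT.t_g20, EvHT.t_g23, EvHT.t_g24, EvHT.t_g25, EvHT.t_g28, EvHT.t_g29, EvHT.t_g30, EvHT.t_g31, EvHT.t_g34, EvHT.t_g30, EvHT.t_g34, EvHT.t_g34]

theorem p_V116_ok : okE 100 p_V116 = true := (okE_cons.2 ⟨EvHT.t_g18_ok, (okE_cons.2 ⟨EvHT.t_g19_ok, (okE_cons.2 ⟨EvHT.t_g20_ok, (okE_cons.2 ⟨EvHT.t_g23_ok, (okE_cons.2 ⟨EvHT.t_g24_ok, (okE_cons.2 ⟨EvHT.t_g25_ok, (okE_cons.2 ⟨EvHT.t_g28_ok, (okE_cons.2 ⟨EvHT.t_g29_ok, (okE_cons.2 ⟨EvHT.t_g30_ok, (okE_cons.2 ⟨EvHT.t_g31_ok, (okE_cons.2 ⟨EvHT.t_g34_ok, (okE_cons.2 ⟨EvHT.t_g30_ok, (okE_cons.2 ⟨EvHT.t_g34_ok, (okE_cons.2 ⟨EvHT.t_g34_ok, (okE_nil 100)⟩)⟩)⟩)⟩)⟩)⟩)⟩)⟩)⟩)⟩)⟩)⟩)⟩)⟩)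

noncomputable def p_V117 : List Net := [EvHT.t_g23, EvHT.t_g24, EvHT.t_g25, EvHT.t_g28, EvHT.t_g29, EvHT.t_g30, EvHT.t_g31, EvHT.t_g34, EvHT.t_g30, EvHT.t_g34, EvHT.t_g34]

theorem p_V117_ok : okE 100 p_V117 = true := (okE_cons.2 ⟨EvHT.t_g23_ok, (okE_cons.2 ⟨EvHT.t_g24_ok, (okE_cons.2 ⟨EvHT.t_g25_ok, (okE_cons.2 ⟨EvHT.t_g28_ok, (okE_cons.2 ⟨EvHT.t_g29_ok, (okE_cons.2 ⟨EvHT.t_g30_ok, (okE_cons.2 ⟨EvHT.t_g31_ok, (okE_cons.2 ⟨EvHT.t_g34_ok, (okE_cons.2 ⟨EvHT.t_g30_ok, (okE_cons.2 ⟨EvHT.t_g34_ok, (okE_cons.2 ⟨EvHT.t_g34_ok, (okE_nil 100)⟩)⟩)⟩)⟩)⟩)⟩)⟩)⟩)⟩)⟩)⟩)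

noncomputable def p_g118 : Net := (Net.cons (nat_lit 1) (nat_lit 0x5154404404404500041100400) (Net.cons (nat_lit 2) (nat_lit 0x3031301022221002001210000) (Net.cons (nat_lit 4) (nat_lit 0x40a00060e040c0000040000) (Net.cons (nat_lit 8) (nat_lit 0x1900a80004005800820000) (Net.cons (nat_lit 16) (nat_lit 0x8280000201800000003) (Net.cons (nat_lit 32) (nat_lit 0x30000000000aa0280) (Net.cons (nat_lit 64) (nat_lit 0x802aa2a93) (Net.cons (nat_lit 32) (nat_lit 0x700000000469ab0e0) (Net.cons (nat_lit 16) (nat_lit 0x5be800002ff8000042e3) (Net.cons (nat_lit 8) (nat_lit 0x3900880064005800c20060) (Net.cons (nat_lit 4) (nat_lit 0x40b01060e000800040c0000) (Net.cons (nat_lit 2) (nat_lit 0x3031301222221002001210000) (Net.cons (nat_lit 1) (nat_lit 0x5154404404404500041100400) Net.nil)))))))))))))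

theorem p_g118_ok : Net.ok 100 p_g118 = true := by decide +kernel

noncomputable def p_V119 : List Net := [p_g118]

theorem p_V119_ok : okE 100 p_V119 = true := (okE_cons.2 ⟨p_g118_ok, (okE_nil 100)⟩)

noncomputable def p_V121 : List Net := []

theorem p_V121_ok : okE 100 p_V121 = true := (okE_nil 100)

noncomputable def Y1_cnt_EG : List Net := [MpHS.a, HSM.g1, HSM.g2, EvHT.t_g1, EvHT.t_g2, EvHT.t_g5, EvHT.t_g6, EvHT.t_g9, EvHT.t_g10, EvHT.t_g13, EvHT.t_g14, EvHT.t_g15, EvHT.t_g18, EvHT.t_g19, EvHT.t_g20, EvHT.t_g23, EvHT.t_g24, EvHT.t_g25, EvHT.t_g28, EvHT.t_g29, EvHT.t_g30, EvHT.t_g31, EvHT.t_g34, p_g118]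

theorem Y1_cnt_EG_ok : okE 100 Y1_cnt_EG = true := (okE_cons.2 ⟨MpHS.a_ok, (okE_cons.2 ⟨HSM.g1_ok, (okE_cons.2 ⟨HSM.g2_ok, (okE_cons.2 ⟨EvHT.t_g1_ok, (okE_cons.2 ⟨EvHT.t_g2_ok, (okE_cons.2 ⟨EvHT.t_g5_ok, (okE_cons.2 ⟨EvHT.t_g6_ok, (okE_cons.2 ⟨EvHT.t_g9_ok, (okE_cons.2 ⟨EvHT.t_g10_ok, (okE_cons.2 ⟨EvHT.t_g13_ok, (okE_cons.2 ⟨EvHT.t_g14_ok, (okE_cons.2 ⟨EvHT.t_g15_ok, (okE_cons.2 ⟨EvHT.t_g18_ok, (okE_cons.2 ⟨EvHT.t_g19_ok, (okE_cons.2 ⟨EvHT.t_g20_ok, (okE_cons.2 ⟨EvHT.t_g23_ok, (okE_cons.2 ⟨EvHT.t_g24_ok, (okE_cons.2 ⟨EvHT.t_g25_ok, (okE_cons.2 ⟨EvHT.t_g28_ok, (okE_cons.2 ⟨EvHT.t_g29_ok, (okE_cons.2 ⟨EvHT.t_g30_ok, (okE_cons.2 ⟨EvHT.t_g31_ok, (okE_cons.2 ⟨EvHT.t_g34_ok, (okE_cons.2 ⟨p_g118_ok, (okE_nil 100)⟩)⟩)⟩)⟩)⟩)⟩)⟩)⟩)⟩)⟩)⟩)⟩)⟩)⟩)⟩)⟩)⟩)⟩)⟩)⟩)⟩)⟩)⟩)⟩)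

noncomputable def p_g122 : Net := (Net.cons (nat_lit 1) (nat_lit 0x5115404551050010040441400) (Net.cons (nat_lit 2) (nat_lit 0x1201312332012023010100100) (Net.cons (nat_lit 4) (nat_lit 0xd0e05030102080000030c00) (Net.cons (nat_lit 8) (nat_lit 0x8001b0020006700200004) (Net.cons (nat_lit 16) (nat_lit 0x90e10000100300000000) (Net.cons (nat_lit 32) (nat_lit 0x20000000080480820) (Net.cons (nat_lit 64) (nat_lit 0x688fc1d3d) (Net.cons (nat_lit 32) (nat_lit 0x600000000994bc0a4) (Net.cons (nat_lit 16) (nat_lit 0xbbf00000381300002850) (Net.cons (nat_lit 8) (nat_lit 0x59001a0020006700a80015) (Net.cons (nat_lit 4) (nat_lit 0xd0f050b010208000c0b0d02) (Net.cons (nat_lit 2) (nat_lit 0x3201312332012023010100100) (Net.cons (nat_lit 1) (nat_lit 0x5115404555050010040441400) Net.nil)))))))))))))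

theorem p_g122_ok : Net.ok 100 p_g122 = true := by decide +kernel

noncomputable def p_g123 : Net := (Net.cons (nat_lit 1) (nat_lit 0x1140141001041154511515514) (Net.cons (nat_lit 2) (nat_lit 0x2330001133013202023020100) (Net.cons (nat_lit 4) (nat_lit 0x30a08020f010d0f03080300) (Net.cons (nat_lit 8) (nat_lit 0x64009d003b004c00410006) (Net.cons (nat_lit 16) (nat_lit 0x40680000080b00000000) (Net.cons (nat_lit 32) (nat_lit 0x100000000c0100e80) (Net.cons (nat_lit 64) (nat_lit 0xfe1fd8e94) (Net.cons (nat_lit 32) (nat_lit 0x800000000667521c1) (Net.cons (nat_lit 16) (nat_lit 0xbfc00000809800000e6b) (Net.cons (nat_lit 8) (nat_lit 0x700890032006000d600ed) (Net.cons (nat_lit 4) (nat_lit 0x80b010309090d04080206) (Net.cons (nat_lit 2) (nat_lit 0x2212213023013230002301013) (Net.cons (nat_lit 1) (nat_lit 0x4004405054001441501550014) Net.nil)))))))))))))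

theorem p_g123_ok : Net.ok 100 p_g123 = true := by decide +kernel

noncomputable def p_g124 : Net := (Net.cons (nat_lit 1) (nat_lit 0x5001401540445514541514004) (Net.cons (nat_lit 2) (nat_lit 0x1121103011100023203001200) (Net.cons (nat_lit 4) (nat_lit 0xf000c0304060f010c000203) (Net.cons (nat_lit 8) (nat_lit 0x4a00420020002500800001) (Net.cons (nat_lit 16) (nat_lit 0xc520000052300000004) (Net.cons (nat_lit 32) (nat_lit 0x40000000069b0e240) (Net.cons (nat_lit 64) (nat_lit 0xb6bb1ff7e) (Net.cons (nat_lit 32) (nat_lit 0x1000000003a34140e) (Net.cons (nat_lit 16) (nat_lit 0xd0b0000870700008130) (Net.cons (nat_lit 8) (nat_lit 0x23006e0014000f002d0060) (Net.cons (nat_lit 4) (nat_lit 0xf0c00040703060100040606) (Net.cons (nat_lit 2) (nat_lit 0x1000233100011323010230003) (Net.cons (nat_lit 1) (nat_lit 0x1445040514105504544054500) Net.nil)))))))))))))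

theorem p_g124_ok : Net.ok 100 p_g124 = true := by decide +kernel

noncomputable def p_g125 : Net := (Net.cons (nat_lit 1) (nat_lit 0x4054011104044104051540000) (Net.cons (nat_lit 2) (nat_lit 0x3320230313010023011311200) (Net.cons (nat_lit 4) (nat_lit 0x80005080300040302020108) (Net.cons (nat_lit 8) (nat_lit 0x82001a000a001000070008) (Net.cons (nat_lit 16) (nat_lit 0x82380000221e00000001) (Net.cons (nat_lit 32) (nat_lit 0x90000000082128900) (Net.cons (nat_lit 64) (nat_lit 0x7b3378d8c) (Net.cons (nat_lit 32) (nat_lit 0xa1124858) (Net.cons (nat_lit 16) (nat_lit 0x13bd0000a31c000011a6) (Net.cons (nat_lit 8) (nat_lit 0x2a005a000a001500ff0088) (Net.cons (nat_lit 4) (nat_lit 0x90e05030b0006030c080b0a) (Net.cons (nat_lit 2) (nat_lit 0x1102030101010003002211200) (Net.cons (nat_lit 1) (nat_lit 0x440511544054110054440105) Net.nil)))))))))))))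

theorem p_g125_ok : Net.ok 100 p_g125 = true := by decide +kernel

noncomputable def p_g126 : Net := (Net.cons (nat_lit 1) (nat_lit 0x1050455050040411504010440) (Net.cons (nat_lit 2) (nat_lit 0x2311002002323221221312100) (Net.cons (nat_lit 4) (nat_lit 0x7020c0507090c0907010606) (Net.cons (nat_lit 8) (nat_lit 0xa900140080007000670004) (Net.cons (nat_lit 16) (nat_lit 0x45d60000a26d00000008) (Net.cons (nat_lit 32) (nat_lit 0x80000000054202300) (Net.cons (nat_lit 64) (nat_lit 0xe76fa2ba4) (Net.cons (nat_lit 32) (nat_lit 0x400000000fbcb2118) (Net.cons (nat_lit 16) (nat_lit 0x87150000930c0000fb9a) (Net.cons (nat_lit 8) (nat_lit 0x900d200e1007100c000f5) (Net.cons (nat_lit 4) (nat_lit 0xe06050e0f0d0d090f0b050c) (Net.cons (nat_lit 2) (nat_lit 0x3121022211033211020333320) (Net.cons (nat_lit 1) (nat_lit 0x50414451050415514444040) Net.nil)))))))))))))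

theorem p_g126_ok : Net.ok 100 p_g126 = true := by decide +kernel

noncomputable def lt1_c1_K : List Net := [p_g123, p_g124, p_g125, p_g126]

theorem lt1_c1_K_ok : okE 100 lt1_c1_K = true := (okE_cons.2 ⟨p_g123_ok, (okE_cons.2 ⟨p_g124_ok, (okE_cons.2 ⟨p_g125_ok, (okE_cons.2 ⟨p_g126_ok, (okE_nil 100)⟩)⟩)⟩)⟩)

noncomputable def p_V128 : List Net := [p_g70, p_g66, p_g67, p_g74, p_g73, p_g75, p_g82, p_g80, p_g81, p_g94, p_g89, p_g95, p_g96, p_g87, p_g88, p_g90, p_g91]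

theorem p_V128_ok : okE 100 p_V128 = true := (okE_cons.2 ⟨p_g70_ok, (okE_cons.2 ⟨p_g66_ok, (okE_cons.2 ⟨p_g67_ok, (okE_cons.2 ⟨p_g74_ok, (okE_cons.2 ⟨p_g73_ok, (okE_cons.2 ⟨p_g75_ok, (okE_cons.2 ⟨p_g82_ok, (okE_cons.2 ⟨p_g80_ok, (okE_cons.2 ⟨p_g81_ok, (okE_cons.2 ⟨p_g94_ok, (okE_cons.2 ⟨p_g89_ok, (okE_cons.2 ⟨p_g95_ok, (okE_cons.2 ⟨p_g96_ok, (okE_cons.2 ⟨p_g87_ok, (okE_cons.2 ⟨p_g88_ok, (okE_cons.2 ⟨p_g90_ok, (okE_cons.2 ⟨p_g91_ok, (okE_nil 100)⟩)⟩)⟩)⟩)⟩)⟩)⟩)⟩)⟩)⟩)⟩)⟩)⟩)⟩)⟩)⟩)⟩)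

noncomputable def p_g129 : Net := (Net.cons (nat_lit 1) (nat_lit 0x454444110000405405441000) (Net.cons (nat_lit 2) (nat_lit 0x3212201010120000000030200) (Net.cons (nat_lit 4) (nat_lit 0x702070b030d00040a020002) (Net.cons (nat_lit 8) (nat_lit 0x2e00500080004d00130000) (Net.cons (nat_lit 16) (nat_lit 0xa3760000021000000001) (Net.cons (nat_lit 32) (nat_lit 0x40000000082016400) (Net.cons (nat_lit 64) (nat_lit 0x582757501) (Net.cons (nat_lit 32) (nat_lit 0xf00000000d28b6619) (Net.cons (nat_lit 16) (nat_lit 0xb2fd00000a5900001e1b) (Net.cons (nat_lit 8) (nat_lit 0x2e000400b2004d00010032) (Net.cons (nat_lit 4) (nat_lit 0xc06020f030d00010a060102) (Net.cons (nat_lit 2) (nat_lit 0x1032203210120000002030200) (Net.cons (nat_lit 1) (nat_lit 0x454444110000405405441000) Net.nil)))))))))))))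

theorem p_g129_ok : Net.ok 100 p_g129 = true := by decide +kernel

noncomputable def p_g130 : Net := (Net.cons (nat_lit 1) (nat_lit 0x5401441054504514000441400) (Net.cons (nat_lit 2) (nat_lit 0x2120133200013201003003200) (Net.cons (nat_lit 4) (nat_lit 0x90b0d0c090d02000a090006) (Net.cons (nat_lit 8) (nat_lit 0x100f700c4000000140000) (Net.cons (nat_lit 16) (nat_lit 0x60610000800500000000) (Net.cons (nat_lit 32) (nat_lit 0x20000000082f90080) (Net.cons (nat_lit 64) (nat_lit 0x4cbfdaab6) (Net.cons (nat_lit 32) (nat_lit 0xb0000000096e91090) (Net.cons (nat_lit 16) (nat_lit 0x7cf10000a89700000818) (Net.cons (nat_lit 8) (nat_lit 0xa100f700c500c000b40020) (Net.cons (nat_lit 4) (nat_lit 0x90b0d0c090d02000a090406) (Net.cons (nat_lit 2) (nat_lit 0x2130133302013231003003200) (Net.cons (nat_lit 1) (nat_lit 0x5401441054504514000441400) Net.nil)))))))))))))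

theorem p_g130_ok : Net.ok 100 p_g130 = true := by decide +kernel

noncomputable def p_g131 : Net := (Net.cons (nat_lit 1) (nat_lit 0x555150441455540500545004) (Net.cons (nat_lit 2) (nat_lit 0x3111132100130331130223200) (Net.cons (nat_lit 4) (nat_lit 0x2040e070106020007000406) (Net.cons (nat_lit 8) (nat_lit 0xf00023007c0008007d0005) (Net.cons (nat_lit 16) (nat_lit 0xcbf40000024400000005) (Net.cons (nat_lit 32) (nat_lit 0x10000000080884110) (Net.cons (nat_lit 64) (nat_lit 0xfa4ff5b1e) (Net.cons (nat_lit 32) (nat_lit 0x600000000b4806355) (Net.cons (nat_lit 16) (nat_lit 0x45ba000003e70000aa71) (Net.cons (nat_lit 8) (nat_lit 0xb40036007c0059004d0025) (Net.cons (nat_lit 4) (nat_lit 0x90f020e020a0504030e06) (Net.cons (nat_lit 2) (nat_lit 0x3003031100221231230233002) (Net.cons (nat_lit 1) (nat_lit 0x4011040500055540110504114) Net.nil)))))))))))))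

theorem p_g131_ok : Net.ok 100 p_g131 = true := by decide +kernel

noncomputable def p_g132 : Net := (Net.cons (nat_lit 1) (nat_lit 0x5004555141545114501044104) (Net.cons (nat_lit 2) (nat_lit 0x2201210200232110031332110) (Net.cons (nat_lit 4) (nat_lit 0x301050603030a0101020100) (Net.cons (nat_lit 8) (nat_lit 0xd1006a008000d300540005) (Net.cons (nat_lit 16) (nat_lit 0x82a00000254000000000) (Net.cons (nat_lit 32) (nat_lit 0x100000000b80745c0) (Net.cons (nat_lit 64) (nat_lit 0x7fd075fe6) (Net.cons (nat_lit 32) (nat_lit 0xa000000009c078584) (Net.cons (nat_lit 16) (nat_lit 0x1f47000033e30000d009) (Net.cons (nat_lit 8) (nat_lit 0xf60061003500d30021004d) (Net.cons (nat_lit 4) (nat_lit 0x6020a0206030c04070f0704) (Net.cons (nat_lit 2) (nat_lit 0x233331310333130221302112) (Net.cons (nat_lit 1) (nat_lit 0x5504111145111055540144010) Net.nil)))))))))))))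

theorem p_g132_ok : Net.ok 100 p_g132 = true := by decide +kernel

noncomputable def p_V133 : List Net := [p_g129, p_g130, p_g131, p_g132]

theorem p_V133_ok : okE 100 p_V133 = true := (okE_cons.2 ⟨p_g129_ok, (okE_cons.2 ⟨p_g130_ok, (okE_cons.2 ⟨p_g131_ok, (okE_cons.2 ⟨p_g132_ok, (okE_nil 100)⟩)⟩)⟩)⟩)

noncomputable def p_V135 : List Net := [p_g130, p_g131, p_g132]

theorem p_V135_ok : okE 100 p_V135 = true := (okE_cons.2 ⟨p_g130_ok, (okE_cons.2 ⟨p_g131_ok, (okE_cons.2 ⟨p_g132_ok, (okE_nil 100)⟩)⟩)⟩)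

noncomputable def p_V136 : List Net := [p_g131, p_g132]

theorem p_V136_ok : okE 100 p_V136 = true := (okE_cons.2 ⟨p_g131_ok, (okE_cons.2 ⟨p_g132_ok, (okE_nil 100)⟩)⟩)

noncomputable def p_V137 : List Net := [p_g132]

theorem p_V137_ok : okE 100 p_V137 = true := (okE_cons.2 ⟨p_g132_ok, (okE_nil 100)⟩)

noncomputable def p_V138 : List Net := []

theorem p_V138_ok : okE 100 p_V138 = true := (okE_nil 100)

noncomputable def lt1_c1_cnt_EG : List Net := [p_g62, p_g63, p_g70, p_g66, p_g67, p_g74, p_g73, p_g75, p_g82, p_g80, p_g81, p_g94, p_g89, p_g95, p_g96, p_g87, p_g88, p_g90, p_g91, p_g131, p_g132, p_g130, p_g129]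

theorem lt1_c1_cnt_EG_ok : okE 100 lt1_c1_cnt_EG = true := (okE_cons.2 ⟨p_g62_ok, (okE_cons.2 ⟨p_g63_ok, (okE_cons.2 ⟨p_g70_ok, (okE_cons.2 ⟨p_g66_ok, (okE_cons.2 ⟨p_g67_ok, (okE_cons.2 ⟨p_g74_ok, (okE_cons.2 ⟨p_g73_ok, (okE_cons.2 ⟨p_g75_ok, (okE_cons.2 ⟨p_g82_ok, (okE_cons.2 ⟨p_g80_ok, (okE_cons.2 ⟨p_g81_ok, (okE_cons.2 ⟨p_g94_ok, (okE_cons.2 ⟨p_g89_ok, (okE_cons.2 ⟨p_g95_ok, (okE_cons.2 ⟨p_g96_ok, (okE_cons.2 ⟨p_g87_ok, (okE_cons.2 ⟨p_g88_ok, (okE_cons.2 ⟨p_g90_ok, (okE_cons.2 ⟨p_g91_ok, (okE_cons.2 ⟨p_g131_ok, (okE_cons.2 ⟨p_g132_ok, (okE_cons.2 ⟨p_g130_ok, (okE_cons.2 ⟨p_g129_ok, (okE_nil 100)⟩)⟩)⟩)⟩)⟩)⟩)⟩)⟩)⟩)⟩)⟩)⟩)⟩)⟩)⟩)⟩)⟩)⟩)⟩)⟩)⟩)⟩)⟩)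

noncomputable def p_g139 : Net := (Net.cons (nat_lit 1) (nat_lit 0x1450111110450454515014400) (Net.cons (nat_lit 2) (nat_lit 0x3120202200130203020000000) (Net.cons (nat_lit 4) (nat_lit 0xe01080309030706000204) (Net.cons (nat_lit 8) (nat_lit 0xbb00600024008e00100000) (Net.cons (nat_lit 16) (nat_lit 0xb030000012100000003) (Net.cons (nat_lit 32) (nat_lit 0xe00f3300) (Net.cons (nat_lit 64) (nat_lit 0x6f0afbb82) (Net.cons (nat_lit 32) (nat_lit 0x100000000eb0f7369) (Net.cons (nat_lit 16) (nat_lit 0x2b43000025b100002013) (Net.cons (nat_lit 8) (nat_lit 0xbb00e8002400ce005000c0) (Net.cons (nat_lit 4) (nat_lit 0xe03080309030f06000204) (Net.cons (nat_lit 2) (nat_lit 0x3320202300130203020200000) (Net.cons (nat_lit 1) (nat_lit 0x1450111110450454515014400) Net.nil)))))))))))))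

theorem p_g139_ok : Net.ok 100 p_g139 = true := by decide +kernel

noncomputable def p_g140 : Net := (Net.cons (nat_lit 1) (nat_lit 0x5454000440440545550111550) (Net.cons (nat_lit 2) (nat_lit 0x3301230023321031010302220) (Net.cons (nat_lit 4) (nat_lit 0x209010508060e0b00070400) (Net.cons (nat_lit 8) (nat_lit 0xe000160041009800170009) (Net.cons (nat_lit 16) (nat_lit 0x43c2000015130000000c) (Net.cons (nat_lit 32) (nat_lit 0xf0000000030954680) (Net.cons (nat_lit 64) (nat_lit 0x2379ff6cd) (Net.cons (nat_lit 32) (nat_lit 0xc0000000069283684) (Net.cons (nat_lit 16) (nat_lit 0x44b700007ba600008e58) (Net.cons (nat_lit 8) (nat_lit 0xfd0084007f008000540059) (Net.cons (nat_lit 4) (nat_lit 0x50c010b0300050400030b0c) (Net.cons (nat_lit 2) (nat_lit 0x3002331013230023013111120) (Net.cons (nat_lit 1) (nat_lit 0x1410401540150014051005040) Net.nil)))))))))))))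

theorem p_g140_ok : Net.ok 100 p_g140 = true := by decide +kernel

noncomputable def p_g141 : Net := (Net.cons (nat_lit 1) (nat_lit 0x51104110400415144040100) (Net.cons (nat_lit 2) (nat_lit 0x20200210101010300230100) (Net.cons (nat_lit 4) (nat_lit 0xc080c020202080404010008) (Net.cons (nat_lit 8) (nat_lit 0x20004400e4003400100004) (Net.cons (nat_lit 16) (nat_lit 0x84ec0000ec0500000001) (Net.cons (nat_lit 32) (nat_lit 0xa000000002cc10120) (Net.cons (nat_lit 64) (nat_lit 0x6ade929ac) (Net.cons (nat_lit 32) (nat_lit 0xf000000002467cd95) (Net.cons (nat_lit 16) (nat_lit 0x9e080000f4a5000018a1) (Net.cons (nat_lit 8) (nat_lit 0x34004400e4007400500004) (Net.cons (nat_lit 4) (nat_lit 0xc0c08020602080406010008) (Net.cons (nat_lit 2) (nat_lit 0x121210210103010300230100) (Net.cons (nat_lit 1) (nat_lit 0x51104110440415144044100) Net.nil)))))))))))))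

theorem p_g141_ok : Net.ok 100 p_g141 = true := by decide +kernel

noncomputable def p_g142 : Net := (Net.cons (nat_lit 1) (nat_lit 0x414410401151400450140000) (Net.cons (nat_lit 2) (nat_lit 0x2022012110013211230132000) (Net.cons (nat_lit 4) (nat_lit 0x10808020806070004070408) (Net.cons (nat_lit 8) (nat_lit 0x5a00d40018009e009c0008) (Net.cons (nat_lit 16) (nat_lit 0x40820000819400000004) (Net.cons (nat_lit 32) (nat_lit 0x42920200) (Net.cons (nat_lit 64) (nat_lit 0xe4a930a94) (Net.cons (nat_lit 32) (nat_lit 0x500000000c3ce4214) (Net.cons (nat_lit 16) (nat_lit 0xe7fa0000bba400001614) (Net.cons (nat_lit 8) (nat_lit 0x7a00f4003800be00bc0008) (Net.cons (nat_lit 4) (nat_lit 0x90c080a0806070004070c08) (Net.cons (nat_lit 2) (nat_lit 0x2022012110013211230132000) (Net.cons (nat_lit 1) (nat_lit 0x414410401151400450140000) Net.nil)))))))))))))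

theorem p_g142_ok : Net.ok 100 p_g142 = true := by decide +kernel

noncomputable def p_g143 : Net := (Net.cons (nat_lit 1) (nat_lit 0x1141104401440144054045100) (Net.cons (nat_lit 2) (nat_lit 0x332310120133030212001000) (Net.cons (nat_lit 4) (nat_lit 0x40d000d0503000c03000a01) (Net.cons (nat_lit 8) (nat_lit 0x13005400e50015003d0006) (Net.cons (nat_lit 16) (nat_lit 0x58910000408400000005) (Net.cons (nat_lit 32) (nat_lit 0x300000000004044d0) (Net.cons (nat_lit 64) (nat_lit 0x44cd355d3) (Net.cons (nat_lit 32) (nat_lit 0x300000000a54448d0) (Net.cons (nat_lit 16) (nat_lit 0x4dd5000044ef0000042d) (Net.cons (nat_lit 8) (nat_lit 0x13005700e5009500790007) (Net.cons (nat_lit 4) (nat_lit 0xc0e00080503020c07040b01) (Net.cons (nat_lit 2) (nat_lit 0x332310320333030212001000) (Net.cons (nat_lit 1) (nat_lit 0x1141104401440144054045100) Net.nil)))))))))))))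

theorem p_g143_ok : Net.ok 100 p_g143 = true := by decide +kernel

noncomputable def lt1_c2_K : List Net := [p_g140, p_g62, p_g139, p_g141, p_g142, p_g143]

theorem lt1_c2_K_ok : okE 100 lt1_c2_K = true := (okE_cons.2 ⟨p_g140_ok, (okE_cons.2 ⟨p_g62_ok, (okE_cons.2 ⟨p_g139_ok, (okE_cons.2 ⟨p_g141_ok, (okE_cons.2 ⟨p_g142_ok, (okE_cons.2 ⟨p_g143_ok, (okE_nil 100)⟩)⟩)⟩)⟩)⟩)⟩)

noncomputable def p_g145 : Net := (Net.cons (nat_lit 1) (nat_lit 0x4014051400001500554154000) (Net.cons (nat_lit 2) (nat_lit 0x1231332012000000201102020) (Net.cons (nat_lit 4) (nat_lit 0xa0509010a090c0c02030400) (Net.cons (nat_lit 8) (nat_lit 0xfa00610090004600c40002) (Net.cons (nat_lit 16) (nat_lit 0x90620000590800000000) (Net.cons (nat_lit 32) (nat_lit 0xd6080440) (Net.cons (nat_lit 64) (nat_lit 0xf67d5454) (Net.cons (nat_lit 32) (nat_lit 0xb00000000870afc4a) (Net.cons (nat_lit 16) (nat_lit 0xc5e600000d8c00005284)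 (Net.cons (nat_lit 8) (nat_lit 0xfa007100b0004600cc0012) (Net.cons (nat_lit 4) (nat_lit 0xa0509010a090c0f02030400) (Net.cons (nat_lit 2) (nat_lit 0x1231332012000000201102020) (Net.cons (nat_lit 1) (nat_lit 0x4014051400001500554154000) Net.nil)))))))))))))

theorem p_g145_ok : Net.ok 100 p_g145 = true := by decide +kernel

noncomputable def p_V146 : List Net := [p_g145, p_g95]

theorem p_V146_ok : okE 100 p_V146 = true := (okE_cons.2 ⟨p_g145_ok, (okE_cons.2 ⟨p_g95_ok, (okE_nil 100)⟩)⟩)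

noncomputable def p_V148 : List Net := [p_g95]

theorem p_V148_ok : okE 100 p_V148 = true := (okE_cons.2 ⟨p_g95_ok, (okE_nil 100)⟩)

noncomputable def p_V149 : List Net := []

theorem p_V149_ok : okE 100 p_V149 = true := (okE_nil 100)

noncomputable def lt1_c2_cnt_EG : List Net := [p_g70, p_g66, p_g67, p_g74, p_g73, p_g75, p_g82, p_g80, p_g81, p_g94, p_g89, p_g95, p_g96, p_g87, p_g88, p_g90, p_g91, p_g62, p_g63, p_g131, p_g132, p_g130, p_g129, p_g145]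

theorem lt1_c2_cnt_EG_ok : okE 100 lt1_c2_cnt_EG = true := (okE_cons.2 ⟨p_g70_ok, (okE_cons.2 ⟨p_g66_ok, (okE_cons.2 ⟨p_g67_ok, (okE_cons.2 ⟨p_g74_ok, (okE_cons.2 ⟨p_g73_ok, (okE_cons.2 ⟨p_g75_ok, (okE_cons.2 ⟨p_g82_ok, (okE_cons.2 ⟨p_g80_ok, (okE_cons.2 ⟨p_g81_ok, (okE_cons.2 ⟨p_g94_ok, (okE_cons.2 ⟨p_g89_ok, (okE_cons.2 ⟨p_g95_ok, (okE_cons.2 ⟨p_g96_ok, (okE_cons.2 ⟨p_g87_ok, (okE_cons.2 ⟨p_g88_ok, (okE_cons.2 ⟨p_g90_ok, (okE_cons.2 ⟨p_g91_ok, (okE_cons.2 ⟨p_g62_ok, (okE_cons.2 ⟨p_g63_ok, (okE_cons.2 ⟨p_g131_ok, (okE_cons.2 ⟨p_g132_ok, (okE_cons.2 ⟨p_g130_ok, (okE_cons.2 ⟨p_g129_ok, (okE_cons.2 ⟨p_g145_ok, (okE_nil 100)⟩)⟩)⟩)⟩)⟩)⟩)⟩)⟩)⟩)⟩)⟩)⟩)⟩)⟩)⟩)⟩)⟩)⟩)⟩)⟩)⟩)⟩)⟩)⟩)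

noncomputable def p_g150 : Net := (Net.cons (nat_lit 1) (nat_lit 0x41101010141411445550554) (Net.cons (nat_lit 2) (nat_lit 0x23212033201130030100000) (Net.cons (nat_lit 4) (nat_lit 0x40a020b04030c0f00050106) (Net.cons (nat_lit 8) (nat_lit 0xb100160018008500480000) (Net.cons (nat_lit 16) (nat_lit 0x7c00000692300000008) (Net.cons (nat_lit 32) (nat_lit 0x900000000dc400320) (Net.cons (nat_lit 64) (nat_lit 0x7df61fba8) (Net.cons (nat_lit 32) (nat_lit 0x2000000009869e37d) (Net.cons (nat_lit 16) (nat_lit 0x46aa00003b8900007988) (Net.cons (nat_lit 8) (nat_lit 0xda007d007b00c300410002) (Net.cons (nat_lit 4) (nat_lit 0xa00040e0803000c0a080503) (Net.cons (nat_lit 2) (nat_lit 0x201211223131113132011120) (Net.cons (nat_lit 1) (nat_lit 0x1011011451511455505500044) Net.nil)))))))))))))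

theorem p_g150_ok : Net.ok 100 p_g150 = true := by decide +kernel

noncomputable def p_g151 : Net := (Net.cons (nat_lit 1) (nat_lit 0x1414151045144150411511400) (Net.cons (nat_lit 2) (nat_lit 0x3331032131031021213003020) (Net.cons (nat_lit 4) (nat_lit 0xe0b050701060d060d0c0000) (Net.cons (nat_lit 8) (nat_lit 0x87005400fe00a500060004) (Net.cons (nat_lit 16) (nat_lit 0x2c24000094100000000c) (Net.cons (nat_lit 32) (nat_lit 0xc0000000018462010) (Net.cons (nat_lit 64) (nat_lit 0x25cd7333c) (Net.cons (nat_lit 32) (nat_lit 0xd00000000594496b0) (Net.cons (nat_lit 16) (nat_lit 0x15d800004a730000d21c) (Net.cons (nat_lit 8) (nat_lit 0x28005c00ec00b3001000e0) (Net.cons (nat_lit 4) (nat_lit 0x40f050d01020d020d080f0c) (Net.cons (nat_lit 2) (nat_lit 0x2132320231032221210003130) (Net.cons (nat_lit 1) (nat_lit 0x55411044151510450114050) Net.nil)))))))))))))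

theorem p_g151_ok : Net.ok 100 p_g151 = true := by decide +kernel

noncomputable def p_g152 : Net := (Net.cons (nat_lit 1) (nat_lit 0x4144411405450114141510000) (Net.cons (nat_lit 2) (nat_lit 0x2032311312002323301121100) (Net.cons (nat_lit 4) (nat_lit 0x108020b0302070804040002) (Net.cons (nat_lit 8) (nat_lit 0xb20080001c00b400210000) (Net.cons (nat_lit 16) (nat_lit 0x7c25000020a600000005) (Net.cons (nat_lit 32) (nat_lit 0x90000000042142290) (Net.cons (nat_lit 64) (nat_lit 0x6f6b5aa9d) (Net.cons (nat_lit 32) (nat_lit 0x900000000621c42f0) (Net.cons (nat_lit 16) (nat_lit 0xdd2d000094a60000a007) (Net.cons (nat_lit 8) (nat_lit 0xb20080001c00b500610004) (Net.cons (nat_lit 4) (nat_lit 0x108020b03020f0804050102) (Net.cons (nat_lit 2) (nat_lit 0x2032311312002323303121100) (Net.cons (nat_lit 1) (nat_lit 0x4144411405450114141510000) Net.nil)))))))))))))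

theorem p_g152_ok : Net.ok 100 p_g152 = true := by decide +kernel

noncomputable def p_g153 : Net := (Net.cons (nat_lit 1) (nat_lit 0x5150100114104510114000010) (Net.cons (nat_lit 2) (nat_lit 0x1102320302032302100210000) (Net.cons (nat_lit 4) (nat_lit 0x90a09090303050302010c01) (Net.cons (nat_lit 8) (nat_lit 0xa00530012008c00070002) (Net.cons (nat_lit 16) (nat_lit 0x547c00000c2a00000002) (Net.cons (nat_lit 32) (nat_lit 0x400000000c6382000) (Net.cons (nat_lit 64) (nat_lit 0xd6ba6665) (Net.cons (nat_lit 32) (nat_lit 0xb00000000c2782c12) (Net.cons (nat_lit 16) (nat_lit 0x593d000008ae0000050a) (Net.cons (nat_lit 8) (nat_lit 0xa0073003300af00070002) (Net.cons (nat_lit 4) (nat_lit 0x90e0909030305030a030c05) (Net.cons (nat_lit 2) (nat_lit 0x102230302032302101210010) (Net.cons (nat_lit 1) (nat_lit 0x5150100114104510114000010) Net.nil)))))))))))))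

theorem p_g153_ok : Net.ok 100 p_g153 = true := by decide +kernel

noncomputable def lt1_c3_K : List Net := [p_g151, p_g126, p_g152, p_g153]

theorem lt1_c3_K_ok : okE 100 lt1_c3_K = true := (okE_cons.2 ⟨p_g151_ok, (okE_cons.2 ⟨p_g126_ok, (okE_cons.2 ⟨p_g152_ok, (okE_cons.2 ⟨p_g153_ok, (okE_nil 100)⟩)⟩)⟩)⟩)

noncomputable def p_g155 : Net := (Net.cons (nat_lit 1) (nat_lit 0x1045401101155100004114100) (Net.cons (nat_lit 2) (nat_lit 0x3102032110013331113320000) (Net.cons (nat_lit 4) (nat_lit 0x10f01050e06040e07060000) (Net.cons (nat_lit 8) (nat_lit 0x800150012000400800002) (Net.cons (nat_lit 16) (nat_lit 0xa525000086020000000c) (Net.cons (nat_lit 32) (nat_lit 0x824d4000) (Net.cons (nat_lit 64) (nat_lit 0xecefff95e) (Net.cons (nat_lit 32) (nat_lit 0x100000000db050640) (Net.cons (nat_lit 16) (nat_lit 0x8d17000086320000283e) (Net.cons (nat_lit 8) (nat_lit 0x60007500da004400e0006a) (Net.cons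 (nat_lit 4) (nat_lit 0x10f01050e06040e07060000) (Net.cons (nat_lit 2) (nat_lit 0x3102032110013331113320000) (Net.cons (nat_lit 1) (nat_lit 0x1045401101155100004114100) Net.nil)))))))))))))

theorem p_g155_ok : Net.ok 100 p_g155 = true := by decide +kernel

noncomputable def p_g156 : Net := (Net.cons (nat_lit 1) (nat_lit 0x40101100014405540014000) (Net.cons (nat_lit 2) (nat_lit 0x3110101103100012112112020) (Net.cons (nat_lit 4) (nat_lit 0x30b02080e080c0800050000) (Net.cons (nat_lit 8) (nat_lit 0xb200d000200040000c0000) (Net.cons (nat_lit 16) (nat_lit 0x14a00001c4000000001) (Net.cons (nat_lit 32) (nat_lit 0x100000000924105a0) (Net.cons (nat_lit 64) (nat_lit 0x2924d15a3) (Net.cons (nat_lit 32) (nat_lit 0x100000000536debe0) (Net.cons (nat_lit 16) (nat_lit 0xa55600005cc800004415) (Net.cons (nat_lit 8) (nat_lit 0xb6005500f40044000a0044) (Net.cons (nat_lit 4) (nat_lit 0x30302000e000c0108050008)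 (Net.cons (nat_lit 2) (nat_lit 0x3130101103100012112112020) (Net.cons (nat_lit 1) (nat_lit 0x40101100014405540014000) Net.nil)))))))))))))

theorem p_g156_ok : Net.ok 100 p_g156 = true := by decide +kernel

noncomputable def p_V157 : List Net := [p_g155, p_g156, p_g145, p_g130, p_g95]

theorem p_V157_ok : okE 100 p_V157 = true := (okE_cons.2 ⟨p_g155_ok, (okE_cons.2 ⟨p_g156_ok, (okE_cons.2 ⟨p_g145_ok, (okE_cons.2 ⟨p_g130_ok, (okE_cons.2 ⟨p_g95_ok, (okE_nil 100)⟩)⟩)⟩)⟩)⟩)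

noncomputable def p_V159 : List Net := [p_g156, p_g145, p_g130, p_g95]

theorem p_V159_ok : okE 100 p_V159 = true := (okE_cons.2 ⟨p_g156_ok, (okE_cons.2 ⟨p_g145_ok, (okE_cons.2 ⟨p_g130_ok, (okE_cons.2 ⟨p_g95_ok, (okE_nil 100)⟩)⟩)⟩)⟩)

noncomputable def p_V160 : List Net := [p_g130, p_g95]

theorem p_V160_ok : okE 100 p_V160 = true := (okE_cons.2 ⟨p_g130_ok, (okE_cons.2 ⟨p_g95_ok, (okE_nil 100)⟩)⟩)

noncomputable def p_V161 : List Net := []

theorem p_V161_ok : okE 100 p_V161 = true := (okE_nil 100)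

noncomputable def lt1_c3_cnt_EG : List Net := [p_g70, p_g66, p_g67, p_g74, p_g73, p_g75, p_g82, p_g80, p_g81, p_g94, p_g89, p_g95, p_g96, p_g87, p_g88, p_g90, p_g91, p_g62, p_g63, p_g129, p_g130, p_g131, p_g132, p_g156, p_g145, p_g155]

theorem lt1_c3_cnt_EG_ok : okE 100 lt1_c3_cnt_EG = true := (okE_cons.2 ⟨p_g70_ok, (okE_cons.2 ⟨p_g66_ok, (okE_cons.2 ⟨p_g67_ok, (okE_cons.2 ⟨p_g74_ok, (okE_cons.2 ⟨p_g73_ok, (okE_cons.2 ⟨p_g75_ok, (okE_cons.2 ⟨p_g82_ok, (okE_cons.2 ⟨p_g80_ok, (okE_cons.2 ⟨p_g81_ok, (okE_cons.2 ⟨p_g94_ok, (okE_cons.2 ⟨p_g89_ok, (okE_cons.2 ⟨p_g95_ok, (okE_cons.2 ⟨p_g96_ok, (okE_cons.2 ⟨p_g87_ok, (okE_cons.2 ⟨p_g88_ok, (okE_cons.2 ⟨p_g90_ok, (okE_cons.2 ⟨p_g91_ok, (okE_cons.2 ⟨p_g62_ok, (okE_cons.2 ⟨p_g63_ok, (okE_cons.2 ⟨p_g129_ok, (okE_cons.2 ⟨p_g130_ok, (okE_cons.2 ⟨p_g131_ok, (okE_cons.2 ⟨p_g132_ok, (okE_cons.2 ⟨p_g156_ok, (okE_cons.2 ⟨p_g145_ok, (okE_cons.2 ⟨p_g155_ok,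 (okE_nil 100)⟩)⟩)⟩)⟩)⟩)⟩)⟩)⟩)⟩)⟩)⟩)⟩)⟩)⟩)⟩)⟩)⟩)⟩)⟩)⟩)⟩)⟩)⟩)⟩)⟩)⟩)

noncomputable def p_g162 : Net := (Net.cons (nat_lit 1) (nat_lit 0x15005004040544411410044) (Net.cons (nat_lit 2) (nat_lit 0x2323231222331023131020320) (Net.cons (nat_lit 4) (nat_lit 0x40f0f00060b000c06000802) (Net.cons (nat_lit 8) (nat_lit 0x900280076000200200001) (Net.cons (nat_lit 16) (nat_lit 0x6a410000ca1400000002) (Net.cons (nat_lit 32) (nat_lit 0x3000000004018a9c0) (Net.cons (nat_lit 64) (nat_lit 0xcee79fdff) (Net.cons (nat_lit 32) (nat_lit 0x1000000004e33b4ca) (Net.cons (nat_lit 16) (nat_lit 0x638d0000d6d50000a627) (Net.cons (nat_lit 8) (nat_lit 0x710092009f008b000e001a) (Net.cons (nat_lit 4) (nat_lit 0x80b01090c030204080c0902) (Net.cons (nat_lit 2) (nat_lit 0x1320210230122323301203321) (Net.cons (nat_lit 1) (nat_lit 0x15005440550544541401445) Net.nil)))))))))))))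

theorem p_g162_ok : Net.ok 100 p_g162 = true := by decide +kernel

noncomputable def p_g163 : Net := (Net.cons (nat_lit 1) (nat_lit 0x5055100051100410100150010) (Net.cons (nat_lit 2) (nat_lit 0x3010233333111002301220010) (Net.cons (nat_lit 4) (nat_lit 0xb0f0d02020803000a080108) (Net.cons (nat_lit 8) (nat_lit 0x9b007300ce00c700340005) (Net.cons (nat_lit 16) (nat_lit 0x1c000000611800000002) (Net.cons (nat_lit 32) (nat_lit 0xe000000000c44b1a0) (Net.cons (nat_lit 64) (nat_lit 0xfbc7ff1a1) (Net.cons (nat_lit 32) (nat_lit 0x100000000be91c8a8) (Net.cons (nat_lit 16) (nat_lit 0x1de30000fc58000022af) (Net.cons (nat_lit 8) (nat_lit 0x7b0053005600c60004003e) (Net.cons (nat_lit 4) (nat_lit 0xe0603060b070204060103) (Net.cons (nat_lit 2) (nat_lit 0x310313320313320333000010) (Net.cons (nat_lit 1) (nat_lit 0x1415401040440150100450410) Net.nil)))))))))))))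

theorem p_g163_ok : Net.ok 100 p_g163 = true := by decide +kernel

noncomputable def p_g164 : Net := (Net.cons (nat_lit 1) (nat_lit 0x1155511501140040000101010) (Net.cons (nat_lit 2) (nat_lit 0x1100330132132310203000000) (Net.cons (nat_lit 4) (nat_lit 0x5050b04030d060000000409) (Net.cons (nat_lit 8) (nat_lit 0xcc00670019001100010006) (Net.cons (nat_lit 16) (nat_lit 0x708f0000808c00000000) (Net.cons (nat_lit 32) (nat_lit 0x44183cc0) (Net.cons (nat_lit 64) (nat_lit 0x85ed83ee0) (Net.cons (nat_lit 32) (nat_lit 0x700000000c7d07c14) (Net.cons (nat_lit 16) (nat_lit 0x73cf0000a2cd00000241) (Net.cons (nat_lit 8) (nat_lit 0xcc006f00b9009900d50006) (Net.cons (nat_lit 4) (nat_lit 0x7050e0c01070c0200080609) (Net.cons (nat_lit 2) (nat_lit 0x1310321130110311213100002) (Net.cons (nat_lit 1) (nat_lit 0x1155511501140040000101010) Net.nil)))))))))))))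

theorem p_g164_ok : Net.ok 100 p_g164 = true := by decide +kernel

noncomputable def lt1_c4_K : List Net := [p_g163, p_g162, p_g164]

theorem lt1_c4_K_ok : okE 100 lt1_c4_K = true := (okE_cons.2 ⟨p_g163_ok, (okE_cons.2 ⟨p_g162_ok, (okE_cons.2 ⟨p_g164_ok, (okE_nil 100)⟩)⟩)⟩)

noncomputable def p_V166 : List Net := [p_g74, p_g73, p_g75, p_g82, p_g80, p_g81, p_g94, p_g89, p_g95, p_g96, p_g87, p_g88, p_g90, p_g91]

theorem p_V166_ok : okE 100 p_V166 = true := (okE_cons.2 ⟨p_g74_ok, (okE_cons.2 ⟨p_g73_ok, (okE_cons.2 ⟨p_g75_ok, (okE_cons.2 ⟨p_g82_ok, (okE_cons.2 ⟨p_g80_ok, (okE_cons.2 ⟨p_g81_ok, (okE_cons.2 ⟨p_g94_ok, (okE_cons.2 ⟨p_g89_ok, (okE_cons.2 ⟨p_g95_ok, (okE_cons.2 ⟨p_g96_ok, (okE_cons.2 ⟨p_g87_ok, (okE_cons.2 ⟨p_g88_ok, (okE_cons.2 ⟨p_g90_ok, (okE_cons.2 ⟨p_g91_ok, (okE_nil 100)⟩)⟩)⟩)⟩)⟩)⟩)⟩)⟩)⟩)⟩)⟩)⟩)⟩)⟩)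

noncomputable def p_g167 : Net := (Net.cons (nat_lit 1) (nat_lit 0x1110040144144541514440104) (Net.cons (nat_lit 2) (nat_lit 0x2320322311312130231032020) (Net.cons (nat_lit 4) (nat_lit 0xe010401020105030d030d01) (Net.cons (nat_lit 8) (nat_lit 0x5b00b30005004000540009) (Net.cons (nat_lit 16) (nat_lit 0x4f0000090d200000000) (Net.cons (nat_lit 32) (nat_lit 0x5000000001b808d60) (Net.cons (nat_lit 64) (nat_lit 0x1b9afded) (Net.cons (nat_lit 32) (nat_lit 0x9000000009fd7e544) (Net.cons (nat_lit 16) (nat_lit 0xdd620000690f0000bd8a) (Net.cons (nat_lit 8) (nat_lit 0xc100a200b9006f0063008d) (Net.cons (nat_lit 4) (nat_lit 0x7070e0007050d0e07020c01) (Net.cons (nat_lit 2) (nat_lit 0x2332120202020322012000102) (Net.cons (nat_lit 1) (nat_lit 0x4454040045504114404514) Net.nil)))))))))))))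

theorem p_g167_ok : Net.ok 100 p_g167 = true := by decide +kernel

noncomputable def p_g168 : Net := (Net.cons (nat_lit 1) (nat_lit 0x1154014440050010540040) (Net.cons (nat_lit 2) (nat_lit 0x312022030130030002023200) (Net.cons (nat_lit 4) (nat_lit 0x30c03040f040c0903020004) (Net.cons (nat_lit 8) (nat_lit 0x2e0081001300b500000002) (Net.cons (nat_lit 16) (nat_lit 0x58220000348e00000005) (Net.cons (nat_lit 32) (nat_lit 0x4000000000801e870) (Net.cons (nat_lit 64) (nat_lit 0x32941f87f) (Net.cons (nat_lit 32) (nat_lit 0x70000000000c7fc2b) (Net.cons (nat_lit 16) (nat_lit 0x4876000027de00008a6d) (Net.cons (nat_lit 8) (nat_lit 0x3e009b008b00a50018001a) (Net.cons (nat_lit 4) (nat_lit 0x30c03040f040c0907020004) (Net.cons (nat_lit 2) (nat_lit 0x1312222030130030002033200) (Net.cons (nat_lit 1) (nat_lit 0x1154014440050010540040) Net.nil)))))))))))))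

theorem p_g168_ok : Net.ok 100 p_g168 = true := by decide +kernel

noncomputable def p_g169 : Net := (Net.cons (nat_lit 1) (nat_lit 0x5440540110440400015410000) (Net.cons (nat_lit 2) (nat_lit 0x202120101212130101102000) (Net.cons (nat_lit 4) (nat_lit 0xe010e010200000908040800) (Net.cons (nat_lit 8) (nat_lit 0xa000010001004100c00009) (Net.cons (nat_lit 16) (nat_lit 0x930c0000025100000000) (Net.cons (nat_lit 32) (nat_lit 0x6000000000a215040) (Net.cons (nat_lit 64) (nat_lit 0xc0fb1d2ea) (Net.cons (nat_lit 32) (nat_lit 0xf000000008a615459) (Net.cons (nat_lit 16) (nat_lit 0x921c00002b5900004000) (Net.cons (nat_lit 8) (nat_lit 0xf90009000b00c900fb0009) (Net.cons (nat_lit 4) (nat_lit 0xf020e00060001090b070800) (Net.cons (nat_lit 2) (nat_lit 0x202120101212130121122000) (Net.cons (nat_lit 1) (nat_lit 0x5440540110440400015410000) Net.nil)))))))))))))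

theorem p_g169_ok : Net.ok 100 p_g169 = true := by decide +kernel

noncomputable def p_V170 : List Net := [p_g167, p_g168, p_g169]

theorem p_V170_ok : okE 100 p_V170 = true := (okE_cons.2 ⟨p_g167_ok, (okE_cons.2 ⟨p_g168_ok, (okE_cons.2 ⟨p_g169_ok, (okE_nil 100)⟩)⟩)⟩)

noncomputable def p_V172 : List Net := [p_g168, p_g169]

theorem p_V172_ok : okE 100 p_V172 = true := (okE_cons.2 ⟨p_g168_ok, (okE_cons.2 ⟨p_g169_ok, (okE_nil 100)⟩)⟩)

noncomputable def p_V173 : List Net := []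

theorem p_V173_ok : okE 100 p_V173 = true := (okE_nil 100)

noncomputable def lt1_c4_cnt_EG : List Net := [p_g62, p_g63, p_g70, p_g66, p_g67, p_g74, p_g73, p_g75, p_g82, p_g80, p_g81, p_g94, p_g89, p_g95, p_g96, p_g87, p_g88, p_g90, p_g91, p_g168, p_g169, p_g167]

theorem lt1_c4_cnt_EG_ok : okE 100 lt1_c4_cnt_EG = true := (okE_cons.2 ⟨p_g62_ok, (okE_cons.2 ⟨p_g63_ok, (okE_cons.2 ⟨p_g70_ok, (okE_cons.2 ⟨p_g66_ok, (okE_cons.2 ⟨p_g67_ok, (okE_cons.2 ⟨p_g74_ok, (okE_cons.2 ⟨p_g73_ok, (okE_cons.2 ⟨p_g75_ok, (okE_cons.2 ⟨p_g82_ok, (okE_cons.2 ⟨p_g80_ok, (okE_cons.2 ⟨p_g81_ok, (okE_cons.2 ⟨p_g94_ok, (okE_cons.2 ⟨p_g89_ok, (okE_cons.2 ⟨p_g95_ok, (okE_cons.2 ⟨p_g96_ok, (okE_cons.2 ⟨p_g87_ok, (okE_cons.2 ⟨p_g88_ok, (okE_cons.2 ⟨p_g90_ok, (okE_cons.2 ⟨p_g91_ok, (okE_cons.2 ⟨p_g168_ok, (okE_cons.2 ⟨p_g169_ok, (okE_cons.2 ⟨p_g167_ok, (okE_nil 100)⟩)⟩)⟩)⟩)⟩)⟩)⟩)⟩)⟩)⟩)⟩)⟩)⟩)⟩)⟩)⟩)⟩)⟩)⟩)⟩)⟩)⟩)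

noncomputable def p_g174 : Net := (Net.cons (nat_lit 1) (nat_lit 0x500015044041555111111414) (Net.cons (nat_lit 2) (nat_lit 0x22110200200032312121200) (Net.cons (nat_lit 4) (nat_lit 0x30c04030f0a06010c0c0501) (Net.cons (nat_lit 8) (nat_lit 0x9800d700c0000b00910002) (Net.cons (nat_lit 16) (nat_lit 0xa1eb000040dc0000000d) (Net.cons (nat_lit 32) (nat_lit 0x400000000aa8d5000) (Net.cons (nat_lit 64) (nat_lit 0x3ebfd5aac) (Net.cons (nat_lit 32) (nat_lit 0xe0000000045ca0030) (Net.cons (nat_lit 16) (nat_lit 0xe93d000049d400006105) (Net.cons (nat_lit 8) (nat_lit 0x5300ed00fa0007007300ad) (Net.cons (nat_lit 4) (nat_lit 0xf0200000f090005040d0a0d) (Net.cons (nat_lit 2) (nat_lit 0x3130202300102113332302332) (Net.cons (nat_lit 1) (nat_lit 0x504014140540544115510041) Net.nil)))))))))))))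

theorem p_g174_ok : Net.ok 100 p_g174 = true := by decide +kernel

noncomputable def p_g175 : Net := (Net.cons (nat_lit 1) (nat_lit 0x5104100154010451141400400) (Net.cons (nat_lit 2) (nat_lit 0x222123001010113022200000) (Net.cons (nat_lit 4) (nat_lit 0xe0a0a0c0b000f03060d0d00) (Net.cons (nat_lit 8) (nat_lit 0xc8001a00c0004000900002) (Net.cons (nat_lit 16) (nat_lit 0x5eb60000051800000000) (Net.cons (nat_lit 32) (nat_lit 0x10000000042100280) (Net.cons (nat_lit 64) (nat_lit 0xadb78a6e3) (Net.cons (nat_lit 32) (nat_lit 0x4000000008c62f301) (Net.cons (nat_lit 16) (nat_lit 0x11be000045a800001061) (Net.cons (nat_lit 8) (nat_lit 0x73005500c20061006d002a) (Net.cons (nat_lit 4) (nat_lit 0x3000b0a0b000a030f04010e) (Net.cons (nat_lit 2) (nat_lit 0x2310113333030132001020103) (Net.cons (nat_lit 1) (nat_lit 0x5445544151050410045444510) Net.nil)))))))))))))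

theorem p_g175_ok : Net.ok 100 p_g175 = true := by decide +kernel

noncomputable def lt1_c5_K : List Net := [p_g174, p_g175, p_g125]

theorem lt1_c5_K_ok : okE 100 lt1_c5_K = true := (okE_cons.2 ⟨p_g174_ok, (okE_cons.2 ⟨p_g175_ok, (okE_cons.2 ⟨p_g125_ok, (okE_nil 100)⟩)⟩)⟩)

noncomputable def p_g177 : Net := (Net.cons (nat_lit 1) (nat_lit 0x544001455501541155110014) (Net.cons (nat_lit 2) (nat_lit 0x2110303123223230202312210) (Net.cons (nat_lit 4) (nat_lit 0xb000b0a04080c0d01090a00) (Net.cons (nat_lit 8) (nat_lit 0xf00880020001000480002) (Net.cons (nat_lit 16) (nat_lit 0x89ca0000008a00000000) (Net.cons (nat_lit 32) (nat_lit 0x9c514a10) (Net.cons (nat_lit 64) (nat_lit 0xe9e7b5ff2) (Net.cons (nat_lit 32) (nat_lit 0x2000000000367ca9c) (Net.cons (nat_lit 16) (nat_lit 0x474e00009ba60000730a) (Net.cons (nat_lit 8) (nat_lit 0xfc00580091003c000d006c) (Net.cons (nat_lit 4) (nat_lit 0xa0903030c0f080a0e0c0d0e)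 (Net.cons (nat_lit 2) (nat_lit 0x2210202112222103313000230) (Net.cons (nat_lit 1) (nat_lit 0x554440115554111155001004) Net.nil)))))))))))))

theorem p_g177_ok : Net.ok 100 p_g177 = true := by decide +kernel

noncomputable def p_g178 : Net := (Net.cons (nat_lit 1) (nat_lit 0x4510151540414141551011010) (Net.cons (nat_lit 2) (nat_lit 0x1002203202011013112222110) (Net.cons (nat_lit 4) (nat_lit 0xb010e06030601000a040c00) (Net.cons (nat_lit 8) (nat_lit 0x1c00050043001a00100009) (Net.cons (nat_lit 16) (nat_lit 0x44c30000f2f400000004) (Net.cons (nat_lit 32) (nat_lit 0x60000000048403480) (Net.cons (nat_lit 64) (nat_lit 0xff8e17489) (Net.cons (nat_lit 32) (nat_lit 0x8000000007094a621) (Net.cons (nat_lit 16) (nat_lit 0x47890000fa0d0000962e) (Net.cons (nat_lit 8) (nat_lit 0x36004b0042003200630063) (Net.cons (nat_lit 4) (nat_lit 0xe0e0c010b0c000807070f00) (Net.cons (nat_lit 2) (nat_lit 0x3102102223003112111211230)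 (Net.cons (nat_lit 1) (nat_lit 0x5054544511510011150105510) Net.nil)))))))))))))

theorem p_g178_ok : Net.ok 100 p_g178 = true := by decide +kernel

noncomputable def p_V179 : List Net := [p_g177, p_g178, p_g94, p_g91, EvHT.t_g220]

theorem p_V179_ok : okE 100 p_V179 = true := (okE_cons.2 ⟨p_g177_ok, (okE_cons.2 ⟨p_g178_ok, (okE_cons.2 ⟨p_g94_ok, (okE_cons.2 ⟨p_g91_ok, (okE_cons.2 ⟨EvHT.t_g220_ok, (okE_nil 100)⟩)⟩)⟩)⟩)⟩)

noncomputable def p_V181 : List Net := [p_g94, p_g91, EvHT.t_g220]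

theorem p_V181_ok : okE 100 p_V181 = true := (okE_cons.2 ⟨p_g94_ok, (okE_cons.2 ⟨p_g91_ok, (okE_cons.2 ⟨EvHT.t_g220_ok, (okE_nil 100)⟩)⟩)⟩)

noncomputable def p_V182 : List Net := [p_g91, EvHT.t_g220]

theorem p_V182_ok : okE 100 p_V182 = true := (okE_cons.2 ⟨p_g91_ok, (okE_cons.2 ⟨EvHT.t_g220_ok, (okE_nil 100)⟩)⟩)

noncomputable def p_V183 : List Net := []

theorem p_V183_ok : okE 100 p_V183 = true := (okE_nil 100)

noncomputable def lt1_c5_cnt_EG : List Net := [p_g62, p_g63, p_g70, p_g66, p_g67, p_g74, p_g73, p_g75, p_g82, p_g80, p_g81, p_g94, p_g89, p_g95, p_g96, p_g87, p_g88, p_g90, p_g91, EvHT.t_g220, p_g177, p_g178]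

theorem lt1_c5_cnt_EG_ok : okE 100 lt1_c5_cnt_EG = true := (okE_cons.2 ⟨p_g62_ok, (okE_cons.2 ⟨p_g63_ok, (okE_cons.2 ⟨p_g70_ok, (okE_cons.2 ⟨p_g66_ok, (okE_cons.2 ⟨p_g67_ok, (okE_cons.2 ⟨p_g74_ok, (okE_cons.2 ⟨p_g73_ok, (okE_cons.2 ⟨p_g75_ok, (okE_cons.2 ⟨p_g82_ok, (okE_cons.2 ⟨p_g80_ok, (okE_cons.2 ⟨p_g81_ok, (okE_cons.2 ⟨p_g94_ok, (okE_cons.2 ⟨p_g89_ok, (okE_cons.2 ⟨p_g95_ok, (okE_cons.2 ⟨p_g96_ok, (okE_cons.2 ⟨p_g87_ok, (okE_cons.2 ⟨p_g88_ok, (okE_cons.2 ⟨p_g90_ok, (okE_cons.2 ⟨p_g91_ok, (okE_cons.2 ⟨EvHT.t_g220_ok, (okE_cons.2 ⟨p_g177_ok, (okE_cons.2 ⟨p_g178_ok, (okE_nil 100)⟩)⟩)⟩)⟩)⟩)⟩)⟩)⟩)⟩)⟩)⟩)⟩)⟩)⟩)⟩)⟩)⟩)⟩)⟩)⟩)⟩)⟩)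

noncomputable def p_g184 : Net := (Net.cons (nat_lit 1) (nat_lit 0x1455115510150100440505410) (Net.cons (nat_lit 2) (nat_lit 0x2121102303033111231012220) (Net.cons (nat_lit 4) (nat_lit 0xd06030808010702040d0500) (Net.cons (nat_lit 8) (nat_lit 0x9c000d008c0032002b0002) (Net.cons (nat_lit 16) (nat_lit 0x175a00006a9800000008) (Net.cons (nat_lit 32) (nat_lit 0x61c20200) (Net.cons (nat_lit 64) (nat_lit 0xf65fefb0e) (Net.cons (nat_lit 32) (nat_lit 0xb000000007d55044b) (Net.cons (nat_lit 16) (nat_lit 0x31930000193f00001580) (Net.cons (nat_lit 8) (nat_lit 0xfc0075007400c5002f0011) (Net.cons (nat_lit 4) (nat_lit 0xa000d05020b01080308) (Net.cons (nat_lit 2) (nat_lit 0x2233200332210003333111120) (Net.cons (nat_lit 1) (nat_lit 0x4011154040011441005140011) Net.nil)))))))))))))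

theorem p_g184_ok : Net.ok 100 p_g184 = true := by decide +kernel

noncomputable def lt1_c6_K : List Net := [p_g184, p_g164]

theorem lt1_c6_K_ok : okE 100 lt1_c6_K = true := (okE_cons.2 ⟨p_g184_ok, (okE_cons.2 ⟨p_g164_ok, (okE_nil 100)⟩)⟩)

noncomputable def p_V186 : List Net := [p_g91]

theorem p_V186_ok : okE 100 p_V186 = true := (okE_cons.2 ⟨p_g91_ok, (okE_nil 100)⟩)

noncomputable def p_V188 : List Net := []

theorem p_V188_ok : okE 100 p_V188 = true := (okE_nil 100)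

noncomputable def lt1_c6_cnt_EG : List Net := [p_g70, p_g66, p_g67, p_g74, p_g73, p_g75, p_g82, p_g80, p_g81, p_g94, p_g89, p_g95, p_g96, p_g87, p_g88, p_g90, p_g91, p_g62, p_g63, EvHT.t_g220, p_g177, p_g178]

theorem lt1_c6_cnt_EG_ok : okE 100 lt1_c6_cnt_EG = true := (okE_cons.2 ⟨p_g70_ok, (okE_cons.2 ⟨p_g66_ok, (okE_cons.2 ⟨p_g67_ok, (okE_cons.2 ⟨p_g74_ok, (okE_cons.2 ⟨p_g73_ok, (okE_cons.2 ⟨p_g75_ok, (okE_cons.2 ⟨p_g82_ok, (okE_cons.2 ⟨p_g80_ok, (okE_cons.2 ⟨p_g81_ok, (okE_cons.2 ⟨p_g94_ok, (okE_cons.2 ⟨p_g89_ok, (okE_cons.2 ⟨p_g95_ok, (okE_cons.2 ⟨p_g96_ok, (okE_cons.2 ⟨p_g87_ok, (okE_cons.2 ⟨p_g88_ok, (okE_cons.2 ⟨p_g90_ok, (okE_cons.2 ⟨p_g91_ok, (okE_cons.2 ⟨p_g62_ok, (okE_cons.2 ⟨p_g63_ok, (okE_cons.2 ⟨EvHT.t_g220_ok, (okE_cons.2 ⟨p_g177_ok, (okE_cons.2 ⟨p_g178_ok, (okE_nil 100)⟩)⟩)⟩)⟩)⟩)⟩)⟩)⟩)⟩)⟩)⟩)⟩)⟩)⟩)⟩)⟩)⟩)⟩)⟩)⟩)⟩)⟩)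

noncomputable def p_g189 : Net := (Net.cons (nat_lit 1) (nat_lit 0x1510011455110104104114414) (Net.cons (nat_lit 2) (nat_lit 0x3330230132110111301120210) (Net.cons (nat_lit 4) (nat_lit 0x20a01040e08020608040004) (Net.cons (nat_lit 8) (nat_lit 0xf90091008a00f500a50004) (Net.cons (nat_lit 16) (nat_lit 0x31a800000c030000000b) (Net.cons (nat_lit 32) (nat_lit 0x7000000002187d460) (Net.cons (nat_lit 64) (nat_lit 0x875bff667) (Net.cons (nat_lit 32) (nat_lit 0x10000000061649bda) (Net.cons (nat_lit 16) (nat_lit 0xdbad00007a180000f68a) (Net.cons (nat_lit 8) (nat_lit 0x3d000e00bd00e100570053) (Net.cons (nat_lit 4) (nat_lit 0x70904070509030703010206) (Net.cons (nat_lit 2) (nat_lit 0x1020110012033100110331112) (Net.cons (nat_lit 1) (nat_lit 0x1445401000450454154554554) Net.nil)))))))))))))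

theorem p_g189_ok : Net.ok 100 p_g189 = true := by decide +kernel

noncomputable def p_g190 : Net := (Net.cons (nat_lit 1) (nat_lit 0x4545414510550100444154114) (Net.cons (nat_lit 2) (nat_lit 0x1313131230302121132111130) (Net.cons (nat_lit 4) (nat_lit 0x10f0902050d05000c020701) (Net.cons (nat_lit 8) (nat_lit 0xba007a0005007200480003) (Net.cons (nat_lit 16) (nat_lit 0xa57f0000872e00000008) (Net.cons (nat_lit 32) (nat_lit 0x90000000008f80090) (Net.cons (nat_lit 64) (nat_lit 0x45efdb9b9) (Net.cons (nat_lit 32) (nat_lit 0xf00000000cce21b95) (Net.cons (nat_lit 16) (nat_lit 0x629b00005f1d000097ee) (Net.cons (nat_lit 8) (nat_lit 0xf9003600ea007b006000e5) (Net.cons (nat_lit 4) (nat_lit 0xd0c040c04050f0206040102) (Net.cons (nat_lit 2) (nat_lit 0x1321323120030130233003011) (Net.cons (nat_lit 1) (nat_lit 0x4045105015110001455414555) Net.nil)))))))))))))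

theorem p_g190_ok : Net.ok 100 p_g190 = true := by decide +kernel

noncomputable def lt1_c7_K : List Net := [p_g189, p_g190]

theorem lt1_c7_K_ok : okE 100 lt1_c7_K = true := (okE_cons.2 ⟨p_g189_ok, (okE_cons.2 ⟨p_g190_ok, (okE_nil 100)⟩)⟩)

noncomputable def p_V192 : List Net := [p_g82, p_g80, p_g81, p_g94, p_g89, p_g95, p_g96, p_g87, p_g88, p_g90, p_g91]

theorem p_V192_ok : okE 100 p_V192 = true := (okE_cons.2 ⟨p_g82_ok, (okE_cons.2 ⟨p_g80_ok, (okE_cons.2 ⟨p_g81_ok, (okE_cons.2 ⟨p_g94_ok, (okE_cons.2 ⟨p_g89_ok, (okE_cons.2 ⟨p_g95_ok, (okE_cons.2 ⟨p_g96_ok, (okE_cons.2 ⟨p_g87_ok, (okE_cons.2 ⟨p_g88_ok, (okE_cons.2 ⟨p_g90_ok, (okE_cons.2 ⟨p_g91_ok, (okE_nil 100)⟩)⟩)⟩)⟩)⟩)⟩)⟩)⟩)⟩)⟩)⟩)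

noncomputable def p_V193 : List Net := [p_g94, p_g169]

theorem p_V193_ok : okE 100 p_V193 = true := (okE_cons.2 ⟨p_g94_ok, (okE_cons.2 ⟨p_g169_ok, (okE_nil 100)⟩)⟩)

noncomputable def p_V195 : List Net := []

theorem p_V195_ok : okE 100 p_V195 = true := (okE_nil 100)

noncomputable def lt1_c7_cnt_EG : List Net := [p_g62, p_g63, p_g70, p_g66, p_g67, p_g74, p_g73, p_g75, p_g82, p_g80, p_g81, p_g94, p_g89, p_g95, p_g96, p_g87, p_g88, p_g90, p_g91, p_g169]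

theorem lt1_c7_cnt_EG_ok : okE 100 lt1_c7_cnt_EG = true := (okE_cons.2 ⟨p_g62_ok, (okE_cons.2 ⟨p_g63_ok, (okE_cons.2 ⟨p_g70_ok, (okE_cons.2 ⟨p_g66_ok, (okE_cons.2 ⟨p_g67_ok, (okE_cons.2 ⟨p_g74_ok, (okE_cons.2 ⟨p_g73_ok, (okE_cons.2 ⟨p_g75_ok, (okE_cons.2 ⟨p_g82_ok, (okE_cons.2 ⟨p_g80_ok, (okE_cons.2 ⟨p_g81_ok, (okE_cons.2 ⟨p_g94_ok, (okE_cons.2 ⟨p_g89_ok, (okE_cons.2 ⟨p_g95_ok, (okE_cons.2 ⟨p_g96_ok, (okE_cons.2 ⟨p_g87_ok, (okE_cons.2 ⟨p_g88_ok, (okE_cons.2 ⟨p_g90_ok, (okE_cons.2 ⟨p_g91_ok, (okE_cons.2 ⟨p_g169_ok, (okE_nil 100)⟩)⟩)⟩)⟩)⟩)⟩)⟩)⟩)⟩)⟩)⟩)⟩)⟩)⟩)⟩)⟩)⟩)⟩)⟩)⟩)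

noncomputable def p_g196 : Net := (Net.cons (nat_lit 1) (nat_lit 0x5411145145044151510501010) (Net.cons (nat_lit 2) (nat_lit 0x2123310322001212031010010) (Net.cons (nat_lit 4) (nat_lit 0x501050601070c000f010b09) (Net.cons (nat_lit 8) (nat_lit 0xdb009d00d9008400c80003) (Net.cons (nat_lit 16) (nat_lit 0x52270000bb7b00000006) (Net.cons (nat_lit 32) (nat_lit 0xd0000000081692010) (Net.cons (nat_lit 64) (nat_lit 0xe7f974df) (Net.cons (nat_lit 32) (nat_lit 0x300000000210c7b96) (Net.cons (nat_lit 16) (nat_lit 0x7a2b000080940000a70b) (Net.cons (nat_lit 8) (nat_lit 0x9700d3006b006d00f60098) (Net.cons (nat_lit 4) (nat_lit 0x2040e090e040f01070b0a06) (Net.cons (nat_lit 2) (nat_lit 0x2103321100102012033301000) (Net.cons (nat_lit 1) (nat_lit 0x4051004005110554005405144) Net.nil)))))))))))))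

theorem p_g196_ok : Net.ok 100 p_g196 = true := by decide +kernel

noncomputable def p_g197 : Net := (Net.cons (nat_lit 1) (nat_lit 0x541105054000510554400410) (Net.cons (nat_lit 2) (nat_lit 0x110210300111200102011200) (Net.cons (nat_lit 4) (nat_lit 0x60c0f0d0a0a090104040a08) (Net.cons (nat_lit 8) (nat_lit 0x2800300003008300890008) (Net.cons (nat_lit 16) (nat_lit 0x170d0000836f00000006) (Net.cons (nat_lit 32) (nat_lit 0x84016340) (Net.cons (nat_lit 64) (nat_lit 0xe8709fb5f) (Net.cons (nat_lit 32) (nat_lit 0xe000000008447636e) (Net.cons (nat_lit 16) (nat_lit 0x3b900000bf700006196) (Net.cons (nat_lit 8) (nat_lit 0x7c0024008f008300890018) (Net.cons (nat_lit 4) (nat_lit 0xe0c0e0d0202010904050b08) (Net.cons (nat_lit 2) (nat_lit 0x310210300131200112011200) (Net.cons (nat_lit 1) (nat_lit 0x541105054000510554400410) Net.nil)))))))))))))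

theorem p_g197_ok : Net.ok 100 p_g197 = true := by decide +kernel

noncomputable def p_g198 : Net := (Net.cons (nat_lit 1) (nat_lit 0x4014544454410404004410100) (Net.cons (nat_lit 2) (nat_lit 0x22310003211002223000000) (Net.cons (nat_lit 4) (nat_lit 0x40e050306060e05050001) (Net.cons (nat_lit 8) (nat_lit 0xa3000300d1000200010006) (Net.cons (nat_lit 16) (nat_lit 0x14d000004e3300000000) (Net.cons (nat_lit 32) (nat_lit 0x8000000001c8242c0) (Net.cons (nat_lit 64) (nat_lit 0x33ed243ea) (Net.cons (nat_lit 32) (nat_lit 0xc000000007fa0ee50) (Net.cons (nat_lit 16) (nat_lit 0xb6fb00006c3700003022) (Net.cons (nat_lit 8) (nat_lit 0x23002100d1002000270006) (Net.cons (nat_lit 4) (nat_lit 0x4040e050306060e0d0d0001) (Net.cons (nat_lit 2) (nat_lit 0x220312013311002023010021) (Net.cons (nat_lit 1) (nat_lit 0x4014544454410404004410100) Net.nil)))))))))))))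

theorem p_g198_ok : Net.ok 100 p_g198 = true := by decide +kernel

noncomputable def lt1_c8_K : List Net := [p_g196, p_g197, p_g198]

theorem lt1_c8_K_ok : okE 100 lt1_c8_K = true := (okE_cons.2 ⟨p_g196_ok, (okE_cons.2 ⟨p_g197_ok, (okE_cons.2 ⟨p_g198_ok, (okE_nil 100)⟩)⟩)⟩)

noncomputable def lt1_c8_cnt_EG : List Net := [p_g129, p_g130, p_g131, p_g132, p_g70, p_g66, p_g67, p_g74, p_g73, p_g75, p_g82, p_g80, p_g81, p_g94, p_g89, p_g95, p_g96, p_g87, p_g88, p_g90, p_g91, p_g62, p_g63, p_g156, p_g145, p_g155]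

theorem lt1_c8_cnt_EG_ok : okE 100 lt1_c8_cnt_EG = true := (okE_cons.2 ⟨p_g129_ok, (okE_cons.2 ⟨p_g130_ok, (okE_cons.2 ⟨p_g131_ok, (okE_cons.2 ⟨p_g132_ok, (okE_cons.2 ⟨p_g70_ok, (okE_cons.2 ⟨p_g66_ok, (okE_cons.2 ⟨p_g67_ok, (okE_cons.2 ⟨p_g74_ok, (okE_cons.2 ⟨p_g73_ok, (okE_cons.2 ⟨p_g75_ok, (okE_cons.2 ⟨p_g82_ok, (okE_cons.2 ⟨p_g80_ok, (okE_cons.2 ⟨p_g81_ok, (okE_cons.2 ⟨p_g94_ok, (okE_cons.2 ⟨p_g89_ok, (okE_cons.2 ⟨p_g95_ok, (okE_cons.2 ⟨p_g96_ok, (okE_cons.2 ⟨p_g87_ok, (okE_cons.2 ⟨p_g88_ok, (okE_cons.2 ⟨p_g90_ok, (okE_cons.2 ⟨p_g91_ok, (okE_cons.2 ⟨p_g62_ok, (okE_cons.2 ⟨p_g63_ok, (okE_cons.2 ⟨p_g156_ok, (okE_cons.2 ⟨p_g145_ok, (okE_cons.2 ⟨p_g155_ok, (okE_nil 100)⟩)⟩)⟩)⟩)⟩)⟩)⟩)⟩)⟩)⟩)⟩)⟩)⟩)⟩)⟩)⟩)⟩)⟩)⟩)⟩)⟩)⟩)⟩)⟩)⟩)⟩)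

noncomputable def p_g200 : Net := (Net.cons (nat_lit 1) (nat_lit 0x1044050040505555051105050) (Net.cons (nat_lit 2) (nat_lit 0x3232032102220222010121010) (Net.cons (nat_lit 4) (nat_lit 0xd000008090e020f01050400) (Net.cons (nat_lit 8) (nat_lit 0xa9007e008c00a100a10000) (Net.cons (nat_lit 16) (nat_lit 0xb5f00009a0e00000004) (Net.cons (nat_lit 32) (nat_lit 0x4000000002012a300) (Net.cons (nat_lit 64) (nat_lit 0x86adfb324) (Net.cons (nat_lit 32) (nat_lit 0xf0000000099dda691) (Net.cons (nat_lit 16) (nat_lit 0xdb000007a910000f5c2) (Net.cons (nat_lit 8) (nat_lit 0x43001f0077003b00c600f5) (Net.cons (nat_lit 4) (nat_lit 0x50e0302020c0600060a0a0f) (Net.cons (nat_lit 2) (nat_lit 0x2111223100102111222331333) (Net.cons (nat_lit 1) (nat_lit 0x140511410501015541545155) Net.nil)))))))))))))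

theorem p_g200_ok : Net.ok 100 p_g200 = true := by decide +kernel

noncomputable def lt1_c9_K : List Net := [p_g200]

theorem lt1_c9_K_ok : okE 100 lt1_c9_K = true := (okE_cons.2 ⟨p_g200_ok, (okE_nil 100)⟩)

noncomputable def lt1_c9_cnt_EG : List Net := [p_g168, p_g169, p_g167, p_g74, p_g73, p_g75, p_g82, p_g80, p_g81, p_g94, p_g89, p_g95, p_g96, p_g87, p_g88, p_g90, p_g91, p_g70, p_g66, p_g67, p_g62, p_g63]

theorem lt1_c9_cnt_EG_ok : okE 100 lt1_c9_cnt_EG = true := (okE_cons.2 ⟨p_g168_ok, (okE_cons.2 ⟨p_g169_ok, (okE_cons.2 ⟨p_g167_ok, (okE_cons.2 ⟨p_g74_ok, (okE_cons.2 ⟨p_g73_ok, (okE_cons.2 ⟨p_g75_ok, (okE_cons.2 ⟨p_g82_ok, (okE_cons.2 ⟨p_g80_ok, (okE_cons.2 ⟨p_g81_ok, (okE_cons.2 ⟨p_g94_ok, (okE_cons.2 ⟨p_g89_ok, (okE_cons.2 ⟨p_g95_ok, (okE_cons.2 ⟨p_g96_ok, (okE_cons.2 ⟨p_g87_ok, (okE_cons.2 ⟨p_g88_ok, (okE_cons.2 ⟨p_g90_ok, (okE_cons.2 ⟨p_g91_ok, (okE_cons.2 ⟨p_g70_ok, (okE_cons.2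 ⟨p_g66_ok, (okE_cons.2 ⟨p_g67_ok, (okE_cons.2 ⟨p_g62_ok, (okE_cons.2 ⟨p_g63_ok, (okE_nil 100)⟩)⟩)⟩)⟩)⟩)⟩)⟩)⟩)⟩)⟩)⟩)⟩)⟩)⟩)⟩)⟩)⟩)⟩)⟩)⟩)⟩)⟩)

noncomputable def p_g202 : Net := (Net.cons (nat_lit 1) (nat_lit 0x4504550110015455451144554) (Net.cons (nat_lit 2) (nat_lit 0x1303213101001331122321030) (Net.cons (nat_lit 4) (nat_lit 0xd0909060e0a00060805040a) (Net.cons (nat_lit 8) (nat_lit 0x8000b008e000000610008) (Net.cons (nat_lit 16) (nat_lit 0x305a0000a6a60000000d) (Net.cons (nat_lit 32) (nat_lit 0xc00000000041b1180) (Net.cons (nat_lit 64) (nat_lit 0x644bffdd9) (Net.cons (nat_lit 32) (nat_lit 0x900000000c3a86552) (Net.cons (nat_lit 16) (nat_lit 0x4f3e000072cd0000af2a) (Net.cons (nat_lit 8) (nat_lit 0x27002f009d00b000b30058) (Net.cons (nat_lit 4) (nat_lit 0xf010b000806080e0a0f0a0f) (Net.cons (nat_lit 2) (nat_lit 0x2200213122313301202130232) (Net.cons (nat_lit 1) (nat_lit 0x5505554101504141404155445)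 Net.nil)))))))))))))

theorem p_g202_ok : Net.ok 100 p_g202 = true := by decide +kernel

noncomputable def lt1_c10_K : List Net := [p_g202]

theorem lt1_c10_K_ok : okE 100 lt1_c10_K = true := (okE_cons.2 ⟨p_g202_ok, (okE_nil 100)⟩)

noncomputable def p_g204 : Net := (Net.cons (nat_lit 1) (nat_lit 0x1554011001115540051005100) (Net.cons (nat_lit 2) (nat_lit 0x200330112130132202003200) (Net.cons (nat_lit 4) (nat_lit 0x10b08050a040e04060d040a) (Net.cons (nat_lit 8) (nat_lit 0x3b00c2008a000800010003) (Net.cons (nat_lit 16) (nat_lit 0x7b9b0000263800000005) (Net.cons (nat_lit 32) (nat_lit 0xd00000000a3259500) (Net.cons (nat_lit 64) (nat_lit 0xaa3e5fd75) (Net.cons (nat_lit 32) (nat_lit 0x3000000006c068519) (Net.cons (nat_lit 16) (nat_lit 0x98120000e939000064ae) (Net.cons (nat_lit 8) (nat_lit 0xb400c4001b002500180021) (Net.cons (nat_lit 4) (nat_lit 0x20c000d020602060f080700) (Net.cons (nat_lit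 2) (nat_lit 0x1212011132000322200333312) (Net.cons (nat_lit 1) (nat_lit 0x1010001001154040111145550) Net.nil)))))))))))))

theorem p_g204_ok : Net.ok 100 p_g204 = true := by decide +kernel

noncomputable def p_g205 : Net := (Net.cons (nat_lit 1) (nat_lit 0x5450450555445140455014504) (Net.cons (nat_lit 2) (nat_lit 0x3130000022323301331211000) (Net.cons (nat_lit 4) (nat_lit 0xb0a080e070305090200020d) (Net.cons (nat_lit 8) (nat_lit 0x8e003a002000e30060000e) (Net.cons (nat_lit 16) (nat_lit 0xf0890000398400000008) (Net.cons (nat_lit 32) (nat_lit 0xe350100) (Net.cons (nat_lit 64) (nat_lit 0xfbf374fcf) (Net.cons (nat_lit 32) (nat_lit 0x2000000005fb5264e) (Net.cons (nat_lit 16) (nat_lit 0x10e50000aef90000c964) (Net.cons (nat_lit 8) (nat_lit 0x40007200d900d000a4006f) (Net.cons (nat_lit 4) (nat_lit 0xd040a070b0e00030a040c0b) (Net.cons (nat_lit 2) (nat_lit 0x3133112212123313323233222) (Net.cons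 (nat_lit 1) (nat_lit 0x5055104554545554455005504) Net.nil)))))))))))))

theorem p_g205_ok : Net.ok 100 p_g205 = true := by decide +kernel

noncomputable def p_g206 : Net := (Net.cons (nat_lit 1) (nat_lit 0x5044500140104040100400) (Net.cons (nat_lit 2) (nat_lit 0x1233200112030010122110000) (Net.cons (nat_lit 4) (nat_lit 0xa050e010f00040208000200) (Net.cons (nat_lit 8) (nat_lit 0xf005700c800a800a40006) (Net.cons (nat_lit 16) (nat_lit 0x22c0000261000000000) (Net.cons (nat_lit 32) (nat_lit 0x2000000004b404d80) (Net.cons (nat_lit 64) (nat_lit 0x4fe95fc2) (Net.cons (nat_lit 32) (nat_lit 0x70000000069c24f30) (Net.cons (nat_lit 16) (nat_lit 0xc9ae0000fd9800004284) (Net.cons (nat_lit 8) (nat_lit 0x3f005700ca00ac003e0006) (Net.cons (nat_lit 4) (nat_lit 0xa050e090f00040204080600) (Net.cons (nat_lit 2) (nat_lit 0x1233200112030010122110200) (Net.cons (nat_lit 1) (nat_lit 0x5044500140104050500400)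 Net.nil)))))))))))))

theorem p_g206_ok : Net.ok 100 p_g206 = true := by decide +kernel

noncomputable def p_V207 : List Net := [p_g204, p_g205, p_g80, p_g206]

theorem p_V207_ok : okE 100 p_V207 = true := (okE_cons.2 ⟨p_g204_ok, (okE_cons.2 ⟨p_g205_ok, (okE_cons.2 ⟨p_g80_ok, (okE_cons.2 ⟨p_g206_ok, (okE_nil 100)⟩)⟩)⟩)⟩)

noncomputable def p_V209 : List Net := [p_g205, p_g80, p_g206]

theorem p_V209_ok : okE 100 p_V209 = true := (okE_cons.2 ⟨p_g205_ok, (okE_cons.2 ⟨p_g80_ok, (okE_cons.2 ⟨p_g206_ok, (okE_nil 100)⟩)⟩)⟩)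

noncomputable def p_V210 : List Net := [p_g80, p_g206]

theorem p_V210_ok : okE 100 p_V210 = true := (okE_cons.2 ⟨p_g80_ok, (okE_cons.2 ⟨p_g206_ok, (okE_nil 100)⟩)⟩)

noncomputable def p_V211 : List Net := []

theorem p_V211_ok : okE 100 p_V211 = true := (okE_nil 100)

noncomputable def lt1_c10_cnt_EG : List Net := [p_g70, p_g66, p_g67, p_g74, p_g73, p_g75, p_g82, p_g80, p_g81, p_g94, p_g89, p_g95, p_g96, p_g87, p_g88, p_g90, p_g91, p_g62, p_g63, p_g206, p_g205, p_g204]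

theorem lt1_c10_cnt_EG_ok : okE 100 lt1_c10_cnt_EG = true := (okE_cons.2 ⟨p_g70_ok, (okE_cons.2 ⟨p_g66_ok, (okE_cons.2 ⟨p_g67_ok, (okE_cons.2 ⟨p_g74_ok, (okE_cons.2 ⟨p_g73_ok, (okE_cons.2 ⟨p_g75_ok, (okE_cons.2 ⟨p_g82_ok, (okE_cons.2 ⟨p_g80_ok, (okE_cons.2 ⟨p_g81_ok, (okE_cons.2 ⟨p_g94_ok, (okE_cons.2 ⟨p_g89_ok, (okE_cons.2 ⟨p_g95_ok, (okE_cons.2 ⟨p_g96_ok, (okE_cons.2 ⟨p_g87_ok, (okE_cons.2 ⟨p_g88_ok, (okE_cons.2 ⟨p_g90_ok, (okE_cons.2 ⟨p_g91_ok, (okE_cons.2 ⟨p_g62_ok, (okE_cons.2 ⟨p_g63_ok, (okE_cons.2 ⟨p_g206_ok, (okE_cons.2 ⟨p_g205_ok, (okE_cons.2 ⟨p_g204_ok, (okE_nil 100)⟩)⟩)⟩)⟩)⟩)⟩)⟩)⟩)⟩)⟩)⟩)⟩)⟩)⟩)⟩)⟩)⟩)⟩)⟩)⟩)⟩)⟩)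

noncomputable def p_g212 : Net := (Net.cons (nat_lit 1) (nat_lit 0x154554154411045010105410) (Net.cons (nat_lit 2) (nat_lit 0x3002113103220133000310) (Net.cons (nat_lit 4) (nat_lit 0x80e060802010f0804090808) (Net.cons (nat_lit 8) (nat_lit 0x6c002c0093008e002f0001) (Net.cons (nat_lit 16) (nat_lit 0x80140000ff3b00000004) (Net.cons (nat_lit 32) (nat_lit 0x20000000010452e60) (Net.cons (nat_lit 64) (nat_lit 0x61b67bef0) (Net.cons (nat_lit 32) (nat_lit 0x900000000bac563de) (Net.cons (nat_lit 16) (nat_lit 0x9edd00007dd6000092e2) (Net.cons (nat_lit 8) (nat_lit 0x2500a30007002400a300f5) (Net.cons (nat_lit 4) (nat_lit 0x603000d030e020f040c09) (Net.cons (nat_lit 2) (nat_lit 0x322212202210230032100002) (Net.cons (nat_lit 1) (nat_lit 0x4050044510411145405411555) Net.nil)))))))))))))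

theorem p_g212_ok : Net.ok 100 p_g212 = true := by decide +kernel

noncomputable def lt1_c11_K : List Net := [p_g212]

theorem lt1_c11_K_ok : okE 100 lt1_c11_K = true := (okE_cons.2 ⟨p_g212_ok, (okE_nil 100)⟩)

noncomputable def lt1_c11_cnt_EG : List Net := [p_g70, p_g66, p_g67, p_g74, p_g73, p_g75, p_g82, p_g80, p_g81, p_g94, p_g89, p_g95, p_g96, p_g87, p_g88, p_g90, p_g91, p_g62, p_g63, p_g206, p_g205, p_g204]

theorem lt1_c11_cnt_EG_ok : okE 100 lt1_c11_cnt_EG = true := (okE_cons.2 ⟨p_g70_ok, (okE_cons.2 ⟨p_g66_ok, (okE_cons.2 ⟨p_g67_ok, (okE_cons.2 ⟨p_g74_ok, (okE_cons.2 ⟨p_g73_ok, (okE_cons.2 ⟨p_g75_ok, (okE_cons.2 ⟨p_g82_ok, (okE_cons.2 ⟨p_g80_ok, (okE_cons.2 ⟨p_g81_ok, (okE_cons.2 ⟨p_g94_ok, (okE_cons.2 ⟨p_g89_ok, (okE_cons.2 ⟨p_g95_ok, (okE_cons.2 ⟨p_g96_ok, (okE_cons.2 ⟨p_g87_ok, (okE_cons.2 ⟨p_g88_ok, (okE_cons.2 ⟨p_g90_ok, (okE_cons.2 ⟨p_g91_ok, (okE_cons.2 ⟨p_g62_ok,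 (okE_cons.2 ⟨p_g63_ok, (okE_cons.2 ⟨p_g206_ok, (okE_cons.2 ⟨p_g205_ok, (okE_cons.2 ⟨p_g204_ok, (okE_nil 100)⟩)⟩)⟩)⟩)⟩)⟩)⟩)⟩)⟩)⟩)⟩)⟩)⟩)⟩)⟩)⟩)⟩)⟩)⟩)⟩)⟩)⟩)

noncomputable def p_g214 : Net := (Net.cons (nat_lit 1) (nat_lit 0x4504114155550015440001010) (Net.cons (nat_lit 2) (nat_lit 0x211021331030020020023010) (Net.cons (nat_lit 4) (nat_lit 0xc05080d0709070108070100) (Net.cons (nat_lit 8) (nat_lit 0x97000d00940016008b0009) (Net.cons (nat_lit 16) (nat_lit 0x178b0000020400000006) (Net.cons (nat_lit 32) (nat_lit 0x18a8630) (Net.cons (nat_lit 64) (nat_lit 0xcd9da9e73) (Net.cons (nat_lit 32) (nat_lit 0x7000000000d9db1a3) (Net.cons (nat_lit 16) (nat_lit 0xcbe70000f4390000cf1c) (Net.cons (nat_lit 8) (nat_lit 0x4600e100410057007d00d1) (Net.cons (nat_lit 4) (nat_lit 0xc0407080d09050f0a0e0b00) (Net.cons (nat_lit 2) (nat_lit 0x12003211130202033113111) (Net.cons (nat_lit 1) (nat_lit 0x15044155540011541454440)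 Net.nil)))))))))))))

theorem p_g214_ok : Net.ok 100 p_g214 = true := by decide +kernel

noncomputable def lt1_c12_K : List Net := [p_g214]

theorem lt1_c12_K_ok : okE 100 lt1_c12_K = true := (okE_cons.2 ⟨p_g214_ok, (okE_nil 100)⟩)

noncomputable def lt1_c12_cnt_EG : List Net := [p_g62, p_g63, p_g70, p_g66, p_g67, p_g74, p_g73, p_g75, p_g82, p_g80, p_g81, p_g94, p_g89, p_g95, p_g96, p_g87, p_g88, p_g90, p_g91, p_g169]

theorem lt1_c12_cnt_EG_ok : okE 100 lt1_c12_cnt_EG = true := (okE_cons.2 ⟨p_g62_ok, (okE_cons.2 ⟨p_g63_ok, (okE_cons.2 ⟨p_g70_ok, (okE_cons.2 ⟨p_g66_ok, (okE_cons.2 ⟨p_g67_ok, (okE_cons.2 ⟨p_g74_ok, (okE_cons.2 ⟨p_g73_ok, (okE_cons.2 ⟨p_g75_ok, (okE_cons.2 ⟨p_g82_ok, (okE_cons.2 ⟨p_g80_ok, (okE_cons.2 ⟨p_g81_ok, (okE_cons.2 ⟨p_g94_ok, (okE_cons.2 ⟨p_g89_ok, (okE_cons.2 ⟨p_g95_ok, (okE_cons.2 ⟨p_g96_ok, (okE_cons.2 ⟨p_g87_ok, (okE_cons.2 ⟨p_g88_ok, (okE_cons.2 ⟨p_g90_ok,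 (okE_cons.2 ⟨p_g91_ok, (okE_cons.2 ⟨p_g169_ok, (okE_nil 100)⟩)⟩)⟩)⟩)⟩)⟩)⟩)⟩)⟩)⟩)⟩)⟩)⟩)⟩)⟩)⟩)⟩)⟩)⟩)⟩)

noncomputable def p_g216 : Net := (Net.cons (nat_lit 1) (nat_lit 0x1145405111114110550151440) (Net.cons (nat_lit 2) (nat_lit 0x1022120130020020322231000) (Net.cons (nat_lit 4) (nat_lit 0xb0c020f0b050b0c010b0201) (Net.cons (nat_lit 8) (nat_lit 0x26003a002d00e000f10006) (Net.cons (nat_lit 16) (nat_lit 0xc2010000195000000004) (Net.cons (nat_lit 32) (nat_lit 0x10000000058102480) (Net.cons (nat_lit 64) (nat_lit 0xfdd782e96) (Net.cons (nat_lit 32) (nat_lit 0x60000000010acb5f7) (Net.cons (nat_lit 16) (nat_lit 0x9d260000fe6c000030a8) (Net.cons (nat_lit 8) (nat_lit 0xf1007600c900970008002e) (Net.cons (nat_lit 4) (nat_lit 0x10c06040104060c03040307) (Net.cons (nat_lit 2) (nat_lit 0x3210031301102313010310123) (Net.cons (nat_lit 1) (nat_lit 0x4145040154051405540550511) Net.nil)))))))))))))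

theorem p_g216_ok : Net.ok 100 p_g216 = true := by decide +kernel

noncomputable def lt1_c13_K : List Net := [p_g216]

theorem lt1_c13_K_ok : okE 100 lt1_c13_K = true := (okE_cons.2 ⟨p_g216_ok, (okE_nil 100)⟩)

noncomputable def lt1_c13_cnt_EG : List Net := [p_g62, p_g63, p_g70, p_g66, p_g67, p_g74, p_g73, p_g75, p_g82, p_g80, p_g81, p_g94, p_g89, p_g95, p_g96, p_g87, p_g88, p_g90, p_g91, p_g169]

theorem lt1_c13_cnt_EG_ok : okE 100 lt1_c13_cnt_EG = true := (okE_cons.2 ⟨p_g62_ok, (okE_cons.2 ⟨p_g63_ok, (okE_cons.2 ⟨p_g70_ok, (okE_cons.2 ⟨p_g66_ok, (okE_cons.2 ⟨p_g67_ok, (okE_cons.2 ⟨p_g74_ok, (okE_cons.2 ⟨p_g73_ok, (okE_cons.2 ⟨p_g75_ok, (okE_cons.2 ⟨p_g82_ok, (okE_cons.2 ⟨p_g80_ok, (okE_cons.2 ⟨p_g81_ok, (okE_cons.2 ⟨p_g94_ok, (okE_cons.2 ⟨p_g89_ok, (okE_cons.2 ⟨p_g95_ok, (okE_cons.2 ⟨p_g96_ok, (okE_cons.2 ⟨p_g87_ok, (okE_cons.2 ⟨p_g88_ok, (okE_cons.2 ⟨p_g90_ok, (okE_cons.2 ⟨p_g91_ok,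 (okE_cons.2 ⟨p_g169_ok, (okE_nil 100)⟩)⟩)⟩)⟩)⟩)⟩)⟩)⟩)⟩)⟩)⟩)⟩)⟩)⟩)⟩)⟩)⟩)⟩)⟩)⟩)

noncomputable def lt1_nc11_10_cnt_EG : List Net := [p_g62, p_g63, p_g70, p_g66, p_g67, p_g74, p_g73, p_g75, p_g82, p_g80, p_g81, p_g94, p_g89, p_g95, p_g96, p_g87, p_g88, p_g90, p_g91, p_g204, p_g205, p_g206]

theorem lt1_nc11_10_cnt_EG_ok : okE 100 lt1_nc11_10_cnt_EG = true := (okE_cons.2 ⟨p_g62_ok, (okE_cons.2 ⟨p_g63_ok, (okE_cons.2 ⟨p_g70_ok, (okE_cons.2 ⟨p_g66_ok, (okE_cons.2 ⟨p_g67_ok, (okE_cons.2 ⟨p_g74_ok, (okE_cons.2 ⟨p_g73_ok, (okE_cons.2 ⟨p_g75_ok, (okE_cons.2 ⟨p_g82_ok, (okE_cons.2 ⟨p_g80_ok, (okE_cons.2 ⟨p_g81_ok, (okE_cons.2 ⟨p_g94_ok, (okE_cons.2 ⟨p_g89_ok, (okE_cons.2 ⟨p_g95_ok, (okE_cons.2 ⟨p_g96_ok, (okE_cons.2 ⟨p_g87_ok, (okE_cons.2 ⟨p_g88_ok, (okE_cons.2 ⟨p_g90_ok, (okE_cons.2 ⟨p_g91_ok, (okE_cons.2 ⟨p_g204_ok, (okE_cons.2 ⟨p_g205_ok, (okE_cons.2 ⟨p_g206_ok, (okE_nil 100)⟩)⟩)⟩)⟩)⟩)⟩)⟩)⟩)⟩)⟩)⟩)⟩)⟩)⟩)⟩)⟩)⟩)⟩)⟩)⟩)⟩)⟩)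

noncomputable def lt1_nc13_12_cnt_EG : List Net := [p_g62, p_g63, p_g70, p_g66, p_g67, p_g74, p_g73, p_g75, p_g82, p_g80, p_g81, p_g94, p_g89, p_g95, p_g96, p_g87, p_g88, p_g90, p_g91]

theorem lt1_nc13_12_cnt_EG_ok : okE 100 lt1_nc13_12_cnt_EG = true := (okE_cons.2 ⟨p_g62_ok, (okE_cons.2 ⟨p_g63_ok, (okE_cons.2 ⟨p_g70_ok, (okE_cons.2 ⟨p_g66_ok, (okE_cons.2 ⟨p_g67_ok, (okE_cons.2 ⟨p_g74_ok, (okE_cons.2 ⟨p_g73_ok, (okE_cons.2 ⟨p_g75_ok, (okE_cons.2 ⟨p_g82_ok, (okE_cons.2 ⟨p_g80_ok, (okE_cons.2 ⟨p_g81_ok, (okE_cons.2 ⟨p_g94_ok, (okE_cons.2 ⟨p_g89_ok, (okE_cons.2 ⟨p_g95_ok, (okE_cons.2 ⟨p_g96_ok, (okE_cons.2 ⟨p_g87_ok, (okE_cons.2 ⟨p_g88_ok, (okE_cons.2 ⟨p_g90_ok, (okE_cons.2 ⟨p_g91_ok, (okE_nil 100)⟩)⟩)⟩)⟩)⟩)⟩)⟩)⟩)⟩)⟩)⟩)⟩)⟩)⟩)⟩)⟩)⟩)⟩)⟩)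

noncomputable def p_g218 : Net := (Net.cons (nat_lit 1) (nat_lit 0x1055415145414140451400050) (Net.cons (nat_lit 2) (nat_lit 0x2133100112332103322002020) (Net.cons (nat_lit 4) (nat_lit 0x10d0b080904040707080f01) (Net.cons (nat_lit 8) (nat_lit 0x7400840018003c002c0002) (Net.cons (nat_lit 16) (nat_lit 0x2580000000b800000008) (Net.cons (nat_lit 32) (nat_lit 0x80000000050002290) (Net.cons (nat_lit 64) (nat_lit 0xffd18faf1) (Net.cons (nat_lit 32) (nat_lit 0x20000000033b89188) (Net.cons (nat_lit 16) (nat_lit 0x4ac80000e4160000eeeb) (Net.cons (nat_lit 8) (nat_lit 0x7e0055009d001d002000e9) (Net.cons (nat_lit 4) (nat_lit 0x10e050c080504010c080e0f) (Net.cons (nat_lit 2) (nat_lit 0x2031102023111303013013213) (Net.cons (nat_lit 1) (nat_lit 0x4110554105505104415414451) Net.nil)))))))))))))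

theorem p_g218_ok : Net.ok 100 p_g218 = true := by decide +kernel

noncomputable def p_g219 : Net := (Net.cons (nat_lit 1) (nat_lit 0x4014415100145451115001450) (Net.cons (nat_lit 2) (nat_lit 0x112003232101220102113200) (Net.cons (nat_lit 4) (nat_lit 0x3020b01020b0f0300000508) (Net.cons (nat_lit 8) (nat_lit 0x7a00a800460060002f0004) (Net.cons (nat_lit 16) (nat_lit 0x4297000080e100000004) (Net.cons (nat_lit 32) (nat_lit 0x40000000044402110) (Net.cons (nat_lit 64) (nat_lit 0xb5fe5395f) (Net.cons (nat_lit 32) (nat_lit 0xc00000000d221768c) (Net.cons (nat_lit 16) (nat_lit 0x872a0000a47c00003dcf) (Net.cons (nat_lit 8) (nat_lit 0xd7008d0094009f005d0059) (Net.cons (nat_lit 4) (nat_lit 0x5060b0a03050f050a010d0d) (Net.cons (nat_lit 2) (nat_lit 0x3221001120213111120032331) (Net.cons (nat_lit 1) (nat_lit 0x4541151544040141414515510) Net.nil)))))))))))))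

theorem p_g219_ok : Net.ok 100 p_g219 = true := by decide +kernel

noncomputable def p_g220 : Net := (Net.cons (nat_lit 1) (nat_lit 0x4545444044414000050140400) (Net.cons (nat_lit 2) (nat_lit 0x3000323302121231321003210) (Net.cons (nat_lit 4) (nat_lit 0x7080e0007010007040f0a00) (Net.cons (nat_lit 8) (nat_lit 0x3000600009001d00200000) (Net.cons (nat_lit 16) (nat_lit 0x5250000267d00000007) (Net.cons (nat_lit 32) (nat_lit 0x80000000020c9c730) (Net.cons (nat_lit 64) (nat_lit 0xbb8dfe731) (Net.cons (nat_lit 32) (nat_lit 0x40000000044421dc5) (Net.cons (nat_lit 16) (nat_lit 0xdb630000cd7f00001783) (Net.cons (nat_lit 8) (nat_lit 0xfe0092005c0004003e0083) (Net.cons (nat_lit 4) (nat_lit 0x2080f0106060b0c000b000f) (Net.cons (nat_lit 2) (nat_lit 0x1312113023013033110133323) (Net.cons (nat_lit 1) (nat_lit 0x4544415541555055514450511) Net.nil)))))))))))))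

theorem p_g220_ok : Net.ok 100 p_g220 = true := by decide +kernel

noncomputable def L3 : List Net := [p_g219, p_g220]

theorem L3_ok : okE 100 L3 = true := (okE_cons.2 ⟨p_g219_ok, (okE_cons.2 ⟨p_g220_ok, (okE_nil 100)⟩)⟩)

noncomputable def p_g221 : Net := (Net.cons (nat_lit 1) (nat_lit 0x4411545004054404144045000) (Net.cons (nat_lit 2) (nat_lit 0x321022223321212033120000) (Net.cons (nat_lit 4) (nat_lit 0x20b0e020804060e0c010900) (Net.cons (nat_lit 8) (nat_lit 0x5a007900ae003400e10002) (Net.cons (nat_lit 16) (nat_lit 0x719e0000125e00000001) (Net.cons (nat_lit 32) (nat_lit 0x400000000001f8aa0) (Net.cons (nat_lit 64) (nat_lit 0x14f3ffbb4) (Net.cons (nat_lit 32) (nat_lit 0xe000000003d17ea45) (Net.cons (nat_lit 16) (nat_lit 0x5046000026840000857e) (Net.cons (nat_lit 8) (nat_lit 0x390087004e006b0062007d) (Net.cons (nat_lit 4) (nat_lit 0x80d0e020c000b0c0a0b0c06) (Net.cons (nat_lit 2)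 (nat_lit 0x133013003013113020200313) (Net.cons (nat_lit 1) (nat_lit 0x4141444150400044445505001) Net.nil)))))))))))))

theorem p_g221_ok : Net.ok 100 p_g221 = true := by decide +kernel

noncomputable def p_V222 : List Net := [p_g221]

theorem p_V222_ok : okE 100 p_V222 = true := (okE_cons.2 ⟨p_g221_ok, (okE_nil 100)⟩)

noncomputable def p_g224 : Net := (Net.cons (nat_lit 1) (nat_lit 0x1104014540011015000511444) (Net.cons (nat_lit 2) (nat_lit 0x1200113332223222222130100) (Net.cons (nat_lit 4) (nat_lit 0xb0903020f040b01020105) (Net.cons (nat_lit 8) (nat_lit 0x75002200040032002c0001) (Net.cons (nat_lit 16) (nat_lit 0xc7870000143d00000000) (Net.cons (nat_lit 32) (nat_lit 0x9000000004240b250) (Net.cons (nat_lit 64) (nat_lit 0xc765bbbd5) (Net.cons (nat_lit 32) (nat_lit 0x900000000f729c996) (Net.cons (nat_lit 16) (nat_lit 0x1b9e0000c6770000216a) (Net.cons (nat_lit 8) (nat_lit 0x8f000400690062008000c3)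 (Net.cons (nat_lit 4) (nat_lit 0xe0c0e050d0d0a090e0007) (Net.cons (nat_lit 2) (nat_lit 0x30132113302120100003020) (Net.cons (nat_lit 1) (nat_lit 0x5410041011505551015041114) Net.nil)))))))))))))

theorem p_g224_ok : Net.ok 100 p_g224 = true := by decide +kernel

noncomputable def p_g225 : Net := (Net.cons (nat_lit 1) (nat_lit 0x515441104005510141515100) (Net.cons (nat_lit 2) (nat_lit 0x1231331330201021211011100) (Net.cons (nat_lit 4) (nat_lit 0xe05000c02020c0006080405) (Net.cons (nat_lit 8) (nat_lit 0x4d008a000e008c00a50000) (Net.cons (nat_lit 16) (nat_lit 0x831800002d460000000a) (Net.cons (nat_lit 32) (nat_lit 0x221d60) (Net.cons (nat_lit 64) (nat_lit 0xdd87e5f63) (Net.cons (nat_lit 32) (nat_lit 0xa000000008c6274e7) (Net.cons (nat_lit 16) (nat_lit 0x4df30000c3e80000cd2a) (Net.cons (nat_lit 8) (nat_lit 0xe009a00cb00a600b000ad) (Net.cons (nat_lit 4) (nat_lit 0x20a05060d08040706020e05)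 (Net.cons (nat_lit 2) (nat_lit 0x332131103322320103231000) (Net.cons (nat_lit 1) (nat_lit 0x4001054505001040445404150) Net.nil)))))))))))))

theorem p_g225_ok : Net.ok 100 p_g225 = true := by decide +kernel

noncomputable def p_V226 : List Net := [p_g224, p_g225]

theorem p_V226_ok : okE 100 p_V226 = true := (okE_cons.2 ⟨p_g224_ok, (okE_cons.2 ⟨p_g225_ok, (okE_nil 100)⟩)⟩)

noncomputable def p_g228 : Net := (Net.cons (nat_lit 1) (nat_lit 0x4001054505001040445404150) (Net.cons (nat_lit 2) (nat_lit 0x332120113002331000301000) (Net.cons (nat_lit 4) (nat_lit 0xf020d010f0a0c05030a0605) (Net.cons (nat_lit 8) (nat_lit 0x9700630038002300010005) (Net.cons (nat_lit 16) (nat_lit 0x78d60000186900000002) (Net.cons (nat_lit 32) (nat_lit 0x900000000903209d0) (Net.cons (nat_lit 64) (nat_lit 0xeb573cbd5) (Net.cons (nat_lit 32) (nat_lit 0x7000000008422877b) (Net.cons (nat_lit 16) (nat_lit 0x7219000032f60000690a)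 (Net.cons (nat_lit 8) (nat_lit 0xdc006a00bf0004000d000d) (Net.cons (nat_lit 4) (nat_lit 0xb0d08090308070003000a0d) (Net.cons (nat_lit 2) (nat_lit 0x1320130121201030210311120) (Net.cons (nat_lit 1) (nat_lit 0x515441104005510141515100) Net.nil)))))))))))))

theorem p_g228_ok : Net.ok 100 p_g228 = true := by decide +kernel

noncomputable def p_V229 : List Net := [p_g228]

theorem p_V229_ok : okE 100 p_V229 = true := (okE_cons.2 ⟨p_g228_ok, (okE_nil 100)⟩)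

noncomputable def p_g231 : Net := (Net.cons (nat_lit 1) (nat_lit 0x541445455104005050404000) (Net.cons (nat_lit 2) (nat_lit 0x1012112230112020100011000) (Net.cons (nat_lit 4) (nat_lit 0x40a040205010300000000) (Net.cons (nat_lit 8) (nat_lit 0xf400e400ad000000a30000) (Net.cons (nat_lit 16) (nat_lit 0xc60f0000120f00000000) (Net.cons (nat_lit 32) (nat_lit 0x80000000000c6e200) (Net.cons (nat_lit 64) (nat_lit 0x984ffe2c4) (Net.cons (nat_lit 32) (nat_lit 0xa000000003fa6ca02) (Net.cons (nat_lit 16) (nat_lit 0xe76f0000340b00002040) (Net.cons (nat_lit 8) (nat_lit 0xd400d000a9000500c70010) (Net.cons (nat_lit 4) (nat_lit 0x2050e0c0001030b040e0000) (Net.cons (nat_lit 2) (nat_lit 0x1012132230112020100011100) (Net.cons (nat_lit 1) (nat_lit 0x541445455104005050404000) Net.nil)))))))))))))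

theorem p_g231_ok : Net.ok 100 p_g231 = true := by decide +kernel

noncomputable def p_g232 : Net := (Net.cons (nat_lit 1) (nat_lit 0x5045411551511010450454000) (Net.cons (nat_lit 2) (nat_lit 0x323113111212301102300100) (Net.cons (nat_lit 4) (nat_lit 0x5010302050d0e0500000200) (Net.cons (nat_lit 8) (nat_lit 0x2f0073002d000100e50002) (Net.cons (nat_lit 16) (nat_lit 0x473d0000690100000000) (Net.cons (nat_lit 32) (nat_lit 0x80000000011001830) (Net.cons (nat_lit 64) (nat_lit 0xb53111d30) (Net.cons (nat_lit 32) (nat_lit 0xc00000000882dfb34) (Net.cons (nat_lit 16) (nat_lit 0x762f00007c8100002162) (Net.cons (nat_lit 8) (nat_lit 0x7f0073000d004000d50022) (Net.cons (nat_lit 4) (nat_lit 0x500060a050d0f0401000208) (Net.cons (nat_lit 2) (nat_lit 0x323113111212301102300100) (Net.cons (nat_lit 1) (nat_lit 0x5045411551511010450454000) Net.nil)))))))))))))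

theorem p_g232_ok : Net.ok 100 p_g232 = true := by decide +kernel

noncomputable def p_V233 : List Net := [p_g231, p_g232]

theorem p_V233_ok : okE 100 p_V233 = true := (okE_cons.2 ⟨p_g231_ok, (okE_cons.2 ⟨p_g232_ok, (okE_nil 100)⟩)⟩)

noncomputable def p_V235 : List Net := [p_g232]

theorem p_V235_ok : okE 100 p_V235 = true := (okE_cons.2 ⟨p_g232_ok, (okE_nil 100)⟩)

noncomputable def p_V237 : List Net := [EvHT.t_g82, p_g231]

theorem p_V237_ok : okE 100 p_V237 = true := (okE_cons.2 ⟨EvHT.t_g82_ok, (okE_cons.2 ⟨p_g231_ok, (okE_nil 100)⟩)⟩)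

noncomputable def p_V239 : List Net := [EvHT.t_g82, EvHT.t_g84]

theorem p_V239_ok : okE 100 p_V239 = true := (okE_cons.2 ⟨EvHT.t_g82_ok, (okE_cons.2 ⟨EvHT.t_g84_ok, (okE_nil 100)⟩)⟩)

noncomputable def L3o_E4 : List Net := []

theorem L3o_E4_ok : okE 100 L3o_E4 = true := (okE_nil 100)

noncomputable def L3o_G3 : List Net := [EvHT.t_g82, EvHT.t_g84]

theorem L3o_G3_ok : okE 100 L3o_G3 = true := (okE_cons.2 ⟨EvHT.t_g82_ok, (okE_cons.2 ⟨EvHT.t_g84_ok, (okE_nil 100)⟩)⟩)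

noncomputable def L3o_E3 : List Net := [EvHT.t_g82, EvHT.t_g84, p_g231]

theorem L3o_E3_ok : okE 100 L3o_E3 = true := (okE_cons.2 ⟨EvHT.t_g82_ok, (okE_cons.2 ⟨EvHT.t_g84_ok, (okE_cons.2 ⟨p_g231_ok, (okE_nil 100)⟩)⟩)⟩)

noncomputable def L3o_G2 : List Net := [p_g232, EvHT.t_g82, EvHT.t_g84, p_g231]

theorem L3o_G2_ok : okE 100 L3o_G2 = true := (okE_cons.2 ⟨p_g232_ok, (okE_cons.2 ⟨EvHT.t_g82_ok, (okE_cons.2 ⟨EvHT.t_g84_ok, (okE_cons.2 ⟨p_g231_ok, (okE_nil 100)⟩)⟩)⟩)⟩)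

noncomputable def L3o_E2 : List Net := [p_g232, EvHT.t_g82, EvHT.t_g84, p_g231]

theorem L3o_E2_ok : okE 100 L3o_E2 = true := (okE_cons.2 ⟨p_g232_ok, (okE_cons.2 ⟨EvHT.t_g82_ok, (okE_cons.2 ⟨EvHT.t_g84_ok, (okE_cons.2 ⟨p_g231_ok, (okE_nil 100)⟩)⟩)⟩)⟩)

noncomputable def L3o_G1 : List Net := [p_g228, p_g232, EvHT.t_g82, EvHT.t_g84, p_g231]

theorem L3o_G1_ok : okE 100 L3o_G1 = true := (okE_cons.2 ⟨p_g228_ok, (okE_cons.2 ⟨p_g232_ok, (okE_cons.2 ⟨EvHT.t_g82_ok, (okE_cons.2 ⟨EvHT.t_g84_ok, (okE_cons.2 ⟨p_g231_ok, (okE_nil 100)⟩)⟩)⟩)⟩)⟩)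

noncomputable def L3o_E1 : List Net := [p_g228, p_g224, p_g225, p_g232, EvHT.t_g82, EvHT.t_g84, p_g231]

theorem L3o_E1_ok : okE 100 L3o_E1 = true := (okE_cons.2 ⟨p_g228_ok, (okE_cons.2 ⟨p_g224_ok, (okE_cons.2 ⟨p_g225_ok, (okE_cons.2 ⟨p_g232_ok, (okE_cons.2 ⟨EvHT.t_g82_ok, (okE_cons.2 ⟨EvHT.t_g84_ok, (okE_cons.2 ⟨p_g231_ok, (okE_nil 100)⟩)⟩)⟩)⟩)⟩)⟩)⟩)

noncomputable def L3o_G0 : List Net := [p_g221, p_g228, p_g224, p_g225, p_g232, EvHT.t_g82, EvHT.t_g84, p_g231]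

theorem L3o_G0_ok : okE 100 L3o_G0 = true := (okE_cons.2 ⟨p_g221_ok, (okE_cons.2 ⟨p_g228_ok, (okE_cons.2 ⟨p_g224_ok, (okE_cons.2 ⟨p_g225_ok, (okE_cons.2 ⟨p_g232_ok, (okE_cons.2 ⟨EvHT.t_g82_ok, (okE_cons.2 ⟨EvHT.t_g84_ok, (okE_cons.2 ⟨p_g231_ok, (okE_nil 100)⟩)⟩)⟩)⟩)⟩)⟩)⟩)⟩)

noncomputable def L3o_E0 : List Net := [p_g221, p_g219, p_g220, p_g228, p_g224, p_g225, p_g232, EvHT.t_g82, EvHT.t_g84, p_g231]

theorem L3o_E0_ok : okE 100 L3o_E0 = true := (okE_cons.2 ⟨p_g221_ok, (okE_cons.2 ⟨p_g219_ok, (okE_cons.2 ⟨p_g220_ok, (okE_cons.2 ⟨p_g228_ok, (okE_cons.2 ⟨p_g224_ok, (okE_cons.2 ⟨p_g225_ok, (okE_cons.2 ⟨p_g232_ok, (okE_cons.2 ⟨EvHT.t_g82_ok, (okE_cons.2 ⟨EvHT.t_g84_ok, (okE_cons.2 ⟨p_g231_ok, (okE_nil 100)⟩)⟩)⟩)⟩)⟩)⟩)⟩)⟩)⟩)⟩)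

theorem a3_hn : NOk 6 := by decide

theorem a3_hk : 6 ≤ 2 ^ 3 := by decide

noncomputable def a3_g1 : Net := (Net.cons (nat_lit 1) (nat_lit 20) (Net.cons (nat_lit 2) (nat_lit 2) (Net.cons (nat_lit 4) (nat_lit 2) Net.nil)))

theorem a3_g1_ok : Net.ok 6 a3_g1 = true := by decide +kernel

noncomputable def a3_g2 : Net := (Net.cons (nat_lit 1) (nat_lit 20) (Net.cons (nat_lit 4) (nat_lit 2) (Net.cons (nat_lit 2) (nat_lit 2) (Net.cons (nat_lit 1) (nat_lit 17) Net.nil))))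

theorem a3_g2_ok : Net.ok 6 a3_g2 = true := by decide +kernel

noncomputable def A3_E : List Net := [a3_g1, a3_g2]

theorem A3_E_ok : okE 6 A3_E = true := (okE_cons.2 ⟨a3_g1_ok, (okE_cons.2 ⟨a3_g2_ok, (okE_nil 6)⟩)⟩)

noncomputable def a3_g3 : Net := (Net.cons (nat_lit 1) (nat_lit 16) (Net.cons (nat_lit 4) (nat_lit 2) Net.nil))

theorem a3_g3_ok : Net.ok 6 a3_g3 = true := by decide +kernel

noncomputable def a3_g4 : Net := (Net.cons (nat_lit 1) (nat_lit 20) (Net.cons (nat_lit 2) (nat_lit 1) (Net.cons (nat_lit 4) (nat_lit 1) (Net.cons (nat_lit 2) (nat_lit 3) Net.nil))))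

theorem a3_g4_ok : Net.ok 6 a3_g4 = true := by decide +kernel

noncomputable def a3_V5 : List Net := [a3_g3, a3_g4]

theorem a3_V5_ok : okE 6 a3_V5 = true := (okE_cons.2 ⟨a3_g3_ok, (okE_cons.2 ⟨a3_g4_ok, (okE_nil 6)⟩)⟩)

noncomputable def a3_g7 : Net := (Net.cons (nat_lit 2) (nat_lit 2) (Net.cons (nat_lit 4) (nat_lit 2) (Net.cons (nat_lit 2) (nat_lit 2) (Net.cons (nat_lit 1) (nat_lit 4) Net.nil))))

theorem a3_g7_ok : Net.ok 6 a3_g7 = true := by decide +kernel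

noncomputable def a3_g8 : Net := (Net.cons (nat_lit 2) (nat_lit 3) (Net.cons (nat_lit 4) (nat_lit 3) (Net.cons (nat_lit 2) (nat_lit 3) Net.nil)))

theorem a3_g8_ok : Net.ok 6 a3_g8 = true := by decide +kernel

noncomputable def a3_V9 : List Net := [a3_g7, a3_g8]

theorem a3_V9_ok : okE 6 a3_V9 = true := (okE_cons.2 ⟨a3_g7_ok, (okE_cons.2 ⟨a3_g8_ok, (okE_nil 6)⟩)⟩)

noncomputable def a3_g11 : Net := (Net.cons (nat_lit 1) (nat_lit 16) (Net.cons (nat_lit 2) (nat_lit 2) (Net.cons (nat_lit 4) (nat_lit 2) (Net.cons (nat_lit 2) (nat_lit 2) Net.nil))))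

theorem a3_g11_ok : Net.ok 6 a3_g11 = true := by decide +kernel

noncomputable def a3_g12 : Net := (Net.cons (nat_lit 2) (nat_lit 2) (Net.cons (nat_lit 4) (nat_lit 2) (Net.cons (nat_lit 2) (nat_lit 2) (Net.cons (nat_lit 1) (nat_lit 16) Net.nil))))

theorem a3_g12_ok : Net.ok 6 a3_g12 = true := by decide +kernel

noncomputable def a3_V13 : List Net := [a3_g11, a3_g12]

theorem a3_V13_ok : okE 6 a3_V13 = true := (okE_cons.2 ⟨a3_g11_ok, (okE_cons.2 ⟨a3_g12_ok, (okE_nil 6)⟩)⟩)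

noncomputable def A3_lb_E : List Net := [a3_g1, a3_g2, a3_g3, a3_g4, a3_g7, a3_g8, a3_g11, a3_g12]

theorem A3_lb_E_ok : okE 6 A3_lb_E = true := (okE_cons.2 ⟨a3_g1_ok, (okE_cons.2 ⟨a3_g2_ok, (okE_cons.2 ⟨a3_g3_ok, (okE_cons.2 ⟨a3_g4_ok, (okE_cons.2 ⟨a3_g7_ok, (okE_cons.2 ⟨a3_g8_ok, (okE_cons.2 ⟨a3_g11_ok, (okE_cons.2 ⟨a3_g12_ok, (okE_nil 6)⟩)⟩)⟩)⟩)⟩)⟩)⟩)⟩)

noncomputable def p_g251 : Net := (Net.cons (nat_lit 1) (nat_lit 0x1150404040105504545001000) (Net.cons (nat_lit 2) (nat_lit 0x2323022002322001220120000) (Net.cons (nat_lit 4) (nat_lit 0x30b00070a0402020c000801) (Net.cons (nat_lit 8) (nat_lit 0x9000100085006b00890008) (Net.cons (nat_lit 16) (nat_lit 0xb0820000106a00000000) (Net.cons (nat_lit 32) (nat_lit 0x11820220) (Net.cons (nat_lit 64) (nat_lit 0x81393b262) (Net.cons (nat_lit 32) (nat_lit 0x10000000059c42a03) (Net.cons (nat_lit 16) (nat_lit 0x90a00000bc4800000d8a) (Net.cons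 (nat_lit 8) (nat_lit 0xf0003000a5004b00890028) (Net.cons (nat_lit 4) (nat_lit 0x30b01070a0402030c000801) (Net.cons (nat_lit 2) (nat_lit 0x2323022002322001220120000) (Net.cons (nat_lit 1) (nat_lit 0x1150404040105504545001000) Net.nil)))))))))))))

theorem p_g251_ok : Net.ok 100 p_g251 = true := by decide +kernel

noncomputable def Y3 : List Net := [EvHT.t_g77, p_g251]

theorem Y3_ok : okE 100 Y3 = true := (okE_cons.2 ⟨EvHT.t_g77_ok, (okE_cons.2 ⟨p_g251_ok, (okE_nil 100)⟩)⟩)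

noncomputable def Y3_cnt_EG : List Net := [MpHS.a, HSM.g1, HSM.g2, EvHT.t_g1, EvHT.t_g2, EvHT.t_g5, EvHT.t_g6, EvHT.t_g9, EvHT.t_g10, EvHT.t_g13, EvHT.t_g14, EvHT.t_g15, EvHT.t_g18, EvHT.t_g19, EvHT.t_g20, EvHT.t_g23, EvHT.t_g24, EvHT.t_g25, EvHT.t_g28, EvHT.t_g29, EvHT.t_g30, EvHT.t_g31, EvHT.t_g34, p_g118]

theorem Y3_cnt_EG_ok : okE 100 Y3_cnt_EG = true := (okE_cons.2 ⟨MpHS.a_ok, (okE_cons.2 ⟨HSM.g1_ok, (okE_cons.2 ⟨HSM.g2_ok, (okE_cons.2 ⟨EvHT.t_g1_ok, (okE_cons.2 ⟨EvHT.t_g2_ok, (okE_cons.2 ⟨EvHT.t_g5_ok, (okE_cons.2 ⟨EvHT.t_g6_ok, (okE_cons.2 ⟨EvHT.t_g9_ok, (okE_cons.2 ⟨EvHT.t_g10_ok, (okE_cons.2 ⟨EvHT.t_g13_ok, (okE_cons.2 ⟨EvHT.t_g14_ok, (okE_cons.2 ⟨EvHT.t_g15_ok, (okE_cons.2 ⟨EvHT.t_g18_ok, (okE_cons.2 ⟨EvHT.t_g19_ok, (okE_cons.2 ⟨EvHT.t_g20_ok, (okE_cons.2 ⟨EvHT.t_g23_ok, (okE_cons.2 ⟨EvHT.t_g24_ok, (okE_cons.2 ⟨EvHT.t_g25_ok, (okE_cons.2 ⟨EvHT.t_g28_ok, (okE_cons.2 ⟨EvHT.t_g29_ok,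 (okE_cons.2 ⟨EvHT.t_g30_ok, (okE_cons.2 ⟨EvHT.t_g31_ok, (okE_cons.2 ⟨EvHT.t_g34_ok, (okE_cons.2 ⟨p_g118_ok, (okE_nil 100)⟩)⟩)⟩)⟩)⟩)⟩)⟩)⟩)⟩)⟩)⟩)⟩)⟩)⟩)⟩)⟩)⟩)⟩)⟩)⟩)⟩)⟩)⟩)⟩)

noncomputable def p_g253 : Net := (Net.cons (nat_lit 1) (nat_lit 0x4011444140451550015540000) (Net.cons (nat_lit 2) (nat_lit 0x2101103001212101220312310) (Net.cons (nat_lit 4) (nat_lit 0xf030e03050f040400010c0c) (Net.cons (nat_lit 8) (nat_lit 0xc7002f009e002100260007) (Net.cons (nat_lit 16) (nat_lit 0x38b0000060600000000) (Net.cons (nat_lit 32) (nat_lit 0xd0000000051271a70) (Net.cons (nat_lit 64) (nat_lit 0xef9a75a71) (Net.cons (nat_lit 32) (nat_lit 0x60a3946d) (Net.cons (nat_lit 16) (nat_lit 0x926d0000f7ca00000466) (Net.cons (nat_lit 8) (nat_lit 0xf400f9002200e40007006f) (Net.cons (nat_lit 4) (nat_lit 0x504020e000809000b000804) (Net.cons (nat_lit 2) (nat_lit 0x2312232002213200202230300) (Net.cons (nat_lit 1) (nat_lit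 0x5054000045505541105440514) Net.nil)))))))))))))

theorem p_g253_ok : Net.ok 100 p_g253 = true := by decide +kernel

noncomputable def p_g254 : Net := (Net.cons (nat_lit 1) (nat_lit 0x5101555400105010400150010) (Net.cons (nat_lit 2) (nat_lit 0x1131033112032230002120120) (Net.cons (nat_lit 4) (nat_lit 0xe090504010e0b0009050903) (Net.cons (nat_lit 8) (nat_lit 0x6c007a0029007500470000) (Net.cons (nat_lit 16) (nat_lit 0xd2010000810500000002) (Net.cons (nat_lit 32) (nat_lit 0x3000c500) (Net.cons (nat_lit 64) (nat_lit 0x3f18cc789) (Net.cons (nat_lit 32) (nat_lit 0xba137544) (Net.cons (nat_lit 16) (nat_lit 0x1ee2000001a50000d483) (Net.cons (nat_lit 8) (nat_lit 0x3d003a0029006c00420040) (Net.cons (nat_lit 4) (nat_lit 0xa0d0104010e0a0508010d03) (Net.cons (nat_lit 2) (nat_lit 0x1121033102032330003120030) (Net.cons (nat_lit 1) (nat_lit 0x5101555400105010400150010) Net.nil)))))))))))))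

theorem p_g254_ok : Net.ok 100 p_g254 = true := by decide +kernel

noncomputable def lt3_c1_K : List Net := [p_g253, EvHT.t_g84, p_g254]

theorem lt3_c1_K_ok : okE 100 lt3_c1_K = true := (okE_cons.2 ⟨p_g253_ok, (okE_cons.2 ⟨EvHT.t_g84_ok, (okE_cons.2 ⟨p_g254_ok, (okE_nil 100)⟩)⟩)⟩)

noncomputable def p_V256 : List Net := [p_g228, p_g224, p_g225, p_g232, EvHT.t_g82, EvHT.t_g84, p_g231]

theorem p_V256_ok : okE 100 p_V256 = true := (okE_cons.2 ⟨p_g228_ok, (okE_cons.2 ⟨p_g224_ok, (okE_cons.2 ⟨p_g225_ok, (okE_cons.2 ⟨p_g232_ok, (okE_cons.2 ⟨EvHT.t_g82_ok, (okE_cons.2 ⟨EvHT.t_g84_ok, (okE_cons.2 ⟨p_g231_ok, (okE_nil 100)⟩)⟩)⟩)⟩)⟩)⟩)⟩)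

noncomputable def p_V257 : List Net := [p_g232, EvHT.t_g82, EvHT.t_g84, p_g231]

theorem p_V257_ok : okE 100 p_V257 = true := (okE_cons.2 ⟨p_g232_ok, (okE_cons.2 ⟨EvHT.t_g82_ok, (okE_cons.2 ⟨EvHT.t_g84_ok, (okE_cons.2 ⟨p_g231_ok, (okE_nil 100)⟩)⟩)⟩)⟩)

noncomputable def p_V258 : List Net := [EvHT.t_g82, EvHT.t_g84, p_g231]

theorem p_V258_ok : okE 100 p_V258 = true := (okE_cons.2 ⟨EvHT.t_g82_ok, (okE_cons.2 ⟨EvHT.t_g84_ok, (okE_cons.2 ⟨p_g231_ok, (okE_nil 100)⟩)⟩)⟩)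

noncomputable def p_V259 : List Net := []

theorem p_V259_ok : okE 100 p_V259 = true := (okE_nil 100)

noncomputable def lt3_c1_cnt_EG : List Net := [p_g221, p_g219, p_g220, p_g228, p_g224, p_g225, p_g232, EvHT.t_g82, EvHT.t_g84, p_g231]

theorem lt3_c1_cnt_EG_ok : okE 100 lt3_c1_cnt_EG = true := (okE_cons.2 ⟨p_g221_ok, (okE_cons.2 ⟨p_g219_ok, (okE_cons.2 ⟨p_g220_ok, (okE_cons.2 ⟨p_g228_ok, (okE_cons.2 ⟨p_g224_ok, (okE_cons.2 ⟨p_g225_ok, (okE_cons.2 ⟨p_g232_ok, (okE_cons.2 ⟨EvHT.t_g82_ok, (okE_cons.2 ⟨EvHT.t_g84_ok, (okE_cons.2 ⟨p_g231_ok, (okE_nil 100)⟩)⟩)⟩)⟩)⟩)⟩)⟩)⟩)⟩)⟩)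

noncomputable def p_g260 : Net := (Net.cons (nat_lit 1) (nat_lit 0x5055140545154445455400400) (Net.cons (nat_lit 2) (nat_lit 0x1020321033211111231320200) (Net.cons (nat_lit 4) (nat_lit 0x40d000a030a010407050100) (Net.cons (nat_lit 8) (nat_lit 0xe00980043003100330000) (Net.cons (nat_lit 16) (nat_lit 0x26080000028a00000000) (Net.cons (nat_lit 32) (nat_lit 0x1000000001080c130) (Net.cons (nat_lit 64) (nat_lit 0x2d5bcf337) (Net.cons (nat_lit 32) (nat_lit 0xc00000000e2a895c1) (Net.cons (nat_lit 16) (nat_lit 0x6b92000092590000fdf9) (Net.cons (nat_lit 8) (nat_lit 0x56008100130073003400eb) (Net.cons (nat_lit 4) (nat_lit 0x10d0d08010e020c0c0b0708) (Net.cons (nat_lit 2) (nat_lit 0x232123010213210023320221) (Net.cons (nat_lit 1) (nat_lit 0x4551150414154545554105505) Net.nil)))))))))))))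

theorem p_g260_ok : Net.ok 100 p_g260 = true := by decide +kernel

noncomputable def p_g261 : Net := (Net.cons (nat_lit 1) (nat_lit 0x1104505154414150114501510) (Net.cons (nat_lit 2) (nat_lit 0x2303030231210103210111020) (Net.cons (nat_lit 4) (nat_lit 0xb040a0b0c06070d08090d01) (Net.cons (nat_lit 8) (nat_lit 0xc80054002b00f700420009) (Net.cons (nat_lit 16) (nat_lit 0x7c890000cfac00000000) (Net.cons (nat_lit 32) (nat_lit 0x32608cc0) (Net.cons (nat_lit 64) (nat_lit 0x3bae1cee0) (Net.cons (nat_lit 32) (nat_lit 0x800000000f284b91b) (Net.cons (nat_lit 16) (nat_lit 0x70f00000394c0000a41e) (Net.cons (nat_lit 8) (nat_lit 0xa100c400a900e3006c0029) (Net.cons (nat_lit 4) (nat_lit 0xd060802020a060f0e0f030b) (Net.cons (nat_lit 2) (nat_lit 0x22222202011311303200032) (Net.cons (nat_lit 1) (nat_lit 0x1515014010051405051015) Net.nil)))))))))))))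

theorem p_g261_ok : Net.ok 100 p_g261 = true := by decide +kernel

noncomputable def lt3_c2_K : List Net := [p_g261, p_g260]

theorem lt3_c2_K_ok : okE 100 lt3_c2_K = true := (okE_cons.2 ⟨p_g261_ok, (okE_cons.2 ⟨p_g260_ok, (okE_nil 100)⟩)⟩)

noncomputable def p_g263 : Net := (Net.cons (nat_lit 1) (nat_lit 0x4450550555154110104544400) (Net.cons (nat_lit 2) (nat_lit 0x3231020110323102202001300) (Net.cons (nat_lit 4) (nat_lit 0xb0a080302010a0509040408) (Net.cons (nat_lit 8) (nat_lit 0x74001400860005008c0006) (Net.cons (nat_lit 16) (nat_lit 0x192c0000330e00000008) (Net.cons (nat_lit 32) (nat_lit 0x8e229500) (Net.cons (nat_lit 64) (nat_lit 0xe9e67d56e) (Net.cons (nat_lit 32) (nat_lit 0xc00000000af3a970c) (Net.cons (nat_lit 16) (nat_lit 0x1d7c000037ce000004c8) (Net.cons (nat_lit 8) (nat_lit 0x74001500860005008e0016) (Net.cons (nat_lit 4) (nat_lit 0xb0a0a0b02010e05090c0408) (Net.cons (nat_lit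 2) (nat_lit 0x3231020110323102202001300) (Net.cons (nat_lit 1) (nat_lit 0x4450550555154110104544400) Net.nil)))))))))))))

theorem p_g263_ok : Net.ok 100 p_g263 = true := by decide +kernel

noncomputable def p_V264 : List Net := [EvHT.t_g80, p_g263]

theorem p_V264_ok : okE 100 p_V264 = true := (okE_cons.2 ⟨EvHT.t_g80_ok, (okE_cons.2 ⟨p_g263_ok, (okE_nil 100)⟩)⟩)

noncomputable def p_V266 : List Net := [p_g263]

theorem p_V266_ok : okE 100 p_V266 = true := (okE_cons.2 ⟨p_g263_ok, (okE_nil 100)⟩)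

noncomputable def p_V267 : List Net := []

theorem p_V267_ok : okE 100 p_V267 = true := (okE_nil 100)

noncomputable def lt3_c2_cnt_EG : List Net := [p_g221, p_g219, p_g220, p_g228, p_g224, p_g225, p_g232, EvHT.t_g82, EvHT.t_g84, p_g231, p_g263, EvHT.t_g80]

theorem lt3_c2_cnt_EG_ok : okE 100 lt3_c2_cnt_EG = true := (okE_cons.2 ⟨p_g221_ok, (okE_cons.2 ⟨p_g219_ok, (okE_cons.2 ⟨p_g220_ok, (okE_cons.2 ⟨p_g228_ok, (okE_cons.2 ⟨p_g224_ok, (okE_cons.2 ⟨p_g225_ok, (okE_cons.2 ⟨p_g232_ok, (okE_cons.2 ⟨EvHT.t_g82_ok, (okE_cons.2 ⟨EvHT.t_g84_ok, (okE_cons.2 ⟨p_g231_ok, (okE_cons.2 ⟨p_g263_ok, (okE_cons.2 ⟨EvHT.t_g80_ok, (okE_nil 100)⟩)⟩)⟩)⟩)⟩)⟩)⟩)⟩)⟩)⟩)⟩)⟩)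

noncomputable def p_g268 : Net := (Net.cons (nat_lit 1) (nat_lit 0x5114504411010445405550440) (Net.cons (nat_lit 2) (nat_lit 0x3113232301203300231200220) (Net.cons (nat_lit 4) (nat_lit 0xd0c0603010b0e0405080402) (Net.cons (nat_lit 8) (nat_lit 0x53000900980018006c0001) (Net.cons (nat_lit 16) (nat_lit 0x3459000008fe00000000) (Net.cons (nat_lit 32) (nat_lit 0x100000000e3d82020) (Net.cons (nat_lit 64) (nat_lit 0xf3fc34b1) (Net.cons (nat_lit 32) (nat_lit 0x600000000781e4508) (Net.cons (nat_lit 16) (nat_lit 0x92b600002c5e0000ed11) (Net.cons (nat_lit 8) (nat_lit 0x1700890092003400cb0064) (Net.cons (nat_lit 4) (nat_lit 0xd040c0301090a0e0d0b0307) (Net.cons (nat_lit 2) (nat_lit 0x2001011302201211121110320) (Net.cons (nat_lit 1) (nat_lit 0x5514551504414454040105150) Net.nil)))))))))))))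

theorem p_g268_ok : Net.ok 100 p_g268 = true := by decide +kernel

noncomputable def p_g269 : Net := (Net.cons (nat_lit 1) (nat_lit 0x5554040141545504150504540) (Net.cons (nat_lit 2) (nat_lit 0x110001001010222203100020) (Net.cons (nat_lit 4) (nat_lit 0xe0d0501040e090e080f0202) (Net.cons (nat_lit 8) (nat_lit 0x460088000200c200980002) (Net.cons (nat_lit 16) (nat_lit 0xac5100002a6000000001) (Net.cons (nat_lit 32) (nat_lit 0x20000000034104040) (Net.cons (nat_lit 64) (nat_lit 0x13d97d1c3) (Net.cons (nat_lit 32) (nat_lit 0x700000000edf123ca) (Net.cons (nat_lit 16) (nat_lit 0xa466000093f000004ced) (Net.cons (nat_lit 8) (nat_lit 0x8500ad000700fb00c50003) (Net.cons (nat_lit 4) (nat_lit 0x609040208080b0e04070b07) (Net.cons (nat_lit 2) (nat_lit 0x1313131032001203131222021) (Net.cons (nat_lit 1) (nat_lit 0x4451050001141405441054045) Net.nil)))))))))))))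

theorem p_g269_ok : Net.ok 100 p_g269 = true := by decide +kernel

noncomputable def lt3_c3_K : List Net := [p_g268, p_g269]

theorem lt3_c3_K_ok : okE 100 lt3_c3_K = true := (okE_cons.2 ⟨p_g268_ok, (okE_cons.2 ⟨p_g269_ok, (okE_nil 100)⟩)⟩)

noncomputable def p_g271 : Net := (Net.cons (nat_lit 1) (nat_lit 0x4005441440401105104500000) (Net.cons (nat_lit 2) (nat_lit 0x2002123100032022030001200) (Net.cons (nat_lit 4) (nat_lit 0x20b0b0e0e040801080f0202) (Net.cons (nat_lit 8) (nat_lit 0xba00a0004b00590052000a) (Net.cons (nat_lit 16) (nat_lit 0x71c20000d2ca00000008) (Net.cons (nat_lit 32) (nat_lit 0x50000000014404a20) (Net.cons (nat_lit 64) (nat_lit 0x97ff8da26) (Net.cons (nat_lit 32) (nat_lit 0xf00000000914a4af8) (Net.cons (nat_lit 16) (nat_lit 0xb1cc0000d2c200000001) (Net.cons (nat_lit 8) (nat_lit 0x1800a000af00590016002a) (Net.cons (nat_lit 4) (nat_lit 0x4090b060a0008010c090e02) (Net.cons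 (nat_lit 2) (nat_lit 0x202333300033023031003200) (Net.cons (nat_lit 1) (nat_lit 0x4005441440011105104500040) Net.nil)))))))))))))

theorem p_g271_ok : Net.ok 100 p_g271 = true := by decide +kernel

noncomputable def p_V272 : List Net := [p_g268, p_g271, p_g261]

theorem p_V272_ok : okE 100 p_V272 = true := (okE_cons.2 ⟨p_g268_ok, (okE_cons.2 ⟨p_g271_ok, (okE_cons.2 ⟨p_g261_ok, (okE_nil 100)⟩)⟩)⟩)

noncomputable def p_V274 : List Net := [p_g271, p_g261]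

theorem p_V274_ok : okE 100 p_V274 = true := (okE_cons.2 ⟨p_g271_ok, (okE_cons.2 ⟨p_g261_ok, (okE_nil 100)⟩)⟩)

noncomputable def p_V275 : List Net := [p_g261]

theorem p_V275_ok : okE 100 p_V275 = true := (okE_cons.2 ⟨p_g261_ok, (okE_nil 100)⟩)

noncomputable def p_V276 : List Net := []

theorem p_V276_ok : okE 100 p_V276 = true := (okE_nil 100)

noncomputable def lt3_c3_cnt_EG : List Net := [p_g221, p_g219, p_g220, p_g228, p_g224, p_g225, p_g232, EvHT.t_g82, EvHT.t_g84, p_g231, p_g268, p_g271, p_g261]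

theorem lt3_c3_cnt_EG_ok : okE 100 lt3_c3_cnt_EG = true := (okE_cons.2 ⟨p_g221_ok, (okE_cons.2 ⟨p_g219_ok, (okE_cons.2 ⟨p_g220_ok, (okE_cons.2 ⟨p_g228_ok, (okE_cons.2 ⟨p_g224_ok, (okE_cons.2 ⟨p_g225_ok, (okE_cons.2 ⟨p_g232_ok, (okE_cons.2 ⟨EvHT.t_g82_ok, (okE_cons.2 ⟨EvHT.t_g84_ok, (okE_cons.2 ⟨p_g231_ok, (okE_cons.2 ⟨p_g268_ok, (okE_cons.2 ⟨p_g271_ok, (okE_cons.2 ⟨p_g261_ok, (okE_nil 100)⟩)⟩)⟩)⟩)⟩)⟩)⟩)⟩)⟩)⟩)⟩)⟩)⟩)

noncomputable def p_g277 : Net := (Net.cons (nat_lit 1) (nat_lit 0x440501410455410450551104) (Net.cons (nat_lit 2) (nat_lit 0x333212322013310012000100) (Net.cons (nat_lit 4) (nat_lit 0xe0a040d000100040d0a0c03) (Net.cons (nat_lit 8) (nat_lit 0xae005500ca004400450001) (Net.cons (nat_lit 16) (nat_lit 0x224f0000404d00000003) (Net.cons (nat_lit 32) (nat_lit 0x70000000040b02550) (Net.cons (nat_lit 64) (nat_lit 0xad6b26d7d) (Net.cons (nat_lit 32) (nat_lit 0x56c0af75) (Net.cons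 (nat_lit 16) (nat_lit 0x4ef300003c8e0000d64e) (Net.cons (nat_lit 8) (nat_lit 0x1f0095005f004c00250046) (Net.cons (nat_lit 4) (nat_lit 0xb0403050a090a080a0c090d) (Net.cons (nat_lit 2) (nat_lit 0x321133303213231012331030) (Net.cons (nat_lit 1) (nat_lit 0x5405514555101401544105540) Net.nil)))))))))))))

theorem p_g277_ok : Net.ok 100 p_g277 = true := by decide +kernel

noncomputable def lt3_c4_K : List Net := [p_g277, EvHT.t_g84]

theorem lt3_c4_K_ok : okE 100 lt3_c4_K = true := (okE_cons.2 ⟨p_g277_ok, (okE_cons.2 ⟨EvHT.t_g84_ok, (okE_nil 100)⟩)⟩)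

noncomputable def lt3_c4_cnt_EG : List Net := [p_g221, p_g219, p_g220, p_g228, p_g224, p_g225, p_g232, EvHT.t_g82, EvHT.t_g84, p_g231]

theorem lt3_c4_cnt_EG_ok : okE 100 lt3_c4_cnt_EG = true := (okE_cons.2 ⟨p_g221_ok, (okE_cons.2 ⟨p_g219_ok, (okE_cons.2 ⟨p_g220_ok, (okE_cons.2 ⟨p_g228_ok, (okE_cons.2 ⟨p_g224_ok, (okE_cons.2 ⟨p_g225_ok, (okE_cons.2 ⟨p_g232_ok, (okE_cons.2 ⟨EvHT.t_g82_ok, (okE_cons.2 ⟨EvHT.t_g84_ok, (okE_cons.2 ⟨p_g231_ok, (okE_nil 100)⟩)⟩)⟩)⟩)⟩)⟩)⟩)⟩)⟩)⟩)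

noncomputable def p_g279 : Net := (Net.cons (nat_lit 1) (nat_lit 0x5404505505441410411445050) (Net.cons (nat_lit 2) (nat_lit 0x102020121110001001210020) (Net.cons (nat_lit 4) (nat_lit 0x40a060b00080a0d080a0601) (Net.cons (nat_lit 8) (nat_lit 0x6300c3004d000a0042000a) (Net.cons (nat_lit 16) (nat_lit 0x20050000327c00000006) (Net.cons (nat_lit 32) (nat_lit 0xc0000000011480200) (Net.cons (nat_lit 64) (nat_lit 0x2fbec9b5c) (Net.cons (nat_lit 32) (nat_lit 0x700000000b56512da) (Net.cons (nat_lit 16) (nat_lit 0xd4e90000fe990000c30b) (Net.cons (nat_lit 8) (nat_lit 0x1700dd00db005400af00a6) (Net.cons (nat_lit 4) (nat_lit 0xf0f040f0b0c06080d0b0007) (Net.cons (nat_lit 2) (nat_lit 0x1111021203230221023231103) (Net.cons (nat_lit 1) (nat_lit 0x1015115015400544010450545) Net.nil)))))))))))))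

theorem p_g279_ok : Net.ok 100 p_g279 = true := by decide +kernel

noncomputable def lt3_c5_K : List Net := [p_g279]

theorem lt3_c5_K_ok : okE 100 lt3_c5_K = true := (okE_cons.2 ⟨p_g279_ok, (okE_nil 100)⟩)

noncomputable def lt3_c5_cnt_EG : List Net := [p_g221, p_g219, p_g220, p_g228, p_g224, p_g225, p_g232, EvHT.t_g82, EvHT.t_g84, p_g231]

theorem lt3_c5_cnt_EG_ok : okE 100 lt3_c5_cnt_EG = true := (okE_cons.2 ⟨p_g221_ok, (okE_cons.2 ⟨p_g219_ok, (okE_cons.2 ⟨p_g220_ok, (okE_cons.2 ⟨p_g228_ok, (okE_cons.2 ⟨p_g224_ok, (okE_cons.2 ⟨p_g225_ok, (okE_cons.2 ⟨p_g232_ok, (okE_cons.2 ⟨EvHT.t_g82_ok, (okE_cons.2 ⟨EvHT.t_g84_ok, (okE_cons.2 ⟨p_g231_ok, (okE_nil 100)⟩)⟩)⟩)⟩)⟩)⟩)⟩)⟩)⟩)⟩)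

noncomputable def p_g281 : Net := (Net.cons (nat_lit 1) (nat_lit 0x1141511115005051100410410) (Net.cons (nat_lit 2) (nat_lit 0x3100330232103123102230000) (Net.cons (nat_lit 4) (nat_lit 0xb050c0909030f04030b0200) (Net.cons (nat_lit 8) (nat_lit 0x42004900a2008a00210002) (Net.cons (nat_lit 16) (nat_lit 0x700b00004e560000000b) (Net.cons (nat_lit 32) (nat_lit 0x700000000ba444090) (Net.cons (nat_lit 64) (nat_lit 0xfeedf2f7) (Net.cons (nat_lit 32) (nat_lit 0x9000000000f3bfb9d) (Net.cons (nat_lit 16) (nat_lit 0xeb420000f7090000daf8) (Net.cons (nat_lit 8) (nat_lit 0x8e00f300ad00cf00d500b4) (Net.cons (nat_lit 4) (nat_lit 0x50e0706080804040f030c0d) (Net.cons (nat_lit 2) (nat_lit 0x3020120200330130233131312) (Net.cons (nat_lit 1) (nat_lit 0x1541511010001040410100154) Net.nil)))))))))))))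

theorem p_g281_ok : Net.ok 100 p_g281 = true := by decide +kernel

noncomputable def lt3_c6_K : List Net := [p_g281]

theorem lt3_c6_K_ok : okE 100 lt3_c6_K = true := (okE_cons.2 ⟨p_g281_ok, (okE_nil 100)⟩)

noncomputable def lt3_c6_cnt_EG : List Net := [p_g221, p_g219, p_g220, p_g228, p_g224, p_g225, p_g232, EvHT.t_g82, EvHT.t_g84, p_g231]

theorem lt3_c6_cnt_EG_ok : okE 100 lt3_c6_cnt_EG = true := (okE_cons.2 ⟨p_g221_ok, (okE_cons.2 ⟨p_g219_ok, (okE_cons.2 ⟨p_g220_ok, (okE_cons.2 ⟨p_g228_ok, (okE_cons.2 ⟨p_g224_ok, (okE_cons.2 ⟨p_g225_ok, (okE_cons.2 ⟨p_g232_ok, (okE_cons.2 ⟨EvHT.t_g82_ok, (okE_cons.2 ⟨EvHT.t_g84_ok, (okE_cons.2 ⟨p_g231_ok, (okE_nil 100)⟩)⟩)⟩)⟩)⟩)⟩)⟩)⟩)⟩)⟩)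

noncomputable def lt3_nc3_2_cnt_EG : List Net := []

theorem lt3_nc3_2_cnt_EG_ok : okE 100 lt3_nc3_2_cnt_EG = true := (okE_nil 100)

noncomputable def lt3_nc6_5_cnt_EG : List Net := [p_g221, p_g219, p_g220, p_g228, p_g224, p_g225, p_g232, EvHT.t_g82, EvHT.t_g84, p_g231]

theorem lt3_nc6_5_cnt_EG_ok : okE 100 lt3_nc6_5_cnt_EG = true := (okE_cons.2 ⟨p_g221_ok, (okE_cons.2 ⟨p_g219_ok, (okE_cons.2 ⟨p_g220_ok, (okE_cons.2 ⟨p_g228_ok, (okE_cons.2 ⟨p_g224_ok, (okE_cons.2 ⟨p_g225_ok, (okE_cons.2 ⟨p_g232_ok, (okE_cons.2 ⟨EvHT.t_g82_ok, (okE_cons.2 ⟨EvHT.t_g84_ok, (okE_cons.2 ⟨p_g231_ok, (okE_nil 100)⟩)⟩)⟩)⟩)⟩)⟩)⟩)⟩)⟩)⟩)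

noncomputable def p_g283 : Net := (Net.cons (nat_lit 1) (nat_lit 0x4015115011001101115510040) (Net.cons (nat_lit 2) (nat_lit 0x2212332200100332311020000) (Net.cons (nat_lit 4) (nat_lit 0xd09090106000b040108020e) (Net.cons (nat_lit 8) (nat_lit 0x310053008800c600840004) (Net.cons (nat_lit 16) (nat_lit 0x18450000c80900000000) (Net.cons (nat_lit 32) (nat_lit 0x800000000d0851e00) (Net.cons (nat_lit 64) (nat_lit 0xcdceffe43) (Net.cons (nat_lit 32) (nat_lit 0x20000000046089ed5) (Net.cons (nat_lit 16) (nat_lit 0xd53d0000489500003c13) (Net.cons (nat_lit 8) (nat_lit 0x3d00a4003900d5000d00e3) (Net.cons (nat_lit 4) (nat_lit 0xf0a0e060f010604020b0d03) (Net.cons (nat_lit 2) (nat_lit 0x21010230120030332013300) (Net.cons (nat_lit 1) (nat_lit 0x4450050440001110140145040) Net.nil)))))))))))))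

theorem p_g283_ok : Net.ok 100 p_g283 = true := by decide +kernel

noncomputable def EU : List Net := [EvHT.t_g39]

theorem EU_ok : okE 100 EU = true := (okE_cons.2 ⟨EvHT.t_g39_ok, (okE_nil 100)⟩)

noncomputable def ES : List Net := [EvHT.t_g77, p_g251]

theorem ES_ok : okE 100 ES = true := (okE_cons.2 ⟨EvHT.t_g77_ok, (okE_cons.2 ⟨p_g251_ok, (okE_nil 100)⟩)⟩)

noncomputable def p_g284 : Net := (Net.cons (nat_lit 1) (nat_lit 0x5045141545504540451011004) (Net.cons (nat_lit 2) (nat_lit 0x1123010211031210020101210) (Net.cons (nat_lit 4) (nat_lit 0x30b0e0e010b0b010c010200) (Net.cons (nat_lit 8) (nat_lit 0x1d00f0005e000c00810001) (Net.cons (nat_lit 16) (nat_lit 0x81ad000008c70000000c) (Net.cons (nat_lit 32) (nat_lit 0x100000000b24370a0) (Net.cons (nat_lit 64) (nat_lit 0xcffe3f4f9) (Net.cons (nat_lit 32) (nat_lit 0x6000000004d8dd523) (Net.cons (nat_lit 16) (nat_lit 0x6eb0000c8c700004c4f)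 (Net.cons (nat_lit 8) (nat_lit 0x7600ae00730040000a00cd) (Net.cons (nat_lit 4) (nat_lit 0x8030a020904010b00030b01) (Net.cons (nat_lit 2) (nat_lit 0x1132013103012331213133000) (Net.cons (nat_lit 1) (nat_lit 0x4111444011501101004114400) Net.nil)))))))))))))

theorem p_g284_ok : Net.ok 100 p_g284 = true := by decide +kernel

noncomputable def EX : List Net := [EvHT.t_g39, HSM.g1, HSM.g2, HSM.g3, HSM.g4, HSM.g7, HSM.g8, HSM.g11, HSM.g12, HSM.g13, HSM.g16, HSM.g16]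

theorem EX_ok : okE 100 EX = true := (okE_cons.2 ⟨EvHT.t_g39_ok, (okE_cons.2 ⟨HSM.g1_ok, (okE_cons.2 ⟨HSM.g2_ok, (okE_cons.2 ⟨HSM.g3_ok, (okE_cons.2 ⟨HSM.g4_ok, (okE_cons.2 ⟨HSM.g7_ok, (okE_cons.2 ⟨HSM.g8_ok, (okE_cons.2 ⟨HSM.g11_ok, (okE_cons.2 ⟨HSM.g12_ok, (okE_cons.2 ⟨HSM.g13_ok, (okE_cons.2 ⟨HSM.g16_ok, (okE_cons.2 ⟨HSM.g16_ok, (okE_nil 100)⟩)⟩)⟩)⟩)⟩)⟩)⟩)⟩)⟩)⟩)⟩)⟩)

noncomputable def p_g285 : Net := (Net.cons (nat_lit 1) (nat_lit 0x1401545004445005054510004) (Net.cons (nat_lit 2) (nat_lit 0x1103030011102300313220300) (Net.cons (nat_lit 4) (nat_lit 0x602060306090001040601) (Net.cons (nat_lit 8) (nat_lit 0xb003000a5000c00010006) (Net.cons (nat_lit 16) (nat_lit 0x45a5000095690000000b) (Net.cons (nat_lit 32) (nat_lit 0x200000000541da0d0) (Net.cons (nat_lit 64) (nat_lit 0xcdcffb9db) (Net.cons (nat_lit 32) (nat_lit 0x700000000447a55d5) (Net.cons (nat_lit 16) (nat_lit 0x8aab000077aa0000a22f)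 (Net.cons (nat_lit 8) (nat_lit 0xe0001b003400f5007c0027) (Net.cons (nat_lit 4) (nat_lit 0x903040306010c020705090e) (Net.cons (nat_lit 2) (nat_lit 0x22123112213123202332211) (Net.cons (nat_lit 1) (nat_lit 0x1441505004445405154510004) Net.nil)))))))))))))

theorem p_g285_ok : Net.ok 100 p_g285 = true := by decide +kernel

noncomputable def p_g286 : Net := (Net.cons (nat_lit 1) (nat_lit 0x404011505400450101100040) (Net.cons (nat_lit 2) (nat_lit 0x1332230203011021233001200) (Net.cons (nat_lit 4) (nat_lit 0x60d0c04000d07010d020305) (Net.cons (nat_lit 8) (nat_lit 0x19002400a90008001e0001) (Net.cons (nat_lit 16) (nat_lit 0xe45c0000824400000000) (Net.cons (nat_lit 32) (nat_lit 0x400000000d0880010) (Net.cons (nat_lit 64) (nat_lit 0xbfcab89f5) (Net.cons (nat_lit 32) (nat_lit 0xb000000004d2e9e51) (Net.cons (nat_lit 16) (nat_lit 0x4bb50000066500008440) (Net.cons (nat_lit 8) (nat_lit 0x9c00a9006900a8003b0000)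 (Net.cons (nat_lit 4) (nat_lit 0xe030f0d0603030604000201) (Net.cons (nat_lit 2) (nat_lit 0x1031022011223032113033330) (Net.cons (nat_lit 1) (nat_lit 0x5144404514450005541500110) Net.nil)))))))))))))

theorem p_g286_ok : Net.ok 100 p_g286 = true := by decide +kernel

noncomputable def p_g287 : Net := (Net.cons (nat_lit 1) (nat_lit 0x5450051105555151514115110) (Net.cons (nat_lit 2) (nat_lit 0x2130120002133010122000) (Net.cons (nat_lit 4) (nat_lit 0xb0206000003080b000c0400) (Net.cons (nat_lit 8) (nat_lit 0xc9004b0069008f00470005) (Net.cons (nat_lit 16) (nat_lit 0xc580000044a500000005) (Net.cons (nat_lit 32) (nat_lit 0x700000000302c9500) (Net.cons (nat_lit 64) (nat_lit 0xbb36dd5f4) (Net.cons (nat_lit 32) (nat_lit 0xe0000000014b3f502) (Net.cons (nat_lit 16) (nat_lit 0x2fb00007cfe000020d4) (Net.cons (nat_lit 8) (nat_lit 0x4b006a0069003a00820077) (Net.cons (nat_lit 4) (nat_lit 0xb0a050702090a0c0e0a0202)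 (Net.cons (nat_lit 2) (nat_lit 0x203231333022120110223130) (Net.cons (nat_lit 1) (nat_lit 0x5450511505554001414011010) Net.nil)))))))))))))

theorem p_g287_ok : Net.ok 100 p_g287 = true := by decide +kernel

noncomputable def E3 : List Net := [p_g286, p_g287]

theorem E3_ok : okE 100 E3 = true := (okE_cons.2 ⟨p_g286_ok, (okE_cons.2 ⟨p_g287_ok, (okE_nil 100)⟩)⟩)

noncomputable def p_g288 : Net := (Net.cons (nat_lit 1) (nat_lit 0x1410544555000404451501400) (Net.cons (nat_lit 2) (nat_lit 0x1312200213330000220100110) (Net.cons (nat_lit 4) (nat_lit 0xf040209010e080e00080003) (Net.cons (nat_lit 8) (nat_lit 0xe800f10036006200490008) (Net.cons (nat_lit 16) (nat_lit 0xaffd0000481000000000) (Net.cons (nat_lit 32) (nat_lit 0x2000000003216ab00) (Net.cons (nat_lit 64) (nat_lit 0xa7e36bbcd) (Net.cons (nat_lit 32) (nat_lit 0x50000000087286d0c) (Net.cons (nat_lit 16) (nat_lit 0x822500008b0000008006)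 (Net.cons (nat_lit 8) (nat_lit 0xf9008900200025006d000a) (Net.cons (nat_lit 4) (nat_lit 0x20501010c0704000e070803) (Net.cons (nat_lit 2) (nat_lit 0x3200313311322012310221120) (Net.cons (nat_lit 1) (nat_lit 0x114414401000015041505410) Net.nil)))))))))))))

theorem p_g288_ok : Net.ok 100 p_g288 = true := by decide +kernel

noncomputable def p_V289 : List Net := [p_g288, p_g288]

theorem p_V289_ok : okE 100 p_V289 = true := (okE_cons.2 ⟨p_g288_ok, (okE_cons.2 ⟨p_g288_ok, (okE_nil 100)⟩)⟩)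

noncomputable def E3lb_E : List Net := [p_g286, p_g287, p_g288, p_g288]

theorem E3lb_E_ok : okE 100 E3lb_E = true := (okE_cons.2 ⟨p_g286_ok, (okE_cons.2 ⟨p_g287_ok, (okE_cons.2 ⟨p_g288_ok, (okE_cons.2 ⟨p_g288_ok, (okE_nil 100)⟩)⟩)⟩)⟩)

theorem U_s0 : Stab 100 (grp 100 EvHT.EG) [] EvHT.lb_E 88704000 :=
  Stab.root' EvHT.lb_E_ok EvHT.eq_lb EvHT.card_N

theorem ch2_le : grp 100 ch2_Q ≤ grp 100 EvHT.nt_c2_K :=
  grp_le_of_memB p_hn p_hk EvHT.nt_c2_K_ok ch2_Q_ok (ws := [nat_lit 3849, nat_lit 0xf090505030303, nat_lit 0xf0d090b0505030303, nat_lit 0xf0d0b0505010902, nat_lit 0xf0d070505030303, nat_lit 591109, nat_lit 0x90505030303]) (by decide +kernel)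

theorem p_le8 : grp 100 p_V7 ≤ grp 100 ch2_Q :=
  grp_le_of_memB p_hn p_hk ch2_Q_ok p_V7_ok (ws := [nat_lit 3]) (by decide +kernel)

theorem p_le13 : grp 100 p_V12 ≤ grp 100 ch2_Q :=
  grp_le_of_memB p_hn p_hk ch2_Q_ok p_V12_ok (ws := [nat_lit 0xa07060d010c0402030d, nat_lit 0x50d080a050b04060e0c040a0b0104, nat_lit 0x90d0b020808050a0e03050c020604, nat_lit 0x20a070407050a0e, nat_lit 0x80e030b05090c0d090d060a]) (by decide +kernel)

theorem p_le15 : grp 100 p_V14 ≤ grp 100 p_V12 :=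
  grp_le_of_memB p_hn p_hk p_V12_ok p_V14_ok (ws := [nat_lit 5]) (by decide +kernel)

theorem p_le19 : grp 100 p_V18 ≤ grp 100 p_V12 :=
  grp_le_of_memB p_hn p_hk p_V12_ok p_V18_ok (ws := [nat_lit 0x9060a0504090909070a0a0a0a, nat_lit 0x4020a08060a050702, nat_lit 0x80501040804070706, nat_lit 0x9070905010a03010906030208, nat_lit 0x50a0502090402040a06]) (by decide +kernel)

theorem p_le21 : grp 100 p_V20 ≤ grp 100 p_V18 :=
  grp_le_of_memB p_hn p_hk p_V18_ok p_V20_ok (ws := [nat_lit 3]) (by decide +kernel)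

theorem p_le26 : grp 100 p_V25 ≤ grp 100 p_V18 :=
  grp_le_of_memB p_hn p_hk p_V18_ok p_V25_ok (ws := [nat_lit 0x106090409070a05090704, nat_lit 0x602030508080a0704, nat_lit 0x802060402030704060704]) (by decide +kernel)

theorem p_le30 : grp 100 p_V29 ≤ grp 100 p_V25 :=
  grp_le_of_memB p_hn p_hk p_V25_ok p_V29_ok (ws := [nat_lit 5, nat_lit 65795, nat_lit 261]) (by decide +kernel)

theorem ch2_o_card4 : Nat.card (grp 100 ch2_o_E4) = 1 :=
  card_grp_nil 100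

theorem ch2_o_leO4 : grp 100 ch2_o_E4 ≤ grp 100 ch2_Q :=
  grp_nil_le _

theorem ch2_o_3_fix : grp 100 ch2_o_E4 ≤ MulAction.stabilizer (Equiv.Perm (Fin 100)) (⟨1, by decide⟩ : Fin 100) :=
  grp_le_stab ch2_o_E4_ok (by decide : 1 < 100) (by decide +kernel)

noncomputable def ch2_o_3_ts : List ℕ := [nat_lit 0, nat_lit 1, nat_lit 3, nat_lit 5, nat_lit 259, nat_lit 261, nat_lit 769, nat_lit 773, nat_lit 1281, nat_lit 66305, nat_lit 66309, nat_lit 66817, nat_lit 196867, nat_lit 196869, nat_lit 0x1030103, nat_lit 0x1030105]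

noncomputable def ch2_o_3_ds : List ℕ := [nat_lit 1, nat_lit 95, nat_lit 74, nat_lit 41, nat_lit 78, nat_lit 88, nat_lit 42, nat_lit 87, nat_lit 53, nat_lit 70, nat_lit 57, nat_lit 51, nat_lit 83, nat_lit 28, nat_lit 58, nat_lit 77]

theorem ch2_o_3_dist : Dist 100 ch2_o_E4 ch2_o_G3 (⟨1, by decide⟩ : Fin 100) ch2_o_3_ts ch2_o_3_ds :=
  dist_of_distB (k := 4) p_hn ch2_o_E4_ok ch2_o_G3_ok (by decide : 1 < 100) (by decide +kernel)

noncomputable def ch2_o_3_sl0 : SL := (SL.cons (nat_lit 1) (nat_lit 95) Ch.nil [] (SL.cons (nat_lit 3) (nat_lit 74) Ch.nil [] (SL.cons (nat_lit 5) (nat_lit 41) Ch.nil [] (SL.cons (nat_lit 259) (nat_lit 78) Ch.nil [] (SL.cons (nat_lit 261) (nat_lit 88) Ch.nil [] (SL.cons (nat_lit 769) (nat_lit 42) Ch.nil [] (SL.cons (nat_lit 773) (nat_lit 87) Ch.nil [] (SL.cons (nat_lit 1281) (nat_lit 53) Ch.nil [] (SL.cons (nat_lit 66305) (nat_lit 70) Ch.nil [] (SL.cons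 (nat_lit 66309) (nat_lit 57) Ch.nil [] (SL.cons (nat_lit 66817) (nat_lit 51) Ch.nil [] (SL.cons (nat_lit 196867) (nat_lit 83) Ch.nil [] (SL.cons (nat_lit 196869) (nat_lit 28) Ch.nil [] (SL.cons (nat_lit 0x1030103) (nat_lit 58) Ch.nil [] (SL.cons (nat_lit 0x1030105) (nat_lit 77) Ch.nil [] SL.nil)))))))))))))))

theorem ch2_o_3_sc0 : SCs 100 ch2_o_E4 ch2_o_G3 (⟨1, by decide⟩ : Fin 100) (SL.words ch2_o_3_sl0) :=
  scs_of_ok p_hn (det_lab p_hk ⊤) ch2_o_E4_ok ch2_o_G3_ok le_top le_top (by decide : 1 < 100) ch2_o_3_fix ch2_o_card4.le (by decide +kernel)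

noncomputable def ch2_o_3_l : List ℕ := (appL (SL.words ch2_o_3_sl0) [])

theorem ch2_o_3_scs : SCs 100 ch2_o_E4 ch2_o_G3 (⟨1, by decide⟩ : Fin 100) ch2_o_3_l :=
  (SCs.append ch2_o_3_sc0 SCs.nil)

noncomputable def ch2_o_3_rl0_0 : RL := (RL.cons (nat_lit 0) (nat_lit 1) (nat_lit 0) (nat_lit 0) (nat_lit 1) (nat_lit 0) (RL.cons (nat_lit 1) (nat_lit 95) (nat_lit 0) (nat_lit 0) (nat_lit 0) (nat_lit 0) (RL.cons (nat_lit 2) (nat_lit 74) (nat_lit 0) (nat_lit 0) (nat_lit 6) (nat_lit 0) (RL.cons (nat_lit 3) (nat_lit 41) (nat_lit 0) (nat_lit 0) (nat_lit 8) (nat_lit 0) (RL.cons (nat_lit 4) (nat_lit 78) (nat_lit 0) (nat_lit 0) (nat_lit 9) (nat_lit 0) (RL.cons (nat_lit 5) (nat_lit 88) (nat_lit 0) (nat_lit 0) (nat_lit 11) (nat_lit 0) (RL.cons (nat_lit 6) (nat_lit 42) (nat_lit 0) (nat_lit 0) (nat_lit 2) (nat_lit 0) (RL.cons (nat_lit 7) (nat_lit 87) (nat_lit 0) (nat_lit 0) (nat_lit 10) (nat_lit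 0) (RL.cons (nat_lit 8) (nat_lit 53) (nat_lit 0) (nat_lit 0) (nat_lit 3) (nat_lit 0) (RL.cons (nat_lit 9) (nat_lit 70) (nat_lit 0) (nat_lit 0) (nat_lit 4) (nat_lit 0) (RL.cons (nat_lit 10) (nat_lit 57) (nat_lit 0) (nat_lit 0) (nat_lit 7) (nat_lit 0) (RL.cons (nat_lit 11) (nat_lit 51) (nat_lit 0) (nat_lit 0) (nat_lit 5) (nat_lit 0) (RL.cons (nat_lit 12) (nat_lit 83) (nat_lit 0) (nat_lit 0) (nat_lit 14) (nat_lit 0) (RL.cons (nat_lit 13) (nat_lit 28) (nat_lit 0) (nat_lit 0) (nat_lit 15) (nat_lit 0) (RL.cons (nat_lit 14) (nat_lit 58) (nat_lit 0) (nat_lit 0) (nat_lit 12) (nat_lit 0) (RL.cons (nat_lit 15) (nat_lit 77) (nat_lit 0) (nat_lit 0) (nat_lit 13) (nat_lit 0) RL.nil))))))))))))))))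

theorem ch2_o_3_good0_0 : GoodSet 100 ch2_o_E4 ch2_o_G3 (⟨1, by decide⟩ : Fin 100) ch2_o_3_ts (nat_lit 1) (RL.pts ch2_o_3_rl0_0) :=
  goodSet_of_ok p_hn (det_lab p_hk ⊤) ch2_o_E4_ok ch2_o_G3_ok le_top le_top (by decide : 1 < 100) (sepAt_lab p_hk _) (by decide +kernel)

theorem ch2_o_3_step0 : Step 100 ch2_o_E4 ch2_o_G3 ch2_o_3_ts (2 * 0 + 1) :=
  step_of_cover ch2_o_E4_ok ch2_o_3_dist (by decide +kernel) ch2_o_3_scs (by decide +kernel) ch2_o_3_good0_0 (kw := [])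
    (conj_mem_of_scs ch2_o_E4_ok ch2_o_G3_ok (by decide : 1 < 100) ch2_o_3_scs (c := 0) (d := 95) (by decide +kernel)) (by decide +kernel)

noncomputable def ch2_o_3_rl1_0 : RL := (RL.cons (nat_lit 0) (nat_lit 1) (nat_lit 0) (nat_lit 0) (nat_lit 2) (nat_lit 0) (RL.cons (nat_lit 1) (nat_lit 95) (nat_lit 0) (nat_lit 0) (nat_lit 4) (nat_lit 0) (RL.cons (nat_lit 2) (nat_lit 74) (nat_lit 0) (nat_lit 0) (nat_lit 0) (nat_lit 0) (RL.cons (nat_lit 3) (nat_lit 41) (nat_lit 0) (nat_lit 0) (nat_lit 7) (nat_lit 0) (RL.cons (nat_lit 4) (nat_lit 78) (nat_lit 0) (nat_lit 0) (nat_lit 1) (nat_lit 0) (RL.cons (nat_lit 5) (nat_lit 88) (nat_lit 0) (nat_lit 0) (nat_lit 10) (nat_lit 0) (RL.cons (nat_lit 6) (nat_lit 42) (nat_lit 0) (nat_lit 0) (nat_lit 12) (nat_lit 0) (RL.cons (nat_lit 7) (nat_lit 87) (nat_lit 0) (nat_lit 0) (nat_lit 3) (nat_lit 0) (RL.cons (nat_lit 8) (nat_lit 53) (nat_lit 0) (nat_lit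 0) (nat_lit 13) (nat_lit 0) (RL.cons (nat_lit 9) (nat_lit 70) (nat_lit 0) (nat_lit 0) (nat_lit 14) (nat_lit 0) (RL.cons (nat_lit 10) (nat_lit 57) (nat_lit 0) (nat_lit 0) (nat_lit 5) (nat_lit 0) (RL.cons (nat_lit 11) (nat_lit 51) (nat_lit 0) (nat_lit 0) (nat_lit 15) (nat_lit 0) (RL.cons (nat_lit 12) (nat_lit 83) (nat_lit 0) (nat_lit 0) (nat_lit 6) (nat_lit 0) (RL.cons (nat_lit 13) (nat_lit 28) (nat_lit 0) (nat_lit 0) (nat_lit 8) (nat_lit 0) (RL.cons (nat_lit 14) (nat_lit 58) (nat_lit 0) (nat_lit 0) (nat_lit 9) (nat_lit 0) (RL.cons (nat_lit 15) (nat_lit 77) (nat_lit 0) (nat_lit 0) (nat_lit 11) (nat_lit 0) RL.nil))))))))))))))))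

theorem ch2_o_3_good1_0 : GoodSet 100 ch2_o_E4 ch2_o_G3 (⟨1, by decide⟩ : Fin 100) ch2_o_3_ts (nat_lit 3) (RL.pts ch2_o_3_rl1_0) :=
  goodSet_of_ok p_hn (det_lab p_hk ⊤) ch2_o_E4_ok ch2_o_G3_ok le_top le_top (by decide : 1 < 100) (sepAt_lab p_hk _) (by decide +kernel)

theorem ch2_o_3_step1 : Step 100 ch2_o_E4 ch2_o_G3 ch2_o_3_ts (2 * 1 + 1) :=
  step_of_cover ch2_o_E4_ok ch2_o_3_dist (by decide +kernel) ch2_o_3_scs (by decide +kernel) ch2_o_3_good1_0 (kw := [])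
    (conj_mem_of_scs ch2_o_E4_ok ch2_o_G3_ok (by decide : 1 < 100) ch2_o_3_scs (c := 1) (d := 74) (by decide +kernel)) (by decide +kernel)

noncomputable def ch2_o_3_rl2_0 : RL := (RL.cons (nat_lit 0) (nat_lit 1) (nat_lit 0) (nat_lit 0) (nat_lit 3) (nat_lit 0) (RL.cons (nat_lit 1) (nat_lit 95) (nat_lit 0) (nat_lit 0) (nat_lit 5) (nat_lit 0) (RL.cons (nat_lit 2) (nat_lit 74) (nat_lit 0) (nat_lit 0) (nat_lit 7) (nat_lit 0) (RL.cons (nat_lit 3) (nat_lit 41) (nat_lit 0) (nat_lit 0) (nat_lit 0) (nat_lit 0) (RL.cons (nat_lit 4) (nat_lit 78) (nat_lit 0) (nat_lit 0) (nat_lit 10) (nat_lit 0) (RL.cons (nat_lit 5) (nat_lit 88) (nat_lit 0) (nat_lit 0) (nat_lit 1) (nat_lit 0) (RL.cons (nat_lit 6) (nat_lit 42) (nat_lit 0) (nat_lit 0) (nat_lit 13) (nat_lit 0) (RL.cons (nat_lit 7) (nat_lit 87) (nat_lit 0) (nat_lit 0) (nat_lit 2) (nat_lit 0) (RL.cons (nat_lit 8) (nat_lit 53) (nat_lit 0) (nat_lit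 0) (nat_lit 12) (nat_lit 0) (RL.cons (nat_lit 9) (nat_lit 70) (nat_lit 0) (nat_lit 0) (nat_lit 15) (nat_lit 0) (RL.cons (nat_lit 10) (nat_lit 57) (nat_lit 0) (nat_lit 0) (nat_lit 4) (nat_lit 0) (RL.cons (nat_lit 11) (nat_lit 51) (nat_lit 0) (nat_lit 0) (nat_lit 14) (nat_lit 0) (RL.cons (nat_lit 12) (nat_lit 83) (nat_lit 0) (nat_lit 0) (nat_lit 8) (nat_lit 0) (RL.cons (nat_lit 13) (nat_lit 28) (nat_lit 0) (nat_lit 0) (nat_lit 6) (nat_lit 0) (RL.cons (nat_lit 14) (nat_lit 58) (nat_lit 0) (nat_lit 0) (nat_lit 11) (nat_lit 0) (RL.cons (nat_lit 15) (nat_lit 77) (nat_lit 0) (nat_lit 0) (nat_lit 9) (nat_lit 0) RL.nil))))))))))))))))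

theorem ch2_o_3_good2_0 : GoodSet 100 ch2_o_E4 ch2_o_G3 (⟨1, by decide⟩ : Fin 100) ch2_o_3_ts (nat_lit 5) (RL.pts ch2_o_3_rl2_0) :=
  goodSet_of_ok p_hn (det_lab p_hk ⊤) ch2_o_E4_ok ch2_o_G3_ok le_top le_top (by decide : 1 < 100) (sepAt_lab p_hk _) (by decide +kernel)

theorem ch2_o_3_step2 : Step 100 ch2_o_E4 ch2_o_G3 ch2_o_3_ts (2 * 2 + 1) :=
  step_of_cover ch2_o_E4_ok ch2_o_3_dist (by decide +kernel) ch2_o_3_scs (by decide +kernel) ch2_o_3_good2_0 (kw := [])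
    (conj_mem_of_scs ch2_o_E4_ok ch2_o_G3_ok (by decide : 1 < 100) ch2_o_3_scs (c := 2) (d := 41) (by decide +kernel)) (by decide +kernel)

theorem ch2_o_3_lev : grp 100 ch2_o_G3 ⊓ MulAction.stabilizer (Equiv.Perm (Fin 100)) (⟨1, by decide⟩ : Fin 100) = grp 100 ch2_o_E4 :=
  sims_level (gs := p_V29) rfl (by decide) ch2_o_3_fix ch2_o_3_dist (forall_lt_succ' (forall_lt_succ' (forall_lt_one ch2_o_3_step0) ch2_o_3_step1) ch2_o_3_step2)

theorem ch2_o_3_cardG : Nat.card (grp 100 ch2_o_G3) = 16 :=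
  card_of_level p_hn ch2_o_G3_ok (by decide : 1 < 100) ch2_o_3_lev ch2_o_card4 (m := 16) (by decide +kernel)

theorem p_le31 : grp 100 ch2_o_E3 ≤ grp 100 ch2_o_G3 :=
  grp_le_of_memB p_hn p_hk ch2_o_G3_ok ch2_o_E3_ok (ws := [nat_lit 1, nat_lit 3, nat_lit 5, nat_lit 1281, nat_lit 66305]) (by decide +kernel)

theorem p_le32 : grp 100 ch2_o_G3 ≤ grp 100 ch2_o_E3 :=
  grp_le_of_memB p_hn p_hk ch2_o_E3_ok ch2_o_G3_ok (ws := [nat_lit 1, nat_lit 3, nat_lit 5]) (by decide +kernel)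

theorem ch2_o_3_eq : grp 100 ch2_o_E3 = grp 100 ch2_o_G3 :=
  le_antisymm p_le31 p_le32

theorem ch2_o_card3 : Nat.card (grp 100 ch2_o_E3) = 16 :=
  by rw [ch2_o_3_eq]; exact ch2_o_3_cardG

theorem ch2_o_stab3 : grp 100 ch2_o_E3 ⊓ MulAction.stabilizer (Equiv.Perm (Fin 100)) (⟨1, by decide⟩ : Fin 100) = grp 100 ch2_o_E4 :=
  by rw [ch2_o_3_eq]; exact ch2_o_3_lev

theorem ch2_o_leO3 : grp 100 ch2_o_E3 ≤ grp 100 ch2_Q :=
  ch2_o_3_eq.le.trans (grp_cons_le ((p_le26.trans (p_le19.trans (p_le13.trans (le_refl (grp 100 ch2_Q))))) (p_le30 (toPerm_mem_grp (E := p_V29) (by simp [p_V29])))) (grp_cons_le ((p_le26.trans (p_le19.trans (p_le13.trans (le_refl (grp 100 ch2_Q))))) (p_le30 (toPerm_mem_grp (E := p_V29) (by simp [p_V29])))) (grp_cons_le ((p_le26.trans (p_le19.trans (p_le13.trans (le_refl (grp 100 ch2_Q))))) (p_le30 (toPerm_mem_grp (E := p_V29) (by simp [p_V29])))) ch2_o_leO4)))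

theorem ch2_o_2_fix : grp 100 ch2_o_E3 ≤ MulAction.stabilizer (Equiv.Perm (Fin 100)) (⟨15, by decide⟩ : Fin 100) :=
  grp_le_stab ch2_o_E3_ok (by decide : 15 < 100) (by decide +kernel)

noncomputable def ch2_o_2_ts : List ℕ := [nat_lit 0, nat_lit 1]

noncomputable def ch2_o_2_ds : List ℕ := [nat_lit 15, nat_lit 20]

theorem ch2_o_2_dist : Dist 100 ch2_o_E3 ch2_o_G2 (⟨15, by decide⟩ : Fin 100) ch2_o_2_ts ch2_o_2_ds :=
  dist_of_distB (k := 1) p_hn ch2_o_E3_ok ch2_o_G2_ok (by decide : 15 < 100) (by decide +kernel)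

noncomputable def ch2_o_2_sl0 : SL := (SL.cons (nat_lit 1) (nat_lit 20) (Ch.cons (nat_lit 1) [nat_lit 7, nat_lit 1288, nat_lit 3] Ch.nil) [nat_lit 8, nat_lit 1, nat_lit 3] SL.nil)

theorem ch2_o_2_sc0 : SCs 100 ch2_o_E3 ch2_o_G2 (⟨15, by decide⟩ : Fin 100) (SL.words ch2_o_2_sl0) :=
  scs_of_ok p_hn (det_lab p_hk ⊤) ch2_o_E3_ok ch2_o_G2_ok le_top le_top (by decide : 15 < 100) ch2_o_2_fix ch2_o_card3.le (by decide +kernel)

noncomputable def ch2_o_2_l : List ℕ := (appL (SL.words ch2_o_2_sl0) [])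

theorem ch2_o_2_scs : SCs 100 ch2_o_E3 ch2_o_G2 (⟨15, by decide⟩ : Fin 100) ch2_o_2_l :=
  (SCs.append ch2_o_2_sc0 SCs.nil)

noncomputable def ch2_o_2_rl0_0 : RL := (RL.cons (nat_lit 0) (nat_lit 15) (nat_lit 0) (nat_lit 0) (nat_lit 1) (nat_lit 0) (RL.cons (nat_lit 1) (nat_lit 20) (nat_lit 0) (nat_lit 0) (nat_lit 0) (nat_lit 0) RL.nil))

theorem ch2_o_2_good0_0 : GoodSet 100 ch2_o_E3 ch2_o_G2 (⟨15, by decide⟩ : Fin 100) ch2_o_2_ts (nat_lit 1) (RL.pts ch2_o_2_rl0_0) :=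
  goodSet_of_ok p_hn (det_lab p_hk ⊤) ch2_o_E3_ok ch2_o_G2_ok le_top le_top (by decide : 15 < 100) (sepAt_lab p_hk _) (by decide +kernel)

theorem ch2_o_2_step0 : Step 100 ch2_o_E3 ch2_o_G2 ch2_o_2_ts (2 * 0 + 1) :=
  step_of_cover ch2_o_E3_ok ch2_o_2_dist (by decide +kernel) ch2_o_2_scs (by decide +kernel) ch2_o_2_good0_0 (kw := [nat_lit 7, nat_lit 1288, nat_lit 3])
    (conj_mem_of_scs ch2_o_E3_ok ch2_o_G2_ok (by decide : 15 < 100) ch2_o_2_scs (c := 0) (d := 20) (by decide +kernel)) (by decide +kernel)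

theorem ch2_o_2_lev : grp 100 ch2_o_G2 ⊓ MulAction.stabilizer (Equiv.Perm (Fin 100)) (⟨15, by decide⟩ : Fin 100) = grp 100 ch2_o_E3 :=
  sims_level (gs := p_V20) rfl (by decide) ch2_o_2_fix ch2_o_2_dist (forall_lt_one ch2_o_2_step0)

theorem ch2_o_2_cardG : Nat.card (grp 100 ch2_o_G2) = 32 :=
  card_of_level p_hn ch2_o_G2_ok (by decide : 15 < 100) ch2_o_2_lev ch2_o_card3 (m := 2) (by decide +kernel)

theorem p_le33 : grp 100 ch2_o_E2 ≤ grp 100 ch2_o_G2 :=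
  grp_le_of_memB p_hn p_hk ch2_o_G2_ok ch2_o_E2_ok (ws := [nat_lit 1, nat_lit 10, nat_lit 1802, nat_lit 1802, nat_lit 1803, nat_lit 3, nat_lit 5, nat_lit 7, nat_lit 9, nat_lit 11]) (by decide +kernel)

theorem p_le34 : grp 100 ch2_o_G2 ≤ grp 100 ch2_o_E2 :=
  grp_le_of_memB p_hn p_hk ch2_o_E2_ok ch2_o_G2_ok (ws := [nat_lit 1, nat_lit 11, nat_lit 13, nat_lit 15, nat_lit 17, nat_lit 19]) (by decide +kernel)

theorem ch2_o_2_eq : grp 100 ch2_o_E2 = grp 100 ch2_o_G2 :=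
  le_antisymm p_le33 p_le34

theorem ch2_o_card2 : Nat.card (grp 100 ch2_o_E2) = 32 :=
  by rw [ch2_o_2_eq]; exact ch2_o_2_cardG

theorem ch2_o_stab2 : grp 100 ch2_o_E2 ⊓ MulAction.stabilizer (Equiv.Perm (Fin 100)) (⟨15, by decide⟩ : Fin 100) = grp 100 ch2_o_E3 :=
  by rw [ch2_o_2_eq]; exact ch2_o_2_lev

theorem ch2_o_leO2 : grp 100 ch2_o_E2 ≤ grp 100 ch2_Q :=
  ch2_o_2_eq.le.trans (grp_cons_le ((p_le19.trans (p_le13.trans (le_refl (grp 100 ch2_Q)))) (p_le21 (toPerm_mem_grp (E := p_V20) (by simp [p_V20])))) ch2_o_leO3)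

theorem ch2_o_1_fix : grp 100 ch2_o_E2 ≤ MulAction.stabilizer (Equiv.Perm (Fin 100)) (⟨7, by decide⟩ : Fin 100) :=
  grp_le_stab ch2_o_E2_ok (by decide : 7 < 100) (by decide +kernel)

noncomputable def ch2_o_1_ts : List ℕ := [nat_lit 0, nat_lit 1]

noncomputable def ch2_o_1_ds : List ℕ := [nat_lit 7, nat_lit 81]

theorem ch2_o_1_dist : Dist 100 ch2_o_E2 ch2_o_G1 (⟨7, by decide⟩ : Fin 100) ch2_o_1_ts ch2_o_1_ds :=
  dist_of_distB (k := 1) p_hn ch2_o_E2_ok ch2_o_G1_ok (by decide : 7 < 100) (by decide +kernel)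

noncomputable def ch2_o_1_sl0 : SL := (SL.cons (nat_lit 1) (nat_lit 81) (Ch.cons (nat_lit 0) [nat_lit 3841, nat_lit 3347, nat_lit 3343, nat_lit 18] (Ch.cons (nat_lit 1) [nat_lit 19] Ch.nil)) [nat_lit 725249, nat_lit 3347, nat_lit 3859, nat_lit 18, nat_lit 13] SL.nil)

theorem ch2_o_1_sc0 : SCs 100 ch2_o_E2 ch2_o_G1 (⟨7, by decide⟩ : Fin 100) (SL.words ch2_o_1_sl0) :=
  scs_of_ok p_hn (det_lab p_hk ⊤) ch2_o_E2_ok ch2_o_G1_ok le_top le_top (by decide : 7 < 100) ch2_o_1_fix ch2_o_card2.le (by decide +kernel)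

noncomputable def ch2_o_1_l : List ℕ := (appL (SL.words ch2_o_1_sl0) [])

theorem ch2_o_1_scs : SCs 100 ch2_o_E2 ch2_o_G1 (⟨7, by decide⟩ : Fin 100) ch2_o_1_l :=
  (SCs.append ch2_o_1_sc0 SCs.nil)

noncomputable def ch2_o_1_rl0_0 : RL := (RL.cons (nat_lit 0) (nat_lit 7) (nat_lit 0) (nat_lit 0) (nat_lit 1) (nat_lit 3347) (RL.cons (nat_lit 1) (nat_lit 81) (nat_lit 0) (nat_lit 0) (nat_lit 0) (nat_lit 0) RL.nil))

theorem ch2_o_1_good0_0 : GoodSet 100 ch2_o_E2 ch2_o_G1 (⟨7, by decide⟩ : Fin 100) ch2_o_1_ts (nat_lit 1) (RL.pts ch2_o_1_rl0_0) :=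
  goodSet_of_ok p_hn (det_lab p_hk ⊤) ch2_o_E2_ok ch2_o_G1_ok le_top le_top (by decide : 7 < 100) (sepAt_lab p_hk _) (by decide +kernel)

theorem ch2_o_1_step0 : Step 100 ch2_o_E2 ch2_o_G1 ch2_o_1_ts (2 * 0 + 1) :=
  step_of_cover ch2_o_E2_ok ch2_o_1_dist (by decide +kernel) ch2_o_1_scs (by decide +kernel) ch2_o_1_good0_0 (kw := [nat_lit 3841, nat_lit 3347, nat_lit 3343, nat_lit 18, nat_lit 19])
    (conj_mem_of_scs ch2_o_E2_ok ch2_o_G1_ok (by decide : 7 < 100) ch2_o_1_scs (c := 0) (d := 81) (by decide +kernel)) (by decide +kernel)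

theorem ch2_o_1_lev : grp 100 ch2_o_G1 ⊓ MulAction.stabilizer (Equiv.Perm (Fin 100)) (⟨7, by decide⟩ : Fin 100) = grp 100 ch2_o_E2 :=
  sims_level (gs := p_V14) rfl (by decide) ch2_o_1_fix ch2_o_1_dist (forall_lt_one ch2_o_1_step0)

theorem ch2_o_1_cardG : Nat.card (grp 100 ch2_o_G1) = 64 :=
  card_of_level p_hn ch2_o_G1_ok (by decide : 7 < 100) ch2_o_1_lev ch2_o_card2 (m := 2) (by decide +kernel)

theorem p_le35 : grp 100 ch2_o_E1 ≤ grp 100 ch2_o_G1 :=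
  grp_le_of_memB p_hn p_hk ch2_o_G1_ok ch2_o_E1_ok (ws := [nat_lit 1, nat_lit 0xd150301, nat_lit 987393, nat_lit 3, nat_lit 5, nat_lit 7, nat_lit 7, nat_lit 11, nat_lit 13, nat_lit 15, nat_lit 17, nat_lit 19, nat_lit 21]) (by decide +kernel)

theorem p_le36 : grp 100 ch2_o_G1 ≤ grp 100 ch2_o_E1 :=
  grp_le_of_memB p_hn p_hk ch2_o_E1_ok ch2_o_G1_ok (ws := [nat_lit 1, nat_lit 7, nat_lit 9, nat_lit 11, nat_lit 11, nat_lit 15, nat_lit 17, nat_lit 19, nat_lit 21, nat_lit 23, nat_lit 25]) (by decide +kernel)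

theorem ch2_o_1_eq : grp 100 ch2_o_E1 = grp 100 ch2_o_G1 :=
  le_antisymm p_le35 p_le36

theorem ch2_o_card1 : Nat.card (grp 100 ch2_o_E1) = 64 :=
  by rw [ch2_o_1_eq]; exact ch2_o_1_cardG

theorem ch2_o_stab1 : grp 100 ch2_o_E1 ⊓ MulAction.stabilizer (Equiv.Perm (Fin 100)) (⟨7, by decide⟩ : Fin 100) = grp 100 ch2_o_E2 :=
  by rw [ch2_o_1_eq]; exact ch2_o_1_lev

theorem ch2_o_leO1 : grp 100 ch2_o_E1 ≤ grp 100 ch2_Q :=
  ch2_o_1_eq.le.trans (grp_cons_le ((p_le13.trans (le_refl (grp 100 ch2_Q))) (p_le15 (toPerm_mem_grp (E := p_V14) (by simp [p_V14])))) ch2_o_leO2)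

theorem ch2_o_0_fix : grp 100 ch2_o_E1 ≤ MulAction.stabilizer (Equiv.Perm (Fin 100)) (⟨5, by decide⟩ : Fin 100) :=
  grp_le_stab ch2_o_E1_ok (by decide : 5 < 100) (by decide +kernel)

noncomputable def ch2_o_0_ts : List ℕ := [nat_lit 0, nat_lit 1]

noncomputable def ch2_o_0_ds : List ℕ := [nat_lit 5, nat_lit 26]

theorem ch2_o_0_dist : Dist 100 ch2_o_E1 ch2_o_G0 (⟨5, by decide⟩ : Fin 100) ch2_o_0_ts ch2_o_0_ds :=
  dist_of_distB (k := 1) p_hn ch2_o_E1_ok ch2_o_G0_ok (by decide : 5 < 100) (by decide +kernel)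

noncomputable def ch2_o_0_sl0 : SL := (SL.cons (nat_lit 1) (nat_lit 26) (Ch.cons (nat_lit 0) [nat_lit 19, nat_lit 4359, nat_lit 0x131501, nat_lit 24] (Ch.cons (nat_lit 1) [nat_lit 25, nat_lit 6145] Ch.nil)) [nat_lit 25, nat_lit 0x151807, nat_lit 0x131501, nat_lit 23, nat_lit 19, nat_lit 6145] SL.nil)

theorem ch2_o_0_sc0 : SCs 100 ch2_o_E1 ch2_o_G0 (⟨5, by decide⟩ : Fin 100) (SL.words ch2_o_0_sl0) :=
  scs_of_ok p_hn (det_lab p_hk ⊤) ch2_o_E1_ok ch2_o_G0_ok le_top le_top (by decide : 5 < 100) ch2_o_0_fix ch2_o_card1.le (by decide +kernel)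

noncomputable def ch2_o_0_l : List ℕ := (appL (SL.words ch2_o_0_sl0) [])

theorem ch2_o_0_scs : SCs 100 ch2_o_E1 ch2_o_G0 (⟨5, by decide⟩ : Fin 100) ch2_o_0_l :=
  (SCs.append ch2_o_0_sc0 SCs.nil)

noncomputable def ch2_o_0_rl0_0 : RL := (RL.cons (nat_lit 0) (nat_lit 5) (nat_lit 0) (nat_lit 0) (nat_lit 1) (nat_lit 0) (RL.cons (nat_lit 1) (nat_lit 26) (nat_lit 0) (nat_lit 0) (nat_lit 0) (nat_lit 0) RL.nil))

theorem ch2_o_0_good0_0 : GoodSet 100 ch2_o_E1 ch2_o_G0 (⟨5, by decide⟩ : Fin 100) ch2_o_0_ts (nat_lit 1) (RL.pts ch2_o_0_rl0_0) :=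
  goodSet_of_ok p_hn (det_lab p_hk ⊤) ch2_o_E1_ok ch2_o_G0_ok le_top le_top (by decide : 5 < 100) (sepAt_lab p_hk _) (by decide +kernel)

theorem ch2_o_0_step0 : Step 100 ch2_o_E1 ch2_o_G0 ch2_o_0_ts (2 * 0 + 1) :=
  step_of_cover ch2_o_E1_ok ch2_o_0_dist (by decide +kernel) ch2_o_0_scs (by decide +kernel) ch2_o_0_good0_0 (kw := [nat_lit 19, nat_lit 4359, nat_lit 0x131501, nat_lit 24, nat_lit 25, nat_lit 6145])
    (conj_mem_of_scs ch2_o_E1_ok ch2_o_G0_ok (by decide : 5 < 100) ch2_o_0_scs (c := 0) (d := 26) (by decide +kernel)) (by decide +kernel)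

theorem ch2_o_0_lev : grp 100 ch2_o_G0 ⊓ MulAction.stabilizer (Equiv.Perm (Fin 100)) (⟨5, by decide⟩ : Fin 100) = grp 100 ch2_o_E1 :=
  sims_level (gs := p_V7) rfl (by decide) ch2_o_0_fix ch2_o_0_dist (forall_lt_one ch2_o_0_step0)

theorem ch2_o_0_cardG : Nat.card (grp 100 ch2_o_G0) = 128 :=
  card_of_level p_hn ch2_o_G0_ok (by decide : 5 < 100) ch2_o_0_lev ch2_o_card1 (m := 2) (by decide +kernel)

theorem p_le37 : grp 100 ch2_o_E0 ≤ grp 100 ch2_o_G0 :=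
  grp_le_of_memB p_hn p_hk ch2_o_G0_ok ch2_o_E0_ok (ws := [nat_lit 1, nat_lit 5403, nat_lit 0x151b03, nat_lit 0x13190301, nat_lit 0x130901, nat_lit 5897, nat_lit 0x13150901, nat_lit 3, nat_lit 5, nat_lit 7, nat_lit 9, nat_lit 11, nat_lit 13, nat_lit 13, nat_lit 17, nat_lit 19, nat_lit 21, nat_lit 23, nat_lit 25, nat_lit 27]) (by decide +kernel)

theorem p_le38 : grp 100 ch2_o_G0 ≤ grp 100 ch2_o_E0 :=
  grp_le_of_memB p_hn p_hk ch2_o_E0_ok ch2_o_G0_ok (ws := [nat_lit 1, nat_lit 15, nat_lit 17, nat_lit 19, nat_lit 21, nat_lit 23, nat_lit 25, nat_lit 25, nat_lit 29, nat_lit 31, nat_lit 33, nat_lit 35, nat_lit 37, nat_lit 39]) (by decide +kernel)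

theorem ch2_o_0_eq : grp 100 ch2_o_E0 = grp 100 ch2_o_G0 :=
  le_antisymm p_le37 p_le38

theorem ch2_o_card0 : Nat.card (grp 100 ch2_o_E0) = 128 :=
  by rw [ch2_o_0_eq]; exact ch2_o_0_cardG

theorem ch2_o_stab0 : grp 100 ch2_o_E0 ⊓ MulAction.stabilizer (Equiv.Perm (Fin 100)) (⟨5, by decide⟩ : Fin 100) = grp 100 ch2_o_E1 :=
  by rw [ch2_o_0_eq]; exact ch2_o_0_lev

theorem ch2_o_leO0 : grp 100 ch2_o_E0 ≤ grp 100 ch2_Q :=
  ch2_o_0_eq.le.trans (grp_cons_le ((le_refl (grp 100 ch2_Q)) (p_le8 (toPerm_mem_grp (E := p_V7) (by simp [p_V7])))) ch2_o_leO1)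

theorem p_le39 : grp 100 ch2_Q ≤ grp 100 ch2_o_E0 :=
  grp_le_of_memB p_hn p_hk ch2_o_E0_ok ch2_Q_ok (ws := [nat_lit 3, nat_lit 1, nat_lit 5, nat_lit 7, nat_lit 9, nat_lit 11, nat_lit 13]) (by decide +kernel)

theorem ch2_o_eq : grp 100 ch2_Q = grp 100 ch2_o_E0 :=
  le_antisymm p_le39 ch2_o_leO0

theorem ch2_o_card : Nat.card (grp 100 ch2_Q) = 128 :=
  by rw [ch2_o_eq]; exact ch2_o_card0

noncomputable def ch2_o_ch : Ch := (Ch.cons (nat_lit 5) [nat_lit 1, nat_lit 3, nat_lit 5, nat_lit 7, nat_lit 9, nat_lit 11, nat_lit 13] (Ch.cons (nat_lit 7) [nat_lit 15, nat_lit 17, nat_lit 19] (Ch.cons (nat_lit 15) [nat_lit 21, nat_lit 23, nat_lit 25, nat_lit 27, nat_lit 29] (Ch.cons (nat_lit 1) [nat_lit 31, nat_lit 33, nat_lit 35, nat_lit 37, nat_lit 39] Ch.nil))))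

theorem ch2_o_exact : Ch.Exact 100 ch2_o_E0 ch2_o_ch (grp 100 ch2_o_E0) :=
  Ch.exact (k := 7) (L := (lab 100 7)) p_hn ch2_o_E0_ok (by decide +kernel) (wgrp_le_grp _ _ _) ch2_o_card0.le

theorem ch2_n : grp 100 EvHT.nt_c2_K ≤ Subgroup.normalizer (grp 100 ch2_Q : Set (Equiv.Perm (Fin 100))) :=
  EvG.le_norm p_hn p_hk EvHT.nt_c2_K_ok ch2_Q_ok ch2_o_E0_ok ch2_o_eq.ge (W := [[nat_lit 8487, nat_lit 0x25150f01, nat_lit 0x21251501, nat_lit 35, nat_lit 0x1f250f01, nat_lit 0x26150f, nat_lit 0x21271501], [nat_lit 8487, nat_lit 0x1f211501, nat_lit 0x2327150f01, nat_lit 21, nat_lit 0x1f21150f01, nat_lit 0x1f2115, nat_lit 0x231501], [nat_lit 8487, nat_lit 0x212701, nat_lit 0x1f21150f, nat_lit 0x1f210f01, nat_lit 9729, nat_lit 0x1f2515, nat_lit 0x1f211501], [nat_lit 8487, nat_lit 0x1f271501, nat_lit 0x1f21150f, nat_lit 7973, nat_lit 8463, nat_lit 8485, nat_lit 1], [nat_lit 8487, nat_lit 1, nat_lit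 0x21270f, nat_lit 0x230f01, nat_lit 0x23261501, nat_lit 8981, nat_lit 0x1f211501], [nat_lit 8487, nat_lit 0x1f211501, nat_lit 0x1f27150f, nat_lit 7973, nat_lit 8463, nat_lit 8485, nat_lit 1], [nat_lit 8487, nat_lit 0x1f271501, nat_lit 0x1f21150f, nat_lit 7973, nat_lit 9999, nat_lit 8486, nat_lit 0x212701], [nat_lit 8487, nat_lit 1, nat_lit 0x21270f, nat_lit 0x230f01, nat_lit 0x23261501, nat_lit 8981, nat_lit 0x1f211501]]) (by decide +kernel)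

theorem ch2_x3 : Net.toPerm 100 p_g40 ∈ (grp 100 EvHT.EG) ⊓ Subgroup.centralizer {Net.toPerm 100 EvHT.t_g60} :=
  EvHT.nt_c2_eq.ge (mem_grp_of_memB p_hn p_hk EvHT.nt_c2_K_ok p_g40_ok (w := (nat_lit 0xd0b040109)) (by decide +kernel))

theorem ch2_ord3 : orderOf (Net.toPerm 100 p_g40) = 3 :=
  orderOf_net p_hn p_hk p_g40_ok (by decide) (ps := [3]) (by set_option linter.unusedSimpArgs false in simp [Nat.primeFactorsList_ofNat]) (by decide +kernel)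

theorem ch2_x5 : Net.toPerm 100 p_g41 ∈ (grp 100 EvHT.EG) ⊓ Subgroup.centralizer {Net.toPerm 100 EvHT.t_g60} :=
  EvHT.nt_c2_eq.ge (mem_grp_of_memB p_hn p_hk EvHT.nt_c2_K_ok p_g41_ok (w := (nat_lit 0xb060303010301)) (by decide +kernel))

theorem ch2_ord5 : orderOf (Net.toPerm 100 p_g41) = 5 :=
  orderOf_net p_hn p_hk p_g41_ok (by decide) (ps := [5]) (by set_option linter.unusedSimpArgs false in simp [Nat.primeFactorsList_ofNat]) (by decide +kernel)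

theorem ch2 : IsOfCharacteristicTwo ↥((grp 100 EvHT.EG) ⊓ Subgroup.centralizer {Net.toPerm 100 EvHT.t_g60}) :=
  H44.Ki.charTwo_of_primes (ch2_le.trans EvHT.nt_c2_eq.ge) (EvHT.nt_c2_eq.le.trans ch2_n)
    (IsPGroup.of_card (n := 7) ch2_o_card) fun p hp hd => by
  rw [EvHT.nt_c2_card] at hd ⊢
  have h := (Nat.mem_primeFactorsList (by norm_num)).2 ⟨hp, hd⟩
  simp [Nat.primeFactorsList_ofNat] at h
  rcases h with rfl | rfl | rfl
  · exact .inl rfl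
  · exact .inr ⟨by norm_num, _, ch2_x3, ch2_ord3 ▸ pow_orderOf_eq_one _, _, (toPerm_mem_grp (E := ch2_Q) (List.Mem.tail _ (List.Mem.tail _ (List.Mem.head _)))),
      EvG.ncomm_net (k := 7) p_hn (by decide +kernel)⟩
  · exact .inr ⟨by norm_num, _, ch2_x5, ch2_ord5 ▸ pow_orderOf_eq_one _, _, (toPerm_mem_grp (E := ch2_Q) (List.Mem.tail _ (List.Mem.head _))),
      EvG.ncomm_net (k := 7) p_hn (by decide +kernel)⟩

theorem ch4_le : grp 100 ch4_Q ≤ grp 100 EvHT.nt_c4_K :=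
  grp_le_of_memB p_hn p_hk EvHT.nt_c4_K_ok ch4_Q_ok (ws := [nat_lit 11, nat_lit 3849, nat_lit 3339, nat_lit 592647, nat_lit 3853]) (by decide +kernel)

theorem p_le47 : grp 100 p_V46 ≤ grp 100 ch4_Q :=
  grp_le_of_memB p_hn p_hk ch4_Q_ok p_V46_ok (ws := [nat_lit 7]) (by decide +kernel)

theorem p_le50 : grp 100 p_V49 ≤ grp 100 ch4_Q :=
  grp_le_of_memB p_hn p_hk ch4_Q_ok p_V49_ok (ws := [nat_lit 0x2030803020805070908, nat_lit 0x2030307010a05030208, nat_lit 0x50a0508060207, nat_lit 0x908040a0503080a010502]) (by decide +kernel)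

theorem p_le54 : grp 100 p_V53 ≤ grp 100 p_V49 :=
  grp_le_of_memB p_hn p_hk p_V49_ok p_V53_ok (ws := [nat_lit 5, nat_lit 775, nat_lit 259, nat_lit 7]) (by decide +kernel)

theorem ch4_o_card2 : Nat.card (grp 100 ch4_o_E2) = 1 :=
  card_grp_nil 100

theorem ch4_o_leO2 : grp 100 ch4_o_E2 ≤ grp 100 ch4_Q :=
  grp_nil_le _

theorem ch4_o_1_fix : grp 100 ch4_o_E2 ≤ MulAction.stabilizer (Equiv.Perm (Fin 100)) (⟨3, by decide⟩ : Fin 100) :=
  grp_le_stab ch4_o_E2_ok (by decide : 3 < 100) (by decide +kernel)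

noncomputable def ch4_o_1_ts : List ℕ := [nat_lit 0, nat_lit 1, nat_lit 3, nat_lit 5, nat_lit 7, nat_lit 259, nat_lit 261, nat_lit 263, nat_lit 773, nat_lit 775, nat_lit 1287, nat_lit 66309, nat_lit 66311, nat_lit 66823, nat_lit 197895, nat_lit 0x1030507]

noncomputable def ch4_o_1_ds : List ℕ := [nat_lit 3, nat_lit 42, nat_lit 70, nat_lit 84, nat_lit 32, nat_lit 30, nat_lit 80, nat_lit 44, nat_lit 7, nat_lit 20, nat_lit 19, nat_lit 53, nat_lit 94, nat_lit 45, nat_lit 21, nat_lit 63]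

theorem ch4_o_1_dist : Dist 100 ch4_o_E2 ch4_o_G1 (⟨3, by decide⟩ : Fin 100) ch4_o_1_ts ch4_o_1_ds :=
  dist_of_distB (k := 4) p_hn ch4_o_E2_ok ch4_o_G1_ok (by decide : 3 < 100) (by decide +kernel)

noncomputable def ch4_o_1_sl0 : SL := (SL.cons (nat_lit 1) (nat_lit 42) Ch.nil [] (SL.cons (nat_lit 3) (nat_lit 70) Ch.nil [] (SL.cons (nat_lit 5) (nat_lit 84) Ch.nil [] (SL.cons (nat_lit 7) (nat_lit 32) Ch.nil [] (SL.cons (nat_lit 259) (nat_lit 30) Ch.nil [] (SL.cons (nat_lit 261) (nat_lit 80) Ch.nil [] (SL.cons (nat_lit 263) (nat_lit 44) Ch.nil [] (SL.cons (nat_lit 773) (nat_lit 7) Ch.nil [] (SL.cons (nat_lit 775) (nat_lit 20) Ch.nil [] (SL.cons (nat_lit 1287) (nat_lit 19) Ch.nil [] (SL.cons (nat_lit 66309) (nat_lit 53) Ch.nil [] (SL.cons (nat_lit 66311) (nat_lit 94) Ch.nil [] (SL.cons (nat_lit 66823) (nat_lit 45) Ch.nil [] (SL.cons (nat_lit 197895) (nat_lit 21) Ch.nil [] (SL.cons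 (nat_lit 0x1030507) (nat_lit 63) Ch.nil [] SL.nil)))))))))))))))

theorem ch4_o_1_sc0 : SCs 100 ch4_o_E2 ch4_o_G1 (⟨3, by decide⟩ : Fin 100) (SL.words ch4_o_1_sl0) :=
  scs_of_ok p_hn (det_lab p_hk ⊤) ch4_o_E2_ok ch4_o_G1_ok le_top le_top (by decide : 3 < 100) ch4_o_1_fix ch4_o_card2.le (by decide +kernel)

noncomputable def ch4_o_1_l : List ℕ := (appL (SL.words ch4_o_1_sl0) [])

theorem ch4_o_1_scs : SCs 100 ch4_o_E2 ch4_o_G1 (⟨3, by decide⟩ : Fin 100) ch4_o_1_l :=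
  (SCs.append ch4_o_1_sc0 SCs.nil)

noncomputable def ch4_o_1_rl0_0 : RL := (RL.cons (nat_lit 0) (nat_lit 3) (nat_lit 0) (nat_lit 0) (nat_lit 1) (nat_lit 0) (RL.cons (nat_lit 1) (nat_lit 42) (nat_lit 0) (nat_lit 0) (nat_lit 0) (nat_lit 0) (RL.cons (nat_lit 2) (nat_lit 70) (nat_lit 0) (nat_lit 0) (nat_lit 5) (nat_lit 0) (RL.cons (nat_lit 3) (nat_lit 84) (nat_lit 0) (nat_lit 0) (nat_lit 6) (nat_lit 0) (RL.cons (nat_lit 4) (nat_lit 32) (nat_lit 0) (nat_lit 0) (nat_lit 7) (nat_lit 0) (RL.cons (nat_lit 5) (nat_lit 30) (nat_lit 0) (nat_lit 0) (nat_lit 2) (nat_lit 0) (RL.cons (nat_lit 6) (nat_lit 80) (nat_lit 0) (nat_lit 0) (nat_lit 3) (nat_lit 0) (RL.cons (nat_lit 7) (nat_lit 44) (nat_lit 0) (nat_lit 0) (nat_lit 4) (nat_lit 0) (RL.cons (nat_lit 8) (nat_lit 7) (nat_lit 0) (nat_lit 0) (nat_lit 11) (nat_lit 0) (RL.cons (nat_lit 9) (nat_lit 20) (nat_lit 0) (nat_lit 0) (nat_lit 12) (nat_lit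 0) (RL.cons (nat_lit 10) (nat_lit 19) (nat_lit 0) (nat_lit 0) (nat_lit 13) (nat_lit 0) (RL.cons (nat_lit 11) (nat_lit 53) (nat_lit 0) (nat_lit 0) (nat_lit 8) (nat_lit 0) (RL.cons (nat_lit 12) (nat_lit 94) (nat_lit 0) (nat_lit 0) (nat_lit 9) (nat_lit 0) (RL.cons (nat_lit 13) (nat_lit 45) (nat_lit 0) (nat_lit 0) (nat_lit 10) (nat_lit 0) (RL.cons (nat_lit 14) (nat_lit 21) (nat_lit 0) (nat_lit 0) (nat_lit 15) (nat_lit 0) (RL.cons (nat_lit 15) (nat_lit 63) (nat_lit 0) (nat_lit 0) (nat_lit 14) (nat_lit 0) RL.nil))))))))))))))))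

theorem ch4_o_1_good0_0 : GoodSet 100 ch4_o_E2 ch4_o_G1 (⟨3, by decide⟩ : Fin 100) ch4_o_1_ts (nat_lit 1) (RL.pts ch4_o_1_rl0_0) :=
  goodSet_of_ok p_hn (det_lab p_hk ⊤) ch4_o_E2_ok ch4_o_G1_ok le_top le_top (by decide : 3 < 100) (sepAt_lab p_hk _) (by decide +kernel)

theorem ch4_o_1_step0 : Step 100 ch4_o_E2 ch4_o_G1 ch4_o_1_ts (2 * 0 + 1) :=
  step_of_cover ch4_o_E2_ok ch4_o_1_dist (by decide +kernel) ch4_o_1_scs (by decide +kernel) ch4_o_1_good0_0 (kw := [])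
    (conj_mem_of_scs ch4_o_E2_ok ch4_o_G1_ok (by decide : 3 < 100) ch4_o_1_scs (c := 0) (d := 42) (by decide +kernel)) (by decide +kernel)

noncomputable def ch4_o_1_rl1_0 : RL := (RL.cons (nat_lit 0) (nat_lit 3) (nat_lit 0) (nat_lit 0) (nat_lit 2) (nat_lit 0) (RL.cons (nat_lit 1) (nat_lit 42) (nat_lit 0) (nat_lit 0) (nat_lit 5) (nat_lit 0) (RL.cons (nat_lit 2) (nat_lit 70) (nat_lit 0) (nat_lit 0) (nat_lit 0) (nat_lit 0) (RL.cons (nat_lit 3) (nat_lit 84) (nat_lit 0) (nat_lit 0) (nat_lit 8) (nat_lit 0) (RL.cons (nat_lit 4) (nat_lit 32) (nat_lit 0) (nat_lit 0) (nat_lit 9) (nat_lit 0) (RL.cons (nat_lit 5) (nat_lit 30) (nat_lit 0) (nat_lit 0) (nat_lit 1) (nat_lit 0) (RL.cons (nat_lit 6) (nat_lit 80) (nat_lit 0) (nat_lit 0) (nat_lit 11) (nat_lit 0) (RL.cons (nat_lit 7) (nat_lit 44) (nat_lit 0) (nat_lit 0) (nat_lit 12) (nat_lit 0) (RL.cons (nat_lit 8) (nat_lit 7) (nat_lit 0) (nat_lit 0)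 (nat_lit 3) (nat_lit 0) (RL.cons (nat_lit 9) (nat_lit 20) (nat_lit 0) (nat_lit 0) (nat_lit 4) (nat_lit 0) (RL.cons (nat_lit 10) (nat_lit 19) (nat_lit 0) (nat_lit 0) (nat_lit 14) (nat_lit 0) (RL.cons (nat_lit 11) (nat_lit 53) (nat_lit 0) (nat_lit 0) (nat_lit 6) (nat_lit 0) (RL.cons (nat_lit 12) (nat_lit 94) (nat_lit 0) (nat_lit 0) (nat_lit 7) (nat_lit 0) (RL.cons (nat_lit 13) (nat_lit 45) (nat_lit 0) (nat_lit 0) (nat_lit 15) (nat_lit 0) (RL.cons (nat_lit 14) (nat_lit 21) (nat_lit 0) (nat_lit 0) (nat_lit 10) (nat_lit 0) (RL.cons (nat_lit 15) (nat_lit 63) (nat_lit 0) (nat_lit 0) (nat_lit 13) (nat_lit 0) RL.nil))))))))))))))))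

theorem ch4_o_1_good1_0 : GoodSet 100 ch4_o_E2 ch4_o_G1 (⟨3, by decide⟩ : Fin 100) ch4_o_1_ts (nat_lit 3) (RL.pts ch4_o_1_rl1_0) :=
  goodSet_of_ok p_hn (det_lab p_hk ⊤) ch4_o_E2_ok ch4_o_G1_ok le_top le_top (by decide : 3 < 100) (sepAt_lab p_hk _) (by decide +kernel)

theorem ch4_o_1_step1 : Step 100 ch4_o_E2 ch4_o_G1 ch4_o_1_ts (2 * 1 + 1) :=
  step_of_cover ch4_o_E2_ok ch4_o_1_dist (by decide +kernel) ch4_o_1_scs (by decide +kernel) ch4_o_1_good1_0 (kw := [])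
    (conj_mem_of_scs ch4_o_E2_ok ch4_o_G1_ok (by decide : 3 < 100) ch4_o_1_scs (c := 1) (d := 70) (by decide +kernel)) (by decide +kernel)

noncomputable def ch4_o_1_rl2_0 : RL := (RL.cons (nat_lit 0) (nat_lit 3) (nat_lit 0) (nat_lit 0) (nat_lit 3) (nat_lit 0) (RL.cons (nat_lit 1) (nat_lit 42) (nat_lit 0) (nat_lit 0) (nat_lit 6) (nat_lit 0) (RL.cons (nat_lit 2) (nat_lit 70) (nat_lit 0) (nat_lit 0) (nat_lit 8) (nat_lit 0) (RL.cons (nat_lit 3) (nat_lit 84) (nat_lit 0) (nat_lit 0) (nat_lit 0) (nat_lit 0) (RL.cons (nat_lit 4) (nat_lit 32) (nat_lit 0) (nat_lit 0) (nat_lit 10) (nat_lit 0) (RL.cons (nat_lit 5) (nat_lit 30) (nat_lit 0) (nat_lit 0) (nat_lit 11) (nat_lit 0) (RL.cons (nat_lit 6) (nat_lit 80) (nat_lit 0) (nat_lit 0) (nat_lit 1) (nat_lit 0) (RL.cons (nat_lit 7) (nat_lit 44) (nat_lit 0) (nat_lit 0) (nat_lit 13) (nat_lit 0) (RL.cons (nat_lit 8) (nat_lit 7) (nat_lit 0) (nat_lit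 0) (nat_lit 2) (nat_lit 0) (RL.cons (nat_lit 9) (nat_lit 20) (nat_lit 0) (nat_lit 0) (nat_lit 14) (nat_lit 0) (RL.cons (nat_lit 10) (nat_lit 19) (nat_lit 0) (nat_lit 0) (nat_lit 4) (nat_lit 0) (RL.cons (nat_lit 11) (nat_lit 53) (nat_lit 0) (nat_lit 0) (nat_lit 5) (nat_lit 0) (RL.cons (nat_lit 12) (nat_lit 94) (nat_lit 0) (nat_lit 0) (nat_lit 15) (nat_lit 0) (RL.cons (nat_lit 13) (nat_lit 45) (nat_lit 0) (nat_lit 0) (nat_lit 7) (nat_lit 0) (RL.cons (nat_lit 14) (nat_lit 21) (nat_lit 0) (nat_lit 0) (nat_lit 9) (nat_lit 0) (RL.cons (nat_lit 15) (nat_lit 63) (nat_lit 0) (nat_lit 0) (nat_lit 12) (nat_lit 0) RL.nil))))))))))))))))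

theorem ch4_o_1_good2_0 : GoodSet 100 ch4_o_E2 ch4_o_G1 (⟨3, by decide⟩ : Fin 100) ch4_o_1_ts (nat_lit 5) (RL.pts ch4_o_1_rl2_0) :=
  goodSet_of_ok p_hn (det_lab p_hk ⊤) ch4_o_E2_ok ch4_o_G1_ok le_top le_top (by decide : 3 < 100) (sepAt_lab p_hk _) (by decide +kernel)

theorem ch4_o_1_step2 : Step 100 ch4_o_E2 ch4_o_G1 ch4_o_1_ts (2 * 2 + 1) :=
  step_of_cover ch4_o_E2_ok ch4_o_1_dist (by decide +kernel) ch4_o_1_scs (by decide +kernel) ch4_o_1_good2_0 (kw := [])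
    (conj_mem_of_scs ch4_o_E2_ok ch4_o_G1_ok (by decide : 3 < 100) ch4_o_1_scs (c := 2) (d := 84) (by decide +kernel)) (by decide +kernel)

noncomputable def ch4_o_1_rl3_0 : RL := (RL.cons (nat_lit 0) (nat_lit 3) (nat_lit 0) (nat_lit 0) (nat_lit 4) (nat_lit 0) (RL.cons (nat_lit 1) (nat_lit 42) (nat_lit 0) (nat_lit 0) (nat_lit 7) (nat_lit 0) (RL.cons (nat_lit 2) (nat_lit 70) (nat_lit 0) (nat_lit 0) (nat_lit 9) (nat_lit 0) (RL.cons (nat_lit 3) (nat_lit 84) (nat_lit 0) (nat_lit 0) (nat_lit 10) (nat_lit 0) (RL.cons (nat_lit 4) (nat_lit 32) (nat_lit 0) (nat_lit 0) (nat_lit 0) (nat_lit 0) (RL.cons (nat_lit 5) (nat_lit 30) (nat_lit 0) (nat_lit 0) (nat_lit 12) (nat_lit 0) (RL.cons (nat_lit 6) (nat_lit 80) (nat_lit 0) (nat_lit 0) (nat_lit 13) (nat_lit 0) (RL.cons (nat_lit 7) (nat_lit 44) (nat_lit 0) (nat_lit 0) (nat_lit 1) (nat_lit 0) (RL.cons (nat_lit 8) (nat_lit 7) (nat_lit 0) (nat_lit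 0) (nat_lit 14) (nat_lit 0) (RL.cons (nat_lit 9) (nat_lit 20) (nat_lit 0) (nat_lit 0) (nat_lit 2) (nat_lit 0) (RL.cons (nat_lit 10) (nat_lit 19) (nat_lit 0) (nat_lit 0) (nat_lit 3) (nat_lit 0) (RL.cons (nat_lit 11) (nat_lit 53) (nat_lit 0) (nat_lit 0) (nat_lit 15) (nat_lit 0) (RL.cons (nat_lit 12) (nat_lit 94) (nat_lit 0) (nat_lit 0) (nat_lit 5) (nat_lit 0) (RL.cons (nat_lit 13) (nat_lit 45) (nat_lit 0) (nat_lit 0) (nat_lit 6) (nat_lit 0) (RL.cons (nat_lit 14) (nat_lit 21) (nat_lit 0) (nat_lit 0) (nat_lit 8) (nat_lit 0) (RL.cons (nat_lit 15) (nat_lit 63) (nat_lit 0) (nat_lit 0) (nat_lit 11) (nat_lit 0) RL.nil))))))))))))))))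

theorem ch4_o_1_good3_0 : GoodSet 100 ch4_o_E2 ch4_o_G1 (⟨3, by decide⟩ : Fin 100) ch4_o_1_ts (nat_lit 7) (RL.pts ch4_o_1_rl3_0) :=
  goodSet_of_ok p_hn (det_lab p_hk ⊤) ch4_o_E2_ok ch4_o_G1_ok le_top le_top (by decide : 3 < 100) (sepAt_lab p_hk _) (by decide +kernel)

theorem ch4_o_1_step3 : Step 100 ch4_o_E2 ch4_o_G1 ch4_o_1_ts (2 * 3 + 1) :=
  step_of_cover ch4_o_E2_ok ch4_o_1_dist (by decide +kernel) ch4_o_1_scs (by decide +kernel) ch4_o_1_good3_0 (kw := [])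
    (conj_mem_of_scs ch4_o_E2_ok ch4_o_G1_ok (by decide : 3 < 100) ch4_o_1_scs (c := 3) (d := 32) (by decide +kernel)) (by decide +kernel)

theorem ch4_o_1_lev : grp 100 ch4_o_G1 ⊓ MulAction.stabilizer (Equiv.Perm (Fin 100)) (⟨3, by decide⟩ : Fin 100) = grp 100 ch4_o_E2 :=
  sims_level (gs := p_V53) rfl (by decide) ch4_o_1_fix ch4_o_1_dist (forall_lt_succ' (forall_lt_succ' (forall_lt_succ' (forall_lt_one ch4_o_1_step0) ch4_o_1_step1) ch4_o_1_step2) ch4_o_1_step3)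

theorem ch4_o_1_cardG : Nat.card (grp 100 ch4_o_G1) = 16 :=
  card_of_level p_hn ch4_o_G1_ok (by decide : 3 < 100) ch4_o_1_lev ch4_o_card2 (m := 16) (by decide +kernel)

theorem p_le55 : grp 100 ch4_o_E1 ≤ grp 100 ch4_o_G1 :=
  grp_le_of_memB p_hn p_hk ch4_o_G1_ok ch4_o_E1_ok (ws := [nat_lit 1, nat_lit 3, nat_lit 5, nat_lit 7, nat_lit 197895, nat_lit 775]) (by decide +kernel)

theorem p_le56 : grp 100 ch4_o_G1 ≤ grp 100 ch4_o_E1 :=
  grp_le_of_memB p_hn p_hk ch4_o_E1_ok ch4_o_G1_ok (ws := [nat_lit 1, nat_lit 3, nat_lit 5, nat_lit 7]) (by decide +kernel)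

theorem ch4_o_1_eq : grp 100 ch4_o_E1 = grp 100 ch4_o_G1 :=
  le_antisymm p_le55 p_le56

theorem ch4_o_card1 : Nat.card (grp 100 ch4_o_E1) = 16 :=
  by rw [ch4_o_1_eq]; exact ch4_o_1_cardG

theorem ch4_o_stab1 : grp 100 ch4_o_E1 ⊓ MulAction.stabilizer (Equiv.Perm (Fin 100)) (⟨3, by decide⟩ : Fin 100) = grp 100 ch4_o_E2 :=
  by rw [ch4_o_1_eq]; exact ch4_o_1_lev

theorem ch4_o_leO1 : grp 100 ch4_o_E1 ≤ grp 100 ch4_Q :=
  ch4_o_1_eq.le.trans (grp_cons_le ((p_le50.trans (le_refl (grp 100 ch4_Q))) (p_le54 (toPerm_mem_grp (E := p_V53) (by simp [p_V53])))) (grp_cons_le ((p_le50.trans (le_refl (grp 100 ch4_Q))) (p_le54 (toPerm_mem_grp (E := p_V53) (by simp [p_V53])))) (grp_cons_le ((p_le50.trans (le_refl (grp 100 ch4_Q))) (p_le54 (toPerm_mem_grp (E := p_V53) (by simp [p_V53])))) (grp_cons_le ((p_le50.trans (le_refl (grp 100 ch4_Q))) (p_le54 (toPerm_mem_grp (E := p_V53) (by simp [p_V53]))))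 ch4_o_leO2))))

theorem ch4_o_0_fix : grp 100 ch4_o_E1 ≤ MulAction.stabilizer (Equiv.Perm (Fin 100)) (⟨11, by decide⟩ : Fin 100) :=
  grp_le_stab ch4_o_E1_ok (by decide : 11 < 100) (by decide +kernel)

noncomputable def ch4_o_0_ts : List ℕ := [nat_lit 0, nat_lit 1]

noncomputable def ch4_o_0_ds : List ℕ := [nat_lit 11, nat_lit 97]

theorem ch4_o_0_dist : Dist 100 ch4_o_E1 ch4_o_G0 (⟨11, by decide⟩ : Fin 100) ch4_o_0_ts ch4_o_0_ds :=
  dist_of_distB (k := 1) p_hn ch4_o_E1_ok ch4_o_G0_ok (by decide : 11 < 100) (by decide +kernel)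

noncomputable def ch4_o_0_sl0 : SL := (SL.cons (nat_lit 1) (nat_lit 97) (Ch.cons (nat_lit 3) [nat_lit 259, nat_lit 1, nat_lit 261, nat_lit 7] Ch.nil) [nat_lit 259, nat_lit 1, nat_lit 261, nat_lit 7] SL.nil)

theorem ch4_o_0_sc0 : SCs 100 ch4_o_E1 ch4_o_G0 (⟨11, by decide⟩ : Fin 100) (SL.words ch4_o_0_sl0) :=
  scs_of_ok p_hn (det_lab p_hk ⊤) ch4_o_E1_ok ch4_o_G0_ok le_top le_top (by decide : 11 < 100) ch4_o_0_fix ch4_o_card1.le (by decide +kernel)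

noncomputable def ch4_o_0_l : List ℕ := (appL (SL.words ch4_o_0_sl0) [])

theorem ch4_o_0_scs : SCs 100 ch4_o_E1 ch4_o_G0 (⟨11, by decide⟩ : Fin 100) ch4_o_0_l :=
  (SCs.append ch4_o_0_sc0 SCs.nil)

noncomputable def ch4_o_0_rl0_0 : RL := (RL.cons (nat_lit 0) (nat_lit 11) (nat_lit 0) (nat_lit 0) (nat_lit 1) (nat_lit 0) (RL.cons (nat_lit 1) (nat_lit 97) (nat_lit 0) (nat_lit 0) (nat_lit 0) (nat_lit 0) RL.nil))

theorem ch4_o_0_good0_0 : GoodSet 100 ch4_o_E1 ch4_o_G0 (⟨11, by decide⟩ : Fin 100) ch4_o_0_ts (nat_lit 1) (RL.pts ch4_o_0_rl0_0) :=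
  goodSet_of_ok p_hn (det_lab p_hk ⊤) ch4_o_E1_ok ch4_o_G0_ok le_top le_top (by decide : 11 < 100) (sepAt_lab p_hk _) (by decide +kernel)

theorem ch4_o_0_step0 : Step 100 ch4_o_E1 ch4_o_G0 ch4_o_0_ts (2 * 0 + 1) :=
  step_of_cover ch4_o_E1_ok ch4_o_0_dist (by decide +kernel) ch4_o_0_scs (by decide +kernel) ch4_o_0_good0_0 (kw := [nat_lit 259, nat_lit 1, nat_lit 261, nat_lit 7])
    (conj_mem_of_scs ch4_o_E1_ok ch4_o_G0_ok (by decide : 11 < 100) ch4_o_0_scs (c := 0) (d := 97) (by decide +kernel)) (by decide +kernel)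

theorem ch4_o_0_lev : grp 100 ch4_o_G0 ⊓ MulAction.stabilizer (Equiv.Perm (Fin 100)) (⟨11, by decide⟩ : Fin 100) = grp 100 ch4_o_E1 :=
  sims_level (gs := p_V46) rfl (by decide) ch4_o_0_fix ch4_o_0_dist (forall_lt_one ch4_o_0_step0)

theorem ch4_o_0_cardG : Nat.card (grp 100 ch4_o_G0) = 32 :=
  card_of_level p_hn ch4_o_G0_ok (by decide : 11 < 100) ch4_o_0_lev ch4_o_card1 (m := 2) (by decide +kernel)

theorem p_le57 : grp 100 ch4_o_E0 ≤ grp 100 ch4_o_G0 :=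
  grp_le_of_memB p_hn p_hk ch4_o_G0_ok ch4_o_E0_ok (ws := [nat_lit 1, nat_lit 779, nat_lit 781, nat_lit 1287, nat_lit 3, nat_lit 5, nat_lit 7, nat_lit 9, nat_lit 11, nat_lit 13]) (by decide +kernel)

theorem p_le58 : grp 100 ch4_o_G0 ≤ grp 100 ch4_o_E0 :=
  grp_le_of_memB p_hn p_hk ch4_o_E0_ok ch4_o_G0_ok (ws := [nat_lit 1, nat_lit 9, nat_lit 11, nat_lit 13, nat_lit 15, nat_lit 17, nat_lit 19]) (by decide +kernel)

theorem ch4_o_0_eq : grp 100 ch4_o_E0 = grp 100 ch4_o_G0 :=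
  le_antisymm p_le57 p_le58

theorem ch4_o_card0 : Nat.card (grp 100 ch4_o_E0) = 32 :=
  by rw [ch4_o_0_eq]; exact ch4_o_0_cardG

theorem ch4_o_stab0 : grp 100 ch4_o_E0 ⊓ MulAction.stabilizer (Equiv.Perm (Fin 100)) (⟨11, by decide⟩ : Fin 100) = grp 100 ch4_o_E1 :=
  by rw [ch4_o_0_eq]; exact ch4_o_0_lev

theorem ch4_o_leO0 : grp 100 ch4_o_E0 ≤ grp 100 ch4_Q :=
  ch4_o_0_eq.le.trans (grp_cons_le ((le_refl (grp 100 ch4_Q)) (p_le47 (toPerm_mem_grp (E := p_V46) (by simp [p_V46])))) ch4_o_leO1)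

theorem p_le59 : grp 100 ch4_Q ≤ grp 100 ch4_o_E0 :=
  grp_le_of_memB p_hn p_hk ch4_o_E0_ok ch4_Q_ok (ws := [nat_lit 3, nat_lit 5, nat_lit 7, nat_lit 1, nat_lit 15]) (by decide +kernel)

theorem ch4_o_eq : grp 100 ch4_Q = grp 100 ch4_o_E0 :=
  le_antisymm p_le59 ch4_o_leO0

theorem ch4_o_card : Nat.card (grp 100 ch4_Q) = 32 :=
  by rw [ch4_o_eq]; exact ch4_o_card0

noncomputable def ch4_o_ch : Ch := (Ch.cons (nat_lit 11) [nat_lit 1, nat_lit 3, nat_lit 5, nat_lit 7] (Ch.cons (nat_lit 3) [nat_lit 9, nat_lit 11, nat_lit 13, nat_lit 15, nat_lit 17, nat_lit 19] Ch.nil))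

theorem ch4_o_exact : Ch.Exact 100 ch4_o_E0 ch4_o_ch (grp 100 ch4_o_E0) :=
  Ch.exact (k := 7) (L := (lab 100 7)) p_hn ch4_o_E0_ok (by decide +kernel) (wgrp_le_grp _ _ _) ch4_o_card0.le

theorem ch4_n : grp 100 EvHT.nt_c4_K ≤ Subgroup.normalizer (grp 100 ch4_Q : Set (Equiv.Perm (Fin 100))) :=
  EvG.le_norm p_hn p_hk EvHT.nt_c4_K_ok ch4_Q_ok ch4_o_E0_ok ch4_o_eq.ge (W := [[nat_lit 2829, nat_lit 2317, nat_lit 11, nat_lit 4865, nat_lit 17], [nat_lit 9, nat_lit 15, nat_lit 2321, nat_lit 4865, nat_lit 13], [nat_lit 2829, nat_lit 2317, nat_lit 9, nat_lit 593665, nat_lit 592657], [nat_lit 2321, nat_lit 2323, nat_lit 2829, nat_lit 1, nat_lit 15], [nat_lit 2321, nat_lit 2323, nat_lit 2829, nat_lit 1, nat_lit 15], [nat_lit 2321, nat_lit 2323, nat_lit 2829, nat_lit 1, nat_lit 15], [nat_lit 2321, nat_lit 2323, nat_lit 2829, nat_lit 1, nat_lit 15], [nat_lit 2321, nat_lit 2323, nat_lit 2829,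 nat_lit 1, nat_lit 15]]) (by decide +kernel)

theorem ch4_x3 : Net.toPerm 100 p_g60 ∈ (grp 100 EvHT.EG) ⊓ Subgroup.centralizer {Net.toPerm 100 EvHT.t_g103} :=
  EvHT.nt_c4_eq.ge (mem_grp_of_memB p_hn p_hk EvHT.nt_c4_K_ok p_g60_ok (w := (nat_lit 0xf09030101)) (by decide +kernel))

theorem ch4_ord3 : orderOf (Net.toPerm 100 p_g60) = 3 :=
  orderOf_net p_hn p_hk p_g60_ok (by decide) (ps := [3]) (by set_option linter.unusedSimpArgs false in simp [Nat.primeFactorsList_ofNat]) (by decide +kernel)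

theorem ch4_x5 : Net.toPerm 100 p_g61 ∈ (grp 100 EvHT.EG) ⊓ Subgroup.centralizer {Net.toPerm 100 EvHT.t_g103} :=
  EvHT.nt_c4_eq.ge (mem_grp_of_memB p_hn p_hk EvHT.nt_c4_K_ok p_g61_ok (w := (nat_lit 1794)) (by decide +kernel))

theorem ch4_ord5 : orderOf (Net.toPerm 100 p_g61) = 5 :=
  orderOf_net p_hn p_hk p_g61_ok (by decide) (ps := [5]) (by set_option linter.unusedSimpArgs false in simp [Nat.primeFactorsList_ofNat]) (by decide +kernel)

theorem ch4 : IsOfCharacteristicTwo ↥((grp 100 EvHT.EG) ⊓ Subgroup.centralizer {Net.toPerm 100 EvHT.t_g103}) :=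
  H44.Ki.charTwo_of_primes (ch4_le.trans EvHT.nt_c4_eq.ge) (EvHT.nt_c4_eq.le.trans ch4_n)
    (IsPGroup.of_card (n := 5) ch4_o_card) fun p hp hd => by
  rw [EvHT.nt_c4_card] at hd ⊢
  have h := (Nat.mem_primeFactorsList (by norm_num)).2 ⟨hp, hd⟩
  simp [Nat.primeFactorsList_ofNat] at h
  rcases h with rfl | rfl | rfl
  · exact .inl rfl
  · exact .inr ⟨by norm_num, _, ch4_x3, ch4_ord3 ▸ pow_orderOf_eq_one _, _, (toPerm_mem_grp (E := ch4_Q) (List.Mem.tail _ (List.Mem.head _))),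
      EvG.ncomm_net (k := 7) p_hn (by decide +kernel)⟩
  · exact .inr ⟨by norm_num, _, ch4_x5, ch4_ord5 ▸ pow_orderOf_eq_one _, _, (toPerm_mem_grp (E := ch4_Q) (List.Mem.head _)),
      EvG.ncomm_net (k := 7) p_hn (by decide +kernel)⟩

theorem p_le65 : grp 100 p_V64 ≤ grp 100 L1 :=
  grp_le_of_memB p_hn p_hk L1_ok p_V64_ok (ws := [nat_lit 1]) (by decide +kernel)

theorem p_le69 : grp 100 p_V68 ≤ grp 100 L1 :=
  grp_le_of_memB p_hn p_hk L1_ok p_V68_ok (ws := [nat_lit 0x40202030204, nat_lit 66307]) (by decide +kernel)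

theorem p_le72 : grp 100 p_V71 ≤ grp 100 p_V68 :=
  grp_le_of_memB p_hn p_hk p_V68_ok p_V71_ok (ws := [nat_lit 4]) (by decide +kernel)

theorem p_le77 : grp 100 p_V76 ≤ grp 100 p_V68 :=
  grp_le_of_memB p_hn p_hk p_V68_ok p_V76_ok (ws := [nat_lit 0x4020402020204, nat_lit 0x404040204040101, nat_lit 0x10402030202]) (by decide +kernel)

theorem p_le79 : grp 100 p_V78 ≤ grp 100 p_V76 :=
  grp_le_of_memB p_hn p_hk p_V76_ok p_V78_ok (ws := [nat_lit 3]) (by decide +kernel)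

theorem p_le84 : grp 100 p_V83 ≤ grp 100 p_V76 :=
  grp_le_of_memB p_hn p_hk p_V76_ok p_V83_ok (ws := [nat_lit 0x205030301, nat_lit 0x206030204, nat_lit 0x405020405030202]) (by decide +kernel)

theorem p_le86 : grp 100 p_V85 ≤ grp 100 p_V83 :=
  grp_le_of_memB p_hn p_hk p_V83_ok p_V85_ok (ws := [nat_lit 5]) (by decide +kernel)

theorem p_le93 : grp 100 p_V92 ≤ grp 100 p_V83 :=
  grp_le_of_memB p_hn p_hk p_V83_ok p_V92_ok (ws := [nat_lit 0x50105030104020301, nat_lit 0x303050404020604, nat_lit 0x103050503060306040104, nat_lit 0x3010501050505, nat_lit 0x20305010406]) (by decide +kernel)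

theorem p_le98 : grp 100 p_V97 ≤ grp 100 p_V92 :=
  grp_le_of_memB p_hn p_hk p_V92_ok p_V97_ok (ws := [nat_lit 777, nat_lit 5, nat_lit 263, nat_lit 66311]) (by decide +kernel)

theorem L1o_card5 : Nat.card (grp 100 L1o_E5) = 1 :=
  card_grp_nil 100

theorem L1o_leO5 : grp 100 L1o_E5 ≤ grp 100 L1 :=
  grp_nil_le _

theorem L1o_4_fix : grp 100 L1o_E5 ≤ MulAction.stabilizer (Equiv.Perm (Fin 100)) (⟨5, by decide⟩ : Fin 100) :=
  grp_le_stab L1o_E5_ok (by decide : 5 < 100) (by decide +kernel)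

noncomputable def L1o_4_ts : List ℕ := [nat_lit 0, nat_lit 1, nat_lit 3, nat_lit 5, nat_lit 7, nat_lit 259, nat_lit 261, nat_lit 263, nat_lit 773, nat_lit 775, nat_lit 1287, nat_lit 66309, nat_lit 66311, nat_lit 66823, nat_lit 197895, nat_lit 0x1030507]

noncomputable def L1o_4_ds : List ℕ := [nat_lit 5, nat_lit 11, nat_lit 72, nat_lit 74, nat_lit 97, nat_lit 14, nat_lit 43, nat_lit 18, nat_lit 67, nat_lit 68, nat_lit 77, nat_lit 82, nat_lit 85, nat_lit 57, nat_lit 38, nat_lit 78]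

theorem L1o_4_dist : Dist 100 L1o_E5 L1o_G4 (⟨5, by decide⟩ : Fin 100) L1o_4_ts L1o_4_ds :=
  dist_of_distB (k := 4) p_hn L1o_E5_ok L1o_G4_ok (by decide : 5 < 100) (by decide +kernel)

noncomputable def L1o_4_sl0 : SL := (SL.cons (nat_lit 1) (nat_lit 11) Ch.nil [] (SL.cons (nat_lit 3) (nat_lit 72) Ch.nil [] (SL.cons (nat_lit 5) (nat_lit 74) Ch.nil [] (SL.cons (nat_lit 7) (nat_lit 97) Ch.nil [] (SL.cons (nat_lit 259) (nat_lit 14) Ch.nil [] (SL.cons (nat_lit 261) (nat_lit 43) Ch.nil [] (SL.cons (nat_lit 263) (nat_lit 18) Ch.nil [] (SL.cons (nat_lit 773) (nat_lit 67) Ch.nil [] (SL.cons (nat_lit 775) (nat_lit 68) Ch.nil [] (SL.cons (nat_lit 1287) (nat_lit 77) Ch.nil [] (SL.cons (nat_lit 66309) (nat_lit 82) Ch.nil [] (SL.cons (nat_lit 66311) (nat_lit 85) Ch.nil [] (SL.cons (nat_lit 66823) (nat_lit 57) Ch.nil [] (SL.cons (nat_lit 197895) (nat_lit 38) Ch.nil [] (SL.cons (nat_lit 0x1030507)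 (nat_lit 78) Ch.nil [] SL.nil)))))))))))))))

theorem L1o_4_sc0 : SCs 100 L1o_E5 L1o_G4 (⟨5, by decide⟩ : Fin 100) (SL.words L1o_4_sl0) :=
  scs_of_ok p_hn (det_lab p_hk ⊤) L1o_E5_ok L1o_G4_ok le_top le_top (by decide : 5 < 100) L1o_4_fix L1o_card5.le (by decide +kernel)

noncomputable def L1o_4_l : List ℕ := (appL (SL.words L1o_4_sl0) [])

theorem L1o_4_scs : SCs 100 L1o_E5 L1o_G4 (⟨5, by decide⟩ : Fin 100) L1o_4_l :=
  (SCs.append L1o_4_sc0 SCs.nil)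

noncomputable def L1o_4_rl0_0 : RL := (RL.cons (nat_lit 0) (nat_lit 5) (nat_lit 0) (nat_lit 0) (nat_lit 1) (nat_lit 0) (RL.cons (nat_lit 1) (nat_lit 11) (nat_lit 0) (nat_lit 0) (nat_lit 0) (nat_lit 0) (RL.cons (nat_lit 2) (nat_lit 72) (nat_lit 0) (nat_lit 0) (nat_lit 5) (nat_lit 0) (RL.cons (nat_lit 3) (nat_lit 74) (nat_lit 0) (nat_lit 0) (nat_lit 6) (nat_lit 0) (RL.cons (nat_lit 4) (nat_lit 97) (nat_lit 0) (nat_lit 0) (nat_lit 7) (nat_lit 0) (RL.cons (nat_lit 5) (nat_lit 14) (nat_lit 0) (nat_lit 0) (nat_lit 2) (nat_lit 0) (RL.cons (nat_lit 6) (nat_lit 43) (nat_lit 0) (nat_lit 0) (nat_lit 3) (nat_lit 0) (RL.cons (nat_lit 7) (nat_lit 18) (nat_lit 0) (nat_lit 0) (nat_lit 4) (nat_lit 0) (RL.cons (nat_lit 8) (nat_lit 67) (nat_lit 0) (nat_lit 0) (nat_lit 11) (nat_lit 0) (RL.cons (nat_lit 9) (nat_lit 68) (nat_lit 0) (nat_lit 0) (nat_lit 12) (nat_lit 0) (RL.cons (nat_lit 10) (nat_lit 77)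 (nat_lit 0) (nat_lit 0) (nat_lit 13) (nat_lit 0) (RL.cons (nat_lit 11) (nat_lit 82) (nat_lit 0) (nat_lit 0) (nat_lit 8) (nat_lit 0) (RL.cons (nat_lit 12) (nat_lit 85) (nat_lit 0) (nat_lit 0) (nat_lit 9) (nat_lit 0) (RL.cons (nat_lit 13) (nat_lit 57) (nat_lit 0) (nat_lit 0) (nat_lit 10) (nat_lit 0) (RL.cons (nat_lit 14) (nat_lit 38) (nat_lit 0) (nat_lit 0) (nat_lit 15) (nat_lit 0) (RL.cons (nat_lit 15) (nat_lit 78) (nat_lit 0) (nat_lit 0) (nat_lit 14) (nat_lit 0) RL.nil))))))))))))))))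

theorem L1o_4_good0_0 : GoodSet 100 L1o_E5 L1o_G4 (⟨5, by decide⟩ : Fin 100) L1o_4_ts (nat_lit 1) (RL.pts L1o_4_rl0_0) :=
  goodSet_of_ok p_hn (det_lab p_hk ⊤) L1o_E5_ok L1o_G4_ok le_top le_top (by decide : 5 < 100) (sepAt_lab p_hk _) (by decide +kernel)

theorem L1o_4_step0 : Step 100 L1o_E5 L1o_G4 L1o_4_ts (2 * 0 + 1) :=
  step_of_cover L1o_E5_ok L1o_4_dist (by decide +kernel) L1o_4_scs (by decide +kernel) L1o_4_good0_0 (kw := [])
    (conj_mem_of_scs L1o_E5_ok L1o_G4_ok (by decide : 5 < 100) L1o_4_scs (c := 0) (d := 11) (by decide +kernel)) (by decide +kernel)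

noncomputable def L1o_4_rl1_0 : RL := (RL.cons (nat_lit 0) (nat_lit 5) (nat_lit 0) (nat_lit 0) (nat_lit 2) (nat_lit 0) (RL.cons (nat_lit 1) (nat_lit 11) (nat_lit 0) (nat_lit 0) (nat_lit 5) (nat_lit 0) (RL.cons (nat_lit 2) (nat_lit 72) (nat_lit 0) (nat_lit 0) (nat_lit 0) (nat_lit 0) (RL.cons (nat_lit 3) (nat_lit 74) (nat_lit 0) (nat_lit 0) (nat_lit 8) (nat_lit 0) (RL.cons (nat_lit 4) (nat_lit 97) (nat_lit 0) (nat_lit 0) (nat_lit 9) (nat_lit 0) (RL.cons (nat_lit 5) (nat_lit 14) (nat_lit 0) (nat_lit 0) (nat_lit 1) (nat_lit 0) (RL.cons (nat_lit 6) (nat_lit 43) (nat_lit 0) (nat_lit 0) (nat_lit 11) (nat_lit 0) (RL.cons (nat_lit 7) (nat_lit 18) (nat_lit 0) (nat_lit 0) (nat_lit 12) (nat_lit 0) (RL.cons (nat_lit 8) (nat_lit 67) (nat_lit 0) (nat_lit 0) (nat_lit 3) (nat_lit 0) (RL.cons (nat_lit 9) (nat_lit 68) (nat_lit 0) (nat_lit 0) (nat_lit 4) (nat_lit 0) (RL.cons (nat_lit 10) (nat_lit 77)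 (nat_lit 0) (nat_lit 0) (nat_lit 14) (nat_lit 0) (RL.cons (nat_lit 11) (nat_lit 82) (nat_lit 0) (nat_lit 0) (nat_lit 6) (nat_lit 0) (RL.cons (nat_lit 12) (nat_lit 85) (nat_lit 0) (nat_lit 0) (nat_lit 7) (nat_lit 0) (RL.cons (nat_lit 13) (nat_lit 57) (nat_lit 0) (nat_lit 0) (nat_lit 15) (nat_lit 0) (RL.cons (nat_lit 14) (nat_lit 38) (nat_lit 0) (nat_lit 0) (nat_lit 10) (nat_lit 0) (RL.cons (nat_lit 15) (nat_lit 78) (nat_lit 0) (nat_lit 0) (nat_lit 13) (nat_lit 0) RL.nil))))))))))))))))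

theorem L1o_4_good1_0 : GoodSet 100 L1o_E5 L1o_G4 (⟨5, by decide⟩ : Fin 100) L1o_4_ts (nat_lit 3) (RL.pts L1o_4_rl1_0) :=
  goodSet_of_ok p_hn (det_lab p_hk ⊤) L1o_E5_ok L1o_G4_ok le_top le_top (by decide : 5 < 100) (sepAt_lab p_hk _) (by decide +kernel)

theorem L1o_4_step1 : Step 100 L1o_E5 L1o_G4 L1o_4_ts (2 * 1 + 1) :=
  step_of_cover L1o_E5_ok L1o_4_dist (by decide +kernel) L1o_4_scs (by decide +kernel) L1o_4_good1_0 (kw := [])
    (conj_mem_of_scs L1o_E5_ok L1o_G4_ok (by decide : 5 < 100) L1o_4_scs (c := 1) (d := 72) (by decide +kernel)) (by decide +kernel)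

noncomputable def L1o_4_rl2_0 : RL := (RL.cons (nat_lit 0) (nat_lit 5) (nat_lit 0) (nat_lit 0) (nat_lit 3) (nat_lit 0) (RL.cons (nat_lit 1) (nat_lit 11) (nat_lit 0) (nat_lit 0) (nat_lit 6) (nat_lit 0) (RL.cons (nat_lit 2) (nat_lit 72) (nat_lit 0) (nat_lit 0) (nat_lit 8) (nat_lit 0) (RL.cons (nat_lit 3) (nat_lit 74) (nat_lit 0) (nat_lit 0) (nat_lit 0) (nat_lit 0) (RL.cons (nat_lit 4) (nat_lit 97) (nat_lit 0) (nat_lit 0) (nat_lit 10) (nat_lit 0) (RL.cons (nat_lit 5) (nat_lit 14) (nat_lit 0) (nat_lit 0) (nat_lit 11) (nat_lit 0) (RL.cons (nat_lit 6) (nat_lit 43) (nat_lit 0) (nat_lit 0) (nat_lit 1) (nat_lit 0) (RL.cons (nat_lit 7) (nat_lit 18) (nat_lit 0) (nat_lit 0) (nat_lit 13) (nat_lit 0) (RL.cons (nat_lit 8) (nat_lit 67) (nat_lit 0) (nat_lit 0) (nat_lit 2) (nat_lit 0) (RL.cons (nat_lit 9) (nat_lit 68) (nat_lit 0) (nat_lit 0) (nat_lit 14) (nat_lit 0) (RL.cons (nat_lit 10) (nat_lit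 77) (nat_lit 0) (nat_lit 0) (nat_lit 4) (nat_lit 0) (RL.cons (nat_lit 11) (nat_lit 82) (nat_lit 0) (nat_lit 0) (nat_lit 5) (nat_lit 0) (RL.cons (nat_lit 12) (nat_lit 85) (nat_lit 0) (nat_lit 0) (nat_lit 15) (nat_lit 0) (RL.cons (nat_lit 13) (nat_lit 57) (nat_lit 0) (nat_lit 0) (nat_lit 7) (nat_lit 0) (RL.cons (nat_lit 14) (nat_lit 38) (nat_lit 0) (nat_lit 0) (nat_lit 9) (nat_lit 0) (RL.cons (nat_lit 15) (nat_lit 78) (nat_lit 0) (nat_lit 0) (nat_lit 12) (nat_lit 0) RL.nil))))))))))))))))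

theorem L1o_4_good2_0 : GoodSet 100 L1o_E5 L1o_G4 (⟨5, by decide⟩ : Fin 100) L1o_4_ts (nat_lit 5) (RL.pts L1o_4_rl2_0) :=
  goodSet_of_ok p_hn (det_lab p_hk ⊤) L1o_E5_ok L1o_G4_ok le_top le_top (by decide : 5 < 100) (sepAt_lab p_hk _) (by decide +kernel)

theorem L1o_4_step2 : Step 100 L1o_E5 L1o_G4 L1o_4_ts (2 * 2 + 1) :=
  step_of_cover L1o_E5_ok L1o_4_dist (by decide +kernel) L1o_4_scs (by decide +kernel) L1o_4_good2_0 (kw := [])
    (conj_mem_of_scs L1o_E5_ok L1o_G4_ok (by decide : 5 < 100) L1o_4_scs (c := 2) (d := 74) (by decide +kernel)) (by decide +kernel)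

noncomputable def L1o_4_rl3_0 : RL := (RL.cons (nat_lit 0) (nat_lit 5) (nat_lit 0) (nat_lit 0) (nat_lit 4) (nat_lit 0) (RL.cons (nat_lit 1) (nat_lit 11) (nat_lit 0) (nat_lit 0) (nat_lit 7) (nat_lit 0) (RL.cons (nat_lit 2) (nat_lit 72) (nat_lit 0) (nat_lit 0) (nat_lit 9) (nat_lit 0) (RL.cons (nat_lit 3) (nat_lit 74) (nat_lit 0) (nat_lit 0) (nat_lit 10) (nat_lit 0) (RL.cons (nat_lit 4) (nat_lit 97) (nat_lit 0) (nat_lit 0) (nat_lit 0) (nat_lit 0) (RL.cons (nat_lit 5) (nat_lit 14) (nat_lit 0) (nat_lit 0) (nat_lit 12) (nat_lit 0) (RL.cons (nat_lit 6) (nat_lit 43) (nat_lit 0) (nat_lit 0) (nat_lit 13) (nat_lit 0) (RL.cons (nat_lit 7) (nat_lit 18) (nat_lit 0) (nat_lit 0) (nat_lit 1) (nat_lit 0) (RL.cons (nat_lit 8) (nat_lit 67) (nat_lit 0) (nat_lit 0) (nat_lit 14) (nat_lit 0) (RL.cons (nat_lit 9) (nat_lit 68) (nat_lit 0) (nat_lit 0) (nat_lit 2) (nat_lit 0) (RL.cons (nat_lit 10) (nat_lit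 77) (nat_lit 0) (nat_lit 0) (nat_lit 3) (nat_lit 0) (RL.cons (nat_lit 11) (nat_lit 82) (nat_lit 0) (nat_lit 0) (nat_lit 15) (nat_lit 0) (RL.cons (nat_lit 12) (nat_lit 85) (nat_lit 0) (nat_lit 0) (nat_lit 5) (nat_lit 0) (RL.cons (nat_lit 13) (nat_lit 57) (nat_lit 0) (nat_lit 0) (nat_lit 6) (nat_lit 0) (RL.cons (nat_lit 14) (nat_lit 38) (nat_lit 0) (nat_lit 0) (nat_lit 8) (nat_lit 0) (RL.cons (nat_lit 15) (nat_lit 78) (nat_lit 0) (nat_lit 0) (nat_lit 11) (nat_lit 0) RL.nil))))))))))))))))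

theorem L1o_4_good3_0 : GoodSet 100 L1o_E5 L1o_G4 (⟨5, by decide⟩ : Fin 100) L1o_4_ts (nat_lit 7) (RL.pts L1o_4_rl3_0) :=
  goodSet_of_ok p_hn (det_lab p_hk ⊤) L1o_E5_ok L1o_G4_ok le_top le_top (by decide : 5 < 100) (sepAt_lab p_hk _) (by decide +kernel)

theorem L1o_4_step3 : Step 100 L1o_E5 L1o_G4 L1o_4_ts (2 * 3 + 1) :=
  step_of_cover L1o_E5_ok L1o_4_dist (by decide +kernel) L1o_4_scs (by decide +kernel) L1o_4_good3_0 (kw := [])
    (conj_mem_of_scs L1o_E5_ok L1o_G4_ok (by decide : 5 < 100) L1o_4_scs (c := 3) (d := 97) (by decide +kernel)) (by decide +kernel)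

theorem L1o_4_lev : grp 100 L1o_G4 ⊓ MulAction.stabilizer (Equiv.Perm (Fin 100)) (⟨5, by decide⟩ : Fin 100) = grp 100 L1o_E5 :=
  sims_level (gs := p_V97) rfl (by decide) L1o_4_fix L1o_4_dist (forall_lt_succ' (forall_lt_succ' (forall_lt_succ' (forall_lt_one L1o_4_step0) L1o_4_step1) L1o_4_step2) L1o_4_step3)

theorem L1o_4_cardG : Nat.card (grp 100 L1o_G4) = 16 :=
  card_of_level p_hn L1o_G4_ok (by decide : 5 < 100) L1o_4_lev L1o_card5 (m := 16) (by decide +kernel)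

theorem p_le99 : grp 100 L1o_E4 ≤ grp 100 L1o_G4 :=
  grp_le_of_memB p_hn p_hk L1o_G4_ok L1o_E4_ok (ws := [nat_lit 1, nat_lit 3, nat_lit 5, nat_lit 7, nat_lit 66311, nat_lit 1287, nat_lit 0x1030507, nat_lit 66823]) (by decide +kernel)

theorem p_le100 : grp 100 L1o_G4 ≤ grp 100 L1o_E4 :=
  grp_le_of_memB p_hn p_hk L1o_E4_ok L1o_G4_ok (ws := [nat_lit 1, nat_lit 3, nat_lit 5, nat_lit 7]) (by decide +kernel)

theorem L1o_4_eq : grp 100 L1o_E4 = grp 100 L1o_G4 :=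
  le_antisymm p_le99 p_le100

theorem L1o_card4 : Nat.card (grp 100 L1o_E4) = 16 :=
  by rw [L1o_4_eq]; exact L1o_4_cardG

theorem L1o_stab4 : grp 100 L1o_E4 ⊓ MulAction.stabilizer (Equiv.Perm (Fin 100)) (⟨5, by decide⟩ : Fin 100) = grp 100 L1o_E5 :=
  by rw [L1o_4_eq]; exact L1o_4_lev

theorem L1o_leO4 : grp 100 L1o_E4 ≤ grp 100 L1 :=
  L1o_4_eq.le.trans (grp_cons_le ((p_le93.trans (p_le84.trans (p_le77.trans (p_le69.trans (le_refl (grp 100 L1)))))) (p_le98 (toPerm_mem_grp (E := p_V97) (by simp [p_V97])))) (grp_cons_le ((p_le93.trans (p_le84.trans (p_le77.trans (p_le69.trans (le_refl (grp 100 L1)))))) (p_le98 (toPerm_mem_grp (E := p_V97) (by simp [p_V97])))) (grp_cons_le ((p_le93.trans (p_le84.trans (p_le77.trans (p_le69.trans (le_refl (grp 100 L1)))))) (p_le98 (toPerm_mem_grp (E := p_V97) (by simp [p_V97])))) (grp_cons_le ((p_le93.trans (p_le84.trans (p_le77.trans (p_le69.trans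 (le_refl (grp 100 L1)))))) (p_le98 (toPerm_mem_grp (E := p_V97) (by simp [p_V97])))) L1o_leO5))))

theorem L1o_3_fix : grp 100 L1o_E4 ≤ MulAction.stabilizer (Equiv.Perm (Fin 100)) (⟨12, by decide⟩ : Fin 100) :=
  grp_le_stab L1o_E4_ok (by decide : 12 < 100) (by decide +kernel)

noncomputable def L1o_3_ts : List ℕ := [nat_lit 0, nat_lit 1]

noncomputable def L1o_3_ds : List ℕ := [nat_lit 12, nat_lit 66]

theorem L1o_3_dist : Dist 100 L1o_E4 L1o_G3 (⟨12, by decide⟩ : Fin 100) L1o_3_ts L1o_3_ds :=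
  dist_of_distB (k := 1) p_hn L1o_E4_ok L1o_G3_ok (by decide : 12 < 100) (by decide +kernel)

noncomputable def L1o_3_sl0 : SL := (SL.cons (nat_lit 1) (nat_lit 66) (Ch.cons (nat_lit 5) [nat_lit 15, nat_lit 5, nat_lit 773, nat_lit 7] Ch.nil) [nat_lit 15, nat_lit 5, nat_lit 3, nat_lit 261] SL.nil)

theorem L1o_3_sc0 : SCs 100 L1o_E4 L1o_G3 (⟨12, by decide⟩ : Fin 100) (SL.words L1o_3_sl0) :=
  scs_of_ok p_hn (det_lab p_hk ⊤) L1o_E4_ok L1o_G3_ok le_top le_top (by decide : 12 < 100) L1o_3_fix L1o_card4.le (by decide +kernel)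

noncomputable def L1o_3_l : List ℕ := (appL (SL.words L1o_3_sl0) [])

theorem L1o_3_scs : SCs 100 L1o_E4 L1o_G3 (⟨12, by decide⟩ : Fin 100) L1o_3_l :=
  (SCs.append L1o_3_sc0 SCs.nil)

noncomputable def L1o_3_rl0_0 : RL := (RL.cons (nat_lit 0) (nat_lit 12) (nat_lit 0) (nat_lit 0) (nat_lit 1) (nat_lit 5) (RL.cons (nat_lit 1) (nat_lit 66) (nat_lit 0) (nat_lit 0) (nat_lit 0) (nat_lit 0) RL.nil))

theorem L1o_3_good0_0 : GoodSet 100 L1o_E4 L1o_G3 (⟨12, by decide⟩ : Fin 100) L1o_3_ts (nat_lit 1) (RL.pts L1o_3_rl0_0) :=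
  goodSet_of_ok p_hn (det_lab p_hk ⊤) L1o_E4_ok L1o_G3_ok le_top le_top (by decide : 12 < 100) (sepAt_lab p_hk _) (by decide +kernel)

theorem L1o_3_step0 : Step 100 L1o_E4 L1o_G3 L1o_3_ts (2 * 0 + 1) :=
  step_of_cover L1o_E4_ok L1o_3_dist (by decide +kernel) L1o_3_scs (by decide +kernel) L1o_3_good0_0 (kw := [nat_lit 15, nat_lit 5, nat_lit 773, nat_lit 7])
    (conj_mem_of_scs L1o_E4_ok L1o_G3_ok (by decide : 12 < 100) L1o_3_scs (c := 0) (d := 66) (by decide +kernel)) (by decide +kernel)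

theorem L1o_3_lev : grp 100 L1o_G3 ⊓ MulAction.stabilizer (Equiv.Perm (Fin 100)) (⟨12, by decide⟩ : Fin 100) = grp 100 L1o_E4 :=
  sims_level (gs := p_V85) rfl (by decide) L1o_3_fix L1o_3_dist (forall_lt_one L1o_3_step0)

theorem L1o_3_cardG : Nat.card (grp 100 L1o_G3) = 32 :=
  card_of_level p_hn L1o_G3_ok (by decide : 12 < 100) L1o_3_lev L1o_card4 (m := 2) (by decide +kernel)

theorem p_le101 : grp 100 L1o_E3 ≤ grp 100 L1o_G3 :=
  grp_le_of_memB p_hn p_hk L1o_G3_ok L1o_E3_ok (ws := [nat_lit 1, nat_lit 773, nat_lit 1287, nat_lit 3, nat_lit 5, nat_lit 7, nat_lit 9, nat_lit 11, nat_lit 13, nat_lit 15, nat_lit 17]) (by decide +kernel)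

theorem p_le102 : grp 100 L1o_G3 ≤ grp 100 L1o_E3 :=
  grp_le_of_memB p_hn p_hk L1o_E3_ok L1o_G3_ok (ws := [nat_lit 1, nat_lit 7, nat_lit 9, nat_lit 11, nat_lit 13, nat_lit 15, nat_lit 17, nat_lit 19, nat_lit 21]) (by decide +kernel)

theorem L1o_3_eq : grp 100 L1o_E3 = grp 100 L1o_G3 :=
  le_antisymm p_le101 p_le102

theorem L1o_card3 : Nat.card (grp 100 L1o_E3) = 32 :=
  by rw [L1o_3_eq]; exact L1o_3_cardG

theorem L1o_stab3 : grp 100 L1o_E3 ⊓ MulAction.stabilizer (Equiv.Perm (Fin 100)) (⟨12, by decide⟩ : Fin 100) = grp 100 L1o_E4 :=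
  by rw [L1o_3_eq]; exact L1o_3_lev

theorem L1o_leO3 : grp 100 L1o_E3 ≤ grp 100 L1 :=
  L1o_3_eq.le.trans (grp_cons_le ((p_le84.trans (p_le77.trans (p_le69.trans (le_refl (grp 100 L1))))) (p_le86 (toPerm_mem_grp (E := p_V85) (by simp [p_V85])))) L1o_leO4)

theorem L1o_2_fix : grp 100 L1o_E3 ≤ MulAction.stabilizer (Equiv.Perm (Fin 100)) (⟨76, by decide⟩ : Fin 100) :=
  grp_le_stab L1o_E3_ok (by decide : 76 < 100) (by decide +kernel)

noncomputable def L1o_2_ts : List ℕ := [nat_lit 0, nat_lit 1, nat_lit 67841]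

noncomputable def L1o_2_ds : List ℕ := [nat_lit 76, nat_lit 91, nat_lit 75]

theorem L1o_2_dist : Dist 100 L1o_E3 L1o_G2 (⟨76, by decide⟩ : Fin 100) L1o_2_ts L1o_2_ds :=
  dist_of_distB (k := 2) p_hn L1o_E3_ok L1o_G2_ok (by decide : 76 < 100) (by decide +kernel)

noncomputable def L1o_2_sl0 : SL := (SL.cons (nat_lit 1) (nat_lit 91) (Ch.cons (nat_lit 2) [nat_lit 3841, nat_lit 21, nat_lit 11] Ch.nil) [nat_lit 3841, nat_lit 21, nat_lit 4865] (SL.cons (nat_lit 67841) (nat_lit 75) (Ch.cons (nat_lit 5) [nat_lit 463617, nat_lit 1, nat_lit 15] Ch.nil) [nat_lit 461057, nat_lit 461569, nat_lit 1801] SL.nil))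

theorem L1o_2_sc0 : SCs 100 L1o_E3 L1o_G2 (⟨76, by decide⟩ : Fin 100) (SL.words L1o_2_sl0) :=
  scs_of_ok p_hn (det_lab p_hk ⊤) L1o_E3_ok L1o_G2_ok le_top le_top (by decide : 76 < 100) L1o_2_fix L1o_card3.le (by decide +kernel)

noncomputable def L1o_2_l : List ℕ := (appL (SL.words L1o_2_sl0) [])

theorem L1o_2_scs : SCs 100 L1o_E3 L1o_G2 (⟨76, by decide⟩ : Fin 100) L1o_2_l :=
  (SCs.append L1o_2_sc0 SCs.nil)

noncomputable def L1o_2_rl0_0 : RL := (RL.cons (nat_lit 0) (nat_lit 76) (nat_lit 0) (nat_lit 0) (nat_lit 1) (nat_lit 3841) (RL.cons (nat_lit 1) (nat_lit 91) (nat_lit 0) (nat_lit 0) (nat_lit 0) (nat_lit 0) (RL.cons (nat_lit 1) (nat_lit 56) (nat_lit 1) (nat_lit 1) (nat_lit 1) (nat_lit 2817) (RL.cons (nat_lit 1) (nat_lit 86) (nat_lit 3) (nat_lit 3) (nat_lit 1) (nat_lit 4353) (RL.cons (nat_lit 1) (nat_lit 8) (nat_lit 7) (nat_lit 0) (nat_lit 2) (nat_lit 592641) (RL.cons (nat_lit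 2) (nat_lit 75) (nat_lit 0) (nat_lit 7) (nat_lit 1) (nat_lit 0) RL.nil))))))

theorem L1o_2_good0_0 : GoodSet 100 L1o_E3 L1o_G2 (⟨76, by decide⟩ : Fin 100) L1o_2_ts (nat_lit 1) (RL.pts L1o_2_rl0_0) :=
  goodSet_of_ok p_hn (det_lab p_hk ⊤) L1o_E3_ok L1o_G2_ok le_top le_top (by decide : 76 < 100) (sepAt_lab p_hk _) (by decide +kernel)

theorem L1o_2_step0 : Step 100 L1o_E3 L1o_G2 L1o_2_ts (2 * 0 + 1) :=
  step_of_cover L1o_E3_ok L1o_2_dist (by decide +kernel) L1o_2_scs (by decide +kernel) L1o_2_good0_0 (kw := [nat_lit 3841, nat_lit 21, nat_lit 11])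
    (conj_mem_of_scs L1o_E3_ok L1o_G2_ok (by decide : 76 < 100) L1o_2_scs (c := 0) (d := 91) (by decide +kernel)) (by decide +kernel)

theorem L1o_2_lev : grp 100 L1o_G2 ⊓ MulAction.stabilizer (Equiv.Perm (Fin 100)) (⟨76, by decide⟩ : Fin 100) = grp 100 L1o_E3 :=
  sims_level (gs := p_V78) rfl (by decide) L1o_2_fix L1o_2_dist (forall_lt_one L1o_2_step0)

theorem L1o_2_cardG : Nat.card (grp 100 L1o_G2) = 192 :=
  card_of_level p_hn L1o_G2_ok (by decide : 76 < 100) L1o_2_lev L1o_card3 (m := 6) (by decide +kernel)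

theorem p_le103 : grp 100 L1o_E2 ≤ grp 100 L1o_G2 :=
  grp_le_of_memB p_hn p_hk L1o_G2_ok L1o_E2_ok (ws := [nat_lit 1, nat_lit 0x130103, nat_lit 0xd030103, nat_lit 3, nat_lit 5, nat_lit 7, nat_lit 9, nat_lit 11, nat_lit 13, nat_lit 15, nat_lit 17, nat_lit 19, nat_lit 21, nat_lit 23]) (by decide +kernel)

theorem p_le104 : grp 100 L1o_G2 ≤ grp 100 L1o_E2 :=
  grp_le_of_memB p_hn p_hk L1o_E2_ok L1o_G2_ok (ws := [nat_lit 1, nat_lit 7, nat_lit 9, nat_lit 11, nat_lit 13, nat_lit 15, nat_lit 17, nat_lit 19, nat_lit 21, nat_lit 23, nat_lit 25, nat_lit 27]) (by decide +kernel)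

theorem L1o_2_eq : grp 100 L1o_E2 = grp 100 L1o_G2 :=
  le_antisymm p_le103 p_le104

theorem L1o_card2 : Nat.card (grp 100 L1o_E2) = 192 :=
  by rw [L1o_2_eq]; exact L1o_2_cardG

theorem L1o_stab2 : grp 100 L1o_E2 ⊓ MulAction.stabilizer (Equiv.Perm (Fin 100)) (⟨76, by decide⟩ : Fin 100) = grp 100 L1o_E3 :=
  by rw [L1o_2_eq]; exact L1o_2_lev

theorem L1o_leO2 : grp 100 L1o_E2 ≤ grp 100 L1 :=
  L1o_2_eq.le.trans (grp_cons_le ((p_le77.trans (p_le69.trans (le_refl (grp 100 L1)))) (p_le79 (toPerm_mem_grp (E := p_V78) (by simp [p_V78])))) L1o_leO3)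

theorem L1o_1_fix : grp 100 L1o_E2 ≤ MulAction.stabilizer (Equiv.Perm (Fin 100)) (⟨6, by decide⟩ : Fin 100) :=
  grp_le_stab L1o_E2_ok (by decide : 6 < 100) (by decide +kernel)

noncomputable def L1o_1_ts : List ℕ := [nat_lit 0, nat_lit 1]

noncomputable def L1o_1_ds : List ℕ := [nat_lit 6, nat_lit 76]

theorem L1o_1_dist : Dist 100 L1o_E2 L1o_G1 (⟨6, by decide⟩ : Fin 100) L1o_1_ts L1o_1_ds :=
  dist_of_distB (k := 1) p_hn L1o_E2_ok L1o_G1_ok (by decide : 6 < 100) (by decide +kernel)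

noncomputable def L1o_1_sl0 : SL := (SL.cons (nat_lit 1) (nat_lit 76) (Ch.cons (nat_lit 12) [nat_lit 7, nat_lit 9, nat_lit 11] (Ch.cons (nat_lit 5) [nat_lit 13, nat_lit 15, nat_lit 17, nat_lit 19, nat_lit 21, nat_lit 23, nat_lit 25, nat_lit 27] Ch.nil)) [nat_lit 6913, nat_lit 983299, nat_lit 856833, nat_lit 0x130704, nat_lit 984833, nat_lit 5383, nat_lit 0xd110704, nat_lit 0x190701, nat_lit 0x131904, nat_lit 4353, nat_lit 987399] SL.nil)

theorem L1o_1_sc0 : SCs 100 L1o_E2 L1o_G1 (⟨6, by decide⟩ : Fin 100) (SL.words L1o_1_sl0) :=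
  scs_of_ok p_hn (det_lab p_hk ⊤) L1o_E2_ok L1o_G1_ok le_top le_top (by decide : 6 < 100) L1o_1_fix L1o_card2.le (by decide +kernel)

noncomputable def L1o_1_l : List ℕ := (appL (SL.words L1o_1_sl0) [])

theorem L1o_1_scs : SCs 100 L1o_E2 L1o_G1 (⟨6, by decide⟩ : Fin 100) L1o_1_l :=
  (SCs.append L1o_1_sc0 SCs.nil)

noncomputable def L1o_1_rl0_0 : RL := (RL.cons (nat_lit 0) (nat_lit 6) (nat_lit 0) (nat_lit 3) (nat_lit 1) (nat_lit 3) (RL.cons (nat_lit 1) (nat_lit 76) (nat_lit 0) (nat_lit 0) (nat_lit 0) (nat_lit 0) (RL.cons (nat_lit 1) (nat_lit 91) (nat_lit 1) (nat_lit 259) (nat_lit 1) (nat_lit 0xd110104) (RL.cons (nat_lit 1) (nat_lit 75) (nat_lit 259) (nat_lit 260) (nat_lit 1) (nat_lit 858375) RL.nil))))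

theorem L1o_1_good0_0 : GoodSet 100 L1o_E2 L1o_G1 (⟨6, by decide⟩ : Fin 100) L1o_1_ts (nat_lit 1) (RL.pts L1o_1_rl0_0) :=
  goodSet_of_ok p_hn (det_lab p_hk ⊤) L1o_E2_ok L1o_G1_ok le_top le_top (by decide : 6 < 100) (sepAt_lab p_hk _) (by decide +kernel)

theorem L1o_1_step0 : Step 100 L1o_E2 L1o_G1 L1o_1_ts (2 * 0 + 1) :=
  step_of_cover L1o_E2_ok L1o_1_dist (by decide +kernel) L1o_1_scs (by decide +kernel) L1o_1_good0_0 (kw := [nat_lit 7, nat_lit 9, nat_lit 11, nat_lit 13, nat_lit 15, nat_lit 17, nat_lit 19, nat_lit 21, nat_lit 23, nat_lit 25, nat_lit 27])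
    (conj_mem_of_scs L1o_E2_ok L1o_G1_ok (by decide : 6 < 100) L1o_1_scs (c := 0) (d := 76) (by decide +kernel)) (by decide +kernel)

theorem L1o_1_lev : grp 100 L1o_G1 ⊓ MulAction.stabilizer (Equiv.Perm (Fin 100)) (⟨6, by decide⟩ : Fin 100) = grp 100 L1o_E2 :=
  sims_level (gs := p_V71) rfl (by decide) L1o_1_fix L1o_1_dist (forall_lt_one L1o_1_step0)

theorem L1o_1_cardG : Nat.card (grp 100 L1o_G1) = 1344 :=
  card_of_level p_hn L1o_G1_ok (by decide : 6 < 100) L1o_1_lev L1o_card2 (m := 7) (by decide +kernel)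

theorem p_le105 : grp 100 L1o_E1 ≤ grp 100 L1o_G1 :=
  grp_le_of_memB p_hn p_hk L1o_G1_ok L1o_E1_ok (ws := [nat_lit 1, nat_lit 0x1b0903060101, nat_lit 2, nat_lit 3, nat_lit 5, nat_lit 7, nat_lit 9, nat_lit 11, nat_lit 13, nat_lit 15, nat_lit 17, nat_lit 19, nat_lit 21, nat_lit 23, nat_lit 25, nat_lit 27, nat_lit 29]) (by decide +kernel)

theorem p_le106 : grp 100 L1o_G1 ≤ grp 100 L1o_E1 :=
  grp_le_of_memB p_hn p_hk L1o_E1_ok L1o_G1_ok (ws := [nat_lit 1, nat_lit 7, nat_lit 9, nat_lit 11, nat_lit 13, nat_lit 15, nat_lit 17, nat_lit 19, nat_lit 21, nat_lit 23, nat_lit 25, nat_lit 27, nat_lit 29, nat_lit 31, nat_lit 33]) (by decide +kernel)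

theorem L1o_1_eq : grp 100 L1o_E1 = grp 100 L1o_G1 :=
  le_antisymm p_le105 p_le106

theorem L1o_card1 : Nat.card (grp 100 L1o_E1) = 1344 :=
  by rw [L1o_1_eq]; exact L1o_1_cardG

theorem L1o_stab1 : grp 100 L1o_E1 ⊓ MulAction.stabilizer (Equiv.Perm (Fin 100)) (⟨6, by decide⟩ : Fin 100) = grp 100 L1o_E2 :=
  by rw [L1o_1_eq]; exact L1o_1_lev

theorem L1o_leO1 : grp 100 L1o_E1 ≤ grp 100 L1 :=
  L1o_1_eq.le.trans (grp_cons_le ((p_le69.trans (le_refl (grp 100 L1))) (p_le72 (toPerm_mem_grp (E := p_V71) (by simp [p_V71])))) L1o_leO2)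

theorem L1o_0_fix : grp 100 L1o_E1 ≤ MulAction.stabilizer (Equiv.Perm (Fin 100)) (⟨0, by decide⟩ : Fin 100) :=
  grp_le_stab L1o_E1_ok (by decide : 0 < 100) (by decide +kernel)

noncomputable def L1o_0_ts : List ℕ := [nat_lit 0, nat_lit 1]

noncomputable def L1o_0_ds : List ℕ := [nat_lit 0, nat_lit 59]

theorem L1o_0_dist : Dist 100 L1o_E1 L1o_G0 (⟨0, by decide⟩ : Fin 100) L1o_0_ts L1o_0_ds :=
  dist_of_distB (k := 1) p_hn L1o_E1_ok L1o_G0_ok (by decide : 0 < 100) (by decide +kernel)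

noncomputable def L1o_0_sl0 : SL := (SL.cons (nat_lit 1) (nat_lit 59) (Ch.cons (nat_lit 3) [nat_lit 0x131f0d0709010a, nat_lit 6921] (Ch.cons (nat_lit 4) [nat_lit 0x150704] Ch.nil)) [nat_lit 19, nat_lit 0x13170d010a, nat_lit 0x131b0d0a010a] SL.nil)

theorem L1o_0_sc0 : SCs 100 L1o_E1 L1o_G0 (⟨0, by decide⟩ : Fin 100) (SL.words L1o_0_sl0) :=
  scs_of_ok p_hn (det_lab p_hk ⊤) L1o_E1_ok L1o_G0_ok le_top le_top (by decide : 0 < 100) L1o_0_fix L1o_card1.le (by decide +kernel)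

noncomputable def L1o_0_l : List ℕ := (appL (SL.words L1o_0_sl0) [])

theorem L1o_0_scs : SCs 100 L1o_E1 L1o_G0 (⟨0, by decide⟩ : Fin 100) L1o_0_l :=
  (SCs.append L1o_0_sc0 SCs.nil)

noncomputable def L1o_0_rl0_0 : RL := (RL.cons (nat_lit 0) (nat_lit 0) (nat_lit 0) (nat_lit 0) (nat_lit 1) (nat_lit 0x13170d0709) (RL.cons (nat_lit 1) (nat_lit 59) (nat_lit 0) (nat_lit 0) (nat_lit 0) (nat_lit 0) (RL.cons (nat_lit 1) (nat_lit 79) (nat_lit 1) (nat_lit 260) (nat_lit 1) (nat_lit 0x131f09010a) (RL.cons (nat_lit 1) (nat_lit 32) (nat_lit 11) (nat_lit 11) (nat_lit 1) (nat_lit 0x15170d0a04) RL.nil))))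

theorem L1o_0_good0_0 : GoodSet 100 L1o_E1 L1o_G0 (⟨0, by decide⟩ : Fin 100) L1o_0_ts (nat_lit 1) (RL.pts L1o_0_rl0_0) :=
  goodSet_of_ok p_hn (det_lab p_hk ⊤) L1o_E1_ok L1o_G0_ok le_top le_top (by decide : 0 < 100) (sepAt_lab p_hk _) (by decide +kernel)

theorem L1o_0_step0 : Step 100 L1o_E1 L1o_G0 L1o_0_ts (2 * 0 + 1) :=
  step_of_cover L1o_E1_ok L1o_0_dist (by decide +kernel) L1o_0_scs (by decide +kernel) L1o_0_good0_0 (kw := [nat_lit 0x131f0d0709010a, nat_lit 6921, nat_lit 0x150704])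
    (conj_mem_of_scs L1o_E1_ok L1o_G0_ok (by decide : 0 < 100) L1o_0_scs (c := 0) (d := 59) (by decide +kernel)) (by decide +kernel)

theorem L1o_0_lev : grp 100 L1o_G0 ⊓ MulAction.stabilizer (Equiv.Perm (Fin 100)) (⟨0, by decide⟩ : Fin 100) = grp 100 L1o_E1 :=
  sims_level (gs := p_V64) rfl (by decide) L1o_0_fix L1o_0_dist (forall_lt_one L1o_0_step0)

theorem L1o_0_cardG : Nat.card (grp 100 L1o_G0) = 20160 :=
  card_of_level p_hn L1o_G0_ok (by decide : 0 < 100) L1o_0_lev L1o_card1 (m := 15) (by decide +kernel)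

theorem p_le107 : grp 100 L1o_E0 ≤ grp 100 L1o_G0 :=
  grp_le_of_memB p_hn p_hk L1o_G0_ok L1o_E0_ok (ws := [nat_lit 1, nat_lit 0x15190f090c05010310, nat_lit 3, nat_lit 5, nat_lit 7, nat_lit 9, nat_lit 11, nat_lit 13, nat_lit 15, nat_lit 17, nat_lit 19, nat_lit 21, nat_lit 23, nat_lit 25, nat_lit 27, nat_lit 29, nat_lit 31, nat_lit 33, nat_lit 35]) (by decide +kernel)

theorem p_le108 : grp 100 L1o_G0 ≤ grp 100 L1o_E0 :=
  grp_le_of_memB p_hn p_hk L1o_E0_ok L1o_G0_ok (ws := [nat_lit 1, nat_lit 5, nat_lit 7, nat_lit 9, nat_lit 11, nat_lit 13, nat_lit 15, nat_lit 17, nat_lit 19, nat_lit 21, nat_lit 23, nat_lit 25, nat_lit 27, nat_lit 29, nat_lit 31, nat_lit 33, nat_lit 35, nat_lit 37]) (by decide +kernel)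

theorem L1o_0_eq : grp 100 L1o_E0 = grp 100 L1o_G0 :=
  le_antisymm p_le107 p_le108

theorem L1o_card0 : Nat.card (grp 100 L1o_E0) = 20160 :=
  by rw [L1o_0_eq]; exact L1o_0_cardG

theorem L1o_stab0 : grp 100 L1o_E0 ⊓ MulAction.stabilizer (Equiv.Perm (Fin 100)) (⟨0, by decide⟩ : Fin 100) = grp 100 L1o_E1 :=
  by rw [L1o_0_eq]; exact L1o_0_lev

theorem L1o_leO0 : grp 100 L1o_E0 ≤ grp 100 L1 :=
  L1o_0_eq.le.trans (grp_cons_le ((le_refl (grp 100 L1)) (p_le65 (toPerm_mem_grp (E := p_V64) (by simp [p_V64])))) L1o_leO1)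

theorem p_le109 : grp 100 L1 ≤ grp 100 L1o_E0 :=
  grp_le_of_memB p_hn p_hk L1o_E0_ok L1_ok (ws := [nat_lit 1, nat_lit 3]) (by decide +kernel)

theorem L1o_eq : grp 100 L1 = grp 100 L1o_E0 :=
  le_antisymm p_le109 L1o_leO0

theorem L1o_card : Nat.card (grp 100 L1) = 20160 :=
  by rw [L1o_eq]; exact L1o_card0

noncomputable def L1o_ch : Ch := (Ch.cons (nat_lit 0) [nat_lit 1, nat_lit 3] (Ch.cons (nat_lit 6) [nat_lit 5, nat_lit 7, nat_lit 9] (Ch.cons (nat_lit 76) [nat_lit 11, nat_lit 13, nat_lit 15] (Ch.cons (nat_lit 12) [nat_lit 17, nat_lit 19, nat_lit 21] (Ch.cons (nat_lit 5) [nat_lit 23, nat_lit 25, nat_lit 27, nat_lit 29, nat_lit 31, nat_lit 33, nat_lit 35, nat_lit 37] Ch.nil)))))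

theorem L1o_exact : Ch.Exact 100 L1o_E0 L1o_ch (grp 100 L1o_E0) :=
  Ch.exact (k := 7) (L := (lab 100 7)) p_hn L1o_E0_ok (by decide +kernel) (wgrp_le_grp _ _ _) L1o_card0.le

theorem p_le110 : grp 100 L1 ≤ grp 100 HSM.lb_E :=
  grp_le_of_memB p_hn p_hk HSM.lb_E_ok L1_ok (ws := [nat_lit 0xd0d100a0c050b0801030a, nat_lit 0x130e11090e10060206]) (by decide +kernel)

theorem L1_G : grp 100 L1 ≤ (grp 100 HSM.E) :=
  (p_le110).trans HSM.lb_le

theorem L1_n : grp 100 EvHT.nt_c1_K ≤ Subgroup.normalizer (grp 100 L1 : Set (Equiv.Perm (Fin 100))) :=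
  EvG.le_norm p_hn p_hk EvHT.nt_c1_K_ok L1_ok L1o_E0_ok L1o_eq.ge (W := [[nat_lit 0x25110b0305, nat_lit 0x1f0b0d050e010f], [nat_lit 0x1d110b0d050312, nat_lit 0x25110b0e0504], [nat_lit 0x19110e050803, nat_lit 0x1719110b0d06010b], [nat_lit 0x1723110e060107, nat_lit 0x191b0b0d05010c], [nat_lit 0x190b0e0508030e, nat_lit 0x171d0e070107], [nat_lit 0x19110d050e010c, nat_lit 0x1d110b0d070305], [nat_lit 0x171f110b0d0804, nat_lit 0x25110b0e05080104], [nat_lit 0x1d110d0704, nat_lit 0x190d0508010f]]) (by decide +kernel)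

theorem a1_le6 : grp 8 a1_V5 ≤ grp 8 A1_E :=
  grp_le_of_memB a1_hn a1_hk A1_E_ok a1_V5_ok (ws := [nat_lit 0x40101040401040103, nat_lit 0x2030303020301]) (by decide +kernel)

theorem a1_le10 : grp 8 a1_V9 ≤ grp 8 a1_V5 :=
  grp_le_of_memB a1_hn a1_hk a1_V5_ok a1_V9_ok (ws := [nat_lit 0x202020404010103, nat_lit 0x30204010303]) (by decide +kernel)

theorem a1_le14 : grp 8 a1_V13 ≤ grp 8 a1_V9 :=
  grp_le_of_memB a1_hn a1_hk a1_V9_ok a1_V13_ok (ws := [nat_lit 0x4010401040402, nat_lit 196868]) (by decide +kernel)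

theorem a1_le18 : grp 8 a1_V17 ≤ grp 8 a1_V13 :=
  grp_le_of_memB a1_hn a1_hk a1_V13_ok a1_V17_ok (ws := [nat_lit 262658, nat_lit 0x3010103030301]) (by decide +kernel)

theorem a1_le22 : grp 8 a1_V21 ≤ grp 8 a1_V17 :=
  grp_le_of_memB a1_hn a1_hk a1_V17_ok a1_V21_ok (ws := [nat_lit 0x401040404, nat_lit 132100]) (by decide +kernel)

theorem A1_lb_le : grp 8 A1_lb_E ≤ grp 8 A1_E :=
  (grp_cons_le ((le_refl (grp 8 A1_E)) (toPerm_mem_grp (E := A1_E) (by simp [A1_E]))) (grp_cons_le ((le_refl (grp 8 A1_E)) (toPerm_mem_grp (E := A1_E) (by simp [A1_E]))) (grp_cons_le ((a1_le6.trans (le_refl (grp 8 A1_E))) (toPerm_mem_grp (E := a1_V5) (by simp [a1_V5]))) (grp_cons_le ((a1_le6.trans (le_refl (grp 8 A1_E))) (toPerm_mem_grp (E := a1_V5) (by simp [a1_V5]))) (grp_cons_le ((a1_le10.trans (a1_le6.trans (le_refl (grp 8 A1_E)))) (toPerm_mem_grp (E := a1_V9) (by simp [a1_V9]))) (grp_cons_le ((a1_le10.trans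 (a1_le6.trans (le_refl (grp 8 A1_E)))) (toPerm_mem_grp (E := a1_V9) (by simp [a1_V9]))) (grp_cons_le ((a1_le14.trans (a1_le10.trans (a1_le6.trans (le_refl (grp 8 A1_E))))) (toPerm_mem_grp (E := a1_V13) (by simp [a1_V13]))) (grp_cons_le ((a1_le14.trans (a1_le10.trans (a1_le6.trans (le_refl (grp 8 A1_E))))) (toPerm_mem_grp (E := a1_V13) (by simp [a1_V13]))) (grp_cons_le ((a1_le18.trans (a1_le14.trans (a1_le10.trans (a1_le6.trans (le_refl (grp 8 A1_E)))))) (toPerm_mem_grp (E := a1_V17) (by simp [a1_V17]))) (grp_cons_le ((a1_le18.trans (a1_le14.trans (a1_le10.trans (a1_le6.trans (le_refl (grp 8 A1_E)))))) (toPerm_mem_grp (E := a1_V17) (by simp [a1_V17]))) (grp_cons_le ((a1_le22.trans (a1_le18.trans (a1_le14.trans (a1_le10.trans (a1_le6.trans (le_refl (grp 8 A1_E))))))) (toPerm_mem_grp (E := a1_V21) (by simp [a1_V21]))) (grp_cons_le ((a1_le22.trans (a1_le18.trans (a1_le14.trans (a1_le10.trans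 (a1_le6.trans (le_refl (grp 8 A1_E))))))) (toPerm_mem_grp (E := a1_V21) (by simp [a1_V21]))) (grp_nil_le _)))))))))))))

noncomputable def A1_lb_ch : Ch := (Ch.cons (nat_lit 0) [nat_lit 1, nat_lit 3] (Ch.cons (nat_lit 1) [nat_lit 5, nat_lit 7] (Ch.cons (nat_lit 2) [nat_lit 9, nat_lit 11] (Ch.cons (nat_lit 3) [nat_lit 13, nat_lit 15] (Ch.cons (nat_lit 4) [nat_lit 17, nat_lit 19] (Ch.cons (nat_lit 5) [nat_lit 21, nat_lit 23] Ch.nil))))))

theorem A1_lb_chk : Ch.chk 8 3 (lab 8 3) A1_lb_E A1_lb_ch 20160 = true :=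
  by decide +kernel

theorem A1_lb_ge : 20160 ≤ Nat.card (grp 8 A1_E) :=
  (Ch.le_card_grp a1_hn A1_lb_E_ok A1_lb_chk).trans (Subgroup.card_le_of_le A1_lb_le)

noncomputable def A1_M : List ℕ := [(nat_lit 0), (nat_lit 240), (nat_lit 0), (nat_lit 142), (nat_lit 77), (nat_lit 170), (nat_lit 0), (nat_lit 0), (nat_lit 0), (nat_lit 29), (nat_lit 147), (nat_lit 57), (nat_lit 169), (nat_lit 198), (nat_lit 177), (nat_lit 0), (nat_lit 116), (nat_lit 180), (nat_lit 105), (nat_lit 166), (nat_lit 0), (nat_lit 228), (nat_lit 58), (nat_lit 154), (nat_lit 27), (nat_lit 71), (nat_lit 85), (nat_lit 53), (nat_lit 15), (nat_lit 75), (nat_lit 150), (nat_lit 83), (nat_lit 0), (nat_lit 0), (nat_lit 0), (nat_lit 0), (nat_lit 0), (nat_lit 0), (nat_lit 232), (nat_lit 106), (nat_lit 108), (nat_lit 120), (nat_lit 135), (nat_lit 163), (nat_lit 78), (nat_lit 212), (nat_lit 0), (nat_lit 0), (nat_lit 0), (nat_lit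 209), (nat_lit 0), (nat_lit 210), (nat_lit 60), (nat_lit 102), (nat_lit 0), (nat_lit 178), (nat_lit 0), (nat_lit 165), (nat_lit 90), (nat_lit 0), (nat_lit 0), (nat_lit 92), (nat_lit 39), (nat_lit 197), (nat_lit 216), (nat_lit 101), (nat_lit 86), (nat_lit 184), (nat_lit 141), (nat_lit 195), (nat_lit 204), (nat_lit 0), (nat_lit 139), (nat_lit 113), (nat_lit 153), (nat_lit 0), (nat_lit 0), (nat_lit 201), (nat_lit 45), (nat_lit 0), (nat_lit 202), (nat_lit 0), (nat_lit 43), (nat_lit 99), (nat_lit 0), (nat_lit 225), (nat_lit 0), (nat_lit 156), (nat_lit 51), (nat_lit 23), (nat_lit 114), (nat_lit 0), (nat_lit 46), (nat_lit 149), (nat_lit 226), (nat_lit 54), (nat_lit 89), (nat_lit 172), (nat_lit 30), (nat_lit 0)]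

theorem A1_inj : Function.Injective (cols 100 8 (nthN A1_M)) :=
  cols_injective (by decide +kernel)

theorem A1_acts : List.Forall₂ (fun o o' => Acts (cols 100 8 (nthN A1_M)) (Net.toPerm 100 o) (Net.toPerm 8 o')) L1 A1_E :=
  (List.Forall₂.cons (inc_of_incB p_g62_ok a1_g1_ok (allN_iff.1 (by decide +kernel))).acts_cols (List.Forall₂.cons (inc_of_incB p_g63_ok a1_g2_ok (allN_iff.1 (by decide +kernel))).acts_cols List.Forall₂.nil))

theorem A1 : Nonempty (grp 100 L1 ≃* alternatingGroup (Fin 8)) :=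
  by
  obtain ⟨ρ, -, h⟩ := exists_hom_grp A1_inj A1_acts
  exact EvG.equiv_alt (by norm_num) ρ (by rw [L1o_card]; decide) (by rw [h, L1o_card]; exact A1_lb_ge)

theorem p_le111 : grp 100 Y1 ≤ grp 100 EvHT.lb_E :=
  grp_le_of_memB p_hn p_hk EvHT.lb_E_ok Y1_ok (ws := [nat_lit 0x1f1a0f110e1207]) (by decide +kernel)

theorem Y1_le : grp 100 Y1 ≤ (grp 100 EvHT.EG) :=
  (p_le111.trans U_s0.le)

theorem Y1_sym : Sym 100 (grp 100 EvHT.EG) L1 Y1 0 :=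
  Sym.of_lab p_hn p_hk L1_ok Y1_ok Y1_le (kT := 0) (by decide +kernel)

theorem U_s1 : Stab 100 (grp 100 EvHT.EG) [nat_lit 0] p_V112 887040 :=
  Stab.step (k := 7) (L := (lab 100 7)) p_hn U_s0 p_V112_ok (grp_mono (List.subset_append_right [MpHS.a, HSM.g1, HSM.g2] _)) (c := (Ch.cons (nat_lit 1) [nat_lit 1, nat_lit 3] (Ch.cons (nat_lit 2) [nat_lit 5, nat_lit 7] (Ch.cons (nat_lit 3) [nat_lit 9, nat_lit 11] (Ch.cons (nat_lit 29) [nat_lit 13, nat_lit 15, nat_lit 17] (Ch.cons (nat_lit 32) [nat_lit 19, nat_lit 21, nat_lit 23] (Ch.cons (nat_lit 78) [nat_lit 25, nat_lit 27, nat_lit 29] (Ch.cons (nat_lit 5) [nat_lit 31, nat_lit 33, nat_lit 35, nat_lit 37] (Ch.cons (nat_lit 14) [nat_lit 39, nat_lit 41] (Ch.cons (nat_lit 4) [nat_lit 43, nat_lit 45] Ch.nil)))))))))) (by decide +kernel)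

theorem U_s2 : Stab 100 (grp 100 EvHT.EG) [nat_lit 1, nat_lit 0] p_V113 40320 :=
  Stab.step (k := 7) (L := (lab 100 7)) p_hn U_s1 p_V113_ok (grp_mono (List.subset_append_right [EvHT.t_g1, EvHT.t_g2] _)) (c := (Ch.cons (nat_lit 2) [nat_lit 1, nat_lit 3] (Ch.cons (nat_lit 3) [nat_lit 5, nat_lit 7] (Ch.cons (nat_lit 29) [nat_lit 9, nat_lit 11, nat_lit 13] (Ch.cons (nat_lit 32) [nat_lit 15, nat_lit 17, nat_lit 19] (Ch.cons (nat_lit 78) [nat_lit 21, nat_lit 23, nat_lit 25] (Ch.cons (nat_lit 5) [nat_lit 27, nat_lit 29, nat_lit 31, nat_lit 33] (Ch.cons (nat_lit 14) [nat_lit 35, nat_lit 37] (Ch.cons (nat_lit 4) [nat_lit 39, nat_lit 41] Ch.nil))))))))) (by decide +kernel)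

theorem U_s3 : Stab 100 (grp 100 EvHT.EG) [nat_lit 2, nat_lit 1, nat_lit 0] p_V114 1920 :=
  Stab.step (k := 7) (L := (lab 100 7)) p_hn U_s2 p_V114_ok (grp_mono (List.subset_append_right [EvHT.t_g5, EvHT.t_g6] _)) (c := (Ch.cons (nat_lit 3) [nat_lit 1, nat_lit 3] (Ch.cons (nat_lit 29) [nat_lit 5, nat_lit 7, nat_lit 9] (Ch.cons (nat_lit 32) [nat_lit 11, nat_lit 13, nat_lit 15] (Ch.cons (nat_lit 78) [nat_lit 17, nat_lit 19, nat_lit 21] (Ch.cons (nat_lit 5) [nat_lit 23, nat_lit 25, nat_lit 27, nat_lit 29] (Ch.cons (nat_lit 14) [nat_lit 31, nat_lit 33] (Ch.cons (nat_lit 4) [nat_lit 35, nat_lit 37] Ch.nil)))))))) (by decide +kernel)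

theorem U_s4 : Stab 100 (grp 100 EvHT.EG) [nat_lit 3, nat_lit 2, nat_lit 1, nat_lit 0] p_V115 384 :=
  Stab.step (k := 7) (L := (lab 100 7)) p_hn U_s3 p_V115_ok (grp_mono (List.subset_append_right [EvHT.t_g9, EvHT.t_g10] _)) (c := (Ch.cons (nat_lit 29) [nat_lit 1, nat_lit 3, nat_lit 5] (Ch.cons (nat_lit 32) [nat_lit 7, nat_lit 9, nat_lit 11] (Ch.cons (nat_lit 78) [nat_lit 13, nat_lit 15, nat_lit 17] (Ch.cons (nat_lit 5) [nat_lit 19, nat_lit 21, nat_lit 23, nat_lit 25] (Ch.cons (nat_lit 14) [nat_lit 27, nat_lit 29] (Ch.cons (nat_lit 4) [nat_lit 31, nat_lit 33] Ch.nil))))))) (by decide +kernel)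

theorem U_s5 : Stab 100 (grp 100 EvHT.EG) [nat_lit 29, nat_lit 3, nat_lit 2, nat_lit 1, nat_lit 0] p_V116 96 :=
  Stab.step (k := 7) (L := (lab 100 7)) p_hn U_s4 p_V116_ok (grp_mono (List.subset_append_right [EvHT.t_g13, EvHT.t_g14, EvHT.t_g15] _)) (c := (Ch.cons (nat_lit 32) [nat_lit 1, nat_lit 3, nat_lit 5] (Ch.cons (nat_lit 78) [nat_lit 7, nat_lit 9, nat_lit 11] (Ch.cons (nat_lit 5) [nat_lit 13, nat_lit 15, nat_lit 17, nat_lit 19] (Ch.cons (nat_lit 14) [nat_lit 21, nat_lit 23] (Ch.cons (nat_lit 4) [nat_lit 25, nat_lit 27] Ch.nil)))))) (by decide +kernel)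

theorem U_s6 : Stab 100 (grp 100 EvHT.EG) [nat_lit 32, nat_lit 29, nat_lit 3, nat_lit 2, nat_lit 1, nat_lit 0] p_V117 32 :=
  Stab.step (k := 7) (L := (lab 100 7)) p_hn U_s5 p_V117_ok (grp_mono (List.subset_append_right [EvHT.t_g18, EvHT.t_g19, EvHT.t_g20] _)) (c := (Ch.cons (nat_lit 78) [nat_lit 1, nat_lit 3, nat_lit 5] (Ch.cons (nat_lit 5) [nat_lit 7, nat_lit 9, nat_lit 11, nat_lit 13] (Ch.cons (nat_lit 14) [nat_lit 15, nat_lit 17] (Ch.cons (nat_lit 4) [nat_lit 19, nat_lit 21] Ch.nil))))) (by decide +kernel)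

theorem p_le120 : grp 100 p_V119 ≤ grp 100 p_V117 :=
  grp_le_of_memB p_hn p_hk p_V117_ok p_V119_ok (ws := [nat_lit 0x11070d01]) (by decide +kernel)

theorem U_s7 : Stab 100 (grp 100 EvHT.EG) [nat_lit 44, nat_lit 32, nat_lit 29, nat_lit 3, nat_lit 2, nat_lit 1, nat_lit 0] p_V119 2 :=
  Stab.step (k := 7) (L := (lab 100 7)) p_hn U_s6 p_V119_ok p_le120 (c := (Ch.cons (nat_lit 17) [nat_lit 1] Ch.nil)) (by decide +kernel)

theorem U_s8 : Stab 100 (grp 100 EvHT.EG) [nat_lit 17, nat_lit 44, nat_lit 32, nat_lit 29, nat_lit 3, nat_lit 2, nat_lit 1, nat_lit 0] p_V121 1 :=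
  Stab.step (k := 7) (L := (lab 100 7)) p_hn U_s7 p_V121_ok (grp_mono (List.subset_append_right [p_g118] _)) (c := Ch.nil) (by decide +kernel)

theorem MpHS.a_U : Net.toPerm 100 MpHS.a ∈ (grp 100 EvHT.EG) :=
  U_s0.le (toPerm_mem_grp (E := EvHT.lb_E) (List.Mem.head _))

theorem HSM.g1_U : Net.toPerm 100 HSM.g1 ∈ (grp 100 EvHT.EG) :=
  U_s0.le (toPerm_mem_grp (E := EvHT.lb_E) (List.Mem.tail _ (List.Mem.head _)))

theorem HSM.g2_U : Net.toPerm 100 HSM.g2 ∈ (grp 100 EvHT.EG) :=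
  U_s0.le (toPerm_mem_grp (E := EvHT.lb_E) (List.Mem.tail _ (List.Mem.tail _ (List.Mem.head _))))

theorem EvHT.t_g1_U : Net.toPerm 100 EvHT.t_g1 ∈ (grp 100 EvHT.EG) :=
  U_s0.le (toPerm_mem_grp (E := EvHT.lb_E) (List.Mem.tail _ (List.Mem.tail _ (List.Mem.tail _ (List.Mem.head _)))))

theorem EvHT.t_g2_U : Net.toPerm 100 EvHT.t_g2 ∈ (grp 100 EvHT.EG) :=
  U_s0.le (toPerm_mem_grp (E := EvHT.lb_E) (List.Mem.tail _ (List.Mem.tail _ (List.Mem.tail _ (List.Mem.tail _ (List.Mem.head _))))))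

theorem EvHT.t_g5_U : Net.toPerm 100 EvHT.t_g5 ∈ (grp 100 EvHT.EG) :=
  U_s0.le (toPerm_mem_grp (E := EvHT.lb_E) (List.Mem.tail _ (List.Mem.tail _ (List.Mem.tail _ (List.Mem.tail _ (List.Mem.tail _ (List.Mem.head _)))))))

theorem EvHT.t_g6_U : Net.toPerm 100 EvHT.t_g6 ∈ (grp 100 EvHT.EG) :=
  U_s0.le (toPerm_mem_grp (E := EvHT.lb_E) (List.Mem.tail _ (List.Mem.tail _ (List.Mem.tail _ (List.Mem.tail _ (List.Mem.tail _ (List.Mem.tail _ (List.Mem.head _))))))))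

theorem EvHT.t_g9_U : Net.toPerm 100 EvHT.t_g9 ∈ (grp 100 EvHT.EG) :=
  U_s0.le (toPerm_mem_grp (E := EvHT.lb_E) (List.Mem.tail _ (List.Mem.tail _ (List.Mem.tail _ (List.Mem.tail _ (List.Mem.tail _ (List.Mem.tail _ (List.Mem.tail _ (List.Mem.head _)))))))))

theorem EvHT.t_g10_U : Net.toPerm 100 EvHT.t_g10 ∈ (grp 100 EvHT.EG) :=
  U_s0.le (toPerm_mem_grp (E := EvHT.lb_E) (List.Mem.tail _ (List.Mem.tail _ (List.Mem.tail _ (List.Mem.tail _ (List.Mem.tail _ (List.Mem.tail _ (List.Mem.tail _ (List.Mem.tail _ (List.Mem.head _))))))))))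

theorem EvHT.t_g13_U : Net.toPerm 100 EvHT.t_g13 ∈ (grp 100 EvHT.EG) :=
  U_s0.le (toPerm_mem_grp (E := EvHT.lb_E) (List.Mem.tail _ (List.Mem.tail _ (List.Mem.tail _ (List.Mem.tail _ (List.Mem.tail _ (List.Mem.tail _ (List.Mem.tail _ (List.Mem.tail _ (List.Mem.tail _ (List.Mem.head _)))))))))))

theorem EvHT.t_g14_U : Net.toPerm 100 EvHT.t_g14 ∈ (grp 100 EvHT.EG) :=
  U_s0.le (toPerm_mem_grp (E := EvHT.lb_E) (List.Mem.tail _ (List.Mem.tail _ (List.Mem.tail _ (List.Mem.tail _ (List.Mem.tail _ (List.Mem.tail _ (List.Mem.tail _ (List.Mem.tail _ (List.Mem.tail _ (List.Mem.tail _ (List.Mem.head _))))))))))))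

theorem EvHT.t_g15_U : Net.toPerm 100 EvHT.t_g15 ∈ (grp 100 EvHT.EG) :=
  U_s0.le (toPerm_mem_grp (E := EvHT.lb_E) (List.Mem.tail _ (List.Mem.tail _ (List.Mem.tail _ (List.Mem.tail _ (List.Mem.tail _ (List.Mem.tail _ (List.Mem.tail _ (List.Mem.tail _ (List.Mem.tail _ (List.Mem.tail _ (List.Mem.tail _ (List.Mem.head _)))))))))))))

theorem EvHT.t_g18_U : Net.toPerm 100 EvHT.t_g18 ∈ (grp 100 EvHT.EG) :=
  U_s0.le (toPerm_mem_grp (E := EvHT.lb_E) (List.Mem.tail _ (List.Mem.tail _ (List.Mem.tail _ (List.Mem.tail _ (List.Mem.tail _ (List.Mem.tail _ (List.Mem.tail _ (List.Mem.tail _ (List.Mem.tail _ (List.Mem.tail _ (List.Mem.tail _ (List.Mem.tail _ (List.Mem.head _))))))))))))))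

theorem EvHT.t_g19_U : Net.toPerm 100 EvHT.t_g19 ∈ (grp 100 EvHT.EG) :=
  U_s0.le (toPerm_mem_grp (E := EvHT.lb_E) (List.Mem.tail _ (List.Mem.tail _ (List.Mem.tail _ (List.Mem.tail _ (List.Mem.tail _ (List.Mem.tail _ (List.Mem.tail _ (List.Mem.tail _ (List.Mem.tail _ (List.Mem.tail _ (List.Mem.tail _ (List.Mem.tail _ (List.Mem.tail _ (List.Mem.head _)))))))))))))))

theorem EvHT.t_g20_U : Net.toPerm 100 EvHT.t_g20 ∈ (grp 100 EvHT.EG) :=
  U_s0.le (toPerm_mem_grp (E := EvHT.lb_E) (List.Mem.tail _ (List.Mem.tail _ (List.Mem.tail _ (List.Mem.tail _ (List.Mem.tail _ (List.Mem.tail _ (List.Mem.tail _ (List.Mem.tail _ (List.Mem.tail _ (List.Mem.tail _ (List.Mem.tail _ (List.Mem.tail _ (List.Mem.tail _ (List.Mem.tail _ (List.Mem.head _))))))))))))))))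

theorem EvHT.t_g23_U : Net.toPerm 100 EvHT.t_g23 ∈ (grp 100 EvHT.EG) :=
  U_s0.le (toPerm_mem_grp (E := EvHT.lb_E) (List.Mem.tail _ (List.Mem.tail _ (List.Mem.tail _ (List.Mem.tail _ (List.Mem.tail _ (List.Mem.tail _ (List.Mem.tail _ (List.Mem.tail _ (List.Mem.tail _ (List.Mem.tail _ (List.Mem.tail _ (List.Mem.tail _ (List.Mem.tail _ (List.Mem.tail _ (List.Mem.tail _ (List.Mem.head _)))))))))))))))))

theorem EvHT.t_g24_U : Net.toPerm 100 EvHT.t_g24 ∈ (grp 100 EvHT.EG) :=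
  U_s0.le (toPerm_mem_grp (E := EvHT.lb_E) (List.Mem.tail _ (List.Mem.tail _ (List.Mem.tail _ (List.Mem.tail _ (List.Mem.tail _ (List.Mem.tail _ (List.Mem.tail _ (List.Mem.tail _ (List.Mem.tail _ (List.Mem.tail _ (List.Mem.tail _ (List.Mem.tail _ (List.Mem.tail _ (List.Mem.tail _ (List.Mem.tail _ (List.Mem.tail _ (List.Mem.head _))))))))))))))))))

theorem EvHT.t_g25_U : Net.toPerm 100 EvHT.t_g25 ∈ (grp 100 EvHT.EG) :=
  U_s0.le (toPerm_mem_grp (E := EvHT.lb_E) (List.Mem.tail _ (List.Mem.tail _ (List.Mem.tail _ (List.Mem.tail _ (List.Mem.tail _ (List.Mem.tail _ (List.Mem.tail _ (List.Mem.tail _ (List.Mem.tail _ (List.Mem.tail _ (List.Mem.tail _ (List.Mem.tail _ (List.Mem.tail _ (List.Mem.tail _ (List.Mem.tail _ (List.Mem.tail _ (List.Mem.tail _ (List.Mem.head _)))))))))))))))))))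

theorem EvHT.t_g28_U : Net.toPerm 100 EvHT.t_g28 ∈ (grp 100 EvHT.EG) :=
  U_s0.le (toPerm_mem_grp (E := EvHT.lb_E) (List.Mem.tail _ (List.Mem.tail _ (List.Mem.tail _ (List.Mem.tail _ (List.Mem.tail _ (List.Mem.tail _ (List.Mem.tail _ (List.Mem.tail _ (List.Mem.tail _ (List.Mem.tail _ (List.Mem.tail _ (List.Mem.tail _ (List.Mem.tail _ (List.Mem.tail _ (List.Mem.tail _ (List.Mem.tail _ (List.Mem.tail _ (List.Mem.tail _ (List.Mem.head _))))))))))))))))))))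

theorem EvHT.t_g29_U : Net.toPerm 100 EvHT.t_g29 ∈ (grp 100 EvHT.EG) :=
  U_s0.le (toPerm_mem_grp (E := EvHT.lb_E) (List.Mem.tail _ (List.Mem.tail _ (List.Mem.tail _ (List.Mem.tail _ (List.Mem.tail _ (List.Mem.tail _ (List.Mem.tail _ (List.Mem.tail _ (List.Mem.tail _ (List.Mem.tail _ (List.Mem.tail _ (List.Mem.tail _ (List.Mem.tail _ (List.Mem.tail _ (List.Mem.tail _ (List.Mem.tail _ (List.Mem.tail _ (List.Mem.tail _ (List.Mem.tail _ (List.Mem.head _)))))))))))))))))))))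

theorem EvHT.t_g30_U : Net.toPerm 100 EvHT.t_g30 ∈ (grp 100 EvHT.EG) :=
  U_s0.le (toPerm_mem_grp (E := EvHT.lb_E) (List.Mem.tail _ (List.Mem.tail _ (List.Mem.tail _ (List.Mem.tail _ (List.Mem.tail _ (List.Mem.tail _ (List.Mem.tail _ (List.Mem.tail _ (List.Mem.tail _ (List.Mem.tail _ (List.Mem.tail _ (List.Mem.tail _ (List.Mem.tail _ (List.Mem.tail _ (List.Mem.tail _ (List.Mem.tail _ (List.Mem.tail _ (List.Mem.tail _ (List.Mem.tail _ (List.Mem.tail _ (List.Mem.head _))))))))))))))))))))))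

theorem EvHT.t_g31_U : Net.toPerm 100 EvHT.t_g31 ∈ (grp 100 EvHT.EG) :=
  U_s0.le (toPerm_mem_grp (E := EvHT.lb_E) (List.Mem.tail _ (List.Mem.tail _ (List.Mem.tail _ (List.Mem.tail _ (List.Mem.tail _ (List.Mem.tail _ (List.Mem.tail _ (List.Mem.tail _ (List.Mem.tail _ (List.Mem.tail _ (List.Mem.tail _ (List.Mem.tail _ (List.Mem.tail _ (List.Mem.tail _ (List.Mem.tail _ (List.Mem.tail _ (List.Mem.tail _ (List.Mem.tail _ (List.Mem.tail _ (List.Mem.tail _ (List.Mem.tail _ (List.Mem.head _)))))))))))))))))))))))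

theorem EvHT.t_g34_U : Net.toPerm 100 EvHT.t_g34 ∈ (grp 100 EvHT.EG) :=
  U_s0.le (toPerm_mem_grp (E := EvHT.lb_E) (List.Mem.tail _ (List.Mem.tail _ (List.Mem.tail _ (List.Mem.tail _ (List.Mem.tail _ (List.Mem.tail _ (List.Mem.tail _ (List.Mem.tail _ (List.Mem.tail _ (List.Mem.tail _ (List.Mem.tail _ (List.Mem.tail _ (List.Mem.tail _ (List.Mem.tail _ (List.Mem.tail _ (List.Mem.tail _ (List.Mem.tail _ (List.Mem.tail _ (List.Mem.tail _ (List.Mem.tail _ (List.Mem.tail _ (List.Mem.tail _ (List.Mem.head _))))))))))))))))))))))))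

theorem p_g118_U : Net.toPerm 100 p_g118 ∈ (grp 100 EvHT.EG) :=
  U_s7.le (toPerm_mem_grp (E := p_V119) (List.Mem.head _))

noncomputable def U_s8_O : ℕ := (nat_lit 0x3333266666ccccd99999333321f07c1f03e0f83e0f83e0f83ee63398c67319ce63398c673184db24d926c93649b64db26d9200000000000000000000000010000000000000000000000002000000000000000000000000400000000000000000000000080000000000000000020000000000000000000000010000000000000000000001000000000000000000000000000000020000)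

theorem U_s8_F : Frame 100 (grp 100 EvHT.EG) 8 12 U_s8_O 1 1 :=
  IsBase.frame U_s8.isBase (by decide +kernel)

noncomputable def U_s1_O : ℕ := (nat_lit 0x12110006600158092109810060000000000000000000000001)

theorem U_s1_F : Frame 100 (grp 100 EvHT.EG) 1 2 U_s1_O 0 1 :=
  Stab.frame p_hn U_s1 (by decide +kernel)

noncomputable def Y1_cnt_L : List ℕ := [1, 2, U_s1_O, 0, 0, 8, 12, U_s8_O, 1, 0]

theorem Y1_cnt_P : Prob 100 7 (grp 100 EvHT.EG) Y1_cnt_EG L1 L1 Y1 Y1_cnt_L 0 0 :=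
  Sym.prob p_hn p_hk Y1_sym Y1_cnt_EG_ok (grp_cons_le MpHS.a_U (grp_cons_le HSM.g1_U (grp_cons_le HSM.g2_U (grp_cons_le EvHT.t_g1_U (grp_cons_le EvHT.t_g2_U (grp_cons_le EvHT.t_g5_U (grp_cons_le EvHT.t_g6_U (grp_cons_le EvHT.t_g9_U (grp_cons_le EvHT.t_g10_U (grp_cons_le EvHT.t_g13_U (grp_cons_le EvHT.t_g14_U (grp_cons_le EvHT.t_g15_U (grp_cons_le EvHT.t_g18_U (grp_cons_le EvHT.t_g19_U (grp_cons_le EvHT.t_g20_U (grp_cons_le EvHT.t_g23_U (grp_cons_le EvHT.t_g24_U (grp_cons_le EvHT.t_g25_U (grp_cons_le EvHT.t_g28_U (grp_cons_le EvHT.t_g29_U (grp_cons_le EvHT.t_g30_U (grp_cons_le EvHT.t_g31_U (grp_cons_le EvHT.t_g34_U (grp_cons_le p_g118_U (grp_nil_le _))))))))))))))))))))))))) (Frames.cons U_s1_F (Frames.cons U_s8_F Frames.nil)) L1_ok _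

noncomputable def Y1_cnt_t : BT := (BT.fix (nat_lit 0x303030303) (BT.img (nat_lit 1) (nat_lit 0) (BT.fix (nat_lit 257) (BT.img (nat_lit 3) (nat_lit 1) (BT.and (nat_lit 1) (nat_lit 0) (BT.img (nat_lit 3) (nat_lit 0) (BT.img (nat_lit 3) (nat_lit 0) (BT.and (nat_lit 4) (nat_lit 0) (BT.img (nat_lit 3) (nat_lit 0) (BT.img (nat_lit 3) (nat_lit 0) (BT.dif (nat_lit 8) (nat_lit 0) (BT.and (nat_lit 9) (nat_lit 1) (BT.img (nat_lit 3) (nat_lit 0) (BT.and (nat_lit 9) (nat_lit 0) (BT.img (nat_lit 3) (nat_lit 0) (BT.dif (nat_lit 4) (nat_lit 0) (BT.fix (nat_lit 1) (BT.and (nat_lit 15) (nat_lit 2) (BT.img (nat_lit 3) (nat_lit 0) (BT.and (nat_lit 15) (nat_lit 0) (BT.img (nat_lit 1) (nat_lit 0) (BT.img (nat_lit 1) (nat_lit 0) (BT.img (nat_lit 3) (nat_lit 0) (BT.and (nat_lit 6) (nat_lit 0) (BT.img (nat_lit 3) (nat_lit 0) (BT.img (nat_lit 3) (nat_lit 0) (BT.img (nat_lit 1) (nat_lit 0) (BT.and (nat_lit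 26) (nat_lit 0) (BT.img (nat_lit 1) (nat_lit 0) (BT.dif (nat_lit 13) (nat_lit 0) (BT.img (nat_lit 3) (nat_lit 2) (BT.and (nat_lit 30) (nat_lit 0) (BT.img (nat_lit 1) (nat_lit 0) (BT.dif (nat_lit 3) (nat_lit 0) (BT.br (nat_lit 0) (nat_lit 97) [nat_lit 1] (BT.kid (nat_lit 97) (nat_lit 1) (BT.dif (nat_lit 32) (nat_lit 18) (BT.img (nat_lit 1) (nat_lit 1) (BT.img (nat_lit 3) (nat_lit 0) (BT.img (nat_lit 3) (nat_lit 0) (BT.dif (nat_lit 3) (nat_lit 0) (BT.dif (nat_lit 42) (nat_lit 37) (BT.dif (nat_lit 5) (nat_lit 37) (BT.img (nat_lit 1) (nat_lit 37) (BT.dif (nat_lit 1) (nat_lit 0) (BT.dif (nat_lit 0) (nat_lit 37) (BT.img (nat_lit 1) (nat_lit 37) (BT.dif (nat_lit 1) (nat_lit 0) (BT.img (nat_lit 1) (nat_lit 38) (BT.img (nat_lit 3) (nat_lit 0) (BT.dif (nat_lit 2) (nat_lit 0) (BT.and (nat_lit 47) (nat_lit 1) (BT.img (nat_lit 1) (nat_lit 0) (BT.dif (nat_lit 2) (nat_lit 0) (BT.img (nat_lit 3)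 (nat_lit 0) (BT.and (nat_lit 13) (nat_lit 0) (BT.img (nat_lit 3) (nat_lit 0) (BT.and (nat_lit 20) (nat_lit 0) (BT.img (nat_lit 1) (nat_lit 0) (BT.and (nat_lit 18) (nat_lit 0) (BT.img (nat_lit 1) (nat_lit 4) (BT.and (nat_lit 19) (nat_lit 0) (BT.and (nat_lit 20) (nat_lit 5) (BT.img (nat_lit 3) (nat_lit 5) (BT.and (nat_lit 8) (nat_lit 0) (BT.img (nat_lit 3) (nat_lit 0) (BT.and (nat_lit 3) (nat_lit 0) (BT.img (nat_lit 3) (nat_lit 0) (BT.and (nat_lit 26) (nat_lit 0) (BT.img (nat_lit 3) (nat_lit 0) (BT.and (nat_lit 28) (nat_lit 0) (BT.img (nat_lit 3) (nat_lit 0) (BT.and (nat_lit 30) (nat_lit 0) (BT.img (nat_lit 1) (nat_lit 0) (BT.and (nat_lit 32) (nat_lit 0) (BT.img (nat_lit 3) (nat_lit 0) (BT.and (nat_lit 14) (nat_lit 0) (BT.img (nat_lit 1) (nat_lit 8) (BT.and (nat_lit 36) (nat_lit 0) (BT.img (nat_lit 1) (nat_lit 14) (BT.and (nat_lit 18) (nat_lit 0) (BT.frm (nat_lit 0) (nat_lit 0) (nat_lit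 0) [nat_lit 23] (BT.pln (nat_lit 0) (nat_lit 1) (BT.and (nat_lit 27) (nat_lit 0) (BT.dif (nat_lit 21) (nat_lit 18) (BT.img (nat_lit 1) (nat_lit 0) (BT.and (nat_lit 2) (nat_lit 0) (BT.dif (nat_lit 3) (nat_lit 1) (BT.one (nat_lit 1) (nat_lit 0x2f1f2b19130c0809) (nat_lit 0x2f1f2b19130c0809) [nat_lit 52, nat_lit 28, nat_lit 11, nat_lit 9, nat_lit 7, nat_lit 1, nat_lit 0, nat_lit 30]))))))))))))))))))))))))))))))))))))))))))))))))))))) BT.nil))))))))))))))))))))))))))))))))))))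

theorem Y1_cnt : Cnt 100 (grp 100 EvHT.EG) L1 L1 0 0 0 0 2 :=
  BT.sound Y1_cnt_P Known.nil (t := Y1_cnt_t) (d := 0) (by decide +kernel)

theorem Y1_ge : 2 ≤ Nat.card (grp 100 Y1) :=
  Ch.le_card_grp (k := 7) (L := (lab 100 7)) p_hn Y1_ok (c := (Ch.cons (nat_lit 97) [nat_lit 1] Ch.nil)) (by decide +kernel)

theorem Y1_eq : (grp 100 EvHT.EG) ⊓ Subgroup.centralizer (grp 100 L1 : Set (Equiv.Perm (Fin 100))) = grp 100 Y1 :=
  cent_grp_eq Y1_sym Y1_cnt Y1_ge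

theorem Y1_card : Nat.card (grp 100 Y1) = 2 :=
  (Y1_sym.mem_iff Y1_cnt Y1_ge).1

theorem cmp1 : EvG.Cmp (grp 100 HSM.E) (grp 100 EvHT.EG) (Net.toPerm 100 EvHT.t_g39) (grp 100 L1) (grp 100 Y1) :=
  ⟨EvHT.nt_c1_mem, EvG.sq_net p_hn p_hk (by decide +kernel), L1_G, EvG.le_cent p_hn p_hk (by decide +kernel),
    EvHT.nt_c1_eq.le.trans L1_n, ⟨2, by rw [EvHT.nt_c1_card, L1o_card]; norm_num⟩, EvG.simple_of_alt (by norm_num) A1,
    EvG.nab_of (toPerm_mem_grp (E := L1) (List.Mem.head _)) (toPerm_mem_grp (E := L1) (List.Mem.tail _ (List.Mem.head _))) (EvG.ncomm_net (k := 7) p_hn (by decide +kernel)),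
    fun _ hy _ h => Y1_eq.le ⟨hy, fun x hx => (h x hx).symm⟩⟩

theorem V1_s0 : Stab 100 (grp 100 L1) [] L1o_E0 20160 :=
  Stab.root' L1o_E0_ok L1o_eq L1o_card

theorem p_le127 : grp 100 lt1_c1_K ≤ grp 100 L1o_E0 :=
  grp_le_of_memB p_hn p_hk L1o_E0_ok lt1_c1_K_ok (ws := [nat_lit 0x171f07010c, nat_lit 0x1d110b0e050106, nat_lit 0x1719110b0e050106, nat_lit 0x1f0d0104]) (by decide +kernel)

theorem lt1_c1_le : grp 100 lt1_c1_K ≤ (grp 100 L1) :=
  (p_le127.trans V1_s0.le)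

theorem lt1_c1_mem : Net.toPerm 100 p_g122 ∈ (grp 100 L1) :=
  lt1_c1_le (mem_grp_of_memB p_hn p_hk lt1_c1_K_ok p_g122_ok (w := (nat_lit 65793)) (by decide +kernel))

theorem lt1_c1_sym : Sym 100 (grp 100 L1) [p_g122] lt1_c1_K 0 :=
  Sym.of_lab p_hn p_hk (okE_cons.2 ⟨p_g122_ok, okE_nil _⟩) lt1_c1_K_ok lt1_c1_le (kT := 0) (by decide +kernel)

theorem V1_s1 : Stab 100 (grp 100 L1) [nat_lit 0] p_V128 1344 :=
  Stab.step (k := 7) (L := (lab 100 7)) p_hn V1_s0 p_V128_ok (grp_mono (List.subset_append_right [p_g62, p_g63] _)) (c := (Ch.cons (nat_lit 6) [nat_lit 1, nat_lit 3, nat_lit 5] (Ch.cons (nat_lit 76) [nat_lit 7, nat_lit 9, nat_lit 11] (Ch.cons (nat_lit 12) [nat_lit 13, nat_lit 15, nat_lit 17] (Ch.cons (nat_lit 5) [nat_lit 19, nat_lit 21, nat_lit 23, nat_lit 25, nat_lit 27, nat_lit 29, nat_lit 31, nat_lit 33] Ch.nil))))) (by decide +kernel)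

theorem p_le134 : grp 100 p_V133 ≤ grp 100 p_V128 :=
  grp_le_of_memB p_hn p_hk p_V128_ok p_V133_ok (ws := [nat_lit 0x1f0d07, nat_lit 0x13190d0901, nat_lit 7943, nat_lit 6919]) (by decide +kernel)

theorem V1_s2 : Stab 100 (grp 100 L1) [nat_lit 7, nat_lit 0] p_V133 96 :=
  Stab.step (k := 7) (L := (lab 100 7)) p_hn V1_s1 p_V133_ok p_le134 (c := (Ch.cons (nat_lit 65) [nat_lit 1] (Ch.cons (nat_lit 6) [nat_lit 3] (Ch.cons (nat_lit 48) [nat_lit 5] (Ch.cons (nat_lit 74) [nat_lit 7] Ch.nil))))) (by decide +kernel)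

theorem V1_s3 : Stab 100 (grp 100 L1) [nat_lit 65, nat_lit 7, nat_lit 0] p_V135 48 :=
  Stab.step (k := 7) (L := (lab 100 7)) p_hn V1_s2 p_V135_ok (grp_mono (List.subset_append_right [p_g129] _)) (c := (Ch.cons (nat_lit 6) [nat_lit 1] (Ch.cons (nat_lit 48) [nat_lit 3] (Ch.cons (nat_lit 74) [nat_lit 5] Ch.nil)))) (by decide +kernel)

theorem V1_s4 : Stab 100 (grp 100 L1) [nat_lit 6, nat_lit 65, nat_lit 7, nat_lit 0] p_V136 12 :=
  Stab.step (k := 7) (L := (lab 100 7)) p_hn V1_s3 p_V136_ok (grp_mono (List.subset_append_right [p_g130] _)) (c := (Ch.cons (nat_lit 48) [nat_lit 1] (Ch.cons (nat_lit 74) [nat_lit 3] Ch.nil))) (by decide +kernel)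

theorem V1_s5 : Stab 100 (grp 100 L1) [nat_lit 48, nat_lit 6, nat_lit 65, nat_lit 7, nat_lit 0] p_V137 3 :=
  Stab.step (k := 7) (L := (lab 100 7)) p_hn V1_s4 p_V137_ok (grp_mono (List.subset_append_right [p_g131] _)) (c := (Ch.cons (nat_lit 74) [nat_lit 1] Ch.nil)) (by decide +kernel)

theorem V1_s6 : Stab 100 (grp 100 L1) [nat_lit 74, nat_lit 48, nat_lit 6, nat_lit 65, nat_lit 7, nat_lit 0] p_V138 1 :=
  Stab.step (k := 7) (L := (lab 100 7)) p_hn V1_s5 p_V138_ok (grp_mono (List.subset_append_right [p_g132] _)) (c := Ch.nil) (by decide +kernel)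

theorem p_g62_V1 : Net.toPerm 100 p_g62 ∈ (grp 100 L1) :=
  V1_s0.le (toPerm_mem_grp (E := L1o_E0) (List.Mem.head _))

theorem p_g63_V1 : Net.toPerm 100 p_g63 ∈ (grp 100 L1) :=
  V1_s0.le (toPerm_mem_grp (E := L1o_E0) (List.Mem.tail _ (List.Mem.head _)))

theorem p_g70_V1 : Net.toPerm 100 p_g70 ∈ (grp 100 L1) :=
  V1_s0.le (toPerm_mem_grp (E := L1o_E0) (List.Mem.tail _ (List.Mem.tail _ (List.Mem.head _))))

theorem p_g66_V1 : Net.toPerm 100 p_g66 ∈ (grp 100 L1) :=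
  V1_s0.le (toPerm_mem_grp (E := L1o_E0) (List.Mem.tail _ (List.Mem.tail _ (List.Mem.tail _ (List.Mem.head _)))))

theorem p_g67_V1 : Net.toPerm 100 p_g67 ∈ (grp 100 L1) :=
  V1_s0.le (toPerm_mem_grp (E := L1o_E0) (List.Mem.tail _ (List.Mem.tail _ (List.Mem.tail _ (List.Mem.tail _ (List.Mem.head _))))))

theorem p_g74_V1 : Net.toPerm 100 p_g74 ∈ (grp 100 L1) :=
  V1_s0.le (toPerm_mem_grp (E := L1o_E0) (List.Mem.tail _ (List.Mem.tail _ (List.Mem.tail _ (List.Mem.tail _ (List.Mem.tail _ (List.Mem.head _)))))))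

theorem p_g73_V1 : Net.toPerm 100 p_g73 ∈ (grp 100 L1) :=
  V1_s0.le (toPerm_mem_grp (E := L1o_E0) (List.Mem.tail _ (List.Mem.tail _ (List.Mem.tail _ (List.Mem.tail _ (List.Mem.tail _ (List.Mem.tail _ (List.Mem.head _))))))))

theorem p_g75_V1 : Net.toPerm 100 p_g75 ∈ (grp 100 L1) :=
  V1_s0.le (toPerm_mem_grp (E := L1o_E0) (List.Mem.tail _ (List.Mem.tail _ (List.Mem.tail _ (List.Mem.tail _ (List.Mem.tail _ (List.Mem.tail _ (List.Mem.tail _ (List.Mem.head _)))))))))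

theorem p_g82_V1 : Net.toPerm 100 p_g82 ∈ (grp 100 L1) :=
  V1_s0.le (toPerm_mem_grp (E := L1o_E0) (List.Mem.tail _ (List.Mem.tail _ (List.Mem.tail _ (List.Mem.tail _ (List.Mem.tail _ (List.Mem.tail _ (List.Mem.tail _ (List.Mem.tail _ (List.Mem.head _))))))))))

theorem p_g80_V1 : Net.toPerm 100 p_g80 ∈ (grp 100 L1) :=
  V1_s0.le (toPerm_mem_grp (E := L1o_E0) (List.Mem.tail _ (List.Mem.tail _ (List.Mem.tail _ (List.Mem.tail _ (List.Mem.tail _ (List.Mem.tail _ (List.Mem.tail _ (List.Mem.tail _ (List.Mem.tail _ (List.Mem.head _)))))))))))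

theorem p_g81_V1 : Net.toPerm 100 p_g81 ∈ (grp 100 L1) :=
  V1_s0.le (toPerm_mem_grp (E := L1o_E0) (List.Mem.tail _ (List.Mem.tail _ (List.Mem.tail _ (List.Mem.tail _ (List.Mem.tail _ (List.Mem.tail _ (List.Mem.tail _ (List.Mem.tail _ (List.Mem.tail _ (List.Mem.tail _ (List.Mem.head _))))))))))))

theorem p_g94_V1 : Net.toPerm 100 p_g94 ∈ (grp 100 L1) :=
  V1_s0.le (toPerm_mem_grp (E := L1o_E0) (List.Mem.tail _ (List.Mem.tail _ (List.Mem.tail _ (List.Mem.tail _ (List.Mem.tail _ (List.Mem.tail _ (List.Mem.tail _ (List.Mem.tail _ (List.Mem.tail _ (List.Mem.tail _ (List.Mem.tail _ (List.Mem.head _)))))))))))))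

theorem p_g89_V1 : Net.toPerm 100 p_g89 ∈ (grp 100 L1) :=
  V1_s0.le (toPerm_mem_grp (E := L1o_E0) (List.Mem.tail _ (List.Mem.tail _ (List.Mem.tail _ (List.Mem.tail _ (List.Mem.tail _ (List.Mem.tail _ (List.Mem.tail _ (List.Mem.tail _ (List.Mem.tail _ (List.Mem.tail _ (List.Mem.tail _ (List.Mem.tail _ (List.Mem.head _))))))))))))))

theorem p_g95_V1 : Net.toPerm 100 p_g95 ∈ (grp 100 L1) :=
  V1_s0.le (toPerm_mem_grp (E := L1o_E0) (List.Mem.tail _ (List.Mem.tail _ (List.Mem.tail _ (List.Mem.tail _ (List.Mem.tail _ (List.Mem.tail _ (List.Mem.tail _ (List.Mem.tail _ (List.Mem.tail _ (List.Mem.tail _ (List.Mem.tail _ (List.Mem.tail _ (List.Mem.tail _ (List.Mem.head _)))))))))))))))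

theorem p_g96_V1 : Net.toPerm 100 p_g96 ∈ (grp 100 L1) :=
  V1_s0.le (toPerm_mem_grp (E := L1o_E0) (List.Mem.tail _ (List.Mem.tail _ (List.Mem.tail _ (List.Mem.tail _ (List.Mem.tail _ (List.Mem.tail _ (List.Mem.tail _ (List.Mem.tail _ (List.Mem.tail _ (List.Mem.tail _ (List.Mem.tail _ (List.Mem.tail _ (List.Mem.tail _ (List.Mem.tail _ (List.Mem.head _))))))))))))))))

theorem p_g87_V1 : Net.toPerm 100 p_g87 ∈ (grp 100 L1) :=
  V1_s0.le (toPerm_mem_grp (E := L1o_E0) (List.Mem.tail _ (List.Mem.tail _ (List.Mem.tail _ (List.Mem.tail _ (List.Mem.tail _ (List.Mem.tail _ (List.Mem.tail _ (List.Mem.tail _ (List.Mem.tail _ (List.Mem.tail _ (List.Mem.tail _ (List.Mem.tail _ (List.Mem.tail _ (List.Mem.tail _ (List.Mem.tail _ (List.Mem.head _)))))))))))))))))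

theorem p_g88_V1 : Net.toPerm 100 p_g88 ∈ (grp 100 L1) :=
  V1_s0.le (toPerm_mem_grp (E := L1o_E0) (List.Mem.tail _ (List.Mem.tail _ (List.Mem.tail _ (List.Mem.tail _ (List.Mem.tail _ (List.Mem.tail _ (List.Mem.tail _ (List.Mem.tail _ (List.Mem.tail _ (List.Mem.tail _ (List.Mem.tail _ (List.Mem.tail _ (List.Mem.tail _ (List.Mem.tail _ (List.Mem.tail _ (List.Mem.tail _ (List.Mem.head _))))))))))))))))))

theorem p_g90_V1 : Net.toPerm 100 p_g90 ∈ (grp 100 L1) :=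
  V1_s0.le (toPerm_mem_grp (E := L1o_E0) (List.Mem.tail _ (List.Mem.tail _ (List.Mem.tail _ (List.Mem.tail _ (List.Mem.tail _ (List.Mem.tail _ (List.Mem.tail _ (List.Mem.tail _ (List.Mem.tail _ (List.Mem.tail _ (List.Mem.tail _ (List.Mem.tail _ (List.Mem.tail _ (List.Mem.tail _ (List.Mem.tail _ (List.Mem.tail _ (List.Mem.tail _ (List.Mem.head _)))))))))))))))))))

theorem p_g91_V1 : Net.toPerm 100 p_g91 ∈ (grp 100 L1) :=
  V1_s0.le (toPerm_mem_grp (E := L1o_E0) (List.Mem.tail _ (List.Mem.tail _ (List.Mem.tail _ (List.Mem.tail _ (List.Mem.tail _ (List.Mem.tail _ (List.Mem.tail _ (List.Mem.tail _ (List.Mem.tail _ (List.Mem.tail _ (List.Mem.tail _ (List.Mem.tail _ (List.Mem.tail _ (List.Mem.tail _ (List.Mem.tail _ (List.Mem.tail _ (List.Mem.tail _ (List.Mem.tail _ (List.Mem.head _))))))))))))))))))))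

theorem p_g131_V1 : Net.toPerm 100 p_g131 ∈ (grp 100 L1) :=
  V1_s4.le (toPerm_mem_grp (E := p_V136) (List.Mem.head _))

theorem p_g132_V1 : Net.toPerm 100 p_g132 ∈ (grp 100 L1) :=
  V1_s4.le (toPerm_mem_grp (E := p_V136) (List.Mem.tail _ (List.Mem.head _)))

theorem p_g130_V1 : Net.toPerm 100 p_g130 ∈ (grp 100 L1) :=
  V1_s3.le (toPerm_mem_grp (E := p_V135) (List.Mem.head _))

theorem p_g129_V1 : Net.toPerm 100 p_g129 ∈ (grp 100 L1) :=
  V1_s2.le (toPerm_mem_grp (E := p_V133) (List.Mem.head _))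

noncomputable def V1_s6_O : ℕ := (nat_lit 0x3333266666ccccd99999333321f07c1f03e0f83e0f83e0f83ee63398c67319ce63398c673184db24d926c93649b64db26d92000000000000000000000000100000000000000000000000800000000020000000000000000000000000000000000000004000000000000010000000000000000004000000000000000000)

theorem V1_s6_F : Frame 100 (grp 100 L1) 6 10 V1_s6_O 1 1 :=
  IsBase.frame V1_s6.isBase (by decide +kernel)

noncomputable def V1_s5_O : ℕ := (nat_lit 0x1000000000000000000000000000000000800000000000000000000000040000000000000000000000000000080000000000000000000000000800000000004000420000000000000000800100001000000000000004000004000080000000000000000008080004000000000000002100000000100000000000000000000010408000000000000004000000200200000000000004000200000001000000000000100000100000080000000000200040000000004000000000000008000080000100000000000000000600000008000000000000020000080000200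0000000000000000000400120000000000000000010000005000000000000000000000220080000000000000008000000004100000000000000000000000022400000000002000000000004010000800000000000000080000800000000000000000040200020000000000000000000010081000002000000000000000002080000080000000000000004004000800000000000000000004200000400800000000000000010000020000000200000000000100000001000000000000000028000100000000000000010000400000000000000000000000010000000000000000000000080000000002000000000000000000000000000000000000000400000000000001000000000000)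

theorem V1_s5_F : Frame 100 (grp 100 L1) 5 39 V1_s5_O 0 1 :=
  Stab.frame p_hn V1_s5 (by decide +kernel)

noncomputable def V1_s2_O : ℕ := (nat_lit 0x400000000000000000002000000000080000000040080000000000000001000000000000004801200000000008001000010000000000004000010000000010000001000048000280801840002d0000800001600001020020840200228002c00420000000360080004200121000064001000801008100200000000000000000000000010000000000000000000000080)

theorem V1_s2_F : Frame 100 (grp 100 L1) 2 12 V1_s2_O 0 1 :=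
  Stab.frame p_hn V1_s2 (by decide +kernel)

noncomputable def V1_s1_O : ℕ := (nat_lit 0x8401800010000000000014000010000000058012001000048000280801840402d0000808012100006600100080108810020000000000000000000000001)

theorem V1_s1_F : Frame 100 (grp 100 L1) 1 5 V1_s1_O 0 1 :=
  Stab.frame p_hn V1_s1 (by decide +kernel)

noncomputable def V1_s0_O : ℕ := (nat_lit 0x850180001058012001001448000280801840402d00008081)

theorem V1_s0_F : Frame 100 (grp 100 L1) 0 2 V1_s0_O 0 1 :=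
  Stab.frame p_hn V1_s0 (by decide +kernel)

noncomputable def lt1_c1_cnt_L : List ℕ := [0, 2, V1_s0_O, 0, 0, 1, 5, V1_s1_O, 0, 0, 2, 12, V1_s2_O, 0, 0, 5, 39, V1_s5_O, 0, 0, 6, 10, V1_s6_O, 1, 0]

theorem lt1_c1_cnt_P : Prob 100 7 (grp 100 L1) lt1_c1_cnt_EG [p_g122] [p_g122] lt1_c1_K lt1_c1_cnt_L 0 0 :=
  Sym.prob p_hn p_hk lt1_c1_sym lt1_c1_cnt_EG_ok (grp_cons_le p_g62_V1 (grp_cons_le p_g63_V1 (grp_cons_le p_g70_V1 (grp_cons_le p_g66_V1 (grp_cons_le p_g67_V1 (grp_cons_le p_g74_V1 (grp_cons_le p_g73_V1 (grp_cons_le p_g75_V1 (grp_cons_le p_g82_V1 (grp_cons_le p_g80_V1 (grp_cons_le p_g81_V1 (grp_cons_le p_g94_V1 (grp_cons_le p_g89_V1 (grp_cons_le p_g95_V1 (grp_cons_le p_g96_V1 (grp_cons_le p_g87_V1 (grp_cons_le p_g88_V1 (grp_cons_le p_g90_V1 (grp_cons_le p_g91_V1 (grp_cons_le p_g131_V1 (grp_cons_le p_g132_V1 (grp_cons_le p_g130_V1 (grp_cons_le p_g129_V1 (grp_nil_le _))))))))))))))))))))))))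 (Frames.cons V1_s0_F (Frames.cons V1_s1_F (Frames.cons V1_s2_F (Frames.cons V1_s5_F (Frames.cons V1_s6_F Frames.nil))))) (okE_cons.2 ⟨p_g122_ok, okE_nil _⟩) _

noncomputable def lt1_c1_cnt_t : BT := (BT.frm (nat_lit 0) (nat_lit 0) (nat_lit 0) [] (BT.pln (nat_lit 0) (nat_lit 0) (BT.fix (nat_lit 1) (BT.dif (nat_lit 1) (nat_lit 0) (BT.br (nat_lit 0) (nat_lit 37) [nat_lit 1, nat_lit 3] (BT.kid (nat_lit 37) (nat_lit 24) (BT.img (nat_lit 1) (nat_lit 0) (BT.frm (nat_lit 2) (nat_lit 459020) (nat_lit 459020) [nat_lit 0, nat_lit 1] (BT.pln (nat_lit 0) (nat_lit 10) (BT.br (nat_lit 0) (nat_lit 49) [nat_lit 3] (BT.kid (nat_lit 49) (nat_lit 12) (BT.pln (nat_lit 8) (nat_lit 1) (BT.dif (nat_lit 0) (nat_lit 7) (BT.frm (nat_lit 1) (nat_lit 268) (nat_lit 268) [nat_lit 6] (BT.pln (nat_lit 0) (nat_lit 3) (BT.dif (nat_lit 2) (nat_lit 0) (BT.br (nat_lit 0) (nat_lit 47) [nat_lit 5, nat_lit 7] (BT.kid (nat_lit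 47) (nat_lit 3) (BT.img (nat_lit 1) (nat_lit 0) (BT.frm (nat_lit 3) (nat_lit 0x272907010c) (nat_lit 0x272907010c) [nat_lit 0, nat_lit 1, nat_lit 7, nat_lit 10, nat_lit 11] (BT.pln (nat_lit 0) (nat_lit 31) (BT.br (nat_lit 0) (nat_lit 95) [nat_lit 7] (BT.kid (nat_lit 95) (nat_lit 1) (BT.one (nat_lit 4) (nat_lit 0x2a272907010c) (nat_lit 0x2a272907010c) [nat_lit 0, nat_lit 3, nat_lit 4, nat_lit 10, nat_lit 13, nat_lit 14]) BT.nil))))) BT.nil))))))) BT.nil))))) BT.nil))))))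

theorem lt1_c1_cnt : Cnt 100 (grp 100 L1) [p_g122] [p_g122] 0 0 0 0 192 :=
  BT.sound lt1_c1_cnt_P Known.nil (t := lt1_c1_cnt_t) (d := 0) (by decide +kernel)

theorem lt1_c1_ge : 192 ≤ Nat.card (grp 100 lt1_c1_K) :=
  Ch.le_card_grp (k := 7) (L := (lab 100 7)) p_hn lt1_c1_K_ok (c := (Ch.cons (nat_lit 37) [nat_lit 1] (Ch.cons (nat_lit 49) [nat_lit 3] (Ch.cons (nat_lit 47) [nat_lit 5] (Ch.cons (nat_lit 95) [nat_lit 7] Ch.nil))))) (by decide +kernel)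

theorem lt1_c1_eq : (grp 100 L1) ⊓ Subgroup.centralizer {Net.toPerm 100 p_g122} = grp 100 lt1_c1_K :=
  cent_eq lt1_c1_sym lt1_c1_cnt lt1_c1_ge

theorem lt1_c1_card : Nat.card ↥((grp 100 L1) ⊓ Subgroup.centralizer {Net.toPerm 100 p_g122}) = 192 :=
  card_cent lt1_c1_sym lt1_c1_cnt lt1_c1_ge

theorem lt1_c1_ord : orderOf (Net.toPerm 100 p_g122) = 2 :=
  orderOf_net p_hn p_hk p_g122_ok (by decide) (ps := [2]) (by set_option linter.unusedSimpArgs false in simp [Nat.primeFactorsList_ofNat]) (by decide +kernel)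

theorem p_le144 : grp 100 lt1_c2_K ≤ grp 100 L1o_E0 :=
  grp_le_of_memB p_hn p_hk L1o_E0_ok lt1_c2_K_ok (ws := [nat_lit 0x1d2311, nat_lit 1, nat_lit 0x171b110b0d, nat_lit 0x171b0b0e, nat_lit 0x1d0b0e, nat_lit 0x1d230d]) (by decide +kernel)

theorem lt1_c2_le : grp 100 lt1_c2_K ≤ (grp 100 L1) :=
  (p_le144.trans V1_s0.le)

theorem lt1_c2_mem : Net.toPerm 100 p_g139 ∈ (grp 100 L1) :=
  lt1_c2_le (toPerm_mem_grp (E := lt1_c2_K) (List.Mem.tail _ (List.Mem.tail _ (List.Mem.head _))))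

theorem lt1_c2_sym : Sym 100 (grp 100 L1) [p_g139] lt1_c2_K 0 :=
  Sym.of_lab p_hn p_hk (okE_cons.2 ⟨p_g139_ok, okE_nil _⟩) lt1_c2_K_ok lt1_c2_le (kT := 0) (by decide +kernel)

theorem p_le147 : grp 100 p_V146 ≤ grp 100 p_V136 :=
  grp_le_of_memB p_hn p_hk p_V136_ok p_V146_ok (ws := [nat_lit 196867, nat_lit 770]) (by decide +kernel)

theorem V1_s7 : Stab 100 (grp 100 L1) [nat_lit 76, nat_lit 6, nat_lit 65, nat_lit 7, nat_lit 0] p_V146 4 :=
  Stab.step (k := 7) (L := (lab 100 7)) p_hn V1_s4 p_V146_ok p_le147 (c := (Ch.cons (nat_lit 34) [nat_lit 1] (Ch.cons (nat_lit 72) [nat_lit 3] Ch.nil))) (by decide +kernel)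

theorem V1_s8 : Stab 100 (grp 100 L1) [nat_lit 34, nat_lit 76, nat_lit 6, nat_lit 65, nat_lit 7, nat_lit 0] p_V148 2 :=
  Stab.step (k := 7) (L := (lab 100 7)) p_hn V1_s7 p_V148_ok (grp_mono (List.subset_append_right [p_g145] _)) (c := (Ch.cons (nat_lit 72) [nat_lit 1] Ch.nil)) (by decide +kernel)

theorem V1_s9 : Stab 100 (grp 100 L1) [nat_lit 72, nat_lit 34, nat_lit 76, nat_lit 6, nat_lit 65, nat_lit 7, nat_lit 0] p_V149 1 :=
  Stab.step (k := 7) (L := (lab 100 7)) p_hn V1_s8 p_V149_ok (grp_mono (List.subset_append_right [p_g95] _)) (c := Ch.nil) (by decide +kernel)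

theorem p_g145_V1 : Net.toPerm 100 p_g145 ∈ (grp 100 L1) :=
  V1_s7.le (toPerm_mem_grp (E := p_V146) (List.Mem.head _))

noncomputable def V1_s9_O : ℕ := (nat_lit 0x3333266666ccccd99999333321f07c1f03e0f83e0f83e0f83ee63398c67319ce63398c673184db24d926c93649b64db26d920000000000000000000000001000000000000000000000008000000000200000000000000000000000000000000000000040000001000000000000000000000000000000000004000000000000001000000000000000000)

theorem V1_s9_F : Frame 100 (grp 100 L1) 7 11 V1_s9_O 1 1 :=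
  IsBase.frame V1_s9.isBase (by decide +kernel)

noncomputable def V1_s8_O : ℕ := (nat_lit 0x800000000000000000000000010000000000000000000000000400000000000000000000000000080000000000000000000000000800000000000000000000000040000000000000000000000000400000000000000000000000000100000000000000000000000000040000000000000000000000000020000000000000000000000000800000000000000000000000000080000000000000000000000000010000000000000000000000000100006000000000000000000000000081000000000000000000008000080000000000000000000000204000000000000000000020000200000000000000000000000001080000000000000000000000200400000000000000000002000010000000000000000000000200010000000000000400000000000800000000000001000000000020000000000000001000000001000000000000000000000000030000000000000000000000000600000000000000000008000010000000000020000000000000800000000000000001000000040000000000000000000000801000000000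000000000000400020000000000000000008000001000000000800000000000000080000000000000000040000004000000000008000000000000080000000000000000020000004000000000000000008000000100000010000000000000000000800000000000000200000000040000000000000000000002002000000000000000000000020100000000000000040000000008000000040000000000000000400000000000020000000000020000000000000000080000000800000000000000000000040040004000000000000000000002000000004000000000000000020000000000000000000020001000000000100000000000000080000000000000000000100004000000000000000000000000100000000000000000000000800000000020000000000000000000000000000000000000004000000100000000000000000000000000000000000400000000)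

theorem V1_s8_F : Frame 100 (grp 100 L1) 6 59 V1_s8_O 0 1 :=
  Stab.frame p_hn V1_s8 (by decide +kernel)

noncomputable def V1_s7_O : ℕ := (nat_lit 0x8000000000000000000000000040000000000000000000000000008000000000000000000000000000010000000000000000000000000004000000000000000000000000000000800000000000000000000000000010080000800000000000000000000010000400000000000000000000020000100000000000000000000002000100000000000000200000000000008000000000000000080000000080000000000000000000000024000000000000000000800000100000000100000000000000000008000000000000000400000000080000000000040000000000001000000000000000000001000000240000010800080000000000000060000100000004000000000000000000000480120000000028000200000000000800000000000800008000010008000000000000000022000000404000001000000000020000200200000002040000000000002010000000040000000030000000400000000000020000800000028000008100000000000000400400040000000000006000000020000000040004000000400000200000002004000000000200010000000001008000000100000800000000000000000000000010000000000000000000000080000000002000000000000000000000000000000000000000400000010000000000000000000)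

theorem V1_s7_F : Frame 100 (grp 100 L1) 5 39 V1_s7_O 0 1 :=
  Stab.frame p_hn V1_s7 (by decide +kernel)

noncomputable def lt1_c2_cnt_L : List ℕ := [0, 2, V1_s0_O, 0, 0, 2, 12, V1_s2_O, 0, 0, 5, 39, V1_s7_O, 0, 0, 6, 59, V1_s8_O, 0, 0, 7, 11, V1_s9_O, 1, 0]

theorem lt1_c2_cnt_P : Prob 100 7 (grp 100 L1) lt1_c2_cnt_EG [p_g139] [p_g139] lt1_c2_K lt1_c2_cnt_L 0 0 :=
  Sym.prob p_hn p_hk lt1_c2_sym lt1_c2_cnt_EG_ok (grp_cons_le p_g70_V1 (grp_cons_le p_g66_V1 (grp_cons_le p_g67_V1 (grp_cons_le p_g74_V1 (grp_cons_le p_g73_V1 (grp_cons_le p_g75_V1 (grp_cons_le p_g82_V1 (grp_cons_le p_g80_V1 (grp_cons_le p_g81_V1 (grp_cons_le p_g94_V1 (grp_cons_le p_g89_V1 (grp_cons_le p_g95_V1 (grp_cons_le p_g96_V1 (grp_cons_le p_g87_V1 (grp_cons_le p_g88_V1 (grp_cons_le p_g90_V1 (grp_cons_le p_g91_V1 (grp_cons_le p_g62_V1 (grp_cons_le p_g63_V1 (grp_cons_le p_g131_V1 (grp_cons_le p_g132_V1 (grp_cons_le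 p_g130_V1 (grp_cons_le p_g129_V1 (grp_cons_le p_g145_V1 (grp_nil_le _))))))))))))))))))))))))) (Frames.cons V1_s0_F (Frames.cons V1_s2_F (Frames.cons V1_s7_F (Frames.cons V1_s8_F (Frames.cons V1_s9_F Frames.nil))))) (okE_cons.2 ⟨p_g139_ok, okE_nil _⟩) _

noncomputable def lt1_c2_cnt_t : BT := (BT.frm (nat_lit 0) (nat_lit 0) (nat_lit 0) [] (BT.pln (nat_lit 0) (nat_lit 0) (BT.fix (nat_lit 1) (BT.and (nat_lit 1) (nat_lit 0) (BT.br (nat_lit 0) (nat_lit 32) [nat_lit 1, nat_lit 3] (BT.kid (nat_lit 32) (nat_lit 32) (BT.dif (nat_lit 1) (nat_lit 0) (BT.br (nat_lit 0) (nat_lit 0) [nat_lit 3] (BT.kid (nat_lit 0) (nat_lit 16) (BT.frm (nat_lit 1) (nat_lit 0x203230b) (nat_lit 0x203230b) [nat_lit 0, nat_lit 2] (BT.pln (nat_lit 0) (nat_lit 10) (BT.and (nat_lit 6) (nat_lit 0) (BT.br (nat_lit 0) (nat_lit 1) [] (BT.dead (nat_lit 28) (BT.pln (nat_lit 10) (nat_lit 1) (BT.pln (nat_lit 4) (nat_lit 7) (BT.and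 (nat_lit 1) (nat_lit 0) (BT.br (nat_lit 0) (nat_lit 50) [nat_lit 5, nat_lit 7] (BT.dead (nat_lit 50) (BT.img (nat_lit 1) (nat_lit 0) (BT.frm (nat_lit 2) (nat_lit 0x203230b) (nat_lit 0x272d0203230b) [nat_lit 0, nat_lit 1, nat_lit 5, nat_lit 9, nat_lit 11] (BT.pln (nat_lit 0) (nat_lit 10) (BT.and (nat_lit 0) (nat_lit 15) (BT.cnt (nat_lit 0)))))) BT.nil))))) (BT.kid (nat_lit 1) (nat_lit 16) (BT.pln (nat_lit 10) (nat_lit 1) (BT.pln (nat_lit 4) (nat_lit 7) (BT.and (nat_lit 1) (nat_lit 0) (BT.br (nat_lit 0) (nat_lit 50) [nat_lit 5, nat_lit 7] (BT.kid (nat_lit 50) (nat_lit 4) (BT.img (nat_lit 1) (nat_lit 0) (BT.frm (nat_lit 2) (nat_lit 0x203230b) (nat_lit 0x203230b) [nat_lit 0, nat_lit 1, nat_lit 5, nat_lit 9, nat_lit 11] (BT.pln (nat_lit 0) (nat_lit 25) (BT.and (nat_lit 16) (nat_lit 0) (BT.br (nat_lit 0) (nat_lit 46) [nat_lit 9] (BT.kid (nat_lit 46) (nat_lit 2) (BT.frm (nat_lit 3) (nat_lit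 0x2f0203230b) (nat_lit 0x2f0203230b) [nat_lit 0, nat_lit 4, nat_lit 5, nat_lit 9, nat_lit 13, nat_lit 15] (BT.pln (nat_lit 0) (nat_lit 39) (BT.br (nat_lit 0) (nat_lit 62) [nat_lit 11] (BT.kid (nat_lit 62) (nat_lit 1) (BT.one (nat_lit 4) (nat_lit 0x172f0203230b) (nat_lit 0x172f0203230b) [nat_lit 0, nat_lit 3, nat_lit 7, nat_lit 8, nat_lit 12, nat_lit 16, nat_lit 18]) BT.nil)))) BT.nil)))))) BT.nil))))) BT.nil)))))) BT.nil))) BT.nil))))))

theorem lt1_c2_cnt : Cnt 100 (grp 100 L1) [p_g139] [p_g139] 0 0 0 0 96 :=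
  BT.sound lt1_c2_cnt_P Known.nil (t := lt1_c2_cnt_t) (d := 0) (by decide +kernel)

theorem lt1_c2_ge : 96 ≤ Nat.card (grp 100 lt1_c2_K) :=
  Ch.le_card_grp (k := 7) (L := (lab 100 7)) p_hn lt1_c2_K_ok (c := (Ch.cons (nat_lit 32) [nat_lit 1] (Ch.cons (nat_lit 0) [nat_lit 3] (Ch.cons (nat_lit 50) [nat_lit 5, nat_lit 7] (Ch.cons (nat_lit 46) [nat_lit 9] (Ch.cons (nat_lit 62) [nat_lit 11] Ch.nil)))))) (by decide +kernel)

theorem lt1_c2_eq : (grp 100 L1) ⊓ Subgroup.centralizer {Net.toPerm 100 p_g139} = grp 100 lt1_c2_K :=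
  cent_eq lt1_c2_sym lt1_c2_cnt lt1_c2_ge

theorem lt1_c2_card : Nat.card ↥((grp 100 L1) ⊓ Subgroup.centralizer {Net.toPerm 100 p_g139}) = 96 :=
  card_cent lt1_c2_sym lt1_c2_cnt lt1_c2_ge

theorem lt1_c2_ord : orderOf (Net.toPerm 100 p_g139) = 2 :=
  orderOf_net p_hn p_hk p_g139_ok (by decide) (ps := [2]) (by set_option linter.unusedSimpArgs false in simp [Nat.primeFactorsList_ofNat]) (by decide +kernel)

theorem p_le154 : grp 100 lt1_c3_K ≤ grp 100 L1o_E0 :=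
  grp_le_of_memB p_hn p_hk L1o_E0_ok lt1_c3_K_ok (ws := [nat_lit 0x171b0e050e, nat_lit 0x1f0d0104, nat_lit 0x21110b0e050106, nat_lit 0x171f110b010b]) (by decide +kernel)

theorem lt1_c3_le : grp 100 lt1_c3_K ≤ (grp 100 L1) :=
  (p_le154.trans V1_s0.le)

theorem lt1_c3_mem : Net.toPerm 100 p_g150 ∈ (grp 100 L1) :=
  lt1_c3_le (mem_grp_of_memB p_hn p_hk lt1_c3_K_ok p_g150_ok (w := (nat_lit 0x50703020301)) (by decide +kernel))

theorem lt1_c3_sym : Sym 100 (grp 100 L1) [p_g150] lt1_c3_K 0 :=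
  Sym.of_lab p_hn p_hk (okE_cons.2 ⟨p_g150_ok, okE_nil _⟩) lt1_c3_K_ok lt1_c3_le (kT := 0) (by decide +kernel)

theorem p_le158 : grp 100 p_V157 ≤ grp 100 p_V133 :=
  grp_le_of_memB p_hn p_hk p_V133_ok p_V157_ok (ws := [nat_lit 0x805030501, nat_lit 459526, nat_lit 460039, nat_lit 3, nat_lit 1798]) (by decide +kernel)

theorem V1_s10 : Stab 100 (grp 100 L1) [nat_lit 75, nat_lit 7, nat_lit 0] p_V157 32 :=
  Stab.step (k := 7) (L := (lab 100 7)) p_hn V1_s2 p_V157_ok p_le158 (c := (Ch.cons (nat_lit 8) [nat_lit 1] (Ch.cons (nat_lit 37) [nat_lit 3, nat_lit 5] (Ch.cons (nat_lit 79) [nat_lit 7, nat_lit 9] Ch.nil)))) (by decide +kernel)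

theorem V1_s11 : Stab 100 (grp 100 L1) [nat_lit 8, nat_lit 75, nat_lit 7, nat_lit 0] p_V159 16 :=
  Stab.step (k := 7) (L := (lab 100 7)) p_hn V1_s10 p_V159_ok (grp_mono (List.subset_append_right [p_g155] _)) (c := (Ch.cons (nat_lit 37) [nat_lit 1, nat_lit 3] (Ch.cons (nat_lit 79) [nat_lit 5, nat_lit 7] Ch.nil))) (by decide +kernel)

theorem V1_s12 : Stab 100 (grp 100 L1) [nat_lit 37, nat_lit 8, nat_lit 75, nat_lit 7, nat_lit 0] p_V160 4 :=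
  Stab.step (k := 7) (L := (lab 100 7)) p_hn V1_s11 p_V160_ok (grp_mono (List.subset_append_right [p_g156, p_g145] _)) (c := (Ch.cons (nat_lit 79) [nat_lit 1, nat_lit 3] Ch.nil)) (by decide +kernel)

theorem V1_s13 : Stab 100 (grp 100 L1) [nat_lit 79, nat_lit 37, nat_lit 8, nat_lit 75, nat_lit 7, nat_lit 0] p_V161 1 :=
  Stab.step (k := 7) (L := (lab 100 7)) p_hn V1_s12 p_V161_ok (grp_mono (List.subset_append_right [p_g130, p_g95] _)) (c := Ch.nil) (by decide +kernel)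

theorem p_g156_V1 : Net.toPerm 100 p_g156 ∈ (grp 100 L1) :=
  V1_s11.le (toPerm_mem_grp (E := p_V159) (List.Mem.head _))

theorem p_g155_V1 : Net.toPerm 100 p_g155 ∈ (grp 100 L1) :=
  V1_s10.le (toPerm_mem_grp (E := p_V157) (List.Mem.head _))

noncomputable def V1_s13_O : ℕ := (nat_lit 0x3333266666ccccd99999333321f07c1f03e0f83e0f83e0f83ee63398c67319ce63398c673184db24d926c93649b64db26d92000000000000000000000000100000000000000000000000800000008000000000000000000000000000000000000000010000000000000000020000000000000080000000000000000000)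

theorem V1_s13_F : Frame 100 (grp 100 L1) 6 10 V1_s13_O 1 1 :=
  IsBase.frame V1_s13.isBase (by decide +kernel)

noncomputable def V1_s10_O : ℕ := (nat_lit 0x400000000000000000002000000000080000000040000000000000000001000000000800000002c000000000000000000004801200000000010000000000200002002000000100004400000000000010000400000000000060000000200008001000010000000000004000010000000010000001000048000280001840000100008000280042000000030008000400000600001020000840000028001200000200010008010080002000000000000000000000000100000000000000000000000800000008000000000000000000)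

theorem V1_s10_F : Frame 100 (grp 100 L1) 3 17 V1_s10_O 0 1 :=
  Stab.frame p_hn V1_s10 (by decide +kernel)

noncomputable def lt1_c3_cnt_L : List ℕ := [0, 2, V1_s0_O, 0, 0, 2, 12, V1_s2_O, 0, 0, 3, 17, V1_s10_O, 0, 0, 6, 10, V1_s13_O, 1, 0]

theorem lt1_c3_cnt_P : Prob 100 7 (grp 100 L1) lt1_c3_cnt_EG [p_g150] [p_g150] lt1_c3_K lt1_c3_cnt_L 0 0 :=
  Sym.prob p_hn p_hk lt1_c3_sym lt1_c3_cnt_EG_ok (grp_cons_le p_g70_V1 (grp_cons_le p_g66_V1 (grp_cons_le p_g67_V1 (grp_cons_le p_g74_V1 (grp_cons_le p_g73_V1 (grp_cons_le p_g75_V1 (grp_cons_le p_g82_V1 (grp_cons_le p_g80_V1 (grp_cons_le p_g81_V1 (grp_cons_le p_g94_V1 (grp_cons_le p_g89_V1 (grp_cons_le p_g95_V1 (grp_cons_le p_g96_V1 (grp_cons_le p_g87_V1 (grp_cons_le p_g88_V1 (grp_cons_le p_g90_V1 (grp_cons_le p_g91_V1 (grp_cons_le p_g62_V1 (grp_cons_le p_g63_V1 (grp_cons_le p_g129_V1 (grp_cons_le p_g130_V1 (grp_cons_le p_g131_V1 (grp_cons_le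 p_g132_V1 (grp_cons_le p_g156_V1 (grp_cons_le p_g145_V1 (grp_cons_le p_g155_V1 (grp_nil_le _))))))))))))))))))))))))))) (Frames.cons V1_s0_F (Frames.cons V1_s2_F (Frames.cons V1_s10_F (Frames.cons V1_s13_F Frames.nil)))) (okE_cons.2 ⟨p_g150_ok, okE_nil _⟩) _

noncomputable def lt1_c3_cnt_t : BT := (BT.frm (nat_lit 0) (nat_lit 0) (nat_lit 0) [] (BT.pln (nat_lit 0) (nat_lit 0) (BT.br (nat_lit 0) (nat_lit 37) [nat_lit 1, nat_lit 3] (BT.kid (nat_lit 37) (nat_lit 12) (BT.pln (nat_lit 2) (nat_lit 1) (BT.img (nat_lit 1) (nat_lit 1) (BT.frm (nat_lit 1) (nat_lit 0x1042308) (nat_lit 0x1042308) [nat_lit 0, nat_lit 2] (BT.pln (nat_lit 0) (nat_lit 9) (BT.and (nat_lit 3) (nat_lit 0) (BT.br (nat_lit 0) (nat_lit 84) [nat_lit 3] (BT.kid (nat_lit 84) (nat_lit 4) (BT.frm (nat_lit 2) (nat_lit 0x2c01042308) (nat_lit 0x2c01042308) [nat_lit 0, nat_lit 4, nat_lit 6] (BT.pln (nat_lit 0) (nat_lit 13) (BT.and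 (nat_lit 9) (nat_lit 0) (BT.br (nat_lit 0) (nat_lit 79) [nat_lit 5, nat_lit 7] (BT.kid (nat_lit 79) (nat_lit 1) (BT.img (nat_lit 1) (nat_lit 0) (BT.img (nat_lit 1) (nat_lit 5) (BT.one (nat_lit 3) (nat_lit 0x172f332c01042308) (nat_lit 0x172f332c01042308) [nat_lit 1, nat_lit 2, nat_lit 0, nat_lit 6, nat_lit 10, nat_lit 12]))) BT.nil))))) BT.nil))))))) BT.nil))))

theorem lt1_c3_cnt : Cnt 100 (grp 100 L1) [p_g150] [p_g150] 0 0 0 0 180 :=
  BT.sound lt1_c3_cnt_P Known.nil (t := lt1_c3_cnt_t) (d := 0) (by decide +kernel)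

theorem lt1_c3_ge : 180 ≤ Nat.card (grp 100 lt1_c3_K) :=
  Ch.le_card_grp (k := 7) (L := (lab 100 7)) p_hn lt1_c3_K_ok (c := (Ch.cons (nat_lit 37) [nat_lit 1] (Ch.cons (nat_lit 84) [nat_lit 3] (Ch.cons (nat_lit 79) [nat_lit 5, nat_lit 7] Ch.nil)))) (by decide +kernel)

theorem lt1_c3_eq : (grp 100 L1) ⊓ Subgroup.centralizer {Net.toPerm 100 p_g150} = grp 100 lt1_c3_K :=
  cent_eq lt1_c3_sym lt1_c3_cnt lt1_c3_ge

theorem lt1_c3_card : Nat.card ↥((grp 100 L1) ⊓ Subgroup.centralizer {Net.toPerm 100 p_g150}) = 180 :=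
  card_cent lt1_c3_sym lt1_c3_cnt lt1_c3_ge

theorem lt1_c3_ord : orderOf (Net.toPerm 100 p_g150) = 3 :=
  orderOf_net p_hn p_hk p_g150_ok (by decide) (ps := [3]) (by set_option linter.unusedSimpArgs false in simp [Nat.primeFactorsList_ofNat]) (by decide +kernel)

theorem p_le165 : grp 100 lt1_c4_K ≤ grp 100 L1o_E0 :=
  grp_le_of_memB p_hn p_hk L1o_E0_ok lt1_c4_K_ok (ws := [nat_lit 0x1711050305, nat_lit 0x19110b0e050e030f, nat_lit 0x171f0b0e0305]) (by decide +kernel)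

theorem lt1_c4_le : grp 100 lt1_c4_K ≤ (grp 100 L1) :=
  (p_le165.trans V1_s0.le)

theorem lt1_c4_mem : Net.toPerm 100 p_g162 ∈ (grp 100 L1) :=
  lt1_c4_le (toPerm_mem_grp (E := lt1_c4_K) (List.Mem.tail _ (List.Mem.head _)))

theorem lt1_c4_sym : Sym 100 (grp 100 L1) [p_g162] lt1_c4_K 0 :=
  Sym.of_lab p_hn p_hk (okE_cons.2 ⟨p_g162_ok, okE_nil _⟩) lt1_c4_K_ok lt1_c4_le (kT := 0) (by decide +kernel)

theorem V1_s14 : Stab 100 (grp 100 L1) [nat_lit 6, nat_lit 0] p_V166 192 :=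
  Stab.step (k := 7) (L := (lab 100 7)) p_hn V1_s1 p_V166_ok (grp_mono (List.subset_append_right [p_g70, p_g66, p_g67] _)) (c := (Ch.cons (nat_lit 76) [nat_lit 1, nat_lit 3, nat_lit 5] (Ch.cons (nat_lit 12) [nat_lit 7, nat_lit 9, nat_lit 11] (Ch.cons (nat_lit 5) [nat_lit 13, nat_lit 15, nat_lit 17, nat_lit 19, nat_lit 21, nat_lit 23, nat_lit 25, nat_lit 27] Ch.nil)))) (by decide +kernel)

theorem p_le171 : grp 100 p_V170 ≤ grp 100 p_V166 :=
  grp_le_of_memB p_hn p_hk p_V166_ok p_V170_ok (ws := [nat_lit 858371, nat_lit 3347, nat_lit 3349]) (by decide +kernel)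

theorem V1_s15 : Stab 100 (grp 100 L1) [nat_lit 99, nat_lit 6, nat_lit 0] p_V170 24 :=
  Stab.step (k := 7) (L := (lab 100 7)) p_hn V1_s14 p_V170_ok p_le171 (c := (Ch.cons (nat_lit 15) [nat_lit 1] (Ch.cons (nat_lit 71) [nat_lit 3, nat_lit 5] Ch.nil))) (by decide +kernel)

theorem V1_s16 : Stab 100 (grp 100 L1) [nat_lit 15, nat_lit 99, nat_lit 6, nat_lit 0] p_V172 4 :=
  Stab.step (k := 7) (L := (lab 100 7)) p_hn V1_s15 p_V172_ok (grp_mono (List.subset_append_right [p_g167] _)) (c := (Ch.cons (nat_lit 71) [nat_lit 1, nat_lit 3] Ch.nil)) (by decide +kernel)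

theorem V1_s17 : Stab 100 (grp 100 L1) [nat_lit 71, nat_lit 15, nat_lit 99, nat_lit 6, nat_lit 0] p_V173 1 :=
  Stab.step (k := 7) (L := (lab 100 7)) p_hn V1_s16 p_V173_ok (grp_mono (List.subset_append_right [p_g168, p_g169] _)) (c := Ch.nil) (by decide +kernel)

theorem p_g168_V1 : Net.toPerm 100 p_g168 ∈ (grp 100 L1) :=
  V1_s16.le (toPerm_mem_grp (E := p_V172) (List.Mem.head _))

theorem p_g169_V1 : Net.toPerm 100 p_g169 ∈ (grp 100 L1) :=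
  V1_s16.le (toPerm_mem_grp (E := p_V172) (List.Mem.tail _ (List.Mem.head _)))

theorem p_g167_V1 : Net.toPerm 100 p_g167 ∈ (grp 100 L1) :=
  V1_s15.le (toPerm_mem_grp (E := p_V170) (List.Mem.head _))

noncomputable def V1_s17_O : ℕ := (nat_lit 0x3333266666ccccd99999333321f07c1f03e0f83e0f83e0f83ee63398c67319ce63398c673184db24d926c93649b64db26d9200000000000000000000000010000000000000000000000040800000000000000000000000000000000000000000000080000000000800000000000000000)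

theorem V1_s17_F : Frame 100 (grp 100 L1) 5 9 V1_s17_O 1 1 :=
  IsBase.frame V1_s17.isBase (by decide +kernel)

noncomputable def V1_s14_O : ℕ := (nat_lit 0x20000180000250000000000840180001000000000001001000000040000000010081002021000062001000800080000000089000080000100084004008000080800040400800008080000100000000580120010000400000000000000000000000010000000000000000000000040)

theorem V1_s14_F : Frame 100 (grp 100 L1) 2 9 V1_s14_O 0 1 :=
  Stab.frame p_hn V1_s14 (by decide +kernel)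

noncomputable def lt1_c4_cnt_L : List ℕ := [0, 2, V1_s0_O, 0, 0, 1, 5, V1_s1_O, 0, 0, 2, 9, V1_s14_O, 0, 0, 5, 9, V1_s17_O, 1, 0]

theorem lt1_c4_cnt_P : Prob 100 7 (grp 100 L1) lt1_c4_cnt_EG [p_g162] [p_g162] lt1_c4_K lt1_c4_cnt_L 0 0 :=
  Sym.prob p_hn p_hk lt1_c4_sym lt1_c4_cnt_EG_ok (grp_cons_le p_g62_V1 (grp_cons_le p_g63_V1 (grp_cons_le p_g70_V1 (grp_cons_le p_g66_V1 (grp_cons_le p_g67_V1 (grp_cons_le p_g74_V1 (grp_cons_le p_g73_V1 (grp_cons_le p_g75_V1 (grp_cons_le p_g82_V1 (grp_cons_le p_g80_V1 (grp_cons_le p_g81_V1 (grp_cons_le p_g94_V1 (grp_cons_le p_g89_V1 (grp_cons_le p_g95_V1 (grp_cons_le p_g96_V1 (grp_cons_le p_g87_V1 (grp_cons_le p_g88_V1 (grp_cons_le p_g90_V1 (grp_cons_le p_g91_V1 (grp_cons_le p_g168_V1 (grp_cons_le p_g169_V1 (grp_cons_le p_g167_V1 (grp_nil_le _))))))))))))))))))))))) (Frames.cons V1_s0_F (Frames.cons V1_s1_F (Frames.cons V1_s14_F (Frames.cons V1_s17_F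 Frames.nil)))) (okE_cons.2 ⟨p_g162_ok, okE_nil _⟩) _

noncomputable def lt1_c4_cnt_t : BT := (BT.frm (nat_lit 0) (nat_lit 0) (nat_lit 0) [] (BT.pln (nat_lit 0) (nat_lit 0) (BT.fix (nat_lit 1) (BT.and (nat_lit 1) (nat_lit 0) (BT.br (nat_lit 0) (nat_lit 7) [nat_lit 1] (BT.kid (nat_lit 7) (nat_lit 6) (BT.dif (nat_lit 3) (nat_lit 2) (BT.pln (nat_lit 5) (nat_lit 1) (BT.and (nat_lit 0) (nat_lit 4) (BT.frm (nat_lit 1) (nat_lit 782) (nat_lit 782) [nat_lit 3] (BT.pln (nat_lit 0) (nat_lit 3) (BT.dif (nat_lit 2) (nat_lit 0) (BT.frm (nat_lit 2) (nat_lit 0x508030e) (nat_lit 0x508030e) [nat_lit 0, nat_lit 6] (BT.pln (nat_lit 0) (nat_lit 3) (BT.and (nat_lit 7) (nat_lit 0) (BT.br (nat_lit 0) (nat_lit 35) [nat_lit 3, nat_lit 5] (BT.kid (nat_lit 35) (nat_lit 1) (BT.img (nat_lit 1) (nat_lit 0) (BT.img (nat_lit 1) (nat_lit 0) (BT.one (nat_lit 3) (nat_lit 0x292b2b110508030e) (nat_lit 0x292b2b110508030e)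 [nat_lit 0, nat_lit 1, nat_lit 2, nat_lit 6, nat_lit 12]))) BT.nil))))))))))) BT.nil))))))

theorem lt1_c4_cnt : Cnt 100 (grp 100 L1) [p_g162] [p_g162] 0 0 0 0 18 :=
  BT.sound lt1_c4_cnt_P Known.nil (t := lt1_c4_cnt_t) (d := 0) (by decide +kernel)

theorem lt1_c4_ge : 18 ≤ Nat.card (grp 100 lt1_c4_K) :=
  Ch.le_card_grp (k := 7) (L := (lab 100 7)) p_hn lt1_c4_K_ok (c := (Ch.cons (nat_lit 7) [nat_lit 1] (Ch.cons (nat_lit 35) [nat_lit 3, nat_lit 5] Ch.nil))) (by decide +kernel)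

theorem lt1_c4_eq : (grp 100 L1) ⊓ Subgroup.centralizer {Net.toPerm 100 p_g162} = grp 100 lt1_c4_K :=
  cent_eq lt1_c4_sym lt1_c4_cnt lt1_c4_ge

theorem lt1_c4_card : Nat.card ↥((grp 100 L1) ⊓ Subgroup.centralizer {Net.toPerm 100 p_g162}) = 18 :=
  card_cent lt1_c4_sym lt1_c4_cnt lt1_c4_ge

theorem lt1_c4_ord : orderOf (Net.toPerm 100 p_g162) = 3 :=
  orderOf_net p_hn p_hk p_g162_ok (by decide) (ps := [3]) (by set_option linter.unusedSimpArgs false in simp [Nat.primeFactorsList_ofNat]) (by decide +kernel)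

theorem p_le176 : grp 100 lt1_c5_K ≤ grp 100 L1o_E0 :=
  grp_le_of_memB p_hn p_hk L1o_E0_ok lt1_c5_K_ok (ws := [nat_lit 0x1f110b0d0501, nat_lit 0x1f0b0e0804, nat_lit 0x1719110b0e050106]) (by decide +kernel)

theorem lt1_c5_le : grp 100 lt1_c5_K ≤ (grp 100 L1) :=
  (p_le176.trans V1_s0.le)

theorem lt1_c5_mem : Net.toPerm 100 p_g174 ∈ (grp 100 L1) :=
  lt1_c5_le (toPerm_mem_grp (E := lt1_c5_K) (List.Mem.head _))

theorem lt1_c5_sym : Sym 100 (grp 100 L1) [p_g174] lt1_c5_K 0 :=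
  Sym.of_lab p_hn p_hk (okE_cons.2 ⟨p_g174_ok, okE_nil _⟩) lt1_c5_K_ok lt1_c5_le (kT := 0) (by decide +kernel)

theorem p_le180 : grp 100 p_V179 ≤ grp 100 p_V166 :=
  grp_le_of_memB p_hn p_hk p_V166_ok p_V179_ok (ws := [nat_lit 855815, nat_lit 0x15070104, nat_lit 13, nat_lit 27, nat_lit 0xd0f0103]) (by decide +kernel)

theorem V1_s18 : Stab 100 (grp 100 L1) [nat_lit 59, nat_lit 6, nat_lit 0] p_V179 32 :=
  Stab.step (k := 7) (L := (lab 100 7)) p_hn V1_s14 p_V179_ok p_le180 (c := (Ch.cons (nat_lit 81) [nat_lit 1, nat_lit 3] (Ch.cons (nat_lit 8) [nat_lit 5] (Ch.cons (nat_lit 44) [nat_lit 7, nat_lit 9] Ch.nil)))) (by decide +kernel)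

theorem V1_s19 : Stab 100 (grp 100 L1) [nat_lit 81, nat_lit 59, nat_lit 6, nat_lit 0] p_V181 8 :=
  Stab.step (k := 7) (L := (lab 100 7)) p_hn V1_s18 p_V181_ok (grp_mono (List.subset_append_right [p_g177, p_g178] _)) (c := (Ch.cons (nat_lit 8) [nat_lit 1] (Ch.cons (nat_lit 44) [nat_lit 3, nat_lit 5] Ch.nil))) (by decide +kernel)

theorem V1_s20 : Stab 100 (grp 100 L1) [nat_lit 8, nat_lit 81, nat_lit 59, nat_lit 6, nat_lit 0] p_V182 4 :=
  Stab.step (k := 7) (L := (lab 100 7)) p_hn V1_s19 p_V182_ok (grp_mono (List.subset_append_right [p_g94] _)) (c := (Ch.cons (nat_lit 44) [nat_lit 1, nat_lit 3] Ch.nil)) (by decide +kernel)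

theorem V1_s21 : Stab 100 (grp 100 L1) [nat_lit 44, nat_lit 8, nat_lit 81, nat_lit 59, nat_lit 6, nat_lit 0] p_V183 1 :=
  Stab.step (k := 7) (L := (lab 100 7)) p_hn V1_s20 p_V183_ok (grp_mono (List.subset_append_right [p_g91, EvHT.t_g220] _)) (c := Ch.nil) (by decide +kernel)

theorem EvHT.t_g220_V1 : Net.toPerm 100 EvHT.t_g220 ∈ (grp 100 L1) :=
  V1_s19.le (toPerm_mem_grp (E := p_V181) (List.Mem.tail _ (List.Mem.tail _ (List.Mem.head _))))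

theorem p_g177_V1 : Net.toPerm 100 p_g177 ∈ (grp 100 L1) :=
  V1_s18.le (toPerm_mem_grp (E := p_V179) (List.Mem.head _))

theorem p_g178_V1 : Net.toPerm 100 p_g178 ∈ (grp 100 L1) :=
  V1_s18.le (toPerm_mem_grp (E := p_V179) (List.Mem.tail _ (List.Mem.head _)))

noncomputable def V1_s21_O : ℕ := (nat_lit 0x3333266666ccccd99999333321f07c1f03e0f83e0f83e0f83ee63398c67319ce63398c673184db24d926c93649b64db26d92000000000000000000000000100000000000000000000000400000000000800000000000000000020000000000000000000000000000000000000000001000000000000000100000000000)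

theorem V1_s21_F : Frame 100 (grp 100 L1) 6 10 V1_s21_O 1 1 :=
  IsBase.frame V1_s21.isBase (by decide +kernel)

noncomputable def V1_s20_O : ℕ := (nat_lit 0x8000000000000000000000000000000010000000000000000000000000000002000000000000000000000000040000000000000000000000001000000000000000000000000010000000000000000000000000000000200088000000000000000000000000018000000000000000000000400000010000000000000000000000000018000000000000001000000000001000000000000010000000000000800000000000000080000000004000000000000000004000000100000100000000000000000008000000000000400000000000010000000000000000010000000400000000000000000020000000400100006000100000000000000042000080000200000000000002004100000010000000000020000000020000800800000004000400100000000002000000020000002000000800080000000000000000820200002000000000004000020000040040000040000201000000000002000000000008000400008000080000000000000008004000014000080002000000000000000280080000800000004000000000800000000000600000004000020010000000000004000100001000000000000000000000000010000000000000000000000040000000000080000000000000000002000000000000000000000000000000000000000000100)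

theorem V1_s20_F : Frame 100 (grp 100 L1) 5 39 V1_s20_O 0 1 :=
  Stab.frame p_hn V1_s20 (by decide +kernel)

noncomputable def lt1_c5_cnt_L : List ℕ := [0, 2, V1_s0_O, 0, 0, 1, 5, V1_s1_O, 0, 0, 5, 39, V1_s20_O, 0, 0, 6, 10, V1_s21_O, 1, 0]

theorem lt1_c5_cnt_P : Prob 100 7 (grp 100 L1) lt1_c5_cnt_EG [p_g174] [p_g174] lt1_c5_K lt1_c5_cnt_L 0 0 :=
  Sym.prob p_hn p_hk lt1_c5_sym lt1_c5_cnt_EG_ok (grp_cons_le p_g62_V1 (grp_cons_le p_g63_V1 (grp_cons_le p_g70_V1 (grp_cons_le p_g66_V1 (grp_cons_le p_g67_V1 (grp_cons_le p_g74_V1 (grp_cons_le p_g73_V1 (grp_cons_le p_g75_V1 (grp_cons_le p_g82_V1 (grp_cons_le p_g80_V1 (grp_cons_le p_g81_V1 (grp_cons_le p_g94_V1 (grp_cons_le p_g89_V1 (grp_cons_le p_g95_V1 (grp_cons_le p_g96_V1 (grp_cons_le p_g87_V1 (grp_cons_le p_g88_V1 (grp_cons_le p_g90_V1 (grp_cons_le p_g91_V1 (grp_cons_le EvHT.t_g220_V1 (grp_cons_le p_g177_V1 (grp_cons_le p_g178_V1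 (grp_nil_le _))))))))))))))))))))))) (Frames.cons V1_s0_F (Frames.cons V1_s1_F (Frames.cons V1_s20_F (Frames.cons V1_s21_F Frames.nil)))) (okE_cons.2 ⟨p_g174_ok, okE_nil _⟩) _

noncomputable def lt1_c5_cnt_t : BT := (BT.frm (nat_lit 0) (nat_lit 0) (nat_lit 0) [] (BT.pln (nat_lit 0) (nat_lit 0) (BT.fix (nat_lit 257) (BT.dif (nat_lit 1) (nat_lit 0) (BT.br (nat_lit 0) (nat_lit 37) [nat_lit 1, nat_lit 3] (BT.kid (nat_lit 37) (nat_lit 2) (BT.pln (nat_lit 4) (nat_lit 1) (BT.dif (nat_lit 0) (nat_lit 3) (BT.frm (nat_lit 1) (nat_lit 268) (nat_lit 268) [nat_lit 2] (BT.pln (nat_lit 0) (nat_lit 3) (BT.dif (nat_lit 2) (nat_lit 0) (BT.and (nat_lit 4) (nat_lit 1) (BT.dif (nat_lit 0) (nat_lit 8) (BT.img (nat_lit 1) (nat_lit 0) (BT.dif (nat_lit 3) (nat_lit 0) (BT.br (nat_lit 0) (nat_lit 6) [nat_lit 5] (BT.kid (nat_lit 6) (nat_lit 1) (BT.fix (nat_lit 1) (BT.dif (nat_lit 0) (nat_lit 14) (BT.dif (nat_lit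 0) (nat_lit 11) (BT.img (nat_lit 1) (nat_lit 13) (BT.img (nat_lit 1) (nat_lit 0) (BT.and (nat_lit 14) (nat_lit 4) (BT.dif (nat_lit 0) (nat_lit 12) (BT.frm (nat_lit 2) (nat_lit 0x292b0f06010c) (nat_lit 0x292b0f06010c) [nat_lit 7, nat_lit 2, nat_lit 3, nat_lit 0, nat_lit 17] (BT.pln (nat_lit 0) (nat_lit 9) (BT.dif (nat_lit 6) (nat_lit 0) (BT.one (nat_lit 3) (nat_lit 0x2527292b0f06010c) (nat_lit 0x2527292b0f06010c) [nat_lit 0, nat_lit 10, nat_lit 5, nat_lit 6, nat_lit 3, nat_lit 20]))))))))))) BT.nil))))))))))) BT.nil))))))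

theorem lt1_c5_cnt : Cnt 100 (grp 100 L1) [p_g174] [p_g174] 0 0 0 0 16 :=
  BT.sound lt1_c5_cnt_P Known.nil (t := lt1_c5_cnt_t) (d := 0) (by decide +kernel)

theorem lt1_c5_ge : 16 ≤ Nat.card (grp 100 lt1_c5_K) :=
  Ch.le_card_grp (k := 7) (L := (lab 100 7)) p_hn lt1_c5_K_ok (c := (Ch.cons (nat_lit 37) [nat_lit 1, nat_lit 3] (Ch.cons (nat_lit 6) [nat_lit 5] Ch.nil))) (by decide +kernel)

theorem lt1_c5_eq : (grp 100 L1) ⊓ Subgroup.centralizer {Net.toPerm 100 p_g174} = grp 100 lt1_c5_K :=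
  cent_eq lt1_c5_sym lt1_c5_cnt lt1_c5_ge

theorem lt1_c5_card : Nat.card ↥((grp 100 L1) ⊓ Subgroup.centralizer {Net.toPerm 100 p_g174}) = 16 :=
  card_cent lt1_c5_sym lt1_c5_cnt lt1_c5_ge

theorem lt1_c5_ord : orderOf (Net.toPerm 100 p_g174) = 4 :=
  orderOf_net p_hn p_hk p_g174_ok (by decide) (ps := [2]) (by set_option linter.unusedSimpArgs false in simp [Nat.primeFactorsList_ofNat]) (by decide +kernel)

theorem p_le185 : grp 100 lt1_c6_K ≤ grp 100 L1o_E0 :=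
  grp_le_of_memB p_hn p_hk L1o_E0_ok lt1_c6_K_ok (ws := [nat_lit 0x250b0803, nat_lit 0x171f0b0e0305]) (by decide +kernel)

theorem lt1_c6_le : grp 100 lt1_c6_K ≤ (grp 100 L1) :=
  (p_le185.trans V1_s0.le)

theorem lt1_c6_mem : Net.toPerm 100 p_g184 ∈ (grp 100 L1) :=
  lt1_c6_le (toPerm_mem_grp (E := lt1_c6_K) (List.Mem.head _))

theorem lt1_c6_sym : Sym 100 (grp 100 L1) [p_g184] lt1_c6_K 0 :=
  Sym.of_lab p_hn p_hk (okE_cons.2 ⟨p_g184_ok, okE_nil _⟩) lt1_c6_K_ok lt1_c6_le (kT := 0) (by decide +kernel)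

theorem p_le187 : grp 100 p_V186 ≤ grp 100 p_V182 :=
  grp_le_of_memB p_hn p_hk p_V182_ok p_V186_ok (ws := [nat_lit 1]) (by decide +kernel)

theorem V1_s22 : Stab 100 (grp 100 L1) [nat_lit 86, nat_lit 8, nat_lit 81, nat_lit 59, nat_lit 6, nat_lit 0] p_V186 2 :=
  Stab.step (k := 7) (L := (lab 100 7)) p_hn V1_s20 p_V186_ok p_le187 (c := (Ch.cons (nat_lit 3) [nat_lit 1] Ch.nil)) (by decide +kernel)

theorem V1_s23 : Stab 100 (grp 100 L1) [nat_lit 3, nat_lit 86, nat_lit 8, nat_lit 81, nat_lit 59, nat_lit 6, nat_lit 0] p_V188 1 :=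
  Stab.step (k := 7) (L := (lab 100 7)) p_hn V1_s22 p_V188_ok (grp_mono (List.subset_append_right [p_g91] _)) (c := Ch.nil) (by decide +kernel)

noncomputable def V1_s23_O : ℕ := (nat_lit 0x3333266666ccccd99999333321f07c1f03e0f83e0f83e0f83ee63398c67319ce63398c673184db24d926c93649b64db26d920000000000000000000000001000000000000000000000004000000000008000000000000000000200000000000000000000000000000000000000000010000040000000000000000000000000000000000000000000008)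

theorem V1_s23_F : Frame 100 (grp 100 L1) 7 11 V1_s23_O 1 1 :=
  IsBase.frame V1_s23.isBase (by decide +kernel)

noncomputable def V1_s22_O : ℕ := (nat_lit 0x100000000000000000000000000800000000000000000000000000010000000000000000000000000800000000000000000000000000400000000000000000000000001000000000000000000000000010000000000000000000000000000020000000000000000000000000400000000000000000000000010000000000000000000000000100000000000000000000000000080000000000000000000000000100000000000000000000000000020008800000000000000000000800008000000000000000000000000410000000000000000000010000400000000000000000000040010000000000000000000020000800000000000000000000002010000000000000000000000020001000000000000000000000000018000000000000040000000000200000000000002000000000010000000000020000000000000800000000000100000000000040000000000000000000000202000000000002000000000000080000000000001000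00000000100000000000000008000000008000000000000000002000000080000000000000000002000004000000000001000000000000080000000000000000400000004000000400000000000000000200000000000000200000000008000000000000008000000000400000000000000008000000020000000000000000040000001000000000004000000000000040000040000000000000000002000000000000000080000000100000000000000040000000008000000000000000000400000400008000000000000000000020000000020000000000000000800000000000000001000000040000000000000000000200002000000000000000400000000080000000000020000000000002000000000000000000010000100000000004000000000000008000000000000000000000000100000000000000000000000400000000000800000000000000000020000000000000000000000000000000000000000001000004000000000000000000000)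

theorem V1_s22_F : Frame 100 (grp 100 L1) 6 59 V1_s22_O 0 1 :=
  Stab.frame p_hn V1_s22 (by decide +kernel)

noncomputable def V1_s18_O : ℕ := (nat_lit 0x100000000008000000000000000000010000000000000000000100000020004018000100000000000000000020000100000240000000000001000080000000084000000001000000004001000100000100000004000000000008100000088000000000100000004000000000000001800200000004021000062001000800080000020000040020200800c004000080000808000404008000080800800020000600000004002820000000000000000000000000100000000000000000000000400000000000800000000000000)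

theorem V1_s18_F : Frame 100 (grp 100 L1) 3 17 V1_s18_O 0 1 :=
  Stab.frame p_hn V1_s18 (by decide +kernel)

noncomputable def lt1_c6_cnt_L : List ℕ := [0, 2, V1_s0_O, 0, 0, 2, 9, V1_s14_O, 0, 0, 3, 17, V1_s18_O, 0, 0, 6, 59, V1_s22_O, 0, 0, 7, 11, V1_s23_O, 1, 0]

theorem lt1_c6_cnt_P : Prob 100 7 (grp 100 L1) lt1_c6_cnt_EG [p_g184] [p_g184] lt1_c6_K lt1_c6_cnt_L 0 0 :=
  Sym.prob p_hn p_hk lt1_c6_sym lt1_c6_cnt_EG_ok (grp_cons_le p_g70_V1 (grp_cons_le p_g66_V1 (grp_cons_le p_g67_V1 (grp_cons_le p_g74_V1 (grp_cons_le p_g73_V1 (grp_cons_le p_g75_V1 (grp_cons_le p_g82_V1 (grp_cons_le p_g80_V1 (grp_cons_le p_g81_V1 (grp_cons_le p_g94_V1 (grp_cons_le p_g89_V1 (grp_cons_le p_g95_V1 (grp_cons_le p_g96_V1 (grp_cons_le p_g87_V1 (grp_cons_le p_g88_V1 (grp_cons_le p_g90_V1 (grp_cons_le p_g91_V1 (grp_cons_le p_g62_V1 (grp_cons_le p_g63_V1 (grp_cons_le EvHT.t_g220_V1 (grp_cons_le p_g177_V1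 (grp_cons_le p_g178_V1 (grp_nil_le _))))))))))))))))))))))) (Frames.cons V1_s0_F (Frames.cons V1_s14_F (Frames.cons V1_s18_F (Frames.cons V1_s22_F (Frames.cons V1_s23_F Frames.nil))))) (okE_cons.2 ⟨p_g184_ok, okE_nil _⟩) _

noncomputable def lt1_c6_cnt_t : BT := (BT.frm (nat_lit 0) (nat_lit 0) (nat_lit 0) [] (BT.pln (nat_lit 0) (nat_lit 0) (BT.pln (nat_lit 1) (nat_lit 1) (BT.fix (nat_lit 1) (BT.and (nat_lit 1) (nat_lit 0) (BT.and (nat_lit 3) (nat_lit 1) (BT.frm (nat_lit 1) (nat_lit 0x104250a) (nat_lit 0x104250a) [nat_lit 1, nat_lit 0] (BT.pln (nat_lit 0) (nat_lit 8) (BT.and (nat_lit 6) (nat_lit 0) (BT.fix (nat_lit 257) (BT.dif (nat_lit 1) (nat_lit 0) (BT.br (nat_lit 0) (nat_lit 79) [nat_lit 1] (BT.kid (nat_lit 79) (nat_lit 2) (BT.frm (nat_lit 2) (nat_lit 0x104250a) (nat_lit 0x104250a) [nat_lit 0, nat_lit 7, nat_lit 6] (BT.pln (nat_lit 0) (nat_lit 15) (BT.and (nat_lit 11) (nat_lit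 0) (BT.br (nat_lit 0) (nat_lit 84) [] (BT.dead (nat_lit 8) (BT.img (nat_lit 1) (nat_lit 0) (BT.img (nat_lit 1) (nat_lit 5) (BT.frm (nat_lit 3) (nat_lit 0x272b0104250a) (nat_lit 0x27132b0104250a) [nat_lit 1, nat_lit 2, nat_lit 0, nat_lit 6, nat_lit 13, nat_lit 12] (BT.pln (nat_lit 0) (nat_lit 6) (BT.br (nat_lit 0) (nat_lit 51) [nat_lit 3] (BT.dead (nat_lit 74) (BT.frm (nat_lit 4) (nat_lit 0x272b0104250a) (nat_lit 0x2127132b0104250a) [nat_lit 0, nat_lit 4, nat_lit 5, nat_lit 3, nat_lit 9, nat_lit 16, nat_lit 15] (BT.pln (nat_lit 0) (nat_lit 7) (BT.img (nat_lit 1) (nat_lit 2) (BT.and (nat_lit 1) (nat_lit 0) (BT.cnt (nat_lit 0)))))) BT.nil)))))) (BT.kid (nat_lit 84) (nat_lit 2) (BT.img (nat_lit 1) (nat_lit 0) (BT.img (nat_lit 1) (nat_lit 5) (BT.frm (nat_lit 3) (nat_lit 0x272b0104250a) (nat_lit 0x272b0104250a) [nat_lit 1, nat_lit 2, nat_lit 0, nat_lit 6, nat_lit 13, nat_lit 12] (BT.pln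 (nat_lit 0) (nat_lit 6) (BT.br (nat_lit 0) (nat_lit 51) [nat_lit 3] (BT.kid (nat_lit 51) (nat_lit 1) (BT.one (nat_lit 4) (nat_lit 0x272b0104250a) (nat_lit 0x272b0104250a) [nat_lit 0, nat_lit 4, nat_lit 5, nat_lit 3, nat_lit 9, nat_lit 16, nat_lit 15]) BT.nil)))))) BT.nil)))))) BT.nil)))))))))))))

theorem lt1_c6_cnt : Cnt 100 (grp 100 L1) [p_g184] [p_g184] 0 0 0 0 8 :=
  BT.sound lt1_c6_cnt_P Known.nil (t := lt1_c6_cnt_t) (d := 0) (by decide +kernel)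

theorem lt1_c6_ge : 8 ≤ Nat.card (grp 100 lt1_c6_K) :=
  Ch.le_card_grp (k := 7) (L := (lab 100 7)) p_hn lt1_c6_K_ok (c := (Ch.cons (nat_lit 79) [nat_lit 1] (Ch.cons (nat_lit 51) [nat_lit 3] Ch.nil))) (by decide +kernel)

theorem lt1_c6_eq : (grp 100 L1) ⊓ Subgroup.centralizer {Net.toPerm 100 p_g184} = grp 100 lt1_c6_K :=
  cent_eq lt1_c6_sym lt1_c6_cnt lt1_c6_ge

theorem lt1_c6_card : Nat.card ↥((grp 100 L1) ⊓ Subgroup.centralizer {Net.toPerm 100 p_g184}) = 8 :=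
  card_cent lt1_c6_sym lt1_c6_cnt lt1_c6_ge

theorem lt1_c6_ord : orderOf (Net.toPerm 100 p_g184) = 4 :=
  orderOf_net p_hn p_hk p_g184_ok (by decide) (ps := [2]) (by set_option linter.unusedSimpArgs false in simp [Nat.primeFactorsList_ofNat]) (by decide +kernel)

theorem p_le191 : grp 100 lt1_c7_K ≤ grp 100 L1o_E0 :=
  grp_le_of_memB p_hn p_hk L1o_E0_ok lt1_c7_K_ok (ws := [nat_lit 0x17190d050e0107, nat_lit 0x191b0e06030e]) (by decide +kernel)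

theorem lt1_c7_le : grp 100 lt1_c7_K ≤ (grp 100 L1) :=
  (p_le191.trans V1_s0.le)

theorem lt1_c7_mem : Net.toPerm 100 p_g189 ∈ (grp 100 L1) :=
  lt1_c7_le (toPerm_mem_grp (E := lt1_c7_K) (List.Mem.head _))

theorem lt1_c7_sym : Sym 100 (grp 100 L1) [p_g189] lt1_c7_K 0 :=
  Sym.of_lab p_hn p_hk (okE_cons.2 ⟨p_g189_ok, okE_nil _⟩) lt1_c7_K_ok lt1_c7_le (kT := 0) (by decide +kernel)

theorem V1_s24 : Stab 100 (grp 100 L1) [nat_lit 76, nat_lit 6, nat_lit 0] p_V192 32 :=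
  Stab.step (k := 7) (L := (lab 100 7)) p_hn V1_s14 p_V192_ok (grp_mono (List.subset_append_right [p_g74, p_g73, p_g75] _)) (c := (Ch.cons (nat_lit 12) [nat_lit 1, nat_lit 3, nat_lit 5] (Ch.cons (nat_lit 5) [nat_lit 7, nat_lit 9, nat_lit 11, nat_lit 13, nat_lit 15, nat_lit 17, nat_lit 19, nat_lit 21] Ch.nil))) (by decide +kernel)

theorem p_le194 : grp 100 p_V193 ≤ grp 100 p_V192 :=
  grp_le_of_memB p_hn p_hk p_V192_ok p_V193_ok (ws := [nat_lit 7, nat_lit 1807]) (by decide +kernel)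

theorem V1_s25 : Stab 100 (grp 100 L1) [nat_lit 2, nat_lit 76, nat_lit 6, nat_lit 0] p_V193 4 :=
  Stab.step (k := 7) (L := (lab 100 7)) p_hn V1_s24 p_V193_ok p_le194 (c := (Ch.cons (nat_lit 84) [nat_lit 1, nat_lit 3] Ch.nil)) (by decide +kernel)

theorem V1_s26 : Stab 100 (grp 100 L1) [nat_lit 84, nat_lit 2, nat_lit 76, nat_lit 6, nat_lit 0] p_V195 1 :=
  Stab.step (k := 7) (L := (lab 100 7)) p_hn V1_s25 p_V195_ok (grp_mono (List.subset_append_right [p_g94, p_g169] _)) (c := Ch.nil) (by decide +kernel)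

noncomputable def V1_s26_O : ℕ := (nat_lit 0x3333266666ccccd99999333321f07c1f03e0f83e0f83e0f83ee63398c67319ce63398c673184db24d926c93649b64db26d9200000000000000000000000010000000000000000000000040000001000000000000000000000000000000000000000000040001000000000000000000000)

theorem V1_s26_F : Frame 100 (grp 100 L1) 5 9 V1_s26_O 1 1 :=
  IsBase.frame V1_s26.isBase (by decide +kernel)

noncomputable def lt1_c7_cnt_L : List ℕ := [0, 2, V1_s0_O, 0, 0, 1, 5, V1_s1_O, 0, 0, 5, 9, V1_s26_O, 1, 0]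

theorem lt1_c7_cnt_P : Prob 100 7 (grp 100 L1) lt1_c7_cnt_EG [p_g189] [p_g189] lt1_c7_K lt1_c7_cnt_L 0 0 :=
  Sym.prob p_hn p_hk lt1_c7_sym lt1_c7_cnt_EG_ok (grp_cons_le p_g62_V1 (grp_cons_le p_g63_V1 (grp_cons_le p_g70_V1 (grp_cons_le p_g66_V1 (grp_cons_le p_g67_V1 (grp_cons_le p_g74_V1 (grp_cons_le p_g73_V1 (grp_cons_le p_g75_V1 (grp_cons_le p_g82_V1 (grp_cons_le p_g80_V1 (grp_cons_le p_g81_V1 (grp_cons_le p_g94_V1 (grp_cons_le p_g89_V1 (grp_cons_le p_g95_V1 (grp_cons_le p_g96_V1 (grp_cons_le p_g87_V1 (grp_cons_le p_g88_V1 (grp_cons_le p_g90_V1 (grp_cons_le p_g91_V1 (grp_cons_le p_g169_V1 (grp_nil_le _))))))))))))))))))))) (Frames.cons V1_s0_F (Frames.cons V1_s1_F (Frames.cons V1_s26_F Frames.nil))) (okE_cons.2 ⟨p_g189_ok, okE_nil _⟩) _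

noncomputable def lt1_c7_cnt_t : BT := (BT.frm (nat_lit 0) (nat_lit 0) (nat_lit 0) [] (BT.pln (nat_lit 0) (nat_lit 0) (BT.br (nat_lit 0) (nat_lit 37) [nat_lit 3] (BT.kid (nat_lit 37) (nat_lit 1) (BT.pln (nat_lit 2) (nat_lit 1) (BT.frm (nat_lit 1) (nat_lit 268) (nat_lit 268) [nat_lit 1] (BT.pln (nat_lit 0) (nat_lit 3) (BT.dif (nat_lit 2) (nat_lit 0) (BT.img (nat_lit 1) (nat_lit 0) (BT.and (nat_lit 1) (nat_lit 0) (BT.img (nat_lit 1) (nat_lit 0) (BT.and (nat_lit 3) (nat_lit 0) (BT.img (nat_lit 1) (nat_lit 0) (BT.and (nat_lit 8) (nat_lit 0) (BT.img (nat_lit 1) (nat_lit 0) (BT.and (nat_lit 10) (nat_lit 0) (BT.img (nat_lit 1) (nat_lit 0) (BT.and (nat_lit 9) (nat_lit 0) (BT.one (nat_lit 2) (nat_lit 0x27110d07010c) (nat_lit 0x27110d07010c) [nat_lit 2, nat_lit 4, nat_lit 0, nat_lit 6, nat_lit 14]))))))))))))))) BT.nil))))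

theorem lt1_c7_cnt : Cnt 100 (grp 100 L1) [p_g189] [p_g189] 0 0 0 0 15 :=
  BT.sound lt1_c7_cnt_P Known.nil (t := lt1_c7_cnt_t) (d := 0) (by decide +kernel)

theorem lt1_c7_ge : 15 ≤ Nat.card (grp 100 lt1_c7_K) :=
  Ch.le_card_grp (k := 7) (L := (lab 100 7)) p_hn lt1_c7_K_ok (c := (Ch.cons (nat_lit 37) [nat_lit 1, nat_lit 3] Ch.nil)) (by decide +kernel)

theorem lt1_c7_eq : (grp 100 L1) ⊓ Subgroup.centralizer {Net.toPerm 100 p_g189} = grp 100 lt1_c7_K :=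
  cent_eq lt1_c7_sym lt1_c7_cnt lt1_c7_ge

theorem lt1_c7_card : Nat.card ↥((grp 100 L1) ⊓ Subgroup.centralizer {Net.toPerm 100 p_g189}) = 15 :=
  card_cent lt1_c7_sym lt1_c7_cnt lt1_c7_ge

theorem lt1_c7_ord : orderOf (Net.toPerm 100 p_g189) = 5 :=
  orderOf_net p_hn p_hk p_g189_ok (by decide) (ps := [5]) (by set_option linter.unusedSimpArgs false in simp [Nat.primeFactorsList_ofNat]) (by decide +kernel)

theorem p_le199 : grp 100 lt1_c8_K ≤ grp 100 L1o_E0 :=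
  grp_le_of_memB p_hn p_hk L1o_E0_ok lt1_c8_K_ok (ws := [nat_lit 0x1f0b060104, nat_lit 0x1f110b080112, nat_lit 0x191b0801]) (by decide +kernel)

theorem lt1_c8_le : grp 100 lt1_c8_K ≤ (grp 100 L1) :=
  (p_le199.trans V1_s0.le)

theorem lt1_c8_mem : Net.toPerm 100 p_g196 ∈ (grp 100 L1) :=
  lt1_c8_le (toPerm_mem_grp (E := lt1_c8_K) (List.Mem.head _))

theorem lt1_c8_sym : Sym 100 (grp 100 L1) [p_g196] lt1_c8_K 0 :=
  Sym.of_lab p_hn p_hk (okE_cons.2 ⟨p_g196_ok, okE_nil _⟩) lt1_c8_K_ok lt1_c8_le (kT := 0) (by decide +kernel)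

noncomputable def lt1_c8_cnt_L : List ℕ := [0, 2, V1_s0_O, 0, 0, 3, 17, V1_s10_O, 0, 0, 6, 10, V1_s13_O, 1, 0]

theorem lt1_c8_cnt_P : Prob 100 7 (grp 100 L1) lt1_c8_cnt_EG [p_g196] [p_g196] lt1_c8_K lt1_c8_cnt_L 0 0 :=
  Sym.prob p_hn p_hk lt1_c8_sym lt1_c8_cnt_EG_ok (grp_cons_le p_g129_V1 (grp_cons_le p_g130_V1 (grp_cons_le p_g131_V1 (grp_cons_le p_g132_V1 (grp_cons_le p_g70_V1 (grp_cons_le p_g66_V1 (grp_cons_le p_g67_V1 (grp_cons_le p_g74_V1 (grp_cons_le p_g73_V1 (grp_cons_le p_g75_V1 (grp_cons_le p_g82_V1 (grp_cons_le p_g80_V1 (grp_cons_le p_g81_V1 (grp_cons_le p_g94_V1 (grp_cons_le p_g89_V1 (grp_cons_le p_g95_V1 (grp_cons_le p_g96_V1 (grp_cons_le p_g87_V1 (grp_cons_le p_g88_V1 (grp_cons_le p_g90_V1 (grp_cons_le p_g91_V1 (grp_cons_le p_g62_V1 (grp_cons_le p_g63_V1 (grp_cons_le p_g156_V1 (grp_cons_le p_g145_V1 (grp_cons_le p_g155_V1 (grp_nil_le _))))))))))))))))))))))))))) (Frames.cons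 V1_s0_F (Frames.cons V1_s10_F (Frames.cons V1_s13_F Frames.nil))) (okE_cons.2 ⟨p_g196_ok, okE_nil _⟩) _

noncomputable def lt1_c8_cnt_t : BT := (BT.frm (nat_lit 0) (nat_lit 0) (nat_lit 0) [] (BT.pln (nat_lit 0) (nat_lit 0) (BT.fix (nat_lit 65793) (BT.and (nat_lit 1) (nat_lit 0) (BT.br (nat_lit 0) (nat_lit 37) [nat_lit 1] (BT.kid (nat_lit 37) (nat_lit 4) (BT.pln (nat_lit 4) (nat_lit 1) (BT.and (nat_lit 0) (nat_lit 3) (BT.br (nat_lit 0) (nat_lit 84) [] (BT.dead (nat_lit 6) (BT.img (nat_lit 1) (nat_lit 3) (BT.frm (nat_lit 1) (nat_lit 0x61b2b10) (nat_lit 0x11b2b10) [nat_lit 1, nat_lit 0, nat_lit 4] (BT.pln (nat_lit 0) (nat_lit 3) (BT.and (nat_lit 0) (nat_lit 8) (BT.cnt (nat_lit 0)))))) (BT.dead (nat_lit 36) (BT.img (nat_lit 1) (nat_lit 3) (BT.frm (nat_lit 1) (nat_lit 0x61b2b10) (nat_lit 0x1b2b10) [nat_lit 1, nat_lit 0, nat_lit 4] (BT.pln (nat_lit 0) (nat_lit 4) (BT.and (nat_lit 0) (nat_lit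 8) (BT.cnt (nat_lit 0)))))) (BT.kid (nat_lit 84) (nat_lit 4) (BT.img (nat_lit 1) (nat_lit 3) (BT.frm (nat_lit 1) (nat_lit 0x61b2b10) (nat_lit 0x61b2b10) [nat_lit 1, nat_lit 0, nat_lit 4] (BT.pln (nat_lit 0) (nat_lit 13) (BT.and (nat_lit 9) (nat_lit 0) (BT.br (nat_lit 0) (nat_lit 79) [nat_lit 3, nat_lit 5] (BT.kid (nat_lit 79) (nat_lit 1) (BT.img (nat_lit 1) (nat_lit 0) (BT.img (nat_lit 1) (nat_lit 6) (BT.one (nat_lit 2) (nat_lit 0x1f33061b2b10) (nat_lit 0x1f33061b2b10) [nat_lit 1, nat_lit 2, nat_lit 0, nat_lit 7, nat_lit 6, nat_lit 10]))) BT.nil)))))) BT.nil)))))) BT.nil))))))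

theorem lt1_c8_cnt : Cnt 100 (grp 100 L1) [p_g196] [p_g196] 0 0 0 0 12 :=
  BT.sound lt1_c8_cnt_P Known.nil (t := lt1_c8_cnt_t) (d := 0) (by decide +kernel)

theorem lt1_c8_ge : 12 ≤ Nat.card (grp 100 lt1_c8_K) :=
  Ch.le_card_grp (k := 7) (L := (lab 100 7)) p_hn lt1_c8_K_ok (c := (Ch.cons (nat_lit 37) [nat_lit 1] (Ch.cons (nat_lit 79) [nat_lit 3, nat_lit 5] Ch.nil))) (by decide +kernel)

theorem lt1_c8_eq : (grp 100 L1) ⊓ Subgroup.centralizer {Net.toPerm 100 p_g196} = grp 100 lt1_c8_K :=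
  cent_eq lt1_c8_sym lt1_c8_cnt lt1_c8_ge

theorem lt1_c8_card : Nat.card ↥((grp 100 L1) ⊓ Subgroup.centralizer {Net.toPerm 100 p_g196}) = 12 :=
  card_cent lt1_c8_sym lt1_c8_cnt lt1_c8_ge

theorem lt1_c8_ord : orderOf (Net.toPerm 100 p_g196) = 6 :=
  orderOf_net p_hn p_hk p_g196_ok (by decide) (ps := [2, 3]) (by set_option linter.unusedSimpArgs false in simp [Nat.primeFactorsList_ofNat]) (by decide +kernel)

theorem p_le201 : grp 100 lt1_c9_K ≤ grp 100 L1o_E0 :=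
  grp_le_of_memB p_hn p_hk L1o_E0_ok lt1_c9_K_ok (ws := [nat_lit 0x23110b0601]) (by decide +kernel)

theorem lt1_c9_le : grp 100 lt1_c9_K ≤ (grp 100 L1) :=
  (p_le201.trans V1_s0.le)

theorem lt1_c9_mem : Net.toPerm 100 p_g200 ∈ (grp 100 L1) :=
  lt1_c9_le (toPerm_mem_grp (E := lt1_c9_K) (List.Mem.head _))

theorem lt1_c9_sym : Sym 100 (grp 100 L1) [p_g200] lt1_c9_K 0 :=
  Sym.of_lab p_hn p_hk (okE_cons.2 ⟨p_g200_ok, okE_nil _⟩) lt1_c9_K_ok lt1_c9_le (kT := 0) (by decide +kernel)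

noncomputable def lt1_c9_cnt_L : List ℕ := [0, 2, V1_s0_O, 0, 0, 5, 9, V1_s17_O, 1, 0]

theorem lt1_c9_cnt_P : Prob 100 7 (grp 100 L1) lt1_c9_cnt_EG [p_g200] [p_g200] lt1_c9_K lt1_c9_cnt_L 0 0 :=
  Sym.prob p_hn p_hk lt1_c9_sym lt1_c9_cnt_EG_ok (grp_cons_le p_g168_V1 (grp_cons_le p_g169_V1 (grp_cons_le p_g167_V1 (grp_cons_le p_g74_V1 (grp_cons_le p_g73_V1 (grp_cons_le p_g75_V1 (grp_cons_le p_g82_V1 (grp_cons_le p_g80_V1 (grp_cons_le p_g81_V1 (grp_cons_le p_g94_V1 (grp_cons_le p_g89_V1 (grp_cons_le p_g95_V1 (grp_cons_le p_g96_V1 (grp_cons_le p_g87_V1 (grp_cons_le p_g88_V1 (grp_cons_le p_g90_V1 (grp_cons_le p_g91_V1 (grp_cons_le p_g70_V1 (grp_cons_le p_g66_V1 (grp_cons_le p_g67_V1 (grp_cons_le p_g62_V1 (grp_cons_le p_g63_V1 (grp_nil_le _))))))))))))))))))))))) (Frames.cons V1_s0_F (Frames.cons V1_s17_F Frames.nil)) (okE_cons.2 ⟨p_g200_ok, okE_nil _⟩) _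

noncomputable def lt1_c9_cnt_t : BT := (BT.frm (nat_lit 0) (nat_lit 0) (nat_lit 0) [] (BT.pln (nat_lit 0) (nat_lit 0) (BT.fix (nat_lit 65793) (BT.dif (nat_lit 1) (nat_lit 0) (BT.fix (nat_lit 257) (BT.dif (nat_lit 1) (nat_lit 0) (BT.br (nat_lit 0) (nat_lit 37) [nat_lit 1] (BT.kid (nat_lit 37) (nat_lit 1) (BT.img (nat_lit 1) (nat_lit 0) (BT.img (nat_lit 1) (nat_lit 0) (BT.pln (nat_lit 8) (nat_lit 1) (BT.fix (nat_lit 1) (BT.and (nat_lit 1) (nat_lit 0) (BT.and (nat_lit 10) (nat_lit 1) (BT.one (nat_lit 1) (nat_lit 0x60308232b) (nat_lit 0x60308232b) [nat_lit 4, nat_lit 5, nat_lit 6, nat_lit 1, nat_lit 0]))))))) BT.nil))))))))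

theorem lt1_c9_cnt : Cnt 100 (grp 100 L1) [p_g200] [p_g200] 0 0 0 0 6 :=
  BT.sound lt1_c9_cnt_P Known.nil (t := lt1_c9_cnt_t) (d := 0) (by decide +kernel)

theorem lt1_c9_ge : 6 ≤ Nat.card (grp 100 lt1_c9_K) :=
  Ch.le_card_grp (k := 7) (L := (lab 100 7)) p_hn lt1_c9_K_ok (c := (Ch.cons (nat_lit 37) [nat_lit 1] Ch.nil)) (by decide +kernel)

theorem lt1_c9_eq : (grp 100 L1) ⊓ Subgroup.centralizer {Net.toPerm 100 p_g200} = grp 100 lt1_c9_K :=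
  cent_eq lt1_c9_sym lt1_c9_cnt lt1_c9_ge

theorem lt1_c9_card : Nat.card ↥((grp 100 L1) ⊓ Subgroup.centralizer {Net.toPerm 100 p_g200}) = 6 :=
  card_cent lt1_c9_sym lt1_c9_cnt lt1_c9_ge

theorem lt1_c9_ord : orderOf (Net.toPerm 100 p_g200) = 6 :=
  orderOf_net p_hn p_hk p_g200_ok (by decide) (ps := [2, 3]) (by set_option linter.unusedSimpArgs false in simp [Nat.primeFactorsList_ofNat]) (by decide +kernel)

theorem p_le203 : grp 100 lt1_c10_K ≤ grp 100 L1o_E0 :=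
  grp_le_of_memB p_hn p_hk L1o_E0_ok lt1_c10_K_ok (ws := [nat_lit 0x21110b0d07010f]) (by decide +kernel)

theorem lt1_c10_le : grp 100 lt1_c10_K ≤ (grp 100 L1) :=
  (p_le203.trans V1_s0.le)

theorem lt1_c10_mem : Net.toPerm 100 p_g202 ∈ (grp 100 L1) :=
  lt1_c10_le (toPerm_mem_grp (E := lt1_c10_K) (List.Mem.head _))

theorem lt1_c10_sym : Sym 100 (grp 100 L1) [p_g202] lt1_c10_K 0 :=
  Sym.of_lab p_hn p_hk (okE_cons.2 ⟨p_g202_ok, okE_nil _⟩) lt1_c10_K_ok lt1_c10_le (kT := 0) (by decide +kernel)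

theorem p_le208 : grp 100 p_V207 ≤ grp 100 p_V128 :=
  grp_le_of_memB p_hn p_hk p_V128_ok p_V207_ok (ws := [nat_lit 0x13190d070a01, nat_lit 0x1f070104, nat_lit 4885, nat_lit 0x131b07090104]) (by decide +kernel)

theorem V1_s27 : Stab 100 (grp 100 L1) [nat_lit 36, nat_lit 0] p_V207 168 :=
  Stab.step (k := 7) (L := (lab 100 7)) p_hn V1_s1 p_V207_ok p_le208 (c := (Ch.cons (nat_lit 15) [nat_lit 1] (Ch.cons (nat_lit 37) [nat_lit 3] (Ch.cons (nat_lit 46) [nat_lit 5, nat_lit 7] Ch.nil)))) (by decide +kernel)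

theorem V1_s28 : Stab 100 (grp 100 L1) [nat_lit 15, nat_lit 36, nat_lit 0] p_V209 24 :=
  Stab.step (k := 7) (L := (lab 100 7)) p_hn V1_s27 p_V209_ok (grp_mono (List.subset_append_right [p_g204] _)) (c := (Ch.cons (nat_lit 37) [nat_lit 1] (Ch.cons (nat_lit 46) [nat_lit 3, nat_lit 5] Ch.nil))) (by decide +kernel)

theorem V1_s29 : Stab 100 (grp 100 L1) [nat_lit 37, nat_lit 15, nat_lit 36, nat_lit 0] p_V210 4 :=
  Stab.step (k := 7) (L := (lab 100 7)) p_hn V1_s28 p_V210_ok (grp_mono (List.subset_append_right [p_g205] _)) (c := (Ch.cons (nat_lit 46) [nat_lit 1, nat_lit 3] Ch.nil)) (by decide +kernel)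

theorem V1_s30 : Stab 100 (grp 100 L1) [nat_lit 46, nat_lit 37, nat_lit 15, nat_lit 36, nat_lit 0] p_V211 1 :=
  Stab.step (k := 7) (L := (lab 100 7)) p_hn V1_s29 p_V211_ok (grp_mono (List.subset_append_right [p_g80, p_g206] _)) (c := Ch.nil) (by decide +kernel)

theorem p_g206_V1 : Net.toPerm 100 p_g206 ∈ (grp 100 L1) :=
  V1_s29.le (toPerm_mem_grp (E := p_V210) (List.Mem.tail _ (List.Mem.head _)))

theorem p_g205_V1 : Net.toPerm 100 p_g205 ∈ (grp 100 L1) :=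
  V1_s28.le (toPerm_mem_grp (E := p_V209) (List.Mem.head _))

theorem p_g204_V1 : Net.toPerm 100 p_g204 ∈ (grp 100 L1) :=
  V1_s27.le (toPerm_mem_grp (E := p_V207) (List.Mem.head _))

noncomputable def V1_s30_O : ℕ := (nat_lit 0x3333266666ccccd99999333321f07c1f03e0f83e0f83e0f83ee63398c67319ce63398c673184db24d926c93649b64db26d9200000000000000000000000010000000000000001000000000000000000000000000000800000000000000000020000000000000000000000400000000000)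

theorem V1_s30_F : Frame 100 (grp 100 L1) 5 9 V1_s30_O 1 1 :=
  IsBase.frame V1_s30.isBase (by decide +kernel)

noncomputable def V1_s27_O : ℕ := (nat_lit 0x80000008010004021000080000000280000840000c00000080008401800010000000000014000010000000058002001000040808860000008160005204020121000066001000801088100200000000000000000000000010000000000000001000000000)

theorem V1_s27_F : Frame 100 (grp 100 L1) 2 8 V1_s27_O 0 1 :=
  Stab.frame p_hn V1_s27 (by decide +kernel)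

noncomputable def lt1_c10_cnt_L : List ℕ := [0, 2, V1_s0_O, 0, 0, 2, 8, V1_s27_O, 0, 0, 5, 9, V1_s30_O, 1, 0]

theorem lt1_c10_cnt_P : Prob 100 7 (grp 100 L1) lt1_c10_cnt_EG [p_g202] [p_g202] lt1_c10_K lt1_c10_cnt_L 0 0 :=
  Sym.prob p_hn p_hk lt1_c10_sym lt1_c10_cnt_EG_ok (grp_cons_le p_g70_V1 (grp_cons_le p_g66_V1 (grp_cons_le p_g67_V1 (grp_cons_le p_g74_V1 (grp_cons_le p_g73_V1 (grp_cons_le p_g75_V1 (grp_cons_le p_g82_V1 (grp_cons_le p_g80_V1 (grp_cons_le p_g81_V1 (grp_cons_le p_g94_V1 (grp_cons_le p_g89_V1 (grp_cons_le p_g95_V1 (grp_cons_le p_g96_V1 (grp_cons_le p_g87_V1 (grp_cons_le p_g88_V1 (grp_cons_le p_g90_V1 (grp_cons_le p_g91_V1 (grp_cons_le p_g62_V1 (grp_cons_le p_g63_V1 (grp_cons_le p_g206_V1 (grp_cons_le p_g205_V1 (grp_cons_le p_g204_V1 (grp_nil_le _))))))))))))))))))))))) (Frames.cons V1_s0_F (Frames.cons V1_s27_F (Frames.cons V1_s30_F Frames.nil))) (okE_cons.2 ⟨p_g202_ok,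 okE_nil _⟩) _

noncomputable def lt1_c10_cnt_t : BT := (BT.frm (nat_lit 0) (nat_lit 0) (nat_lit 0) [] (BT.pln (nat_lit 0) (nat_lit 0) (BT.pln (nat_lit 1) (nat_lit 1) (BT.fix (nat_lit 1) (BT.and (nat_lit 1) (nat_lit 0) (BT.and (nat_lit 3) (nat_lit 1) (BT.frm (nat_lit 1) (nat_lit 205576) (nat_lit 205576) [nat_lit 1, nat_lit 0] (BT.pln (nat_lit 0) (nat_lit 7) (BT.and (nat_lit 6) (nat_lit 0) (BT.br (nat_lit 0) (nat_lit 15) [nat_lit 1] (BT.kid (nat_lit 15) (nat_lit 1) (BT.img (nat_lit 1) (nat_lit 0) (BT.img (nat_lit 1) (nat_lit 0) (BT.one (nat_lit 2) (nat_lit 0x290f2b0f032308) (nat_lit 0x290f2b0f032308) [nat_lit 0, nat_lit 1, nat_lit 2, nat_lit 7, nat_lit 6]))) BT.nil)))))))))))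

theorem lt1_c10_cnt : Cnt 100 (grp 100 L1) [p_g202] [p_g202] 0 0 0 0 7 :=
  BT.sound lt1_c10_cnt_P Known.nil (t := lt1_c10_cnt_t) (d := 0) (by decide +kernel)

theorem lt1_c10_ge : 7 ≤ Nat.card (grp 100 lt1_c10_K) :=
  Ch.le_card_grp (k := 7) (L := (lab 100 7)) p_hn lt1_c10_K_ok (c := (Ch.cons (nat_lit 15) [nat_lit 1] Ch.nil)) (by decide +kernel)

theorem lt1_c10_eq : (grp 100 L1) ⊓ Subgroup.centralizer {Net.toPerm 100 p_g202} = grp 100 lt1_c10_K :=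
  cent_eq lt1_c10_sym lt1_c10_cnt lt1_c10_ge

theorem lt1_c10_card : Nat.card ↥((grp 100 L1) ⊓ Subgroup.centralizer {Net.toPerm 100 p_g202}) = 7 :=
  card_cent lt1_c10_sym lt1_c10_cnt lt1_c10_ge

theorem lt1_c10_ord : orderOf (Net.toPerm 100 p_g202) = 7 :=
  orderOf_net p_hn p_hk p_g202_ok (by decide) (ps := [7]) (by set_option linter.unusedSimpArgs false in simp [Nat.primeFactorsList_ofNat]) (by decide +kernel)

theorem p_le213 : grp 100 lt1_c11_K ≤ grp 100 L1o_E0 :=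
  grp_le_of_memB p_hn p_hk L1o_E0_ok lt1_c11_K_ok (ws := [nat_lit 0x23110b03]) (by decide +kernel)

theorem lt1_c11_le : grp 100 lt1_c11_K ≤ (grp 100 L1) :=
  (p_le213.trans V1_s0.le)

theorem lt1_c11_mem : Net.toPerm 100 p_g212 ∈ (grp 100 L1) :=
  lt1_c11_le (toPerm_mem_grp (E := lt1_c11_K) (List.Mem.head _))

theorem lt1_c11_sym : Sym 100 (grp 100 L1) [p_g212] lt1_c11_K 0 :=
  Sym.of_lab p_hn p_hk (okE_cons.2 ⟨p_g212_ok, okE_nil _⟩) lt1_c11_K_ok lt1_c11_le (kT := 0) (by decide +kernel)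

noncomputable def lt1_c11_cnt_L : List ℕ := [0, 2, V1_s0_O, 0, 0, 2, 8, V1_s27_O, 0, 0, 5, 9, V1_s30_O, 1, 0]

theorem lt1_c11_cnt_P : Prob 100 7 (grp 100 L1) lt1_c11_cnt_EG [p_g212] [p_g212] lt1_c11_K lt1_c11_cnt_L 0 0 :=
  Sym.prob p_hn p_hk lt1_c11_sym lt1_c11_cnt_EG_ok (grp_cons_le p_g70_V1 (grp_cons_le p_g66_V1 (grp_cons_le p_g67_V1 (grp_cons_le p_g74_V1 (grp_cons_le p_g73_V1 (grp_cons_le p_g75_V1 (grp_cons_le p_g82_V1 (grp_cons_le p_g80_V1 (grp_cons_le p_g81_V1 (grp_cons_le p_g94_V1 (grp_cons_le p_g89_V1 (grp_cons_le p_g95_V1 (grp_cons_le p_g96_V1 (grp_cons_le p_g87_V1 (grp_cons_le p_g88_V1 (grp_cons_le p_g90_V1 (grp_cons_le p_g91_V1 (grp_cons_le p_g62_V1 (grp_cons_le p_g63_V1 (grp_cons_le p_g206_V1 (grp_cons_le p_g205_V1 (grp_cons_le p_g204_V1 (grp_nil_le _))))))))))))))))))))))) (Frames.cons V1_s0_F (Frames.cons V1_s27_F (Frames.cons V1_s30_F Frames.nil))) (okE_cons.2 ⟨p_g212_ok,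 okE_nil _⟩) _

noncomputable def lt1_c11_cnt_t : BT := (BT.frm (nat_lit 0) (nat_lit 0) (nat_lit 0) [] (BT.pln (nat_lit 0) (nat_lit 0) (BT.pln (nat_lit 1) (nat_lit 1) (BT.fix (nat_lit 1) (BT.and (nat_lit 1) (nat_lit 0) (BT.and (nat_lit 3) (nat_lit 1) (BT.frm (nat_lit 1) (nat_lit 205576) (nat_lit 205576) [nat_lit 1, nat_lit 0] (BT.pln (nat_lit 0) (nat_lit 7) (BT.and (nat_lit 6) (nat_lit 0) (BT.br (nat_lit 0) (nat_lit 15) [nat_lit 1] (BT.kid (nat_lit 15) (nat_lit 1) (BT.img (nat_lit 1) (nat_lit 0) (BT.img (nat_lit 1) (nat_lit 0) (BT.one (nat_lit 2) (nat_lit 0xf272b0f032308) (nat_lit 0xf272b0f032308) [nat_lit 0, nat_lit 1, nat_lit 2, nat_lit 7, nat_lit 6]))) BT.nil)))))))))))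

theorem lt1_c11_cnt : Cnt 100 (grp 100 L1) [p_g212] [p_g212] 0 0 0 0 7 :=
  BT.sound lt1_c11_cnt_P Known.nil (t := lt1_c11_cnt_t) (d := 0) (by decide +kernel)

theorem lt1_c11_ge : 7 ≤ Nat.card (grp 100 lt1_c11_K) :=
  Ch.le_card_grp (k := 7) (L := (lab 100 7)) p_hn lt1_c11_K_ok (c := (Ch.cons (nat_lit 15) [nat_lit 1] Ch.nil)) (by decide +kernel)

theorem lt1_c11_eq : (grp 100 L1) ⊓ Subgroup.centralizer {Net.toPerm 100 p_g212} = grp 100 lt1_c11_K :=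
  cent_eq lt1_c11_sym lt1_c11_cnt lt1_c11_ge

theorem lt1_c11_card : Nat.card ↥((grp 100 L1) ⊓ Subgroup.centralizer {Net.toPerm 100 p_g212}) = 7 :=
  card_cent lt1_c11_sym lt1_c11_cnt lt1_c11_ge

theorem lt1_c11_ord : orderOf (Net.toPerm 100 p_g212) = 7 :=
  orderOf_net p_hn p_hk p_g212_ok (by decide) (ps := [7]) (by set_option linter.unusedSimpArgs false in simp [Nat.primeFactorsList_ofNat]) (by decide +kernel)

theorem p_le215 : grp 100 lt1_c12_K ≤ grp 100 L1o_E0 :=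
  grp_le_of_memB p_hn p_hk L1o_E0_ok lt1_c12_K_ok (ws := [nat_lit 0x1f110b0e05010c]) (by decide +kernel)

theorem lt1_c12_le : grp 100 lt1_c12_K ≤ (grp 100 L1) :=
  (p_le215.trans V1_s0.le)

theorem lt1_c12_mem : Net.toPerm 100 p_g214 ∈ (grp 100 L1) :=
  lt1_c12_le (toPerm_mem_grp (E := lt1_c12_K) (List.Mem.head _))

theorem lt1_c12_sym : Sym 100 (grp 100 L1) [p_g214] lt1_c12_K 0 :=
  Sym.of_lab p_hn p_hk (okE_cons.2 ⟨p_g214_ok, okE_nil _⟩) lt1_c12_K_ok lt1_c12_le (kT := 0) (by decide +kernel)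

noncomputable def lt1_c12_cnt_L : List ℕ := [0, 2, V1_s0_O, 0, 0, 1, 5, V1_s1_O, 0, 0, 5, 9, V1_s26_O, 1, 0]

theorem lt1_c12_cnt_P : Prob 100 7 (grp 100 L1) lt1_c12_cnt_EG [p_g214] [p_g214] lt1_c12_K lt1_c12_cnt_L 0 0 :=
  Sym.prob p_hn p_hk lt1_c12_sym lt1_c12_cnt_EG_ok (grp_cons_le p_g62_V1 (grp_cons_le p_g63_V1 (grp_cons_le p_g70_V1 (grp_cons_le p_g66_V1 (grp_cons_le p_g67_V1 (grp_cons_le p_g74_V1 (grp_cons_le p_g73_V1 (grp_cons_le p_g75_V1 (grp_cons_le p_g82_V1 (grp_cons_le p_g80_V1 (grp_cons_le p_g81_V1 (grp_cons_le p_g94_V1 (grp_cons_le p_g89_V1 (grp_cons_le p_g95_V1 (grp_cons_le p_g96_V1 (grp_cons_le p_g87_V1 (grp_cons_le p_g88_V1 (grp_cons_le p_g90_V1 (grp_cons_le p_g91_V1 (grp_cons_le p_g169_V1 (grp_nil_le _))))))))))))))))))))) (Frames.cons V1_s0_F (Frames.cons V1_s1_F (Frames.cons V1_s26_F Frames.nil))) (okE_cons.2 ⟨p_g214_ok, okE_nil _⟩) _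

noncomputable def lt1_c12_cnt_t : BT := (BT.frm (nat_lit 0) (nat_lit 0) (nat_lit 0) [] (BT.pln (nat_lit 0) (nat_lit 0) (BT.br (nat_lit 0) (nat_lit 37) [nat_lit 1] (BT.kid (nat_lit 37) (nat_lit 1) (BT.pln (nat_lit 2) (nat_lit 1) (BT.frm (nat_lit 1) (nat_lit 268) (nat_lit 268) [nat_lit 1] (BT.pln (nat_lit 0) (nat_lit 3) (BT.and (nat_lit 2) (nat_lit 0) (BT.dif (nat_lit 3) (nat_lit 1) (BT.img (nat_lit 1) (nat_lit 0) (BT.and (nat_lit 2) (nat_lit 0) (BT.and (nat_lit 2) (nat_lit 1) (BT.img (nat_lit 1) (nat_lit 1) (BT.and (nat_lit 4) (nat_lit 0) (BT.img (nat_lit 1) (nat_lit 0) (BT.and (nat_lit 3) (nat_lit 0) (BT.img (nat_lit 1) (nat_lit 0) (BT.and (nat_lit 6) (nat_lit 0) (BT.and (nat_lit 10) (nat_lit 3) (BT.dif (nat_lit 10) (nat_lit 9) (BT.and (nat_lit 12) (nat_lit 7) (BT.img (nat_lit 1) (nat_lit 3) (BT.and (nat_lit 1) (nat_lit 0) (BT.img (nat_lit 1) (nat_lit 0) (BT.and (nat_lit 4) (nat_lit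 0) (BT.one (nat_lit 2) (nat_lit 0x17271305010c) (nat_lit 0x17271305010c) [nat_lit 7, nat_lit 6, nat_lit 0, nat_lit 9, nat_lit 21])))))))))))))))))))))) BT.nil))))

theorem lt1_c12_cnt : Cnt 100 (grp 100 L1) [p_g214] [p_g214] 0 0 0 0 15 :=
  BT.sound lt1_c12_cnt_P Known.nil (t := lt1_c12_cnt_t) (d := 0) (by decide +kernel)

theorem lt1_c12_ge : 15 ≤ Nat.card (grp 100 lt1_c12_K) :=
  Ch.le_card_grp (k := 7) (L := (lab 100 7)) p_hn lt1_c12_K_ok (c := (Ch.cons (nat_lit 37) [nat_lit 1] Ch.nil)) (by decide +kernel)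

theorem lt1_c12_eq : (grp 100 L1) ⊓ Subgroup.centralizer {Net.toPerm 100 p_g214} = grp 100 lt1_c12_K :=
  cent_eq lt1_c12_sym lt1_c12_cnt lt1_c12_ge

theorem lt1_c12_card : Nat.card ↥((grp 100 L1) ⊓ Subgroup.centralizer {Net.toPerm 100 p_g214}) = 15 :=
  card_cent lt1_c12_sym lt1_c12_cnt lt1_c12_ge

theorem lt1_c12_ord : orderOf (Net.toPerm 100 p_g214) = 15 :=
  orderOf_net p_hn p_hk p_g214_ok (by decide) (ps := [3, 5]) (by set_option linter.unusedSimpArgs false in simp [Nat.primeFactorsList_ofNat]) (by decide +kernel)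

theorem p_le217 : grp 100 lt1_c13_K ≤ grp 100 L1o_E0 :=
  grp_le_of_memB p_hn p_hk L1o_E0_ok lt1_c13_K_ok (ws := [nat_lit 0x171b110d04]) (by decide +kernel)

theorem lt1_c13_le : grp 100 lt1_c13_K ≤ (grp 100 L1) :=
  (p_le217.trans V1_s0.le)

theorem lt1_c13_mem : Net.toPerm 100 p_g216 ∈ (grp 100 L1) :=
  lt1_c13_le (toPerm_mem_grp (E := lt1_c13_K) (List.Mem.head _))

theorem lt1_c13_sym : Sym 100 (grp 100 L1) [p_g216] lt1_c13_K 0 :=
  Sym.of_lab p_hn p_hk (okE_cons.2 ⟨p_g216_ok, okE_nil _⟩) lt1_c13_K_ok lt1_c13_le (kT := 0) (by decide +kernel)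

noncomputable def lt1_c13_cnt_L : List ℕ := [0, 2, V1_s0_O, 0, 0, 1, 5, V1_s1_O, 0, 0, 5, 9, V1_s26_O, 1, 0]

theorem lt1_c13_cnt_P : Prob 100 7 (grp 100 L1) lt1_c13_cnt_EG [p_g216] [p_g216] lt1_c13_K lt1_c13_cnt_L 0 0 :=
  Sym.prob p_hn p_hk lt1_c13_sym lt1_c13_cnt_EG_ok (grp_cons_le p_g62_V1 (grp_cons_le p_g63_V1 (grp_cons_le p_g70_V1 (grp_cons_le p_g66_V1 (grp_cons_le p_g67_V1 (grp_cons_le p_g74_V1 (grp_cons_le p_g73_V1 (grp_cons_le p_g75_V1 (grp_cons_le p_g82_V1 (grp_cons_le p_g80_V1 (grp_cons_le p_g81_V1 (grp_cons_le p_g94_V1 (grp_cons_le p_g89_V1 (grp_cons_le p_g95_V1 (grp_cons_le p_g96_V1 (grp_cons_le p_g87_V1 (grp_cons_le p_g88_V1 (grp_cons_le p_g90_V1 (grp_cons_le p_g91_V1 (grp_cons_le p_g169_V1 (grp_nil_le _))))))))))))))))))))) (Frames.cons V1_s0_F (Frames.cons V1_s1_F (Frames.cons V1_s26_F Frames.nil))) (okE_cons.2 ⟨p_g216_ok, okE_nil _⟩) _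

noncomputable def lt1_c13_cnt_t : BT := (BT.frm (nat_lit 0) (nat_lit 0) (nat_lit 0) [] (BT.pln (nat_lit 0) (nat_lit 0) (BT.br (nat_lit 0) (nat_lit 37) [nat_lit 1] (BT.kid (nat_lit 37) (nat_lit 1) (BT.pln (nat_lit 2) (nat_lit 1) (BT.frm (nat_lit 1) (nat_lit 268) (nat_lit 268) [nat_lit 1] (BT.pln (nat_lit 0) (nat_lit 3) (BT.and (nat_lit 2) (nat_lit 0) (BT.dif (nat_lit 3) (nat_lit 1) (BT.img (nat_lit 1) (nat_lit 0) (BT.dif (nat_lit 2) (nat_lit 0) (BT.and (nat_lit 2) (nat_lit 1) (BT.img (nat_lit 1) (nat_lit 0) (BT.and (nat_lit 5) (nat_lit 0) (BT.img (nat_lit 1) (nat_lit 0) (BT.and (nat_lit 7) (nat_lit 0) (BT.img (nat_lit 1) (nat_lit 0) (BT.and (nat_lit 6) (nat_lit 0) (BT.and (nat_lit 9) (nat_lit 5) (BT.img (nat_lit 1) (nat_lit 0) (BT.and (nat_lit 15) (nat_lit 0) (BT.and (nat_lit 12) (nat_lit 6) (BT.one (nat_lit 2) (nat_lit 0x27130d050e010c) (nat_lit 0x27130d050e010c) [nat_lit 4, nat_lit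 1, nat_lit 0, nat_lit 3, nat_lit 18]))))))))))))))))))) BT.nil))))

theorem lt1_c13_cnt : Cnt 100 (grp 100 L1) [p_g216] [p_g216] 0 0 0 0 15 :=
  BT.sound lt1_c13_cnt_P Known.nil (t := lt1_c13_cnt_t) (d := 0) (by decide +kernel)

theorem lt1_c13_ge : 15 ≤ Nat.card (grp 100 lt1_c13_K) :=
  Ch.le_card_grp (k := 7) (L := (lab 100 7)) p_hn lt1_c13_K_ok (c := (Ch.cons (nat_lit 37) [nat_lit 1] Ch.nil)) (by decide +kernel)

theorem lt1_c13_eq : (grp 100 L1) ⊓ Subgroup.centralizer {Net.toPerm 100 p_g216} = grp 100 lt1_c13_K :=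
  cent_eq lt1_c13_sym lt1_c13_cnt lt1_c13_ge

theorem lt1_c13_card : Nat.card ↥((grp 100 L1) ⊓ Subgroup.centralizer {Net.toPerm 100 p_g216}) = 15 :=
  card_cent lt1_c13_sym lt1_c13_cnt lt1_c13_ge

theorem lt1_c13_ord : orderOf (Net.toPerm 100 p_g216) = 15 :=
  orderOf_net p_hn p_hk p_g216_ok (by decide) (ps := [3, 5]) (by set_option linter.unusedSimpArgs false in simp [Nat.primeFactorsList_ofNat]) (by decide +kernel)

noncomputable def lt1_xs : List Net := [Net.nil, p_g122, p_g139, p_g150, p_g162, p_g174, p_g184, p_g189, p_g196, p_g200, p_g202, p_g212, p_g214, p_g216]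

noncomputable def lt1_cs : List ℕ := [20160, 192, 96, 180, 18, 16, 8, 15, 12, 6, 7, 7, 15, 15]

noncomputable def lt1_os : List ℕ := [1, 2, 2, 3, 3, 4, 4, 5, 6, 6, 7, 7, 15, 15]

theorem lt1_reps : Reps 100 (grp 100 L1) lt1_xs lt1_cs lt1_os :=
  (Reps.cons rfl (one_mem _) (card_cent_nil L1o_card) orderOf_one (Reps.cons p_g122_ok lt1_c1_mem lt1_c1_card lt1_c1_ord (Reps.cons p_g139_ok lt1_c2_mem lt1_c2_card lt1_c2_ord (Reps.cons p_g150_ok lt1_c3_mem lt1_c3_card lt1_c3_ord (Reps.cons p_g162_ok lt1_c4_mem lt1_c4_card lt1_c4_ord (Reps.cons p_g174_ok lt1_c5_mem lt1_c5_card lt1_c5_ord (Reps.cons p_g184_ok lt1_c6_mem lt1_c6_card lt1_c6_ord (Reps.cons p_g189_ok lt1_c7_mem lt1_c7_card lt1_c7_ord (Reps.cons p_g196_ok lt1_c8_mem lt1_c8_card lt1_c8_ord (Reps.cons p_g200_ok lt1_c9_mem lt1_c9_card lt1_c9_ord (Reps.cons p_g202_ok lt1_c10_mem lt1_c10_card lt1_c10_ord (Reps.cons p_g212_ok lt1_c11_mem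 lt1_c11_card lt1_c11_ord (Reps.cons p_g214_ok lt1_c12_mem lt1_c12_card lt1_c12_ord (Reps.cons p_g216_ok lt1_c13_mem lt1_c13_card lt1_c13_ord Reps.nil))))))))))))))

noncomputable def V1_s28_O : ℕ := (nat_lit 0x4000000000000000000002000100000000000000084010000000000000000000000000000000100020010000000000080001000000000001400001000000004800000000004800000080100040210000000000400001140000000400400000000280000800000c000000800000000000000100005204020080886000000806000000000000204060006a02040000000181210000460000008010881002000000000000000000000000100000000000000010000000000000000000000000000008000)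

theorem V1_s28_F : Frame 100 (grp 100 L1) 3 16 V1_s28_O 0 1 :=
  Stab.frame p_hn V1_s28 (by decide +kernel)

noncomputable def lt1_nc11_10_cnt_L : List ℕ := [0, 2, V1_s0_O, 0, 0, 1, 5, V1_s1_O, 0, 0, 2, 8, V1_s27_O, 0, 0, 3, 16, V1_s28_O, 0, 0]

theorem lt1_nc11_10_cnt_P : Prob 100 7 (grp 100 L1) lt1_nc11_10_cnt_EG [p_g212] [p_g202] lt1_c10_K lt1_nc11_10_cnt_L 0 0 :=
  Sym.prob p_hn p_hk lt1_c10_sym lt1_nc11_10_cnt_EG_ok (grp_cons_le p_g62_V1 (grp_cons_le p_g63_V1 (grp_cons_le p_g70_V1 (grp_cons_le p_g66_V1 (grp_cons_le p_g67_V1 (grp_cons_le p_g74_V1 (grp_cons_le p_g73_V1 (grp_cons_le p_g75_V1 (grp_cons_le p_g82_V1 (grp_cons_le p_g80_V1 (grp_cons_le p_g81_V1 (grp_cons_le p_g94_V1 (grp_cons_le p_g89_V1 (grp_cons_le p_g95_V1 (grp_cons_le p_g96_V1 (grp_cons_le p_g87_V1 (grp_cons_le p_g88_V1 (grp_cons_le p_g90_V1 (grp_cons_le p_g91_V1 (grp_cons_le p_g204_V1 (grp_cons_le p_g205_V1 (grp_cons_le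 p_g206_V1 (grp_nil_le _))))))))))))))))))))))) (Frames.cons V1_s0_F (Frames.cons V1_s1_F (Frames.cons V1_s27_F (Frames.cons V1_s28_F Frames.nil)))) (okE_cons.2 ⟨p_g212_ok, okE_nil _⟩) _

noncomputable def lt1_nc11_10_cnt_t : BT := (BT.frm (nat_lit 0) (nat_lit 0) (nat_lit 0) [] (BT.pln (nat_lit 0) (nat_lit 0) (BT.pln (nat_lit 1) (nat_lit 1) (BT.fix (nat_lit 1) (BT.and (nat_lit 1) (nat_lit 0) (BT.and (nat_lit 3) (nat_lit 1) (BT.frm (nat_lit 2) (nat_lit 459020) (nat_lit 459020) [nat_lit 1, nat_lit 0] (BT.pln (nat_lit 0) (nat_lit 7) (BT.and (nat_lit 6) (nat_lit 0) (BT.br (nat_lit 0) (nat_lit 15) [nat_lit 1] (BT.dead (nat_lit 15) (BT.frm (nat_lit 1) (nat_lit 268) (nat_lit 268) [nat_lit 4] (BT.pln (nat_lit 0) (nat_lit 3) (BT.dif (nat_lit 9) (nat_lit 0) (BT.frm (nat_lit 3) (nat_lit 0x271307010c) (nat_lit 0x271307010c) [nat_lit 3, nat_lit 8, nat_lit 7] (BT.pln (nat_lit 0) (nat_lit 11) (BT.dif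 (nat_lit 2) (nat_lit 0) (BT.pln (nat_lit 2) (nat_lit 13) (BT.and (nat_lit 14) (nat_lit 0) (BT.img (nat_lit 1) (nat_lit 0) (BT.and (nat_lit 3) (nat_lit 0) (BT.img (nat_lit 1) (nat_lit 0) (BT.and (nat_lit 8) (nat_lit 0) (BT.img (nat_lit 1) (nat_lit 0) (BT.and (nat_lit 0) (nat_lit 8) (BT.cnt (nat_lit 0)))))))))))))))) BT.nil)))))))))))

theorem lt1_nc11_10_cnt : Cnt 100 (grp 100 L1) [p_g212] [p_g202] 0 0 0 0 0 :=
  BT.sound lt1_nc11_10_cnt_P Known.nil (t := lt1_nc11_10_cnt_t) (d := 0) (by decide +kernel)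

theorem lt1_nc11_10 : ¬ CjIn (grp 100 L1) (Net.toPerm 100 p_g212) (Net.toPerm 100 p_g202) :=
  not_cjIn lt1_nc11_10_cnt

noncomputable def lt1_nc13_12_cnt_L : List ℕ := [0, 2, V1_s0_O, 0, 0, 1, 5, V1_s1_O, 0, 0]

theorem lt1_nc13_12_cnt_P : Prob 100 7 (grp 100 L1) lt1_nc13_12_cnt_EG [p_g216] [p_g214] lt1_c12_K lt1_nc13_12_cnt_L 0 0 :=
  Sym.prob p_hn p_hk lt1_c12_sym lt1_nc13_12_cnt_EG_ok (grp_cons_le p_g62_V1 (grp_cons_le p_g63_V1 (grp_cons_le p_g70_V1 (grp_cons_le p_g66_V1 (grp_cons_le p_g67_V1 (grp_cons_le p_g74_V1 (grp_cons_le p_g73_V1 (grp_cons_le p_g75_V1 (grp_cons_le p_g82_V1 (grp_cons_le p_g80_V1 (grp_cons_le p_g81_V1 (grp_cons_le p_g94_V1 (grp_cons_le p_g89_V1 (grp_cons_le p_g95_V1 (grp_cons_le p_g96_V1 (grp_cons_le p_g87_V1 (grp_cons_le p_g88_V1 (grp_cons_le p_g90_V1 (grp_cons_le p_g91_V1 (grp_nil_le _)))))))))))))))))))) (Frames.cons V1_s0_F (Frames.cons V1_s1_F Frames.nil))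 (okE_cons.2 ⟨p_g216_ok, okE_nil _⟩) _

noncomputable def lt1_nc13_12_cnt_t : BT := (BT.frm (nat_lit 0) (nat_lit 0) (nat_lit 0) [] (BT.pln (nat_lit 0) (nat_lit 0) (BT.br (nat_lit 0) (nat_lit 37) [nat_lit 1] (BT.dead (nat_lit 37) (BT.pln (nat_lit 2) (nat_lit 1) (BT.frm (nat_lit 1) (nat_lit 268) (nat_lit 268) [nat_lit 1] (BT.pln (nat_lit 0) (nat_lit 3) (BT.and (nat_lit 2) (nat_lit 0) (BT.dif (nat_lit 3) (nat_lit 1) (BT.img (nat_lit 1) (nat_lit 0) (BT.and (nat_lit 1) (nat_lit 0) (BT.img (nat_lit 1) (nat_lit 0) (BT.and (nat_lit 4) (nat_lit 0) (BT.img (nat_lit 1) (nat_lit 0) (BT.and (nat_lit 6) (nat_lit 0) (BT.img (nat_lit 1) (nat_lit 0) (BT.and (nat_lit 0) (nat_lit 9) (BT.cnt (nat_lit 0))))))))))))))) BT.nil))))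

theorem lt1_nc13_12_cnt : Cnt 100 (grp 100 L1) [p_g216] [p_g214] 0 0 0 0 0 :=
  BT.sound lt1_nc13_12_cnt_P Known.nil (t := lt1_nc13_12_cnt_t) (d := 0) (by decide +kernel)

theorem lt1_nc13_12 : ¬ CjIn (grp 100 L1) (Net.toPerm 100 p_g216) (Net.toPerm 100 p_g214) :=
  not_cjIn lt1_nc13_12_cnt

theorem lt1_exc : Exc 100 (grp 100 L1) lt1_xs [13012, 11010] :=
  (Exc.cons 13 12 (by decide) lt1_nc13_12 (Exc.cons 11 10 (by decide) lt1_nc11_10 Exc.nil))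

theorem lt1 : Table 100 (grp 100 L1) lt1_xs lt1_cs lt1_os :=
  Reps.table (D := 1) p_hn p_hk lt1_reps lt1_exc L1o_card (by decide +kernel)

theorem j1_G : Net.toPerm 100 p_g218 ∈ (grp 100 HSM.E) :=
  HSM.lb_le (mem_grp_of_memB p_hn p_hk HSM.lb_E_ok p_g218_ok (w := (nat_lit 0x130d0d0f0a0b050508010404)) (by decide +kernel))

theorem kf1 : ∀ {α : MulAut (grp 100 HSM.E)}, EvG.Ind (grp 100 HSM.E) (Net.toPerm 100 EvHT.t_g39) α → H62.EV.KF α ((grp 100 L1).subgroupOf (grp 100 HSM.E)) :=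
  fun hα => cmp1.kf hα (m := 6) (by rw [L1o_card]; norm_num) fun a ha ho hd => by
  obtain ⟨i, hi, hc, h1, h2⟩ := lt1.exists ha
  rw [ho] at h1
  rw [h2] at hd
  obtain rfl := (by decide +kernel : ∀ i < lt1_xs.length, 2 = nthN lt1_os i → 2 ^ 6 ∣ nthN lt1_cs i → 1 = i) i hi h1 hd
  exact ⟨_, hc, _, j1_G, EvG.cob_net p_hn p_hk (by decide +kernel)⟩

theorem p_le223 : grp 100 p_V222 ≤ grp 100 L3 :=
  grp_le_of_memB p_hn p_hk L3_ok p_V222_ok (ws := [nat_lit 257]) (by decide +kernel)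

theorem p_le227 : grp 100 p_V226 ≤ grp 100 L3 :=
  grp_le_of_memB p_hn p_hk L3_ok p_V226_ok (ws := [nat_lit 197377, nat_lit 0x20203020303030202]) (by decide +kernel)

theorem p_le230 : grp 100 p_V229 ≤ grp 100 p_V226 :=
  grp_le_of_memB p_hn p_hk p_V226_ok p_V229_ok (ws := [nat_lit 4]) (by decide +kernel)

theorem p_le234 : grp 100 p_V233 ≤ grp 100 p_V226 :=
  grp_le_of_memB p_hn p_hk p_V226_ok p_V233_ok (ws := [nat_lit 0x402030302, nat_lit 263170]) (by decide +kernel)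

theorem p_le236 : grp 100 p_V235 ≤ grp 100 p_V233 :=
  grp_le_of_memB p_hn p_hk p_V233_ok p_V235_ok (ws := [nat_lit 3]) (by decide +kernel)

theorem p_le238 : grp 100 p_V237 ≤ grp 100 p_V233 :=
  grp_le_of_memB p_hn p_hk p_V233_ok p_V237_ok (ws := [nat_lit 0x103020302, nat_lit 66307]) (by decide +kernel)

theorem p_le240 : grp 100 p_V239 ≤ grp 100 p_V237 :=
  grp_le_of_memB p_hn p_hk p_V237_ok p_V239_ok (ws := [nat_lit 1, nat_lit 259]) (by decide +kernel)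

theorem L3o_card4 : Nat.card (grp 100 L3o_E4) = 1 :=
  card_grp_nil 100

theorem L3o_leO4 : grp 100 L3o_E4 ≤ grp 100 L3 :=
  grp_nil_le _

theorem L3o_3_fix : grp 100 L3o_E4 ≤ MulAction.stabilizer (Equiv.Perm (Fin 100)) (⟨1, by decide⟩ : Fin 100) :=
  grp_le_stab L3o_E4_ok (by decide : 1 < 100) (by decide +kernel)

noncomputable def L3o_3_ts : List ℕ := [nat_lit 0, nat_lit 1, nat_lit 3, nat_lit 259]

noncomputable def L3o_3_ds : List ℕ := [nat_lit 1, nat_lit 84, nat_lit 47, nat_lit 50]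

theorem L3o_3_dist : Dist 100 L3o_E4 L3o_G3 (⟨1, by decide⟩ : Fin 100) L3o_3_ts L3o_3_ds :=
  dist_of_distB (k := 2) p_hn L3o_E4_ok L3o_G3_ok (by decide : 1 < 100) (by decide +kernel)

noncomputable def L3o_3_sl0 : SL := (SL.cons (nat_lit 1) (nat_lit 84) Ch.nil [] (SL.cons (nat_lit 3) (nat_lit 47) Ch.nil [] (SL.cons (nat_lit 259) (nat_lit 50) Ch.nil [] SL.nil)))

theorem L3o_3_sc0 : SCs 100 L3o_E4 L3o_G3 (⟨1, by decide⟩ : Fin 100) (SL.words L3o_3_sl0) :=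
  scs_of_ok p_hn (det_lab p_hk ⊤) L3o_E4_ok L3o_G3_ok le_top le_top (by decide : 1 < 100) L3o_3_fix L3o_card4.le (by decide +kernel)

noncomputable def L3o_3_l : List ℕ := (appL (SL.words L3o_3_sl0) [])

theorem L3o_3_scs : SCs 100 L3o_E4 L3o_G3 (⟨1, by decide⟩ : Fin 100) L3o_3_l :=
  (SCs.append L3o_3_sc0 SCs.nil)

noncomputable def L3o_3_rl0_0 : RL := (RL.cons (nat_lit 0) (nat_lit 1) (nat_lit 0) (nat_lit 0) (nat_lit 1) (nat_lit 0) (RL.cons (nat_lit 1) (nat_lit 84) (nat_lit 0) (nat_lit 0) (nat_lit 0) (nat_lit 0) (RL.cons (nat_lit 2) (nat_lit 47) (nat_lit 0) (nat_lit 0) (nat_lit 3) (nat_lit 0) (RL.cons (nat_lit 3) (nat_lit 50) (nat_lit 0) (nat_lit 0) (nat_lit 2) (nat_lit 0) RL.nil))))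

theorem L3o_3_good0_0 : GoodSet 100 L3o_E4 L3o_G3 (⟨1, by decide⟩ : Fin 100) L3o_3_ts (nat_lit 1) (RL.pts L3o_3_rl0_0) :=
  goodSet_of_ok p_hn (det_lab p_hk ⊤) L3o_E4_ok L3o_G3_ok le_top le_top (by decide : 1 < 100) (sepAt_lab p_hk _) (by decide +kernel)

theorem L3o_3_step0 : Step 100 L3o_E4 L3o_G3 L3o_3_ts (2 * 0 + 1) :=
  step_of_cover L3o_E4_ok L3o_3_dist (by decide +kernel) L3o_3_scs (by decide +kernel) L3o_3_good0_0 (kw := [])
    (conj_mem_of_scs L3o_E4_ok L3o_G3_ok (by decide : 1 < 100) L3o_3_scs (c := 0) (d := 84) (by decide +kernel)) (by decide +kernel)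

noncomputable def L3o_3_rl1_0 : RL := (RL.cons (nat_lit 0) (nat_lit 1) (nat_lit 0) (nat_lit 0) (nat_lit 2) (nat_lit 0) (RL.cons (nat_lit 1) (nat_lit 84) (nat_lit 0) (nat_lit 0) (nat_lit 3) (nat_lit 0) (RL.cons (nat_lit 2) (nat_lit 47) (nat_lit 0) (nat_lit 0) (nat_lit 0) (nat_lit 0) (RL.cons (nat_lit 3) (nat_lit 50) (nat_lit 0) (nat_lit 0) (nat_lit 1) (nat_lit 0) RL.nil))))

theorem L3o_3_good1_0 : GoodSet 100 L3o_E4 L3o_G3 (⟨1, by decide⟩ : Fin 100) L3o_3_ts (nat_lit 3) (RL.pts L3o_3_rl1_0) :=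
  goodSet_of_ok p_hn (det_lab p_hk ⊤) L3o_E4_ok L3o_G3_ok le_top le_top (by decide : 1 < 100) (sepAt_lab p_hk _) (by decide +kernel)

theorem L3o_3_step1 : Step 100 L3o_E4 L3o_G3 L3o_3_ts (2 * 1 + 1) :=
  step_of_cover L3o_E4_ok L3o_3_dist (by decide +kernel) L3o_3_scs (by decide +kernel) L3o_3_good1_0 (kw := [])
    (conj_mem_of_scs L3o_E4_ok L3o_G3_ok (by decide : 1 < 100) L3o_3_scs (c := 1) (d := 47) (by decide +kernel)) (by decide +kernel)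

theorem L3o_3_lev : grp 100 L3o_G3 ⊓ MulAction.stabilizer (Equiv.Perm (Fin 100)) (⟨1, by decide⟩ : Fin 100) = grp 100 L3o_E4 :=
  sims_level (gs := p_V239) rfl (by decide) L3o_3_fix L3o_3_dist (forall_lt_succ' (forall_lt_one L3o_3_step0) L3o_3_step1)

theorem L3o_3_cardG : Nat.card (grp 100 L3o_G3) = 4 :=
  card_of_level p_hn L3o_G3_ok (by decide : 1 < 100) L3o_3_lev L3o_card4 (m := 4) (by decide +kernel)

theorem p_le241 : grp 100 L3o_E3 ≤ grp 100 L3o_G3 :=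
  grp_le_of_memB p_hn p_hk L3o_G3_ok L3o_E3_ok (ws := [nat_lit 1, nat_lit 3, nat_lit 259]) (by decide +kernel)

theorem p_le242 : grp 100 L3o_G3 ≤ grp 100 L3o_E3 :=
  grp_le_of_memB p_hn p_hk L3o_E3_ok L3o_G3_ok (ws := [nat_lit 1, nat_lit 3]) (by decide +kernel)

theorem L3o_3_eq : grp 100 L3o_E3 = grp 100 L3o_G3 :=
  le_antisymm p_le241 p_le242

theorem L3o_card3 : Nat.card (grp 100 L3o_E3) = 4 :=
  by rw [L3o_3_eq]; exact L3o_3_cardG

theorem L3o_stab3 : grp 100 L3o_E3 ⊓ MulAction.stabilizer (Equiv.Perm (Fin 100)) (⟨1, by decide⟩ : Fin 100) = grp 100 L3o_E4 :=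
  by rw [L3o_3_eq]; exact L3o_3_lev

theorem L3o_leO3 : grp 100 L3o_E3 ≤ grp 100 L3 :=
  L3o_3_eq.le.trans (grp_cons_le ((p_le238.trans (p_le234.trans (p_le227.trans (le_refl (grp 100 L3))))) (p_le240 (toPerm_mem_grp (E := p_V239) (by simp [p_V239])))) (grp_cons_le ((p_le238.trans (p_le234.trans (p_le227.trans (le_refl (grp 100 L3))))) (p_le240 (toPerm_mem_grp (E := p_V239) (by simp [p_V239])))) L3o_leO4))

theorem L3o_2_fix : grp 100 L3o_E3 ≤ MulAction.stabilizer (Equiv.Perm (Fin 100)) (⟨96, by decide⟩ : Fin 100) :=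
  grp_le_stab L3o_E3_ok (by decide : 96 < 100) (by decide +kernel)

noncomputable def L3o_2_ts : List ℕ := [nat_lit 0, nat_lit 1]

noncomputable def L3o_2_ds : List ℕ := [nat_lit 96, nat_lit 33]

theorem L3o_2_dist : Dist 100 L3o_E3 L3o_G2 (⟨96, by decide⟩ : Fin 100) L3o_2_ts L3o_2_ds :=
  dist_of_distB (k := 1) p_hn L3o_E3_ok L3o_G2_ok (by decide : 96 < 100) (by decide +kernel)

noncomputable def L3o_2_sl0 : SL := (SL.cons (nat_lit 1) (nat_lit 33) (Ch.cons (nat_lit 1) [nat_lit 5, nat_lit 3] Ch.nil) [nat_lit 1, nat_lit 3] SL.nil)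

theorem L3o_2_sc0 : SCs 100 L3o_E3 L3o_G2 (⟨96, by decide⟩ : Fin 100) (SL.words L3o_2_sl0) :=
  scs_of_ok p_hn (det_lab p_hk ⊤) L3o_E3_ok L3o_G2_ok le_top le_top (by decide : 96 < 100) L3o_2_fix L3o_card3.le (by decide +kernel)

noncomputable def L3o_2_l : List ℕ := (appL (SL.words L3o_2_sl0) [])

theorem L3o_2_scs : SCs 100 L3o_E3 L3o_G2 (⟨96, by decide⟩ : Fin 100) L3o_2_l :=
  (SCs.append L3o_2_sc0 SCs.nil)

noncomputable def L3o_2_rl0_0 : RL := (RL.cons (nat_lit 0) (nat_lit 96) (nat_lit 0) (nat_lit 0) (nat_lit 1) (nat_lit 0) (RL.cons (nat_lit 1) (nat_lit 33) (nat_lit 0) (nat_lit 0) (nat_lit 0) (nat_lit 0) RL.nil))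

theorem L3o_2_good0_0 : GoodSet 100 L3o_E3 L3o_G2 (⟨96, by decide⟩ : Fin 100) L3o_2_ts (nat_lit 1) (RL.pts L3o_2_rl0_0) :=
  goodSet_of_ok p_hn (det_lab p_hk ⊤) L3o_E3_ok L3o_G2_ok le_top le_top (by decide : 96 < 100) (sepAt_lab p_hk _) (by decide +kernel)

theorem L3o_2_step0 : Step 100 L3o_E3 L3o_G2 L3o_2_ts (2 * 0 + 1) :=
  step_of_cover L3o_E3_ok L3o_2_dist (by decide +kernel) L3o_2_scs (by decide +kernel) L3o_2_good0_0 (kw := [nat_lit 5, nat_lit 3])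
    (conj_mem_of_scs L3o_E3_ok L3o_G2_ok (by decide : 96 < 100) L3o_2_scs (c := 0) (d := 33) (by decide +kernel)) (by decide +kernel)

theorem L3o_2_lev : grp 100 L3o_G2 ⊓ MulAction.stabilizer (Equiv.Perm (Fin 100)) (⟨96, by decide⟩ : Fin 100) = grp 100 L3o_E3 :=
  sims_level (gs := p_V235) rfl (by decide) L3o_2_fix L3o_2_dist (forall_lt_one L3o_2_step0)

theorem L3o_2_cardG : Nat.card (grp 100 L3o_G2) = 8 :=
  card_of_level p_hn L3o_G2_ok (by decide : 96 < 100) L3o_2_lev L3o_card3 (m := 2) (by decide +kernel)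

theorem p_le243 : grp 100 L3o_E2 ≤ grp 100 L3o_G2 :=
  grp_le_of_memB p_hn p_hk L3o_G2_ok L3o_E2_ok (ws := [nat_lit 1, nat_lit 3, nat_lit 5, nat_lit 7]) (by decide +kernel)

theorem p_le244 : grp 100 L3o_G2 ≤ grp 100 L3o_E2 :=
  grp_le_of_memB p_hn p_hk L3o_E2_ok L3o_G2_ok (ws := [nat_lit 1, nat_lit 3, nat_lit 5, nat_lit 7]) (by decide +kernel)

theorem L3o_2_eq : grp 100 L3o_E2 = grp 100 L3o_G2 :=
  le_antisymm p_le243 p_le244

theorem L3o_card2 : Nat.card (grp 100 L3o_E2) = 8 :=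
  by rw [L3o_2_eq]; exact L3o_2_cardG

theorem L3o_stab2 : grp 100 L3o_E2 ⊓ MulAction.stabilizer (Equiv.Perm (Fin 100)) (⟨96, by decide⟩ : Fin 100) = grp 100 L3o_E3 :=
  by rw [L3o_2_eq]; exact L3o_2_lev

theorem L3o_leO2 : grp 100 L3o_E2 ≤ grp 100 L3 :=
  L3o_2_eq.le.trans (grp_cons_le ((p_le234.trans (p_le227.trans (le_refl (grp 100 L3)))) (p_le236 (toPerm_mem_grp (E := p_V235) (by simp [p_V235])))) L3o_leO3)

theorem L3o_1_fix : grp 100 L3o_E2 ≤ MulAction.stabilizer (Equiv.Perm (Fin 100)) (⟨12, by decide⟩ : Fin 100) :=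
  grp_le_stab L3o_E2_ok (by decide : 12 < 100) (by decide +kernel)

noncomputable def L3o_1_ts : List ℕ := [nat_lit 0, nat_lit 1]

noncomputable def L3o_1_ds : List ℕ := [nat_lit 12, nat_lit 96]

theorem L3o_1_dist : Dist 100 L3o_E2 L3o_G1 (⟨12, by decide⟩ : Fin 100) L3o_1_ts L3o_1_ds :=
  dist_of_distB (k := 1) p_hn L3o_E2_ok L3o_G1_ok (by decide : 12 < 100) (by decide +kernel)

noncomputable def L3o_1_sl0 : SL := (SL.cons (nat_lit 1) (nat_lit 96) (Ch.cons (nat_lit 1) [nat_lit 3, nat_lit 5, nat_lit 7] Ch.nil) [nat_lit 5, nat_lit 7, nat_lit 3] SL.nil)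

theorem L3o_1_sc0 : SCs 100 L3o_E2 L3o_G1 (⟨12, by decide⟩ : Fin 100) (SL.words L3o_1_sl0) :=
  scs_of_ok p_hn (det_lab p_hk ⊤) L3o_E2_ok L3o_G1_ok le_top le_top (by decide : 12 < 100) L3o_1_fix L3o_card2.le (by decide +kernel)

noncomputable def L3o_1_l : List ℕ := (appL (SL.words L3o_1_sl0) [])

theorem L3o_1_scs : SCs 100 L3o_E2 L3o_G1 (⟨12, by decide⟩ : Fin 100) L3o_1_l :=
  (SCs.append L3o_1_sc0 SCs.nil)

noncomputable def L3o_1_rl0_0 : RL := (RL.cons (nat_lit 0) (nat_lit 12) (nat_lit 0) (nat_lit 1) (nat_lit 1) (nat_lit 1793) (RL.cons (nat_lit 1) (nat_lit 96) (nat_lit 0) (nat_lit 0) (nat_lit 0) (nat_lit 0) (RL.cons (nat_lit 1) (nat_lit 33) (nat_lit 1) (nat_lit 0) (nat_lit 1) (nat_lit 769) RL.nil)))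

theorem L3o_1_good0_0 : GoodSet 100 L3o_E2 L3o_G1 (⟨12, by decide⟩ : Fin 100) L3o_1_ts (nat_lit 1) (RL.pts L3o_1_rl0_0) :=
  goodSet_of_ok p_hn (det_lab p_hk ⊤) L3o_E2_ok L3o_G1_ok le_top le_top (by decide : 12 < 100) (sepAt_lab p_hk _) (by decide +kernel)

theorem L3o_1_step0 : Step 100 L3o_E2 L3o_G1 L3o_1_ts (2 * 0 + 1) :=
  step_of_cover L3o_E2_ok L3o_1_dist (by decide +kernel) L3o_1_scs (by decide +kernel) L3o_1_good0_0 (kw := [nat_lit 3, nat_lit 5, nat_lit 7])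
    (conj_mem_of_scs L3o_E2_ok L3o_G1_ok (by decide : 12 < 100) L3o_1_scs (c := 0) (d := 96) (by decide +kernel)) (by decide +kernel)

theorem L3o_1_lev : grp 100 L3o_G1 ⊓ MulAction.stabilizer (Equiv.Perm (Fin 100)) (⟨12, by decide⟩ : Fin 100) = grp 100 L3o_E2 :=
  sims_level (gs := p_V229) rfl (by decide) L3o_1_fix L3o_1_dist (forall_lt_one L3o_1_step0)

theorem L3o_1_cardG : Nat.card (grp 100 L3o_G1) = 24 :=
  card_of_level p_hn L3o_G1_ok (by decide : 12 < 100) L3o_1_lev L3o_card2 (m := 3) (by decide +kernel)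

theorem p_le245 : grp 100 L3o_E1 ≤ grp 100 L3o_G1 :=
  grp_le_of_memB p_hn p_hk L3o_G1_ok L3o_E1_ok (ws := [nat_lit 1, nat_lit 770, nat_lit 2, nat_lit 3, nat_lit 5, nat_lit 7, nat_lit 9]) (by decide +kernel)

theorem p_le246 : grp 100 L3o_G1 ≤ grp 100 L3o_E1 :=
  grp_le_of_memB p_hn p_hk L3o_E1_ok L3o_G1_ok (ws := [nat_lit 1, nat_lit 7, nat_lit 9, nat_lit 11, nat_lit 13]) (by decide +kernel)

theorem L3o_1_eq : grp 100 L3o_E1 = grp 100 L3o_G1 :=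
  le_antisymm p_le245 p_le246

theorem L3o_card1 : Nat.card (grp 100 L3o_E1) = 24 :=
  by rw [L3o_1_eq]; exact L3o_1_cardG

theorem L3o_stab1 : grp 100 L3o_E1 ⊓ MulAction.stabilizer (Equiv.Perm (Fin 100)) (⟨12, by decide⟩ : Fin 100) = grp 100 L3o_E2 :=
  by rw [L3o_1_eq]; exact L3o_1_lev

theorem L3o_leO1 : grp 100 L3o_E1 ≤ grp 100 L3 :=
  L3o_1_eq.le.trans (grp_cons_le ((p_le227.trans (le_refl (grp 100 L3))) (p_le230 (toPerm_mem_grp (E := p_V229) (by simp [p_V229])))) L3o_leO2)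

theorem L3o_0_fix : grp 100 L3o_E1 ≤ MulAction.stabilizer (Equiv.Perm (Fin 100)) (⟨0, by decide⟩ : Fin 100) :=
  grp_le_stab L3o_E1_ok (by decide : 0 < 100) (by decide +kernel)

noncomputable def L3o_0_ts : List ℕ := [nat_lit 0, nat_lit 1, nat_lit 257]

noncomputable def L3o_0_ds : List ℕ := [nat_lit 0, nat_lit 21, nat_lit 38]

theorem L3o_0_dist : Dist 100 L3o_E1 L3o_G0 (⟨0, by decide⟩ : Fin 100) L3o_0_ts L3o_0_ds :=
  dist_of_distB (k := 2) p_hn L3o_E1_ok L3o_G0_ok (by decide : 0 < 100) (by decide +kernel)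

noncomputable def L3o_0_sl0 : SL := (SL.cons (nat_lit 1) (nat_lit 21) (Ch.cons (nat_lit 2) [nat_lit 853762, nat_lit 9] Ch.nil) [nat_lit 13, nat_lit 591617] (SL.cons (nat_lit 257) (nat_lit 38) (Ch.cons (nat_lit 1) [nat_lit 3329] Ch.nil) [nat_lit 2817] SL.nil))

theorem L3o_0_sc0 : SCs 100 L3o_E1 L3o_G0 (⟨0, by decide⟩ : Fin 100) (SL.words L3o_0_sl0) :=
  scs_of_ok p_hn (det_lab p_hk ⊤) L3o_E1_ok L3o_G0_ok le_top le_top (by decide : 0 < 100) L3o_0_fix L3o_card1.le (by decide +kernel)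

noncomputable def L3o_0_l : List ℕ := (appL (SL.words L3o_0_sl0) [])

theorem L3o_0_scs : SCs 100 L3o_E1 L3o_G0 (⟨0, by decide⟩ : Fin 100) L3o_0_l :=
  (SCs.append L3o_0_sc0 SCs.nil)

noncomputable def L3o_0_rl0_0 : RL := (RL.cons (nat_lit 0) (nat_lit 0) (nat_lit 0) (nat_lit 1) (nat_lit 1) (nat_lit 1) (RL.cons (nat_lit 1) (nat_lit 21) (nat_lit 0) (nat_lit 0) (nat_lit 0) (nat_lit 0) (RL.cons (nat_lit 1) (nat_lit 14) (nat_lit 1) (nat_lit 4) (nat_lit 2) (nat_lit 7) (RL.cons (nat_lit 1) (nat_lit 43) (nat_lit 3) (nat_lit 7) (nat_lit 1) (nat_lit 9) (RL.cons (nat_lit 2) (nat_lit 38) (nat_lit 0) (nat_lit 0) (nat_lit 1) (nat_lit 0) (RL.cons (nat_lit 2) (nat_lit 73) (nat_lit 1) (nat_lit 2) (nat_lit 2) (nat_lit 722690) RL.nil))))))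

theorem L3o_0_good0_0 : GoodSet 100 L3o_E1 L3o_G0 (⟨0, by decide⟩ : Fin 100) L3o_0_ts (nat_lit 1) (RL.pts L3o_0_rl0_0) :=
  goodSet_of_ok p_hn (det_lab p_hk ⊤) L3o_E1_ok L3o_G0_ok le_top le_top (by decide : 0 < 100) (sepAt_lab p_hk _) (by decide +kernel)

theorem L3o_0_step0 : Step 100 L3o_E1 L3o_G0 L3o_0_ts (2 * 0 + 1) :=
  step_of_cover L3o_E1_ok L3o_0_dist (by decide +kernel) L3o_0_scs (by decide +kernel) L3o_0_good0_0 (kw := [nat_lit 853762, nat_lit 9])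
    (conj_mem_of_scs L3o_E1_ok L3o_G0_ok (by decide : 0 < 100) L3o_0_scs (c := 0) (d := 21) (by decide +kernel)) (by decide +kernel)

theorem L3o_0_lev : grp 100 L3o_G0 ⊓ MulAction.stabilizer (Equiv.Perm (Fin 100)) (⟨0, by decide⟩ : Fin 100) = grp 100 L3o_E1 :=
  sims_level (gs := p_V222) rfl (by decide) L3o_0_fix L3o_0_dist (forall_lt_one L3o_0_step0)

theorem L3o_0_cardG : Nat.card (grp 100 L3o_G0) = 360 :=
  card_of_level p_hn L3o_G0_ok (by decide : 0 < 100) L3o_0_lev L3o_card1 (m := 15) (by decide +kernel)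

theorem p_le247 : grp 100 L3o_E0 ≤ grp 100 L3o_G0 :=
  grp_le_of_memB p_hn p_hk L3o_G0_ok L3o_E0_ok (ws := [nat_lit 1, nat_lit 514, nat_lit 0xf0904010104, nat_lit 3, nat_lit 5, nat_lit 7, nat_lit 9, nat_lit 11, nat_lit 13, nat_lit 15]) (by decide +kernel)

theorem p_le248 : grp 100 L3o_G0 ≤ grp 100 L3o_E0 :=
  grp_le_of_memB p_hn p_hk L3o_E0_ok L3o_G0_ok (ws := [nat_lit 1, nat_lit 7, nat_lit 9, nat_lit 11, nat_lit 13, nat_lit 15, nat_lit 17, nat_lit 19]) (by decide +kernel)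

theorem L3o_0_eq : grp 100 L3o_E0 = grp 100 L3o_G0 :=
  le_antisymm p_le247 p_le248

theorem L3o_card0 : Nat.card (grp 100 L3o_E0) = 360 :=
  by rw [L3o_0_eq]; exact L3o_0_cardG

theorem L3o_stab0 : grp 100 L3o_E0 ⊓ MulAction.stabilizer (Equiv.Perm (Fin 100)) (⟨0, by decide⟩ : Fin 100) = grp 100 L3o_E1 :=
  by rw [L3o_0_eq]; exact L3o_0_lev

theorem L3o_leO0 : grp 100 L3o_E0 ≤ grp 100 L3 :=
  L3o_0_eq.le.trans (grp_cons_le ((le_refl (grp 100 L3)) (p_le223 (toPerm_mem_grp (E := p_V222) (by simp [p_V222])))) L3o_leO1)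

theorem p_le249 : grp 100 L3 ≤ grp 100 L3o_E0 :=
  grp_le_of_memB p_hn p_hk L3o_E0_ok L3_ok (ws := [nat_lit 3, nat_lit 5]) (by decide +kernel)

theorem L3o_eq : grp 100 L3 = grp 100 L3o_E0 :=
  le_antisymm p_le249 L3o_leO0

theorem L3o_card : Nat.card (grp 100 L3) = 360 :=
  by rw [L3o_eq]; exact L3o_card0

noncomputable def L3o_ch : Ch := (Ch.cons (nat_lit 0) [nat_lit 1, nat_lit 3, nat_lit 5] (Ch.cons (nat_lit 12) [nat_lit 7, nat_lit 9, nat_lit 11] (Ch.cons (nat_lit 96) [nat_lit 13] (Ch.cons (nat_lit 1) [nat_lit 15, nat_lit 17, nat_lit 19] Ch.nil))))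

theorem L3o_exact : Ch.Exact 100 L3o_E0 L3o_ch (grp 100 L3o_E0) :=
  Ch.exact (k := 7) (L := (lab 100 7)) p_hn L3o_E0_ok (by decide +kernel) (wgrp_le_grp _ _ _) L3o_card0.le

theorem p_le250 : grp 100 L3 ≤ grp 100 HSM.lb_E :=
  grp_le_of_memB p_hn p_hk HSM.lb_E_ok L3_ok (ws := [nat_lit 0x140d100a0c06070111, nat_lit 0x140d0f120911090505020f]) (by decide +kernel)

theorem L3_G : grp 100 L3 ≤ (grp 100 HSM.E) :=
  (p_le250).trans HSM.lb_le

theorem L3_n : grp 100 EvHT.nt_c3_K ≤ Subgroup.normalizer (grp 100 L3 : Set (Equiv.Perm (Fin 100))) :=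
  EvG.le_norm p_hn p_hk EvHT.nt_c3_K_ok L3_ok L3o_E0_ok L3o_eq.ge (W := [[nat_lit 3332, nat_lit 0x13080105], [nat_lit 3844, nat_lit 0x130106], [nat_lit 0x13070105, nat_lit 1797], [nat_lit 853765, nat_lit 0x130d03], [nat_lit 0xf070206, nat_lit 6], [nat_lit 854022, nat_lit 852486], [nat_lit 459013, nat_lit 0x1307030a]]) (by decide +kernel)

theorem a3_le6 : grp 6 a3_V5 ≤ grp 6 A3_E :=
  grp_le_of_memB a3_hn a3_hk A3_E_ok a3_V5_ok (ws := [nat_lit 0x10104040204, nat_lit 0x2040402040104040204]) (by decide +kernel)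

theorem a3_le10 : grp 6 a3_V9 ≤ grp 6 a3_V5 :=
  grp_le_of_memB a3_hn a3_hk a3_V5_ok a3_V9_ok (ws := [nat_lit 0x401040101, nat_lit 0x101030101]) (by decide +kernel)

theorem a3_le14 : grp 6 a3_V13 ≤ grp 6 a3_V9 :=
  grp_le_of_memB a3_hn a3_hk a3_V9_ok a3_V13_ok (ws := [nat_lit 262660, nat_lit 0x2030202040401]) (by decide +kernel)

theorem A3_lb_le : grp 6 A3_lb_E ≤ grp 6 A3_E :=
  (grp_cons_le ((le_refl (grp 6 A3_E)) (toPerm_mem_grp (E := A3_E) (by simp [A3_E]))) (grp_cons_le ((le_refl (grp 6 A3_E)) (toPerm_mem_grp (E := A3_E) (by simp [A3_E]))) (grp_cons_le ((a3_le6.trans (le_refl (grp 6 A3_E))) (toPerm_mem_grp (E := a3_V5) (by simp [a3_V5]))) (grp_cons_le ((a3_le6.trans (le_refl (grp 6 A3_E))) (toPerm_mem_grp (E := a3_V5) (by simp [a3_V5]))) (grp_cons_le ((a3_le10.trans (a3_le6.trans (le_refl (grp 6 A3_E)))) (toPerm_mem_grp (E := a3_V9) (by simp [a3_V9]))) (grp_cons_le ((a3_le10.trans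 (a3_le6.trans (le_refl (grp 6 A3_E)))) (toPerm_mem_grp (E := a3_V9) (by simp [a3_V9]))) (grp_cons_le ((a3_le14.trans (a3_le10.trans (a3_le6.trans (le_refl (grp 6 A3_E))))) (toPerm_mem_grp (E := a3_V13) (by simp [a3_V13]))) (grp_cons_le ((a3_le14.trans (a3_le10.trans (a3_le6.trans (le_refl (grp 6 A3_E))))) (toPerm_mem_grp (E := a3_V13) (by simp [a3_V13]))) (grp_nil_le _)))))))))

noncomputable def A3_lb_ch : Ch := (Ch.cons (nat_lit 0) [nat_lit 1, nat_lit 3] (Ch.cons (nat_lit 1) [nat_lit 5, nat_lit 7] (Ch.cons (nat_lit 2) [nat_lit 9, nat_lit 11] (Ch.cons (nat_lit 3) [nat_lit 13, nat_lit 15] Ch.nil))))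

theorem A3_lb_chk : Ch.chk 6 3 (lab 6 3) A3_lb_E A3_lb_ch 360 = true :=
  by decide +kernel

theorem A3_lb_ge : 360 ≤ Nat.card (grp 6 A3_E) :=
  (Ch.le_card_grp a3_hn A3_lb_E_ok A3_lb_chk).trans (Subgroup.card_le_of_le A3_lb_le)

noncomputable def A3_M : List ℕ := [(nat_lit 48), (nat_lit 0), (nat_lit 0), (nat_lit 0), (nat_lit 0), (nat_lit 0), (nat_lit 0), (nat_lit 0), (nat_lit 0), (nat_lit 0), (nat_lit 0), (nat_lit 0), (nat_lit 0), (nat_lit 0), (nat_lit 12), (nat_lit 0), (nat_lit 0), (nat_lit 0), (nat_lit 0), (nat_lit 0), (nat_lit 0), (nat_lit 10), (nat_lit 0), (nat_lit 0), (nat_lit 0), (nat_lit 0), (nat_lit 0), (nat_lit 0), (nat_lit 0), (nat_lit 0), (nat_lit 0), (nat_lit 0), (nat_lit 0), (nat_lit 0), (nat_lit 0), (nat_lit 40), (nat_lit 0), (nat_lit 0), (nat_lit 36), (nat_lit 0), (nat_lit 0), (nat_lit 0), (nat_lit 0), (nat_lit 5), (nat_lit 0), (nat_lit 0), (nat_lit 0), (nat_lit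 0), (nat_lit 0), (nat_lit 0), (nat_lit 0), (nat_lit 9), (nat_lit 0), (nat_lit 0), (nat_lit 0), (nat_lit 0), (nat_lit 0), (nat_lit 0), (nat_lit 0), (nat_lit 0), (nat_lit 0), (nat_lit 0), (nat_lit 0), (nat_lit 3), (nat_lit 0), (nat_lit 0), (nat_lit 0), (nat_lit 0), (nat_lit 0), (nat_lit 0), (nat_lit 0), (nat_lit 0), (nat_lit 0), (nat_lit 34), (nat_lit 0), (nat_lit 6), (nat_lit 0), (nat_lit 18), (nat_lit 17), (nat_lit 0), (nat_lit 0), (nat_lit 0), (nat_lit 0), (nat_lit 20), (nat_lit 0), (nat_lit 24), (nat_lit 0), (nat_lit 0), (nat_lit 0), (nat_lit 0), (nat_lit 0), (nat_lit 33), (nat_lit 0), (nat_lit 0), (nat_lit 0), (nat_lit 0), (nat_lit 0), (nat_lit 0), (nat_lit 0), (nat_lit 0)]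

theorem A3_inj : Function.Injective (cols 100 6 (nthN A3_M)) :=
  cols_injective (by decide +kernel)

theorem A3_acts : List.Forall₂ (fun o o' => Acts (cols 100 6 (nthN A3_M)) (Net.toPerm 100 o) (Net.toPerm 6 o')) L3 A3_E :=
  (List.Forall₂.cons (inc_of_incB p_g219_ok a3_g1_ok (allN_iff.1 (by decide +kernel))).acts_cols (List.Forall₂.cons (inc_of_incB p_g220_ok a3_g2_ok (allN_iff.1 (by decide +kernel))).acts_cols List.Forall₂.nil))

theorem A3 : Nonempty (grp 100 L3 ≃* alternatingGroup (Fin 6)) :=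
  by
  obtain ⟨ρ, -, h⟩ := exists_hom_grp A3_inj A3_acts
  exact EvG.equiv_alt (by norm_num) ρ (by rw [L3o_card]; decide) (by rw [h, L3o_card]; exact A3_lb_ge)

theorem p_le252 : grp 100 Y3 ≤ grp 100 EvHT.lb_E :=
  grp_le_of_memB p_hn p_hk EvHT.lb_E_ok Y3_ok (ws := [nat_lit 0x2f251a13180f0f0e0818020217, nat_lit 0x311f13180f0f0b220a0b]) (by decide +kernel)

theorem Y3_le : grp 100 Y3 ≤ (grp 100 EvHT.EG) :=
  (p_le252.trans U_s0.le)

theorem Y3_sym : Sym 100 (grp 100 EvHT.EG) L3 Y3 0 :=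
  Sym.of_lab p_hn p_hk L3_ok Y3_ok Y3_le (kT := 0) (by decide +kernel)

noncomputable def U_s7_O : ℕ := (nat_lit 0x80000000000000000000000004000000000000000000000000200000000000000000000000008000000000000000000000000100000000000000000000000000100000000000000000000000000100000000000000000000000000200000000000000000000000010000000000000000000000000800000000000000000000000010000000000000000000000000200000000000000000000000001000000000000000000000000080000000000000000000000000004000000000000000000000000040000000000000000000000002000000000000000000000000010000000000000000000000000800000000000000000000000040000000000000000000000000400000000000000000000000000080000000000000000000000001000100400000000000000000000002004000000000000000000000008100000000000000000000008008000000000000000000200000080000000000000000000000006000000000000000000001000040000000000000000000000008008000000000000000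0008000002000000000000010000000000040000000000000002000000002000000000000000000000000180000000000000000040000004000000000000040000000000020000000000000000000010001000000000000002000000000020000000000000000002000000800000000000000000004000008000000000000000000000400020000004000000000000000001000000000000000000000800080000000000000000002000002000000000000000000000000180000800000000000000000004000000000020000000000000200000000000000000080000008000000000000000000000001400000000200000000000000020000000000000000001000001000000400000000000000000040000000000040000000000002000000000000000000040000080000000000080000000000004000000000004000000000000200000000000000000000000001000000000000000000000000200000000000000000000000040000000000000000000000008000000000000000002000000000000000000000001000000000000000000000100000000000)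

theorem U_s7_F : Frame 100 (grp 100 EvHT.EG) 7 64 U_s7_O 0 1 :=
  Stab.frame p_hn U_s7 (by decide +kernel)

noncomputable def Y3_cnt_L : List ℕ := [1, 2, U_s1_O, 0, 0, 7, 64, U_s7_O, 0, 0, 8, 12, U_s8_O, 1, 0]

theorem Y3_cnt_P : Prob 100 7 (grp 100 EvHT.EG) Y3_cnt_EG L3 L3 Y3 Y3_cnt_L 0 0 :=
  Sym.prob p_hn p_hk Y3_sym Y3_cnt_EG_ok (grp_cons_le MpHS.a_U (grp_cons_le HSM.g1_U (grp_cons_le HSM.g2_U (grp_cons_le EvHT.t_g1_U (grp_cons_le EvHT.t_g2_U (grp_cons_le EvHT.t_g5_U (grp_cons_le EvHT.t_g6_U (grp_cons_le EvHT.t_g9_U (grp_cons_le EvHT.t_g10_U (grp_cons_le EvHT.t_g13_U (grp_cons_le EvHT.t_g14_U (grp_cons_le EvHT.t_g15_U (grp_cons_le EvHT.t_g18_U (grp_cons_le EvHT.t_g19_U (grp_cons_le EvHT.t_g20_U (grp_cons_le EvHT.t_g23_U (grp_cons_le EvHT.t_g24_U (grp_cons_le EvHT.t_g25_U (grp_cons_le EvHT.t_g28_U (grp_cons_le EvHT.t_g29_U (grp_cons_le EvHT.t_g30_U (grp_cons_le EvHT.t_g31_U (grp_cons_le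 EvHT.t_g34_U (grp_cons_le p_g118_U (grp_nil_le _))))))))))))))))))))))))) (Frames.cons U_s1_F (Frames.cons U_s7_F (Frames.cons U_s8_F Frames.nil))) L3_ok _

noncomputable def Y3_cnt_t : BT := (BT.br (nat_lit 2) (nat_lit 0) [nat_lit 1, nat_lit 3] (BT.dead (nat_lit 4) (BT.frm (nat_lit 0) (nat_lit 0) (nat_lit 1283) [nat_lit 0] (BT.pln (nat_lit 0) (nat_lit 1) (BT.img (nat_lit 3) (nat_lit 2) (BT.img (nat_lit 3) (nat_lit 0) (BT.img (nat_lit 3) (nat_lit 0) (BT.img (nat_lit 3) (nat_lit 0) (BT.img (nat_lit 1) (nat_lit 0) (BT.img (nat_lit 3) (nat_lit 0) (BT.img (nat_lit 3) (nat_lit 0) (BT.img (nat_lit 3) (nat_lit 0) (BT.img (nat_lit 1) (nat_lit 0) (BT.and (nat_lit 9) (nat_lit 0) (BT.cnt (nat_lit 0)))))))))))))) (BT.dead (nat_lit 1) (BT.frm (nat_lit 0) (nat_lit 0) (nat_lit 265) [nat_lit 0] (BT.pln (nat_lit 0) (nat_lit 1) (BT.img (nat_lit 1) (nat_lit 0) (BT.img (nat_lit 3) (nat_lit 3) (BT.img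 (nat_lit 3) (nat_lit 0) (BT.img (nat_lit 3) (nat_lit 0) (BT.img (nat_lit 3) (nat_lit 0) (BT.img (nat_lit 1) (nat_lit 0) (BT.img (nat_lit 3) (nat_lit 0) (BT.and (nat_lit 6) (nat_lit 0) (BT.cnt (nat_lit 0)))))))))))) (BT.dead (nat_lit 68) (BT.img (nat_lit 3) (nat_lit 0) (BT.img (nat_lit 3) (nat_lit 0) (BT.img (nat_lit 3) (nat_lit 0) (BT.img (nat_lit 3) (nat_lit 0) (BT.img (nat_lit 1) (nat_lit 0) (BT.img (nat_lit 3) (nat_lit 0) (BT.img (nat_lit 3) (nat_lit 0) (BT.img (nat_lit 3) (nat_lit 0) (BT.img (nat_lit 1) (nat_lit 0) (BT.and (nat_lit 0) (nat_lit 3) (BT.cnt (nat_lit 0)))))))))))) (BT.dead (nat_lit 37) (BT.img (nat_lit 3) (nat_lit 0) (BT.img (nat_lit 3) (nat_lit 0) (BT.img (nat_lit 3) (nat_lit 0) (BT.img (nat_lit 3) (nat_lit 0) (BT.img (nat_lit 1) (nat_lit 0) (BT.img (nat_lit 3) (nat_lit 0) (BT.img (nat_lit 3) (nat_lit 0) (BT.img (nat_lit 3) (nat_lit 0) (BT.img (nat_lit 1) (nat_lit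 0) (BT.and (nat_lit 0) (nat_lit 5) (BT.cnt (nat_lit 0)))))))))))) (BT.dead (nat_lit 25) (BT.img (nat_lit 3) (nat_lit 0) (BT.img (nat_lit 3) (nat_lit 0) (BT.img (nat_lit 3) (nat_lit 0) (BT.img (nat_lit 3) (nat_lit 0) (BT.img (nat_lit 1) (nat_lit 0) (BT.img (nat_lit 3) (nat_lit 0) (BT.img (nat_lit 3) (nat_lit 0) (BT.img (nat_lit 3) (nat_lit 0) (BT.img (nat_lit 1) (nat_lit 0) (BT.and (nat_lit 0) (nat_lit 7) (BT.cnt (nat_lit 0)))))))))))) (BT.dead (nat_lit 51) (BT.img (nat_lit 3) (nat_lit 0) (BT.img (nat_lit 3) (nat_lit 0) (BT.img (nat_lit 3) (nat_lit 0) (BT.img (nat_lit 3) (nat_lit 0) (BT.img (nat_lit 1) (nat_lit 0) (BT.img (nat_lit 3) (nat_lit 0) (BT.img (nat_lit 3) (nat_lit 0) (BT.img (nat_lit 1) (nat_lit 6) (BT.and (nat_lit 1) (nat_lit 0) (BT.cnt (nat_lit 0))))))))))) (BT.dead (nat_lit 45) (BT.img (nat_lit 3) (nat_lit 0) (BT.img (nat_lit 3) (nat_lit 0) (BT.img (nat_lit 3) (nat_lit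 0) (BT.img (nat_lit 3) (nat_lit 0) (BT.img (nat_lit 1) (nat_lit 0) (BT.img (nat_lit 3) (nat_lit 0) (BT.img (nat_lit 3) (nat_lit 0) (BT.img (nat_lit 1) (nat_lit 7) (BT.and (nat_lit 1) (nat_lit 0) (BT.cnt (nat_lit 0))))))))))) (BT.dead (nat_lit 24) (BT.img (nat_lit 3) (nat_lit 0) (BT.img (nat_lit 3) (nat_lit 0) (BT.img (nat_lit 3) (nat_lit 0) (BT.img (nat_lit 3) (nat_lit 0) (BT.img (nat_lit 1) (nat_lit 0) (BT.img (nat_lit 3) (nat_lit 0) (BT.img (nat_lit 3) (nat_lit 0) (BT.img (nat_lit 1) (nat_lit 7) (BT.and (nat_lit 1) (nat_lit 0) (BT.cnt (nat_lit 0))))))))))) (BT.dead (nat_lit 20) (BT.img (nat_lit 3) (nat_lit 0) (BT.img (nat_lit 3) (nat_lit 0) (BT.img (nat_lit 3) (nat_lit 0) (BT.img (nat_lit 1) (nat_lit 0) (BT.img (nat_lit 3) (nat_lit 0) (BT.img (nat_lit 3) (nat_lit 2) (BT.img (nat_lit 1) (nat_lit 0) (BT.img (nat_lit 1) (nat_lit 0) (BT.and (nat_lit 3) (nat_lit 0) (BT.cnt (nat_lit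 0))))))))))) (BT.dead (nat_lit 12) (BT.img (nat_lit 3) (nat_lit 0) (BT.img (nat_lit 3) (nat_lit 0) (BT.img (nat_lit 3) (nat_lit 0) (BT.img (nat_lit 3) (nat_lit 0) (BT.img (nat_lit 1) (nat_lit 0) (BT.img (nat_lit 3) (nat_lit 0) (BT.img (nat_lit 3) (nat_lit 0) (BT.img (nat_lit 1) (nat_lit 7) (BT.and (nat_lit 1) (nat_lit 0) (BT.cnt (nat_lit 0))))))))))) (BT.dead (nat_lit 9) (BT.img (nat_lit 3) (nat_lit 0) (BT.img (nat_lit 3) (nat_lit 0) (BT.img (nat_lit 3) (nat_lit 0) (BT.img (nat_lit 3) (nat_lit 0) (BT.img (nat_lit 1) (nat_lit 0) (BT.img (nat_lit 3) (nat_lit 0) (BT.img (nat_lit 3) (nat_lit 0) (BT.img (nat_lit 1) (nat_lit 4) (BT.and (nat_lit 1) (nat_lit 0) (BT.cnt (nat_lit 0))))))))))) (BT.dead (nat_lit 3) (BT.img (nat_lit 3) (nat_lit 0) (BT.img (nat_lit 3) (nat_lit 0) (BT.img (nat_lit 3) (nat_lit 0) (BT.img (nat_lit 3) (nat_lit 0) (BT.img (nat_lit 1) (nat_lit 0) (BT.img (nat_lit 3)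 (nat_lit 0) (BT.img (nat_lit 3) (nat_lit 0) (BT.img (nat_lit 1) (nat_lit 4) (BT.and (nat_lit 1) (nat_lit 0) (BT.cnt (nat_lit 0))))))))))) (BT.dead (nat_lit 75) (BT.img (nat_lit 3) (nat_lit 0) (BT.img (nat_lit 3) (nat_lit 0) (BT.img (nat_lit 3) (nat_lit 0) (BT.img (nat_lit 3) (nat_lit 0) (BT.img (nat_lit 1) (nat_lit 0) (BT.img (nat_lit 3) (nat_lit 0) (BT.img (nat_lit 1) (nat_lit 5) (BT.and (nat_lit 1) (nat_lit 0) (BT.cnt (nat_lit 0)))))))))) (BT.dead (nat_lit 66) (BT.img (nat_lit 3) (nat_lit 0) (BT.img (nat_lit 3) (nat_lit 0) (BT.img (nat_lit 3) (nat_lit 0) (BT.img (nat_lit 3) (nat_lit 0) (BT.img (nat_lit 1) (nat_lit 0) (BT.img (nat_lit 3) (nat_lit 0) (BT.img (nat_lit 1) (nat_lit 5) (BT.and (nat_lit 1) (nat_lit 0) (BT.cnt (nat_lit 0)))))))))) (BT.dead (nat_lit 63) (BT.img (nat_lit 3) (nat_lit 0) (BT.img (nat_lit 3) (nat_lit 0) (BT.img (nat_lit 3) (nat_lit 0) (BT.img (nat_lit 1) (nat_lit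 0) (BT.img (nat_lit 3) (nat_lit 0) (BT.img (nat_lit 3) (nat_lit 2) (BT.img (nat_lit 1) (nat_lit 0) (BT.and (nat_lit 2) (nat_lit 0) (BT.cnt (nat_lit 0)))))))))) (BT.dead (nat_lit 48) (BT.img (nat_lit 3) (nat_lit 0) (BT.img (nat_lit 3) (nat_lit 0) (BT.img (nat_lit 3) (nat_lit 0) (BT.img (nat_lit 3) (nat_lit 0) (BT.img (nat_lit 1) (nat_lit 0) (BT.img (nat_lit 3) (nat_lit 0) (BT.img (nat_lit 1) (nat_lit 6) (BT.and (nat_lit 1) (nat_lit 0) (BT.cnt (nat_lit 0)))))))))) (BT.dead (nat_lit 43) (BT.img (nat_lit 3) (nat_lit 0) (BT.img (nat_lit 3) (nat_lit 0) (BT.img (nat_lit 3) (nat_lit 0) (BT.img (nat_lit 3) (nat_lit 0) (BT.img (nat_lit 1) (nat_lit 0) (BT.img (nat_lit 3) (nat_lit 0) (BT.img (nat_lit 1) (nat_lit 6) (BT.and (nat_lit 1) (nat_lit 0) (BT.cnt (nat_lit 0)))))))))) (BT.dead (nat_lit 17) (BT.img (nat_lit 3) (nat_lit 0) (BT.img (nat_lit 3) (nat_lit 0) (BT.img (nat_lit 3) (nat_lit 0)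 (BT.img (nat_lit 3) (nat_lit 0) (BT.img (nat_lit 1) (nat_lit 0) (BT.img (nat_lit 3) (nat_lit 0) (BT.img (nat_lit 1) (nat_lit 5) (BT.and (nat_lit 1) (nat_lit 0) (BT.cnt (nat_lit 0)))))))))) (BT.dead (nat_lit 8) (BT.img (nat_lit 3) (nat_lit 0) (BT.img (nat_lit 3) (nat_lit 0) (BT.img (nat_lit 3) (nat_lit 0) (BT.img (nat_lit 3) (nat_lit 0) (BT.img (nat_lit 1) (nat_lit 0) (BT.img (nat_lit 3) (nat_lit 0) (BT.img (nat_lit 1) (nat_lit 3) (BT.and (nat_lit 1) (nat_lit 0) (BT.cnt (nat_lit 0)))))))))) (BT.dead (nat_lit 52) (BT.img (nat_lit 3) (nat_lit 0) (BT.img (nat_lit 3) (nat_lit 0) (BT.img (nat_lit 3) (nat_lit 0) (BT.img (nat_lit 3) (nat_lit 0) (BT.img (nat_lit 1) (nat_lit 0) (BT.img (nat_lit 1) (nat_lit 0) (BT.and (nat_lit 0) (nat_lit 4) (BT.cnt (nat_lit 0))))))))) (BT.dead (nat_lit 49) (BT.img (nat_lit 3) (nat_lit 0) (BT.img (nat_lit 3) (nat_lit 0) (BT.img (nat_lit 3) (nat_lit 0) (BT.img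 (nat_lit 3) (nat_lit 0) (BT.img (nat_lit 1) (nat_lit 0) (BT.img (nat_lit 1) (nat_lit 0) (BT.and (nat_lit 0) (nat_lit 4) (BT.cnt (nat_lit 0))))))))) (BT.dead (nat_lit 46) (BT.img (nat_lit 3) (nat_lit 0) (BT.img (nat_lit 3) (nat_lit 0) (BT.img (nat_lit 3) (nat_lit 0) (BT.img (nat_lit 3) (nat_lit 0) (BT.img (nat_lit 1) (nat_lit 0) (BT.img (nat_lit 1) (nat_lit 0) (BT.and (nat_lit 0) (nat_lit 3) (BT.cnt (nat_lit 0))))))))) (BT.dead (nat_lit 44) (BT.img (nat_lit 3) (nat_lit 0) (BT.img (nat_lit 3) (nat_lit 0) (BT.img (nat_lit 3) (nat_lit 0) (BT.img (nat_lit 3) (nat_lit 0) (BT.img (nat_lit 1) (nat_lit 0) (BT.img (nat_lit 1) (nat_lit 0) (BT.and (nat_lit 0) (nat_lit 5) (BT.cnt (nat_lit 0))))))))) (BT.dead (nat_lit 42) (BT.img (nat_lit 3) (nat_lit 0) (BT.img (nat_lit 3) (nat_lit 0) (BT.img (nat_lit 3) (nat_lit 0) (BT.img (nat_lit 1) (nat_lit 0) (BT.img (nat_lit 3) (nat_lit 0) (BT.img (nat_lit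 1) (nat_lit 5) (BT.and (nat_lit 1) (nat_lit 0) (BT.cnt (nat_lit 0))))))))) (BT.dead (nat_lit 36) (BT.img (nat_lit 3) (nat_lit 0) (BT.img (nat_lit 3) (nat_lit 0) (BT.img (nat_lit 3) (nat_lit 0) (BT.img (nat_lit 3) (nat_lit 0) (BT.img (nat_lit 1) (nat_lit 0) (BT.img (nat_lit 1) (nat_lit 0) (BT.and (nat_lit 0) (nat_lit 5) (BT.cnt (nat_lit 0))))))))) (BT.dead (nat_lit 33) (BT.img (nat_lit 3) (nat_lit 0) (BT.img (nat_lit 3) (nat_lit 0) (BT.img (nat_lit 3) (nat_lit 0) (BT.img (nat_lit 1) (nat_lit 0) (BT.img (nat_lit 3) (nat_lit 0) (BT.img (nat_lit 1) (nat_lit 4) (BT.and (nat_lit 1) (nat_lit 0) (BT.cnt (nat_lit 0))))))))) (BT.dead (nat_lit 23) (BT.img (nat_lit 3) (nat_lit 0) (BT.img (nat_lit 3) (nat_lit 0) (BT.img (nat_lit 3) (nat_lit 0) (BT.img (nat_lit 3) (nat_lit 0) (BT.img (nat_lit 1) (nat_lit 0) (BT.img (nat_lit 1) (nat_lit 0) (BT.and (nat_lit 0) (nat_lit 3) (BT.cnt (nat_lit 0)))))))))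 (BT.dead (nat_lit 21) (BT.img (nat_lit 3) (nat_lit 0) (BT.img (nat_lit 3) (nat_lit 0) (BT.img (nat_lit 3) (nat_lit 0) (BT.img (nat_lit 3) (nat_lit 0) (BT.img (nat_lit 1) (nat_lit 0) (BT.img (nat_lit 1) (nat_lit 0) (BT.and (nat_lit 0) (nat_lit 4) (BT.cnt (nat_lit 0))))))))) (BT.dead (nat_lit 11) (BT.img (nat_lit 3) (nat_lit 0) (BT.img (nat_lit 3) (nat_lit 0) (BT.img (nat_lit 3) (nat_lit 0) (BT.img (nat_lit 3) (nat_lit 0) (BT.img (nat_lit 1) (nat_lit 0) (BT.img (nat_lit 1) (nat_lit 0) (BT.and (nat_lit 0) (nat_lit 4) (BT.cnt (nat_lit 0))))))))) (BT.dead (nat_lit 10) (BT.img (nat_lit 3) (nat_lit 0) (BT.img (nat_lit 3) (nat_lit 0) (BT.img (nat_lit 3) (nat_lit 0) (BT.img (nat_lit 3) (nat_lit 0) (BT.img (nat_lit 1) (nat_lit 0) (BT.img (nat_lit 1) (nat_lit 0) (BT.and (nat_lit 0) (nat_lit 4) (BT.cnt (nat_lit 0))))))))) (BT.dead (nat_lit 7) (BT.img (nat_lit 3) (nat_lit 0) (BT.img (nat_lit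 3) (nat_lit 0) (BT.img (nat_lit 3) (nat_lit 0) (BT.img (nat_lit 3) (nat_lit 0) (BT.img (nat_lit 1) (nat_lit 0) (BT.img (nat_lit 1) (nat_lit 0) (BT.and (nat_lit 0) (nat_lit 4) (BT.cnt (nat_lit 0))))))))) (BT.dead (nat_lit 79) (BT.img (nat_lit 3) (nat_lit 0) (BT.img (nat_lit 3) (nat_lit 0) (BT.img (nat_lit 3) (nat_lit 0) (BT.img (nat_lit 3) (nat_lit 0) (BT.img (nat_lit 1) (nat_lit 0) (BT.and (nat_lit 0) (nat_lit 3) (BT.cnt (nat_lit 0)))))))) (BT.dead (nat_lit 28) (BT.img (nat_lit 3) (nat_lit 0) (BT.img (nat_lit 3) (nat_lit 0) (BT.img (nat_lit 3) (nat_lit 0) (BT.img (nat_lit 3) (nat_lit 0) (BT.img (nat_lit 1) (nat_lit 3) (BT.and (nat_lit 1) (nat_lit 0) (BT.cnt (nat_lit 0)))))))) (BT.dead (nat_lit 6) (BT.img (nat_lit 3) (nat_lit 0) (BT.img (nat_lit 3) (nat_lit 0) (BT.img (nat_lit 3) (nat_lit 0) (BT.img (nat_lit 3) (nat_lit 0) (BT.img (nat_lit 1) (nat_lit 3) (BT.and (nat_lit 1) (nat_lit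 0) (BT.cnt (nat_lit 0)))))))) (BT.dead (nat_lit 2) (BT.img (nat_lit 3) (nat_lit 0) (BT.img (nat_lit 3) (nat_lit 0) (BT.img (nat_lit 3) (nat_lit 0) (BT.img (nat_lit 3) (nat_lit 0) (BT.img (nat_lit 1) (nat_lit 0) (BT.and (nat_lit 0) (nat_lit 3) (BT.cnt (nat_lit 0)))))))) (BT.dead (nat_lit 73) (BT.img (nat_lit 3) (nat_lit 0) (BT.img (nat_lit 3) (nat_lit 0) (BT.img (nat_lit 3) (nat_lit 0) (BT.img (nat_lit 1) (nat_lit 0) (BT.and (nat_lit 0) (nat_lit 3) (BT.cnt (nat_lit 0))))))) (BT.dead (nat_lit 38) (BT.img (nat_lit 3) (nat_lit 0) (BT.img (nat_lit 3) (nat_lit 0) (BT.img (nat_lit 3) (nat_lit 0) (BT.img (nat_lit 1) (nat_lit 3) (BT.and (nat_lit 1) (nat_lit 0) (BT.cnt (nat_lit 0))))))) (BT.dead (nat_lit 27) (BT.img (nat_lit 3) (nat_lit 0) (BT.img (nat_lit 3) (nat_lit 0) (BT.img (nat_lit 3) (nat_lit 0) (BT.img (nat_lit 1) (nat_lit 3) (BT.and (nat_lit 1) (nat_lit 0) (BT.cnt (nat_lit 0)))))))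 (BT.dead (nat_lit 13) (BT.img (nat_lit 3) (nat_lit 0) (BT.img (nat_lit 3) (nat_lit 0) (BT.img (nat_lit 3) (nat_lit 0) (BT.img (nat_lit 1) (nat_lit 0) (BT.and (nat_lit 0) (nat_lit 3) (BT.cnt (nat_lit 0))))))) (BT.kid (nat_lit 0) (nat_lit 2) (BT.frm (nat_lit 0) (nat_lit 0) (nat_lit 0) [nat_lit 0] (BT.pln (nat_lit 0) (nat_lit 1) (BT.dif (nat_lit 5) (nat_lit 0) (BT.img (nat_lit 1) (nat_lit 1) (BT.dif (nat_lit 1) (nat_lit 0) (BT.img (nat_lit 3) (nat_lit 3) (BT.dif (nat_lit 1) (nat_lit 0) (BT.img (nat_lit 3) (nat_lit 7) (BT.img (nat_lit 1) (nat_lit 0) (BT.img (nat_lit 3) (nat_lit 1) (BT.img (nat_lit 3) (nat_lit 0) (BT.img (nat_lit 3) (nat_lit 0) (BT.img (nat_lit 1) (nat_lit 0) (BT.img (nat_lit 1) (nat_lit 0) (BT.img (nat_lit 1) (nat_lit 3) (BT.and (nat_lit 13) (nat_lit 11) (BT.dif (nat_lit 0) (nat_lit 10) (BT.and (nat_lit 13) (nat_lit 11) (BT.dif (nat_lit 0) (nat_lit 16) (BT.img (nat_lit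 3) (nat_lit 0) (BT.and (nat_lit 3) (nat_lit 0) (BT.dif (nat_lit 19) (nat_lit 17) (BT.img (nat_lit 1) (nat_lit 3) (BT.and (nat_lit 1) (nat_lit 0) (BT.frm (nat_lit 1) (nat_lit 0x251318100c070d) (nat_lit 0x251318100c070d) [nat_lit 15, nat_lit 10, nat_lit 11, nat_lit 9, nat_lit 3, nat_lit 0, nat_lit 24] (BT.pln (nat_lit 0) (nat_lit 16) (BT.and (nat_lit 19) (nat_lit 0) (BT.br (nat_lit 0) (nat_lit 97) [nat_lit 3] (BT.kid (nat_lit 97) (nat_lit 1) (BT.one (nat_lit 2) (nat_lit 0x2f251318100c070d) (nat_lit 0x2f251318100c070d) [nat_lit 0, nat_lit 19, nat_lit 14, nat_lit 15, nat_lit 13, nat_lit 7, nat_lit 4, nat_lit 28]) BT.nil))))))))))))))))))))))))))))) BT.nil)))))))))))))))))))))))))))))))))))))))))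

theorem Y3_cnt : Cnt 100 (grp 100 EvHT.EG) L3 L3 0 0 0 0 4 :=
  BT.sound Y3_cnt_P Known.nil (t := Y3_cnt_t) (d := 0) (by decide +kernel)

theorem Y3_ge : 4 ≤ Nat.card (grp 100 Y3) :=
  Ch.le_card_grp (k := 7) (L := (lab 100 7)) p_hn Y3_ok (c := (Ch.cons (nat_lit 0) [nat_lit 1] (Ch.cons (nat_lit 97) [nat_lit 3] Ch.nil))) (by decide +kernel)

theorem Y3_eq : (grp 100 EvHT.EG) ⊓ Subgroup.centralizer (grp 100 L3 : Set (Equiv.Perm (Fin 100))) = grp 100 Y3 :=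
  cent_grp_eq Y3_sym Y3_cnt Y3_ge

theorem Y3_card : Nat.card (grp 100 Y3) = 4 :=
  (Y3_sym.mem_iff Y3_cnt Y3_ge).1

theorem cmp3 : EvG.Cmp (grp 100 HSM.E) (grp 100 EvHT.EG) (Net.toPerm 100 EvHT.t_g77) (grp 100 L3) (grp 100 Y3) :=
  ⟨EvHT.nt_c3_mem, EvG.sq_net p_hn p_hk (by decide +kernel), L3_G, EvG.le_cent p_hn p_hk (by decide +kernel),
    EvHT.nt_c3_eq.le.trans L3_n, ⟨4, by rw [EvHT.nt_c3_card, L3o_card]; norm_num⟩, EvG.simple_of_alt (by norm_num) A3,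
    EvG.nab_of (toPerm_mem_grp (E := L3) (List.Mem.head _)) (toPerm_mem_grp (E := L3) (List.Mem.tail _ (List.Mem.head _))) (EvG.ncomm_net (k := 7) p_hn (by decide +kernel)),
    fun _ hy _ h => Y3_eq.le ⟨hy, fun x hx => (h x hx).symm⟩⟩

theorem V3_s0 : Stab 100 (grp 100 L3) [] L3o_E0 360 :=
  Stab.root' L3o_E0_ok L3o_eq L3o_card

theorem p_le255 : grp 100 lt3_c1_K ≤ grp 100 L3o_E0 :=
  grp_le_of_memB p_hn p_hk L3o_E0_ok lt3_c1_K_ok (ws := [nat_lit 4877, nat_lit 17, nat_lit 4365]) (by decide +kernel)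

theorem lt3_c1_le : grp 100 lt3_c1_K ≤ (grp 100 L3) :=
  (p_le255.trans V3_s0.le)

theorem lt3_c1_mem : Net.toPerm 100 EvHT.t_g84 ∈ (grp 100 L3) :=
  lt3_c1_le (toPerm_mem_grp (E := lt3_c1_K) (List.Mem.tail _ (List.Mem.head _)))

theorem lt3_c1_sym : Sym 100 (grp 100 L3) [EvHT.t_g84] lt3_c1_K 0 :=
  Sym.of_lab p_hn p_hk (okE_cons.2 ⟨EvHT.t_g84_ok, okE_nil _⟩) lt3_c1_K_ok lt3_c1_le (kT := 0) (by decide +kernel)

theorem V3_s1 : Stab 100 (grp 100 L3) [nat_lit 0] p_V256 24 :=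
  Stab.step (k := 7) (L := (lab 100 7)) p_hn V3_s0 p_V256_ok (grp_mono (List.subset_append_right [p_g221, p_g219, p_g220] _)) (c := (Ch.cons (nat_lit 12) [nat_lit 1, nat_lit 3, nat_lit 5] (Ch.cons (nat_lit 96) [nat_lit 7] (Ch.cons (nat_lit 1) [nat_lit 9, nat_lit 11, nat_lit 13] Ch.nil)))) (by decide +kernel)

theorem V3_s2 : Stab 100 (grp 100 L3) [nat_lit 12, nat_lit 0] p_V257 8 :=
  Stab.step (k := 7) (L := (lab 100 7)) p_hn V3_s1 p_V257_ok (grp_mono (List.subset_append_right [p_g228, p_g224, p_g225] _)) (c := (Ch.cons (nat_lit 96) [nat_lit 1] (Ch.cons (nat_lit 1) [nat_lit 3, nat_lit 5, nat_lit 7] Ch.nil))) (by decide +kernel)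

theorem V3_s3 : Stab 100 (grp 100 L3) [nat_lit 96, nat_lit 12, nat_lit 0] p_V258 4 :=
  Stab.step (k := 7) (L := (lab 100 7)) p_hn V3_s2 p_V258_ok (grp_mono (List.subset_append_right [p_g232] _)) (c := (Ch.cons (nat_lit 1) [nat_lit 1, nat_lit 3, nat_lit 5] Ch.nil)) (by decide +kernel)

theorem V3_s4 : Stab 100 (grp 100 L3) [nat_lit 1, nat_lit 96, nat_lit 12, nat_lit 0] p_V259 1 :=
  Stab.step (k := 7) (L := (lab 100 7)) p_hn V3_s3 p_V259_ok (grp_mono (List.subset_append_right [EvHT.t_g82, EvHT.t_g84, p_g231] _)) (c := Ch.nil) (by decide +kernel)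

theorem p_g221_V3 : Net.toPerm 100 p_g221 ∈ (grp 100 L3) :=
  V3_s0.le (toPerm_mem_grp (E := L3o_E0) (List.Mem.head _))

theorem p_g219_V3 : Net.toPerm 100 p_g219 ∈ (grp 100 L3) :=
  V3_s0.le (toPerm_mem_grp (E := L3o_E0) (List.Mem.tail _ (List.Mem.head _)))

theorem p_g220_V3 : Net.toPerm 100 p_g220 ∈ (grp 100 L3) :=
  V3_s0.le (toPerm_mem_grp (E := L3o_E0) (List.Mem.tail _ (List.Mem.tail _ (List.Mem.head _))))

theorem p_g228_V3 : Net.toPerm 100 p_g228 ∈ (grp 100 L3) :=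
  V3_s0.le (toPerm_mem_grp (E := L3o_E0) (List.Mem.tail _ (List.Mem.tail _ (List.Mem.tail _ (List.Mem.head _)))))

theorem p_g224_V3 : Net.toPerm 100 p_g224 ∈ (grp 100 L3) :=
  V3_s0.le (toPerm_mem_grp (E := L3o_E0) (List.Mem.tail _ (List.Mem.tail _ (List.Mem.tail _ (List.Mem.tail _ (List.Mem.head _))))))

theorem p_g225_V3 : Net.toPerm 100 p_g225 ∈ (grp 100 L3) :=
  V3_s0.le (toPerm_mem_grp (E := L3o_E0) (List.Mem.tail _ (List.Mem.tail _ (List.Mem.tail _ (List.Mem.tail _ (List.Mem.tail _ (List.Mem.head _)))))))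

theorem p_g232_V3 : Net.toPerm 100 p_g232 ∈ (grp 100 L3) :=
  V3_s0.le (toPerm_mem_grp (E := L3o_E0) (List.Mem.tail _ (List.Mem.tail _ (List.Mem.tail _ (List.Mem.tail _ (List.Mem.tail _ (List.Mem.tail _ (List.Mem.head _))))))))

theorem EvHT.t_g82_V3 : Net.toPerm 100 EvHT.t_g82 ∈ (grp 100 L3) :=
  V3_s0.le (toPerm_mem_grp (E := L3o_E0) (List.Mem.tail _ (List.Mem.tail _ (List.Mem.tail _ (List.Mem.tail _ (List.Mem.tail _ (List.Mem.tail _ (List.Mem.tail _ (List.Mem.head _)))))))))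

theorem EvHT.t_g84_V3 : Net.toPerm 100 EvHT.t_g84 ∈ (grp 100 L3) :=
  V3_s0.le (toPerm_mem_grp (E := L3o_E0) (List.Mem.tail _ (List.Mem.tail _ (List.Mem.tail _ (List.Mem.tail _ (List.Mem.tail _ (List.Mem.tail _ (List.Mem.tail _ (List.Mem.tail _ (List.Mem.head _))))))))))

theorem p_g231_V3 : Net.toPerm 100 p_g231 ∈ (grp 100 L3) :=
  V3_s0.le (toPerm_mem_grp (E := L3o_E0) (List.Mem.tail _ (List.Mem.tail _ (List.Mem.tail _ (List.Mem.tail _ (List.Mem.tail _ (List.Mem.tail _ (List.Mem.tail _ (List.Mem.tail _ (List.Mem.tail _ (List.Mem.head _)))))))))))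

noncomputable def V3_s4_O : ℕ := (nat_lit 0x3333266666ccccd99999333321f07c1f03e0f83e0f83e0f83ee63398c67319ce63398c673184db24d926c93649b64db26d920000000000000000000000001000000000000000000000100010000000000000000000000000000000000000000000000002)

theorem V3_s4_F : Frame 100 (grp 100 L3) 4 8 V3_s4_O 1 1 :=
  IsBase.frame V3_s4.isBase (by decide +kernel)

noncomputable def V3_s1_O : ℕ := (nat_lit 0x400000000000000020001008000000000100000000000000020000100002000002000000000001800000000000000000030020000800000040000080000000000801000010000000048000000000020000008008008080000204000c1000000014000000000002000082862000000004800000000001000044001000101080000400081841800024000090005002c0020000402010208001204000440100121400000044600200000000000000000000000001)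

theorem V3_s1_F : Frame 100 (grp 100 L3) 1 15 V3_s1_O 0 1 :=
  Stab.frame p_hn V3_s1 (by decide +kernel)

noncomputable def V3_s0_O : ℕ := (nat_lit 0x10081841800024002090015002c0020002402110a080012040c110000441410001050800204008286a0080080848002040010220401a00a80240502188098)

theorem V3_s0_F : Frame 100 (grp 100 L3) 0 5 V3_s0_O 0 1 :=
  Stab.frame p_hn V3_s0 (by decide +kernel)

noncomputable def lt3_c1_cnt_L : List ℕ := [0, 5, V3_s0_O, 0, 0, 1, 15, V3_s1_O, 0, 0, 4, 8, V3_s4_O, 1, 0]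

theorem lt3_c1_cnt_P : Prob 100 7 (grp 100 L3) lt3_c1_cnt_EG [EvHT.t_g84] [EvHT.t_g84] lt3_c1_K lt3_c1_cnt_L 0 0 :=
  Sym.prob p_hn p_hk lt3_c1_sym lt3_c1_cnt_EG_ok (grp_cons_le p_g221_V3 (grp_cons_le p_g219_V3 (grp_cons_le p_g220_V3 (grp_cons_le p_g228_V3 (grp_cons_le p_g224_V3 (grp_cons_le p_g225_V3 (grp_cons_le p_g232_V3 (grp_cons_le EvHT.t_g82_V3 (grp_cons_le EvHT.t_g84_V3 (grp_cons_le p_g231_V3 (grp_nil_le _))))))))))) (Frames.cons V3_s0_F (Frames.cons V3_s1_F (Frames.cons V3_s4_F Frames.nil))) (okE_cons.2 ⟨EvHT.t_g84_ok, okE_nil _⟩) _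

noncomputable def lt3_c1_cnt_t : BT := (BT.frm (nat_lit 0) (nat_lit 0) (nat_lit 0) [] (BT.pln (nat_lit 0) (nat_lit 1) (BT.fix (nat_lit 1) (BT.and (nat_lit 1) (nat_lit 0) (BT.br (nat_lit 0) (nat_lit 51) [nat_lit 1] (BT.dead (nat_lit 0) (BT.frm (nat_lit 1) (nat_lit 521) (nat_lit 0) [nat_lit 0] (BT.pln (nat_lit 0) (nat_lit 1) (BT.and (nat_lit 0) (nat_lit 4) (BT.cnt (nat_lit 0))))) (BT.kid (nat_lit 51) (nat_lit 4) (BT.pln (nat_lit 4) (nat_lit 4) (BT.frm (nat_lit 1) (nat_lit 521) (nat_lit 521) [nat_lit 1] (BT.pln (nat_lit 0) (nat_lit 3) (BT.dif (nat_lit 2) (nat_lit 0) (BT.dif (nat_lit 0) (nat_lit 6) (BT.br (nat_lit 0) (nat_lit 27) [nat_lit 3] (BT.kid (nat_lit 27) (nat_lit 2) (BT.pln (nat_lit 4) (nat_lit 8) (BT.dif (nat_lit 0) (nat_lit 9) (BT.br (nat_lit 0) (nat_lit 11) [nat_lit 5] (BT.kid (nat_lit 11) (nat_lit 1) (BT.and (nat_lit 8) (nat_lit 11) (BT.dif (nat_lit 0) (nat_lit 7) (BT.one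 (nat_lit 2) (nat_lit 459273) (nat_lit 459273) [nat_lit 2, nat_lit 5, nat_lit 0, nat_lit 11]))) BT.nil)))) BT.nil))))))) BT.nil)))))))

theorem lt3_c1_cnt : Cnt 100 (grp 100 L3) [EvHT.t_g84] [EvHT.t_g84] 0 0 0 0 8 :=
  BT.sound lt3_c1_cnt_P Known.nil (t := lt3_c1_cnt_t) (d := 0) (by decide +kernel)

theorem lt3_c1_ge : 8 ≤ Nat.card (grp 100 lt3_c1_K) :=
  Ch.le_card_grp (k := 7) (L := (lab 100 7)) p_hn lt3_c1_K_ok (c := (Ch.cons (nat_lit 51) [nat_lit 1] (Ch.cons (nat_lit 27) [nat_lit 3] (Ch.cons (nat_lit 11) [nat_lit 5] Ch.nil)))) (by decide +kernel)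

theorem lt3_c1_eq : (grp 100 L3) ⊓ Subgroup.centralizer {Net.toPerm 100 EvHT.t_g84} = grp 100 lt3_c1_K :=
  cent_eq lt3_c1_sym lt3_c1_cnt lt3_c1_ge

theorem lt3_c1_card : Nat.card ↥((grp 100 L3) ⊓ Subgroup.centralizer {Net.toPerm 100 EvHT.t_g84}) = 8 :=
  card_cent lt3_c1_sym lt3_c1_cnt lt3_c1_ge

theorem lt3_c1_ord : orderOf (Net.toPerm 100 EvHT.t_g84) = 2 :=
  orderOf_net p_hn p_hk EvHT.t_g84_ok (by decide) (ps := [2]) (by set_option linter.unusedSimpArgs false in simp [Nat.primeFactorsList_ofNat]) (by decide +kernel)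

theorem p_le262 : grp 100 lt3_c2_K ≤ grp 100 L3o_E0 :=
  grp_le_of_memB p_hn p_hk L3o_E0_ok lt3_c2_K_ok (ws := [nat_lit 4869, nat_lit 0x110d0803]) (by decide +kernel)

theorem lt3_c2_le : grp 100 lt3_c2_K ≤ (grp 100 L3) :=
  (p_le262.trans V3_s0.le)

theorem lt3_c2_mem : Net.toPerm 100 p_g260 ∈ (grp 100 L3) :=
  lt3_c2_le (toPerm_mem_grp (E := lt3_c2_K) (List.Mem.tail _ (List.Mem.head _)))

theorem lt3_c2_sym : Sym 100 (grp 100 L3) [p_g260] lt3_c2_K 0 :=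
  Sym.of_lab p_hn p_hk (okE_cons.2 ⟨p_g260_ok, okE_nil _⟩) lt3_c2_K_ok lt3_c2_le (kT := 0) (by decide +kernel)

theorem p_le265 : grp 100 p_V264 ≤ grp 100 p_V256 :=
  grp_le_of_memB p_hn p_hk p_V256_ok p_V264_ok (ws := [nat_lit 2305, nat_lit 591617]) (by decide +kernel)

theorem V3_s5 : Stab 100 (grp 100 L3) [nat_lit 20, nat_lit 0] p_V264 6 :=
  Stab.step (k := 7) (L := (lab 100 7)) p_hn V3_s1 p_V264_ok p_le265 (c := (Ch.cons (nat_lit 11) [nat_lit 1] (Ch.cons (nat_lit 29) [nat_lit 3] Ch.nil))) (by decide +kernel)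

theorem V3_s6 : Stab 100 (grp 100 L3) [nat_lit 11, nat_lit 20, nat_lit 0] p_V266 2 :=
  Stab.step (k := 7) (L := (lab 100 7)) p_hn V3_s5 p_V266_ok (grp_mono (List.subset_append_right [EvHT.t_g80] _)) (c := (Ch.cons (nat_lit 29) [nat_lit 1] Ch.nil)) (by decide +kernel)

theorem V3_s7 : Stab 100 (grp 100 L3) [nat_lit 29, nat_lit 11, nat_lit 20, nat_lit 0] p_V267 1 :=
  Stab.step (k := 7) (L := (lab 100 7)) p_hn V3_s6 p_V267_ok (grp_mono (List.subset_append_right [p_g263] _)) (c := Ch.nil) (by decide +kernel)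

theorem p_g263_V3 : Net.toPerm 100 p_g263 ∈ (grp 100 L3) :=
  V3_s6.le (toPerm_mem_grp (E := p_V266) (List.Mem.head _))

theorem EvHT.t_g80_V3 : Net.toPerm 100 EvHT.t_g80 ∈ (grp 100 L3) :=
  V3_s5.le (toPerm_mem_grp (E := p_V264) (List.Mem.head _))

noncomputable def V3_s7_O : ℕ := (nat_lit 0x3333266666ccccd99999333321f07c1f03e0f83e0f83e0f83ee63398c67319ce63398c673184db24d926c93649b64db26d920000000000000000000000001000000000000000000010000000000000000000000000008000000000000000000020000000)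

theorem V3_s7_F : Frame 100 (grp 100 L3) 4 8 V3_s7_O 1 1 :=
  IsBase.frame V3_s7.isBase (by decide +kernel)

noncomputable def lt3_c2_cnt_L : List ℕ := [0, 5, V3_s0_O, 0, 0, 1, 15, V3_s1_O, 0, 0, 4, 8, V3_s7_O, 1, 0]

theorem lt3_c2_cnt_P : Prob 100 7 (grp 100 L3) lt3_c2_cnt_EG [p_g260] [p_g260] lt3_c2_K lt3_c2_cnt_L 0 0 :=
  Sym.prob p_hn p_hk lt3_c2_sym lt3_c2_cnt_EG_ok (grp_cons_le p_g221_V3 (grp_cons_le p_g219_V3 (grp_cons_le p_g220_V3 (grp_cons_le p_g228_V3 (grp_cons_le p_g224_V3 (grp_cons_le p_g225_V3 (grp_cons_le p_g232_V3 (grp_cons_le EvHT.t_g82_V3 (grp_cons_le EvHT.t_g84_V3 (grp_cons_le p_g231_V3 (grp_cons_le p_g263_V3 (grp_cons_le EvHT.t_g80_V3 (grp_nil_le _))))))))))))) (Frames.cons V3_s0_F (Frames.cons V3_s1_F (Frames.cons V3_s7_F Frames.nil))) (okE_cons.2 ⟨p_g260_ok, okE_nil _⟩) _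

noncomputable def lt3_c2_cnt_t : BT := (BT.frm (nat_lit 0) (nat_lit 0) (nat_lit 0) [] (BT.pln (nat_lit 0) (nat_lit 1) (BT.fix (nat_lit 1) (BT.and (nat_lit 1) (nat_lit 0) (BT.br (nat_lit 0) (nat_lit 51) [nat_lit 1] (BT.kid (nat_lit 51) (nat_lit 3) (BT.frm (nat_lit 1) (nat_lit 521) (nat_lit 521) [nat_lit 0] (BT.pln (nat_lit 0) (nat_lit 10) (BT.dif (nat_lit 0) (nat_lit 4) (BT.br (nat_lit 0) (nat_lit 84) [nat_lit 3] (BT.kid (nat_lit 84) (nat_lit 1) (BT.img (nat_lit 1) (nat_lit 0) (BT.pln (nat_lit 9) (nat_lit 0) (BT.and (nat_lit 0) (nat_lit 8) (BT.pln (nat_lit 6) (nat_lit 9) (BT.dif (nat_lit 1) (nat_lit 0) (BT.one (nat_lit 2) (nat_lit 0x17080209) (nat_lit 0x17080209) [nat_lit 4, nat_lit 5, nat_lit 0, nat_lit 9])))))) BT.nil))))) BT.nil))))))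

theorem lt3_c2_cnt : Cnt 100 (grp 100 L3) [p_g260] [p_g260] 0 0 0 0 9 :=
  BT.sound lt3_c2_cnt_P Known.nil (t := lt3_c2_cnt_t) (d := 0) (by decide +kernel)

theorem lt3_c2_ge : 9 ≤ Nat.card (grp 100 lt3_c2_K) :=
  Ch.le_card_grp (k := 7) (L := (lab 100 7)) p_hn lt3_c2_K_ok (c := (Ch.cons (nat_lit 51) [nat_lit 1] (Ch.cons (nat_lit 84) [nat_lit 3] Ch.nil))) (by decide +kernel)

theorem lt3_c2_eq : (grp 100 L3) ⊓ Subgroup.centralizer {Net.toPerm 100 p_g260} = grp 100 lt3_c2_K :=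
  cent_eq lt3_c2_sym lt3_c2_cnt lt3_c2_ge

theorem lt3_c2_card : Nat.card ↥((grp 100 L3) ⊓ Subgroup.centralizer {Net.toPerm 100 p_g260}) = 9 :=
  card_cent lt3_c2_sym lt3_c2_cnt lt3_c2_ge

theorem lt3_c2_ord : orderOf (Net.toPerm 100 p_g260) = 3 :=
  orderOf_net p_hn p_hk p_g260_ok (by decide) (ps := [3]) (by set_option linter.unusedSimpArgs false in simp [Nat.primeFactorsList_ofNat]) (by decide +kernel)

theorem p_le270 : grp 100 lt3_c3_K ≤ grp 100 L3o_E0 :=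
  grp_le_of_memB p_hn p_hk L3o_E0_ok lt3_c3_K_ok (ws := [nat_lit 0xf070109, nat_lit 459530]) (by decide +kernel)

theorem lt3_c3_le : grp 100 lt3_c3_K ≤ (grp 100 L3) :=
  (p_le270.trans V3_s0.le)

theorem lt3_c3_mem : Net.toPerm 100 p_g268 ∈ (grp 100 L3) :=
  lt3_c3_le (toPerm_mem_grp (E := lt3_c3_K) (List.Mem.head _))

theorem lt3_c3_sym : Sym 100 (grp 100 L3) [p_g268] lt3_c3_K 0 :=
  Sym.of_lab p_hn p_hk (okE_cons.2 ⟨p_g268_ok, okE_nil _⟩) lt3_c3_K_ok lt3_c3_le (kT := 0) (by decide +kernel)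

theorem p_le273 : grp 100 p_V272 ≤ grp 100 L3o_E0 :=
  grp_le_of_memB p_hn p_hk L3o_E0_ok p_V272_ok (ws := [nat_lit 0xf070109, nat_lit 1793, nat_lit 4869]) (by decide +kernel)

theorem V3_s8 : Stab 100 (grp 100 L3) [nat_lit 56] p_V272 18 :=
  Stab.step (k := 7) (L := (lab 100 7)) p_hn V3_s0 p_V272_ok p_le273 (c := (Ch.cons (nat_lit 88) [nat_lit 1] (Ch.cons (nat_lit 70) [nat_lit 3] (Ch.cons (nat_lit 5) [nat_lit 5] Ch.nil)))) (by decide +kernel)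

theorem V3_s9 : Stab 100 (grp 100 L3) [nat_lit 88, nat_lit 56] p_V274 6 :=
  Stab.step (k := 7) (L := (lab 100 7)) p_hn V3_s8 p_V274_ok (grp_mono (List.subset_append_right [p_g268] _)) (c := (Ch.cons (nat_lit 70) [nat_lit 1] (Ch.cons (nat_lit 5) [nat_lit 3] Ch.nil))) (by decide +kernel)

theorem V3_s10 : Stab 100 (grp 100 L3) [nat_lit 70, nat_lit 88, nat_lit 56] p_V275 3 :=
  Stab.step (k := 7) (L := (lab 100 7)) p_hn V3_s9 p_V275_ok (grp_mono (List.subset_append_right [p_g271] _)) (c := (Ch.cons (nat_lit 5) [nat_lit 1] Ch.nil)) (by decide +kernel)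

theorem V3_s11 : Stab 100 (grp 100 L3) [nat_lit 5, nat_lit 70, nat_lit 88, nat_lit 56] p_V276 1 :=
  Stab.step (k := 7) (L := (lab 100 7)) p_hn V3_s10 p_V276_ok (grp_mono (List.subset_append_right [p_g261] _)) (c := Ch.nil) (by decide +kernel)

theorem p_g268_V3 : Net.toPerm 100 p_g268 ∈ (grp 100 L3) :=
  V3_s8.le (toPerm_mem_grp (E := p_V272) (List.Mem.head _))

theorem p_g271_V3 : Net.toPerm 100 p_g271 ∈ (grp 100 L3) :=
  V3_s8.le (toPerm_mem_grp (E := p_V272) (List.Mem.tail _ (List.Mem.head _)))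

theorem p_g261_V3 : Net.toPerm 100 p_g261 ∈ (grp 100 L3) :=
  V3_s8.le (toPerm_mem_grp (E := p_V272) (List.Mem.tail _ (List.Mem.tail _ (List.Mem.head _))))

noncomputable def V3_s11_O : ℕ := (nat_lit 0x3333266666ccccd99999333321f07c1f03e0f83e0f83e0f83ee63398c67319ce63398c673184db24d926c93649b64db26d920000000000100000000000000001000000000000000000000000000004000000000000000000000000000000000000000020)

theorem V3_s11_F : Frame 100 (grp 100 L3) 4 8 V3_s11_O 1 1 :=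
  IsBase.frame V3_s11.isBase (by decide +kernel)

noncomputable def V3_s9_O : ℕ := (nat_lit 0x200000000000000000000000008000000000000000000000000000040000000000000000000000000004000000000040000004000000000000000000000008000000004000000000000810010000000000000000000020400000080000000000001000000080000400000000000000000001200001000000000000000000004100010000000000000001000000000400080000000000000000000a00001000000008000000000800000040002000000000000100000002000000000004100000000000020000000040000000002000001000000000000021000000000040000001000000400000000002000000000000002000000000180c0020002400000008000000000204002002800000001000000005000000000020024020000000008000000200000900140002000000008000001020080808100000000000000050800004004000000000080000044080200000000001000000000000000010000000000000000000000)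

theorem V3_s9_F : Frame 100 (grp 100 L3) 2 29 V3_s9_O 0 1 :=
  Stab.frame p_hn V3_s9 (by decide +kernel)

noncomputable def V3_s8_O : ℕ := (nat_lit 0x80000000000000000000000000000400000000000000000000000000040000000000401000040000000000000000000020400000080000000000001000000080000400000000000000000a0000000040000000000000000000410001000000000000000000000000a000010000000000400000000020000010000000000000210000000000402c002000240001000800020000008180100002000009001400020000100080000050208808000050100000040200240200200020400200280200000100018810000004100000005080020400400000120008100004408020000000000100000000000000)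

theorem V3_s8_F : Frame 100 (grp 100 L3) 1 19 V3_s8_O 0 1 :=
  Stab.frame p_hn V3_s8 (by decide +kernel)

noncomputable def lt3_c3_cnt_L : List ℕ := [0, 5, V3_s0_O, 0, 0, 1, 19, V3_s8_O, 0, 0, 2, 29, V3_s9_O, 0, 0, 4, 8, V3_s11_O, 1, 0]

theorem lt3_c3_cnt_P : Prob 100 7 (grp 100 L3) lt3_c3_cnt_EG [p_g268] [p_g268] lt3_c3_K lt3_c3_cnt_L 0 0 :=
  Sym.prob p_hn p_hk lt3_c3_sym lt3_c3_cnt_EG_ok (grp_cons_le p_g221_V3 (grp_cons_le p_g219_V3 (grp_cons_le p_g220_V3 (grp_cons_le p_g228_V3 (grp_cons_le p_g224_V3 (grp_cons_le p_g225_V3 (grp_cons_le p_g232_V3 (grp_cons_le EvHT.t_g82_V3 (grp_cons_le EvHT.t_g84_V3 (grp_cons_le p_g231_V3 (grp_cons_le p_g268_V3 (grp_cons_le p_g271_V3 (grp_cons_le p_g261_V3 (grp_nil_le _)))))))))))))) (Frames.cons V3_s0_F (Frames.cons V3_s8_F (Frames.cons V3_s9_F (Frames.cons V3_s11_F Frames.nil)))) (okE_cons.2 ⟨p_g268_ok, okE_nil _⟩) _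

noncomputable def lt3_c3_cnt_t : BT := (BT.fix (nat_lit 1) (BT.frm (nat_lit 0) (nat_lit 0) (nat_lit 0) [] (BT.pln (nat_lit 0) (nat_lit 3) (BT.dif (nat_lit 2) (nat_lit 0) (BT.pln (nat_lit 2) (nat_lit 4) (BT.dif (nat_lit 1) (nat_lit 0) (BT.pln (nat_lit 4) (nat_lit 0) (BT.dif (nat_lit 1) (nat_lit 0) (BT.br (nat_lit 0) (nat_lit 56) [] (BT.dead (nat_lit 54) (BT.frm (nat_lit 1) (nat_lit 0) (nat_lit 261) [nat_lit 0] (BT.pln (nat_lit 0) (nat_lit 8) (BT.and (nat_lit 0) (nat_lit 10) (BT.cnt (nat_lit 0))))) (BT.kid (nat_lit 56) (nat_lit 9) (BT.pln (nat_lit 7) (nat_lit 2) (BT.frm (nat_lit 1) (nat_lit 0) (nat_lit 0) [nat_lit 1] (BT.pln (nat_lit 0) (nat_lit 15) (BT.and (nat_lit 2) (nat_lit 0) (BT.br (nat_lit 0) (nat_lit 88) [nat_lit 1] (BT.kid (nat_lit 88) (nat_lit 3) (BT.frm (nat_lit 2) (nat_lit 0) (nat_lit 0) [nat_lit 0, nat_lit 5] (BT.pln (nat_lit 0) (nat_lit 10) (BT.br (nat_lit 0) (nat_lit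 5) [nat_lit 3] (BT.kid (nat_lit 5) (nat_lit 1) (BT.img (nat_lit 1) (nat_lit 3) (BT.one (nat_lit 3) (nat_lit 0) (nat_lit 0) [nat_lit 1, nat_lit 0, nat_lit 4, nat_lit 9])) BT.nil)))) BT.nil)))))) BT.nil)))))))))))

theorem lt3_c3_cnt : Cnt 100 (grp 100 L3) [p_g268] [p_g268] 0 0 0 0 9 :=
  BT.sound lt3_c3_cnt_P Known.nil (t := lt3_c3_cnt_t) (d := 0) (by decide +kernel)

theorem lt3_c3_ge : 9 ≤ Nat.card (grp 100 lt3_c3_K) :=
  Ch.le_card_grp (k := 7) (L := (lab 100 7)) p_hn lt3_c3_K_ok (c := (Ch.cons (nat_lit 88) [nat_lit 1] (Ch.cons (nat_lit 5) [nat_lit 3] Ch.nil))) (by decide +kernel)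

theorem lt3_c3_eq : (grp 100 L3) ⊓ Subgroup.centralizer {Net.toPerm 100 p_g268} = grp 100 lt3_c3_K :=
  cent_eq lt3_c3_sym lt3_c3_cnt lt3_c3_ge

theorem lt3_c3_card : Nat.card ↥((grp 100 L3) ⊓ Subgroup.centralizer {Net.toPerm 100 p_g268}) = 9 :=
  card_cent lt3_c3_sym lt3_c3_cnt lt3_c3_ge

theorem lt3_c3_ord : orderOf (Net.toPerm 100 p_g268) = 3 :=
  orderOf_net p_hn p_hk p_g268_ok (by decide) (ps := [3]) (by set_option linter.unusedSimpArgs false in simp [Nat.primeFactorsList_ofNat]) (by decide +kernel)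

theorem p_le278 : grp 100 lt3_c4_K ≤ grp 100 L3o_E0 :=
  grp_le_of_memB p_hn p_hk L3o_E0_ok lt3_c4_K_ok (ws := [nat_lit 3853, nat_lit 17]) (by decide +kernel)

theorem lt3_c4_le : grp 100 lt3_c4_K ≤ (grp 100 L3) :=
  (p_le278.trans V3_s0.le)

theorem lt3_c4_mem : Net.toPerm 100 p_g277 ∈ (grp 100 L3) :=
  lt3_c4_le (toPerm_mem_grp (E := lt3_c4_K) (List.Mem.head _))

theorem lt3_c4_sym : Sym 100 (grp 100 L3) [p_g277] lt3_c4_K 0 :=
  Sym.of_lab p_hn p_hk (okE_cons.2 ⟨p_g277_ok, okE_nil _⟩) lt3_c4_K_ok lt3_c4_le (kT := 0) (by decide +kernel)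

noncomputable def lt3_c4_cnt_L : List ℕ := [0, 5, V3_s0_O, 0, 0, 1, 15, V3_s1_O, 0, 0, 4, 8, V3_s4_O, 1, 0]

theorem lt3_c4_cnt_P : Prob 100 7 (grp 100 L3) lt3_c4_cnt_EG [p_g277] [p_g277] lt3_c4_K lt3_c4_cnt_L 0 0 :=
  Sym.prob p_hn p_hk lt3_c4_sym lt3_c4_cnt_EG_ok (grp_cons_le p_g221_V3 (grp_cons_le p_g219_V3 (grp_cons_le p_g220_V3 (grp_cons_le p_g228_V3 (grp_cons_le p_g224_V3 (grp_cons_le p_g225_V3 (grp_cons_le p_g232_V3 (grp_cons_le EvHT.t_g82_V3 (grp_cons_le EvHT.t_g84_V3 (grp_cons_le p_g231_V3 (grp_nil_le _))))))))))) (Frames.cons V3_s0_F (Frames.cons V3_s1_F (Frames.cons V3_s4_F Frames.nil))) (okE_cons.2 ⟨p_g277_ok, okE_nil _⟩) _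

noncomputable def lt3_c4_cnt_t : BT := (BT.frm (nat_lit 0) (nat_lit 0) (nat_lit 0) [] (BT.pln (nat_lit 0) (nat_lit 4) (BT.fix (nat_lit 257) (BT.and (nat_lit 1) (nat_lit 0) (BT.fix (nat_lit 1) (BT.dif (nat_lit 1) (nat_lit 0) (BT.br (nat_lit 0) (nat_lit 33) [nat_lit 1] (BT.kid (nat_lit 33) (nat_lit 2) (BT.pln (nat_lit 6) (nat_lit 1) (BT.and (nat_lit 0) (nat_lit 3) (BT.frm (nat_lit 1) (nat_lit 0) (nat_lit 0) [nat_lit 0] (BT.pln (nat_lit 0) (nat_lit 8) (BT.br (nat_lit 0) (nat_lit 50) [nat_lit 3] (BT.dead (nat_lit 47) (BT.and (nat_lit 10) (nat_lit 7) (BT.frm (nat_lit 2) (nat_lit 4877) (nat_lit 13) [nat_lit 1, nat_lit 6, nat_lit 0, nat_lit 4] (BT.pln (nat_lit 0) (nat_lit 4) (BT.img (nat_lit 1) (nat_lit 3) (BT.and (nat_lit 1) (nat_lit 0) (BT.cnt (nat_lit 0))))))) (BT.kid (nat_lit 50) (nat_lit 1) (BT.and (nat_lit 10) (nat_lit 7) (BT.one (nat_lit 2) (nat_lit 4877) (nat_lit 4877) [nat_lit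 1, nat_lit 6, nat_lit 0, nat_lit 4])) BT.nil))))))) BT.nil))))))))

theorem lt3_c4_cnt : Cnt 100 (grp 100 L3) [p_g277] [p_g277] 0 0 0 0 4 :=
  BT.sound lt3_c4_cnt_P Known.nil (t := lt3_c4_cnt_t) (d := 0) (by decide +kernel)

theorem lt3_c4_ge : 4 ≤ Nat.card (grp 100 lt3_c4_K) :=
  Ch.le_card_grp (k := 7) (L := (lab 100 7)) p_hn lt3_c4_K_ok (c := (Ch.cons (nat_lit 33) [nat_lit 1] (Ch.cons (nat_lit 50) [nat_lit 3] Ch.nil))) (by decide +kernel)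

theorem lt3_c4_eq : (grp 100 L3) ⊓ Subgroup.centralizer {Net.toPerm 100 p_g277} = grp 100 lt3_c4_K :=
  cent_eq lt3_c4_sym lt3_c4_cnt lt3_c4_ge

theorem lt3_c4_card : Nat.card ↥((grp 100 L3) ⊓ Subgroup.centralizer {Net.toPerm 100 p_g277}) = 4 :=
  card_cent lt3_c4_sym lt3_c4_cnt lt3_c4_ge

theorem lt3_c4_ord : orderOf (Net.toPerm 100 p_g277) = 4 :=
  orderOf_net p_hn p_hk p_g277_ok (by decide) (ps := [2]) (by set_option linter.unusedSimpArgs false in simp [Nat.primeFactorsList_ofNat]) (by decide +kernel)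

theorem p_le280 : grp 100 lt3_c5_K ≤ grp 100 L3o_E0 :=
  grp_le_of_memB p_hn p_hk L3o_E0_ok lt3_c5_K_ok (ws := [nat_lit 0x130d03]) (by decide +kernel)

theorem lt3_c5_le : grp 100 lt3_c5_K ≤ (grp 100 L3) :=
  (p_le280.trans V3_s0.le)

theorem lt3_c5_mem : Net.toPerm 100 p_g279 ∈ (grp 100 L3) :=
  lt3_c5_le (toPerm_mem_grp (E := lt3_c5_K) (List.Mem.head _))

theorem lt3_c5_sym : Sym 100 (grp 100 L3) [p_g279] lt3_c5_K 0 :=
  Sym.of_lab p_hn p_hk (okE_cons.2 ⟨p_g279_ok, okE_nil _⟩) lt3_c5_K_ok lt3_c5_le (kT := 0) (by decide +kernel)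

noncomputable def lt3_c5_cnt_L : List ℕ := [0, 5, V3_s0_O, 0, 0, 1, 15, V3_s1_O, 0, 0, 4, 8, V3_s4_O, 1, 0]

theorem lt3_c5_cnt_P : Prob 100 7 (grp 100 L3) lt3_c5_cnt_EG [p_g279] [p_g279] lt3_c5_K lt3_c5_cnt_L 0 0 :=
  Sym.prob p_hn p_hk lt3_c5_sym lt3_c5_cnt_EG_ok (grp_cons_le p_g221_V3 (grp_cons_le p_g219_V3 (grp_cons_le p_g220_V3 (grp_cons_le p_g228_V3 (grp_cons_le p_g224_V3 (grp_cons_le p_g225_V3 (grp_cons_le p_g232_V3 (grp_cons_le EvHT.t_g82_V3 (grp_cons_le EvHT.t_g84_V3 (grp_cons_le p_g231_V3 (grp_nil_le _))))))))))) (Frames.cons V3_s0_F (Frames.cons V3_s1_F (Frames.cons V3_s4_F Frames.nil))) (okE_cons.2 ⟨p_g279_ok, okE_nil _⟩) _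

noncomputable def lt3_c5_cnt_t : BT := (BT.frm (nat_lit 0) (nat_lit 0) (nat_lit 0) [] (BT.pln (nat_lit 0) (nat_lit 1) (BT.br (nat_lit 0) (nat_lit 63) [nat_lit 1] (BT.dead (nat_lit 78) (BT.frm (nat_lit 1) (nat_lit 269) (nat_lit 262) [nat_lit 0] (BT.pln (nat_lit 0) (nat_lit 5) (BT.img (nat_lit 1) (nat_lit 2) (BT.and (nat_lit 1) (nat_lit 0) (BT.cnt (nat_lit 0)))))) (BT.dead (nat_lit 51) (BT.frm (nat_lit 1) (nat_lit 269) (nat_lit 521) [nat_lit 0] (BT.pln (nat_lit 0) (nat_lit 5) (BT.img (nat_lit 1) (nat_lit 2) (BT.and (nat_lit 1) (nat_lit 0) (BT.cnt (nat_lit 0)))))) (BT.kid (nat_lit 63) (nat_lit 1) (BT.frm (nat_lit 1) (nat_lit 269) (nat_lit 269) [nat_lit 0] (BT.pln (nat_lit 0) (nat_lit 8) (BT.img (nat_lit 1) (nat_lit 0) (BT.pln (nat_lit 2) (nat_lit 1) (BT.and (nat_lit 1) (nat_lit 0) (BT.img (nat_lit 1) (nat_lit 0) (BT.img (nat_lit 1) (nat_lit 0) (BT.and (nat_lit 5) (nat_lit 0) (BT.pln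 (nat_lit 10) (nat_lit 4) (BT.pln (nat_lit 8) (nat_lit 3) (BT.dif (nat_lit 1) (nat_lit 0) (BT.img (nat_lit 1) (nat_lit 0) (BT.and (nat_lit 1) (nat_lit 0) (BT.img (nat_lit 1) (nat_lit 0) (BT.and (nat_lit 5) (nat_lit 0) (BT.img (nat_lit 1) (nat_lit 0) (BT.and (nat_lit 7) (nat_lit 0) (BT.img (nat_lit 1) (nat_lit 0) (BT.and (nat_lit 9) (nat_lit 0) (BT.img (nat_lit 1) (nat_lit 0) (BT.and (nat_lit 9) (nat_lit 0) (BT.one (nat_lit 2) (nat_lit 524557) (nat_lit 524557) [nat_lit 13, nat_lit 0, nat_lit 8, nat_lit 21])))))))))))))))))))))) BT.nil))))))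

theorem lt3_c5_cnt : Cnt 100 (grp 100 L3) [p_g279] [p_g279] 0 0 0 0 5 :=
  BT.sound lt3_c5_cnt_P Known.nil (t := lt3_c5_cnt_t) (d := 0) (by decide +kernel)

theorem lt3_c5_ge : 5 ≤ Nat.card (grp 100 lt3_c5_K) :=
  Ch.le_card_grp (k := 7) (L := (lab 100 7)) p_hn lt3_c5_K_ok (c := (Ch.cons (nat_lit 63) [nat_lit 1] Ch.nil)) (by decide +kernel)

theorem lt3_c5_eq : (grp 100 L3) ⊓ Subgroup.centralizer {Net.toPerm 100 p_g279} = grp 100 lt3_c5_K :=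
  cent_eq lt3_c5_sym lt3_c5_cnt lt3_c5_ge

theorem lt3_c5_card : Nat.card ↥((grp 100 L3) ⊓ Subgroup.centralizer {Net.toPerm 100 p_g279}) = 5 :=
  card_cent lt3_c5_sym lt3_c5_cnt lt3_c5_ge

theorem lt3_c5_ord : orderOf (Net.toPerm 100 p_g279) = 5 :=
  orderOf_net p_hn p_hk p_g279_ok (by decide) (ps := [5]) (by set_option linter.unusedSimpArgs false in simp [Nat.primeFactorsList_ofNat]) (by decide +kernel)

theorem p_le282 : grp 100 lt3_c6_K ≤ grp 100 L3o_E0 :=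
  grp_le_of_memB p_hn p_hk L3o_E0_ok lt3_c6_K_ok (ws := [nat_lit 852229]) (by decide +kernel)

theorem lt3_c6_le : grp 100 lt3_c6_K ≤ (grp 100 L3) :=
  (p_le282.trans V3_s0.le)

theorem lt3_c6_mem : Net.toPerm 100 p_g281 ∈ (grp 100 L3) :=
  lt3_c6_le (toPerm_mem_grp (E := lt3_c6_K) (List.Mem.head _))

theorem lt3_c6_sym : Sym 100 (grp 100 L3) [p_g281] lt3_c6_K 0 :=
  Sym.of_lab p_hn p_hk (okE_cons.2 ⟨p_g281_ok, okE_nil _⟩) lt3_c6_K_ok lt3_c6_le (kT := 0) (by decide +kernel)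

noncomputable def lt3_c6_cnt_L : List ℕ := [0, 5, V3_s0_O, 0, 0, 1, 15, V3_s1_O, 0, 0, 4, 8, V3_s4_O, 1, 0]

theorem lt3_c6_cnt_P : Prob 100 7 (grp 100 L3) lt3_c6_cnt_EG [p_g281] [p_g281] lt3_c6_K lt3_c6_cnt_L 0 0 :=
  Sym.prob p_hn p_hk lt3_c6_sym lt3_c6_cnt_EG_ok (grp_cons_le p_g221_V3 (grp_cons_le p_g219_V3 (grp_cons_le p_g220_V3 (grp_cons_le p_g228_V3 (grp_cons_le p_g224_V3 (grp_cons_le p_g225_V3 (grp_cons_le p_g232_V3 (grp_cons_le EvHT.t_g82_V3 (grp_cons_le EvHT.t_g84_V3 (grp_cons_le p_g231_V3 (grp_nil_le _))))))))))) (Frames.cons V3_s0_F (Frames.cons V3_s1_F (Frames.cons V3_s4_F Frames.nil))) (okE_cons.2 ⟨p_g281_ok, okE_nil _⟩) _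

noncomputable def lt3_c6_cnt_t : BT := (BT.frm (nat_lit 0) (nat_lit 0) (nat_lit 0) [] (BT.pln (nat_lit 0) (nat_lit 1) (BT.br (nat_lit 0) (nat_lit 63) [nat_lit 1] (BT.dead (nat_lit 78) (BT.frm (nat_lit 1) (nat_lit 269) (nat_lit 262) [nat_lit 0] (BT.pln (nat_lit 0) (nat_lit 5) (BT.img (nat_lit 1) (nat_lit 2) (BT.img (nat_lit 1) (nat_lit 0) (BT.and (nat_lit 2) (nat_lit 0) (BT.cnt (nat_lit 0))))))) (BT.dead (nat_lit 51) (BT.frm (nat_lit 1) (nat_lit 269) (nat_lit 521) [nat_lit 0] (BT.pln (nat_lit 0) (nat_lit 5) (BT.img (nat_lit 1) (nat_lit 2) (BT.and (nat_lit 1) (nat_lit 0) (BT.cnt (nat_lit 0)))))) (BT.kid (nat_lit 63) (nat_lit 1) (BT.frm (nat_lit 1) (nat_lit 269) (nat_lit 269) [nat_lit 0] (BT.pln (nat_lit 0) (nat_lit 8) (BT.img (nat_lit 1) (nat_lit 0) (BT.and (nat_lit 1) (nat_lit 0) (BT.pln (nat_lit 6) (nat_lit 4) (BT.pln (nat_lit 4) (nat_lit 3) (BT.dif (nat_lit 1) (nat_lit 0) (BT.img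 (nat_lit 1) (nat_lit 0) (BT.and (nat_lit 3) (nat_lit 0) (BT.img (nat_lit 1) (nat_lit 0) (BT.and (nat_lit 3) (nat_lit 0) (BT.img (nat_lit 1) (nat_lit 0) (BT.and (nat_lit 7) (nat_lit 0) (BT.img (nat_lit 1) (nat_lit 0) (BT.and (nat_lit 9) (nat_lit 0) (BT.img (nat_lit 1) (nat_lit 0) (BT.and (nat_lit 9) (nat_lit 0) (BT.one (nat_lit 2) (nat_lit 0xf0d010d) (nat_lit 0xf0d010d) [nat_lit 13, nat_lit 0, nat_lit 6, nat_lit 17])))))))))))))))))) BT.nil))))))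

theorem lt3_c6_cnt : Cnt 100 (grp 100 L3) [p_g281] [p_g281] 0 0 0 0 5 :=
  BT.sound lt3_c6_cnt_P Known.nil (t := lt3_c6_cnt_t) (d := 0) (by decide +kernel)

theorem lt3_c6_ge : 5 ≤ Nat.card (grp 100 lt3_c6_K) :=
  Ch.le_card_grp (k := 7) (L := (lab 100 7)) p_hn lt3_c6_K_ok (c := (Ch.cons (nat_lit 63) [nat_lit 1] Ch.nil)) (by decide +kernel)

theorem lt3_c6_eq : (grp 100 L3) ⊓ Subgroup.centralizer {Net.toPerm 100 p_g281} = grp 100 lt3_c6_K :=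
  cent_eq lt3_c6_sym lt3_c6_cnt lt3_c6_ge

theorem lt3_c6_card : Nat.card ↥((grp 100 L3) ⊓ Subgroup.centralizer {Net.toPerm 100 p_g281}) = 5 :=
  card_cent lt3_c6_sym lt3_c6_cnt lt3_c6_ge

theorem lt3_c6_ord : orderOf (Net.toPerm 100 p_g281) = 5 :=
  orderOf_net p_hn p_hk p_g281_ok (by decide) (ps := [5]) (by set_option linter.unusedSimpArgs false in simp [Nat.primeFactorsList_ofNat]) (by decide +kernel)

noncomputable def lt3_xs : List Net := [Net.nil, EvHT.t_g84, p_g260, p_g268, p_g277, p_g279, p_g281]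

noncomputable def lt3_cs : List ℕ := [360, 8, 9, 9, 4, 5, 5]

noncomputable def lt3_os : List ℕ := [1, 2, 3, 3, 4, 5, 5]

theorem lt3_reps : Reps 100 (grp 100 L3) lt3_xs lt3_cs lt3_os :=
  (Reps.cons rfl (one_mem _) (card_cent_nil L3o_card) orderOf_one (Reps.cons EvHT.t_g84_ok lt3_c1_mem lt3_c1_card lt3_c1_ord (Reps.cons p_g260_ok lt3_c2_mem lt3_c2_card lt3_c2_ord (Reps.cons p_g268_ok lt3_c3_mem lt3_c3_card lt3_c3_ord (Reps.cons p_g277_ok lt3_c4_mem lt3_c4_card lt3_c4_ord (Reps.cons p_g279_ok lt3_c5_mem lt3_c5_card lt3_c5_ord (Reps.cons p_g281_ok lt3_c6_mem lt3_c6_card lt3_c6_ord Reps.nil)))))))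

noncomputable def lt3_nc3_2_cnt_L : List ℕ := [0, 5, V3_s0_O, 0, 0]

theorem lt3_nc3_2_cnt_P : Prob 100 7 (grp 100 L3) lt3_nc3_2_cnt_EG [p_g268] [p_g260] lt3_c2_K lt3_nc3_2_cnt_L 0 0 :=
  Sym.prob p_hn p_hk lt3_c2_sym lt3_nc3_2_cnt_EG_ok (grp_nil_le _) (Frames.cons V3_s0_F Frames.nil) (okE_cons.2 ⟨p_g268_ok, okE_nil _⟩) _

noncomputable def lt3_nc3_2_cnt_t : BT := (BT.frm (nat_lit 0) (nat_lit 0) (nat_lit 0) [] (BT.pln (nat_lit 0) (nat_lit 1) (BT.fix (nat_lit 1) (BT.and (nat_lit 1) (nat_lit 0) (BT.cnt (nat_lit 0))))))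

theorem lt3_nc3_2_cnt : Cnt 100 (grp 100 L3) [p_g268] [p_g260] 0 0 0 0 0 :=
  BT.sound lt3_nc3_2_cnt_P Known.nil (t := lt3_nc3_2_cnt_t) (d := 0) (by decide +kernel)

theorem lt3_nc3_2 : ¬ CjIn (grp 100 L3) (Net.toPerm 100 p_g268) (Net.toPerm 100 p_g260) :=
  not_cjIn lt3_nc3_2_cnt

noncomputable def V3_s2_O : ℕ := (nat_lit 0x20000000000000000000000000000000004000000040000000004000000000000000000008000008000000000000000000000000100800000000010000000000000002000000002400200004000000000000000000000080020004010000000000000801000020000080000000040010002000000004000000002000000000020040200000002000002000000000001800000000000000140000000060000000000000800008000020400000000000000000300200008008100000001000000000000200000400001000000000040002000004000008000000000080100000001000080000000000088000100000000480000000000200828620000000048000000000008104080000400001000500080000000002010208001204000000000000000000000000010000000000000000000001000)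

theorem V3_s2_F : Frame 100 (grp 100 L3) 2 25 V3_s2_O 0 1 :=
  Stab.frame p_hn V3_s2 (by decide +kernel)

noncomputable def lt3_nc6_5_cnt_L : List ℕ := [0, 5, V3_s0_O, 0, 0, 1, 15, V3_s1_O, 0, 0, 2, 25, V3_s2_O, 0, 0]

theorem lt3_nc6_5_cnt_P : Prob 100 7 (grp 100 L3) lt3_nc6_5_cnt_EG [p_g281] [p_g279] lt3_c5_K lt3_nc6_5_cnt_L 0 0 :=
  Sym.prob p_hn p_hk lt3_c5_sym lt3_nc6_5_cnt_EG_ok (grp_cons_le p_g221_V3 (grp_cons_le p_g219_V3 (grp_cons_le p_g220_V3 (grp_cons_le p_g228_V3 (grp_cons_le p_g224_V3 (grp_cons_le p_g225_V3 (grp_cons_le p_g232_V3 (grp_cons_le EvHT.t_g82_V3 (grp_cons_le EvHT.t_g84_V3 (grp_cons_le p_g231_V3 (grp_nil_le _))))))))))) (Frames.cons V3_s0_F (Frames.cons V3_s1_F (Frames.cons V3_s2_F Frames.nil))) (okE_cons.2 ⟨p_g281_ok, okE_nil _⟩) _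

noncomputable def lt3_nc6_5_cnt_t : BT := (BT.frm (nat_lit 0) (nat_lit 0) (nat_lit 0) [] (BT.pln (nat_lit 0) (nat_lit 1) (BT.br (nat_lit 0) (nat_lit 63) [nat_lit 1] (BT.dead (nat_lit 51) (BT.pln (nat_lit 2) (nat_lit 4) (BT.frm (nat_lit 1) (nat_lit 269) (nat_lit 521) [nat_lit 1] (BT.pln (nat_lit 0) (nat_lit 3) (BT.dif (nat_lit 2) (nat_lit 0) (BT.img (nat_lit 1) (nat_lit 0) (BT.and (nat_lit 4) (nat_lit 0) (BT.img (nat_lit 1) (nat_lit 0) (BT.and (nat_lit 3) (nat_lit 0) (BT.frm (nat_lit 2) (nat_lit 269) (nat_lit 521) [nat_lit 0, nat_lit 8] (BT.pln (nat_lit 0) (nat_lit 6) (BT.pln (nat_lit 12) (nat_lit 0) (BT.pln (nat_lit 9) (nat_lit 9) (BT.and (nat_lit 1) (nat_lit 0) (BT.pln (nat_lit 11) (nat_lit 11) (BT.and (nat_lit 3) (nat_lit 0) (BT.img (nat_lit 1) (nat_lit 0) (BT.and (nat_lit 1) (nat_lit 0) (BT.img (nat_lit 1) (nat_lit 0) (BT.and (nat_lit 7) (nat_lit 0) (BT.img (nat_lit 1) (nat_lit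 0) (BT.and (nat_lit 7) (nat_lit 0) (BT.img (nat_lit 1) (nat_lit 0) (BT.and (nat_lit 12) (nat_lit 0) (BT.cnt (nat_lit 0))))))))))))))))))))))))) (BT.dead (nat_lit 78) (BT.frm (nat_lit 1) (nat_lit 269) (nat_lit 262) [nat_lit 0] (BT.pln (nat_lit 0) (nat_lit 5) (BT.img (nat_lit 1) (nat_lit 2) (BT.img (nat_lit 1) (nat_lit 0) (BT.and (nat_lit 2) (nat_lit 0) (BT.cnt (nat_lit 0))))))) (BT.dead (nat_lit 63) (BT.frm (nat_lit 1) (nat_lit 269) (nat_lit 269) [nat_lit 0] (BT.pln (nat_lit 0) (nat_lit 5) (BT.img (nat_lit 1) (nat_lit 2) (BT.and (nat_lit 1) (nat_lit 0) (BT.cnt (nat_lit 0)))))) BT.nil))))))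

theorem lt3_nc6_5_cnt : Cnt 100 (grp 100 L3) [p_g281] [p_g279] 0 0 0 0 0 :=
  BT.sound lt3_nc6_5_cnt_P Known.nil (t := lt3_nc6_5_cnt_t) (d := 0) (by decide +kernel)

theorem lt3_nc6_5 : ¬ CjIn (grp 100 L3) (Net.toPerm 100 p_g281) (Net.toPerm 100 p_g279) :=
  not_cjIn lt3_nc6_5_cnt

theorem lt3_exc : Exc 100 (grp 100 L3) lt3_xs [6005, 3002] :=
  (Exc.cons 6 5 (by decide) lt3_nc6_5 (Exc.cons 3 2 (by decide) lt3_nc3_2 Exc.nil))

theorem lt3 : Table 100 (grp 100 L3) lt3_xs lt3_cs lt3_os :=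
  Reps.table (D := 1) p_hn p_hk lt3_reps lt3_exc L3o_card (by decide +kernel)

theorem j3_G : Net.toPerm 100 p_g283 ∈ (grp 100 HSM.E) :=
  HSM.lb_le (mem_grp_of_memB p_hn p_hk HSM.lb_E_ok p_g283_ok (w := (nat_lit 0xe0f09091005050c0108)) (by decide +kernel))

theorem kf3 : ∀ {α : MulAut (grp 100 HSM.E)}, EvG.Ind (grp 100 HSM.E) (Net.toPerm 100 EvHT.t_g77) α → H62.EV.KF α ((grp 100 L3).subgroupOf (grp 100 HSM.E)) :=
  fun hα => cmp3.kf hα (m := 3) (by rw [L3o_card]; norm_num) fun a ha ho hd => by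
  obtain ⟨i, hi, hc, h1, h2⟩ := lt3.exists ha
  rw [ho] at h1
  rw [h2] at hd
  obtain rfl := (by decide +kernel : ∀ i < lt3_xs.length, 2 = nthN lt3_os i → 2 ^ 3 ∣ nthN lt3_cs i → 1 = i) i hi h1 hd
  exact ⟨_, hc, _, j3_G, EvG.cob_net p_hn p_hk (by decide +kernel)⟩

theorem Y1_U : grp 100 Y1 ≤ grp 100 EU :=
  grp_le_of_memB p_hn p_hk EU_ok Y1_ok (ws := [nat_lit 1]) (by decide +kernel)

theorem Y1_mem : ∀ y ∈ grp 100 Y1, y = 1 ∨ y = Net.toPerm 100 EvHT.t_g39 :=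
  fun _ hy => EvG.mem_single p_hn p_hk (by decide +kernel) (Y1_U hy)

theorem Y3_S : grp 100 Y3 ≤ grp 100 ES :=
  grp_le_of_memB p_hn p_hk ES_ok Y3_ok (ws := [nat_lit 1, nat_lit 3]) (by decide +kernel)

theorem Y3_mem : ∀ y ∈ grp 100 Y3, y = 1 ∨ y = Net.toPerm 100 EvHT.t_g77 ∨ y = Net.toPerm 100 p_g251 ∨ y = Net.toPerm 100 EvHT.t_g77 * Net.toPerm 100 p_g251 :=
  fun _ hy => EvG.mem_pair p_hn p_hk (by decide +kernel) (Y3_S hy)

theorem Y3_sq : ∀ y ∈ grp 100 Y3, y * y = 1 :=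
  fun _ hy => EvG.sq_pair p_hn p_hk (by decide +kernel) (Y3_S hy)

theorem w_G : Net.toPerm 100 p_g284 ∈ (grp 100 HSM.E) :=
  HSM.lb_le (mem_grp_of_memB p_hn p_hk HSM.lb_E_ok p_g284_ok (w := (nat_lit 0xe110a0c0c05030b)) (by decide +kernel))

theorem w_ord : orderOf (Net.toPerm 100 p_g284) = 4 :=
  orderOf_net p_hn p_hk p_g284_ok (by decide) (ps := [2]) (by set_option linter.unusedSimpArgs false in simp [Nat.primeFactorsList_ofNat]) (by decide +kernel)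

theorem w_s : Net.toPerm 100 p_g284 * Net.toPerm 100 EvHT.t_g77 = Net.toPerm 100 EvHT.t_g77 * Net.toPerm 100 p_g284 :=
  EvG.comm_net p_hn p_hk (by decide +kernel)

theorem w_u : Net.toPerm 100 p_g284 * Net.toPerm 100 p_g251 ≠ Net.toPerm 100 p_g251 * Net.toPerm 100 p_g284 :=
  EvG.ncomm_net (k := 7) p_hn (by decide +kernel)

theorem s_G : Net.toPerm 100 EvHT.t_g77 ∈ (grp 100 HSM.E) :=
  HSM.lb_le (mem_grp_of_memB p_hn p_hk HSM.lb_E_ok EvHT.t_g77_ok (w := (nat_lit 0x130d0c11050b070310)) (by decide +kernel))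

theorem EG_X : grp 100 EvHT.EG ≤ grp 100 EX :=
  grp_le_of_memB p_hn p_hk EX_ok EvHT.EG_ok (ws := [nat_lit 0x160f11130d0c07071403130301, nat_lit 3, nat_lit 5]) (by decide +kernel)

theorem u_G : Net.toPerm 100 EvHT.t_g39 ∉ (grp 100 HSM.E) :=
  fun h => by
  have h1 := Subgroup.card_le_of_le (EG_X.trans (grp_cons_le h HSM.lb_le))
  rw [EvHT.card_N, HSM.card_grp] at h1
  omega

theorem s1_G : Net.toPerm 100 p_g285 ∈ (grp 100 HSM.E) :=
  HSM.lb_le (mem_grp_of_memB p_hn p_hk HSM.lb_E_ok p_g285_ok (w := (nat_lit 0x130d0f0a110705010611)) (by decide +kernel))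

theorem p_le290 : grp 100 p_V289 ≤ grp 100 E3 :=
  grp_le_of_memB p_hn p_hk E3_ok p_V289_ok (ws := [nat_lit 0x202040103, nat_lit 2]) (by decide +kernel)

theorem E3lb_le : grp 100 E3lb_E ≤ grp 100 E3 :=
  (grp_cons_le ((le_refl (grp 100 E3)) (toPerm_mem_grp (E := E3) (by simp [E3]))) (grp_cons_le ((le_refl (grp 100 E3)) (toPerm_mem_grp (E := E3) (by simp [E3]))) (grp_cons_le ((p_le290.trans (le_refl (grp 100 E3))) (toPerm_mem_grp (E := p_V289) (by simp [p_V289]))) (grp_cons_le ((p_le290.trans (le_refl (grp 100 E3))) (toPerm_mem_grp (E := p_V289) (by simp [p_V289]))) (grp_nil_le _)))))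

noncomputable def E3lb_ch : Ch := (Ch.cons (nat_lit 1) [nat_lit 1, nat_lit 3] (Ch.cons (nat_lit 2) [nat_lit 5, nat_lit 7] Ch.nil))

theorem E3lb_chk : Ch.chk 100 7 (lab 100 7) E3lb_E E3lb_ch 9 = true :=
  by decide +kernel

theorem E3lb_ge : 9 ≤ Nat.card (grp 100 E3) :=
  (Ch.le_card_grp p_hn E3lb_E_ok E3lb_chk).trans (Subgroup.card_le_of_le E3lb_le)

theorem x3_G : Net.toPerm 100 p_g286 ∈ (grp 100 HSM.E) :=
  HSM.lb_le (mem_grp_of_memB p_hn p_hk HSM.lb_E_ok p_g286_ok (w := (nat_lit 0x120e091309)) (by decide +kernel))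

theorem y3_G : Net.toPerm 100 p_g287 ∈ (grp 100 HSM.E) :=
  HSM.lb_le (mem_grp_of_memB p_hn p_hk HSM.lb_E_ok p_g287_ok (w := (nat_lit 0x140e0f140c0c)) (by decide +kernel))

theorem x3_ord : orderOf (Net.toPerm 100 p_g286) = 3 :=
  orderOf_net p_hn p_hk p_g286_ok (by decide) (ps := [3]) (by set_option linter.unusedSimpArgs false in simp [Nat.primeFactorsList_ofNat]) (by decide +kernel)

theorem y3_ord : orderOf (Net.toPerm 100 p_g287) = 3 :=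
  orderOf_net p_hn p_hk p_g287_ok (by decide) (ps := [3]) (by set_option linter.unusedSimpArgs false in simp [Nat.primeFactorsList_ofNat]) (by decide +kernel)

theorem rank3 : ¬ PRankLE 3 1 (grp 100 HSM.E) :=
  EvG.not_rank x3_G y3_G (EvG.comm_net p_hn p_hk (by decide +kernel)) (x3_ord ▸ pow_orderOf_eq_one _) (y3_ord ▸ pow_orderOf_eq_one _)
    (by rw [← EvG.grp_pair]; exact le_trans (by norm_num) E3lb_ge)

theorem reps : ∀ σ ∈ (grp 100 EvHT.EG), orderOf σ = 2 → ∃ t ∈ ({Net.toPerm 100 EvHT.t_g39, Net.toPerm 100 EvHT.t_g60, Net.toPerm 100 EvHT.t_g77, Net.toPerm 100 EvHT.t_g103} : Set (Equiv.Perm (Fin 100))), CjIn (grp 100 EvHT.EG) t σ :=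
  fun σ hσ ho => by
  obtain ⟨i, hi, hc, h1, -⟩ := EvHT.nt.exists hσ
  rw [ho] at h1
  rcases (by decide +kernel : ∀ i < EvHT.nt_xs.length, 2 = nthN EvHT.nt_os i → 1 = i ∨ 2 = i ∨ 3 = i ∨ 4 = i) i hi h1 with rfl | rfl | rfl | rfl
  · exact ⟨_, .inl rfl, hc⟩
  · exact ⟨_, .inr (.inl rfl), hc⟩
  · exact ⟨_, .inr (.inr (.inl rfl)), hc⟩
  · exact ⟨_, .inr (.inr (.inr rfl)), hc⟩


universe u

open Cfsg.Agent.H62.EV EvG

theorem ky1 {α : MulAut (grp 100 HSM.E)} (hα : Ind (grp 100 HSM.E) (Net.toPerm 100 EvHT.t_g39) α) :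
    KY' α ((grp 100 L1).subgroupOf (grp 100 HSM.E)) :=
  cmp1.ky' EvHT.amb hα fun y hy h1 h2 => ((Y1_mem y hy).elim h1 h2).elim

theorem ks0 : KS (grp 100 HSM.E) := EvHT.amb.ks reps fun t ht α hα L hp => by
  rcases ht with rfl | rfl | rfl | rfl
  · obtain rfl := cmp1.eq EvHT.amb hα hp.comp
    have h := two_mul_dvd EvHT.nrm EvHT.G_le cmp1.mem cmp1.sq u_G
    rw [EvHT.nt_c1_card] at h
    exact ⟨hα.idx (k := 7) (c := 40320) (Nat.dvd_of_mul_dvd_mul_left two_pos h) (by norm_num)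
      (by rw [HSM.card_grp]; norm_num), cmp1.cen,
      cmp1.k2 EvHT.amb hα (by rw [Y1_card]; norm_num) rank3, (ky1 hα).ky, .inl (kf1 hα)⟩
  · exact (EvHT.amb.no_comp ch2 hα hp.comp).elim
  · obtain rfl := cmp3.eq EvHT.amb hα hp.comp
    refine ⟨hα.idx (k := 7) (c := 5760) (EvHT.nt_c3_card ▸ Subgroup.card_dvd_of_le
      (inf_le_inf_right _ EvHT.G_le)) (by norm_num) (by rw [HSM.card_grp]; norm_num), cmp3.cen,
      cmp3.k2 EvHT.amb hα (by rw [Y3_card]) rank3, cmp3.ky EvHT.amb hα w_G w_s (k := 2)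
        (orderOf_dvd_iff_pow_eq_one.1 (by rw [w_ord]; norm_num)) fun y hy h1 h2 => ?_, .inl (kf3 hα)⟩
    rcases Y3_mem y hy with rfl | rfl | rfl | rfl
    · exact absurd rfl h1
    · exact absurd rfl h2
    · exact w_u
    · exact fun e => w_u (mul_left_cancel (a := Net.toPerm 100 EvHT.t_g77)
        (by rw [← mul_assoc, ← w_s, mul_assoc, e, mul_assoc]))
  · exact (EvHT.amb.no_comp ch4 hα hp.comp).elim

theorem mult : HasCyclicSchurMultiplier (grp 100 HSM.E) 2 :=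
  H80.hasSchurMultiplier_congr_left H74.MHS.mult HSM.equiv

theorem lift {J : Type*} [Group J] [Finite J] {π : J →* (grp 100 HSM.E)} (hπ : Cover π) {x : Net}
    (h : Net.toPerm 100 x ∈ (grp 100 HSM.E)) (h1 : Net.toPerm 100 x * Net.toPerm 100 x = 1)
    (h2 : (Net.toPerm 100 x).support.card % 8 = 4) : Lift4 π ⟨_, h⟩ :=
  lift4_perm mult (grp 100 HSM.E).subtype (s := ⟨_, h⟩) (Subtype.ext ((pow_two _).trans h1)) h2 hπ

theorem kc0 : KCU.{u} (grp 100 HSM.E) := EvHT.amb.kcu reps fun J _ _ π hπ t ht α hα L hp => by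
  rcases ht with rfl | rfl | rfl | rfl
  · obtain rfl := cmp1.eq EvHT.amb hα hp.comp
    have h1 : Net.toPerm 100 p_g285 * Net.toPerm 100 p_g285 = 1 := sq_net p_hn p_hk (by decide +kernel)
    obtain ⟨e⟩ := A1
    refine ⟨kf1 hα, .inr (.inl (cmp1.cb EvHT.amb hα (fun y hy => ?_) (ky1 hα) (card_ker_eq mult hπ)
      s1_G (comm_net p_hn p_hk (by decide +kernel)) h1
        (lift hπ s1_G h1 (spin_net p_hn p_hk p_g285_ok (by decide +kernel)))
      (.inr ⟨fun h => ?_, fun y hy h => ?_⟩)))⟩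
    · rcases Y1_mem y hy with rfl | rfl
      · exact mul_one _
      · exact cmp1.sq
    · rw [card_out_congr e] at h
      exact absurd (h.trans (H1.KO.card_out_alt (by norm_num) (by norm_num))) (by norm_num)
    · exact (Y1_mem y hy).resolve_right fun e => u_G (e ▸ h)
  · exact (EvHT.amb.no_comp ch2 hα hp.comp).elim
  · obtain rfl := cmp3.eq EvHT.amb hα hp.comp
    exact ⟨kf3 hα, .inl (cmp3.ca EvHT.amb hα Y3_sq s_G (lift hπ s_G cmp3.sq
      (spin_net p_hn p_hk EvHT.t_g77_ok (by decide +kernel))))⟩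
  · exact (EvHT.amb.no_comp ch4 hα hp.comp).elim

theorem ksHS : KSFor.{u} (fun S _ => Spor.IsoHS S) := fun _ _ _ _ _ ⟨e⟩ =>
  KS.congr (HSM.equiv.symm.trans e.symm) ks0

theorem kcHS : KCFor.{u} (fun S _ => Spor.IsoHS S) := fun _ _ _ _ _ ⟨e⟩ =>
  KCU.kc (HSM.equiv.symm.trans e.symm) kc0

end Cfsg.Agent.H17.EvHS
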