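import Mathlib
import Cfsg.Agent.H43.Cent
import Cfsg.Agent.H17.EvQ
import Cfsg.Agent.S2061
import Cfsg.Agent.S2035

set_option autoImplicit false
set_option maxRecDepth 200000
set_option linter.style.longLine false

namespace Cfsg.Agent.H17.EvM12

open Cfsg.Agent.H43
open scoped Pointwise

theorem p_hn : NOk 24 := by decide

theorem p_hk : 24 ≤ 2 ^ 5 := by decide

noncomputable def p_g1 : Net := (Net.cons (nat_lit 1) (nat_lit 0x110540) (Net.cons (nat_lit 2) (nat_lit 0x300000) (Net.cons (nat_lit 4) (nat_lit 133632) (Net.cons (nat_lit 8) (nat_lit 128) (Net.cons (nat_lit 16) (nat_lit 168) (Net.cons (nat_lit 8) (nat_lit 130) (Net.cons (nat_lit 4) (nat_lit 66314) (Net.cons (nat_lit 2) (nat_lit 0x220022) (Net.cons (nat_lit 1) (nat_lit 0x110444) Net.nil)))))))))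

theorem p_g1_ok : Net.ok 24 p_g1 = true := by decide +kernel

noncomputable def p_g2 : Net := (Net.cons (nat_lit 1) (nat_lit 16404) (Net.cons (nat_lit 2) (nat_lit 0x122220) (Net.cons (nat_lit 4) (nat_lit 131072) (Net.cons (nat_lit 8) (nat_lit 99) (Net.cons (nat_lit 16) (nat_lit 99) (Net.cons (nat_lit 8) (nat_lit 202) (Net.cons (nat_lit 4) (nat_lit 526092) (Net.cons (nat_lit 2) (nat_lit 0x312221) (Net.cons (nat_lit 1) (nat_lit 0x400010) Net.nil)))))))))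

theorem p_g2_ok : Net.ok 24 p_g2 = true := by decide +kernel

noncomputable def E : List Net := [p_g1, p_g2]

theorem E_ok : okE 24 E = true := (okE_cons.2 ⟨p_g1_ok, (okE_cons.2 ⟨p_g2_ok, (okE_nil 24)⟩)⟩)

noncomputable def p_g3 : Net := (Net.cons (nat_lit 1) (nat_lit 0x410410) (Net.cons (nat_lit 2) (nat_lit 131872) (Net.cons (nat_lit 4) (nat_lit 721408) (Net.cons (nat_lit 8) (nat_lit 195) (Net.cons (nat_lit 16) (nat_lit 211) (Net.cons (nat_lit 8) (nat_lit 227) (Net.cons (nat_lit 4) (nat_lit 2568) (Net.cons (nat_lit 2) (nat_lit 8994) (Net.cons (nat_lit 1) (nat_lit 83220) Net.nil)))))))))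

theorem p_g3_ok : Net.ok 24 p_g3 = true := by decide +kernel

noncomputable def p_g4 : Net := (Net.cons (nat_lit 1) (nat_lit 5440) (Net.cons (nat_lit 2) (nat_lit 77840) (Net.cons (nat_lit 4) (nat_lit 919296) (Net.cons (nat_lit 8) (nat_lit 202) (Net.cons (nat_lit 16) (nat_lit 234) (Net.cons (nat_lit 8) (nat_lit 124) (Net.cons (nat_lit 4) (nat_lit 656646) (Net.cons (nat_lit 2) (nat_lit 0x103122) (Net.cons (nat_lit 1) (nat_lit 0x140500) Net.nil)))))))))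

theorem p_g4_ok : Net.ok 24 p_g4 = true := by decide +kernel

noncomputable def p_V5 : List Net := [p_g3, p_g4]

theorem p_V5_ok : okE 24 p_V5 = true := (okE_cons.2 ⟨p_g3_ok, (okE_cons.2 ⟨p_g4_ok, (okE_nil 24)⟩)⟩)

noncomputable def p_g7 : Net := (Net.cons (nat_lit 1) (nat_lit 0x415050) (Net.cons (nat_lit 2) (nat_lit 144144) (Net.cons (nat_lit 4) (nat_lit 851968) (Net.cons (nat_lit 8) (nat_lit 129) (Net.cons (nat_lit 16) (nat_lit 197) (Net.cons (nat_lit 8) (nat_lit 89) (Net.cons (nat_lit 4) (nat_lit 723460) (Net.cons (nat_lit 2) (nat_lit 0x213310) (Net.cons (nat_lit 1) (nat_lit 0x445454) Net.nil)))))))))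

theorem p_g7_ok : Net.ok 24 p_g7 = true := by decide +kernel

noncomputable def p_g8 : Net := (Net.cons (nat_lit 1) (nat_lit 262208) (Net.cons (nat_lit 2) (nat_lit 0x120300) (Net.cons (nat_lit 4) (nat_lit 525824) (Net.cons (nat_lit 8) (nat_lit 5) (Net.cons (nat_lit 16) (nat_lit 133) (Net.cons (nat_lit 8) (nat_lit 245) (Net.cons (nat_lit 4) (nat_lit 590596) (Net.cons (nat_lit 2) (nat_lit 0x210210) (Net.cons (nat_lit 1) (nat_lit 327684) Net.nil)))))))))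

theorem p_g8_ok : Net.ok 24 p_g8 = true := by decide +kernel

noncomputable def p_V9 : List Net := [p_g7, p_g8]

theorem p_V9_ok : okE 24 p_V9 = true := (okE_cons.2 ⟨p_g7_ok, (okE_cons.2 ⟨p_g8_ok, (okE_nil 24)⟩)⟩)

noncomputable def p_g11 : Net := (Net.cons (nat_lit 1) (nat_lit 0x155150) (Net.cons (nat_lit 2) (nat_lit 209184) (Net.cons (nat_lit 4) (nat_lit 721408) (Net.cons (nat_lit 8) (nat_lit 26) (Net.cons (nat_lit 16) (nat_lit 58) (Net.cons (nat_lit 8) (nat_lit 138) (Net.cons (nat_lit 4) (nat_lit 722440) (Net.cons (nat_lit 2) (nat_lit 78112) (Net.cons (nat_lit 1) (nat_lit 0x455050) Net.nil)))))))))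

theorem p_g11_ok : Net.ok 24 p_g11 = true := by decide +kernel

noncomputable def p_g12 : Net := (Net.cons (nat_lit 1) (nat_lit 0x454100) (Net.cons (nat_lit 2) (nat_lit 0x213000) (Net.cons (nat_lit 4) (nat_lit 656128) (Net.cons (nat_lit 8) (nat_lit 94) (Net.cons (nat_lit 16) (nat_lit 254) (Net.cons (nat_lit 8) (nat_lit 14) (Net.cons (nat_lit 4) (nat_lit 329216) (Net.cons (nat_lit 2) (nat_lit 0x302130) (Net.cons (nat_lit 1) (nat_lit 5200) Net.nil)))))))))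

theorem p_g12_ok : Net.ok 24 p_g12 = true := by decide +kernel

noncomputable def p_g13 : Net := (Net.cons (nat_lit 1) (nat_lit 0x140400) (Net.cons (nat_lit 2) (nat_lit 0x100300) (Net.cons (nat_lit 4) (nat_lit 265216) (Net.cons (nat_lit 8) (nat_lit 31) (Net.cons (nat_lit 16) (nat_lit 95) (Net.cons (nat_lit 8) (nat_lit 55) (Net.cons (nat_lit 4) (nat_lit 328192) (Net.cons (nat_lit 2) (nat_lit 0x233220) (Net.cons (nat_lit 1) (nat_lit 0x501440) Net.nil)))))))))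

theorem p_g13_ok : Net.ok 24 p_g13 = true := by decide +kernel

noncomputable def p_V14 : List Net := [p_g11, p_g12, p_g13]

theorem p_V14_ok : okE 24 p_V14 = true := (okE_cons.2 ⟨p_g11_ok, (okE_cons.2 ⟨p_g12_ok, (okE_cons.2 ⟨p_g13_ok, (okE_nil 24)⟩)⟩)⟩)

noncomputable def p_g16 : Net := (Net.cons (nat_lit 1) (nat_lit 0x540040) (Net.cons (nat_lit 2) (nat_lit 0x232200) (Net.cons (nat_lit 4) (nat_lit 65536) (Net.cons (nat_lit 8) (nat_lit 37) (Net.cons (nat_lit 16) (nat_lit 37) (Net.cons (nat_lit 8) (nat_lit 85) (Net.cons (nat_lit 4) (nat_lit 789760) (Net.cons (nat_lit 2) (nat_lit 78384) (Net.cons (nat_lit 1) (nat_lit 0x115510) Net.nil)))))))))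

theorem p_g16_ok : Net.ok 24 p_g16 = true := by decide +kernel

noncomputable def p_V17 : List Net := [p_g12, p_g16]

theorem p_V17_ok : okE 24 p_V17 = true := (okE_cons.2 ⟨p_g12_ok, (okE_cons.2 ⟨p_g16_ok, (okE_nil 24)⟩)⟩)

noncomputable def p_g19 : Net := (Net.cons (nat_lit 1) (nat_lit 345344) (Net.cons (nat_lit 2) (nat_lit 0x102100) (Net.cons (nat_lit 4) (nat_lit 68608) (Net.cons (nat_lit 8) (nat_lit 15) (Net.cons (nat_lit 16) (nat_lit 15) (Net.cons (nat_lit 8) (nat_lit 223) (Net.cons (nat_lit 4) (nat_lit 68608) (Net.cons (nat_lit 2) (nat_lit 0x102100) (Net.cons (nat_lit 1) (nat_lit 0x154500) Net.nil)))))))))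

theorem p_g19_ok : Net.ok 24 p_g19 = true := by decide +kernel

noncomputable def p_V20 : List Net := [p_g19, p_g19]

theorem p_V20_ok : okE 24 p_V20 = true := (okE_cons.2 ⟨p_g19_ok, (okE_cons.2 ⟨p_g19_ok, (okE_nil 24)⟩)⟩)

noncomputable def lb_E : List Net := [p_g1, p_g2, p_g3, p_g4, p_g7, p_g8, p_g11, p_g12, p_g13, p_g12, p_g16, p_g19, p_g19]

theorem lb_E_ok : okE 24 lb_E = true := (okE_cons.2 ⟨p_g1_ok, (okE_cons.2 ⟨p_g2_ok, (okE_cons.2 ⟨p_g3_ok, (okE_cons.2 ⟨p_g4_ok, (okE_cons.2 ⟨p_g7_ok, (okE_cons.2 ⟨p_g8_ok, (okE_cons.2 ⟨p_g11_ok, (okE_cons.2 ⟨p_g12_ok, (okE_cons.2 ⟨p_g13_ok, (okE_cons.2 ⟨p_g12_ok, (okE_cons.2 ⟨p_g16_ok, (okE_cons.2 ⟨p_g19_ok, (okE_cons.2 ⟨p_g19_ok, (okE_nil 24)⟩)⟩)⟩)⟩)⟩)⟩)⟩)⟩)⟩)⟩)⟩)⟩)⟩)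

noncomputable def p_g22 : Net := (Net.cons (nat_lit 1) (nat_lit 0x140110) (Net.cons (nat_lit 2) (nat_lit 196640) (Net.cons (nat_lit 4) (nat_lit 133120) (Net.cons (nat_lit 8) (nat_lit 16) (Net.cons (nat_lit 16) (nat_lit 243) (Net.cons (nat_lit 8) (nat_lit 244) (Net.cons (nat_lit 4) (nat_lit 462344) (Net.cons (nat_lit 2) (nat_lit 0x112311) (Net.cons (nat_lit 1) (nat_lit 0x154504) Net.nil)))))))))

theorem p_g22_ok : Net.ok 24 p_g22 = true := by decide +kernel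

noncomputable def EG : List Net := [p_g22, p_g1, p_g2]

theorem EG_ok : okE 24 EG = true := (okE_cons.2 ⟨p_g22_ok, (okE_cons.2 ⟨p_g1_ok, (okE_cons.2 ⟨p_g2_ok, (okE_nil 24)⟩)⟩)⟩)

noncomputable def p_V23 : List Net := [p_g22]

theorem p_V23_ok : okE 24 p_V23 = true := (okE_cons.2 ⟨p_g22_ok, (okE_nil 24)⟩)

noncomputable def p_g25 : Net := (Net.cons (nat_lit 1) (nat_lit 66644) (Net.cons (nat_lit 2) (nat_lit 0x123000) (Net.cons (nat_lit 4) (nat_lit 525312) (Net.cons (nat_lit 8) (nat_lit 44) (Net.cons (nat_lit 16) (nat_lit 188) (Net.cons (nat_lit 8) (nat_lit 58) (Net.cons (nat_lit 4) (nat_lit 593418) (Net.cons (nat_lit 2) (nat_lit 0x121232) (Net.cons (nat_lit 1) (nat_lit 65616) Net.nil)))))))))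

theorem p_g25_ok : Net.ok 24 p_g25 = true := by decide +kernel

noncomputable def p_g26 : Net := (Net.cons (nat_lit 1) (nat_lit 327684) (Net.cons (nat_lit 2) (nat_lit 0x103210) (Net.cons (nat_lit 4) (nat_lit 393472) (Net.cons (nat_lit 8) (nat_lit 44) (Net.cons (nat_lit 16) (nat_lit 60) (Net.cons (nat_lit 8) (nat_lit 154) (Net.cons (nat_lit 4) (nat_lit 199950) (Net.cons (nat_lit 2) (nat_lit 12544) (Net.cons (nat_lit 1) (nat_lit 0x444440) Net.nil)))))))))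

theorem p_g26_ok : Net.ok 24 p_g26 = true := by decide +kernel

noncomputable def p_V27 : List Net := [p_g25, p_g26]

theorem p_V27_ok : okE 24 p_V27 = true := (okE_cons.2 ⟨p_g25_ok, (okE_cons.2 ⟨p_g26_ok, (okE_nil 24)⟩)⟩)

noncomputable def p_g29 : Net := (Net.cons (nat_lit 1) (nat_lit 262416) (Net.cons (nat_lit 2) (nat_lit 69664) (Net.cons (nat_lit 4) (nat_lit 723456) (Net.cons (nat_lit 8) (nat_lit 133) (Net.cons (nat_lit 16) (nat_lit 189) (Net.cons (nat_lit 8) (nat_lit 41) (Net.cons (nat_lit 4) (nat_lit 393482) (Net.cons (nat_lit 2) (nat_lit 0x103132) (Net.cons (nat_lit 1) (nat_lit 283712) Net.nil)))))))))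

theorem p_g29_ok : Net.ok 24 p_g29 = true := by decide +kernel

noncomputable def p_V30 : List Net := [p_g29]

theorem p_V30_ok : okE 24 p_V30 = true := (okE_cons.2 ⟨p_g29_ok, (okE_nil 24)⟩)

noncomputable def p_g32 : Net := (Net.cons (nat_lit 1) (nat_lit 0x454440) (Net.cons (nat_lit 2) (nat_lit 139536) (Net.cons (nat_lit 4) (nat_lit 593408) (Net.cons (nat_lit 8) (nat_lit 129) (Net.cons (nat_lit 16) (nat_lit 133) (Net.cons (nat_lit 8) (nat_lit 37) (Net.cons (nat_lit 4) (nat_lit 526598) (Net.cons (nat_lit 2) (nat_lit 0x103202) (Net.cons (nat_lit 1) (nat_lit 0x515550) Net.nil)))))))))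

theorem p_g32_ok : Net.ok 24 p_g32 = true := by decide +kernel

noncomputable def p_g33 : Net := (Net.cons (nat_lit 1) (nat_lit 0x554110) (Net.cons (nat_lit 2) (nat_lit 0x111030) (Net.cons (nat_lit 4) (nat_lit 787456) (Net.cons (nat_lit 8) (nat_lit 16) (Net.cons (nat_lit 16) (nat_lit 240) (Net.cons (nat_lit 8) (nat_lit 60) (Net.cons (nat_lit 4) (nat_lit 853514) (Net.cons (nat_lit 2) (nat_lit 135714) (Net.cons (nat_lit 1) (nat_lit 0x455540) Net.nil)))))))))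

theorem p_g33_ok : Net.ok 24 p_g33 = true := by decide +kernel

noncomputable def p_V34 : List Net := [p_g32, p_g33]

theorem p_V34_ok : okE 24 p_V34 = true := (okE_cons.2 ⟨p_g32_ok, (okE_cons.2 ⟨p_g33_ok, (okE_nil 24)⟩)⟩)

noncomputable def p_g36 : Net := (Net.cons (nat_lit 1) (nat_lit 0x515550) (Net.cons (nat_lit 2) (nat_lit 0x121020) (Net.cons (nat_lit 4) (nat_lit 462336) (Net.cons (nat_lit 8) (nat_lit 80) (Net.cons (nat_lit 16) (nat_lit 112) (Net.cons (nat_lit 8) (nat_lit 56) (Net.cons (nat_lit 4) (nat_lit 393996) (Net.cons (nat_lit 2) (nat_lit 818) (Net.cons (nat_lit 1) (nat_lit 0x454440) Net.nil)))))))))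

theorem p_g36_ok : Net.ok 24 p_g36 = true := by decide +kernel

noncomputable def p_V37 : List Net := [p_g36]

theorem p_V37_ok : okE 24 p_V37 = true := (okE_cons.2 ⟨p_g36_ok, (okE_nil 24)⟩)

noncomputable def p_g39 : Net := (Net.cons (nat_lit 1) (nat_lit 0x450544) (Net.cons (nat_lit 2) (nat_lit 0x230020) (Net.cons (nat_lit 4) (nat_lit 133376) (Net.cons (nat_lit 8) (nat_lit 4) (Net.cons (nat_lit 16) (nat_lit 228) (Net.cons (nat_lit 8) (nat_lit 182) (Net.cons (nat_lit 4) (nat_lit 134144) (Net.cons (nat_lit 2) (nat_lit 0x330022) (Net.cons (nat_lit 1) (nat_lit 0x450544) Net.nil)))))))))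

theorem p_g39_ok : Net.ok 24 p_g39 = true := by decide +kernel

noncomputable def p_g40 : Net := (Net.cons (nat_lit 1) (nat_lit 0x415410) (Net.cons (nat_lit 2) (nat_lit 0x230220) (Net.cons (nat_lit 4) (nat_lit 262656) (Net.cons (nat_lit 8) (nat_lit 141) (Net.cons (nat_lit 16) (nat_lit 141) (Net.cons (nat_lit 8) (nat_lit 253) (Net.cons (nat_lit 4) (nat_lit 262664) (Net.cons (nat_lit 2) (nat_lit 0x231230) (Net.cons (nat_lit 1) (nat_lit 0x415410) Net.nil)))))))))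

theorem p_g40_ok : Net.ok 24 p_g40 = true := by decide +kernel

noncomputable def p_V41 : List Net := [p_g39, p_g40]

theorem p_V41_ok : okE 24 p_V41 = true := (okE_cons.2 ⟨p_g39_ok, (okE_cons.2 ⟨p_g40_ok, (okE_nil 24)⟩)⟩)

noncomputable def p_g43 : Net := (Net.cons (nat_lit 1) (nat_lit 279876) (Net.cons (nat_lit 2) (nat_lit 0x113210) (Net.cons (nat_lit 4) (nat_lit 1024) (Net.cons (nat_lit 8) (nat_lit 64) (Net.cons (nat_lit 16) (nat_lit 76) (Net.cons (nat_lit 8) (nat_lit 212) (Net.cons (nat_lit 4) (nat_lit 134144) (Net.cons (nat_lit 2) (nat_lit 0x313212) (Net.cons (nat_lit 1) (nat_lit 262468) Net.nil)))))))))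

theorem p_g43_ok : Net.ok 24 p_g43 = true := by decide +kernel

noncomputable def p_V44 : List Net := [p_g43]

theorem p_V44_ok : okE 24 p_V44 = true := (okE_cons.2 ⟨p_g43_ok, (okE_nil 24)⟩)

noncomputable def p_g46 : Net := (Net.cons (nat_lit 1) (nat_lit 0x450544) (Net.cons (nat_lit 2) (nat_lit 0x112200) (Net.cons (nat_lit 4) (nat_lit 525824) (Net.cons (nat_lit 8) (nat_lit 164) (Net.cons (nat_lit 16) (nat_lit 228) (Net.cons (nat_lit 8) (nat_lit 28) (Net.cons (nat_lit 4) (nat_lit 525056) (Net.cons (nat_lit 2) (nat_lit 74242) (Net.cons (nat_lit 1) (nat_lit 0x450544) Net.nil)))))))))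

theorem p_g46_ok : Net.ok 24 p_g46 = true := by decide +kernel

noncomputable def p_g47 : Net := (Net.cons (nat_lit 1) (nat_lit 0x540544) (Net.cons (nat_lit 2) (nat_lit 0x100200) (Net.cons (nat_lit 4) (nat_lit 589824) (Net.cons (nat_lit 8) (nat_lit 178) (Net.cons (nat_lit 16) (nat_lit 242) (Net.cons (nat_lit 8) (nat_lit 130) (Net.cons (nat_lit 4) (nat_lit 723464) (Net.cons (nat_lit 2) (nat_lit 139778) (Net.cons (nat_lit 1) (nat_lit 0x544544) Net.nil)))))))))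

theorem p_g47_ok : Net.ok 24 p_g47 = true := by decide +kernel

noncomputable def p_V48 : List Net := [p_g46, p_g47]

theorem p_V48_ok : okE 24 p_V48 = true := (okE_cons.2 ⟨p_g46_ok, (okE_cons.2 ⟨p_g47_ok, (okE_nil 24)⟩)⟩)

noncomputable def p_V50 : List Net := [p_g47]

theorem p_V50_ok : okE 24 p_V50 = true := (okE_cons.2 ⟨p_g47_ok, (okE_nil 24)⟩)

noncomputable def p_V52 : List Net := [p_g46, p_g39]

theorem p_V52_ok : okE 24 p_V52 = true := (okE_cons.2 ⟨p_g46_ok, (okE_cons.2 ⟨p_g39_ok, (okE_nil 24)⟩)⟩)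

noncomputable def p_V54 : List Net := [p_g46]

theorem p_V54_ok : okE 24 p_V54 = true := (okE_cons.2 ⟨p_g46_ok, (okE_nil 24)⟩)

noncomputable def N_E6 : List Net := []

theorem N_E6_ok : okE 24 N_E6 = true := (okE_nil 24)

noncomputable def N_G5 : List Net := [p_g46]

theorem N_G5_ok : okE 24 N_G5 = true := (okE_cons.2 ⟨p_g46_ok, (okE_nil 24)⟩)

noncomputable def N_E5 : List Net := [p_g46, p_g39]

theorem N_E5_ok : okE 24 N_E5 = true := (okE_cons.2 ⟨p_g46_ok, (okE_cons.2 ⟨p_g39_ok, (okE_nil 24)⟩)⟩)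

noncomputable def N_G4 : List Net := [p_g47, p_g46, p_g39]

theorem N_G4_ok : okE 24 N_G4 = true := (okE_cons.2 ⟨p_g47_ok, (okE_cons.2 ⟨p_g46_ok, (okE_cons.2 ⟨p_g39_ok, (okE_nil 24)⟩)⟩)⟩)

noncomputable def N_E4 : List Net := [p_g47, p_g46, p_g39]

theorem N_E4_ok : okE 24 N_E4 = true := (okE_cons.2 ⟨p_g47_ok, (okE_cons.2 ⟨p_g46_ok, (okE_cons.2 ⟨p_g39_ok, (okE_nil 24)⟩)⟩)⟩)

noncomputable def N_G3 : List Net := [p_g43, p_g47, p_g46, p_g39]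

theorem N_G3_ok : okE 24 N_G3 = true := (okE_cons.2 ⟨p_g43_ok, (okE_cons.2 ⟨p_g47_ok, (okE_cons.2 ⟨p_g46_ok, (okE_cons.2 ⟨p_g39_ok, (okE_nil 24)⟩)⟩)⟩)⟩)

noncomputable def N_E3 : List Net := [p_g43, p_g40, p_g47, p_g46, p_g39]

theorem N_E3_ok : okE 24 N_E3 = true := (okE_cons.2 ⟨p_g43_ok, (okE_cons.2 ⟨p_g40_ok, (okE_cons.2 ⟨p_g47_ok, (okE_cons.2 ⟨p_g46_ok, (okE_cons.2 ⟨p_g39_ok, (okE_nil 24)⟩)⟩)⟩)⟩)⟩)

noncomputable def N_G2 : List Net := [p_g36, p_g43, p_g40, p_g47, p_g46, p_g39]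

theorem N_G2_ok : okE 24 N_G2 = true := (okE_cons.2 ⟨p_g36_ok, (okE_cons.2 ⟨p_g43_ok, (okE_cons.2 ⟨p_g40_ok, (okE_cons.2 ⟨p_g47_ok, (okE_cons.2 ⟨p_g46_ok, (okE_cons.2 ⟨p_g39_ok, (okE_nil 24)⟩)⟩)⟩)⟩)⟩)⟩)

noncomputable def N_E2 : List Net := [p_g36, p_g32, p_g33, p_g43, p_g40, p_g47, p_g46, p_g39]

theorem N_E2_ok : okE 24 N_E2 = true := (okE_cons.2 ⟨p_g36_ok, (okE_cons.2 ⟨p_g32_ok, (okE_cons.2 ⟨p_g33_ok, (okE_cons.2 ⟨p_g43_ok, (okE_cons.2 ⟨p_g40_ok, (okE_cons.2 ⟨p_g47_ok, (okE_cons.2 ⟨p_g46_ok, (okE_cons.2 ⟨p_g39_ok, (okE_nil 24)⟩)⟩)⟩)⟩)⟩)⟩)⟩)⟩)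

noncomputable def N_G1 : List Net := [p_g29, p_g36, p_g32, p_g33, p_g43, p_g40, p_g47, p_g46, p_g39]

theorem N_G1_ok : okE 24 N_G1 = true := (okE_cons.2 ⟨p_g29_ok, (okE_cons.2 ⟨p_g36_ok, (okE_cons.2 ⟨p_g32_ok, (okE_cons.2 ⟨p_g33_ok, (okE_cons.2 ⟨p_g43_ok, (okE_cons.2 ⟨p_g40_ok, (okE_cons.2 ⟨p_g47_ok, (okE_cons.2 ⟨p_g46_ok, (okE_cons.2 ⟨p_g39_ok, (okE_nil 24)⟩)⟩)⟩)⟩)⟩)⟩)⟩)⟩)⟩)

noncomputable def N_E1 : List Net := [p_g29, p_g25, p_g26, p_g36, p_g32, p_g33, p_g43, p_g40, p_g47, p_g46, p_g39]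

theorem N_E1_ok : okE 24 N_E1 = true := (okE_cons.2 ⟨p_g29_ok, (okE_cons.2 ⟨p_g25_ok, (okE_cons.2 ⟨p_g26_ok, (okE_cons.2 ⟨p_g36_ok, (okE_cons.2 ⟨p_g32_ok, (okE_cons.2 ⟨p_g33_ok, (okE_cons.2 ⟨p_g43_ok, (okE_cons.2 ⟨p_g40_ok, (okE_cons.2 ⟨p_g47_ok, (okE_cons.2 ⟨p_g46_ok, (okE_cons.2 ⟨p_g39_ok, (okE_nil 24)⟩)⟩)⟩)⟩)⟩)⟩)⟩)⟩)⟩)⟩)⟩)

noncomputable def N_G0 : List Net := [p_g22, p_g29, p_g25, p_g26, p_g36, p_g32, p_g33, p_g43, p_g40, p_g47, p_g46, p_g39]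

theorem N_G0_ok : okE 24 N_G0 = true := (okE_cons.2 ⟨p_g22_ok, (okE_cons.2 ⟨p_g29_ok, (okE_cons.2 ⟨p_g25_ok, (okE_cons.2 ⟨p_g26_ok, (okE_cons.2 ⟨p_g36_ok, (okE_cons.2 ⟨p_g32_ok, (okE_cons.2 ⟨p_g33_ok, (okE_cons.2 ⟨p_g43_ok, (okE_cons.2 ⟨p_g40_ok, (okE_cons.2 ⟨p_g47_ok, (okE_cons.2 ⟨p_g46_ok, (okE_cons.2 ⟨p_g39_ok, (okE_nil 24)⟩)⟩)⟩)⟩)⟩)⟩)⟩)⟩)⟩)⟩)⟩)⟩)

noncomputable def N_E0 : List Net := [p_g22, p_g1, p_g2, p_g29, p_g25, p_g26, p_g36, p_g32, p_g33, p_g43, p_g40, p_g47, p_g46, p_g39]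

theorem N_E0_ok : okE 24 N_E0 = true := (okE_cons.2 ⟨p_g22_ok, (okE_cons.2 ⟨p_g1_ok, (okE_cons.2 ⟨p_g2_ok, (okE_cons.2 ⟨p_g29_ok, (okE_cons.2 ⟨p_g25_ok, (okE_cons.2 ⟨p_g26_ok, (okE_cons.2 ⟨p_g36_ok, (okE_cons.2 ⟨p_g32_ok, (okE_cons.2 ⟨p_g33_ok, (okE_cons.2 ⟨p_g43_ok, (okE_cons.2 ⟨p_g40_ok, (okE_cons.2 ⟨p_g47_ok, (okE_cons.2 ⟨p_g46_ok, (okE_cons.2 ⟨p_g39_ok, (okE_nil 24)⟩)⟩)⟩)⟩)⟩)⟩)⟩)⟩)⟩)⟩)⟩)⟩)⟩)⟩)

noncomputable def Z : List Net := []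

theorem Z_ok : okE 24 Z = true := (okE_nil 24)

noncomputable def p_V70 : List Net := [p_g29, p_g25, p_g26, p_g36, p_g32, p_g33, p_g43, p_g40, p_g47, p_g46, p_g39]

theorem p_V70_ok : okE 24 p_V70 = true := (okE_cons.2 ⟨p_g29_ok, (okE_cons.2 ⟨p_g25_ok, (okE_cons.2 ⟨p_g26_ok, (okE_cons.2 ⟨p_g36_ok, (okE_cons.2 ⟨p_g32_ok, (okE_cons.2 ⟨p_g33_ok, (okE_cons.2 ⟨p_g43_ok, (okE_cons.2 ⟨p_g40_ok, (okE_cons.2 ⟨p_g47_ok, (okE_cons.2 ⟨p_g46_ok, (okE_cons.2 ⟨p_g39_ok, (okE_nil 24)⟩)⟩)⟩)⟩)⟩)⟩)⟩)⟩)⟩)⟩)⟩)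

noncomputable def p_V71 : List Net := [p_g36, p_g32, p_g33, p_g43, p_g40, p_g47, p_g46, p_g39]

theorem p_V71_ok : okE 24 p_V71 = true := (okE_cons.2 ⟨p_g36_ok, (okE_cons.2 ⟨p_g32_ok, (okE_cons.2 ⟨p_g33_ok, (okE_cons.2 ⟨p_g43_ok, (okE_cons.2 ⟨p_g40_ok, (okE_cons.2 ⟨p_g47_ok, (okE_cons.2 ⟨p_g46_ok, (okE_cons.2 ⟨p_g39_ok, (okE_nil 24)⟩)⟩)⟩)⟩)⟩)⟩)⟩)⟩)

noncomputable def p_V72 : List Net := [p_g43, p_g40, p_g47, p_g46, p_g39]

theorem p_V72_ok : okE 24 p_V72 = true := (okE_cons.2 ⟨p_g43_ok, (okE_cons.2 ⟨p_g40_ok, (okE_cons.2 ⟨p_g47_ok, (okE_cons.2 ⟨p_g46_ok, (okE_cons.2 ⟨p_g39_ok, (okE_nil 24)⟩)⟩)⟩)⟩)⟩)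

noncomputable def p_V73 : List Net := [p_g47, p_g46, p_g39]

theorem p_V73_ok : okE 24 p_V73 = true := (okE_cons.2 ⟨p_g47_ok, (okE_cons.2 ⟨p_g46_ok, (okE_cons.2 ⟨p_g39_ok, (okE_nil 24)⟩)⟩)⟩)

noncomputable def p_V74 : List Net := [p_g46, p_g39]

theorem p_V74_ok : okE 24 p_V74 = true := (okE_cons.2 ⟨p_g46_ok, (okE_cons.2 ⟨p_g39_ok, (okE_nil 24)⟩)⟩)

noncomputable def p_V75 : List Net := []

theorem p_V75_ok : okE 24 p_V75 = true := (okE_nil 24)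

noncomputable def Z_cnt_EG : List Net := [p_g22, p_g1, p_g2, p_g29, p_g25, p_g26, p_g36, p_g32, p_g33, p_g43, p_g40, p_g47, p_g46, p_g39]

theorem Z_cnt_EG_ok : okE 24 Z_cnt_EG = true := (okE_cons.2 ⟨p_g22_ok, (okE_cons.2 ⟨p_g1_ok, (okE_cons.2 ⟨p_g2_ok, (okE_cons.2 ⟨p_g29_ok, (okE_cons.2 ⟨p_g25_ok, (okE_cons.2 ⟨p_g26_ok, (okE_cons.2 ⟨p_g36_ok, (okE_cons.2 ⟨p_g32_ok, (okE_cons.2 ⟨p_g33_ok, (okE_cons.2 ⟨p_g43_ok, (okE_cons.2 ⟨p_g40_ok, (okE_cons.2 ⟨p_g47_ok, (okE_cons.2 ⟨p_g46_ok, (okE_cons.2 ⟨p_g39_ok, (okE_nil 24)⟩)⟩)⟩)⟩)⟩)⟩)⟩)⟩)⟩)⟩)⟩)⟩)⟩)⟩)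

noncomputable def p_g76 : Net := (Net.cons (nat_lit 1) (nat_lit 0x144414) (Net.cons (nat_lit 2) (nat_lit 0x102310) (Net.cons (nat_lit 4) (nat_lit 918528) (Net.cons (nat_lit 8) (nat_lit 7) (Net.cons (nat_lit 16) (nat_lit 159) (Net.cons (nat_lit 8) (nat_lit 110) (Net.cons (nat_lit 4) (nat_lit 459264) (Net.cons (nat_lit 2) (nat_lit 0x132013) (Net.cons (nat_lit 1) (nat_lit 0x411141) Net.nil)))))))))

theorem p_g76_ok : Net.ok 24 p_g76 = true := by decide +kernel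

noncomputable def p_g77 : Net := (Net.cons (nat_lit 1) (nat_lit 0x414140) (Net.cons (nat_lit 2) (nat_lit 0x213030) (Net.cons (nat_lit 4) (nat_lit 655360) (Net.cons (nat_lit 8) (nat_lit 144) (Net.cons (nat_lit 16) (nat_lit 214) (Net.cons (nat_lit 8) (nat_lit 164) (Net.cons (nat_lit 4) (nat_lit 197903) (Net.cons (nat_lit 2) (nat_lit 0x203201) (Net.cons (nat_lit 1) (nat_lit 0x441010) Net.nil)))))))))

theorem p_g77_ok : Net.ok 24 p_g77 = true := by decide +kernel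

noncomputable def p_g78 : Net := (Net.cons (nat_lit 1) (nat_lit 0x155110) (Net.cons (nat_lit 2) (nat_lit 0x323010) (Net.cons (nat_lit 4) (nat_lit 917504) (Net.cons (nat_lit 8) (nat_lit 62) (Net.cons (nat_lit 16) (nat_lit 62) (Net.cons (nat_lit 8) (nat_lit 236) (Net.cons (nat_lit 4) (nat_lit 787470) (Net.cons (nat_lit 2) (nat_lit 0x100022) (Net.cons (nat_lit 1) (nat_lit 0x455114) Net.nil)))))))))

theorem p_g78_ok : Net.ok 24 p_g78 = true := by decide +kernel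

noncomputable def p_g79 : Net := (Net.cons (nat_lit 1) (nat_lit 278784) (Net.cons (nat_lit 2) (nat_lit 0x222010) (Net.cons (nat_lit 4) (nat_lit 264192) (Net.cons (nat_lit 8) (nat_lit 4) (Net.cons (nat_lit 16) (nat_lit 134) (Net.cons (nat_lit 8) (nat_lit 166) (Net.cons (nat_lit 4) (nat_lit 265220) (Net.cons (nat_lit 2) (nat_lit 0x212000) (Net.cons (nat_lit 1) (nat_lit 0x514104) Net.nil)))))))))

theorem p_g79_ok : Net.ok 24 p_g79 = true := by decide +kernel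

noncomputable def nt_c1_K : List Net := [p_g77, p_g78, p_g79]

theorem nt_c1_K_ok : okE 24 nt_c1_K = true := (okE_cons.2 ⟨p_g77_ok, (okE_cons.2 ⟨p_g78_ok, (okE_cons.2 ⟨p_g79_ok, (okE_nil 24)⟩)⟩)⟩)

noncomputable def p_g81 : Net := (Net.cons (nat_lit 1) (nat_lit 327680) (Net.cons (nat_lit 2) (nat_lit 0x233020) (Net.cons (nat_lit 4) (nat_lit 68608) (Net.cons (nat_lit 8) (nat_lit 240) (Net.cons (nat_lit 16) (nat_lit 248) (Net.cons (nat_lit 8) (nat_lit 124) (Net.cons (nat_lit 4) (nat_lit 329984) (Net.cons (nat_lit 2) (nat_lit 0x302100) (Net.cons (nat_lit 1) (nat_lit 0x454100) Net.nil)))))))))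

theorem p_g81_ok : Net.ok 24 p_g81 = true := by decide +kernel

noncomputable def p_g82 : Net := (Net.cons (nat_lit 1) (nat_lit 0x545100) (Net.cons (nat_lit 2) (nat_lit 0x323020) (Net.cons (nat_lit 4) (nat_lit 656896) (Net.cons (nat_lit 8) (nat_lit 90) (Net.cons (nat_lit 16) (nat_lit 254) (Net.cons (nat_lit 8) (nat_lit 150) (Net.cons (nat_lit 4) (nat_lit 131080) (Net.cons (nat_lit 2) (nat_lit 0x201222) (Net.cons (nat_lit 1) (nat_lit 0x101140) Net.nil)))))))))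

theorem p_g82_ok : Net.ok 24 p_g82 = true := by decide +kernel

noncomputable def p_g83 : Net := (Net.cons (nat_lit 1) (nat_lit 0x450000) (Net.cons (nat_lit 2) (nat_lit 0x220200) (Net.cons (nat_lit 8) (nat_lit 102) (Net.cons (nat_lit 16) (nat_lit 230) (Net.cons (nat_lit 8) (nat_lit 238) (Net.cons (nat_lit 4) (nat_lit 459520) (Net.cons (nat_lit 2) (nat_lit 0x220222) (Net.cons (nat_lit 1) (nat_lit 0x451004) Net.nil))))))))

theorem p_g83_ok : Net.ok 24 p_g83 = true := by decide +kernel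

noncomputable def p_g84 : Net := (Net.cons (nat_lit 1) (nat_lit 0x144154) (Net.cons (nat_lit 2) (nat_lit 0x111200) (Net.cons (nat_lit 4) (nat_lit 197120) (Net.cons (nat_lit 8) (nat_lit 176) (Net.cons (nat_lit 16) (nat_lit 248) (Net.cons (nat_lit 8) (nat_lit 238) (Net.cons (nat_lit 4) (nat_lit 198148) (Net.cons (nat_lit 2) (nat_lit 0x211210) (Net.cons (nat_lit 1) (nat_lit 0x441054) Net.nil)))))))))

theorem p_g84_ok : Net.ok 24 p_g84 = true := by decide +kernel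

noncomputable def p_V85 : List Net := [p_g81, p_g82, p_g83, p_g84]

theorem p_V85_ok : okE 24 p_V85 = true := (okE_cons.2 ⟨p_g81_ok, (okE_cons.2 ⟨p_g82_ok, (okE_cons.2 ⟨p_g83_ok, (okE_cons.2 ⟨p_g84_ok, (okE_nil 24)⟩)⟩)⟩)⟩)

noncomputable def p_V87 : List Net := [p_g82, p_g83, p_g84]

theorem p_V87_ok : okE 24 p_V87 = true := (okE_cons.2 ⟨p_g82_ok, (okE_cons.2 ⟨p_g83_ok, (okE_cons.2 ⟨p_g84_ok, (okE_nil 24)⟩)⟩)⟩)

noncomputable def p_V88 : List Net := [p_g83, p_g84]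

theorem p_V88_ok : okE 24 p_V88 = true := (okE_cons.2 ⟨p_g83_ok, (okE_cons.2 ⟨p_g84_ok, (okE_nil 24)⟩)⟩)

noncomputable def p_V89 : List Net := []

theorem p_V89_ok : okE 24 p_V89 = true := (okE_nil 24)

noncomputable def nt_c1_cnt_EG : List Net := [p_g29, p_g25, p_g26, p_g36, p_g32, p_g33, p_g43, p_g40, p_g47, p_g46, p_g39, p_g22, p_g1, p_g2, p_g82, p_g83, p_g84, p_g81]

theorem nt_c1_cnt_EG_ok : okE 24 nt_c1_cnt_EG = true := (okE_cons.2 ⟨p_g29_ok, (okE_cons.2 ⟨p_g25_ok, (okE_cons.2 ⟨p_g26_ok, (okE_cons.2 ⟨p_g36_ok, (okE_cons.2 ⟨p_g32_ok, (okE_cons.2 ⟨p_g33_ok, (okE_cons.2 ⟨p_g43_ok, (okE_cons.2 ⟨p_g40_ok, (okE_cons.2 ⟨p_g47_ok, (okE_cons.2 ⟨p_g46_ok, (okE_cons.2 ⟨p_g39_ok, (okE_cons.2 ⟨p_g22_ok, (okE_cons.2 ⟨p_g1_ok, (okE_cons.2 ⟨p_g2_ok, (okE_cons.2 ⟨p_g82_ok, (okE_cons.2 ⟨p_g83_ok, (okE_cons.2 ⟨p_g84_ok, (okE_cons.2 ⟨p_g81_ok, (okE_nil 24)⟩)⟩)⟩)⟩)⟩)⟩)⟩)⟩)⟩)⟩)⟩)⟩)⟩)⟩)⟩)⟩)⟩)⟩)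

noncomputable def p_g90 : Net := (Net.cons (nat_lit 1) (nat_lit 0x411400) (Net.cons (nat_lit 2) (nat_lit 0x200100) (Net.cons (nat_lit 4) (nat_lit 590592) (Net.cons (nat_lit 8) (nat_lit 18) (Net.cons (nat_lit 16) (nat_lit 182) (Net.cons (nat_lit 8) (nat_lit 19) (Net.cons (nat_lit 4) (nat_lit 590592) (Net.cons (nat_lit 2) (nat_lit 0x200102) (Net.cons (nat_lit 1) (nat_lit 0x511400) Net.nil)))))))))

theorem p_g90_ok : Net.ok 24 p_g90 = true := by decide +kernel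

noncomputable def p_g91 : Net := (Net.cons (nat_lit 1) (nat_lit 0x104510) (Net.cons (nat_lit 2) (nat_lit 12320) (Net.cons (nat_lit 4) (nat_lit 787456) (Net.cons (nat_lit 8) (nat_lit 134) (Net.cons (nat_lit 16) (nat_lit 191) (Net.cons (nat_lit 8) (nat_lit 108) (Net.cons (nat_lit 4) (nat_lit 460045) (Net.cons (nat_lit 2) (nat_lit 0x221220) (Net.cons (nat_lit 1) (nat_lit 0x144054) Net.nil)))))))))

theorem p_g91_ok : Net.ok 24 p_g91 = true := by decide +kernel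

noncomputable def p_g92 : Net := (Net.cons (nat_lit 1) (nat_lit 0x115450) (Net.cons (nat_lit 2) (nat_lit 74240) (Net.cons (nat_lit 4) (nat_lit 524288) (Net.cons (nat_lit 8) (nat_lit 6) (Net.cons (nat_lit 16) (nat_lit 94) (Net.cons (nat_lit 8) (nat_lit 140) (Net.cons (nat_lit 4) (nat_lit 133640) (Net.cons (nat_lit 2) (nat_lit 0x330230) (Net.cons (nat_lit 1) (nat_lit 70992) Net.nil)))))))))

theorem p_g92_ok : Net.ok 24 p_g92 = true := by decide +kernel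

noncomputable def p_g93 : Net := (Net.cons (nat_lit 1) (nat_lit 0x454514) (Net.cons (nat_lit 2) (nat_lit 0x131000) (Net.cons (nat_lit 4) (nat_lit 265984) (Net.cons (nat_lit 8) (nat_lit 192) (Net.cons (nat_lit 16) (nat_lit 210) (Net.cons (nat_lit 8) (nat_lit 48) (Net.cons (nat_lit 4) (nat_lit 265728) (Net.cons (nat_lit 2) (nat_lit 0x121122) (Net.cons (nat_lit 1) (nat_lit 0x150140) Net.nil)))))))))

theorem p_g93_ok : Net.ok 24 p_g93 = true := by decide +kernel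

noncomputable def nt_c2_K : List Net := [p_g91, p_g92, p_g93]

theorem nt_c2_K_ok : okE 24 nt_c2_K = true := (okE_cons.2 ⟨p_g91_ok, (okE_cons.2 ⟨p_g92_ok, (okE_cons.2 ⟨p_g93_ok, (okE_nil 24)⟩)⟩)⟩)

noncomputable def nt_c2_cnt_EG : List Net := [p_g29, p_g25, p_g26, p_g36, p_g32, p_g33, p_g43, p_g40, p_g47, p_g46, p_g39, p_g22, p_g1, p_g2, p_g82, p_g83, p_g84, p_g81]

theorem nt_c2_cnt_EG_ok : okE 24 nt_c2_cnt_EG = true := (okE_cons.2 ⟨p_g29_ok, (okE_cons.2 ⟨p_g25_ok, (okE_cons.2 ⟨p_g26_ok, (okE_cons.2 ⟨p_g36_ok, (okE_cons.2 ⟨p_g32_ok, (okE_cons.2 ⟨p_g33_ok, (okE_cons.2 ⟨p_g43_ok, (okE_cons.2 ⟨p_g40_ok, (okE_cons.2 ⟨p_g47_ok, (okE_cons.2 ⟨p_g46_ok, (okE_cons.2 ⟨p_g39_ok, (okE_cons.2 ⟨p_g22_ok, (okE_cons.2 ⟨p_g1_ok, (okE_cons.2 ⟨p_g2_ok, (okE_cons.2 ⟨p_g82_ok, (okE_cons.2 ⟨p_g83_ok, (okE_cons.2 ⟨p_g84_ok, (okE_cons.2 ⟨p_g81_ok, (okE_nil 24)⟩)⟩)⟩)⟩)⟩)⟩)⟩)⟩)⟩)⟩)⟩)⟩)⟩)⟩)⟩)⟩)⟩)⟩)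

noncomputable def p_g95 : Net := (Net.cons (nat_lit 1) (nat_lit 0x144100) (Net.cons (nat_lit 2) (nat_lit 0x112010) (Net.cons (nat_lit 4) (nat_lit 461568) (Net.cons (nat_lit 8) (nat_lit 176) (Net.cons (nat_lit 16) (nat_lit 245) (Net.cons (nat_lit 8) (nat_lit 99) (Net.cons (nat_lit 4) (nat_lit 591375) (Net.cons (nat_lit 2) (nat_lit 0x323033) (Net.cons (nat_lit 1) (nat_lit 0x551441) Net.nil)))))))))

theorem p_g95_ok : Net.ok 24 p_g95 = true := by decide +kernel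

noncomputable def p_g96 : Net := (Net.cons (nat_lit 1) (nat_lit 0x510110) (Net.cons (nat_lit 2) (nat_lit 70192) (Net.cons (nat_lit 4) (nat_lit 66048) (Net.cons (nat_lit 8) (nat_lit 97) (Net.cons (nat_lit 16) (nat_lit 125) (Net.cons (nat_lit 8) (nat_lit 84) (Net.cons (nat_lit 4) (nat_lit 655878) (Net.cons (nat_lit 2) (nat_lit 143649) (Net.cons (nat_lit 1) (nat_lit 0x155104) Net.nil)))))))))

theorem p_g96_ok : Net.ok 24 p_g96 = true := by decide +kernel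

noncomputable def p_g97 : Net := (Net.cons (nat_lit 1) (nat_lit 0x450004) (Net.cons (nat_lit 2) (nat_lit 0x200300) (Net.cons (nat_lit 4) (nat_lit 2048) (Net.cons (nat_lit 8) (nat_lit 240) (Net.cons (nat_lit 16) (nat_lit 246) (Net.cons (nat_lit 8) (nat_lit 159) (Net.cons (nat_lit 4) (nat_lit 395014) (Net.cons (nat_lit 2) (nat_lit 0x233033) (Net.cons (nat_lit 1) (nat_lit 0x105551) Net.nil)))))))))

theorem p_g97_ok : Net.ok 24 p_g97 = true := by decide +kernel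

noncomputable def p_g98 : Net := (Net.cons (nat_lit 1) (nat_lit 279620) (Net.cons (nat_lit 2) (nat_lit 0x321020) (Net.cons (nat_lit 4) (nat_lit 788480) (Net.cons (nat_lit 8) (nat_lit 16) (Net.cons (nat_lit 16) (nat_lit 210) (Net.cons (nat_lit 8) (nat_lit 226) (Net.cons (nat_lit 4) (nat_lit 262406) (Net.cons (nat_lit 2) (nat_lit 0x220032) (Net.cons (nat_lit 1) (nat_lit 279872) Net.nil)))))))))

theorem p_g98_ok : Net.ok 24 p_g98 = true := by decide +kernel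

noncomputable def p_g99 : Net := (Net.cons (nat_lit 1) (nat_lit 0x145104) (Net.cons (nat_lit 2) (nat_lit 0x200100) (Net.cons (nat_lit 4) (nat_lit 199680) (Net.cons (nat_lit 8) (nat_lit 45) (Net.cons (nat_lit 16) (nat_lit 173) (Net.cons (nat_lit 8) (nat_lit 125) (Net.cons (nat_lit 4) (nat_lit 199680) (Net.cons (nat_lit 2) (nat_lit 0x222102) (Net.cons (nat_lit 1) (nat_lit 0x145104) Net.nil)))))))))

theorem p_g99_ok : Net.ok 24 p_g99 = true := by decide +kernel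

noncomputable def nt_c3_K : List Net := [p_g96, p_g97, p_g98, p_g99]

theorem nt_c3_K_ok : okE 24 nt_c3_K = true := (okE_cons.2 ⟨p_g96_ok, (okE_cons.2 ⟨p_g97_ok, (okE_cons.2 ⟨p_g98_ok, (okE_cons.2 ⟨p_g99_ok, (okE_nil 24)⟩)⟩)⟩)⟩)

noncomputable def p_g101 : Net := (Net.cons (nat_lit 1) (nat_lit 0x451100) (Net.cons (nat_lit 2) (nat_lit 12288) (Net.cons (nat_lit 4) (nat_lit 525568) (Net.cons (nat_lit 8) (nat_lit 195) (Net.cons (nat_lit 16) (nat_lit 227) (Net.cons (nat_lit 8) (nat_lit 93) (Net.cons (nat_lit 4) (nat_lit 590344) (Net.cons (nat_lit 2) (nat_lit 131874) (Net.cons (nat_lit 1) (nat_lit 0x450000) Net.nil)))))))))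

theorem p_g101_ok : Net.ok 24 p_g101 = true := by decide +kernel

noncomputable def p_g102 : Net := (Net.cons (nat_lit 1) (nat_lit 0x410000) (Net.cons (nat_lit 2) (nat_lit 4112) (Net.cons (nat_lit 4) (nat_lit 460288) (Net.cons (nat_lit 8) (nat_lit 112) (Net.cons (nat_lit 16) (nat_lit 116) (Net.cons (nat_lit 8) (nat_lit 54) (Net.cons (nat_lit 4) (nat_lit 199172) (Net.cons (nat_lit 2) (nat_lit 4144) (Net.cons (nat_lit 1) (nat_lit 0x410000) Net.nil)))))))))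

theorem p_g102_ok : Net.ok 24 p_g102 = true := by decide +kernel

noncomputable def p_V103 : List Net := [p_g101, p_g102]

theorem p_V103_ok : okE 24 p_V103 = true := (okE_cons.2 ⟨p_g101_ok, (okE_cons.2 ⟨p_g102_ok, (okE_nil 24)⟩)⟩)

noncomputable def p_V105 : List Net := [p_g102]

theorem p_V105_ok : okE 24 p_V105 = true := (okE_cons.2 ⟨p_g102_ok, (okE_nil 24)⟩)

noncomputable def p_V106 : List Net := []

theorem p_V106_ok : okE 24 p_V106 = true := (okE_nil 24)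

noncomputable def nt_c3_cnt_EG : List Net := [p_g29, p_g25, p_g26, p_g36, p_g32, p_g33, p_g43, p_g40, p_g47, p_g46, p_g39, p_g22, p_g1, p_g2, p_g101, p_g102]

theorem nt_c3_cnt_EG_ok : okE 24 nt_c3_cnt_EG = true := (okE_cons.2 ⟨p_g29_ok, (okE_cons.2 ⟨p_g25_ok, (okE_cons.2 ⟨p_g26_ok, (okE_cons.2 ⟨p_g36_ok, (okE_cons.2 ⟨p_g32_ok, (okE_cons.2 ⟨p_g33_ok, (okE_cons.2 ⟨p_g43_ok, (okE_cons.2 ⟨p_g40_ok, (okE_cons.2 ⟨p_g47_ok, (okE_cons.2 ⟨p_g46_ok, (okE_cons.2 ⟨p_g39_ok, (okE_cons.2 ⟨p_g22_ok, (okE_cons.2 ⟨p_g1_ok, (okE_cons.2 ⟨p_g2_ok, (okE_cons.2 ⟨p_g101_ok, (okE_cons.2 ⟨p_g102_ok, (okE_nil 24)⟩)⟩)⟩)⟩)⟩)⟩)⟩)⟩)⟩)⟩)⟩)⟩)⟩)⟩)⟩)⟩)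

noncomputable def p_g107 : Net := (Net.cons (nat_lit 1) (nat_lit 0x150410) (Net.cons (nat_lit 2) (nat_lit 131328) (Net.cons (nat_lit 4) (nat_lit 722432) (Net.cons (nat_lit 8) (nat_lit 176) (Net.cons (nat_lit 16) (nat_lit 176) (Net.cons (nat_lit 8) (nat_lit 4) (Net.cons (nat_lit 4) (nat_lit 984844) (Net.cons (nat_lit 2) (nat_lit 0x121111) (Net.cons (nat_lit 1) (nat_lit 0x140454) Net.nil)))))))))

theorem p_g107_ok : Net.ok 24 p_g107 = true := by decide +kernel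

noncomputable def p_g108 : Net := (Net.cons (nat_lit 1) (nat_lit 344064) (Net.cons (nat_lit 2) (nat_lit 0x121000) (Net.cons (nat_lit 4) (nat_lit 461312) (Net.cons (nat_lit 8) (nat_lit 67) (Net.cons (nat_lit 16) (nat_lit 247) (Net.cons (nat_lit 8) (nat_lit 180) (Net.cons (nat_lit 4) (nat_lit 986376) (Net.cons (nat_lit 2) (nat_lit 0x203221) (Net.cons (nat_lit 1) (nat_lit 333061) Net.nil)))))))))

theorem p_g108_ok : Net.ok 24 p_g108 = true := by decide +kernel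

noncomputable def p_g109 : Net := (Net.cons (nat_lit 1) (nat_lit 17664) (Net.cons (nat_lit 2) (nat_lit 135184) (Net.cons (nat_lit 4) (nat_lit 787456) (Net.cons (nat_lit 8) (nat_lit 193) (Net.cons (nat_lit 16) (nat_lit 229) (Net.cons (nat_lit 8) (nat_lit 135) (Net.cons (nat_lit 4) (nat_lit 526080) (Net.cons (nat_lit 2) (nat_lit 65840) (Net.cons (nat_lit 1) (nat_lit 17664) Net.nil)))))))))

theorem p_g109_ok : Net.ok 24 p_g109 = true := by decide +kernel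

noncomputable def p_g110 : Net := (Net.cons (nat_lit 1) (nat_lit 16640) (Net.cons (nat_lit 2) (nat_lit 0x101100) (Net.cons (nat_lit 4) (nat_lit 327680) (Net.cons (nat_lit 8) (nat_lit 201) (Net.cons (nat_lit 16) (nat_lit 249) (Net.cons (nat_lit 8) (nat_lit 205) (Net.cons (nat_lit 4) (nat_lit 854528) (Net.cons (nat_lit 2) (nat_lit 0x101100) (Net.cons (nat_lit 1) (nat_lit 0x404500) Net.nil)))))))))

theorem p_g110_ok : Net.ok 24 p_g110 = true := by decide +kernel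

noncomputable def nt_c4_K : List Net := [p_g107, p_g108, p_g109, p_g110]

theorem nt_c4_K_ok : okE 24 nt_c4_K = true := (okE_cons.2 ⟨p_g107_ok, (okE_cons.2 ⟨p_g108_ok, (okE_cons.2 ⟨p_g109_ok, (okE_cons.2 ⟨p_g110_ok, (okE_nil 24)⟩)⟩)⟩)⟩)

noncomputable def p_V112 : List Net := []

theorem p_V112_ok : okE 24 p_V112 = true := (okE_nil 24)

noncomputable def nt_c4_cnt_EG : List Net := [p_g22, p_g1, p_g2, p_g29, p_g25, p_g26, p_g36, p_g32, p_g33, p_g43, p_g40, p_g47, p_g46, p_g39, p_g81, p_g82, p_g83, p_g84]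

theorem nt_c4_cnt_EG_ok : okE 24 nt_c4_cnt_EG = true := (okE_cons.2 ⟨p_g22_ok, (okE_cons.2 ⟨p_g1_ok, (okE_cons.2 ⟨p_g2_ok, (okE_cons.2 ⟨p_g29_ok, (okE_cons.2 ⟨p_g25_ok, (okE_cons.2 ⟨p_g26_ok, (okE_cons.2 ⟨p_g36_ok, (okE_cons.2 ⟨p_g32_ok, (okE_cons.2 ⟨p_g33_ok, (okE_cons.2 ⟨p_g43_ok, (okE_cons.2 ⟨p_g40_ok, (okE_cons.2 ⟨p_g47_ok, (okE_cons.2 ⟨p_g46_ok, (okE_cons.2 ⟨p_g39_ok, (okE_cons.2 ⟨p_g81_ok, (okE_cons.2 ⟨p_g82_ok, (okE_cons.2 ⟨p_g83_ok, (okE_cons.2 ⟨p_g84_ok, (okE_nil 24)⟩)⟩)⟩)⟩)⟩)⟩)⟩)⟩)⟩)⟩)⟩)⟩)⟩)⟩)⟩)⟩)⟩)⟩)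

noncomputable def p_g114 : Net := (Net.cons (nat_lit 1) (nat_lit 0x104154) (Net.cons (nat_lit 2) (nat_lit 0x220210) (Net.cons (nat_lit 4) (nat_lit 527872) (Net.cons (nat_lit 8) (nat_lit 44) (Net.cons (nat_lit 16) (nat_lit 111) (Net.cons (nat_lit 8) (nat_lit 189) (Net.cons (nat_lit 4) (nat_lit 263179) (Net.cons (nat_lit 2) (nat_lit 0x113032) (Net.cons (nat_lit 1) (nat_lit 0x510410) Net.nil)))))))))

theorem p_g114_ok : Net.ok 24 p_g114 = true := by decide +kernel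

noncomputable def p_g115 : Net := (Net.cons (nat_lit 1) (nat_lit 0x544100) (Net.cons (nat_lit 2) (nat_lit 12304) (Net.cons (nat_lit 4) (nat_lit 262656) (Net.cons (nat_lit 8) (nat_lit 192) (Net.cons (nat_lit 16) (nat_lit 219) (Net.cons (nat_lit 8) (nat_lit 139) (Net.cons (nat_lit 4) (nat_lit 199173) (Net.cons (nat_lit 2) (nat_lit 0x100322) (Net.cons (nat_lit 1) (nat_lit 0x510050) Net.nil)))))))))

theorem p_g115_ok : Net.ok 24 p_g115 = true := by decide +kernel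

noncomputable def p_g116 : Net := (Net.cons (nat_lit 1) (nat_lit 0x101040) (Net.cons (nat_lit 2) (nat_lit 0x231200) (Net.cons (nat_lit 4) (nat_lit 768) (Net.cons (nat_lit 8) (nat_lit 228) (Net.cons (nat_lit 16) (nat_lit 228) (Net.cons (nat_lit 8) (nat_lit 208) (Net.cons (nat_lit 4) (nat_lit 788232) (Net.cons (nat_lit 2) (nat_lit 0x331202) (Net.cons (nat_lit 1) (nat_lit 0x101140) Net.nil)))))))))

theorem p_g116_ok : Net.ok 24 p_g116 = true := by decide +kernel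

noncomputable def nt_c5_K : List Net := [p_g114, p_g115, p_g116]

theorem nt_c5_K_ok : okE 24 nt_c5_K = true := (okE_cons.2 ⟨p_g114_ok, (okE_cons.2 ⟨p_g115_ok, (okE_cons.2 ⟨p_g116_ok, (okE_nil 24)⟩)⟩)⟩)

noncomputable def nt_c5_cnt_EG : List Net := [p_g22, p_g1, p_g2, p_g29, p_g25, p_g26, p_g36, p_g32, p_g33, p_g43, p_g40, p_g47, p_g46, p_g39, p_g81, p_g82, p_g83, p_g84]

theorem nt_c5_cnt_EG_ok : okE 24 nt_c5_cnt_EG = true := (okE_cons.2 ⟨p_g22_ok, (okE_cons.2 ⟨p_g1_ok, (okE_cons.2 ⟨p_g2_ok, (okE_cons.2 ⟨p_g29_ok, (okE_cons.2 ⟨p_g25_ok, (okE_cons.2 ⟨p_g26_ok, (okE_cons.2 ⟨p_g36_ok, (okE_cons.2 ⟨p_g32_ok, (okE_cons.2 ⟨p_g33_ok, (okE_cons.2 ⟨p_g43_ok, (okE_cons.2 ⟨p_g40_ok, (okE_cons.2 ⟨p_g47_ok, (okE_cons.2 ⟨p_g46_ok, (okE_cons.2 ⟨p_g39_ok, (okE_cons.2 ⟨p_g81_ok, (okE_cons.2 ⟨p_g82_ok, (okE_cons.2 ⟨p_g83_ok, (okE_cons.2 ⟨p_g84_ok, (okE_nil 24)⟩)⟩)⟩)⟩)⟩)⟩)⟩)⟩)⟩)⟩)⟩)⟩)⟩)⟩)⟩)⟩)⟩)⟩)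

noncomputable def p_g118 : Net := (Net.cons (nat_lit 1) (nat_lit 0x400104) (Net.cons (nat_lit 2) (nat_lit 0x122110) (Net.cons (nat_lit 4) (nat_lit 394240) (Net.cons (nat_lit 8) (nat_lit 200) (Net.cons (nat_lit 16) (nat_lit 223) (Net.cons (nat_lit 8) (nat_lit 181) (Net.cons (nat_lit 4) (nat_lit 395274) (Net.cons (nat_lit 2) (nat_lit 0x130302) (Net.cons (nat_lit 1) (nat_lit 0x155451) Net.nil)))))))))

theorem p_g118_ok : Net.ok 24 p_g118 = true := by decide +kernel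

noncomputable def p_g119 : Net := (Net.cons (nat_lit 1) (nat_lit 0x440100) (Net.cons (nat_lit 2) (nat_lit 0x213110) (Net.cons (nat_lit 4) (nat_lit 68608) (Net.cons (nat_lit 8) (nat_lit 164) (Net.cons (nat_lit 16) (nat_lit 247) (Net.cons (nat_lit 8) (nat_lit 5) (Net.cons (nat_lit 4) (nat_lit 919564) (Net.cons (nat_lit 2) (nat_lit 131602) (Net.cons (nat_lit 1) (nat_lit 0x554411) Net.nil)))))))))

theorem p_g119_ok : Net.ok 24 p_g119 = true := by decide +kernel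

noncomputable def p_g120 : Net := (Net.cons (nat_lit 1) (nat_lit 0x115510) (Net.cons (nat_lit 2) (nat_lit 0x223120) (Net.cons (nat_lit 4) (nat_lit 66816) (Net.cons (nat_lit 8) (nat_lit 169) (Net.cons (nat_lit 16) (nat_lit 169) (Net.cons (nat_lit 8) (nat_lit 191) (Net.cons (nat_lit 4) (nat_lit 593160) (Net.cons (nat_lit 2) (nat_lit 0x223120) (Net.cons (nat_lit 1) (nat_lit 0x115510) Net.nil)))))))))

theorem p_g120_ok : Net.ok 24 p_g120 = true := by decide +kernel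

noncomputable def p_g121 : Net := (Net.cons (nat_lit 1) (nat_lit 65808) (Net.cons (nat_lit 2) (nat_lit 0x123120) (Net.cons (nat_lit 8) (nat_lit 168) (Net.cons (nat_lit 16) (nat_lit 168) (Net.cons (nat_lit 8) (nat_lit 252) (Net.cons (nat_lit 4) (nat_lit 592908) (Net.cons (nat_lit 2) (nat_lit 0x123120) (Net.cons (nat_lit 1) (nat_lit 65808) Net.nil))))))))

theorem p_g121_ok : Net.ok 24 p_g121 = true := by decide +kernel

noncomputable def nt_c6_K : List Net := [p_g118, p_g119, p_g120, p_g121]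

theorem nt_c6_K_ok : okE 24 nt_c6_K = true := (okE_cons.2 ⟨p_g118_ok, (okE_cons.2 ⟨p_g119_ok, (okE_cons.2 ⟨p_g120_ok, (okE_cons.2 ⟨p_g121_ok, (okE_nil 24)⟩)⟩)⟩)⟩)

noncomputable def nt_c6_cnt_EG : List Net := [p_g22, p_g1, p_g2, p_g29, p_g25, p_g26, p_g36, p_g32, p_g33, p_g43, p_g40, p_g47, p_g46, p_g39]

theorem nt_c6_cnt_EG_ok : okE 24 nt_c6_cnt_EG = true := (okE_cons.2 ⟨p_g22_ok, (okE_cons.2 ⟨p_g1_ok, (okE_cons.2 ⟨p_g2_ok, (okE_cons.2 ⟨p_g29_ok, (okE_cons.2 ⟨p_g25_ok, (okE_cons.2 ⟨p_g26_ok, (okE_cons.2 ⟨p_g36_ok, (okE_cons.2 ⟨p_g32_ok, (okE_cons.2 ⟨p_g33_ok, (okE_cons.2 ⟨p_g43_ok, (okE_cons.2 ⟨p_g40_ok, (okE_cons.2 ⟨p_g47_ok, (okE_cons.2 ⟨p_g46_ok, (okE_cons.2 ⟨p_g39_ok, (okE_nil 24)⟩)⟩)⟩)⟩)⟩)⟩)⟩)⟩)⟩)⟩)⟩)⟩)⟩)⟩)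

noncomputable def p_g123 : Net := (Net.cons (nat_lit 1) (nat_lit 69712) (Net.cons (nat_lit 2) (nat_lit 0x121100) (Net.cons (nat_lit 4) (nat_lit 69120) (Net.cons (nat_lit 8) (nat_lit 148) (Net.cons (nat_lit 16) (nat_lit 220) (Net.cons (nat_lit 8) (nat_lit 130) (Net.cons (nat_lit 4) (nat_lit 132864) (Net.cons (nat_lit 2) (nat_lit 0x121103) (Net.cons (nat_lit 1) (nat_lit 0x515450) Net.nil)))))))))

theorem p_g123_ok : Net.ok 24 p_g123 = true := by decide +kernel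

noncomputable def p_g124 : Net := (Net.cons (nat_lit 1) (nat_lit 279552) (Net.cons (nat_lit 2) (nat_lit 0x132330) (Net.cons (nat_lit 4) (nat_lit 527360) (Net.cons (nat_lit 8) (nat_lit 3) (Net.cons (nat_lit 16) (nat_lit 47) (Net.cons (nat_lit 8) (nat_lit 75) (Net.cons (nat_lit 4) (nat_lit 200192) (Net.cons (nat_lit 2) (nat_lit 0x210313) (Net.cons (nat_lit 1) (nat_lit 0x141404) Net.nil)))))))))

theorem p_g124_ok : Net.ok 24 p_g124 = true := by decide +kernel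

noncomputable def p_g125 : Net := (Net.cons (nat_lit 1) (nat_lit 0x151040) (Net.cons (nat_lit 2) (nat_lit 4608) (Net.cons (nat_lit 4) (nat_lit 265472) (Net.cons (nat_lit 8) (nat_lit 34) (Net.cons (nat_lit 16) (nat_lit 98) (Net.cons (nat_lit 8) (nat_lit 180) (Net.cons (nat_lit 4) (nat_lit 200448) (Net.cons (nat_lit 2) (nat_lit 135730) (Net.cons (nat_lit 1) (nat_lit 327957) Net.nil)))))))))

theorem p_g125_ok : Net.ok 24 p_g125 = true := by decide +kernel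

noncomputable def p_g126 : Net := (Net.cons (nat_lit 1) (nat_lit 0x400044) (Net.cons (nat_lit 2) (nat_lit 0x310000) (Net.cons (nat_lit 4) (nat_lit 2048) (Net.cons (nat_lit 16) (nat_lit 101) (Net.cons (nat_lit 8) (nat_lit 179) (Net.cons (nat_lit 4) (nat_lit 658179) (Net.cons (nat_lit 2) (nat_lit 0x310223) (Net.cons (nat_lit 1) (nat_lit 0x501045) Net.nil))))))))

theorem p_g126_ok : Net.ok 24 p_g126 = true := by decide +kernel

noncomputable def nt_c7_K : List Net := [p_g123, p_g124, p_g125, p_g126]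

theorem nt_c7_K_ok : okE 24 nt_c7_K = true := (okE_cons.2 ⟨p_g123_ok, (okE_cons.2 ⟨p_g124_ok, (okE_cons.2 ⟨p_g125_ok, (okE_cons.2 ⟨p_g126_ok, (okE_nil 24)⟩)⟩)⟩)⟩)

noncomputable def nt_c7_cnt_EG : List Net := [p_g22, p_g1, p_g2, p_g29, p_g25, p_g26, p_g36, p_g32, p_g33, p_g43, p_g40, p_g47, p_g46, p_g39, p_g81, p_g82, p_g83, p_g84]

theorem nt_c7_cnt_EG_ok : okE 24 nt_c7_cnt_EG = true := (okE_cons.2 ⟨p_g22_ok, (okE_cons.2 ⟨p_g1_ok, (okE_cons.2 ⟨p_g2_ok, (okE_cons.2 ⟨p_g29_ok, (okE_cons.2 ⟨p_g25_ok, (okE_cons.2 ⟨p_g26_ok, (okE_cons.2 ⟨p_g36_ok, (okE_cons.2 ⟨p_g32_ok, (okE_cons.2 ⟨p_g33_ok, (okE_cons.2 ⟨p_g43_ok, (okE_cons.2 ⟨p_g40_ok, (okE_cons.2 ⟨p_g47_ok, (okE_cons.2 ⟨p_g46_ok, (okE_cons.2 ⟨p_g39_ok, (okE_cons.2 ⟨p_g81_ok, (okE_cons.2 ⟨p_g82_ok, (okE_cons.2 ⟨p_g83_ok, (okE_cons.2 ⟨p_g84_ok, (okE_nil 24)⟩)⟩)⟩)⟩)⟩)⟩)⟩)⟩)⟩)⟩)⟩)⟩)⟩)⟩)⟩)⟩)⟩)⟩)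

noncomputable def p_g128 : Net := (Net.cons (nat_lit 1) (nat_lit 0x111540) (Net.cons (nat_lit 2) (nat_lit 205104) (Net.cons (nat_lit 4) (nat_lit 853504) (Net.cons (nat_lit 8) (nat_lit 194) (Net.cons (nat_lit 16) (nat_lit 235) (Net.cons (nat_lit 8) (nat_lit 77) (Net.cons (nat_lit 4) (nat_lit 67329) (Net.cons (nat_lit 2) (nat_lit 0x202312) (Net.cons (nat_lit 1) (nat_lit 0x111115) Net.nil)))))))))

theorem p_g128_ok : Net.ok 24 p_g128 = true := by decide +kernel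

noncomputable def p_g129 : Net := (Net.cons (nat_lit 1) (nat_lit 0x514010) (Net.cons (nat_lit 2) (nat_lit 0x210000) (Net.cons (nat_lit 4) (nat_lit 458752) (Net.cons (nat_lit 8) (nat_lit 33) (Net.cons (nat_lit 16) (nat_lit 107) (Net.cons (nat_lit 8) (nat_lit 96) (Net.cons (nat_lit 4) (nat_lit 524301) (Net.cons (nat_lit 2) (nat_lit 0x223330) (Net.cons (nat_lit 1) (nat_lit 0x115411) Net.nil)))))))))

theorem p_g129_ok : Net.ok 24 p_g129 = true := by decide +kernel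

noncomputable def p_g130 : Net := (Net.cons (nat_lit 1) (nat_lit 282880) (Net.cons (nat_lit 2) (nat_lit 0x102010) (Net.cons (nat_lit 4) (nat_lit 526592) (Net.cons (nat_lit 8) (nat_lit 130) (Net.cons (nat_lit 16) (nat_lit 130) (Net.cons (nat_lit 8) (nat_lit 186) (Net.cons (nat_lit 4) (nat_lit 788740) (Net.cons (nat_lit 2) (nat_lit 0x122210) (Net.cons (nat_lit 1) (nat_lit 0x445100) Net.nil)))))))))

theorem p_g130_ok : Net.ok 24 p_g130 = true := by decide +kernel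

noncomputable def nt_c8_K : List Net := [p_g128, p_g129, p_g130]

theorem nt_c8_K_ok : okE 24 nt_c8_K = true := (okE_cons.2 ⟨p_g128_ok, (okE_cons.2 ⟨p_g129_ok, (okE_cons.2 ⟨p_g130_ok, (okE_nil 24)⟩)⟩)⟩)

noncomputable def nt_c8_cnt_EG : List Net := [p_g22, p_g1, p_g2, p_g29, p_g25, p_g26, p_g36, p_g32, p_g33, p_g43, p_g40, p_g47, p_g46, p_g39, p_g101, p_g102]

theorem nt_c8_cnt_EG_ok : okE 24 nt_c8_cnt_EG = true := (okE_cons.2 ⟨p_g22_ok, (okE_cons.2 ⟨p_g1_ok, (okE_cons.2 ⟨p_g2_ok, (okE_cons.2 ⟨p_g29_ok, (okE_cons.2 ⟨p_g25_ok, (okE_cons.2 ⟨p_g26_ok, (okE_cons.2 ⟨p_g36_ok, (okE_cons.2 ⟨p_g32_ok, (okE_cons.2 ⟨p_g33_ok, (okE_cons.2 ⟨p_g43_ok, (okE_cons.2 ⟨p_g40_ok, (okE_cons.2 ⟨p_g47_ok, (okE_cons.2 ⟨p_g46_ok, (okE_cons.2 ⟨p_g39_ok, (okE_cons.2 ⟨p_g101_ok, (okE_cons.2 ⟨p_g102_ok, (okE_nil 24)⟩)⟩)⟩)⟩)⟩)⟩)⟩)⟩)⟩)⟩)⟩)⟩)⟩)⟩)⟩)⟩)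

noncomputable def p_g132 : Net := (Net.cons (nat_lit 1) (nat_lit 348420) (Net.cons (nat_lit 2) (nat_lit 0x212200) (Net.cons (nat_lit 4) (nat_lit 393728) (Net.cons (nat_lit 8) (nat_lit 224) (Net.cons (nat_lit 16) (nat_lit 247) (Net.cons (nat_lit 8) (nat_lit 188) (Net.cons (nat_lit 4) (nat_lit 986888) (Net.cons (nat_lit 2) (nat_lit 0x101200) (Net.cons (nat_lit 1) (nat_lit 0x510015) Net.nil)))))))))

theorem p_g132_ok : Net.ok 24 p_g132 = true := by decide +kernel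

noncomputable def p_g133 : Net := (Net.cons (nat_lit 1) (nat_lit 0x140540) (Net.cons (nat_lit 2) (nat_lit 0x301310) (Net.cons (nat_lit 4) (nat_lit 461056) (Net.cons (nat_lit 8) (nat_lit 26) (Net.cons (nat_lit 16) (nat_lit 91) (Net.cons (nat_lit 8) (nat_lit 171) (Net.cons (nat_lit 4) (nat_lit 786691) (Net.cons (nat_lit 2) (nat_lit 0x323312) (Net.cons (nat_lit 1) (nat_lit 0x401054) Net.nil)))))))))

theorem p_g133_ok : Net.ok 24 p_g133 = true := by decide +kernel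

noncomputable def nt_c9_K : List Net := [p_g98, p_g132, p_g133]

theorem nt_c9_K_ok : okE 24 nt_c9_K = true := (okE_cons.2 ⟨p_g98_ok, (okE_cons.2 ⟨p_g132_ok, (okE_cons.2 ⟨p_g133_ok, (okE_nil 24)⟩)⟩)⟩)

noncomputable def nt_c9_cnt_EG : List Net := [p_g22, p_g1, p_g2, p_g29, p_g25, p_g26, p_g36, p_g32, p_g33, p_g43, p_g40, p_g47, p_g46, p_g39, p_g82, p_g83, p_g84, p_g81]

theorem nt_c9_cnt_EG_ok : okE 24 nt_c9_cnt_EG = true := (okE_cons.2 ⟨p_g22_ok, (okE_cons.2 ⟨p_g1_ok, (okE_cons.2 ⟨p_g2_ok, (okE_cons.2 ⟨p_g29_ok, (okE_cons.2 ⟨p_g25_ok, (okE_cons.2 ⟨p_g26_ok, (okE_cons.2 ⟨p_g36_ok, (okE_cons.2 ⟨p_g32_ok, (okE_cons.2 ⟨p_g33_ok, (okE_cons.2 ⟨p_g43_ok, (okE_cons.2 ⟨p_g40_ok, (okE_cons.2 ⟨p_g47_ok, (okE_cons.2 ⟨p_g46_ok, (okE_cons.2 ⟨p_g39_ok, (okE_cons.2 ⟨p_g82_ok, (okE_cons.2 ⟨p_g83_ok, (okE_cons.2 ⟨p_g84_ok, (okE_cons.2 ⟨p_g81_ok, (okE_nil 24)⟩)⟩)⟩)⟩)⟩)⟩)⟩)⟩)⟩)⟩)⟩)⟩)⟩)⟩)⟩)⟩)⟩)⟩)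

noncomputable def p_g135 : Net := (Net.cons (nat_lit 1) (nat_lit 345092) (Net.cons (nat_lit 2) (nat_lit 0x213020) (Net.cons (nat_lit 4) (nat_lit 984576) (Net.cons (nat_lit 8) (nat_lit 194) (Net.cons (nat_lit 16) (nat_lit 242) (Net.cons (nat_lit 8) (nat_lit 199) (Net.cons (nat_lit 4) (nat_lit 723206) (Net.cons (nat_lit 2) (nat_lit 0x300303) (Net.cons (nat_lit 1) (nat_lit 0x541410) Net.nil)))))))))

theorem p_g135_ok : Net.ok 24 p_g135 = true := by decide +kernel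

noncomputable def p_g136 : Net := (Net.cons (nat_lit 1) (nat_lit 282880) (Net.cons (nat_lit 2) (nat_lit 0x203000) (Net.cons (nat_lit 4) (nat_lit 458752) (Net.cons (nat_lit 8) (nat_lit 128) (Net.cons (nat_lit 16) (nat_lit 246) (Net.cons (nat_lit 8) (nat_lit 120) (Net.cons (nat_lit 4) (nat_lit 395521) (Net.cons (nat_lit 2) (nat_lit 0x121323) (Net.cons (nat_lit 1) (nat_lit 0x541050) Net.nil)))))))))

theorem p_g136_ok : Net.ok 24 p_g136 = true := by decide +kernel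

noncomputable def p_g137 : Net := (Net.cons (nat_lit 1) (nat_lit 0x110400) (Net.cons (nat_lit 2) (nat_lit 69648) (Net.cons (nat_lit 4) (nat_lit 68608) (Net.cons (nat_lit 8) (nat_lit 135) (Net.cons (nat_lit 16) (nat_lit 239) (Net.cons (nat_lit 8) (nat_lit 150) (Net.cons (nat_lit 4) (nat_lit 918287) (Net.cons (nat_lit 2) (nat_lit 78641) (Net.cons (nat_lit 1) (nat_lit 0x554011) Net.nil)))))))))

theorem p_g137_ok : Net.ok 24 p_g137 = true := by decide +kernel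

noncomputable def nt_c10_K : List Net := [p_g135, p_g136, p_g137]

theorem nt_c10_K_ok : okE 24 nt_c10_K = true := (okE_cons.2 ⟨p_g135_ok, (okE_cons.2 ⟨p_g136_ok, (okE_cons.2 ⟨p_g137_ok, (okE_nil 24)⟩)⟩)⟩)

noncomputable def nt_c10_cnt_EG : List Net := [p_g22, p_g1, p_g2, p_g29, p_g25, p_g26, p_g36, p_g32, p_g33, p_g43, p_g40, p_g47, p_g46, p_g39, p_g82, p_g83, p_g84, p_g81]

theorem nt_c10_cnt_EG_ok : okE 24 nt_c10_cnt_EG = true := (okE_cons.2 ⟨p_g22_ok, (okE_cons.2 ⟨p_g1_ok, (okE_cons.2 ⟨p_g2_ok, (okE_cons.2 ⟨p_g29_ok, (okE_cons.2 ⟨p_g25_ok, (okE_cons.2 ⟨p_g26_ok, (okE_cons.2 ⟨p_g36_ok, (okE_cons.2 ⟨p_g32_ok, (okE_cons.2 ⟨p_g33_ok, (okE_cons.2 ⟨p_g43_ok, (okE_cons.2 ⟨p_g40_ok, (okE_cons.2 ⟨p_g47_ok, (okE_cons.2 ⟨p_g46_ok, (okE_cons.2 ⟨p_g39_ok, (okE_cons.2 ⟨p_g82_ok, (okE_cons.2 ⟨p_g83_ok, (okE_cons.2 ⟨p_g84_ok, (okE_cons.2 ⟨p_g81_ok, (okE_nil 24)⟩)⟩)⟩)⟩)⟩)⟩)⟩)⟩)⟩)⟩)⟩)⟩)⟩)⟩)⟩)⟩)⟩)⟩)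

noncomputable def p_g139 : Net := (Net.cons (nat_lit 1) (nat_lit 87360) (Net.cons (nat_lit 2) (nat_lit 0x121300) (Net.cons (nat_lit 4) (nat_lit 393216) (Net.cons (nat_lit 8) (nat_lit 18) (Net.cons (nat_lit 16) (nat_lit 94) (Net.cons (nat_lit 8) (nat_lit 61) (Net.cons (nat_lit 4) (nat_lit 198659) (Net.cons (nat_lit 2) (nat_lit 77858) (Net.cons (nat_lit 1) (nat_lit 0x145114) Net.nil)))))))))

theorem p_g139_ok : Net.ok 24 p_g139 = true := by decide +kernel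

noncomputable def nt_c11_K : List Net := [p_g139, p_g118]

theorem nt_c11_K_ok : okE 24 nt_c11_K = true := (okE_cons.2 ⟨p_g139_ok, (okE_cons.2 ⟨p_g118_ok, (okE_nil 24)⟩)⟩)

noncomputable def p_g141 : Net := (Net.cons (nat_lit 1) (nat_lit 0x110554) (Net.cons (nat_lit 2) (nat_lit 0x113200) (Net.cons (nat_lit 4) (nat_lit 66048) (Net.cons (nat_lit 8) (nat_lit 28) (Net.cons (nat_lit 16) (nat_lit 94) (Net.cons (nat_lit 8) (nat_lit 172) (Net.cons (nat_lit 4) (nat_lit 68872) (Net.cons (nat_lit 2) (nat_lit 0x100332) (Net.cons (nat_lit 1) (nat_lit 344084) Net.nil)))))))))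

theorem p_g141_ok : Net.ok 24 p_g141 = true := by decide +kernel

noncomputable def p_g142 : Net := (Net.cons (nat_lit 1) (nat_lit 0x455040) (Net.cons (nat_lit 2) (nat_lit 200960) (Net.cons (nat_lit 4) (nat_lit 658432) (Net.cons (nat_lit 8) (nat_lit 131) (Net.cons (nat_lit 16) (nat_lit 179) (Net.cons (nat_lit 8) (nat_lit 7) (Net.cons (nat_lit 4) (nat_lit 593154) (Net.cons (nat_lit 2) (nat_lit 0x111310) (Net.cons (nat_lit 1) (nat_lit 0x514450) Net.nil)))))))))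

theorem p_g142_ok : Net.ok 24 p_g142 = true := by decide +kernel

noncomputable def p_V143 : List Net := [p_g141, p_g142, p_g99]

theorem p_V143_ok : okE 24 p_V143 = true := (okE_cons.2 ⟨p_g141_ok, (okE_cons.2 ⟨p_g142_ok, (okE_cons.2 ⟨p_g99_ok, (okE_nil 24)⟩)⟩)⟩)

noncomputable def p_V145 : List Net := [p_g142, p_g99]

theorem p_V145_ok : okE 24 p_V145 = true := (okE_cons.2 ⟨p_g142_ok, (okE_cons.2 ⟨p_g99_ok, (okE_nil 24)⟩)⟩)

noncomputable def p_V146 : List Net := []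

theorem p_V146_ok : okE 24 p_V146 = true := (okE_nil 24)

noncomputable def nt_c11_cnt_EG : List Net := [p_g22, p_g1, p_g2, p_g29, p_g25, p_g26, p_g36, p_g32, p_g33, p_g43, p_g40, p_g47, p_g46, p_g39, p_g142, p_g99, p_g141]

theorem nt_c11_cnt_EG_ok : okE 24 nt_c11_cnt_EG = true := (okE_cons.2 ⟨p_g22_ok, (okE_cons.2 ⟨p_g1_ok, (okE_cons.2 ⟨p_g2_ok, (okE_cons.2 ⟨p_g29_ok, (okE_cons.2 ⟨p_g25_ok, (okE_cons.2 ⟨p_g26_ok, (okE_cons.2 ⟨p_g36_ok, (okE_cons.2 ⟨p_g32_ok, (okE_cons.2 ⟨p_g33_ok, (okE_cons.2 ⟨p_g43_ok, (okE_cons.2 ⟨p_g40_ok, (okE_cons.2 ⟨p_g47_ok, (okE_cons.2 ⟨p_g46_ok, (okE_cons.2 ⟨p_g39_ok, (okE_cons.2 ⟨p_g142_ok, (okE_cons.2 ⟨p_g99_ok, (okE_cons.2 ⟨p_g141_ok, (okE_nil 24)⟩)⟩)⟩)⟩)⟩)⟩)⟩)⟩)⟩)⟩)⟩)⟩)⟩)⟩)⟩)⟩)⟩)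

noncomputable def p_g147 : Net := (Net.cons (nat_lit 1) (nat_lit 0x100110) (Net.cons (nat_lit 2) (nat_lit 0x102310) (Net.cons (nat_lit 4) (nat_lit 722944) (Net.cons (nat_lit 8) (nat_lit 192) (Net.cons (nat_lit 16) (nat_lit 219) (Net.cons (nat_lit 8) (nat_lit 225) (Net.cons (nat_lit 4) (nat_lit 395782) (Net.cons (nat_lit 2) (nat_lit 201265) (Net.cons (nat_lit 1) (nat_lit 0x141050) Net.nil)))))))))

theorem p_g147_ok : Net.ok 24 p_g147 = true := by decide +kernel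

noncomputable def p_g148 : Net := (Net.cons (nat_lit 1) (nat_lit 0x444400) (Net.cons (nat_lit 2) (nat_lit 0x310010) (Net.cons (nat_lit 4) (nat_lit 1024) (Net.cons (nat_lit 8) (nat_lit 72) (Net.cons (nat_lit 16) (nat_lit 252) (Net.cons (nat_lit 8) (nat_lit 107) (Net.cons (nat_lit 4) (nat_lit 66048) (Net.cons (nat_lit 2) (nat_lit 0x320203) (Net.cons (nat_lit 1) (nat_lit 0x501411) Net.nil)))))))))

theorem p_g148_ok : Net.ok 24 p_g148 = true := by decide +kernel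

noncomputable def nt_c12_K : List Net := [p_g147, p_g148]

theorem nt_c12_K_ok : okE 24 nt_c12_K = true := (okE_cons.2 ⟨p_g147_ok, (okE_cons.2 ⟨p_g148_ok, (okE_nil 24)⟩)⟩)

noncomputable def nt_c12_cnt_EG : List Net := [p_g22, p_g1, p_g2, p_g29, p_g25, p_g26, p_g36, p_g32, p_g33, p_g43, p_g40, p_g47, p_g46, p_g39]

theorem nt_c12_cnt_EG_ok : okE 24 nt_c12_cnt_EG = true := (okE_cons.2 ⟨p_g22_ok, (okE_cons.2 ⟨p_g1_ok, (okE_cons.2 ⟨p_g2_ok, (okE_cons.2 ⟨p_g29_ok, (okE_cons.2 ⟨p_g25_ok, (okE_cons.2 ⟨p_g26_ok, (okE_cons.2 ⟨p_g36_ok, (okE_cons.2 ⟨p_g32_ok, (okE_cons.2 ⟨p_g33_ok, (okE_cons.2 ⟨p_g43_ok, (okE_cons.2 ⟨p_g40_ok, (okE_cons.2 ⟨p_g47_ok, (okE_cons.2 ⟨p_g46_ok, (okE_cons.2 ⟨p_g39_ok, (okE_nil 24)⟩)⟩)⟩)⟩)⟩)⟩)⟩)⟩)⟩)⟩)⟩)⟩)⟩)⟩)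

noncomputable def p_g150 : Net := (Net.cons (nat_lit 1) (nat_lit 82000) (Net.cons (nat_lit 2) (nat_lit 0x311200) (Net.cons (nat_lit 4) (nat_lit 330240) (Net.cons (nat_lit 8) (nat_lit 48) (Net.cons (nat_lit 16) (nat_lit 54) (Net.cons (nat_lit 8) (nat_lit 242) (Net.cons (nat_lit 4) (nat_lit 3588) (Net.cons (nat_lit 2) (nat_lit 0x130211) (Net.cons (nat_lit 1) (nat_lit 0x440454) Net.nil)))))))))

theorem p_g150_ok : Net.ok 24 p_g150 = true := by decide +kernel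

noncomputable def nt_c13_K : List Net := [p_g150, p_g90]

theorem nt_c13_K_ok : okE 24 nt_c13_K = true := (okE_cons.2 ⟨p_g150_ok, (okE_cons.2 ⟨p_g90_ok, (okE_nil 24)⟩)⟩)

noncomputable def nt_c13_cnt_EG : List Net := [p_g22, p_g1, p_g2, p_g29, p_g25, p_g26, p_g36, p_g32, p_g33, p_g43, p_g40, p_g47, p_g46, p_g39, p_g83, p_g84, p_g82, p_g81]

theorem nt_c13_cnt_EG_ok : okE 24 nt_c13_cnt_EG = true := (okE_cons.2 ⟨p_g22_ok, (okE_cons.2 ⟨p_g1_ok, (okE_cons.2 ⟨p_g2_ok, (okE_cons.2 ⟨p_g29_ok, (okE_cons.2 ⟨p_g25_ok, (okE_cons.2 ⟨p_g26_ok, (okE_cons.2 ⟨p_g36_ok, (okE_cons.2 ⟨p_g32_ok, (okE_cons.2 ⟨p_g33_ok, (okE_cons.2 ⟨p_g43_ok, (okE_cons.2 ⟨p_g40_ok, (okE_cons.2 ⟨p_g47_ok, (okE_cons.2 ⟨p_g46_ok, (okE_cons.2 ⟨p_g39_ok, (okE_cons.2 ⟨p_g83_ok, (okE_cons.2 ⟨p_g84_ok, (okE_cons.2 ⟨p_g82_ok, (okE_cons.2 ⟨p_g81_ok, (okE_nil 24)⟩)⟩)⟩)⟩)⟩)⟩)⟩)⟩)⟩)⟩)⟩)⟩)⟩)⟩)⟩)⟩)⟩)⟩)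

noncomputable def p_g152 : Net := (Net.cons (nat_lit 1) (nat_lit 20756) (Net.cons (nat_lit 2) (nat_lit 70400) (Net.cons (nat_lit 4) (nat_lit 984064) (Net.cons (nat_lit 8) (nat_lit 38) (Net.cons (nat_lit 16) (nat_lit 239) (Net.cons (nat_lit 8) (nat_lit 194) (Net.cons (nat_lit 4) (nat_lit 593410) (Net.cons (nat_lit 2) (nat_lit 0x110233) (Net.cons (nat_lit 1) (nat_lit 0x550511) Net.nil)))))))))

theorem p_g152_ok : Net.ok 24 p_g152 = true := by decide +kernel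

noncomputable def p_g153 : Net := (Net.cons (nat_lit 1) (nat_lit 0x510100) (Net.cons (nat_lit 2) (nat_lit 0x101020) (Net.cons (nat_lit 4) (nat_lit 720896) (Net.cons (nat_lit 16) (nat_lit 222) (Net.cons (nat_lit 8) (nat_lit 93) (Net.cons (nat_lit 4) (nat_lit 789507) (Net.cons (nat_lit 2) (nat_lit 0x302333) (Net.cons (nat_lit 1) (nat_lit 0x140451) Net.nil))))))))

theorem p_g153_ok : Net.ok 24 p_g153 = true := by decide +kernel

noncomputable def nt_c14_K : List Net := [p_g152, p_g153]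

theorem nt_c14_K_ok : okE 24 nt_c14_K = true := (okE_cons.2 ⟨p_g152_ok, (okE_cons.2 ⟨p_g153_ok, (okE_nil 24)⟩)⟩)

noncomputable def nt_c14_cnt_EG : List Net := [p_g22, p_g1, p_g2, p_g29, p_g25, p_g26, p_g36, p_g32, p_g33, p_g43, p_g40, p_g47, p_g46, p_g39]

theorem nt_c14_cnt_EG_ok : okE 24 nt_c14_cnt_EG = true := (okE_cons.2 ⟨p_g22_ok, (okE_cons.2 ⟨p_g1_ok, (okE_cons.2 ⟨p_g2_ok, (okE_cons.2 ⟨p_g29_ok, (okE_cons.2 ⟨p_g25_ok, (okE_cons.2 ⟨p_g26_ok, (okE_cons.2 ⟨p_g36_ok, (okE_cons.2 ⟨p_g32_ok, (okE_cons.2 ⟨p_g33_ok, (okE_cons.2 ⟨p_g43_ok, (okE_cons.2 ⟨p_g40_ok, (okE_cons.2 ⟨p_g47_ok, (okE_cons.2 ⟨p_g46_ok, (okE_cons.2 ⟨p_g39_ok, (okE_nil 24)⟩)⟩)⟩)⟩)⟩)⟩)⟩)⟩)⟩)⟩)⟩)⟩)⟩)⟩)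

noncomputable def p_g155 : Net := (Net.cons (nat_lit 1) (nat_lit 283712) (Net.cons (nat_lit 2) (nat_lit 8448) (Net.cons (nat_lit 4) (nat_lit 592640) (Net.cons (nat_lit 8) (nat_lit 60) (Net.cons (nat_lit 16) (nat_lit 191) (Net.cons (nat_lit 8) (nat_lit 212) (Net.cons (nat_lit 4) (nat_lit 853254) (Net.cons (nat_lit 2) (nat_lit 0x121102) (Net.cons (nat_lit 1) (nat_lit 0x400451) Net.nil)))))))))

theorem p_g155_ok : Net.ok 24 p_g155 = true := by decide +kernel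

noncomputable def p_g156 : Net := (Net.cons (nat_lit 1) (nat_lit 0x151000) (Net.cons (nat_lit 2) (nat_lit 8736) (Net.cons (nat_lit 8) (nat_lit 98) (Net.cons (nat_lit 16) (nat_lit 235) (Net.cons (nat_lit 8) (nat_lit 240) (Net.cons (nat_lit 4) (nat_lit 396557) (Net.cons (nat_lit 2) (nat_lit 0x302010) (Net.cons (nat_lit 1) (nat_lit 0x145041) Net.nil))))))))

theorem p_g156_ok : Net.ok 24 p_g156 = true := by decide +kernel

noncomputable def nt_c15_K : List Net := [p_g155, p_g156]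

theorem nt_c15_K_ok : okE 24 nt_c15_K = true := (okE_cons.2 ⟨p_g155_ok, (okE_cons.2 ⟨p_g156_ok, (okE_nil 24)⟩)⟩)

noncomputable def nt_c15_cnt_EG : List Net := [p_g46, p_g39, p_g47, p_g43, p_g40, p_g36, p_g32, p_g33, p_g29, p_g25, p_g26, p_g22, p_g1, p_g2]

theorem nt_c15_cnt_EG_ok : okE 24 nt_c15_cnt_EG = true := (okE_cons.2 ⟨p_g46_ok, (okE_cons.2 ⟨p_g39_ok, (okE_cons.2 ⟨p_g47_ok, (okE_cons.2 ⟨p_g43_ok, (okE_cons.2 ⟨p_g40_ok, (okE_cons.2 ⟨p_g36_ok, (okE_cons.2 ⟨p_g32_ok, (okE_cons.2 ⟨p_g33_ok, (okE_cons.2 ⟨p_g29_ok, (okE_cons.2 ⟨p_g25_ok, (okE_cons.2 ⟨p_g26_ok, (okE_cons.2 ⟨p_g22_ok, (okE_cons.2 ⟨p_g1_ok, (okE_cons.2 ⟨p_g2_ok, (okE_nil 24)⟩)⟩)⟩)⟩)⟩)⟩)⟩)⟩)⟩)⟩)⟩)⟩)⟩)⟩)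

noncomputable def p_g158 : Net := (Net.cons (nat_lit 1) (nat_lit 0x101010) (Net.cons (nat_lit 2) (nat_lit 0x231200) (Net.cons (nat_lit 4) (nat_lit 768) (Net.cons (nat_lit 8) (nat_lit 6) (Net.cons (nat_lit 16) (nat_lit 135) (Net.cons (nat_lit 8) (nat_lit 220) (Net.cons (nat_lit 4) (nat_lit 789511) (Net.cons (nat_lit 2) (nat_lit 0x323130) (Net.cons (nat_lit 1) (nat_lit 0x544005) Net.nil)))))))))

theorem p_g158_ok : Net.ok 24 p_g158 = true := by decide +kernel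

noncomputable def p_g159 : Net := (Net.cons (nat_lit 1) (nat_lit 0x401110) (Net.cons (nat_lit 2) (nat_lit 74496) (Net.cons (nat_lit 8) (nat_lit 8) (Net.cons (nat_lit 16) (nat_lit 238) (Net.cons (nat_lit 8) (nat_lit 55) (Net.cons (nat_lit 4) (nat_lit 593414) (Net.cons (nat_lit 2) (nat_lit 196898) (Net.cons (nat_lit 1) (nat_lit 0x511451) Net.nil))))))))

theorem p_g159_ok : Net.ok 24 p_g159 = true := by decide +kernel

noncomputable def nt_c16_K : List Net := [p_g158, p_g159]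

theorem nt_c16_K_ok : okE 24 nt_c16_K = true := (okE_cons.2 ⟨p_g158_ok, (okE_cons.2 ⟨p_g159_ok, (okE_nil 24)⟩)⟩)

noncomputable def nt_c16_cnt_EG : List Net := [p_g83, p_g84, p_g82, p_g81, p_g29, p_g25, p_g26, p_g36, p_g32, p_g33, p_g43, p_g40, p_g47, p_g46, p_g39, p_g22, p_g1, p_g2]

theorem nt_c16_cnt_EG_ok : okE 24 nt_c16_cnt_EG = true := (okE_cons.2 ⟨p_g83_ok, (okE_cons.2 ⟨p_g84_ok, (okE_cons.2 ⟨p_g82_ok, (okE_cons.2 ⟨p_g81_ok, (okE_cons.2 ⟨p_g29_ok, (okE_cons.2 ⟨p_g25_ok, (okE_cons.2 ⟨p_g26_ok, (okE_cons.2 ⟨p_g36_ok, (okE_cons.2 ⟨p_g32_ok, (okE_cons.2 ⟨p_g33_ok, (okE_cons.2 ⟨p_g43_ok, (okE_cons.2 ⟨p_g40_ok, (okE_cons.2 ⟨p_g47_ok, (okE_cons.2 ⟨p_g46_ok, (okE_cons.2 ⟨p_g39_ok, (okE_cons.2 ⟨p_g22_ok, (okE_cons.2 ⟨p_g1_ok, (okE_cons.2 ⟨p_g2_ok, (okE_nil 24)⟩)⟩)⟩)⟩)⟩)⟩)⟩)⟩)⟩)⟩)⟩)⟩)⟩)⟩)⟩)⟩)⟩)⟩)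

noncomputable def p_g161 : Net := (Net.cons (nat_lit 1) (nat_lit 64) (Net.cons (nat_lit 2) (nat_lit 16) (Net.cons (nat_lit 4) (nat_lit 589824) (Net.cons (nat_lit 8) (nat_lit 224) (Net.cons (nat_lit 16) (nat_lit 244) (Net.cons (nat_lit 8) (nat_lit 66) (Net.cons (nat_lit 4) (nat_lit 200197) (Net.cons (nat_lit 2) (nat_lit 513) (Net.cons (nat_lit 1) (nat_lit 0x410105) Net.nil)))))))))

theorem p_g161_ok : Net.ok 24 p_g161 = true := by decide +kernel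

noncomputable def nt_c17_K : List Net := [p_g161]

theorem nt_c17_K_ok : okE 24 nt_c17_K = true := (okE_cons.2 ⟨p_g161_ok, (okE_nil 24)⟩)

noncomputable def nt_c17_cnt_EG : List Net := [p_g22, p_g1, p_g2, p_g29, p_g25, p_g26, p_g36, p_g32, p_g33, p_g43, p_g40, p_g47, p_g46, p_g39, p_g142, p_g99, p_g141]

theorem nt_c17_cnt_EG_ok : okE 24 nt_c17_cnt_EG = true := (okE_cons.2 ⟨p_g22_ok, (okE_cons.2 ⟨p_g1_ok, (okE_cons.2 ⟨p_g2_ok, (okE_cons.2 ⟨p_g29_ok, (okE_cons.2 ⟨p_g25_ok, (okE_cons.2 ⟨p_g26_ok, (okE_cons.2 ⟨p_g36_ok, (okE_cons.2 ⟨p_g32_ok, (okE_cons.2 ⟨p_g33_ok, (okE_cons.2 ⟨p_g43_ok, (okE_cons.2 ⟨p_g40_ok, (okE_cons.2 ⟨p_g47_ok, (okE_cons.2 ⟨p_g46_ok, (okE_cons.2 ⟨p_g39_ok, (okE_cons.2 ⟨p_g142_ok, (okE_cons.2 ⟨p_g99_ok, (okE_cons.2 ⟨p_g141_ok, (okE_nil 24)⟩)⟩)⟩)⟩)⟩)⟩)⟩)⟩)⟩)⟩)⟩)⟩)⟩)⟩)⟩)⟩)⟩)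

noncomputable def p_g163 : Net := (Net.cons (nat_lit 1) (nat_lit 0x150044) (Net.cons (nat_lit 2) (nat_lit 0x100030) (Net.cons (nat_lit 4) (nat_lit 198656) (Net.cons (nat_lit 8) (nat_lit 35) (Net.cons (nat_lit 16) (nat_lit 231) (Net.cons (nat_lit 8) (nat_lit 160) (Net.cons (nat_lit 4) (nat_lit 590088) (Net.cons (nat_lit 2) (nat_lit 0x233320) (Net.cons (nat_lit 1) (nat_lit 82948) Net.nil)))))))))

theorem p_g163_ok : Net.ok 24 p_g163 = true := by decide +kernel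

noncomputable def nt_c18_K : List Net := [p_g163]

theorem nt_c18_K_ok : okE 24 nt_c18_K = true := (okE_cons.2 ⟨p_g163_ok, (okE_nil 24)⟩)

noncomputable def nt_c18_cnt_EG : List Net := [p_g22, p_g1, p_g2, p_g29, p_g25, p_g26, p_g36, p_g32, p_g33, p_g43, p_g40, p_g47, p_g46, p_g39]

theorem nt_c18_cnt_EG_ok : okE 24 nt_c18_cnt_EG = true := (okE_cons.2 ⟨p_g22_ok, (okE_cons.2 ⟨p_g1_ok, (okE_cons.2 ⟨p_g2_ok, (okE_cons.2 ⟨p_g29_ok, (okE_cons.2 ⟨p_g25_ok, (okE_cons.2 ⟨p_g26_ok, (okE_cons.2 ⟨p_g36_ok, (okE_cons.2 ⟨p_g32_ok, (okE_cons.2 ⟨p_g33_ok, (okE_cons.2 ⟨p_g43_ok, (okE_cons.2 ⟨p_g40_ok, (okE_cons.2 ⟨p_g47_ok, (okE_cons.2 ⟨p_g46_ok, (okE_cons.2 ⟨p_g39_ok, (okE_nil 24)⟩)⟩)⟩)⟩)⟩)⟩)⟩)⟩)⟩)⟩)⟩)⟩)⟩)⟩)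

noncomputable def p_g165 : Net := (Net.cons (nat_lit 1) (nat_lit 0x445010) (Net.cons (nat_lit 2) (nat_lit 0x100100) (Net.cons (nat_lit 8) (nat_lit 214) (Net.cons (nat_lit 16) (nat_lit 247) (Net.cons (nat_lit 8) (nat_lit 16) (Net.cons (nat_lit 4) (nat_lit 919567) (Net.cons (nat_lit 2) (nat_lit 0x122201) (Net.cons (nat_lit 1) (nat_lit 0x415411) Net.nil))))))))

theorem p_g165_ok : Net.ok 24 p_g165 = true := by decide +kernel

noncomputable def nt_c19_K : List Net := [p_g165]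

theorem nt_c19_K_ok : okE 24 nt_c19_K = true := (okE_cons.2 ⟨p_g165_ok, (okE_nil 24)⟩)

noncomputable def nt_c19_cnt_EG : List Net := [p_g46, p_g39, p_g47, p_g43, p_g40, p_g36, p_g32, p_g33, p_g29, p_g25, p_g26, p_g22, p_g1, p_g2]

theorem nt_c19_cnt_EG_ok : okE 24 nt_c19_cnt_EG = true := (okE_cons.2 ⟨p_g46_ok, (okE_cons.2 ⟨p_g39_ok, (okE_cons.2 ⟨p_g47_ok, (okE_cons.2 ⟨p_g43_ok, (okE_cons.2 ⟨p_g40_ok, (okE_cons.2 ⟨p_g36_ok, (okE_cons.2 ⟨p_g32_ok, (okE_cons.2 ⟨p_g33_ok, (okE_cons.2 ⟨p_g29_ok, (okE_cons.2 ⟨p_g25_ok, (okE_cons.2 ⟨p_g26_ok, (okE_cons.2 ⟨p_g22_ok, (okE_cons.2 ⟨p_g1_ok, (okE_cons.2 ⟨p_g2_ok, (okE_nil 24)⟩)⟩)⟩)⟩)⟩)⟩)⟩)⟩)⟩)⟩)⟩)⟩)⟩)⟩)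

noncomputable def p_g167 : Net := (Net.cons (nat_lit 1) (nat_lit 0x445104) (Net.cons (nat_lit 2) (nat_lit 256) (Net.cons (nat_lit 4) (nat_lit 67840) (Net.cons (nat_lit 8) (nat_lit 134) (Net.cons (nat_lit 16) (nat_lit 239) (Net.cons (nat_lit 8) (nat_lit 252) (Net.cons (nat_lit 4) (nat_lit 984588) (Net.cons (nat_lit 2) (nat_lit 0x313130) (Net.cons (nat_lit 1) (nat_lit 0x554515) Net.nil)))))))))

theorem p_g167_ok : Net.ok 24 p_g167 = true := by decide +kernel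

noncomputable def nt_c20_K : List Net := [p_g167]

theorem nt_c20_K_ok : okE 24 nt_c20_K = true := (okE_cons.2 ⟨p_g167_ok, (okE_nil 24)⟩)

noncomputable def nt_c20_cnt_EG : List Net := [p_g22, p_g1, p_g2, p_g29, p_g25, p_g26, p_g36, p_g32, p_g33, p_g43, p_g40, p_g47, p_g46, p_g39]

theorem nt_c20_cnt_EG_ok : okE 24 nt_c20_cnt_EG = true := (okE_cons.2 ⟨p_g22_ok, (okE_cons.2 ⟨p_g1_ok, (okE_cons.2 ⟨p_g2_ok, (okE_cons.2 ⟨p_g29_ok, (okE_cons.2 ⟨p_g25_ok, (okE_cons.2 ⟨p_g26_ok, (okE_cons.2 ⟨p_g36_ok, (okE_cons.2 ⟨p_g32_ok, (okE_cons.2 ⟨p_g33_ok, (okE_cons.2 ⟨p_g43_ok, (okE_cons.2 ⟨p_g40_ok, (okE_cons.2 ⟨p_g47_ok, (okE_cons.2 ⟨p_g46_ok, (okE_cons.2 ⟨p_g39_ok, (okE_nil 24)⟩)⟩)⟩)⟩)⟩)⟩)⟩)⟩)⟩)⟩)⟩)⟩)⟩)⟩)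

noncomputable def nt_nc15_14_cnt_EG : List Net := [p_g36, p_g32, p_g33, p_g43, p_g40, p_g47, p_g46, p_g39, p_g29, p_g25, p_g26, p_g22, p_g1, p_g2]

theorem nt_nc15_14_cnt_EG_ok : okE 24 nt_nc15_14_cnt_EG = true := (okE_cons.2 ⟨p_g36_ok, (okE_cons.2 ⟨p_g32_ok, (okE_cons.2 ⟨p_g33_ok, (okE_cons.2 ⟨p_g43_ok, (okE_cons.2 ⟨p_g40_ok, (okE_cons.2 ⟨p_g47_ok, (okE_cons.2 ⟨p_g46_ok, (okE_cons.2 ⟨p_g39_ok, (okE_cons.2 ⟨p_g29_ok, (okE_cons.2 ⟨p_g25_ok, (okE_cons.2 ⟨p_g26_ok, (okE_cons.2 ⟨p_g22_ok, (okE_cons.2 ⟨p_g1_ok, (okE_cons.2 ⟨p_g2_ok, (okE_nil 24)⟩)⟩)⟩)⟩)⟩)⟩)⟩)⟩)⟩)⟩)⟩)⟩)⟩)⟩)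

noncomputable def nt_nc16_14_cnt_EG : List Net := [p_g22, p_g1, p_g2, p_g29, p_g25, p_g26, p_g36, p_g32, p_g33, p_g43, p_g40, p_g47, p_g46, p_g39]

theorem nt_nc16_14_cnt_EG_ok : okE 24 nt_nc16_14_cnt_EG = true := (okE_cons.2 ⟨p_g22_ok, (okE_cons.2 ⟨p_g1_ok, (okE_cons.2 ⟨p_g2_ok, (okE_cons.2 ⟨p_g29_ok, (okE_cons.2 ⟨p_g25_ok, (okE_cons.2 ⟨p_g26_ok, (okE_cons.2 ⟨p_g36_ok, (okE_cons.2 ⟨p_g32_ok, (okE_cons.2 ⟨p_g33_ok, (okE_cons.2 ⟨p_g43_ok, (okE_cons.2 ⟨p_g40_ok, (okE_cons.2 ⟨p_g47_ok, (okE_cons.2 ⟨p_g46_ok, (okE_cons.2 ⟨p_g39_ok, (okE_nil 24)⟩)⟩)⟩)⟩)⟩)⟩)⟩)⟩)⟩)⟩)⟩)⟩)⟩)⟩)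

noncomputable def nt_nc16_15_cnt_EG : List Net := [p_g22, p_g1, p_g2, p_g29, p_g25, p_g26, p_g36, p_g32, p_g33, p_g43, p_g40, p_g47, p_g46, p_g39]

theorem nt_nc16_15_cnt_EG_ok : okE 24 nt_nc16_15_cnt_EG = true := (okE_cons.2 ⟨p_g22_ok, (okE_cons.2 ⟨p_g1_ok, (okE_cons.2 ⟨p_g2_ok, (okE_cons.2 ⟨p_g29_ok, (okE_cons.2 ⟨p_g25_ok, (okE_cons.2 ⟨p_g26_ok, (okE_cons.2 ⟨p_g36_ok, (okE_cons.2 ⟨p_g32_ok, (okE_cons.2 ⟨p_g33_ok, (okE_cons.2 ⟨p_g43_ok, (okE_cons.2 ⟨p_g40_ok, (okE_cons.2 ⟨p_g47_ok, (okE_cons.2 ⟨p_g46_ok, (okE_cons.2 ⟨p_g39_ok, (okE_nil 24)⟩)⟩)⟩)⟩)⟩)⟩)⟩)⟩)⟩)⟩)⟩)⟩)⟩)⟩)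

noncomputable def nt_nc19_18_cnt_EG : List Net := [p_g36, p_g32, p_g33, p_g43, p_g40, p_g47, p_g46, p_g39, p_g29, p_g25, p_g26, p_g22, p_g1, p_g2]

theorem nt_nc19_18_cnt_EG_ok : okE 24 nt_nc19_18_cnt_EG = true := (okE_cons.2 ⟨p_g36_ok, (okE_cons.2 ⟨p_g32_ok, (okE_cons.2 ⟨p_g33_ok, (okE_cons.2 ⟨p_g43_ok, (okE_cons.2 ⟨p_g40_ok, (okE_cons.2 ⟨p_g47_ok, (okE_cons.2 ⟨p_g46_ok, (okE_cons.2 ⟨p_g39_ok, (okE_cons.2 ⟨p_g29_ok, (okE_cons.2 ⟨p_g25_ok, (okE_cons.2 ⟨p_g26_ok, (okE_cons.2 ⟨p_g22_ok, (okE_cons.2 ⟨p_g1_ok, (okE_cons.2 ⟨p_g2_ok, (okE_nil 24)⟩)⟩)⟩)⟩)⟩)⟩)⟩)⟩)⟩)⟩)⟩)⟩)⟩)⟩)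

noncomputable def p_g169 : Net := (Net.cons (nat_lit 1) (nat_lit 0x515450) (Net.cons (nat_lit 2) (nat_lit 205312) (Net.cons (nat_lit 4) (nat_lit 264192) (Net.cons (nat_lit 8) (nat_lit 68) (Net.cons (nat_lit 16) (nat_lit 93) (Net.cons (nat_lit 8) (nat_lit 12) (Net.cons (nat_lit 4) (nat_lit 3584) (Net.cons (nat_lit 2) (nat_lit 0x202202) (Net.cons (nat_lit 1) (nat_lit 0x444455) Net.nil)))))))))

theorem p_g169_ok : Net.ok 24 p_g169 = true := by decide +kernel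

noncomputable def p_g170 : Net := (Net.cons (nat_lit 1) (nat_lit 0x450510) (Net.cons (nat_lit 2) (nat_lit 0x221010) (Net.cons (nat_lit 4) (nat_lit 591872) (Net.cons (nat_lit 8) (nat_lit 100) (Net.cons (nat_lit 16) (nat_lit 124) (Net.cons (nat_lit 8) (nat_lit 8) (Net.cons (nat_lit 4) (nat_lit 2315) (Net.cons (nat_lit 2) (nat_lit 0x303221) (Net.cons (nat_lit 1) (nat_lit 0x401511) Net.nil)))))))))

theorem p_g170_ok : Net.ok 24 p_g170 = true := by decide +kernel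

noncomputable def p_g171 : Net := (Net.cons (nat_lit 1) (nat_lit 0x154004) (Net.cons (nat_lit 2) (nat_lit 0x212010) (Net.cons (nat_lit 4) (nat_lit 198144) (Net.cons (nat_lit 16) (nat_lit 151) (Net.cons (nat_lit 8) (nat_lit 82) (Net.cons (nat_lit 4) (nat_lit 919562) (Net.cons (nat_lit 2) (nat_lit 0x122133) (Net.cons (nat_lit 1) (nat_lit 0x414044) Net.nil))))))))

theorem p_g171_ok : Net.ok 24 p_g171 = true := by decide +kernel

noncomputable def ch2_Q : List Net := [p_g90, p_g169, p_g170, p_g171]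

theorem ch2_Q_ok : okE 24 ch2_Q = true := (okE_cons.2 ⟨p_g90_ok, (okE_cons.2 ⟨p_g169_ok, (okE_cons.2 ⟨p_g170_ok, (okE_cons.2 ⟨p_g171_ok, (okE_nil 24)⟩)⟩)⟩)⟩)

noncomputable def p_V172 : List Net := [p_g170]

theorem p_V172_ok : okE 24 p_V172 = true := (okE_cons.2 ⟨p_g170_ok, (okE_nil 24)⟩)

noncomputable def p_g174 : Net := (Net.cons (nat_lit 1) (nat_lit 69712) (Net.cons (nat_lit 2) (nat_lit 0x123000) (Net.cons (nat_lit 4) (nat_lit 1024) (Net.cons (nat_lit 8) (nat_lit 200) (Net.cons (nat_lit 16) (nat_lit 216) (Net.cons (nat_lit 8) (nat_lit 196) (Net.cons (nat_lit 4) (nat_lit 723968) (Net.cons (nat_lit 2) (nat_lit 0x213011) (Net.cons (nat_lit 1) (nat_lit 0x444455) Net.nil)))))))))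

theorem p_g174_ok : Net.ok 24 p_g174 = true := by decide +kernel

noncomputable def p_V175 : List Net := [p_g169, p_g174]

theorem p_V175_ok : okE 24 p_V175 = true := (okE_cons.2 ⟨p_g169_ok, (okE_cons.2 ⟨p_g174_ok, (okE_nil 24)⟩)⟩)

noncomputable def p_V177 : List Net := [p_g123, p_g174]

theorem p_V177_ok : okE 24 p_V177 = true := (okE_cons.2 ⟨p_g123_ok, (okE_cons.2 ⟨p_g174_ok, (okE_nil 24)⟩)⟩)

noncomputable def p_V179 : List Net := [p_g90, p_g90]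

theorem p_V179_ok : okE 24 p_V179 = true := (okE_cons.2 ⟨p_g90_ok, (okE_cons.2 ⟨p_g90_ok, (okE_nil 24)⟩)⟩)

noncomputable def p_V181 : List Net := [p_g90]

theorem p_V181_ok : okE 24 p_V181 = true := (okE_cons.2 ⟨p_g90_ok, (okE_nil 24)⟩)

noncomputable def ch2_o_E3 : List Net := []

theorem ch2_o_E3_ok : okE 24 ch2_o_E3 = true := (okE_nil 24)

noncomputable def ch2_o_G2 : List Net := [p_g90]

theorem ch2_o_G2_ok : okE 24 ch2_o_G2 = true := (okE_cons.2 ⟨p_g90_ok, (okE_nil 24)⟩)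

noncomputable def ch2_o_E2 : List Net := [p_g90]

theorem ch2_o_E2_ok : okE 24 ch2_o_E2 = true := (okE_cons.2 ⟨p_g90_ok, (okE_nil 24)⟩)

noncomputable def ch2_o_G1 : List Net := [p_g123, p_g174, p_g90]

theorem ch2_o_G1_ok : okE 24 ch2_o_G1 = true := (okE_cons.2 ⟨p_g123_ok, (okE_cons.2 ⟨p_g174_ok, (okE_cons.2 ⟨p_g90_ok, (okE_nil 24)⟩)⟩)⟩)

noncomputable def ch2_o_E1 : List Net := [p_g123, p_g174, p_g169, p_g90]

theorem ch2_o_E1_ok : okE 24 ch2_o_E1 = true := (okE_cons.2 ⟨p_g123_ok, (okE_cons.2 ⟨p_g174_ok, (okE_cons.2 ⟨p_g169_ok, (okE_cons.2 ⟨p_g90_ok, (okE_nil 24)⟩)⟩)⟩)⟩)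

noncomputable def ch2_o_G0 : List Net := [p_g170, p_g123, p_g174, p_g169, p_g90]

theorem ch2_o_G0_ok : okE 24 ch2_o_G0 = true := (okE_cons.2 ⟨p_g170_ok, (okE_cons.2 ⟨p_g123_ok, (okE_cons.2 ⟨p_g174_ok, (okE_cons.2 ⟨p_g169_ok, (okE_cons.2 ⟨p_g90_ok, (okE_nil 24)⟩)⟩)⟩)⟩)⟩)

noncomputable def ch2_o_E0 : List Net := [p_g170, p_g171, p_g123, p_g174, p_g169, p_g90]

theorem ch2_o_E0_ok : okE 24 ch2_o_E0 = true := (okE_cons.2 ⟨p_g170_ok, (okE_cons.2 ⟨p_g171_ok, (okE_cons.2 ⟨p_g123_ok, (okE_cons.2 ⟨p_g174_ok, (okE_cons.2 ⟨p_g169_ok, (okE_cons.2 ⟨p_g90_ok, (okE_nil 24)⟩)⟩)⟩)⟩)⟩)⟩)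

noncomputable def p_g190 : Net := (Net.cons (nat_lit 1) (nat_lit 0x110114) (Net.cons (nat_lit 2) (nat_lit 0x332330) (Net.cons (nat_lit 4) (nat_lit 131328) (Net.cons (nat_lit 8) (nat_lit 18) (Net.cons (nat_lit 16) (nat_lit 91) (Net.cons (nat_lit 8) (nat_lit 155) (Net.cons (nat_lit 4) (nat_lit 396040) (Net.cons (nat_lit 2) (nat_lit 0x132330) (Net.cons (nat_lit 1) (nat_lit 0x510414) Net.nil)))))))))

theorem p_g190_ok : Net.ok 24 p_g190 = true := by decide +kernel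

noncomputable def p_g191 : Net := (Net.cons (nat_lit 1) (nat_lit 0x554440) (Net.cons (nat_lit 2) (nat_lit 0x110110) (Net.cons (nat_lit 4) (nat_lit 788736) (Net.cons (nat_lit 8) (nat_lit 196) (Net.cons (nat_lit 16) (nat_lit 246) (Net.cons (nat_lit 8) (nat_lit 114) (Net.cons (nat_lit 4) (nat_lit 69132) (Net.cons (nat_lit 2) (nat_lit 201218) (Net.cons (nat_lit 1) (nat_lit 0x541051) Net.nil)))))))))

theorem p_g191_ok : Net.ok 24 p_g191 = true := by decide +kernel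

noncomputable def p_g192 : Net := (Net.cons (nat_lit 1) (nat_lit 0x451000) (Net.cons (nat_lit 2) (nat_lit 0x111000) (Net.cons (nat_lit 4) (nat_lit 68608) (Net.cons (nat_lit 8) (nat_lit 24) (Net.cons (nat_lit 16) (nat_lit 27) (Net.cons (nat_lit 8) (nat_lit 175) (Net.cons (nat_lit 4) (nat_lit 263938) (Net.cons (nat_lit 2) (nat_lit 0x211230) (Net.cons (nat_lit 1) (nat_lit 0x111544) Net.nil)))))))))

theorem p_g192_ok : Net.ok 24 p_g192 = true := by decide +kernel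

noncomputable def L1 : List Net := [p_g191, p_g192]

theorem L1_ok : okE 24 L1 = true := (okE_cons.2 ⟨p_g191_ok, (okE_cons.2 ⟨p_g192_ok, (okE_nil 24)⟩)⟩)

noncomputable def p_V193 : List Net := [p_g191]

theorem p_V193_ok : okE 24 p_V193 = true := (okE_cons.2 ⟨p_g191_ok, (okE_nil 24)⟩)

noncomputable def p_g195 : Net := (Net.cons (nat_lit 1) (nat_lit 0x455110) (Net.cons (nat_lit 2) (nat_lit 0x322220) (Net.cons (nat_lit 4) (nat_lit 132096) (Net.cons (nat_lit 8) (nat_lit 8) (Net.cons (nat_lit 16) (nat_lit 58) (Net.cons (nat_lit 8) (nat_lit 30) (Net.cons (nat_lit 4) (nat_lit 3078) (Net.cons (nat_lit 2) (nat_lit 12800) (Net.cons (nat_lit 1) (nat_lit 333124) Net.nil)))))))))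

theorem p_g195_ok : Net.ok 24 p_g195 = true := by decide +kernel

noncomputable def p_g196 : Net := (Net.cons (nat_lit 1) (nat_lit 0x101500) (Net.cons (nat_lit 4) (nat_lit 262144) (Net.cons (nat_lit 8) (nat_lit 4) (Net.cons (nat_lit 16) (nat_lit 164) (Net.cons (nat_lit 8) (nat_lit 20) (Net.cons (nat_lit 4) (nat_lit 262660) (Net.cons (nat_lit 2) (nat_lit 65536) (Net.cons (nat_lit 1) (nat_lit 0x105500) Net.nil))))))))

theorem p_g196_ok : Net.ok 24 p_g196 = true := by decide +kernel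

noncomputable def p_V197 : List Net := [p_g195, p_g196]

theorem p_V197_ok : okE 24 p_V197 = true := (okE_cons.2 ⟨p_g195_ok, (okE_cons.2 ⟨p_g196_ok, (okE_nil 24)⟩)⟩)

noncomputable def p_g199 : Net := (Net.cons (nat_lit 1) (nat_lit 0x455144) (Net.cons (nat_lit 2) (nat_lit 0x322010) (Net.cons (nat_lit 8) (nat_lit 200) (Net.cons (nat_lit 16) (nat_lit 248) (Net.cons (nat_lit 8) (nat_lit 254) (Net.cons (nat_lit 4) (nat_lit 525836) (Net.cons (nat_lit 2) (nat_lit 0x301230) (Net.cons (nat_lit 1) (nat_lit 0x555114) Net.nil))))))))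

theorem p_g199_ok : Net.ok 24 p_g199 = true := by decide +kernel

noncomputable def p_V200 : List Net := [p_g199]

theorem p_V200_ok : okE 24 p_V200 = true := (okE_cons.2 ⟨p_g199_ok, (okE_nil 24)⟩)

noncomputable def p_V202 : List Net := [p_g196, p_g196]

theorem p_V202_ok : okE 24 p_V202 = true := (okE_cons.2 ⟨p_g196_ok, (okE_cons.2 ⟨p_g196_ok, (okE_nil 24)⟩)⟩)

noncomputable def p_V204 : List Net := [p_g196]

theorem p_V204_ok : okE 24 p_V204 = true := (okE_cons.2 ⟨p_g196_ok, (okE_nil 24)⟩)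

noncomputable def L1o_E3 : List Net := []

theorem L1o_E3_ok : okE 24 L1o_E3 = true := (okE_nil 24)

noncomputable def L1o_G2 : List Net := [p_g196]

theorem L1o_G2_ok : okE 24 L1o_G2 = true := (okE_cons.2 ⟨p_g196_ok, (okE_nil 24)⟩)

noncomputable def L1o_E2 : List Net := [p_g196]

theorem L1o_E2_ok : okE 24 L1o_E2 = true := (okE_cons.2 ⟨p_g196_ok, (okE_nil 24)⟩)

noncomputable def L1o_G1 : List Net := [p_g199, p_g196]

theorem L1o_G1_ok : okE 24 L1o_G1 = true := (okE_cons.2 ⟨p_g199_ok, (okE_cons.2 ⟨p_g196_ok, (okE_nil 24)⟩)⟩)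

noncomputable def L1o_E1 : List Net := [p_g199, p_g195, p_g196]

theorem L1o_E1_ok : okE 24 L1o_E1 = true := (okE_cons.2 ⟨p_g199_ok, (okE_cons.2 ⟨p_g195_ok, (okE_cons.2 ⟨p_g196_ok, (okE_nil 24)⟩)⟩)⟩)

noncomputable def L1o_G0 : List Net := [p_g191, p_g199, p_g195, p_g196]

theorem L1o_G0_ok : okE 24 L1o_G0 = true := (okE_cons.2 ⟨p_g191_ok, (okE_cons.2 ⟨p_g199_ok, (okE_cons.2 ⟨p_g195_ok, (okE_cons.2 ⟨p_g196_ok, (okE_nil 24)⟩)⟩)⟩)⟩)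

noncomputable def L1o_E0 : List Net := [p_g191, p_g192, p_g199, p_g195, p_g196]

theorem L1o_E0_ok : okE 24 L1o_E0 = true := (okE_cons.2 ⟨p_g191_ok, (okE_cons.2 ⟨p_g192_ok, (okE_cons.2 ⟨p_g199_ok, (okE_cons.2 ⟨p_g195_ok, (okE_cons.2 ⟨p_g196_ok, (okE_nil 24)⟩)⟩)⟩)⟩)⟩)

theorem b1_hn : NOk 6 := by decide

theorem b1_hk : 6 ≤ 2 ^ 3 := by decide

noncomputable def b1_g1 : Net := (Net.cons (nat_lit 2) (nat_lit 3) (Net.cons (nat_lit 4) (nat_lit 3) Net.nil))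

theorem b1_g1_ok : Net.ok 6 b1_g1 = true := by decide +kernel

noncomputable def b1_g2 : Net := (Net.cons (nat_lit 1) (nat_lit 4) (Net.cons (nat_lit 2) (nat_lit 1) (Net.cons (nat_lit 4) (nat_lit 1) (Net.cons (nat_lit 2) (nat_lit 3) (Net.cons (nat_lit 1) (nat_lit 21) Net.nil)))))

theorem b1_g2_ok : Net.ok 6 b1_g2 = true := by decide +kernel

noncomputable def B1_E : List Net := [b1_g1, b1_g2]

theorem B1_E_ok : okE 6 B1_E = true := (okE_cons.2 ⟨b1_g1_ok, (okE_cons.2 ⟨b1_g2_ok, (okE_nil 6)⟩)⟩)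

noncomputable def b1_g3 : Net := (Net.cons (nat_lit 1) (nat_lit 4) (Net.cons (nat_lit 2) (nat_lit 1) (Net.cons (nat_lit 4) (nat_lit 1) (Net.cons (nat_lit 2) (nat_lit 3) (Net.cons (nat_lit 1) (nat_lit 16) Net.nil)))))

theorem b1_g3_ok : Net.ok 6 b1_g3 = true := by decide +kernel

noncomputable def b1_g4 : Net := (Net.cons (nat_lit 1) (nat_lit 16) (Net.cons (nat_lit 2) (nat_lit 1) (Net.cons (nat_lit 4) (nat_lit 1) (Net.cons (nat_lit 2) (nat_lit 3) (Net.cons (nat_lit 1) (nat_lit 16) Net.nil)))))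

theorem b1_g4_ok : Net.ok 6 b1_g4 = true := by decide +kernel

noncomputable def b1_V5 : List Net := [b1_g3, b1_g4]

theorem b1_V5_ok : okE 6 b1_V5 = true := (okE_cons.2 ⟨b1_g3_ok, (okE_cons.2 ⟨b1_g4_ok, (okE_nil 6)⟩)⟩)

noncomputable def b1_g7 : Net := (Net.cons (nat_lit 1) (nat_lit 20) Net.nil)

theorem b1_g7_ok : Net.ok 6 b1_g7 = true := by decide +kernel

noncomputable def b1_V8 : List Net := [b1_g7, b1_g7]

theorem b1_V8_ok : okE 6 b1_V8 = true := (okE_cons.2 ⟨b1_g7_ok, (okE_cons.2 ⟨b1_g7_ok, (okE_nil 6)⟩)⟩)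

noncomputable def B1_lb_E : List Net := [b1_g1, b1_g2, b1_g3, b1_g4, b1_g7, b1_g7]

theorem B1_lb_E_ok : okE 6 B1_lb_E = true := (okE_cons.2 ⟨b1_g1_ok, (okE_cons.2 ⟨b1_g2_ok, (okE_cons.2 ⟨b1_g3_ok, (okE_cons.2 ⟨b1_g4_ok, (okE_cons.2 ⟨b1_g7_ok, (okE_cons.2 ⟨b1_g7_ok, (okE_nil 6)⟩)⟩)⟩)⟩)⟩)⟩)

noncomputable def b1_V10 : List Net := [b1_g3, b1_g4, b1_g7, b1_g7]

theorem b1_V10_ok : okE 6 b1_V10 = true := (okE_cons.2 ⟨b1_g3_ok, (okE_cons.2 ⟨b1_g4_ok, (okE_cons.2 ⟨b1_g7_ok, (okE_cons.2 ⟨b1_g7_ok, (okE_nil 6)⟩)⟩)⟩)⟩)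

noncomputable def p_g214 : Net := (Net.cons (nat_lit 1) (nat_lit 0x140000) (Net.cons (nat_lit 2) (nat_lit 0x222000) (Net.cons (nat_lit 4) (nat_lit 133376) (Net.cons (nat_lit 8) (nat_lit 146) (Net.cons (nat_lit 16) (nat_lit 159) (Net.cons (nat_lit 8) (nat_lit 165) (Net.cons (nat_lit 4) (nat_lit 788481) (Net.cons (nat_lit 2) (nat_lit 0x221303) (Net.cons (nat_lit 1) (nat_lit 0x415555) Net.nil)))))))))

theorem p_g214_ok : Net.ok 24 p_g214 = true := by decide +kernel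

noncomputable def p_g215 : Net := (Net.cons (nat_lit 1) (nat_lit 0x511000) (Net.cons (nat_lit 2) (nat_lit 139264) (Net.cons (nat_lit 4) (nat_lit 328192) (Net.cons (nat_lit 8) (nat_lit 32) (Net.cons (nat_lit 16) (nat_lit 243) (Net.cons (nat_lit 8) (nat_lit 28) (Net.cons (nat_lit 4) (nat_lit 655616) (Net.cons (nat_lit 2) (nat_lit 69632) (Net.cons (nat_lit 1) (nat_lit 279893) Net.nil)))))))))

theorem p_g215_ok : Net.ok 24 p_g215 = true := by decide +kernel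

noncomputable def Y1 : List Net := [p_g214, p_g215]

theorem Y1_ok : okE 24 Y1 = true := (okE_cons.2 ⟨p_g214_ok, (okE_cons.2 ⟨p_g215_ok, (okE_nil 24)⟩)⟩)

noncomputable def Y1_cnt_EG : List Net := [p_g83, p_g84, p_g82, p_g81, p_g29, p_g25, p_g26, p_g36, p_g32, p_g33, p_g43, p_g40, p_g47, p_g46, p_g39, p_g22, p_g1, p_g2]

theorem Y1_cnt_EG_ok : okE 24 Y1_cnt_EG = true := (okE_cons.2 ⟨p_g83_ok, (okE_cons.2 ⟨p_g84_ok, (okE_cons.2 ⟨p_g82_ok, (okE_cons.2 ⟨p_g81_ok, (okE_cons.2 ⟨p_g29_ok, (okE_cons.2 ⟨p_g25_ok, (okE_cons.2 ⟨p_g26_ok, (okE_cons.2 ⟨p_g36_ok, (okE_cons.2 ⟨p_g32_ok, (okE_cons.2 ⟨p_g33_ok, (okE_cons.2 ⟨p_g43_ok, (okE_cons.2 ⟨p_g40_ok, (okE_cons.2 ⟨p_g47_ok, (okE_cons.2 ⟨p_g46_ok, (okE_cons.2 ⟨p_g39_ok, (okE_cons.2 ⟨p_g22_ok, (okE_cons.2 ⟨p_g1_ok, (okE_cons.2 ⟨p_g2_ok, (okE_nil 24)⟩)⟩)⟩)⟩)⟩)⟩)⟩)⟩)⟩)⟩)⟩)⟩)⟩)⟩)⟩)⟩)⟩)⟩)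

noncomputable def p_g217 : Net := (Net.cons (nat_lit 1) (nat_lit 0x101014) (Net.cons (nat_lit 2) (nat_lit 4864) (Net.cons (nat_lit 4) (nat_lit 198144) (Net.cons (nat_lit 8) (nat_lit 48) (Net.cons (nat_lit 16) (nat_lit 49) (Net.cons (nat_lit 8) (nat_lit 47) (Net.cons (nat_lit 4) (nat_lit 657153) (Net.cons (nat_lit 2) (nat_lit 4864) (Net.cons (nat_lit 1) (nat_lit 0x101014) Net.nil)))))))))

theorem p_g217_ok : Net.ok 24 p_g217 = true := by decide +kernel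

noncomputable def p_g218 : Net := (Net.cons (nat_lit 1) (nat_lit 0x501404) (Net.cons (nat_lit 2) (nat_lit 70144) (Net.cons (nat_lit 4) (nat_lit 1024) (Net.cons (nat_lit 8) (nat_lit 17) (Net.cons (nat_lit 16) (nat_lit 17) (Net.cons (nat_lit 8) (nat_lit 183) (Net.cons (nat_lit 4) (nat_lit 1538) (Net.cons (nat_lit 2) (nat_lit 0x211210) (Net.cons (nat_lit 1) (nat_lit 0x501404) Net.nil)))))))))

theorem p_g218_ok : Net.ok 24 p_g218 = true := by decide +kernel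

noncomputable def lt1_c1_K : List Net := [p_g217, p_g218]

theorem lt1_c1_K_ok : okE 24 lt1_c1_K = true := (okE_cons.2 ⟨p_g217_ok, (okE_cons.2 ⟨p_g218_ok, (okE_nil 24)⟩)⟩)

noncomputable def p_V220 : List Net := [p_g199, p_g195, p_g196]

theorem p_V220_ok : okE 24 p_V220 = true := (okE_cons.2 ⟨p_g199_ok, (okE_cons.2 ⟨p_g195_ok, (okE_cons.2 ⟨p_g196_ok, (okE_nil 24)⟩)⟩)⟩)

noncomputable def p_V221 : List Net := [p_g196]

theorem p_V221_ok : okE 24 p_V221 = true := (okE_cons.2 ⟨p_g196_ok, (okE_nil 24)⟩)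

noncomputable def p_V222 : List Net := []

theorem p_V222_ok : okE 24 p_V222 = true := (okE_nil 24)

noncomputable def lt1_c1_cnt_EG : List Net := [p_g199, p_g195, p_g196, p_g191, p_g192]

theorem lt1_c1_cnt_EG_ok : okE 24 lt1_c1_cnt_EG = true := (okE_cons.2 ⟨p_g199_ok, (okE_cons.2 ⟨p_g195_ok, (okE_cons.2 ⟨p_g196_ok, (okE_cons.2 ⟨p_g191_ok, (okE_cons.2 ⟨p_g192_ok, (okE_nil 24)⟩)⟩)⟩)⟩)⟩)

noncomputable def p_g224 : Net := (Net.cons (nat_lit 1) (nat_lit 0x110000) (Net.cons (nat_lit 2) (nat_lit 0x313020) (Net.cons (nat_lit 4) (nat_lit 131584) (Net.cons (nat_lit 8) (nat_lit 93) (Net.cons (nat_lit 16) (nat_lit 125) (Net.cons (nat_lit 8) (nat_lit 218) (Net.cons (nat_lit 4) (nat_lit 264462) (Net.cons (nat_lit 2) (nat_lit 0x130130) (Net.cons (nat_lit 1) (nat_lit 0x404115) Net.nil)))))))))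

theorem p_g224_ok : Net.ok 24 p_g224 = true := by decide +kernel

noncomputable def lt1_c2_K : List Net := [p_g224]

theorem lt1_c2_K_ok : okE 24 lt1_c2_K = true := (okE_cons.2 ⟨p_g224_ok, (okE_nil 24)⟩)

noncomputable def p_V226 : List Net := []

theorem p_V226_ok : okE 24 p_V226 = true := (okE_nil 24)

noncomputable def lt1_c2_cnt_EG : List Net := [p_g191, p_g192, p_g199, p_g195, p_g196]

theorem lt1_c2_cnt_EG_ok : okE 24 lt1_c2_cnt_EG = true := (okE_cons.2 ⟨p_g191_ok, (okE_cons.2 ⟨p_g192_ok, (okE_cons.2 ⟨p_g199_ok, (okE_cons.2 ⟨p_g195_ok, (okE_cons.2 ⟨p_g196_ok, (okE_nil 24)⟩)⟩)⟩)⟩)⟩)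

noncomputable def p_g227 : Net := (Net.cons (nat_lit 1) (nat_lit 0x410410) (Net.cons (nat_lit 2) (nat_lit 0x333200) (Net.cons (nat_lit 4) (nat_lit 917504) (Net.cons (nat_lit 8) (nat_lit 66) (Net.cons (nat_lit 16) (nat_lit 211) (Net.cons (nat_lit 8) (nat_lit 222) (Net.cons (nat_lit 4) (nat_lit 263172) (Net.cons (nat_lit 2) (nat_lit 0x303210) (Net.cons (nat_lit 1) (nat_lit 5205) Net.nil)))))))))

theorem p_g227_ok : Net.ok 24 p_g227 = true := by decide +kernel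

noncomputable def lt1_c3_K : List Net := [p_g227]

theorem lt1_c3_K_ok : okE 24 lt1_c3_K = true := (okE_cons.2 ⟨p_g227_ok, (okE_nil 24)⟩)

noncomputable def lt1_c3_cnt_EG : List Net := [p_g196, p_g199, p_g195, p_g191, p_g192]

theorem lt1_c3_cnt_EG_ok : okE 24 lt1_c3_cnt_EG = true := (okE_cons.2 ⟨p_g196_ok, (okE_cons.2 ⟨p_g199_ok, (okE_cons.2 ⟨p_g195_ok, (okE_cons.2 ⟨p_g191_ok, (okE_cons.2 ⟨p_g192_ok, (okE_nil 24)⟩)⟩)⟩)⟩)⟩)

noncomputable def p_g229 : Net := (Net.cons (nat_lit 1) (nat_lit 87120) (Net.cons (nat_lit 2) (nat_lit 0x120300) (Net.cons (nat_lit 4) (nat_lit 262656) (Net.cons (nat_lit 8) (nat_lit 129) (Net.cons (nat_lit 16) (nat_lit 195) (Net.cons (nat_lit 8) (nat_lit 18) (Net.cons (nat_lit 4) (nat_lit 330501) (Net.cons (nat_lit 2) (nat_lit 0x302301) (Net.cons (nat_lit 1) (nat_lit 344084) Net.nil)))))))))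

theorem p_g229_ok : Net.ok 24 p_g229 = true := by decide +kernel

noncomputable def lt1_c4_K : List Net := [p_g229]

theorem lt1_c4_K_ok : okE 24 lt1_c4_K = true := (okE_cons.2 ⟨p_g229_ok, (okE_nil 24)⟩)

noncomputable def lt1_c4_cnt_EG : List Net := [p_g196, p_g199, p_g195, p_g191, p_g192]

theorem lt1_c4_cnt_EG_ok : okE 24 lt1_c4_cnt_EG = true := (okE_cons.2 ⟨p_g196_ok, (okE_cons.2 ⟨p_g199_ok, (okE_cons.2 ⟨p_g195_ok, (okE_cons.2 ⟨p_g191_ok, (okE_cons.2 ⟨p_g192_ok, (okE_nil 24)⟩)⟩)⟩)⟩)⟩)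

noncomputable def lt1_nc4_3_cnt_EG : List Net := [p_g199, p_g195, p_g196, p_g191, p_g192]

theorem lt1_nc4_3_cnt_EG_ok : okE 24 lt1_nc4_3_cnt_EG = true := (okE_cons.2 ⟨p_g199_ok, (okE_cons.2 ⟨p_g195_ok, (okE_cons.2 ⟨p_g196_ok, (okE_cons.2 ⟨p_g191_ok, (okE_cons.2 ⟨p_g192_ok, (okE_nil 24)⟩)⟩)⟩)⟩)⟩)

noncomputable def p_g231 : Net := (Net.cons (nat_lit 1) (nat_lit 332800) (Net.cons (nat_lit 2) (nat_lit 0x332020) (Net.cons (nat_lit 4) (nat_lit 512) (Net.cons (nat_lit 8) (nat_lit 7) (Net.cons (nat_lit 16) (nat_lit 143) (Net.cons (nat_lit 8) (nat_lit 197) (Net.cons (nat_lit 4) (nat_lit 265736) (Net.cons (nat_lit 2) (nat_lit 0x130131) (Net.cons (nat_lit 1) (nat_lit 0x114115) Net.nil)))))))))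

theorem p_g231_ok : Net.ok 24 p_g231 = true := by decide +kernel

noncomputable def p_g232 : Net := (Net.cons (nat_lit 1) (nat_lit 0x515140) (Net.cons (nat_lit 2) (nat_lit 0x221000) (Net.cons (nat_lit 4) (nat_lit 590592) (Net.cons (nat_lit 8) (nat_lit 131) (Net.cons (nat_lit 16) (nat_lit 231) (Net.cons (nat_lit 8) (nat_lit 87) (Net.cons (nat_lit 4) (nat_lit 526349) (Net.cons (nat_lit 2) (nat_lit 0x130332) (Net.cons (nat_lit 1) (nat_lit 0x441014) Net.nil)))))))))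

theorem p_g232_ok : Net.ok 24 p_g232 = true := by decide +kernel

noncomputable def p_g233 : Net := (Net.cons (nat_lit 1) (nat_lit 344384) (Net.cons (nat_lit 2) (nat_lit 0x210210) (Net.cons (nat_lit 4) (nat_lit 133120) (Net.cons (nat_lit 8) (nat_lit 94) (Net.cons (nat_lit 16) (nat_lit 94) (Net.cons (nat_lit 8) (nat_lit 235) (Net.cons (nat_lit 4) (nat_lit 461068) (Net.cons (nat_lit 2) (nat_lit 0x122313) (Net.cons (nat_lit 1) (nat_lit 0x145454) Net.nil)))))))))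

theorem p_g233_ok : Net.ok 24 p_g233 = true := by decide +kernel

noncomputable def L3 : List Net := [p_g232, p_g233]

theorem L3_ok : okE 24 L3 = true := (okE_cons.2 ⟨p_g232_ok, (okE_cons.2 ⟨p_g233_ok, (okE_nil 24)⟩)⟩)

noncomputable def p_V234 : List Net := [p_g232]

theorem p_V234_ok : okE 24 p_V234 = true := (okE_cons.2 ⟨p_g232_ok, (okE_nil 24)⟩)

noncomputable def p_g236 : Net := (Net.cons (nat_lit 1) (nat_lit 0x141000) (Net.cons (nat_lit 2) (nat_lit 0x221320) (Net.cons (nat_lit 4) (nat_lit 2048) (Net.cons (nat_lit 8) (nat_lit 8) (Net.cons (nat_lit 16) (nat_lit 138) (Net.cons (nat_lit 8) (nat_lit 196) (Net.cons (nat_lit 4) (nat_lit 786696) (Net.cons (nat_lit 2) (nat_lit 0x221320) (Net.cons (nat_lit 1) (nat_lit 0x141000) Net.nil)))))))))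

theorem p_g236_ok : Net.ok 24 p_g236 = true := by decide +kernel

noncomputable def p_V237 : List Net := [p_g98, p_g236]

theorem p_V237_ok : okE 24 p_V237 = true := (okE_cons.2 ⟨p_g98_ok, (okE_cons.2 ⟨p_g236_ok, (okE_nil 24)⟩)⟩)

noncomputable def p_g239 : Net := (Net.cons (nat_lit 1) (nat_lit 279872) (Net.cons (nat_lit 2) (nat_lit 8720) (Net.cons (nat_lit 4) (nat_lit 1280) (Net.cons (nat_lit 8) (nat_lit 44) (Net.cons (nat_lit 16) (nat_lit 60) (Net.cons (nat_lit 8) (nat_lit 144) (Net.cons (nat_lit 4) (nat_lit 134660) (Net.cons (nat_lit 2) (nat_lit 0x103202) (Net.cons (nat_lit 1) (nat_lit 279620) Net.nil)))))))))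

theorem p_g239_ok : Net.ok 24 p_g239 = true := by decide +kernel

noncomputable def p_V240 : List Net := [p_g239]

theorem p_V240_ok : okE 24 p_V240 = true := (okE_cons.2 ⟨p_g239_ok, (okE_nil 24)⟩)

noncomputable def p_g242 : Net := (Net.cons (nat_lit 1) (nat_lit 0x550000) (Net.cons (nat_lit 2) (nat_lit 0x301110) (Net.cons (nat_lit 4) (nat_lit 786432) (Net.cons (nat_lit 8) (nat_lit 1) (Net.cons (nat_lit 16) (nat_lit 165) (Net.cons (nat_lit 8) (nat_lit 1) (Net.cons (nat_lit 4) (nat_lit 1548) (Net.cons (nat_lit 2) (nat_lit 0x101130) (Net.cons (nat_lit 1) (nat_lit 0x410014) Net.nil)))))))))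

theorem p_g242_ok : Net.ok 24 p_g242 = true := by decide +kernel

noncomputable def p_V243 : List Net := [p_g242, p_g242]

theorem p_V243_ok : okE 24 p_V243 = true := (okE_cons.2 ⟨p_g242_ok, (okE_cons.2 ⟨p_g242_ok, (okE_nil 24)⟩)⟩)

noncomputable def p_V245 : List Net := [p_g242]

theorem p_V245_ok : okE 24 p_V245 = true := (okE_cons.2 ⟨p_g242_ok, (okE_nil 24)⟩)

noncomputable def L3o_E3 : List Net := []

theorem L3o_E3_ok : okE 24 L3o_E3 = true := (okE_nil 24)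

noncomputable def L3o_G2 : List Net := [p_g242]

theorem L3o_G2_ok : okE 24 L3o_G2 = true := (okE_cons.2 ⟨p_g242_ok, (okE_nil 24)⟩)

noncomputable def L3o_E2 : List Net := [p_g242]

theorem L3o_E2_ok : okE 24 L3o_E2 = true := (okE_cons.2 ⟨p_g242_ok, (okE_nil 24)⟩)

noncomputable def L3o_G1 : List Net := [p_g239, p_g242]

theorem L3o_G1_ok : okE 24 L3o_G1 = true := (okE_cons.2 ⟨p_g239_ok, (okE_cons.2 ⟨p_g242_ok, (okE_nil 24)⟩)⟩)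

noncomputable def L3o_E1 : List Net := [p_g239, p_g98, p_g236, p_g242]

theorem L3o_E1_ok : okE 24 L3o_E1 = true := (okE_cons.2 ⟨p_g239_ok, (okE_cons.2 ⟨p_g98_ok, (okE_cons.2 ⟨p_g236_ok, (okE_cons.2 ⟨p_g242_ok, (okE_nil 24)⟩)⟩)⟩)⟩)

noncomputable def L3o_G0 : List Net := [p_g232, p_g239, p_g98, p_g236, p_g242]

theorem L3o_G0_ok : okE 24 L3o_G0 = true := (okE_cons.2 ⟨p_g232_ok, (okE_cons.2 ⟨p_g239_ok, (okE_cons.2 ⟨p_g98_ok, (okE_cons.2 ⟨p_g236_ok, (okE_cons.2 ⟨p_g242_ok, (okE_nil 24)⟩)⟩)⟩)⟩)⟩)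

noncomputable def L3o_E0 : List Net := [p_g232, p_g233, p_g239, p_g98, p_g236, p_g242]

theorem L3o_E0_ok : okE 24 L3o_E0 = true := (okE_cons.2 ⟨p_g232_ok, (okE_cons.2 ⟨p_g233_ok, (okE_cons.2 ⟨p_g239_ok, (okE_cons.2 ⟨p_g98_ok, (okE_cons.2 ⟨p_g236_ok, (okE_cons.2 ⟨p_g242_ok, (okE_nil 24)⟩)⟩)⟩)⟩)⟩)⟩)

theorem b3_hn : NOk 6 := by decide

theorem b3_hk : 6 ≤ 2 ^ 3 := by decide

noncomputable def b3_g1 : Net := (Net.cons (nat_lit 1) (nat_lit 16) (Net.cons (nat_lit 4) (nat_lit 2) (Net.cons (nat_lit 2) (nat_lit 1) (Net.cons (nat_lit 1) (nat_lit 4) Net.nil))))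

theorem b3_g1_ok : Net.ok 6 b3_g1 = true := by decide +kernel

noncomputable def b3_g2 : Net := (Net.cons (nat_lit 1) (nat_lit 16) (Net.cons (nat_lit 2) (nat_lit 2) (Net.cons (nat_lit 4) (nat_lit 2) (Net.cons (nat_lit 2) (nat_lit 3) (Net.cons (nat_lit 1) (nat_lit 1) Net.nil)))))

theorem b3_g2_ok : Net.ok 6 b3_g2 = true := by decide +kernel

noncomputable def B3_E : List Net := [b3_g1, b3_g2]

theorem B3_E_ok : okE 6 B3_E = true := (okE_cons.2 ⟨b3_g1_ok, (okE_cons.2 ⟨b3_g2_ok, (okE_nil 6)⟩)⟩)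

noncomputable def b3_g3 : Net := (Net.cons (nat_lit 2) (nat_lit 2) (Net.cons (nat_lit 1) (nat_lit 16) Net.nil))

theorem b3_g3_ok : Net.ok 6 b3_g3 = true := by decide +kernel

noncomputable def b3_g4 : Net := (Net.cons (nat_lit 1) (nat_lit 4) (Net.cons (nat_lit 4) (nat_lit 2) (Net.cons (nat_lit 2) (nat_lit 2) (Net.cons (nat_lit 1) (nat_lit 16) Net.nil))))

theorem b3_g4_ok : Net.ok 6 b3_g4 = true := by decide +kernel

noncomputable def b3_V5 : List Net := [b3_g3, b3_g4]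

theorem b3_V5_ok : okE 6 b3_V5 = true := (okE_cons.2 ⟨b3_g3_ok, (okE_cons.2 ⟨b3_g4_ok, (okE_nil 6)⟩)⟩)

noncomputable def b3_g7 : Net := (Net.cons (nat_lit 2) (nat_lit 3) (Net.cons (nat_lit 4) (nat_lit 3) (Net.cons (nat_lit 2) (nat_lit 3) Net.nil)))

theorem b3_g7_ok : Net.ok 6 b3_g7 = true := by decide +kernel

noncomputable def b3_V8 : List Net := [b3_g7, b3_g7]

theorem b3_V8_ok : okE 6 b3_V8 = true := (okE_cons.2 ⟨b3_g7_ok, (okE_cons.2 ⟨b3_g7_ok, (okE_nil 6)⟩)⟩)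

noncomputable def B3_lb_E : List Net := [b3_g1, b3_g2, b3_g3, b3_g4, b3_g7, b3_g7]

theorem B3_lb_E_ok : okE 6 B3_lb_E = true := (okE_cons.2 ⟨b3_g1_ok, (okE_cons.2 ⟨b3_g2_ok, (okE_cons.2 ⟨b3_g3_ok, (okE_cons.2 ⟨b3_g4_ok, (okE_cons.2 ⟨b3_g7_ok, (okE_cons.2 ⟨b3_g7_ok, (okE_nil 6)⟩)⟩)⟩)⟩)⟩)⟩)

noncomputable def b3_V10 : List Net := [b3_g3, b3_g4, b3_g7, b3_g7]

theorem b3_V10_ok : okE 6 b3_V10 = true := (okE_cons.2 ⟨b3_g3_ok, (okE_cons.2 ⟨b3_g4_ok, (okE_cons.2 ⟨b3_g7_ok, (okE_cons.2 ⟨b3_g7_ok, (okE_nil 6)⟩)⟩)⟩)⟩)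

noncomputable def p_g255 : Net := (Net.cons (nat_lit 1) (nat_lit 262144) (Net.cons (nat_lit 2) (nat_lit 0x221320) (Net.cons (nat_lit 4) (nat_lit 657664) (Net.cons (nat_lit 8) (nat_lit 240) (Net.cons (nat_lit 16) (nat_lit 252) (Net.cons (nat_lit 8) (nat_lit 63) (Net.cons (nat_lit 4) (nat_lit 592396) (Net.cons (nat_lit 2) (nat_lit 0x112310) (Net.cons (nat_lit 1) (nat_lit 0x515555) Net.nil)))))))))

theorem p_g255_ok : Net.ok 24 p_g255 = true := by decide +kernel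

noncomputable def Y3 : List Net := [p_g255, p_g95]

theorem Y3_ok : okE 24 Y3 = true := (okE_cons.2 ⟨p_g255_ok, (okE_cons.2 ⟨p_g95_ok, (okE_nil 24)⟩)⟩)

noncomputable def Y3_cnt_EG : List Net := [p_g83, p_g84, p_g82, p_g81, p_g29, p_g25, p_g26, p_g36, p_g32, p_g33, p_g43, p_g40, p_g47, p_g46, p_g39, p_g22, p_g1, p_g2]

theorem Y3_cnt_EG_ok : okE 24 Y3_cnt_EG = true := (okE_cons.2 ⟨p_g83_ok, (okE_cons.2 ⟨p_g84_ok, (okE_cons.2 ⟨p_g82_ok, (okE_cons.2 ⟨p_g81_ok, (okE_cons.2 ⟨p_g29_ok, (okE_cons.2 ⟨p_g25_ok, (okE_cons.2 ⟨p_g26_ok, (okE_cons.2 ⟨p_g36_ok, (okE_cons.2 ⟨p_g32_ok, (okE_cons.2 ⟨p_g33_ok, (okE_cons.2 ⟨p_g43_ok, (okE_cons.2 ⟨p_g40_ok, (okE_cons.2 ⟨p_g47_ok, (okE_cons.2 ⟨p_g46_ok, (okE_cons.2 ⟨p_g39_ok, (okE_cons.2 ⟨p_g22_ok, (okE_cons.2 ⟨p_g1_ok, (okE_cons.2 ⟨p_g2_ok, (okE_nil 24)⟩)⟩)⟩)⟩)⟩)⟩)⟩)⟩)⟩)⟩)⟩)⟩)⟩)⟩)⟩)⟩)⟩)⟩)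

noncomputable def p_g257 : Net := (Net.cons (nat_lit 1) (nat_lit 263424) (Net.cons (nat_lit 2) (nat_lit 0x202300) (Net.cons (nat_lit 4) (nat_lit 526848) (Net.cons (nat_lit 8) (nat_lit 129) (Net.cons (nat_lit 16) (nat_lit 133) (Net.cons (nat_lit 8) (nat_lit 172) (Net.cons (nat_lit 4) (nat_lit 657920) (Net.cons (nat_lit 2) (nat_lit 0x312201) (Net.cons (nat_lit 1) (nat_lit 263424) Net.nil)))))))))

theorem p_g257_ok : Net.ok 24 p_g257 = true := by decide +kernel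

noncomputable def lt3_c1_K : List Net := [p_g257, p_g218]

theorem lt3_c1_K_ok : okE 24 lt3_c1_K = true := (okE_cons.2 ⟨p_g257_ok, (okE_cons.2 ⟨p_g218_ok, (okE_nil 24)⟩)⟩)

noncomputable def p_V259 : List Net := [p_g239, p_g98, p_g236, p_g242]

theorem p_V259_ok : okE 24 p_V259 = true := (okE_cons.2 ⟨p_g239_ok, (okE_cons.2 ⟨p_g98_ok, (okE_cons.2 ⟨p_g236_ok, (okE_cons.2 ⟨p_g242_ok, (okE_nil 24)⟩)⟩)⟩)⟩)

noncomputable def p_V260 : List Net := [p_g242]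

theorem p_V260_ok : okE 24 p_V260 = true := (okE_cons.2 ⟨p_g242_ok, (okE_nil 24)⟩)

noncomputable def p_V261 : List Net := []

theorem p_V261_ok : okE 24 p_V261 = true := (okE_nil 24)

noncomputable def lt3_c1_cnt_EG : List Net := [p_g239, p_g98, p_g236, p_g242, p_g232, p_g233]

theorem lt3_c1_cnt_EG_ok : okE 24 lt3_c1_cnt_EG = true := (okE_cons.2 ⟨p_g239_ok, (okE_cons.2 ⟨p_g98_ok, (okE_cons.2 ⟨p_g236_ok, (okE_cons.2 ⟨p_g242_ok, (okE_cons.2 ⟨p_g232_ok, (okE_cons.2 ⟨p_g233_ok, (okE_nil 24)⟩)⟩)⟩)⟩)⟩)⟩)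

noncomputable def p_g263 : Net := (Net.cons (nat_lit 1) (nat_lit 0x401150) (Net.cons (nat_lit 2) (nat_lit 65568) (Net.cons (nat_lit 4) (nat_lit 460800) (Net.cons (nat_lit 8) (nat_lit 96) (Net.cons (nat_lit 16) (nat_lit 116) (Net.cons (nat_lit 8) (nat_lit 62) (Net.cons (nat_lit 4) (nat_lit 722701) (Net.cons (nat_lit 2) (nat_lit 0x300213) (Net.cons (nat_lit 1) (nat_lit 0x111415) Net.nil)))))))))

theorem p_g263_ok : Net.ok 24 p_g263 = true := by decide +kernel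

noncomputable def lt3_c2_K : List Net := [p_g263]

theorem lt3_c2_K_ok : okE 24 lt3_c2_K = true := (okE_cons.2 ⟨p_g263_ok, (okE_nil 24)⟩)

noncomputable def p_V265 : List Net := []

theorem p_V265_ok : okE 24 p_V265 = true := (okE_nil 24)

noncomputable def lt3_c2_cnt_EG : List Net := [p_g232, p_g233, p_g239, p_g98, p_g236, p_g242]

theorem lt3_c2_cnt_EG_ok : okE 24 lt3_c2_cnt_EG = true := (okE_cons.2 ⟨p_g232_ok, (okE_cons.2 ⟨p_g233_ok, (okE_cons.2 ⟨p_g239_ok, (okE_cons.2 ⟨p_g98_ok, (okE_cons.2 ⟨p_g236_ok, (okE_cons.2 ⟨p_g242_ok, (okE_nil 24)⟩)⟩)⟩)⟩)⟩)⟩)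

noncomputable def p_g266 : Net := (Net.cons (nat_lit 1) (nat_lit 0x515114) (Net.cons (nat_lit 2) (nat_lit 0x130100) (Net.cons (nat_lit 4) (nat_lit 460800) (Net.cons (nat_lit 8) (nat_lit 75) (Net.cons (nat_lit 16) (nat_lit 75) (Net.cons (nat_lit 8) (nat_lit 23) (Net.cons (nat_lit 4) (nat_lit 328961) (Net.cons (nat_lit 2) (nat_lit 0x321312) (Net.cons (nat_lit 1) (nat_lit 0x541114) Net.nil)))))))))

theorem p_g266_ok : Net.ok 24 p_g266 = true := by decide +kernel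

noncomputable def lt3_c3_K : List Net := [p_g266]

theorem lt3_c3_K_ok : okE 24 lt3_c3_K = true := (okE_cons.2 ⟨p_g266_ok, (okE_nil 24)⟩)

noncomputable def lt3_c3_cnt_EG : List Net := [p_g232, p_g233, p_g239, p_g98, p_g236, p_g242]

theorem lt3_c3_cnt_EG_ok : okE 24 lt3_c3_cnt_EG = true := (okE_cons.2 ⟨p_g232_ok, (okE_cons.2 ⟨p_g233_ok, (okE_cons.2 ⟨p_g239_ok, (okE_cons.2 ⟨p_g98_ok, (okE_cons.2 ⟨p_g236_ok, (okE_cons.2 ⟨p_g242_ok, (okE_nil 24)⟩)⟩)⟩)⟩)⟩)⟩)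

noncomputable def p_g268 : Net := (Net.cons (nat_lit 1) (nat_lit 0x515100) (Net.cons (nat_lit 2) (nat_lit 0x113000) (Net.cons (nat_lit 4) (nat_lit 525568) (Net.cons (nat_lit 8) (nat_lit 11) (Net.cons (nat_lit 16) (nat_lit 47) (Net.cons (nat_lit 8) (nat_lit 44) (Net.cons (nat_lit 4) (nat_lit 65540) (Net.cons (nat_lit 2) (nat_lit 0x302002) (Net.cons (nat_lit 1) (nat_lit 0x111105) Net.nil)))))))))

theorem p_g268_ok : Net.ok 24 p_g268 = true := by decide +kernel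

noncomputable def lt3_c4_K : List Net := [p_g268]

theorem lt3_c4_K_ok : okE 24 lt3_c4_K = true := (okE_cons.2 ⟨p_g268_ok, (okE_nil 24)⟩)

noncomputable def lt3_c4_cnt_EG : List Net := [p_g232, p_g233, p_g239, p_g98, p_g236, p_g242]

theorem lt3_c4_cnt_EG_ok : okE 24 lt3_c4_cnt_EG = true := (okE_cons.2 ⟨p_g232_ok, (okE_cons.2 ⟨p_g233_ok, (okE_cons.2 ⟨p_g239_ok, (okE_cons.2 ⟨p_g98_ok, (okE_cons.2 ⟨p_g236_ok, (okE_cons.2 ⟨p_g242_ok, (okE_nil 24)⟩)⟩)⟩)⟩)⟩)⟩)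

noncomputable def lt3_nc4_3_cnt_EG : List Net := [p_g232, p_g233, p_g239, p_g98, p_g236, p_g242]

theorem lt3_nc4_3_cnt_EG_ok : okE 24 lt3_nc4_3_cnt_EG = true := (okE_cons.2 ⟨p_g232_ok, (okE_cons.2 ⟨p_g233_ok, (okE_cons.2 ⟨p_g239_ok, (okE_cons.2 ⟨p_g98_ok, (okE_cons.2 ⟨p_g236_ok, (okE_cons.2 ⟨p_g242_ok, (okE_nil 24)⟩)⟩)⟩)⟩)⟩)⟩)

noncomputable def p_g270 : Net := (Net.cons (nat_lit 1) (nat_lit 0x444510) (Net.cons (nat_lit 2) (nat_lit 8704) (Net.cons (nat_lit 4) (nat_lit 264448) (Net.cons (nat_lit 8) (nat_lit 72) (Net.cons (nat_lit 16) (nat_lit 216) (Net.cons (nat_lit 8) (nat_lit 252) (Net.cons (nat_lit 4) (nat_lit 396805) (Net.cons (nat_lit 2) (nat_lit 12290) (Net.cons (nat_lit 1) (nat_lit 0x440444) Net.nil)))))))))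

theorem p_g270_ok : Net.ok 24 p_g270 = true := by decide +kernel

noncomputable def ES1 : List Net := [p_g76, p_g214]

theorem ES1_ok : okE 24 ES1 = true := (okE_cons.2 ⟨p_g76_ok, (okE_cons.2 ⟨p_g214_ok, (okE_nil 24)⟩)⟩)

noncomputable def p_g271 : Net := (Net.cons (nat_lit 1) (nat_lit 0x400040) (Net.cons (nat_lit 2) (nat_lit 0x130120) (Net.cons (nat_lit 4) (nat_lit 2560) (Net.cons (nat_lit 8) (nat_lit 22) (Net.cons (nat_lit 16) (nat_lit 63) (Net.cons (nat_lit 8) (nat_lit 25) (Net.cons (nat_lit 4) (nat_lit 853006) (Net.cons (nat_lit 2) (nat_lit 0x222312) (Net.cons (nat_lit 1) (nat_lit 70993) Net.nil)))))))))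

theorem p_g271_ok : Net.ok 24 p_g271 = true := by decide +kernel

noncomputable def p_g272 : Net := (Net.cons (nat_lit 1) (nat_lit 0x544140) (Net.cons (nat_lit 2) (nat_lit 139776) (Net.cons (nat_lit 4) (nat_lit 657408) (Net.cons (nat_lit 8) (nat_lit 3) (Net.cons (nat_lit 16) (nat_lit 163) (Net.cons (nat_lit 8) (nat_lit 91) (Net.cons (nat_lit 4) (nat_lit 787971) (Net.cons (nat_lit 2) (nat_lit 205331) (Net.cons (nat_lit 1) (nat_lit 83220) Net.nil)))))))))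

theorem p_g272_ok : Net.ok 24 p_g272 = true := by decide +kernel

noncomputable def cv1_K : List Net := [p_g271, p_g272, p_g195, p_g218]

theorem cv1_K_ok : okE 24 cv1_K = true := (okE_cons.2 ⟨p_g271_ok, (okE_cons.2 ⟨p_g272_ok, (okE_cons.2 ⟨p_g195_ok, (okE_cons.2 ⟨p_g218_ok, (okE_nil 24)⟩)⟩)⟩)⟩)

noncomputable def cv1_cnt_EG : List Net := [p_g29, p_g25, p_g26, p_g36, p_g32, p_g33, p_g43, p_g40, p_g47, p_g46, p_g39, p_g22, p_g1, p_g2, p_g101, p_g102]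

theorem cv1_cnt_EG_ok : okE 24 cv1_cnt_EG = true := (okE_cons.2 ⟨p_g29_ok, (okE_cons.2 ⟨p_g25_ok, (okE_cons.2 ⟨p_g26_ok, (okE_cons.2 ⟨p_g36_ok, (okE_cons.2 ⟨p_g32_ok, (okE_cons.2 ⟨p_g33_ok, (okE_cons.2 ⟨p_g43_ok, (okE_cons.2 ⟨p_g40_ok, (okE_cons.2 ⟨p_g47_ok, (okE_cons.2 ⟨p_g46_ok, (okE_cons.2 ⟨p_g39_ok, (okE_cons.2 ⟨p_g22_ok, (okE_cons.2 ⟨p_g1_ok, (okE_cons.2 ⟨p_g2_ok, (okE_cons.2 ⟨p_g101_ok, (okE_cons.2 ⟨p_g102_ok, (okE_nil 24)⟩)⟩)⟩)⟩)⟩)⟩)⟩)⟩)⟩)⟩)⟩)⟩)⟩)⟩)⟩)⟩)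

noncomputable def p_g274 : Net := (Net.cons (nat_lit 1) (nat_lit 0x510040) (Net.cons (nat_lit 2) (nat_lit 528) (Net.cons (nat_lit 4) (nat_lit 327680) (Net.cons (nat_lit 8) (nat_lit 176) (Net.cons (nat_lit 16) (nat_lit 249) (Net.cons (nat_lit 8) (nat_lit 199) (Net.cons (nat_lit 4) (nat_lit 721413) (Net.cons (nat_lit 2) (nat_lit 0x212033) (Net.cons (nat_lit 1) (nat_lit 0x140444) Net.nil)))))))))

theorem p_g274_ok : Net.ok 24 p_g274 = true := by decide +kernel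

noncomputable def p_g275 : Net := (Net.cons (nat_lit 1) (nat_lit 278596) (Net.cons (nat_lit 2) (nat_lit 0x303130) (Net.cons (nat_lit 4) (nat_lit 68608) (Net.cons (nat_lit 8) (nat_lit 178) (Net.cons (nat_lit 16) (nat_lit 186) (Net.cons (nat_lit 8) (nat_lit 36) (Net.cons (nat_lit 4) (nat_lit 329479) (Net.cons (nat_lit 2) (nat_lit 135985) (Net.cons (nat_lit 1) (nat_lit 0x150100) Net.nil)))))))))

theorem p_g275_ok : Net.ok 24 p_g275 = true := by decide +kernel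

noncomputable def cw1_K : List Net := [p_g274, p_g275, p_g195, p_g218]

theorem cw1_K_ok : okE 24 cw1_K = true := (okE_cons.2 ⟨p_g274_ok, (okE_cons.2 ⟨p_g275_ok, (okE_cons.2 ⟨p_g195_ok, (okE_cons.2 ⟨p_g218_ok, (okE_nil 24)⟩)⟩)⟩)⟩)

noncomputable def cw1_cnt_EG : List Net := [p_g29, p_g25, p_g26, p_g36, p_g32, p_g33, p_g43, p_g40, p_g47, p_g46, p_g39, p_g22, p_g1, p_g2]

theorem cw1_cnt_EG_ok : okE 24 cw1_cnt_EG = true := (okE_cons.2 ⟨p_g29_ok, (okE_cons.2 ⟨p_g25_ok, (okE_cons.2 ⟨p_g26_ok, (okE_cons.2 ⟨p_g36_ok, (okE_cons.2 ⟨p_g32_ok, (okE_cons.2 ⟨p_g33_ok, (okE_cons.2 ⟨p_g43_ok, (okE_cons.2 ⟨p_g40_ok, (okE_cons.2 ⟨p_g47_ok, (okE_cons.2 ⟨p_g46_ok, (okE_cons.2 ⟨p_g39_ok, (okE_cons.2 ⟨p_g22_ok, (okE_cons.2 ⟨p_g1_ok, (okE_cons.2 ⟨p_g2_ok, (okE_nil 24)⟩)⟩)⟩)⟩)⟩)⟩)⟩)⟩)⟩)⟩)⟩)⟩)⟩)⟩)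

noncomputable def p_g277 : Net := (Net.cons (nat_lit 1) (nat_lit 0x510010) (Net.cons (nat_lit 2) (nat_lit 0x110200) (Net.cons (nat_lit 4) (nat_lit 393216) (Net.cons (nat_lit 8) (nat_lit 38) (Net.cons (nat_lit 16) (nat_lit 183) (Net.cons (nat_lit 8) (nat_lit 27) (Net.cons (nat_lit 4) (nat_lit 393478) (Net.cons (nat_lit 2) (nat_lit 0x320321) (Net.cons (nat_lit 1) (nat_lit 283973) Net.nil)))))))))

theorem p_g277_ok : Net.ok 24 p_g277 = true := by decide +kernel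

noncomputable def ES3 : List Net := [p_g95, p_g277]

theorem ES3_ok : okE 24 ES3 = true := (okE_cons.2 ⟨p_g95_ok, (okE_cons.2 ⟨p_g277_ok, (okE_nil 24)⟩)⟩)

noncomputable def p_g278 : Net := (Net.cons (nat_lit 1) (nat_lit 0x551500) (Net.cons (nat_lit 2) (nat_lit 131088) (Net.cons (nat_lit 4) (nat_lit 67840) (Net.cons (nat_lit 8) (nat_lit 161) (Net.cons (nat_lit 16) (nat_lit 239) (Net.cons (nat_lit 8) (nat_lit 14) (Net.cons (nat_lit 4) (nat_lit 986374) (Net.cons (nat_lit 2) (nat_lit 0x331321) (Net.cons (nat_lit 1) (nat_lit 0x411011) Net.nil)))))))))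

theorem p_g278_ok : Net.ok 24 p_g278 = true := by decide +kernel

noncomputable def p_g279 : Net := (Net.cons (nat_lit 1) (nat_lit 0x551110) (Net.cons (nat_lit 2) (nat_lit 131104) (Net.cons (nat_lit 4) (nat_lit 787456) (Net.cons (nat_lit 8) (nat_lit 12) (Net.cons (nat_lit 16) (nat_lit 14) (Net.cons (nat_lit 8) (nat_lit 94) (Net.cons (nat_lit 4) (nat_lit 789000) (Net.cons (nat_lit 2) (nat_lit 0x131000) (Net.cons (nat_lit 1) (nat_lit 349504) Net.nil)))))))))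

theorem p_g279_ok : Net.ok 24 p_g279 = true := by decide +kernel

noncomputable def p_g280 : Net := (Net.cons (nat_lit 1) (nat_lit 69956) (Net.cons (nat_lit 2) (nat_lit 0x101320) (Net.cons (nat_lit 4) (nat_lit 393216) (Net.cons (nat_lit 8) (nat_lit 27) (Net.cons (nat_lit 16) (nat_lit 219) (Net.cons (nat_lit 8) (nat_lit 157) (Net.cons (nat_lit 4) (nat_lit 134406) (Net.cons (nat_lit 2) (nat_lit 0x311122) (Net.cons (nat_lit 1) (nat_lit 0x155100) Net.nil)))))))))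

theorem p_g280_ok : Net.ok 24 p_g280 = true := by decide +kernel

noncomputable def cv3_K : List Net := [p_g278, p_g279, p_g280]

theorem cv3_K_ok : okE 24 cv3_K = true := (okE_cons.2 ⟨p_g278_ok, (okE_cons.2 ⟨p_g279_ok, (okE_cons.2 ⟨p_g280_ok, (okE_nil 24)⟩)⟩)⟩)

noncomputable def cv3_cnt_EG : List Net := [p_g29, p_g25, p_g26, p_g36, p_g32, p_g33, p_g43, p_g40, p_g47, p_g46, p_g39, p_g22, p_g1, p_g2, p_g83, p_g84, p_g82, p_g81]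

theorem cv3_cnt_EG_ok : okE 24 cv3_cnt_EG = true := (okE_cons.2 ⟨p_g29_ok, (okE_cons.2 ⟨p_g25_ok, (okE_cons.2 ⟨p_g26_ok, (okE_cons.2 ⟨p_g36_ok, (okE_cons.2 ⟨p_g32_ok, (okE_cons.2 ⟨p_g33_ok, (okE_cons.2 ⟨p_g43_ok, (okE_cons.2 ⟨p_g40_ok, (okE_cons.2 ⟨p_g47_ok, (okE_cons.2 ⟨p_g46_ok, (okE_cons.2 ⟨p_g39_ok, (okE_cons.2 ⟨p_g22_ok, (okE_cons.2 ⟨p_g1_ok, (okE_cons.2 ⟨p_g2_ok, (okE_cons.2 ⟨p_g83_ok, (okE_cons.2 ⟨p_g84_ok, (okE_cons.2 ⟨p_g82_ok, (okE_cons.2 ⟨p_g81_ok, (okE_nil 24)⟩)⟩)⟩)⟩)⟩)⟩)⟩)⟩)⟩)⟩)⟩)⟩)⟩)⟩)⟩)⟩)⟩)⟩)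

noncomputable def p_g282 : Net := (Net.cons (nat_lit 1) (nat_lit 278592) (Net.cons (nat_lit 2) (nat_lit 0x223310) (Net.cons (nat_lit 4) (nat_lit 132096) (Net.cons (nat_lit 8) (nat_lit 152) (Net.cons (nat_lit 16) (nat_lit 218) (Net.cons (nat_lit 8) (nat_lit 4) (Net.cons (nat_lit 4) (nat_lit 722949) (Net.cons (nat_lit 2) (nat_lit 0x130023) (Net.cons (nat_lit 1) (nat_lit 0x104551) Net.nil)))))))))

theorem p_g282_ok : Net.ok 24 p_g282 = true := by decide +kernel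

noncomputable def p_g283 : Net := (Net.cons (nat_lit 1) (nat_lit 0x414010) (Net.cons (nat_lit 2) (nat_lit 0x203200) (Net.cons (nat_lit 4) (nat_lit 528128) (Net.cons (nat_lit 8) (nat_lit 208) (Net.cons (nat_lit 16) (nat_lit 241) (Net.cons (nat_lit 8) (nat_lit 3) (Net.cons (nat_lit 4) (nat_lit 262669) (Net.cons (nat_lit 2) (nat_lit 73744) (Net.cons (nat_lit 1) (nat_lit 0x544010) Net.nil)))))))))

theorem p_g283_ok : Net.ok 24 p_g283 = true := by decide +kernel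

noncomputable def p_g284 : Net := (Net.cons (nat_lit 1) (nat_lit 278848) (Net.cons (nat_lit 2) (nat_lit 0x103000) (Net.cons (nat_lit 4) (nat_lit 328960) (Net.cons (nat_lit 8) (nat_lit 1) (Net.cons (nat_lit 16) (nat_lit 65) (Net.cons (nat_lit 8) (nat_lit 55) (Net.cons (nat_lit 4) (nat_lit 460040) (Net.cons (nat_lit 2) (nat_lit 0x103000) (Net.cons (nat_lit 1) (nat_lit 278848) Net.nil)))))))))

theorem p_g284_ok : Net.ok 24 p_g284 = true := by decide +kernel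

noncomputable def cw3_K : List Net := [p_g282, p_g283, p_g239, p_g284]

theorem cw3_K_ok : okE 24 cw3_K = true := (okE_cons.2 ⟨p_g282_ok, (okE_cons.2 ⟨p_g283_ok, (okE_cons.2 ⟨p_g239_ok, (okE_cons.2 ⟨p_g284_ok, (okE_nil 24)⟩)⟩)⟩)⟩)

noncomputable def cw3_cnt_EG : List Net := [p_g29, p_g25, p_g26, p_g36, p_g32, p_g33, p_g43, p_g40, p_g47, p_g46, p_g39, p_g22, p_g1, p_g2, p_g101, p_g102]

theorem cw3_cnt_EG_ok : okE 24 cw3_cnt_EG = true := (okE_cons.2 ⟨p_g29_ok, (okE_cons.2 ⟨p_g25_ok, (okE_cons.2 ⟨p_g26_ok, (okE_cons.2 ⟨p_g36_ok, (okE_cons.2 ⟨p_g32_ok, (okE_cons.2 ⟨p_g33_ok, (okE_cons.2 ⟨p_g43_ok, (okE_cons.2 ⟨p_g40_ok, (okE_cons.2 ⟨p_g47_ok, (okE_cons.2 ⟨p_g46_ok, (okE_cons.2 ⟨p_g39_ok, (okE_cons.2 ⟨p_g22_ok, (okE_cons.2 ⟨p_g1_ok, (okE_cons.2 ⟨p_g2_ok, (okE_cons.2 ⟨p_g101_ok, (okE_cons.2 ⟨p_g102_ok, (okE_nil 24)⟩)⟩)⟩)⟩)⟩)⟩)⟩)⟩)⟩)⟩)⟩)⟩)⟩)⟩)⟩)⟩)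

noncomputable def v_G_X : List Net := [p_g214, p_g1, p_g2, p_g3, p_g4, p_g7, p_g8, p_g11, p_g12, p_g13, p_g12, p_g16, p_g19, p_g19]

theorem v_G_X_ok : okE 24 v_G_X = true := (okE_cons.2 ⟨p_g214_ok, (okE_cons.2 ⟨p_g1_ok, (okE_cons.2 ⟨p_g2_ok, (okE_cons.2 ⟨p_g3_ok, (okE_cons.2 ⟨p_g4_ok, (okE_cons.2 ⟨p_g7_ok, (okE_cons.2 ⟨p_g8_ok, (okE_cons.2 ⟨p_g11_ok, (okE_cons.2 ⟨p_g12_ok, (okE_cons.2 ⟨p_g13_ok, (okE_cons.2 ⟨p_g12_ok, (okE_cons.2 ⟨p_g16_ok, (okE_cons.2 ⟨p_g19_ok, (okE_cons.2 ⟨p_g19_ok, (okE_nil 24)⟩)⟩)⟩)⟩)⟩)⟩)⟩)⟩)⟩)⟩)⟩)⟩)⟩)⟩)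

noncomputable def u_G_X : List Net := [p_g95, p_g1, p_g2, p_g3, p_g4, p_g7, p_g8, p_g11, p_g12, p_g13, p_g12, p_g16, p_g19, p_g19]

theorem u_G_X_ok : okE 24 u_G_X = true := (okE_cons.2 ⟨p_g95_ok, (okE_cons.2 ⟨p_g1_ok, (okE_cons.2 ⟨p_g2_ok, (okE_cons.2 ⟨p_g3_ok, (okE_cons.2 ⟨p_g4_ok, (okE_cons.2 ⟨p_g7_ok, (okE_cons.2 ⟨p_g8_ok, (okE_cons.2 ⟨p_g11_ok, (okE_cons.2 ⟨p_g12_ok, (okE_cons.2 ⟨p_g13_ok, (okE_cons.2 ⟨p_g12_ok, (okE_cons.2 ⟨p_g16_ok, (okE_cons.2 ⟨p_g19_ok, (okE_cons.2 ⟨p_g19_ok, (okE_nil 24)⟩)⟩)⟩)⟩)⟩)⟩)⟩)⟩)⟩)⟩)⟩)⟩)⟩)⟩)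

noncomputable def p_g286 : Net := (Net.cons (nat_lit 1) (nat_lit 0x540000) (Net.cons (nat_lit 2) (nat_lit 0x202000) (Net.cons (nat_lit 4) (nat_lit 133120) (Net.cons (nat_lit 8) (nat_lit 72) (Net.cons (nat_lit 16) (nat_lit 232) (Net.cons (nat_lit 8) (nat_lit 106) (Net.cons (nat_lit 4) (nat_lit 395268) (Net.cons (nat_lit 2) (nat_lit 0x202000) (Net.cons (nat_lit 1) (nat_lit 0x441005) Net.nil)))))))))

theorem p_g286_ok : Net.ok 24 p_g286 = true := by decide +kernel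

noncomputable def p_g287 : Net := (Net.cons (nat_lit 1) (nat_lit 328960) (Net.cons (nat_lit 2) (nat_lit 0x210030) (Net.cons (nat_lit 4) (nat_lit 722944) (Net.cons (nat_lit 8) (nat_lit 13) (Net.cons (nat_lit 16) (nat_lit 237) (Net.cons (nat_lit 8) (nat_lit 126) (Net.cons (nat_lit 4) (nat_lit 397059) (Net.cons (nat_lit 2) (nat_lit 65539) (Net.cons (nat_lit 1) (nat_lit 0x100155) Net.nil)))))))))

theorem p_g287_ok : Net.ok 24 p_g287 = true := by decide +kernel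

noncomputable def E3 : List Net := [p_g286, p_g287]

theorem E3_ok : okE 24 E3 = true := (okE_cons.2 ⟨p_g286_ok, (okE_cons.2 ⟨p_g287_ok, (okE_nil 24)⟩)⟩)

noncomputable def p_g288 : Net := (Net.cons (nat_lit 1) (nat_lit 0x541140) (Net.cons (nat_lit 2) (nat_lit 0x111000) (Net.cons (nat_lit 4) (nat_lit 720896) (Net.cons (nat_lit 8) (nat_lit 176) (Net.cons (nat_lit 16) (nat_lit 240) (Net.cons (nat_lit 8) (nat_lit 145) (Net.cons (nat_lit 4) (nat_lit 655368) (Net.cons (nat_lit 2) (nat_lit 0x133000) (Net.cons (nat_lit 1) (nat_lit 0x440145) Net.nil)))))))))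

theorem p_g288_ok : Net.ok 24 p_g288 = true := by decide +kernel

noncomputable def p_V289 : List Net := [p_g288, p_g286]

theorem p_V289_ok : okE 24 p_V289 = true := (okE_cons.2 ⟨p_g288_ok, (okE_cons.2 ⟨p_g286_ok, (okE_nil 24)⟩)⟩)

noncomputable def E3lb_E : List Net := [p_g286, p_g287, p_g288, p_g286]

theorem E3lb_E_ok : okE 24 E3lb_E = true := (okE_cons.2 ⟨p_g286_ok, (okE_cons.2 ⟨p_g287_ok, (okE_cons.2 ⟨p_g288_ok, (okE_cons.2 ⟨p_g286_ok, (okE_nil 24)⟩)⟩)⟩)⟩)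

theorem d_hn : NOk 12 := by decide

theorem d_hk : 12 ≤ 2 ^ 4 := by decide

noncomputable def d_g1 : Net := (Net.cons (nat_lit 1) (nat_lit 272) (Net.cons (nat_lit 2) (nat_lit 32) (Net.cons (nat_lit 4) (nat_lit 4) (Net.cons (nat_lit 8) (nat_lit 6) (Net.cons (nat_lit 4) (nat_lit 8) (Net.cons (nat_lit 2) (nat_lit 32) Net.nil))))))

theorem d_g1_ok : Net.ok 12 d_g1 = true := by decide +kernel

noncomputable def d_g2 : Net := (Net.cons (nat_lit 1) (nat_lit 1280) (Net.cons (nat_lit 2) (nat_lit 16) (Net.cons (nat_lit 4) (nat_lit 1) (Net.cons (nat_lit 8) (nat_lit 7) (Net.cons (nat_lit 4) (nat_lit 11) (Net.cons (nat_lit 2) (nat_lit 288) (Net.cons (nat_lit 1) (nat_lit 1093) Net.nil)))))))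

theorem d_g2_ok : Net.ok 12 d_g2 = true := by decide +kernel

noncomputable def D_E : List Net := [d_g1, d_g2]

theorem D_E_ok : okE 12 D_E = true := (okE_cons.2 ⟨d_g1_ok, (okE_cons.2 ⟨d_g2_ok, (okE_nil 12)⟩)⟩)

noncomputable def d_g3 : Net := (Net.cons (nat_lit 1) (nat_lit 1024) (Net.cons (nat_lit 2) (nat_lit 816) (Net.cons (nat_lit 8) (nat_lit 12) (Net.cons (nat_lit 4) (nat_lit 6) (Net.cons (nat_lit 2) (nat_lit 304) (Net.cons (nat_lit 1) (nat_lit 1088) Net.nil))))))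

theorem d_g3_ok : Net.ok 12 d_g3 = true := by decide +kernel

noncomputable def d_g4 : Net := (Net.cons (nat_lit 1) (nat_lit 256) (Net.cons (nat_lit 2) (nat_lit 816) (Net.cons (nat_lit 4) (nat_lit 8) (Net.cons (nat_lit 8) (nat_lit 12) (Net.cons (nat_lit 4) (nat_lit 4) (Net.cons (nat_lit 2) (nat_lit 290) (Net.cons (nat_lit 1) (nat_lit 1108) Net.nil)))))))

theorem d_g4_ok : Net.ok 12 d_g4 = true := by decide +kernel

noncomputable def d_V5 : List Net := [d_g3, d_g4]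

theorem d_V5_ok : okE 12 d_V5 = true := (okE_cons.2 ⟨d_g3_ok, (okE_cons.2 ⟨d_g4_ok, (okE_nil 12)⟩)⟩)

noncomputable def d_g7 : Net := (Net.cons (nat_lit 1) (nat_lit 1280) (Net.cons (nat_lit 2) (nat_lit 32) (Net.cons (nat_lit 4) (nat_lit 3) (Net.cons (nat_lit 8) (nat_lit 11) (Net.cons (nat_lit 4) (nat_lit 11) (Net.cons (nat_lit 2) (nat_lit 16) (Net.cons (nat_lit 1) (nat_lit 68) Net.nil)))))))

theorem d_g7_ok : Net.ok 12 d_g7 = true := by decide +kernel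

noncomputable def d_g8 : Net := (Net.cons (nat_lit 1) (nat_lit 1296) (Net.cons (nat_lit 2) (nat_lit 32) (Net.cons (nat_lit 4) (nat_lit 2) (Net.cons (nat_lit 8) (nat_lit 2) (Net.cons (nat_lit 4) (nat_lit 14) (Net.cons (nat_lit 2) (nat_lit 528) (Net.cons (nat_lit 1) (nat_lit 84) Net.nil)))))))

theorem d_g8_ok : Net.ok 12 d_g8 = true := by decide +kernel

noncomputable def d_V9 : List Net := [d_g7, d_g8]

theorem d_V9_ok : okE 12 d_V9 = true := (okE_cons.2 ⟨d_g7_ok, (okE_cons.2 ⟨d_g8_ok, (okE_nil 12)⟩)⟩)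

noncomputable def d_g11 : Net := (Net.cons (nat_lit 1) (nat_lit 272) (Net.cons (nat_lit 2) (nat_lit 544) (Net.cons (nat_lit 4) (nat_lit 7) (Net.cons (nat_lit 8) (nat_lit 7) (Net.cons (nat_lit 4) (nat_lit 15) (Net.cons (nat_lit 2) (nat_lit 544) (Net.cons (nat_lit 1) (nat_lit 1360) Net.nil)))))))

theorem d_g11_ok : Net.ok 12 d_g11 = true := by decide +kernel

noncomputable def d_g12 : Net := (Net.cons (nat_lit 1) (nat_lit 1280) (Net.cons (nat_lit 2) (nat_lit 256) (Net.cons (nat_lit 4) (nat_lit 3) (Net.cons (nat_lit 8) (nat_lit 11) (Net.cons (nat_lit 4) (nat_lit 11) (Net.cons (nat_lit 2) (nat_lit 512) Net.nil))))))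

theorem d_g12_ok : Net.ok 12 d_g12 = true := by decide +kernel

noncomputable def d_g13 : Net := (Net.cons (nat_lit 1) (nat_lit 320) (Net.cons (nat_lit 2) (nat_lit 544) (Net.cons (nat_lit 4) (nat_lit 7) (Net.cons (nat_lit 8) (nat_lit 15) (Net.cons (nat_lit 4) (nat_lit 7) (Net.cons (nat_lit 2) (nat_lit 816) (Net.cons (nat_lit 1) (nat_lit 1088) Net.nil)))))))

theorem d_g13_ok : Net.ok 12 d_g13 = true := by decide +kernel

noncomputable def d_V14 : List Net := [d_g11, d_g12, d_g13]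

theorem d_V14_ok : okE 12 d_V14 = true := (okE_cons.2 ⟨d_g11_ok, (okE_cons.2 ⟨d_g12_ok, (okE_cons.2 ⟨d_g13_ok, (okE_nil 12)⟩)⟩)⟩)

noncomputable def d_g16 : Net := (Net.cons (nat_lit 2) (nat_lit 256) (Net.cons (nat_lit 4) (nat_lit 9) (Net.cons (nat_lit 8) (nat_lit 9) (Net.cons (nat_lit 4) (nat_lit 9) (Net.cons (nat_lit 2) (nat_lit 32) (Net.cons (nat_lit 1) (nat_lit 1360) Net.nil))))))

theorem d_g16_ok : Net.ok 12 d_g16 = true := by decide +kernel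

noncomputable def d_g17 : Net := (Net.cons (nat_lit 2) (nat_lit 768) (Net.cons (nat_lit 4) (nat_lit 12) (Net.cons (nat_lit 8) (nat_lit 12) (Net.cons (nat_lit 4) (nat_lit 12) (Net.cons (nat_lit 2) (nat_lit 528) (Net.cons (nat_lit 1) (nat_lit 1360) Net.nil))))))

theorem d_g17_ok : Net.ok 12 d_g17 = true := by decide +kernel

noncomputable def d_V18 : List Net := [d_g16, d_g17]

theorem d_V18_ok : okE 12 d_V18 = true := (okE_cons.2 ⟨d_g16_ok, (okE_cons.2 ⟨d_g17_ok, (okE_nil 12)⟩)⟩)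

noncomputable def D_lb_E : List Net := [d_g1, d_g2, d_g3, d_g4, d_g7, d_g8, d_g11, d_g12, d_g13, d_g16, d_g17]

theorem D_lb_E_ok : okE 12 D_lb_E = true := (okE_cons.2 ⟨d_g1_ok, (okE_cons.2 ⟨d_g2_ok, (okE_cons.2 ⟨d_g3_ok, (okE_cons.2 ⟨d_g4_ok, (okE_cons.2 ⟨d_g7_ok, (okE_cons.2 ⟨d_g8_ok, (okE_cons.2 ⟨d_g11_ok, (okE_cons.2 ⟨d_g12_ok, (okE_cons.2 ⟨d_g13_ok, (okE_cons.2 ⟨d_g16_ok, (okE_cons.2 ⟨d_g17_ok, (okE_nil 12)⟩)⟩)⟩)⟩)⟩)⟩)⟩)⟩)⟩)⟩)⟩)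

noncomputable def d_g20 : Net := (Net.cons (nat_lit 1) (nat_lit 320) (Net.cons (nat_lit 2) (nat_lit 544) (Net.cons (nat_lit 4) (nat_lit 1) (Net.cons (nat_lit 8) (nat_lit 3) (Net.cons (nat_lit 4) (nat_lit 2) (Net.cons (nat_lit 2) (nat_lit 272) (Net.cons (nat_lit 1) (nat_lit 1045) Net.nil)))))))

theorem d_g20_ok : Net.ok 12 d_g20 = true := by decide +kernel

noncomputable def d_g21 : Net := (Net.cons (nat_lit 2) (nat_lit 32) (Net.cons (nat_lit 4) (nat_lit 13) (Net.cons (nat_lit 8) (nat_lit 15) (Net.cons (nat_lit 4) (nat_lit 7) (Net.cons (nat_lit 2) (nat_lit 515) (Net.cons (nat_lit 1) (nat_lit 272) Net.nil))))))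

theorem d_g21_ok : Net.ok 12 d_g21 = true := by decide +kernel

theorem p_le6 : grp 24 p_V5 ≤ grp 24 E :=
  grp_le_of_memB p_hn p_hk E_ok p_V5_ok (ws := [nat_lit 0x203020303030303, nat_lit 0x402030303]) (by decide +kernel)

theorem p_le10 : grp 24 p_V9 ≤ grp 24 p_V5 :=
  grp_le_of_memB p_hn p_hk p_V5_ok p_V9_ok (ws := [nat_lit 131842, nat_lit 0x3030204020404]) (by decide +kernel)

theorem p_le15 : grp 24 p_V14 ≤ grp 24 p_V9 :=
  grp_le_of_memB p_hn p_hk p_V9_ok p_V14_ok (ws := [nat_lit 0x4010402, nat_lit 0x202040402, nat_lit 197124]) (by decide +kernel)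

theorem p_le18 : grp 24 p_V17 ≤ grp 24 p_V14 :=
  grp_le_of_memB p_hn p_hk p_V14_ok p_V17_ok (ws := [nat_lit 0x30501040405, nat_lit 0x40501030205040601]) (by decide +kernel)

theorem p_le21 : grp 24 p_V20 ≤ grp 24 p_V17 :=
  grp_le_of_memB p_hn p_hk p_V17_ok p_V20_ok (ws := [nat_lit 0x1030302, nat_lit 0x2030104]) (by decide +kernel)

theorem lb_le : grp 24 lb_E ≤ grp 24 E :=
  (grp_cons_le ((le_refl (grp 24 E)) (toPerm_mem_grp (E := E) (by simp [E]))) (grp_cons_le ((le_refl (grp 24 E)) (toPerm_mem_grp (E := E) (by simp [E]))) (grp_cons_le ((p_le6.trans (le_refl (grp 24 E))) (toPerm_mem_grp (E := p_V5) (by simp [p_V5]))) (grp_cons_le ((p_le6.trans (le_refl (grp 24 E))) (toPerm_mem_grp (E := p_V5) (by simp [p_V5]))) (grp_cons_le ((p_le10.trans (p_le6.trans (le_refl (grp 24 E)))) (toPerm_mem_grp (E := p_V9) (by simp [p_V9]))) (grp_cons_le ((p_le10.trans (p_le6.trans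 (le_refl (grp 24 E)))) (toPerm_mem_grp (E := p_V9) (by simp [p_V9]))) (grp_cons_le ((p_le15.trans (p_le10.trans (p_le6.trans (le_refl (grp 24 E))))) (toPerm_mem_grp (E := p_V14) (by simp [p_V14]))) (grp_cons_le ((p_le15.trans (p_le10.trans (p_le6.trans (le_refl (grp 24 E))))) (toPerm_mem_grp (E := p_V14) (by simp [p_V14]))) (grp_cons_le ((p_le15.trans (p_le10.trans (p_le6.trans (le_refl (grp 24 E))))) (toPerm_mem_grp (E := p_V14) (by simp [p_V14]))) (grp_cons_le ((p_le18.trans (p_le15.trans (p_le10.trans (p_le6.trans (le_refl (grp 24 E)))))) (toPerm_mem_grp (E := p_V17) (by simp [p_V17]))) (grp_cons_le ((p_le18.trans (p_le15.trans (p_le10.trans (p_le6.trans (le_refl (grp 24 E)))))) (toPerm_mem_grp (E := p_V17) (by simp [p_V17]))) (grp_cons_le ((p_le21.trans (p_le18.trans (p_le15.trans (p_le10.trans (p_le6.trans (le_refl (grp 24 E))))))) (toPerm_mem_grp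 (E := p_V20) (by simp [p_V20]))) (grp_cons_le ((p_le21.trans (p_le18.trans (p_le15.trans (p_le10.trans (p_le6.trans (le_refl (grp 24 E))))))) (toPerm_mem_grp (E := p_V20) (by simp [p_V20]))) (grp_nil_le _))))))))))))))

noncomputable def lb_ch : Ch := (Ch.cons (nat_lit 0) [nat_lit 1, nat_lit 3] (Ch.cons (nat_lit 1) [nat_lit 5, nat_lit 7] (Ch.cons (nat_lit 2) [nat_lit 9, nat_lit 11] (Ch.cons (nat_lit 3) [nat_lit 13, nat_lit 15, nat_lit 17] (Ch.cons (nat_lit 5) [nat_lit 19, nat_lit 21] (Ch.cons (nat_lit 4) [nat_lit 23, nat_lit 25] Ch.nil))))))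

theorem lb_chk : Ch.chk 24 5 (lab 24 5) lb_E lb_ch 95040 = true :=
  by decide +kernel

theorem lb_ge : 95040 ≤ Nat.card (grp 24 E) :=
  (Ch.le_card_grp p_hn lb_E_ok lb_chk).trans (Subgroup.card_le_of_le lb_le)

theorem eq_lb : grp 24 E = grp 24 lb_E :=
  le_antisymm (grp_mono (List.subset_append_left E [p_g3, p_g4, p_g7, p_g8, p_g11, p_g12, p_g13, p_g12, p_g16, p_g19, p_g19])) lb_le

noncomputable def equiv : Spor.M12 ≃* grp 24 E := (EvG.mathieu_equiv H74.test12 E_ok (cs := [812208046096168457720402829369675168, 819706276149187993904109680296404012]) (by decide +kernel) (H74.card_M12.le.trans lb_ge)).some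

theorem card_G : Nat.card (grp 24 E) = 95040 :=
  (Nat.card_congr equiv.toEquiv).symm.trans H74.card_M12

theorem p_le24 : grp 24 p_V23 ≤ grp 24 EG :=
  grp_le_of_memB p_hn p_hk EG_ok p_V23_ok (ws := [nat_lit 1]) (by decide +kernel)

theorem p_le28 : grp 24 p_V27 ≤ grp 24 EG :=
  grp_le_of_memB p_hn p_hk EG_ok p_V27_ok (ws := [nat_lit 0x10601010602, nat_lit 0x503050402030302]) (by decide +kernel)

theorem p_le31 : grp 24 p_V30 ≤ grp 24 p_V27 :=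
  grp_le_of_memB p_hn p_hk p_V27_ok p_V30_ok (ws := [nat_lit 1028]) (by decide +kernel)

theorem p_le35 : grp 24 p_V34 ≤ grp 24 p_V27 :=
  grp_le_of_memB p_hn p_hk p_V27_ok p_V34_ok (ws := [nat_lit 0x302040104, nat_lit 0x40402040204]) (by decide +kernel)

theorem p_le38 : grp 24 p_V37 ≤ grp 24 p_V34 :=
  grp_le_of_memB p_hn p_hk p_V34_ok p_V37_ok (ws := [nat_lit 2]) (by decide +kernel)

theorem p_le42 : grp 24 p_V41 ≤ grp 24 p_V34 :=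
  grp_le_of_memB p_hn p_hk p_V34_ok p_V41_ok (ws := [nat_lit 0x4010101, nat_lit 0x2020202020204]) (by decide +kernel)

theorem p_le45 : grp 24 p_V44 ≤ grp 24 p_V41 :=
  grp_le_of_memB p_hn p_hk p_V41_ok p_V44_ok (ws := [nat_lit 197123]) (by decide +kernel)

theorem p_le49 : grp 24 p_V48 ≤ grp 24 p_V41 :=
  grp_le_of_memB p_hn p_hk p_V41_ok p_V48_ok (ws := [nat_lit 0x10404010404, nat_lit 0x20401030104040104]) (by decide +kernel)

theorem p_le51 : grp 24 p_V50 ≤ grp 24 p_V48 :=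
  grp_le_of_memB p_hn p_hk p_V48_ok p_V50_ok (ws := [nat_lit 3]) (by decide +kernel)

theorem p_le53 : grp 24 p_V52 ≤ grp 24 p_V48 :=
  grp_le_of_memB p_hn p_hk p_V48_ok p_V52_ok (ws := [nat_lit 0x2040402040203, nat_lit 262404]) (by decide +kernel)

theorem p_le55 : grp 24 p_V54 ≤ grp 24 p_V52 :=
  grp_le_of_memB p_hn p_hk p_V52_ok p_V54_ok (ws := [nat_lit 1]) (by decide +kernel)

theorem N_card6 : Nat.card (grp 24 N_E6) = 1 :=
  card_grp_nil 24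

theorem N_leO6 : grp 24 N_E6 ≤ grp 24 EG :=
  grp_nil_le _

theorem N_5_fix : grp 24 N_E6 ≤ MulAction.stabilizer (Equiv.Perm (Fin 24)) (⟨4, by decide⟩ : Fin 24) :=
  grp_le_stab N_E6_ok (by decide : 4 < 24) (by decide +kernel)

noncomputable def N_5_ts : List ℕ := [nat_lit 0, nat_lit 1, nat_lit 2]

noncomputable def N_5_ds : List ℕ := [nat_lit 4, nat_lit 9, nat_lit 12]

theorem N_5_dist : Dist 24 N_E6 N_G5 (⟨4, by decide⟩ : Fin 24) N_5_ts N_5_ds :=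
  dist_of_distB (k := 2) p_hn N_E6_ok N_G5_ok (by decide : 4 < 24) (by decide +kernel)

noncomputable def N_5_sl0 : SL := (SL.cons (nat_lit 1) (nat_lit 9) Ch.nil [] (SL.cons (nat_lit 2) (nat_lit 12) Ch.nil [] SL.nil))

theorem N_5_sc0 : SCs 24 N_E6 N_G5 (⟨4, by decide⟩ : Fin 24) (SL.words N_5_sl0) :=
  scs_of_ok p_hn (det_lab p_hk ⊤) N_E6_ok N_G5_ok le_top le_top (by decide : 4 < 24) N_5_fix N_card6.le (by decide +kernel)

noncomputable def N_5_l : List ℕ := (appL (SL.words N_5_sl0) [])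

theorem N_5_scs : SCs 24 N_E6 N_G5 (⟨4, by decide⟩ : Fin 24) N_5_l :=
  (SCs.append N_5_sc0 SCs.nil)

noncomputable def N_5_rl0_0 : RL := (RL.cons (nat_lit 0) (nat_lit 4) (nat_lit 0) (nat_lit 0) (nat_lit 2) (nat_lit 0) (RL.cons (nat_lit 1) (nat_lit 9) (nat_lit 0) (nat_lit 0) (nat_lit 0) (nat_lit 0) (RL.cons (nat_lit 2) (nat_lit 12) (nat_lit 0) (nat_lit 0) (nat_lit 1) (nat_lit 0) RL.nil)))

theorem N_5_good0_0 : GoodSet 24 N_E6 N_G5 (⟨4, by decide⟩ : Fin 24) N_5_ts (nat_lit 1) (RL.pts N_5_rl0_0) :=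
  goodSet_of_ok p_hn (det_lab p_hk ⊤) N_E6_ok N_G5_ok le_top le_top (by decide : 4 < 24) (sepAt_lab p_hk _) (by decide +kernel)

theorem N_5_step0 : Step 24 N_E6 N_G5 N_5_ts (2 * 0 + 1) :=
  step_of_cover N_E6_ok N_5_dist (by decide +kernel) N_5_scs (by decide +kernel) N_5_good0_0 (kw := [])
    (conj_mem_of_scs N_E6_ok N_G5_ok (by decide : 4 < 24) N_5_scs (c := 0) (d := 9) (by decide +kernel)) (by decide +kernel)

theorem N_5_lev : grp 24 N_G5 ⊓ MulAction.stabilizer (Equiv.Perm (Fin 24)) (⟨4, by decide⟩ : Fin 24) = grp 24 N_E6 :=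
  sims_level (gs := p_V54) rfl (by decide) N_5_fix N_5_dist (forall_lt_one N_5_step0)

theorem N_5_cardG : Nat.card (grp 24 N_G5) = 3 :=
  card_of_level p_hn N_G5_ok (by decide : 4 < 24) N_5_lev N_card6 (m := 3) (by decide +kernel)

theorem p_le56 : grp 24 N_E5 ≤ grp 24 N_G5 :=
  grp_le_of_memB p_hn p_hk N_G5_ok N_E5_ok (ws := [nat_lit 1, nat_lit 2]) (by decide +kernel)

theorem p_le57 : grp 24 N_G5 ≤ grp 24 N_E5 :=
  grp_le_of_memB p_hn p_hk N_E5_ok N_G5_ok (ws := [nat_lit 1]) (by decide +kernel)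

theorem N_5_eq : grp 24 N_E5 = grp 24 N_G5 :=
  le_antisymm p_le56 p_le57

theorem N_card5 : Nat.card (grp 24 N_E5) = 3 :=
  by rw [N_5_eq]; exact N_5_cardG

theorem N_stab5 : grp 24 N_E5 ⊓ MulAction.stabilizer (Equiv.Perm (Fin 24)) (⟨4, by decide⟩ : Fin 24) = grp 24 N_E6 :=
  by rw [N_5_eq]; exact N_5_lev

theorem N_leO5 : grp 24 N_E5 ≤ grp 24 EG :=
  N_5_eq.le.trans (grp_cons_le ((p_le53.trans (p_le49.trans (p_le42.trans (p_le35.trans (p_le28.trans (le_refl (grp 24 EG))))))) (p_le55 (toPerm_mem_grp (E := p_V54) (by simp [p_V54])))) N_leO6)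

theorem N_4_fix : grp 24 N_E5 ≤ MulAction.stabilizer (Equiv.Perm (Fin 24)) (⟨16, by decide⟩ : Fin 24) :=
  grp_le_stab N_E5_ok (by decide : 16 < 24) (by decide +kernel)

noncomputable def N_4_ts : List ℕ := [nat_lit 0, nat_lit 1]

noncomputable def N_4_ds : List ℕ := [nat_lit 16, nat_lit 4]

theorem N_4_dist : Dist 24 N_E5 N_G4 (⟨16, by decide⟩ : Fin 24) N_4_ts N_4_ds :=
  dist_of_distB (k := 1) p_hn N_E5_ok N_G4_ok (by decide : 16 < 24) (by decide +kernel)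

noncomputable def N_4_sl0 : SL := (SL.cons (nat_lit 1) (nat_lit 4) Ch.nil [] SL.nil)

theorem N_4_sc0 : SCs 24 N_E5 N_G4 (⟨16, by decide⟩ : Fin 24) (SL.words N_4_sl0) :=
  scs_of_ok p_hn (det_lab p_hk ⊤) N_E5_ok N_G4_ok le_top le_top (by decide : 16 < 24) N_4_fix N_card5.le (by decide +kernel)

noncomputable def N_4_l : List ℕ := (appL (SL.words N_4_sl0) [])

theorem N_4_scs : SCs 24 N_E5 N_G4 (⟨16, by decide⟩ : Fin 24) N_4_l :=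
  (SCs.append N_4_sc0 SCs.nil)

noncomputable def N_4_rl0_0 : RL := (RL.cons (nat_lit 0) (nat_lit 16) (nat_lit 0) (nat_lit 2) (nat_lit 1) (nat_lit 2) (RL.cons (nat_lit 1) (nat_lit 4) (nat_lit 0) (nat_lit 0) (nat_lit 0) (nat_lit 0) (RL.cons (nat_lit 1) (nat_lit 9) (nat_lit 1) (nat_lit 1) (nat_lit 1) (nat_lit 2) (RL.cons (nat_lit 1) (nat_lit 12) (nat_lit 2) (nat_lit 0) (nat_lit 1) (nat_lit 1) RL.nil))))

theorem N_4_good0_0 : GoodSet 24 N_E5 N_G4 (⟨16, by decide⟩ : Fin 24) N_4_ts (nat_lit 1) (RL.pts N_4_rl0_0) :=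
  goodSet_of_ok p_hn (det_lab p_hk ⊤) N_E5_ok N_G4_ok le_top le_top (by decide : 16 < 24) (sepAt_lab p_hk _) (by decide +kernel)

theorem N_4_step0 : Step 24 N_E5 N_G4 N_4_ts (2 * 0 + 1) :=
  step_of_cover N_E5_ok N_4_dist (by decide +kernel) N_4_scs (by decide +kernel) N_4_good0_0 (kw := [])
    (conj_mem_of_scs N_E5_ok N_G4_ok (by decide : 16 < 24) N_4_scs (c := 0) (d := 4) (by decide +kernel)) (by decide +kernel)

theorem N_4_lev : grp 24 N_G4 ⊓ MulAction.stabilizer (Equiv.Perm (Fin 24)) (⟨16, by decide⟩ : Fin 24) = grp 24 N_E5 :=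
  sims_level (gs := p_V50) rfl (by decide) N_4_fix N_4_dist (forall_lt_one N_4_step0)

theorem N_4_cardG : Nat.card (grp 24 N_G4) = 12 :=
  card_of_level p_hn N_G4_ok (by decide : 16 < 24) N_4_lev N_card5 (m := 4) (by decide +kernel)

theorem p_le58 : grp 24 N_E4 ≤ grp 24 N_G4 :=
  grp_le_of_memB p_hn p_hk N_G4_ok N_E4_ok (ws := [nat_lit 1, nat_lit 3, nat_lit 5]) (by decide +kernel)

theorem p_le59 : grp 24 N_G4 ≤ grp 24 N_E4 :=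
  grp_le_of_memB p_hn p_hk N_E4_ok N_G4_ok (ws := [nat_lit 1, nat_lit 3, nat_lit 5]) (by decide +kernel)

theorem N_4_eq : grp 24 N_E4 = grp 24 N_G4 :=
  le_antisymm p_le58 p_le59

theorem N_card4 : Nat.card (grp 24 N_E4) = 12 :=
  by rw [N_4_eq]; exact N_4_cardG

theorem N_stab4 : grp 24 N_E4 ⊓ MulAction.stabilizer (Equiv.Perm (Fin 24)) (⟨16, by decide⟩ : Fin 24) = grp 24 N_E5 :=
  by rw [N_4_eq]; exact N_4_lev

theorem N_leO4 : grp 24 N_E4 ≤ grp 24 EG :=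
  N_4_eq.le.trans (grp_cons_le ((p_le49.trans (p_le42.trans (p_le35.trans (p_le28.trans (le_refl (grp 24 EG)))))) (p_le51 (toPerm_mem_grp (E := p_V50) (by simp [p_V50])))) N_leO5)

theorem N_3_fix : grp 24 N_E4 ≤ MulAction.stabilizer (Equiv.Perm (Fin 24)) (⟨3, by decide⟩ : Fin 24) :=
  grp_le_stab N_E4_ok (by decide : 3 < 24) (by decide +kernel)

noncomputable def N_3_ts : List ℕ := [nat_lit 0, nat_lit 1]

noncomputable def N_3_ds : List ℕ := [nat_lit 3, nat_lit 16]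

theorem N_3_dist : Dist 24 N_E4 N_G3 (⟨3, by decide⟩ : Fin 24) N_3_ts N_3_ds :=
  dist_of_distB (k := 1) p_hn N_E4_ok N_G3_ok (by decide : 3 < 24) (by decide +kernel)

noncomputable def N_3_sl0 : SL := (SL.cons (nat_lit 1) (nat_lit 16) (Ch.cons (nat_lit 4) [nat_lit 3, nat_lit 5] Ch.nil) [nat_lit 769, nat_lit 262403] SL.nil)

theorem N_3_sc0 : SCs 24 N_E4 N_G3 (⟨3, by decide⟩ : Fin 24) (SL.words N_3_sl0) :=
  scs_of_ok p_hn (det_lab p_hk ⊤) N_E4_ok N_G3_ok le_top le_top (by decide : 3 < 24) N_3_fix N_card4.le (by decide +kernel)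

noncomputable def N_3_l : List ℕ := (appL (SL.words N_3_sl0) [])

theorem N_3_scs : SCs 24 N_E4 N_G3 (⟨3, by decide⟩ : Fin 24) N_3_l :=
  (SCs.append N_3_sc0 SCs.nil)

noncomputable def N_3_rl0_0 : RL := (RL.cons (nat_lit 0) (nat_lit 3) (nat_lit 0) (nat_lit 2) (nat_lit 1) (nat_lit 2) (RL.cons (nat_lit 1) (nat_lit 16) (nat_lit 0) (nat_lit 0) (nat_lit 0) (nat_lit 0) (RL.cons (nat_lit 1) (nat_lit 4) (nat_lit 1) (nat_lit 1) (nat_lit 1) (nat_lit 2) RL.nil)))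

theorem N_3_good0_0 : GoodSet 24 N_E4 N_G3 (⟨3, by decide⟩ : Fin 24) N_3_ts (nat_lit 1) (RL.pts N_3_rl0_0) :=
  goodSet_of_ok p_hn (det_lab p_hk ⊤) N_E4_ok N_G3_ok le_top le_top (by decide : 3 < 24) (sepAt_lab p_hk _) (by decide +kernel)

theorem N_3_step0 : Step 24 N_E4 N_G3 N_3_ts (2 * 0 + 1) :=
  step_of_cover N_E4_ok N_3_dist (by decide +kernel) N_3_scs (by decide +kernel) N_3_good0_0 (kw := [nat_lit 3, nat_lit 5])
    (conj_mem_of_scs N_E4_ok N_G3_ok (by decide : 3 < 24) N_3_scs (c := 0) (d := 16) (by decide +kernel)) (by decide +kernel)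

theorem N_3_lev : grp 24 N_G3 ⊓ MulAction.stabilizer (Equiv.Perm (Fin 24)) (⟨3, by decide⟩ : Fin 24) = grp 24 N_E4 :=
  sims_level (gs := p_V44) rfl (by decide) N_3_fix N_3_dist (forall_lt_one N_3_step0)

theorem N_3_cardG : Nat.card (grp 24 N_G3) = 60 :=
  card_of_level p_hn N_G3_ok (by decide : 3 < 24) N_3_lev N_card4 (m := 5) (by decide +kernel)

theorem p_le60 : grp 24 N_E3 ≤ grp 24 N_G3 :=
  grp_le_of_memB p_hn p_hk N_G3_ok N_E3_ok (ws := [nat_lit 1, nat_lit 0x503050103, nat_lit 3, nat_lit 5, nat_lit 7]) (by decide +kernel)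

theorem p_le61 : grp 24 N_G3 ≤ grp 24 N_E3 :=
  grp_le_of_memB p_hn p_hk N_E3_ok N_G3_ok (ws := [nat_lit 1, nat_lit 5, nat_lit 7, nat_lit 9]) (by decide +kernel)

theorem N_3_eq : grp 24 N_E3 = grp 24 N_G3 :=
  le_antisymm p_le60 p_le61

theorem N_card3 : Nat.card (grp 24 N_E3) = 60 :=
  by rw [N_3_eq]; exact N_3_cardG

theorem N_stab3 : grp 24 N_E3 ⊓ MulAction.stabilizer (Equiv.Perm (Fin 24)) (⟨3, by decide⟩ : Fin 24) = grp 24 N_E4 :=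
  by rw [N_3_eq]; exact N_3_lev

theorem N_leO3 : grp 24 N_E3 ≤ grp 24 EG :=
  N_3_eq.le.trans (grp_cons_le ((p_le42.trans (p_le35.trans (p_le28.trans (le_refl (grp 24 EG))))) (p_le45 (toPerm_mem_grp (E := p_V44) (by simp [p_V44])))) N_leO4)

theorem N_2_fix : grp 24 N_E3 ≤ MulAction.stabilizer (Equiv.Perm (Fin 24)) (⟨19, by decide⟩ : Fin 24) :=
  grp_le_stab N_E3_ok (by decide : 19 < 24) (by decide +kernel)

noncomputable def N_2_ts : List ℕ := [nat_lit 0, nat_lit 1]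

noncomputable def N_2_ds : List ℕ := [nat_lit 19, nat_lit 10]

theorem N_2_dist : Dist 24 N_E3 N_G2 (⟨19, by decide⟩ : Fin 24) N_2_ts N_2_ds :=
  dist_of_distB (k := 1) p_hn N_E3_ok N_G2_ok (by decide : 19 < 24) (by decide +kernel)

noncomputable def N_2_sl0 : SL := (SL.cons (nat_lit 1) (nat_lit 10) (Ch.cons (nat_lit 5) [nat_lit 525825, nat_lit 1281] Ch.nil) [nat_lit 524547, nat_lit 6] SL.nil)

theorem N_2_sc0 : SCs 24 N_E3 N_G2 (⟨19, by decide⟩ : Fin 24) (SL.words N_2_sl0) :=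
  scs_of_ok p_hn (det_lab p_hk ⊤) N_E3_ok N_G2_ok le_top le_top (by decide : 19 < 24) N_2_fix N_card3.le (by decide +kernel)

noncomputable def N_2_l : List ℕ := (appL (SL.words N_2_sl0) [])

theorem N_2_scs : SCs 24 N_E3 N_G2 (⟨19, by decide⟩ : Fin 24) N_2_l :=
  (SCs.append N_2_sc0 SCs.nil)

noncomputable def N_2_rl0_0 : RL := (RL.cons (nat_lit 0) (nat_lit 19) (nat_lit 0) (nat_lit 1) (nat_lit 1) (nat_lit 1) (RL.cons (nat_lit 1) (nat_lit 10) (nat_lit 0) (nat_lit 0) (nat_lit 0) (nat_lit 0) (RL.cons (nat_lit 1) (nat_lit 11) (nat_lit 1) (nat_lit 264) (nat_lit 1) (nat_lit 0x8050103) (RL.cons (nat_lit 1) (nat_lit 23) (nat_lit 259) (nat_lit 7) (nat_lit 1) (nat_lit 0x8050701) RL.nil))))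

theorem N_2_good0_0 : GoodSet 24 N_E3 N_G2 (⟨19, by decide⟩ : Fin 24) N_2_ts (nat_lit 1) (RL.pts N_2_rl0_0) :=
  goodSet_of_ok p_hn (det_lab p_hk ⊤) N_E3_ok N_G2_ok le_top le_top (by decide : 19 < 24) (sepAt_lab p_hk _) (by decide +kernel)

theorem N_2_step0 : Step 24 N_E3 N_G2 N_2_ts (2 * 0 + 1) :=
  step_of_cover N_E3_ok N_2_dist (by decide +kernel) N_2_scs (by decide +kernel) N_2_good0_0 (kw := [nat_lit 525825, nat_lit 1281])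
    (conj_mem_of_scs N_E3_ok N_G2_ok (by decide : 19 < 24) N_2_scs (c := 0) (d := 10) (by decide +kernel)) (by decide +kernel)

theorem N_2_lev : grp 24 N_G2 ⊓ MulAction.stabilizer (Equiv.Perm (Fin 24)) (⟨19, by decide⟩ : Fin 24) = grp 24 N_E3 :=
  sims_level (gs := p_V37) rfl (by decide) N_2_fix N_2_dist (forall_lt_one N_2_step0)

theorem N_2_cardG : Nat.card (grp 24 N_G2) = 660 :=
  card_of_level p_hn N_G2_ok (by decide : 19 < 24) N_2_lev N_card3 (m := 11) (by decide +kernel)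

theorem p_le62 : grp 24 N_E2 ≤ grp 24 N_G2 :=
  grp_le_of_memB p_hn p_hk N_G2_ok N_E2_ok (ws := [nat_lit 1, nat_lit 2, nat_lit 0x907040104, nat_lit 3, nat_lit 5, nat_lit 7, nat_lit 9, nat_lit 11]) (by decide +kernel)

theorem p_le63 : grp 24 N_G2 ≤ grp 24 N_E2 :=
  grp_le_of_memB p_hn p_hk N_E2_ok N_G2_ok (ws := [nat_lit 1, nat_lit 7, nat_lit 9, nat_lit 11, nat_lit 13, nat_lit 15]) (by decide +kernel)

theorem N_2_eq : grp 24 N_E2 = grp 24 N_G2 :=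
  le_antisymm p_le62 p_le63

theorem N_card2 : Nat.card (grp 24 N_E2) = 660 :=
  by rw [N_2_eq]; exact N_2_cardG

theorem N_stab2 : grp 24 N_E2 ⊓ MulAction.stabilizer (Equiv.Perm (Fin 24)) (⟨19, by decide⟩ : Fin 24) = grp 24 N_E3 :=
  by rw [N_2_eq]; exact N_2_lev

theorem N_leO2 : grp 24 N_E2 ≤ grp 24 EG :=
  N_2_eq.le.trans (grp_cons_le ((p_le35.trans (p_le28.trans (le_refl (grp 24 EG)))) (p_le38 (toPerm_mem_grp (E := p_V37) (by simp [p_V37])))) N_leO3)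

theorem N_1_fix : grp 24 N_E2 ≤ MulAction.stabilizer (Equiv.Perm (Fin 24)) (⟨22, by decide⟩ : Fin 24) :=
  grp_le_stab N_E2_ok (by decide : 22 < 24) (by decide +kernel)

noncomputable def N_1_ts : List ℕ := [nat_lit 0, nat_lit 1]

noncomputable def N_1_ds : List ℕ := [nat_lit 22, nat_lit 19]

theorem N_1_dist : Dist 24 N_E2 N_G1 (⟨22, by decide⟩ : Fin 24) N_1_ts N_1_ds :=
  dist_of_distB (k := 1) p_hn N_E2_ok N_G1_ok (by decide : 22 < 24) (by decide +kernel)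

noncomputable def N_1_sl0 : SL := (SL.cons (nat_lit 1) (nat_lit 19) (Ch.cons (nat_lit 3) [nat_lit 7, nat_lit 9] (Ch.cons (nat_lit 16) [nat_lit 11] (Ch.cons (nat_lit 4) [nat_lit 13, nat_lit 15] Ch.nil))) [nat_lit 0xd0c090202, nat_lit 0xc090209, nat_lit 723202, nat_lit 920322, nat_lit 0xe0b0d070901] SL.nil)

theorem N_1_sc0 : SCs 24 N_E2 N_G1 (⟨22, by decide⟩ : Fin 24) (SL.words N_1_sl0) :=
  scs_of_ok p_hn (det_lab p_hk ⊤) N_E2_ok N_G1_ok le_top le_top (by decide : 22 < 24) N_1_fix N_card2.le (by decide +kernel)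

noncomputable def N_1_l : List ℕ := (appL (SL.words N_1_sl0) [])

theorem N_1_scs : SCs 24 N_E2 N_G1 (⟨22, by decide⟩ : Fin 24) N_1_l :=
  (SCs.append N_1_sc0 SCs.nil)

noncomputable def N_1_rl0_0 : RL := (RL.cons (nat_lit 0) (nat_lit 22) (nat_lit 0) (nat_lit 6) (nat_lit 1) (nat_lit 0xe0c0706) (RL.cons (nat_lit 1) (nat_lit 19) (nat_lit 0) (nat_lit 0) (nat_lit 0) (nat_lit 0) (RL.cons (nat_lit 1) (nat_lit 10) (nat_lit 1) (nat_lit 521) (nat_lit 1) (nat_lit 0xe0c0709010d) RL.nil)))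

theorem N_1_good0_0 : GoodSet 24 N_E2 N_G1 (⟨22, by decide⟩ : Fin 24) N_1_ts (nat_lit 1) (RL.pts N_1_rl0_0) :=
  goodSet_of_ok p_hn (det_lab p_hk ⊤) N_E2_ok N_G1_ok le_top le_top (by decide : 22 < 24) (sepAt_lab p_hk _) (by decide +kernel)

theorem N_1_step0 : Step 24 N_E2 N_G1 N_1_ts (2 * 0 + 1) :=
  step_of_cover N_E2_ok N_1_dist (by decide +kernel) N_1_scs (by decide +kernel) N_1_good0_0 (kw := [nat_lit 7, nat_lit 9, nat_lit 11, nat_lit 13, nat_lit 15])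
    (conj_mem_of_scs N_E2_ok N_G1_ok (by decide : 22 < 24) N_1_scs (c := 0) (d := 19) (by decide +kernel)) (by decide +kernel)

theorem N_1_lev : grp 24 N_G1 ⊓ MulAction.stabilizer (Equiv.Perm (Fin 24)) (⟨22, by decide⟩ : Fin 24) = grp 24 N_E2 :=
  sims_level (gs := p_V30) rfl (by decide) N_1_fix N_1_dist (forall_lt_one N_1_step0)

theorem N_1_cardG : Nat.card (grp 24 N_G1) = 7920 :=
  card_of_level p_hn N_G1_ok (by decide : 22 < 24) N_1_lev N_card2 (m := 12) (by decide +kernel)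

theorem p_le64 : grp 24 N_E1 ≤ grp 24 N_G1 :=
  grp_le_of_memB p_hn p_hk N_G1_ok N_E1_ok (ws := [nat_lit 1, nat_lit 0xf0d0f090b070204, nat_lit 0x100d0f090b030b0104, nat_lit 3, nat_lit 5, nat_lit 7, nat_lit 9, nat_lit 11, nat_lit 13, nat_lit 15, nat_lit 17]) (by decide +kernel)

theorem p_le65 : grp 24 N_G1 ≤ grp 24 N_E1 :=
  grp_le_of_memB p_hn p_hk N_E1_ok N_G1_ok (ws := [nat_lit 1, nat_lit 7, nat_lit 9, nat_lit 11, nat_lit 13, nat_lit 15, nat_lit 17, nat_lit 19, nat_lit 21]) (by decide +kernel)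

theorem N_1_eq : grp 24 N_E1 = grp 24 N_G1 :=
  le_antisymm p_le64 p_le65

theorem N_card1 : Nat.card (grp 24 N_E1) = 7920 :=
  by rw [N_1_eq]; exact N_1_cardG

theorem N_stab1 : grp 24 N_E1 ⊓ MulAction.stabilizer (Equiv.Perm (Fin 24)) (⟨22, by decide⟩ : Fin 24) = grp 24 N_E2 :=
  by rw [N_1_eq]; exact N_1_lev

theorem N_leO1 : grp 24 N_E1 ≤ grp 24 EG :=
  N_1_eq.le.trans (grp_cons_le ((p_le28.trans (le_refl (grp 24 EG))) (p_le31 (toPerm_mem_grp (E := p_V30) (by simp [p_V30])))) N_leO2)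

theorem N_0_fix : grp 24 N_E1 ≤ MulAction.stabilizer (Equiv.Perm (Fin 24)) (⟨0, by decide⟩ : Fin 24) :=
  grp_le_stab N_E1_ok (by decide : 0 < 24) (by decide +kernel)

noncomputable def N_0_ts : List ℕ := [nat_lit 0, nat_lit 1, nat_lit 257]

noncomputable def N_0_ds : List ℕ := [nat_lit 0, nat_lit 22, nat_lit 9]

theorem N_0_dist : Dist 24 N_E1 N_G0 (⟨0, by decide⟩ : Fin 24) N_0_ts N_0_ds :=
  dist_of_distB (k := 2) p_hn N_E1_ok N_G0_ok (by decide : 0 < 24) (by decide +kernel)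

noncomputable def N_0_sl0 : SL := (SL.cons (nat_lit 1) (nat_lit 22) (Ch.cons (nat_lit 19) [nat_lit 7, nat_lit 9, nat_lit 11] (Ch.cons (nat_lit 3) [nat_lit 13, nat_lit 15] (Ch.cons (nat_lit 16) [nat_lit 17] (Ch.cons (nat_lit 4) [nat_lit 19, nat_lit 21] Ch.nil)))) [nat_lit 0x130214, nat_lit 0x11130d0f0701, nat_lit 0x11130e080f, nat_lit 0x140d070f, nat_lit 0x13120d070f0101, nat_lit 0x13110f, nat_lit 0x1411070f0214, nat_lit 3331] (SL.cons (nat_lit 257) (nat_lit 9) (Ch.cons (nat_lit 5) [nat_lit 0x120e070f0101] (Ch.cons (nat_lit 1) [nat_lit 0x130f0701] (Ch.cons (nat_lit 2) [nat_lit 0x110d0b, nat_lit 0x11080805] Ch.nil))) [nat_lit 0x13120e0b080101, nat_lit 0x13120f04, nat_lit 0x130d0f070f04, nat_lit 0x14080106] SL.nil))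

theorem N_0_sc0 : SCs 24 N_E1 N_G0 (⟨0, by decide⟩ : Fin 24) (SL.words N_0_sl0) :=
  scs_of_ok p_hn (det_lab p_hk ⊤) N_E1_ok N_G0_ok le_top le_top (by decide : 0 < 24) N_0_fix N_card1.le (by decide +kernel)

noncomputable def N_0_l : List ℕ := (appL (SL.words N_0_sl0) [])

theorem N_0_scs : SCs 24 N_E1 N_G0 (⟨0, by decide⟩ : Fin 24) N_0_l :=
  (SCs.append N_0_sc0 SCs.nil)

noncomputable def N_0_rl0_0 : RL := (RL.cons (nat_lit 0) (nat_lit 0) (nat_lit 0) (nat_lit 262) (nat_lit 1) (nat_lit 0x11130d0f0b080106) (RL.cons (nat_lit 1) (nat_lit 22) (nat_lit 0) (nat_lit 0) (nat_lit 0) (nat_lit 0) (RL.cons (nat_lit 1) (nat_lit 19) (nat_lit 1) (nat_lit 7) (nat_lit 2) (nat_lit 0x140d080f0202) (RL.cons (nat_lit 2) (nat_lit 9) (nat_lit 0) (nat_lit 0) (nat_lit 1) (nat_lit 0) RL.nil))))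

theorem N_0_good0_0 : GoodSet 24 N_E1 N_G0 (⟨0, by decide⟩ : Fin 24) N_0_ts (nat_lit 1) (RL.pts N_0_rl0_0) :=
  goodSet_of_ok p_hn (det_lab p_hk ⊤) N_E1_ok N_G0_ok le_top le_top (by decide : 0 < 24) (sepAt_lab p_hk _) (by decide +kernel)

theorem N_0_step0 : Step 24 N_E1 N_G0 N_0_ts (2 * 0 + 1) :=
  step_of_cover N_E1_ok N_0_dist (by decide +kernel) N_0_scs (by decide +kernel) N_0_good0_0 (kw := [nat_lit 7, nat_lit 9, nat_lit 11, nat_lit 13, nat_lit 15, nat_lit 17, nat_lit 19, nat_lit 21])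
    (conj_mem_of_scs N_E1_ok N_G0_ok (by decide : 0 < 24) N_0_scs (c := 0) (d := 22) (by decide +kernel)) (by decide +kernel)

theorem N_0_lev : grp 24 N_G0 ⊓ MulAction.stabilizer (Equiv.Perm (Fin 24)) (⟨0, by decide⟩ : Fin 24) = grp 24 N_E1 :=
  sims_level (gs := p_V23) rfl (by decide) N_0_fix N_0_dist (forall_lt_one N_0_step0)

theorem N_0_cardG : Nat.card (grp 24 N_G0) = 190080 :=
  card_of_level p_hn N_G0_ok (by decide : 0 < 24) N_0_lev N_card1 (m := 24) (by decide +kernel)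

theorem p_le66 : grp 24 N_E0 ≤ grp 24 N_G0 :=
  grp_le_of_memB p_hn p_hk N_G0_ok N_E0_ok (ws := [nat_lit 1, nat_lit 0x16130f110a0a06, nat_lit 0x15131511090303010109, nat_lit 3, nat_lit 5, nat_lit 7, nat_lit 9, nat_lit 11, nat_lit 13, nat_lit 15, nat_lit 17, nat_lit 19, nat_lit 21, nat_lit 23]) (by decide +kernel)

theorem p_le67 : grp 24 N_G0 ≤ grp 24 N_E0 :=
  grp_le_of_memB p_hn p_hk N_E0_ok N_G0_ok (ws := [nat_lit 1, nat_lit 7, nat_lit 9, nat_lit 11, nat_lit 13, nat_lit 15, nat_lit 17, nat_lit 19, nat_lit 21, nat_lit 23, nat_lit 25, nat_lit 27]) (by decide +kernel)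

theorem N_0_eq : grp 24 N_E0 = grp 24 N_G0 :=
  le_antisymm p_le66 p_le67

theorem N_card0 : Nat.card (grp 24 N_E0) = 190080 :=
  by rw [N_0_eq]; exact N_0_cardG

theorem N_stab0 : grp 24 N_E0 ⊓ MulAction.stabilizer (Equiv.Perm (Fin 24)) (⟨0, by decide⟩ : Fin 24) = grp 24 N_E1 :=
  by rw [N_0_eq]; exact N_0_lev

theorem N_leO0 : grp 24 N_E0 ≤ grp 24 EG :=
  N_0_eq.le.trans (grp_cons_le ((le_refl (grp 24 EG)) (p_le24 (toPerm_mem_grp (E := p_V23) (by simp [p_V23])))) N_leO1)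

theorem p_le68 : grp 24 EG ≤ grp 24 N_E0 :=
  grp_le_of_memB p_hn p_hk N_E0_ok EG_ok (ws := [nat_lit 1, nat_lit 3, nat_lit 5]) (by decide +kernel)

theorem N_eq : grp 24 EG = grp 24 N_E0 :=
  le_antisymm p_le68 N_leO0

theorem N_card : Nat.card (grp 24 EG) = 190080 :=
  by rw [N_eq]; exact N_card0

noncomputable def N_ch : Ch := (Ch.cons (nat_lit 0) [nat_lit 1, nat_lit 3, nat_lit 5] (Ch.cons (nat_lit 22) [nat_lit 7, nat_lit 9, nat_lit 11] (Ch.cons (nat_lit 19) [nat_lit 13, nat_lit 15, nat_lit 17] (Ch.cons (nat_lit 3) [nat_lit 19, nat_lit 21] (Ch.cons (nat_lit 16) [nat_lit 23] (Ch.cons (nat_lit 4) [nat_lit 25, nat_lit 27] Ch.nil))))))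

theorem N_exact : Ch.Exact 24 N_E0 N_ch (grp 24 N_E0) :=
  Ch.exact (k := 5) (L := (lab 24 5)) p_hn N_E0_ok (by decide +kernel) (wgrp_le_grp _ _ _) N_card0.le

theorem T_s0 : Stab 24 (grp 24 EG) [] N_E0 190080 :=
  Stab.root' N_E0_ok N_eq N_card

theorem G_le : (grp 24 E) ≤ (grp 24 EG) :=
  grp_mono (List.subset_cons_self p_g22 E)

theorem nrm : (grp 24 EG) ≤ Subgroup.normalizer ((grp 24 E) : Set (Equiv.Perm (Fin 24))) :=
  grp_cons_le (mem_normalizer_grp fun o ho => lb_le (conj_mem_of_normB p_hn p_hk lb_E_ok E_ok p_g22_ok (ws := [nat_lit 0x130401, nat_lit 0x130d160b0616030e]) (by decide +kernel) o ho)) Subgroup.le_normalizer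

theorem p_le69 : grp 24 Z ≤ grp 24 N_E0 :=
  grp_le_of_memB p_hn p_hk N_E0_ok Z_ok (ws := []) (by decide +kernel)

theorem Z_le : grp 24 Z ≤ (grp 24 EG) :=
  (p_le69.trans T_s0.le)

theorem Z_sym : Sym 24 (grp 24 EG) E Z 0 :=
  Sym.of_lab p_hn p_hk E_ok Z_ok Z_le (kT := 0) (by decide +kernel)

theorem T_s1 : Stab 24 (grp 24 EG) [nat_lit 0] p_V70 7920 :=
  Stab.step (k := 5) (L := (lab 24 5)) p_hn T_s0 p_V70_ok (grp_mono (List.subset_append_right [p_g22, p_g1, p_g2] _)) (c := (Ch.cons (nat_lit 22) [nat_lit 1, nat_lit 3, nat_lit 5] (Ch.cons (nat_lit 19) [nat_lit 7, nat_lit 9, nat_lit 11] (Ch.cons (nat_lit 3) [nat_lit 13, nat_lit 15] (Ch.cons (nat_lit 16) [nat_lit 17] (Ch.cons (nat_lit 4) [nat_lit 19, nat_lit 21] Ch.nil)))))) (by decide +kernel)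

theorem T_s2 : Stab 24 (grp 24 EG) [nat_lit 22, nat_lit 0] p_V71 660 :=
  Stab.step (k := 5) (L := (lab 24 5)) p_hn T_s1 p_V71_ok (grp_mono (List.subset_append_right [p_g29, p_g25, p_g26] _)) (c := (Ch.cons (nat_lit 19) [nat_lit 1, nat_lit 3, nat_lit 5] (Ch.cons (nat_lit 3) [nat_lit 7, nat_lit 9] (Ch.cons (nat_lit 16) [nat_lit 11] (Ch.cons (nat_lit 4) [nat_lit 13, nat_lit 15] Ch.nil))))) (by decide +kernel)

theorem T_s3 : Stab 24 (grp 24 EG) [nat_lit 19, nat_lit 22, nat_lit 0] p_V72 60 :=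
  Stab.step (k := 5) (L := (lab 24 5)) p_hn T_s2 p_V72_ok (grp_mono (List.subset_append_right [p_g36, p_g32, p_g33] _)) (c := (Ch.cons (nat_lit 3) [nat_lit 1, nat_lit 3] (Ch.cons (nat_lit 16) [nat_lit 5] (Ch.cons (nat_lit 4) [nat_lit 7, nat_lit 9] Ch.nil)))) (by decide +kernel)

theorem T_s4 : Stab 24 (grp 24 EG) [nat_lit 3, nat_lit 19, nat_lit 22, nat_lit 0] p_V73 12 :=
  Stab.step (k := 5) (L := (lab 24 5)) p_hn T_s3 p_V73_ok (grp_mono (List.subset_append_right [p_g43, p_g40] _)) (c := (Ch.cons (nat_lit 16) [nat_lit 1] (Ch.cons (nat_lit 4) [nat_lit 3, nat_lit 5] Ch.nil))) (by decide +kernel)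

theorem T_s5 : Stab 24 (grp 24 EG) [nat_lit 16, nat_lit 3, nat_lit 19, nat_lit 22, nat_lit 0] p_V74 3 :=
  Stab.step (k := 5) (L := (lab 24 5)) p_hn T_s4 p_V74_ok (grp_mono (List.subset_append_right [p_g47] _)) (c := (Ch.cons (nat_lit 4) [nat_lit 1, nat_lit 3] Ch.nil)) (by decide +kernel)

theorem T_s6 : Stab 24 (grp 24 EG) [nat_lit 4, nat_lit 16, nat_lit 3, nat_lit 19, nat_lit 22, nat_lit 0] p_V75 1 :=
  Stab.step (k := 5) (L := (lab 24 5)) p_hn T_s5 p_V75_ok (grp_mono (List.subset_append_right [p_g46, p_g39] _)) (c := Ch.nil) (by decide +kernel)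

theorem p_g22_T : Net.toPerm 24 p_g22 ∈ (grp 24 EG) :=
  T_s0.le (toPerm_mem_grp (E := N_E0) (List.Mem.head _))

theorem p_g1_T : Net.toPerm 24 p_g1 ∈ (grp 24 EG) :=
  T_s0.le (toPerm_mem_grp (E := N_E0) (List.Mem.tail _ (List.Mem.head _)))

theorem p_g2_T : Net.toPerm 24 p_g2 ∈ (grp 24 EG) :=
  T_s0.le (toPerm_mem_grp (E := N_E0) (List.Mem.tail _ (List.Mem.tail _ (List.Mem.head _))))

theorem p_g29_T : Net.toPerm 24 p_g29 ∈ (grp 24 EG) :=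
  T_s0.le (toPerm_mem_grp (E := N_E0) (List.Mem.tail _ (List.Mem.tail _ (List.Mem.tail _ (List.Mem.head _)))))

theorem p_g25_T : Net.toPerm 24 p_g25 ∈ (grp 24 EG) :=
  T_s0.le (toPerm_mem_grp (E := N_E0) (List.Mem.tail _ (List.Mem.tail _ (List.Mem.tail _ (List.Mem.tail _ (List.Mem.head _))))))

theorem p_g26_T : Net.toPerm 24 p_g26 ∈ (grp 24 EG) :=
  T_s0.le (toPerm_mem_grp (E := N_E0) (List.Mem.tail _ (List.Mem.tail _ (List.Mem.tail _ (List.Mem.tail _ (List.Mem.tail _ (List.Mem.head _)))))))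

theorem p_g36_T : Net.toPerm 24 p_g36 ∈ (grp 24 EG) :=
  T_s0.le (toPerm_mem_grp (E := N_E0) (List.Mem.tail _ (List.Mem.tail _ (List.Mem.tail _ (List.Mem.tail _ (List.Mem.tail _ (List.Mem.tail _ (List.Mem.head _))))))))

theorem p_g32_T : Net.toPerm 24 p_g32 ∈ (grp 24 EG) :=
  T_s0.le (toPerm_mem_grp (E := N_E0) (List.Mem.tail _ (List.Mem.tail _ (List.Mem.tail _ (List.Mem.tail _ (List.Mem.tail _ (List.Mem.tail _ (List.Mem.tail _ (List.Mem.head _)))))))))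

theorem p_g33_T : Net.toPerm 24 p_g33 ∈ (grp 24 EG) :=
  T_s0.le (toPerm_mem_grp (E := N_E0) (List.Mem.tail _ (List.Mem.tail _ (List.Mem.tail _ (List.Mem.tail _ (List.Mem.tail _ (List.Mem.tail _ (List.Mem.tail _ (List.Mem.tail _ (List.Mem.head _))))))))))

theorem p_g43_T : Net.toPerm 24 p_g43 ∈ (grp 24 EG) :=
  T_s0.le (toPerm_mem_grp (E := N_E0) (List.Mem.tail _ (List.Mem.tail _ (List.Mem.tail _ (List.Mem.tail _ (List.Mem.tail _ (List.Mem.tail _ (List.Mem.tail _ (List.Mem.tail _ (List.Mem.tail _ (List.Mem.head _)))))))))))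

theorem p_g40_T : Net.toPerm 24 p_g40 ∈ (grp 24 EG) :=
  T_s0.le (toPerm_mem_grp (E := N_E0) (List.Mem.tail _ (List.Mem.tail _ (List.Mem.tail _ (List.Mem.tail _ (List.Mem.tail _ (List.Mem.tail _ (List.Mem.tail _ (List.Mem.tail _ (List.Mem.tail _ (List.Mem.tail _ (List.Mem.head _))))))))))))

theorem p_g47_T : Net.toPerm 24 p_g47 ∈ (grp 24 EG) :=
  T_s0.le (toPerm_mem_grp (E := N_E0) (List.Mem.tail _ (List.Mem.tail _ (List.Mem.tail _ (List.Mem.tail _ (List.Mem.tail _ (List.Mem.tail _ (List.Mem.tail _ (List.Mem.tail _ (List.Mem.tail _ (List.Mem.tail _ (List.Mem.tail _ (List.Mem.head _)))))))))))))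

theorem p_g46_T : Net.toPerm 24 p_g46 ∈ (grp 24 EG) :=
  T_s0.le (toPerm_mem_grp (E := N_E0) (List.Mem.tail _ (List.Mem.tail _ (List.Mem.tail _ (List.Mem.tail _ (List.Mem.tail _ (List.Mem.tail _ (List.Mem.tail _ (List.Mem.tail _ (List.Mem.tail _ (List.Mem.tail _ (List.Mem.tail _ (List.Mem.tail _ (List.Mem.head _))))))))))))))

theorem p_g39_T : Net.toPerm 24 p_g39 ∈ (grp 24 EG) :=
  T_s0.le (toPerm_mem_grp (E := N_E0) (List.Mem.tail _ (List.Mem.tail _ (List.Mem.tail _ (List.Mem.tail _ (List.Mem.tail _ (List.Mem.tail _ (List.Mem.tail _ (List.Mem.tail _ (List.Mem.tail _ (List.Mem.tail _ (List.Mem.tail _ (List.Mem.tail _ (List.Mem.tail _ (List.Mem.head _)))))))))))))))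

noncomputable def T_s6_O : ℕ := (nat_lit 0x933332e0f83ec67318b26d92000001400000080000000008010000000010)

theorem T_s6_F : Frame 24 (grp 24 EG) 6 10 T_s6_O 1 1 :=
  IsBase.frame T_s6.isBase (by decide +kernel)

noncomputable def T_s1_O : ℕ := (nat_lit 0x5335e000001)

theorem T_s1_F : Frame 24 (grp 24 EG) 1 2 T_s1_O 0 1 :=
  Stab.frame p_hn T_s1 (by decide +kernel)

noncomputable def Z_cnt_L : List ℕ := [1, 2, T_s1_O, 0, 0, 6, 10, T_s6_O, 1, 0]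

theorem Z_cnt_P : Prob 24 5 (grp 24 EG) Z_cnt_EG E E Z Z_cnt_L 0 0 :=
  Sym.prob p_hn p_hk Z_sym Z_cnt_EG_ok (grp_cons_le p_g22_T (grp_cons_le p_g1_T (grp_cons_le p_g2_T (grp_cons_le p_g29_T (grp_cons_le p_g25_T (grp_cons_le p_g26_T (grp_cons_le p_g36_T (grp_cons_le p_g32_T (grp_cons_le p_g33_T (grp_cons_le p_g43_T (grp_cons_le p_g40_T (grp_cons_le p_g47_T (grp_cons_le p_g46_T (grp_cons_le p_g39_T (grp_nil_le _))))))))))))))) (Frames.cons T_s1_F (Frames.cons T_s6_F Frames.nil)) E_ok _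

noncomputable def Z_cnt_t : BT := (BT.fix (nat_lit 3) (BT.img (nat_lit 1) (nat_lit 0) (BT.img (nat_lit 3) (nat_lit 0) (BT.img (nat_lit 1) (nat_lit 1) (BT.dif (nat_lit 1) (nat_lit 0) (BT.img (nat_lit 1) (nat_lit 0) (BT.dif (nat_lit 2) (nat_lit 3) (BT.frm (nat_lit 0) (nat_lit 6) (nat_lit 6) [nat_lit 0] (BT.pln (nat_lit 0) (nat_lit 1) (BT.and (nat_lit 7) (nat_lit 0) (BT.and (nat_lit 6) (nat_lit 7) (BT.img (nat_lit 1) (nat_lit 0) (BT.and (nat_lit 11) (nat_lit 0) (BT.one (nat_lit 1) (nat_lit 0x19181411070706) (nat_lit 0x19181411070706) [nat_lit 7, nat_lit 8, nat_lit 3, nat_lit 0, nat_lit 2, nat_lit 6]))))))))))))))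

theorem Z_cnt : Cnt 24 (grp 24 EG) E E 0 0 0 0 1 :=
  BT.sound Z_cnt_P Known.nil (t := Z_cnt_t) (d := 0) (by decide +kernel)

theorem Z_ge : 1 ≤ Nat.card (grp 24 Z) :=
  Ch.le_card_grp (k := 5) (L := (lab 24 5)) p_hn Z_ok (c := Ch.nil) (by decide +kernel)

theorem Z_eq : (grp 24 EG) ⊓ Subgroup.centralizer (grp 24 E : Set (Equiv.Perm (Fin 24))) = grp 24 Z :=
  cent_grp_eq Z_sym Z_cnt Z_ge

theorem Z_card : Nat.card (grp 24 Z) = 1 :=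
  (Z_sym.mem_iff Z_cnt Z_ge).1

theorem amb : EvG.Amb (grp 24 E) (grp 24 EG) :=
  EvG.Amb.of_out G_le nrm (by rw [Z_eq]; exact Z_card) equiv S2061.result (by rw [card_G, N_card])

theorem p_le80 : grp 24 nt_c1_K ≤ grp 24 N_E0 :=
  grp_le_of_memB p_hn p_hk N_E0_ok nt_c1_K_ok (ws := [nat_lit 0x1918131512081a0108, nat_lit 0x191813150d1508, nat_lit 0x171913150e0808]) (by decide +kernel)

theorem nt_c1_le : grp 24 nt_c1_K ≤ (grp 24 EG) :=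
  (p_le80.trans T_s0.le)

theorem nt_c1_mem : Net.toPerm 24 p_g76 ∈ (grp 24 EG) :=
  nt_c1_le (mem_grp_of_memB p_hn p_hk nt_c1_K_ok p_g76_ok (w := (nat_lit 0x504010502)) (by decide +kernel))

theorem nt_c1_sym : Sym 24 (grp 24 EG) [p_g76] nt_c1_K 0 :=
  Sym.of_lab p_hn p_hk (okE_cons.2 ⟨p_g76_ok, okE_nil _⟩) nt_c1_K_ok nt_c1_le (kT := 0) (by decide +kernel)

theorem p_le86 : grp 24 p_V85 ≤ grp 24 p_V70 :=
  grp_le_of_memB p_hn p_hk p_V70_ok p_V85_ok (ws := [nat_lit 0x11130f0b080202, nat_lit 0x130d0f070f05, nat_lit 0x13120f070f05, nat_lit 0x1412070f010b]) (by decide +kernel)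

theorem T_s7 : Stab 24 (grp 24 EG) [nat_lit 4, nat_lit 0] p_V85 720 :=
  Stab.step (k := 5) (L := (lab 24 5)) p_hn T_s1 p_V85_ok p_le86 (c := (Ch.cons (nat_lit 16) [nat_lit 1] (Ch.cons (nat_lit 6) [nat_lit 3] (Ch.cons (nat_lit 14) [nat_lit 5, nat_lit 7] Ch.nil)))) (by decide +kernel)

theorem T_s8 : Stab 24 (grp 24 EG) [nat_lit 16, nat_lit 4, nat_lit 0] p_V87 72 :=
  Stab.step (k := 5) (L := (lab 24 5)) p_hn T_s7 p_V87_ok (grp_mono (List.subset_append_right [p_g81] _)) (c := (Ch.cons (nat_lit 6) [nat_lit 1] (Ch.cons (nat_lit 14) [nat_lit 3, nat_lit 5] Ch.nil))) (by decide +kernel)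

theorem T_s9 : Stab 24 (grp 24 EG) [nat_lit 6, nat_lit 16, nat_lit 4, nat_lit 0] p_V88 8 :=
  Stab.step (k := 5) (L := (lab 24 5)) p_hn T_s8 p_V88_ok (grp_mono (List.subset_append_right [p_g82] _)) (c := (Ch.cons (nat_lit 14) [nat_lit 1, nat_lit 3] Ch.nil)) (by decide +kernel)

theorem T_s10 : Stab 24 (grp 24 EG) [nat_lit 14, nat_lit 6, nat_lit 16, nat_lit 4, nat_lit 0] p_V89 1 :=
  Stab.step (k := 5) (L := (lab 24 5)) p_hn T_s9 p_V89_ok (grp_mono (List.subset_append_right [p_g83, p_g84] _)) (c := Ch.nil) (by decide +kernel)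

theorem p_g82_T : Net.toPerm 24 p_g82 ∈ (grp 24 EG) :=
  T_s8.le (toPerm_mem_grp (E := p_V87) (List.Mem.head _))

theorem p_g83_T : Net.toPerm 24 p_g83 ∈ (grp 24 EG) :=
  T_s8.le (toPerm_mem_grp (E := p_V87) (List.Mem.tail _ (List.Mem.head _)))

theorem p_g84_T : Net.toPerm 24 p_g84 ∈ (grp 24 EG) :=
  T_s8.le (toPerm_mem_grp (E := p_V87) (List.Mem.tail _ (List.Mem.tail _ (List.Mem.head _))))

theorem p_g81_T : Net.toPerm 24 p_g81 ∈ (grp 24 EG) :=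
  T_s7.le (toPerm_mem_grp (E := p_V85) (List.Mem.head _))

noncomputable def T_s10_O : ℕ := (nat_lit 0x933332e0f83ec67318b26d92000001000010010000000040004000)

theorem T_s10_F : Frame 24 (grp 24 EG) 5 9 T_s10_O 1 1 :=
  IsBase.frame T_s10.isBase (by decide +kernel)

noncomputable def T_s9_O : ℕ := (nat_lit 0x520800a8c4a0000001000010010000000040)

theorem T_s9_F : Frame 24 (grp 24 EG) 4 6 T_s9_O 0 1 :=
  Stab.frame p_hn T_s9 (by decide +kernel)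

noncomputable def T_s7_O : ℕ := (nat_lit 0x5334e000001000010)

theorem T_s7_F : Frame 24 (grp 24 EG) 2 3 T_s7_O 0 1 :=
  Stab.frame p_hn T_s7 (by decide +kernel)

noncomputable def nt_c1_cnt_L : List ℕ := [2, 3, T_s7_O, 0, 0, 4, 6, T_s9_O, 0, 0, 5, 9, T_s10_O, 1, 0]

theorem nt_c1_cnt_P : Prob 24 5 (grp 24 EG) nt_c1_cnt_EG [p_g76] [p_g76] nt_c1_K nt_c1_cnt_L 0 0 :=
  Sym.prob p_hn p_hk nt_c1_sym nt_c1_cnt_EG_ok (grp_cons_le p_g29_T (grp_cons_le p_g25_T (grp_cons_le p_g26_T (grp_cons_le p_g36_T (grp_cons_le p_g32_T (grp_cons_le p_g33_T (grp_cons_le p_g43_T (grp_cons_le p_g40_T (grp_cons_le p_g47_T (grp_cons_le p_g46_T (grp_cons_le p_g39_T (grp_cons_le p_g22_T (grp_cons_le p_g1_T (grp_cons_le p_g2_T (grp_cons_le p_g82_T (grp_cons_le p_g83_T (grp_cons_le p_g84_T (grp_cons_le p_g81_T (grp_nil_le _))))))))))))))))))) (Frames.cons T_s7_F (Frames.cons T_s9_F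 (Frames.cons T_s10_F Frames.nil))) (okE_cons.2 ⟨p_g76_ok, okE_nil _⟩) _

noncomputable def nt_c1_cnt_t : BT := (BT.br (nat_lit 2) (nat_lit 0) [nat_lit 1, nat_lit 3] (BT.kid (nat_lit 0) (nat_lit 20) (BT.img (nat_lit 1) (nat_lit 0) (BT.frm (nat_lit 0) (nat_lit 19) (nat_lit 19) [nat_lit 0, nat_lit 1] (BT.pln (nat_lit 0) (nat_lit 2) (BT.br (nat_lit 0) (nat_lit 12) [nat_lit 3] (BT.dead (nat_lit 3) (BT.dif (nat_lit 7) (nat_lit 1) (BT.img (nat_lit 1) (nat_lit 1) (BT.frm (nat_lit 1) (nat_lit 0x242113) (nat_lit 0x1d1d232313) [nat_lit 0, nat_lit 2, nat_lit 5, nat_lit 6] (BT.pln (nat_lit 0) (nat_lit 4) (BT.and (nat_lit 3) (nat_lit 0) (BT.br (nat_lit 0) (nat_lit 20) [nat_lit 773] (BT.dead (nat_lit 14) (BT.frm (nat_lit 2) (nat_lit 0x22242113) (nat_lit 0x1f221d1d232313) [nat_lit 0, nat_lit 4, nat_lit 6, nat_lit 9, nat_lit 10] (BT.pln (nat_lit 0) (nat_lit 6) (BT.img (nat_lit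 1) (nat_lit 2) (BT.and (nat_lit 1) (nat_lit 0) (BT.cnt (nat_lit 0)))))) (BT.dead (nat_lit 5) (BT.frm (nat_lit 2) (nat_lit 0x22242113) (nat_lit 0x221d1d232313) [nat_lit 0, nat_lit 4, nat_lit 6, nat_lit 9, nat_lit 10] (BT.pln (nat_lit 0) (nat_lit 5) (BT.img (nat_lit 1) (nat_lit 2) (BT.and (nat_lit 1) (nat_lit 0) (BT.cnt (nat_lit 0)))))) BT.nil)))))))) (BT.kid (nat_lit 12) (nat_lit 4) (BT.dif (nat_lit 7) (nat_lit 1) (BT.img (nat_lit 1) (nat_lit 1) (BT.frm (nat_lit 1) (nat_lit 0x242113) (nat_lit 0x242113) [nat_lit 0, nat_lit 2, nat_lit 5, nat_lit 6] (BT.pln (nat_lit 0) (nat_lit 4) (BT.and (nat_lit 3) (nat_lit 0) (BT.br (nat_lit 0) (nat_lit 20) [nat_lit 5] (BT.dead (nat_lit 22) (BT.frm (nat_lit 2) (nat_lit 0x22242113) (nat_lit 0x20242113) [nat_lit 0, nat_lit 4, nat_lit 6, nat_lit 9, nat_lit 10] (BT.pln (nat_lit 0) (nat_lit 5) (BT.img (nat_lit 1) (nat_lit 2)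 (BT.and (nat_lit 1) (nat_lit 0) (BT.cnt (nat_lit 0)))))) (BT.kid (nat_lit 20) (nat_lit 1) (BT.one (nat_lit 2) (nat_lit 0x22242113) (nat_lit 0x22242113) [nat_lit 0, nat_lit 4, nat_lit 6, nat_lit 9, nat_lit 10]) BT.nil)))))))) BT.nil)))))) BT.nil))

theorem nt_c1_cnt : Cnt 24 (grp 24 EG) [p_g76] [p_g76] 0 0 0 0 480 :=
  BT.sound nt_c1_cnt_P Known.nil (t := nt_c1_cnt_t) (d := 0) (by decide +kernel)

theorem nt_c1_ge : 480 ≤ Nat.card (grp 24 nt_c1_K) :=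
  Ch.le_card_grp (k := 5) (L := (lab 24 5)) p_hn nt_c1_K_ok (c := (Ch.cons (nat_lit 0) [nat_lit 1] (Ch.cons (nat_lit 12) [nat_lit 3] (Ch.cons (nat_lit 20) [nat_lit 5] Ch.nil)))) (by decide +kernel)

theorem nt_c1_eq : (grp 24 EG) ⊓ Subgroup.centralizer {Net.toPerm 24 p_g76} = grp 24 nt_c1_K :=
  cent_eq nt_c1_sym nt_c1_cnt nt_c1_ge

theorem nt_c1_card : Nat.card ↥((grp 24 EG) ⊓ Subgroup.centralizer {Net.toPerm 24 p_g76}) = 480 :=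
  card_cent nt_c1_sym nt_c1_cnt nt_c1_ge

theorem nt_c1_ord : orderOf (Net.toPerm 24 p_g76) = 2 :=
  orderOf_net p_hn p_hk p_g76_ok (by decide) (ps := [2]) (by set_option linter.unusedSimpArgs false in simp [Nat.primeFactorsList_ofNat]) (by decide +kernel)

theorem p_le94 : grp 24 nt_c2_K ≤ grp 24 N_E0 :=
  grp_le_of_memB p_hn p_hk N_E0_ok nt_c2_K_ok (ws := [nat_lit 0x19170e150c0104, nat_lit 0x1a1719150d1908, nat_lit 0x1a18140d0d08]) (by decide +kernel)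

theorem nt_c2_le : grp 24 nt_c2_K ≤ (grp 24 EG) :=
  (p_le94.trans T_s0.le)

theorem nt_c2_mem : Net.toPerm 24 p_g90 ∈ (grp 24 EG) :=
  nt_c2_le (mem_grp_of_memB p_hn p_hk nt_c2_K_ok p_g90_ok (w := (nat_lit 0x6010501)) (by decide +kernel))

theorem nt_c2_sym : Sym 24 (grp 24 EG) [p_g90] nt_c2_K 0 :=
  Sym.of_lab p_hn p_hk (okE_cons.2 ⟨p_g90_ok, okE_nil _⟩) nt_c2_K_ok nt_c2_le (kT := 0) (by decide +kernel)

noncomputable def nt_c2_cnt_L : List ℕ := [2, 3, T_s7_O, 0, 0, 4, 6, T_s9_O, 0, 0, 5, 9, T_s10_O, 1, 0]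

theorem nt_c2_cnt_P : Prob 24 5 (grp 24 EG) nt_c2_cnt_EG [p_g90] [p_g90] nt_c2_K nt_c2_cnt_L 0 0 :=
  Sym.prob p_hn p_hk nt_c2_sym nt_c2_cnt_EG_ok (grp_cons_le p_g29_T (grp_cons_le p_g25_T (grp_cons_le p_g26_T (grp_cons_le p_g36_T (grp_cons_le p_g32_T (grp_cons_le p_g33_T (grp_cons_le p_g43_T (grp_cons_le p_g40_T (grp_cons_le p_g47_T (grp_cons_le p_g46_T (grp_cons_le p_g39_T (grp_cons_le p_g22_T (grp_cons_le p_g1_T (grp_cons_le p_g2_T (grp_cons_le p_g82_T (grp_cons_le p_g83_T (grp_cons_le p_g84_T (grp_cons_le p_g81_T (grp_nil_le _))))))))))))))))))) (Frames.cons T_s7_F (Frames.cons T_s9_F (Frames.cons T_s10_F Frames.nil))) (okE_cons.2 ⟨p_g90_ok, okE_nil _⟩) _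

noncomputable def nt_c2_cnt_t : BT := (BT.fix (nat_lit 1) (BT.dif (nat_lit 3) (nat_lit 0) (BT.br (nat_lit 0) (nat_lit 0) [nat_lit 1, nat_lit 3, nat_lit 5] (BT.kid (nat_lit 0) (nat_lit 24) (BT.img (nat_lit 1) (nat_lit 0) (BT.frm (nat_lit 0) (nat_lit 257) (nat_lit 257) [nat_lit 0, nat_lit 1] (BT.pln (nat_lit 0) (nat_lit 2) (BT.and (nat_lit 4) (nat_lit 0) (BT.br (nat_lit 0) (nat_lit 12) [nat_lit 3, nat_lit 5] (BT.kid (nat_lit 12) (nat_lit 4) (BT.dif (nat_lit 10) (nat_lit 2) (BT.dif (nat_lit 0) (nat_lit 8) (BT.img (nat_lit 1) (nat_lit 2) (BT.frm (nat_lit 1) (nat_lit 0x1e1f231e0101) (nat_lit 0x1e1f231e0101) [nat_lit 0, nat_lit 3, nat_lit 7, nat_lit 8] (BT.pln (nat_lit 0) (nat_lit 4) (BT.and (nat_lit 3) (nat_lit 0) (BT.br (nat_lit 0) (nat_lit 7) [nat_lit 5] (BT.kid (nat_lit 7) (nat_lit 1) (BT.one (nat_lit 2) (nat_lit 0x211e1f231e0101) (nat_lit 0x211e1f231e0101)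 [nat_lit 0, nat_lit 4, nat_lit 7, nat_lit 11, nat_lit 12]) BT.nil)))))))) BT.nil)))))) BT.nil))))

theorem nt_c2_cnt : Cnt 24 (grp 24 EG) [p_g90] [p_g90] 0 0 0 0 384 :=
  BT.sound nt_c2_cnt_P Known.nil (t := nt_c2_cnt_t) (d := 0) (by decide +kernel)

theorem nt_c2_ge : 384 ≤ Nat.card (grp 24 nt_c2_K) :=
  Ch.le_card_grp (k := 5) (L := (lab 24 5)) p_hn nt_c2_K_ok (c := (Ch.cons (nat_lit 0) [nat_lit 1] (Ch.cons (nat_lit 12) [nat_lit 3] (Ch.cons (nat_lit 7) [nat_lit 5] Ch.nil)))) (by decide +kernel)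

theorem nt_c2_eq : (grp 24 EG) ⊓ Subgroup.centralizer {Net.toPerm 24 p_g90} = grp 24 nt_c2_K :=
  cent_eq nt_c2_sym nt_c2_cnt nt_c2_ge

theorem nt_c2_card : Nat.card ↥((grp 24 EG) ⊓ Subgroup.centralizer {Net.toPerm 24 p_g90}) = 384 :=
  card_cent nt_c2_sym nt_c2_cnt nt_c2_ge

theorem nt_c2_ord : orderOf (Net.toPerm 24 p_g90) = 2 :=
  orderOf_net p_hn p_hk p_g90_ok (by decide) (ps := [2]) (by set_option linter.unusedSimpArgs false in simp [Nat.primeFactorsList_ofNat]) (by decide +kernel)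

theorem p_le100 : grp 24 nt_c3_K ≤ grp 24 N_E0 :=
  grp_le_of_memB p_hn p_hk N_E0_ok nt_c3_K_ok (ws := [nat_lit 0x181512081a02, nat_lit 0x1a13150e15081a0204, nat_lit 0x18150d0707, nat_lit 0x17191315110e]) (by decide +kernel)

theorem nt_c3_le : grp 24 nt_c3_K ≤ (grp 24 EG) :=
  (p_le100.trans T_s0.le)

theorem nt_c3_mem : Net.toPerm 24 p_g95 ∈ (grp 24 EG) :=
  nt_c3_le (mem_grp_of_memB p_hn p_hk nt_c3_K_ok p_g95_ok (w := (nat_lit 0x70501010502)) (by decide +kernel))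

theorem nt_c3_sym : Sym 24 (grp 24 EG) [p_g95] nt_c3_K 0 :=
  Sym.of_lab p_hn p_hk (okE_cons.2 ⟨p_g95_ok, okE_nil _⟩) nt_c3_K_ok nt_c3_le (kT := 0) (by decide +kernel)

theorem p_le104 : grp 24 p_V103 ≤ grp 24 p_V72 :=
  grp_le_of_memB p_hn p_hk p_V72_ok p_V103_ok (ws := [nat_lit 0x8050103, nat_lit 460039]) (by decide +kernel)

theorem T_s11 : Stab 24 (grp 24 EG) [nat_lit 6, nat_lit 19, nat_lit 22, nat_lit 0] p_V103 10 :=
  Stab.step (k := 5) (L := (lab 24 5)) p_hn T_s3 p_V103_ok p_le104 (c := (Ch.cons (nat_lit 21) [nat_lit 1] (Ch.cons (nat_lit 4) [nat_lit 3] Ch.nil))) (by decide +kernel)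

theorem T_s12 : Stab 24 (grp 24 EG) [nat_lit 21, nat_lit 6, nat_lit 19, nat_lit 22, nat_lit 0] p_V105 2 :=
  Stab.step (k := 5) (L := (lab 24 5)) p_hn T_s11 p_V105_ok (grp_mono (List.subset_append_right [p_g101] _)) (c := (Ch.cons (nat_lit 4) [nat_lit 1] Ch.nil)) (by decide +kernel)

theorem T_s13 : Stab 24 (grp 24 EG) [nat_lit 4, nat_lit 21, nat_lit 6, nat_lit 19, nat_lit 22, nat_lit 0] p_V106 1 :=
  Stab.step (k := 5) (L := (lab 24 5)) p_hn T_s12 p_V106_ok (grp_mono (List.subset_append_right [p_g102] _)) (c := Ch.nil) (by decide +kernel)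

theorem p_g101_T : Net.toPerm 24 p_g101 ∈ (grp 24 EG) :=
  T_s11.le (toPerm_mem_grp (E := p_V103) (List.Mem.head _))

theorem p_g102_T : Net.toPerm 24 p_g102 ∈ (grp 24 EG) :=
  T_s11.le (toPerm_mem_grp (E := p_V103) (List.Mem.tail _ (List.Mem.head _)))

noncomputable def T_s13_O : ℕ := (nat_lit 0x933332e0f83ec67318b26d92000001400000080000000040200000000010)

theorem T_s13_F : Frame 24 (grp 24 EG) 6 10 T_s13_O 1 1 :=
  IsBase.frame T_s13.isBase (by decide +kernel)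

noncomputable def T_s12_O : ℕ := (nat_lit 0x1000000001000000080240000088008004000102000000a0001010040004000001400000080000000040200000)

theorem T_s12_F : Frame 24 (grp 24 EG) 5 15 T_s12_O 0 1 :=
  Stab.frame p_hn T_s12 (by decide +kernel)

noncomputable def T_s11_O : ℕ := (nat_lit 0x9244002088a0011218000001400000080000000040)

theorem T_s11_F : Frame 24 (grp 24 EG) 4 7 T_s11_O 0 1 :=
  Stab.frame p_hn T_s11 (by decide +kernel)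

noncomputable def T_s3_O : ℕ := (nat_lit 0x11218042146000001400000080000)

theorem T_s3_F : Frame 24 (grp 24 EG) 3 5 T_s3_O 0 1 :=
  Stab.frame p_hn T_s3 (by decide +kernel)

noncomputable def T_s2_O : ℕ := (nat_lit 0xbacca0000001400000)

theorem T_s2_F : Frame 24 (grp 24 EG) 2 3 T_s2_O 0 1 :=
  Stab.frame p_hn T_s2 (by decide +kernel)

noncomputable def nt_c3_cnt_L : List ℕ := [2, 3, T_s2_O, 0, 0, 3, 5, T_s3_O, 0, 0, 4, 7, T_s11_O, 0, 0, 5, 15, T_s12_O, 0, 0, 6, 10, T_s13_O, 1, 0]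

theorem nt_c3_cnt_P : Prob 24 5 (grp 24 EG) nt_c3_cnt_EG [p_g95] [p_g95] nt_c3_K nt_c3_cnt_L 0 0 :=
  Sym.prob p_hn p_hk nt_c3_sym nt_c3_cnt_EG_ok (grp_cons_le p_g29_T (grp_cons_le p_g25_T (grp_cons_le p_g26_T (grp_cons_le p_g36_T (grp_cons_le p_g32_T (grp_cons_le p_g33_T (grp_cons_le p_g43_T (grp_cons_le p_g40_T (grp_cons_le p_g47_T (grp_cons_le p_g46_T (grp_cons_le p_g39_T (grp_cons_le p_g22_T (grp_cons_le p_g1_T (grp_cons_le p_g2_T (grp_cons_le p_g101_T (grp_cons_le p_g102_T (grp_nil_le _))))))))))))))))) (Frames.cons T_s2_F (Frames.cons T_s3_F (Frames.cons T_s11_F (Frames.cons T_s12_F (Frames.cons T_s13_F Frames.nil))))) (okE_cons.2 ⟨p_g95_ok, okE_nil _⟩) _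

noncomputable def nt_c3_cnt_t : BT := (BT.br (nat_lit 2) (nat_lit 0) [nat_lit 1, nat_lit 3] (BT.kid (nat_lit 0) (nat_lit 10) (BT.img (nat_lit 1) (nat_lit 0) (BT.frm (nat_lit 0) (nat_lit 6) (nat_lit 6) [nat_lit 0, nat_lit 1] (BT.pln (nat_lit 0) (nat_lit 2) (BT.br (nat_lit 0) (nat_lit 22) [nat_lit 5] (BT.dead (nat_lit 11) (BT.img (nat_lit 1) (nat_lit 0) (BT.frm (nat_lit 2) (nat_lit 0x110806) (nat_lit 3078) [nat_lit 0, nat_lit 1, nat_lit 4, nat_lit 5] (BT.pln (nat_lit 0) (nat_lit 5) (BT.and (nat_lit 4) (nat_lit 0) (BT.br (nat_lit 0) (nat_lit 10) [nat_lit 5] (BT.dead (nat_lit 22) (BT.frm (nat_lit 3) (nat_lit 0x1e110806) (nat_lit 0x1e0c06) [nat_lit 0, nat_lit 4, nat_lit 5, nat_lit 8, nat_lit 9] (BT.pln (nat_lit 0) (nat_lit 6) (BT.img (nat_lit 1) (nat_lit 2) (BT.and (nat_lit 1) (nat_lit 0) (BT.cnt (nat_lit 0)))))) BT.nil)))))) (BT.dead (nat_lit 21) (BT.frm (nat_lit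 1) (nat_lit 2054) (nat_lit 463622) [nat_lit 0, nat_lit 3, nat_lit 4] (BT.pln (nat_lit 0) (nat_lit 3) (BT.img (nat_lit 1) (nat_lit 2) (BT.and (nat_lit 1) (nat_lit 0) (BT.cnt (nat_lit 0)))))) (BT.kid (nat_lit 22) (nat_lit 2) (BT.img (nat_lit 1) (nat_lit 0) (BT.frm (nat_lit 2) (nat_lit 0x110806) (nat_lit 0x110806) [nat_lit 0, nat_lit 1, nat_lit 4, nat_lit 5] (BT.pln (nat_lit 0) (nat_lit 5) (BT.and (nat_lit 4) (nat_lit 0) (BT.br (nat_lit 0) (nat_lit 10) [nat_lit 7] (BT.dead (nat_lit 19) (BT.frm (nat_lit 3) (nat_lit 0x1e110806) (nat_lit 0x1d1d110806) [nat_lit 0, nat_lit 4, nat_lit 5, nat_lit 8, nat_lit 9] (BT.pln (nat_lit 0) (nat_lit 6) (BT.img (nat_lit 1) (nat_lit 2) (BT.and (nat_lit 1) (nat_lit 0) (BT.cnt (nat_lit 0)))))) (BT.dead (nat_lit 11) (BT.frm (nat_lit 3) (nat_lit 0x1e110806) (nat_lit 0x110806) [nat_lit 0, nat_lit 4, nat_lit 5, nat_lit 8, nat_lit 9]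 (BT.pln (nat_lit 0) (nat_lit 6) (BT.img (nat_lit 1) (nat_lit 2) (BT.and (nat_lit 1) (nat_lit 0) (BT.cnt (nat_lit 0)))))) (BT.kid (nat_lit 10) (nat_lit 1) (BT.img (nat_lit 1) (nat_lit 0) (BT.one (nat_lit 4) (nat_lit 0x1e110806) (nat_lit 0x1e110806) [nat_lit 0, nat_lit 1, nat_lit 5, nat_lit 6, nat_lit 9, nat_lit 10])) BT.nil)))))))) BT.nil))))))) BT.nil))

theorem nt_c3_cnt : Cnt 24 (grp 24 EG) [p_g95] [p_g95] 0 0 0 0 240 :=
  BT.sound nt_c3_cnt_P Known.nil (t := nt_c3_cnt_t) (d := 0) (by decide +kernel)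

theorem nt_c3_ge : 240 ≤ Nat.card (grp 24 nt_c3_K) :=
  Ch.le_card_grp (k := 5) (L := (lab 24 5)) p_hn nt_c3_K_ok (c := (Ch.cons (nat_lit 0) [nat_lit 1, nat_lit 3] (Ch.cons (nat_lit 22) [nat_lit 5] (Ch.cons (nat_lit 10) [nat_lit 7] Ch.nil)))) (by decide +kernel)

theorem nt_c3_eq : (grp 24 EG) ⊓ Subgroup.centralizer {Net.toPerm 24 p_g95} = grp 24 nt_c3_K :=
  cent_eq nt_c3_sym nt_c3_cnt nt_c3_ge

theorem nt_c3_card : Nat.card ↥((grp 24 EG) ⊓ Subgroup.centralizer {Net.toPerm 24 p_g95}) = 240 :=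
  card_cent nt_c3_sym nt_c3_cnt nt_c3_ge

theorem nt_c3_ord : orderOf (Net.toPerm 24 p_g95) = 2 :=
  orderOf_net p_hn p_hk p_g95_ok (by decide) (ps := [2]) (by set_option linter.unusedSimpArgs false in simp [Nat.primeFactorsList_ofNat]) (by decide +kernel)

theorem p_le111 : grp 24 nt_c4_K ≤ grp 24 N_E0 :=
  grp_le_of_memB p_hn p_hk N_E0_ok nt_c4_K_ok (ws := [nat_lit 0x1918140d0c050a, nat_lit 0x1a17131511080106, nat_lit 0x1a180e0808, nat_lit 0x1a18120b]) (by decide +kernel)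

theorem nt_c4_le : grp 24 nt_c4_K ≤ (grp 24 EG) :=
  (p_le111.trans T_s0.le)

theorem nt_c4_mem : Net.toPerm 24 p_g107 ∈ (grp 24 EG) :=
  nt_c4_le (toPerm_mem_grp (E := nt_c4_K) (List.Mem.head _))

theorem nt_c4_sym : Sym 24 (grp 24 EG) [p_g107] nt_c4_K 0 :=
  Sym.of_lab p_hn p_hk (okE_cons.2 ⟨p_g107_ok, okE_nil _⟩) nt_c4_K_ok nt_c4_le (kT := 0) (by decide +kernel)

theorem p_le113 : grp 24 p_V112 ≤ grp 24 p_V88 :=
  grp_le_of_memB p_hn p_hk p_V88_ok p_V112_ok (ws := []) (by decide +kernel)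

theorem T_s14 : Stab 24 (grp 24 EG) [nat_lit 8, nat_lit 6, nat_lit 16, nat_lit 4, nat_lit 0] p_V112 1 :=
  Stab.step (k := 5) (L := (lab 24 5)) p_hn T_s9 p_V112_ok p_le113 (c := Ch.nil) (by decide +kernel)

noncomputable def T_s14_O : ℕ := (nat_lit 0x933332e0f83ec67318b26d92000001000010010000000040000100)

theorem T_s14_F : Frame 24 (grp 24 EG) 5 9 T_s14_O 1 1 :=
  IsBase.frame T_s14.isBase (by decide +kernel)

noncomputable def T_s8_O : ℕ := (nat_lit 0x4334e000001000010010000)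

theorem T_s8_F : Frame 24 (grp 24 EG) 3 4 T_s8_O 0 1 :=
  Stab.frame p_hn T_s8 (by decide +kernel)

noncomputable def nt_c4_cnt_L : List ℕ := [1, 2, T_s1_O, 0, 0, 3, 4, T_s8_O, 0, 0, 5, 9, T_s14_O, 1, 0]

theorem nt_c4_cnt_P : Prob 24 5 (grp 24 EG) nt_c4_cnt_EG [p_g107] [p_g107] nt_c4_K nt_c4_cnt_L 0 0 :=
  Sym.prob p_hn p_hk nt_c4_sym nt_c4_cnt_EG_ok (grp_cons_le p_g22_T (grp_cons_le p_g1_T (grp_cons_le p_g2_T (grp_cons_le p_g29_T (grp_cons_le p_g25_T (grp_cons_le p_g26_T (grp_cons_le p_g36_T (grp_cons_le p_g32_T (grp_cons_le p_g33_T (grp_cons_le p_g43_T (grp_cons_le p_g40_T (grp_cons_le p_g47_T (grp_cons_le p_g46_T (grp_cons_le p_g39_T (grp_cons_le p_g81_T (grp_cons_le p_g82_T (grp_cons_le p_g83_T (grp_cons_le p_g84_T (grp_nil_le _))))))))))))))))))) (Frames.cons T_s1_F (Frames.cons T_s8_F (Frames.cons T_s14_F Frames.nil))) (okE_cons.2 ⟨p_g107_ok, okE_nil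 _⟩) _

noncomputable def nt_c4_cnt_t : BT := (BT.fix (nat_lit 1) (BT.dif (nat_lit 3) (nat_lit 0) (BT.br (nat_lit 0) (nat_lit 0) [nat_lit 3, nat_lit 5] (BT.kid (nat_lit 0) (nat_lit 6) (BT.frm (nat_lit 0) (nat_lit 0) (nat_lit 0) [nat_lit 0] (BT.pln (nat_lit 0) (nat_lit 1) (BT.dif (nat_lit 0) (nat_lit 4) (BT.img (nat_lit 1) (nat_lit 3) (BT.img (nat_lit 1) (nat_lit 0) (BT.frm (nat_lit 1) (nat_lit 0x1e2309) (nat_lit 0x1e2309) [nat_lit 0, nat_lit 1, nat_lit 5] (BT.pln (nat_lit 0) (nat_lit 3) (BT.and (nat_lit 4) (nat_lit 0) (BT.br (nat_lit 0) (nat_lit 12) [nat_lit 5, nat_lit 7] (BT.kid (nat_lit 12) (nat_lit 1) (BT.img (nat_lit 1) (nat_lit 0) (BT.one (nat_lit 2) (nat_lit 0x231f1f1e2309) (nat_lit 0x231f1f1e2309) [nat_lit 0, nat_lit 1, nat_lit 5, nat_lit 6, nat_lit 10])) BT.nil)))))))))) BT.nil))))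

theorem nt_c4_cnt : Cnt 24 (grp 24 EG) [p_g107] [p_g107] 0 0 0 0 108 :=
  BT.sound nt_c4_cnt_P Known.nil (t := nt_c4_cnt_t) (d := 0) (by decide +kernel)

theorem nt_c4_ge : 108 ≤ Nat.card (grp 24 nt_c4_K) :=
  Ch.le_card_grp (k := 5) (L := (lab 24 5)) p_hn nt_c4_K_ok (c := (Ch.cons (nat_lit 0) [nat_lit 1, nat_lit 3] (Ch.cons (nat_lit 12) [nat_lit 5, nat_lit 7] Ch.nil))) (by decide +kernel)

theorem nt_c4_eq : (grp 24 EG) ⊓ Subgroup.centralizer {Net.toPerm 24 p_g107} = grp 24 nt_c4_K :=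
  cent_eq nt_c4_sym nt_c4_cnt nt_c4_ge

theorem nt_c4_card : Nat.card ↥((grp 24 EG) ⊓ Subgroup.centralizer {Net.toPerm 24 p_g107}) = 108 :=
  card_cent nt_c4_sym nt_c4_cnt nt_c4_ge

theorem nt_c4_ord : orderOf (Net.toPerm 24 p_g107) = 3 :=
  orderOf_net p_hn p_hk p_g107_ok (by decide) (ps := [3]) (by set_option linter.unusedSimpArgs false in simp [Nat.primeFactorsList_ofNat]) (by decide +kernel)

theorem p_le117 : grp 24 nt_c5_K ≤ grp 24 N_E0 :=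
  grp_le_of_memB p_hn p_hk N_E0_ok nt_c5_K_ok (ws := [nat_lit 0x1a1719140e0a0202, nat_lit 0x1917110b0105, nat_lit 0x19140e070c]) (by decide +kernel)

theorem nt_c5_le : grp 24 nt_c5_K ≤ (grp 24 EG) :=
  (p_le117.trans T_s0.le)

theorem nt_c5_mem : Net.toPerm 24 p_g114 ∈ (grp 24 EG) :=
  nt_c5_le (toPerm_mem_grp (E := nt_c5_K) (List.Mem.head _))

theorem nt_c5_sym : Sym 24 (grp 24 EG) [p_g114] nt_c5_K 0 :=
  Sym.of_lab p_hn p_hk (okE_cons.2 ⟨p_g114_ok, okE_nil _⟩) nt_c5_K_ok nt_c5_le (kT := 0) (by decide +kernel)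

noncomputable def nt_c5_cnt_L : List ℕ := [1, 2, T_s1_O, 0, 0, 3, 4, T_s8_O, 0, 0, 4, 6, T_s9_O, 0, 0, 5, 9, T_s10_O, 1, 0]

theorem nt_c5_cnt_P : Prob 24 5 (grp 24 EG) nt_c5_cnt_EG [p_g114] [p_g114] nt_c5_K nt_c5_cnt_L 0 0 :=
  Sym.prob p_hn p_hk nt_c5_sym nt_c5_cnt_EG_ok (grp_cons_le p_g22_T (grp_cons_le p_g1_T (grp_cons_le p_g2_T (grp_cons_le p_g29_T (grp_cons_le p_g25_T (grp_cons_le p_g26_T (grp_cons_le p_g36_T (grp_cons_le p_g32_T (grp_cons_le p_g33_T (grp_cons_le p_g43_T (grp_cons_le p_g40_T (grp_cons_le p_g47_T (grp_cons_le p_g46_T (grp_cons_le p_g39_T (grp_cons_le p_g81_T (grp_cons_le p_g82_T (grp_cons_le p_g83_T (grp_cons_le p_g84_T (grp_nil_le _))))))))))))))))))) (Frames.cons T_s1_F (Frames.cons T_s8_F (Frames.cons T_s9_F (Frames.cons T_s10_F Frames.nil)))) (okE_cons.2 ⟨p_g114_ok, okE_nil _⟩) _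

noncomputable def nt_c5_cnt_t : BT := (BT.br (nat_lit 2) (nat_lit 0) [nat_lit 3, nat_lit 5] (BT.kid (nat_lit 0) (nat_lit 3) (BT.frm (nat_lit 0) (nat_lit 0) (nat_lit 0) [nat_lit 0] (BT.pln (nat_lit 0) (nat_lit 1) (BT.img (nat_lit 1) (nat_lit 2) (BT.img (nat_lit 1) (nat_lit 0) (BT.frm (nat_lit 1) (nat_lit 0x1d220709) (nat_lit 0x1d220709) [nat_lit 0, nat_lit 1, nat_lit 4] (BT.pln (nat_lit 0) (nat_lit 3) (BT.and (nat_lit 4) (nat_lit 0) (BT.br (nat_lit 0) (nat_lit 3) [nat_lit 5] (BT.dead (nat_lit 16) (BT.dif (nat_lit 11) (nat_lit 6) (BT.frm (nat_lit 2) (nat_lit 0x1d220709) (nat_lit 0x20211d220709) [nat_lit 1, nat_lit 5, nat_lit 6, nat_lit 9] (BT.pln (nat_lit 0) (nat_lit 5) (BT.and (nat_lit 2) (nat_lit 0) (BT.img (nat_lit 1) (nat_lit 1) (BT.and (nat_lit 1) (nat_lit 0) (BT.img (nat_lit 1) (nat_lit 0) (BT.and (nat_lit 6) (nat_lit 0) (BT.frm (nat_lit 3) (nat_lit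 0x21211d220709) (nat_lit 0x2220211d220709) [nat_lit 0, nat_lit 8, nat_lit 12, nat_lit 13, nat_lit 16] (BT.pln (nat_lit 0) (nat_lit 5) (BT.img (nat_lit 1) (nat_lit 10) (BT.and (nat_lit 1) (nat_lit 0) (BT.cnt (nat_lit 0)))))))))))))) (BT.dead (nat_lit 4) (BT.dif (nat_lit 11) (nat_lit 6) (BT.frm (nat_lit 2) (nat_lit 0x1d220709) (nat_lit 0x201d220709) [nat_lit 1, nat_lit 5, nat_lit 6, nat_lit 9] (BT.pln (nat_lit 0) (nat_lit 5) (BT.and (nat_lit 2) (nat_lit 0) (BT.img (nat_lit 1) (nat_lit 1) (BT.and (nat_lit 1) (nat_lit 0) (BT.img (nat_lit 1) (nat_lit 0) (BT.and (nat_lit 6) (nat_lit 0) (BT.frm (nat_lit 3) (nat_lit 0x21211d220709) (nat_lit 0x24201d220709) [nat_lit 0, nat_lit 8, nat_lit 12, nat_lit 13, nat_lit 16] (BT.pln (nat_lit 0) (nat_lit 5) (BT.img (nat_lit 1) (nat_lit 10) (BT.and (nat_lit 1) (nat_lit 0) (BT.cnt (nat_lit 0)))))))))))))) (BT.kid (nat_lit 3)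 (nat_lit 1) (BT.dif (nat_lit 11) (nat_lit 6) (BT.frm (nat_lit 2) (nat_lit 0x1d220709) (nat_lit 0x1d220709) [nat_lit 1, nat_lit 5, nat_lit 6, nat_lit 9] (BT.pln (nat_lit 0) (nat_lit 5) (BT.and (nat_lit 2) (nat_lit 0) (BT.img (nat_lit 1) (nat_lit 1) (BT.and (nat_lit 1) (nat_lit 0) (BT.img (nat_lit 1) (nat_lit 0) (BT.and (nat_lit 6) (nat_lit 0) (BT.one (nat_lit 3) (nat_lit 0x21211d220709) (nat_lit 0x21211d220709) [nat_lit 0, nat_lit 8, nat_lit 12, nat_lit 13, nat_lit 16]))))))))) BT.nil))))))))))) BT.nil))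

theorem nt_c5_cnt : Cnt 24 (grp 24 EG) [p_g114] [p_g114] 0 0 0 0 72 :=
  BT.sound nt_c5_cnt_P Known.nil (t := nt_c5_cnt_t) (d := 0) (by decide +kernel)

theorem nt_c5_ge : 72 ≤ Nat.card (grp 24 nt_c5_K) :=
  Ch.le_card_grp (k := 5) (L := (lab 24 5)) p_hn nt_c5_K_ok (c := (Ch.cons (nat_lit 0) [nat_lit 1, nat_lit 3] (Ch.cons (nat_lit 3) [nat_lit 5] Ch.nil))) (by decide +kernel)

theorem nt_c5_eq : (grp 24 EG) ⊓ Subgroup.centralizer {Net.toPerm 24 p_g114} = grp 24 nt_c5_K :=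
  cent_eq nt_c5_sym nt_c5_cnt nt_c5_ge

theorem nt_c5_card : Nat.card ↥((grp 24 EG) ⊓ Subgroup.centralizer {Net.toPerm 24 p_g114}) = 72 :=
  card_cent nt_c5_sym nt_c5_cnt nt_c5_ge

theorem nt_c5_ord : orderOf (Net.toPerm 24 p_g114) = 3 :=
  orderOf_net p_hn p_hk p_g114_ok (by decide) (ps := [3]) (by set_option linter.unusedSimpArgs false in simp [Nat.primeFactorsList_ofNat]) (by decide +kernel)

theorem p_le122 : grp 24 nt_c6_K ≤ grp 24 N_E0 :=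
  grp_le_of_memB p_hn p_hk N_E0_ok nt_c6_K_ok (ws := [nat_lit 0x17130e0e08080107, nat_lit 0x19171913150e15090103, nat_lit 0x1a1815, nat_lit 0x1917190a]) (by decide +kernel)

theorem nt_c6_le : grp 24 nt_c6_K ≤ (grp 24 EG) :=
  (p_le122.trans T_s0.le)

theorem nt_c6_mem : Net.toPerm 24 p_g118 ∈ (grp 24 EG) :=
  nt_c6_le (toPerm_mem_grp (E := nt_c6_K) (List.Mem.head _))

theorem nt_c6_sym : Sym 24 (grp 24 EG) [p_g118] nt_c6_K 0 :=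
  Sym.of_lab p_hn p_hk (okE_cons.2 ⟨p_g118_ok, okE_nil _⟩) nt_c6_K_ok nt_c6_le (kT := 0) (by decide +kernel)

noncomputable def T_s5_O : ℕ := (nat_lit 0x8000024800900080042040200420001210000001400000080000000008010000)

theorem T_s5_F : Frame 24 (grp 24 EG) 5 11 T_s5_O 0 1 :=
  Stab.frame p_hn T_s5 (by decide +kernel)

noncomputable def nt_c6_cnt_L : List ℕ := [1, 2, T_s1_O, 0, 0, 5, 11, T_s5_O, 0, 0, 6, 10, T_s6_O, 1, 0]

theorem nt_c6_cnt_P : Prob 24 5 (grp 24 EG) nt_c6_cnt_EG [p_g118] [p_g118] nt_c6_K nt_c6_cnt_L 0 0 :=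
  Sym.prob p_hn p_hk nt_c6_sym nt_c6_cnt_EG_ok (grp_cons_le p_g22_T (grp_cons_le p_g1_T (grp_cons_le p_g2_T (grp_cons_le p_g29_T (grp_cons_le p_g25_T (grp_cons_le p_g26_T (grp_cons_le p_g36_T (grp_cons_le p_g32_T (grp_cons_le p_g33_T (grp_cons_le p_g43_T (grp_cons_le p_g40_T (grp_cons_le p_g47_T (grp_cons_le p_g46_T (grp_cons_le p_g39_T (grp_nil_le _))))))))))))))) (Frames.cons T_s1_F (Frames.cons T_s5_F (Frames.cons T_s6_F Frames.nil))) (okE_cons.2 ⟨p_g118_ok, okE_nil _⟩) _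

noncomputable def nt_c6_cnt_t : BT := (BT.fix (nat_lit 257) (BT.dif (nat_lit 3) (nat_lit 0) (BT.br (nat_lit 0) (nat_lit 0) [nat_lit 3] (BT.dead (nat_lit 1) (BT.frm (nat_lit 0) (nat_lit 0) (nat_lit 1539) [nat_lit 0] (BT.pln (nat_lit 0) (nat_lit 1) (BT.and (nat_lit 4) (nat_lit 0) (BT.br (nat_lit 0) (nat_lit 12) [nat_lit 260, nat_lit 459012] (BT.dead (nat_lit 16) (BT.img (nat_lit 1) (nat_lit 4) (BT.img (nat_lit 1) (nat_lit 0) (BT.img (nat_lit 1) (nat_lit 0) (BT.frm (nat_lit 1) (nat_lit 5895) (nat_lit 0x171911090603) [nat_lit 3, nat_lit 1, nat_lit 0, nat_lit 2, nat_lit 7] (BT.pln (nat_lit 0) (nat_lit 9) (BT.img (nat_lit 1) (nat_lit 5) (BT.and (nat_lit 1) (nat_lit 0) (BT.cnt (nat_lit 0))))))))) BT.nil))))) (BT.kid (nat_lit 0) (nat_lit 4) (BT.frm (nat_lit 0) (nat_lit 0) (nat_lit 0) [nat_lit 0] (BT.pln (nat_lit 0) (nat_lit 1) (BT.and (nat_lit 4) (nat_lit 0) (BT.br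 (nat_lit 0) (nat_lit 12) [nat_lit 5, nat_lit 7] (BT.kid (nat_lit 12) (nat_lit 1) (BT.dif (nat_lit 1) (nat_lit 0) (BT.dif (nat_lit 7) (nat_lit 3) (BT.img (nat_lit 1) (nat_lit 2) (BT.dif (nat_lit 1) (nat_lit 0) (BT.img (nat_lit 1) (nat_lit 8) (BT.img (nat_lit 1) (nat_lit 0) (BT.img (nat_lit 1) (nat_lit 0) (BT.frm (nat_lit 1) (nat_lit 5895) (nat_lit 5895) [nat_lit 7, nat_lit 1, nat_lit 0, nat_lit 2, nat_lit 11] (BT.pln (nat_lit 0) (nat_lit 9) (BT.dif (nat_lit 5) (nat_lit 0) (BT.img (nat_lit 1) (nat_lit 0) (BT.and (nat_lit 10) (nat_lit 0) (BT.one (nat_lit 2) (nat_lit 0x1a1707) (nat_lit 0x1a1707) [nat_lit 0, nat_lit 12, nat_lit 6, nat_lit 5, nat_lit 7, nat_lit 16]))))))))))))) BT.nil))))) BT.nil)))))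

theorem nt_c6_cnt : Cnt 24 (grp 24 EG) [p_g118] [p_g118] 0 0 0 0 48 :=
  BT.sound nt_c6_cnt_P Known.nil (t := nt_c6_cnt_t) (d := 0) (by decide +kernel)

theorem nt_c6_ge : 48 ≤ Nat.card (grp 24 nt_c6_K) :=
  Ch.le_card_grp (k := 5) (L := (lab 24 5)) p_hn nt_c6_K_ok (c := (Ch.cons (nat_lit 0) [nat_lit 1, nat_lit 3] (Ch.cons (nat_lit 12) [nat_lit 5, nat_lit 7] Ch.nil))) (by decide +kernel)

theorem nt_c6_eq : (grp 24 EG) ⊓ Subgroup.centralizer {Net.toPerm 24 p_g118} = grp 24 nt_c6_K :=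
  cent_eq nt_c6_sym nt_c6_cnt nt_c6_ge

theorem nt_c6_card : Nat.card ↥((grp 24 EG) ⊓ Subgroup.centralizer {Net.toPerm 24 p_g118}) = 48 :=
  card_cent nt_c6_sym nt_c6_cnt nt_c6_ge

theorem nt_c6_ord : orderOf (Net.toPerm 24 p_g118) = 4 :=
  orderOf_net p_hn p_hk p_g118_ok (by decide) (ps := [2]) (by set_option linter.unusedSimpArgs false in simp [Nat.primeFactorsList_ofNat]) (by decide +kernel)

theorem p_le127 : grp 24 nt_c7_K ≤ grp 24 N_E0 :=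
  grp_le_of_memB p_hn p_hk N_E0_ok nt_c7_K_ok (ws := [nat_lit 0x17110e081a0511, nat_lit 0x1917150d150c050a, nat_lit 0x171915070603, nat_lit 0x171913151208080202]) (by decide +kernel)

theorem nt_c7_le : grp 24 nt_c7_K ≤ (grp 24 EG) :=
  (p_le127.trans T_s0.le)

theorem nt_c7_mem : Net.toPerm 24 p_g123 ∈ (grp 24 EG) :=
  nt_c7_le (toPerm_mem_grp (E := nt_c7_K) (List.Mem.head _))

theorem nt_c7_sym : Sym 24 (grp 24 EG) [p_g123] nt_c7_K 0 :=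
  Sym.of_lab p_hn p_hk (okE_cons.2 ⟨p_g123_ok, okE_nil _⟩) nt_c7_K_ok nt_c7_le (kT := 0) (by decide +kernel)

noncomputable def nt_c7_cnt_L : List ℕ := [1, 2, T_s1_O, 0, 0, 3, 4, T_s8_O, 0, 0, 5, 9, T_s10_O, 1, 0]

theorem nt_c7_cnt_P : Prob 24 5 (grp 24 EG) nt_c7_cnt_EG [p_g123] [p_g123] nt_c7_K nt_c7_cnt_L 0 0 :=
  Sym.prob p_hn p_hk nt_c7_sym nt_c7_cnt_EG_ok (grp_cons_le p_g22_T (grp_cons_le p_g1_T (grp_cons_le p_g2_T (grp_cons_le p_g29_T (grp_cons_le p_g25_T (grp_cons_le p_g26_T (grp_cons_le p_g36_T (grp_cons_le p_g32_T (grp_cons_le p_g33_T (grp_cons_le p_g43_T (grp_cons_le p_g40_T (grp_cons_le p_g47_T (grp_cons_le p_g46_T (grp_cons_le p_g39_T (grp_cons_le p_g81_T (grp_cons_le p_g82_T (grp_cons_le p_g83_T (grp_cons_le p_g84_T (grp_nil_le _))))))))))))))))))) (Frames.cons T_s1_F (Frames.cons T_s8_F (Frames.cons T_s10_F Frames.nil))) (okE_cons.2 ⟨p_g123_ok,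 okE_nil _⟩) _

noncomputable def nt_c7_cnt_t : BT := (BT.fix (nat_lit 257) (BT.fix (nat_lit 1) (BT.dif (nat_lit 1) (nat_lit 0) (BT.br (nat_lit 0) (nat_lit 23) [nat_lit 3] (BT.kid (nat_lit 23) (nat_lit 8) (BT.dif (nat_lit 1) (nat_lit 0) (BT.img (nat_lit 1) (nat_lit 1) (BT.dif (nat_lit 1) (nat_lit 0) (BT.br (nat_lit 0) (nat_lit 10) [] (BT.dead (nat_lit 15) (BT.dif (nat_lit 10) (nat_lit 7) (BT.frm (nat_lit 0) (nat_lit 261) (nat_lit 261) [nat_lit 5] (BT.pln (nat_lit 0) (nat_lit 1) (BT.dif (nat_lit 2) (nat_lit 0) (BT.br (nat_lit 0) (nat_lit 0) [nat_lit 5, nat_lit 7] (BT.dead (nat_lit 0) (BT.frm (nat_lit 1) (nat_lit 0x1e2307090105) (nat_lit 0x1d2307090105) [nat_lit 5, nat_lit 7, nat_lit 9] (BT.pln (nat_lit 0) (nat_lit 3) (BT.and (nat_lit 14) (nat_lit 0) (BT.frm (nat_lit 2) (nat_lit 0x241f241e2307090105) (nat_lit 0x241f241d2307090105) [nat_lit 3, nat_lit 0, nat_lit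 8, nat_lit 10, nat_lit 12] (BT.pln (nat_lit 0) (nat_lit 5) (BT.img (nat_lit 1) (nat_lit 5) (BT.and (nat_lit 1) (nat_lit 0) (BT.cnt (nat_lit 0))))))))) BT.nil)))))) (BT.kid (nat_lit 10) (nat_lit 8) (BT.dif (nat_lit 10) (nat_lit 7) (BT.frm (nat_lit 0) (nat_lit 261) (nat_lit 261) [nat_lit 5] (BT.pln (nat_lit 0) (nat_lit 1) (BT.dif (nat_lit 2) (nat_lit 0) (BT.br (nat_lit 0) (nat_lit 0) [nat_lit 5, nat_lit 7] (BT.kid (nat_lit 0) (nat_lit 1) (BT.frm (nat_lit 1) (nat_lit 0x1e2307090105) (nat_lit 0x1e2307090105) [nat_lit 5, nat_lit 7, nat_lit 9] (BT.pln (nat_lit 0) (nat_lit 3) (BT.and (nat_lit 14) (nat_lit 0) (BT.one (nat_lit 2) (nat_lit 0x241f241e2307090105) (nat_lit 0x241f241e2307090105) [nat_lit 3, nat_lit 0, nat_lit 8, nat_lit 10, nat_lit 12])))) BT.nil)))))) BT.nil)))))) BT.nil)))))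

theorem nt_c7_cnt : Cnt 24 (grp 24 EG) [p_g123] [p_g123] 0 0 0 0 32 :=
  BT.sound nt_c7_cnt_P Known.nil (t := nt_c7_cnt_t) (d := 0) (by decide +kernel)

theorem nt_c7_ge : 32 ≤ Nat.card (grp 24 nt_c7_K) :=
  Ch.le_card_grp (k := 5) (L := (lab 24 5)) p_hn nt_c7_K_ok (c := (Ch.cons (nat_lit 23) [nat_lit 1, nat_lit 3] (Ch.cons (nat_lit 0) [nat_lit 5, nat_lit 7] Ch.nil))) (by decide +kernel)

theorem nt_c7_eq : (grp 24 EG) ⊓ Subgroup.centralizer {Net.toPerm 24 p_g123} = grp 24 nt_c7_K :=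
  cent_eq nt_c7_sym nt_c7_cnt nt_c7_ge

theorem nt_c7_card : Nat.card ↥((grp 24 EG) ⊓ Subgroup.centralizer {Net.toPerm 24 p_g123}) = 32 :=
  card_cent nt_c7_sym nt_c7_cnt nt_c7_ge

theorem nt_c7_ord : orderOf (Net.toPerm 24 p_g123) = 4 :=
  orderOf_net p_hn p_hk p_g123_ok (by decide) (ps := [2]) (by set_option linter.unusedSimpArgs false in simp [Nat.primeFactorsList_ofNat]) (by decide +kernel)

theorem p_le131 : grp 24 nt_c8_K ≤ grp 24 N_E0 :=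
  grp_le_of_memB p_hn p_hk N_E0_ok nt_c8_K_ok (ws := [nat_lit 0x13150a0104, nat_lit 0x131512070c010b, nat_lit 0x1a17130d150c]) (by decide +kernel)

theorem nt_c8_le : grp 24 nt_c8_K ≤ (grp 24 EG) :=
  (p_le131.trans T_s0.le)

theorem nt_c8_mem : Net.toPerm 24 p_g128 ∈ (grp 24 EG) :=
  nt_c8_le (toPerm_mem_grp (E := nt_c8_K) (List.Mem.head _))

theorem nt_c8_sym : Sym 24 (grp 24 EG) [p_g128] nt_c8_K 0 :=
  Sym.of_lab p_hn p_hk (okE_cons.2 ⟨p_g128_ok, okE_nil _⟩) nt_c8_K_ok nt_c8_le (kT := 0) (by decide +kernel)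

noncomputable def nt_c8_cnt_L : List ℕ := [1, 2, T_s1_O, 0, 0, 4, 7, T_s11_O, 0, 0, 5, 15, T_s12_O, 0, 0, 6, 10, T_s13_O, 1, 0]

theorem nt_c8_cnt_P : Prob 24 5 (grp 24 EG) nt_c8_cnt_EG [p_g128] [p_g128] nt_c8_K nt_c8_cnt_L 0 0 :=
  Sym.prob p_hn p_hk nt_c8_sym nt_c8_cnt_EG_ok (grp_cons_le p_g22_T (grp_cons_le p_g1_T (grp_cons_le p_g2_T (grp_cons_le p_g29_T (grp_cons_le p_g25_T (grp_cons_le p_g26_T (grp_cons_le p_g36_T (grp_cons_le p_g32_T (grp_cons_le p_g33_T (grp_cons_le p_g43_T (grp_cons_le p_g40_T (grp_cons_le p_g47_T (grp_cons_le p_g46_T (grp_cons_le p_g39_T (grp_cons_le p_g101_T (grp_cons_le p_g102_T (grp_nil_le _))))))))))))))))) (Frames.cons T_s1_F (Frames.cons T_s11_F (Frames.cons T_s12_F (Frames.cons T_s13_F Frames.nil)))) (okE_cons.2 ⟨p_g128_ok, okE_nil _⟩) _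

noncomputable def nt_c8_cnt_t : BT := (BT.br (nat_lit 2) (nat_lit 0) [nat_lit 3] (BT.dead (nat_lit 1) (BT.frm (nat_lit 0) (nat_lit 0) (nat_lit 1539) [nat_lit 0] (BT.pln (nat_lit 0) (nat_lit 1) (BT.dif (nat_lit 5) (nat_lit 0) (BT.img (nat_lit 1) (nat_lit 3) (BT.img (nat_lit 1) (nat_lit 0) (BT.img (nat_lit 1) (nat_lit 0) (BT.frm (nat_lit 1) (nat_lit 0x140d19081a) (nat_lit 0x13110e070c0603) [nat_lit 1, nat_lit 0, nat_lit 2, nat_lit 6] (BT.pln (nat_lit 0) (nat_lit 5) (BT.and (nat_lit 5) (nat_lit 0) (BT.br (nat_lit 0) (nat_lit 7) [nat_lit 5] (BT.dead (nat_lit 10) (BT.frm (nat_lit 2) (nat_lit 0x1d1d140d19081a) (nat_lit 0x1e1e13110e070c0603) [nat_lit 0, nat_lit 5, nat_lit 4, nat_lit 6, nat_lit 10] (BT.pln (nat_lit 0) (nat_lit 6) (BT.and (nat_lit 10) (nat_lit 0) (BT.br (nat_lit 0) (nat_lit 12) [nat_lit 5] (BT.dead (nat_lit 3) (BT.frm (nat_lit 3) (nat_lit 0x1d1d140d19081a)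 (nat_lit 0x1f1e1e13110e070c0603) [nat_lit 0, nat_lit 4, nat_lit 9, nat_lit 8, nat_lit 10, nat_lit 14] (BT.pln (nat_lit 0) (nat_lit 6) (BT.img (nat_lit 1) (nat_lit 2) (BT.and (nat_lit 1) (nat_lit 0) (BT.cnt (nat_lit 0)))))) BT.nil))))) (BT.dead (nat_lit 11) (BT.frm (nat_lit 2) (nat_lit 0x1d1d140d19081a) (nat_lit 0x1d13110e070c0603) [nat_lit 0, nat_lit 5, nat_lit 4, nat_lit 6, nat_lit 10] (BT.pln (nat_lit 0) (nat_lit 8) (BT.img (nat_lit 1) (nat_lit 2) (BT.img (nat_lit 1) (nat_lit 0) (BT.img (nat_lit 1) (nat_lit 0) (BT.and (nat_lit 3) (nat_lit 0) (BT.cnt (nat_lit 0)))))))) (BT.dead (nat_lit 19) (BT.frm (nat_lit 2) (nat_lit 0x1d1d140d19081a) (nat_lit 0x1e13110e070c0603) [nat_lit 0, nat_lit 5, nat_lit 4, nat_lit 6, nat_lit 10] (BT.pln (nat_lit 0) (nat_lit 5) (BT.img (nat_lit 1) (nat_lit 2) (BT.and (nat_lit 1) (nat_lit 0) (BT.cnt (nat_lit 0)))))) BT.nil)))))))))))))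 (BT.kid (nat_lit 0) (nat_lit 2) (BT.frm (nat_lit 0) (nat_lit 0) (nat_lit 0) [nat_lit 0] (BT.pln (nat_lit 0) (nat_lit 1) (BT.dif (nat_lit 5) (nat_lit 0) (BT.img (nat_lit 1) (nat_lit 3) (BT.img (nat_lit 1) (nat_lit 0) (BT.img (nat_lit 1) (nat_lit 0) (BT.frm (nat_lit 1) (nat_lit 0x140d19081a) (nat_lit 0x140d19081a) [nat_lit 1, nat_lit 0, nat_lit 2, nat_lit 6] (BT.pln (nat_lit 0) (nat_lit 5) (BT.and (nat_lit 5) (nat_lit 0) (BT.br (nat_lit 0) (nat_lit 7) [nat_lit 5] (BT.dead (nat_lit 19) (BT.frm (nat_lit 2) (nat_lit 0x1d1d140d19081a) (nat_lit 0x1d140d19081a) [nat_lit 0, nat_lit 5, nat_lit 4, nat_lit 6, nat_lit 10] (BT.pln (nat_lit 0) (nat_lit 8) (BT.img (nat_lit 1) (nat_lit 2) (BT.img (nat_lit 1) (nat_lit 0) (BT.img (nat_lit 1) (nat_lit 0) (BT.and (nat_lit 3) (nat_lit 0) (BT.cnt (nat_lit 0)))))))) (BT.dead (nat_lit 11) (BT.frm (nat_lit 2) (nat_lit 0x1d1d140d19081a)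 (nat_lit 0x140d19081a) [nat_lit 0, nat_lit 5, nat_lit 4, nat_lit 6, nat_lit 10] (BT.pln (nat_lit 0) (nat_lit 5) (BT.img (nat_lit 1) (nat_lit 2) (BT.and (nat_lit 1) (nat_lit 0) (BT.cnt (nat_lit 0)))))) (BT.kid (nat_lit 7) (nat_lit 2) (BT.frm (nat_lit 2) (nat_lit 0x1d1d140d19081a) (nat_lit 0x1d1d140d19081a) [nat_lit 0, nat_lit 5, nat_lit 4, nat_lit 6, nat_lit 10] (BT.pln (nat_lit 0) (nat_lit 6) (BT.and (nat_lit 10) (nat_lit 0) (BT.br (nat_lit 0) (nat_lit 12) [nat_lit 5] (BT.kid (nat_lit 12) (nat_lit 1) (BT.one (nat_lit 3) (nat_lit 0x1d1d140d19081a) (nat_lit 0x1d1d140d19081a) [nat_lit 0, nat_lit 4, nat_lit 9, nat_lit 8, nat_lit 10, nat_lit 14]) BT.nil))))) BT.nil))))))))))))) BT.nil)))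

theorem nt_c8_cnt : Cnt 24 (grp 24 EG) [p_g128] [p_g128] 0 0 0 0 24 :=
  BT.sound nt_c8_cnt_P Known.nil (t := nt_c8_cnt_t) (d := 0) (by decide +kernel)

theorem nt_c8_ge : 24 ≤ Nat.card (grp 24 nt_c8_K) :=
  Ch.le_card_grp (k := 5) (L := (lab 24 5)) p_hn nt_c8_K_ok (c := (Ch.cons (nat_lit 0) [nat_lit 1, nat_lit 3] (Ch.cons (nat_lit 12) [nat_lit 5] Ch.nil))) (by decide +kernel)

theorem nt_c8_eq : (grp 24 EG) ⊓ Subgroup.centralizer {Net.toPerm 24 p_g128} = grp 24 nt_c8_K :=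
  cent_eq nt_c8_sym nt_c8_cnt nt_c8_ge

theorem nt_c8_card : Nat.card ↥((grp 24 EG) ⊓ Subgroup.centralizer {Net.toPerm 24 p_g128}) = 24 :=
  card_cent nt_c8_sym nt_c8_cnt nt_c8_ge

theorem nt_c8_ord : orderOf (Net.toPerm 24 p_g128) = 4 :=
  orderOf_net p_hn p_hk p_g128_ok (by decide) (ps := [2]) (by set_option linter.unusedSimpArgs false in simp [Nat.primeFactorsList_ofNat]) (by decide +kernel)

theorem p_le134 : grp 24 nt_c9_K ≤ grp 24 N_E0 :=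
  grp_le_of_memB p_hn p_hk N_E0_ok nt_c9_K_ok (ws := [nat_lit 0x18150d0707, nat_lit 0x1a181315070c0105, nat_lit 0x1a17191411081a0514]) (by decide +kernel)

theorem nt_c9_le : grp 24 nt_c9_K ≤ (grp 24 EG) :=
  (p_le134.trans T_s0.le)

theorem nt_c9_mem : Net.toPerm 24 p_g98 ∈ (grp 24 EG) :=
  nt_c9_le (toPerm_mem_grp (E := nt_c9_K) (List.Mem.head _))

theorem nt_c9_sym : Sym 24 (grp 24 EG) [p_g98] nt_c9_K 0 :=
  Sym.of_lab p_hn p_hk (okE_cons.2 ⟨p_g98_ok, okE_nil _⟩) nt_c9_K_ok nt_c9_le (kT := 0) (by decide +kernel)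

noncomputable def nt_c9_cnt_L : List ℕ := [1, 2, T_s1_O, 0, 0, 4, 6, T_s9_O, 0, 0, 5, 9, T_s10_O, 1, 0]

theorem nt_c9_cnt_P : Prob 24 5 (grp 24 EG) nt_c9_cnt_EG [p_g98] [p_g98] nt_c9_K nt_c9_cnt_L 0 0 :=
  Sym.prob p_hn p_hk nt_c9_sym nt_c9_cnt_EG_ok (grp_cons_le p_g22_T (grp_cons_le p_g1_T (grp_cons_le p_g2_T (grp_cons_le p_g29_T (grp_cons_le p_g25_T (grp_cons_le p_g26_T (grp_cons_le p_g36_T (grp_cons_le p_g32_T (grp_cons_le p_g33_T (grp_cons_le p_g43_T (grp_cons_le p_g40_T (grp_cons_le p_g47_T (grp_cons_le p_g46_T (grp_cons_le p_g39_T (grp_cons_le p_g82_T (grp_cons_le p_g83_T (grp_cons_le p_g84_T (grp_cons_le p_g81_T (grp_nil_le _))))))))))))))))))) (Frames.cons T_s1_F (Frames.cons T_s9_F (Frames.cons T_s10_F Frames.nil))) (okE_cons.2 ⟨p_g98_ok, okE_nil _⟩) _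

noncomputable def nt_c9_cnt_t : BT := (BT.fix (nat_lit 1) (BT.dif (nat_lit 3) (nat_lit 0) (BT.br (nat_lit 0) (nat_lit 20) [nat_lit 3, nat_lit 5] (BT.kid (nat_lit 20) (nat_lit 1) (BT.frm (nat_lit 0) (nat_lit 515) (nat_lit 515) [nat_lit 0] (BT.pln (nat_lit 0) (nat_lit 1) (BT.dif (nat_lit 7) (nat_lit 0) (BT.dif (nat_lit 0) (nat_lit 3) (BT.dif (nat_lit 0) (nat_lit 6) (BT.img (nat_lit 1) (nat_lit 5) (BT.img (nat_lit 1) (nat_lit 0) (BT.img (nat_lit 1) (nat_lit 0) (BT.frm (nat_lit 1) (nat_lit 0x1e1f2421070203) (nat_lit 0x1e1f2421070203) [nat_lit 0, nat_lit 1, nat_lit 2, nat_lit 8] (BT.pln (nat_lit 0) (nat_lit 5) (BT.and (nat_lit 7) (nat_lit 0) (BT.img (nat_lit 1) (nat_lit 1) (BT.and (nat_lit 1) (nat_lit 0) (BT.img (nat_lit 1) (nat_lit 0) (BT.and (nat_lit 9) (nat_lit 0) (BT.one (nat_lit 2) (nat_lit 0x221e1f2421070203) (nat_lit 0x221e1f2421070203) [nat_lit 0, nat_lit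 7, nat_lit 8, nat_lit 9, nat_lit 15])))))))))))))))) BT.nil))))

theorem nt_c9_cnt : Cnt 24 (grp 24 EG) [p_g98] [p_g98] 0 0 0 0 20 :=
  BT.sound nt_c9_cnt_P Known.nil (t := nt_c9_cnt_t) (d := 0) (by decide +kernel)

theorem nt_c9_ge : 20 ≤ Nat.card (grp 24 nt_c9_K) :=
  Ch.le_card_grp (k := 5) (L := (lab 24 5)) p_hn nt_c9_K_ok (c := (Ch.cons (nat_lit 20) [nat_lit 1, nat_lit 3, nat_lit 5] Ch.nil)) (by decide +kernel)

theorem nt_c9_eq : (grp 24 EG) ⊓ Subgroup.centralizer {Net.toPerm 24 p_g98} = grp 24 nt_c9_K :=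
  cent_eq nt_c9_sym nt_c9_cnt nt_c9_ge

theorem nt_c9_card : Nat.card ↥((grp 24 EG) ⊓ Subgroup.centralizer {Net.toPerm 24 p_g98}) = 20 :=
  card_cent nt_c9_sym nt_c9_cnt nt_c9_ge

theorem nt_c9_ord : orderOf (Net.toPerm 24 p_g98) = 5 :=
  orderOf_net p_hn p_hk p_g98_ok (by decide) (ps := [5]) (by set_option linter.unusedSimpArgs false in simp [Nat.primeFactorsList_ofNat]) (by decide +kernel)

theorem p_le138 : grp 24 nt_c10_K ≤ grp 24 N_E0 :=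
  grp_le_of_memB p_hn p_hk N_E0_ok nt_c10_K_ok (ws := [nat_lit 0x1a15110e090507, nat_lit 0x1a1719140d0d070c0108, nat_lit 0x1a150d080204]) (by decide +kernel)

theorem nt_c10_le : grp 24 nt_c10_K ≤ (grp 24 EG) :=
  (p_le138.trans T_s0.le)

theorem nt_c10_mem : Net.toPerm 24 p_g135 ∈ (grp 24 EG) :=
  nt_c10_le (toPerm_mem_grp (E := nt_c10_K) (List.Mem.head _))

theorem nt_c10_sym : Sym 24 (grp 24 EG) [p_g135] nt_c10_K 0 :=
  Sym.of_lab p_hn p_hk (okE_cons.2 ⟨p_g135_ok, okE_nil _⟩) nt_c10_K_ok nt_c10_le (kT := 0) (by decide +kernel)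

noncomputable def nt_c10_cnt_L : List ℕ := [1, 2, T_s1_O, 0, 0, 4, 6, T_s9_O, 0, 0, 5, 9, T_s10_O, 1, 0]

theorem nt_c10_cnt_P : Prob 24 5 (grp 24 EG) nt_c10_cnt_EG [p_g135] [p_g135] nt_c10_K nt_c10_cnt_L 0 0 :=
  Sym.prob p_hn p_hk nt_c10_sym nt_c10_cnt_EG_ok (grp_cons_le p_g22_T (grp_cons_le p_g1_T (grp_cons_le p_g2_T (grp_cons_le p_g29_T (grp_cons_le p_g25_T (grp_cons_le p_g26_T (grp_cons_le p_g36_T (grp_cons_le p_g32_T (grp_cons_le p_g33_T (grp_cons_le p_g43_T (grp_cons_le p_g40_T (grp_cons_le p_g47_T (grp_cons_le p_g46_T (grp_cons_le p_g39_T (grp_cons_le p_g82_T (grp_cons_le p_g83_T (grp_cons_le p_g84_T (grp_cons_le p_g81_T (grp_nil_le _))))))))))))))))))) (Frames.cons T_s1_F (Frames.cons T_s9_F (Frames.cons T_s10_F Frames.nil))) (okE_cons.2 ⟨p_g135_ok, okE_nil _⟩) _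

noncomputable def nt_c10_cnt_t : BT := (BT.br (nat_lit 2) (nat_lit 0) [nat_lit 3, nat_lit 5] (BT.kid (nat_lit 0) (nat_lit 1) (BT.frm (nat_lit 0) (nat_lit 0) (nat_lit 0) [nat_lit 0] (BT.pln (nat_lit 0) (nat_lit 1) (BT.dif (nat_lit 5) (nat_lit 0) (BT.dif (nat_lit 0) (nat_lit 3) (BT.img (nat_lit 1) (nat_lit 4) (BT.img (nat_lit 1) (nat_lit 0) (BT.img (nat_lit 1) (nat_lit 0) (BT.frm (nat_lit 1) (nat_lit 0x1e2123200707) (nat_lit 0x1e2123200707) [nat_lit 0, nat_lit 1, nat_lit 2, nat_lit 7] (BT.pln (nat_lit 0) (nat_lit 5) (BT.and (nat_lit 6) (nat_lit 0) (BT.img (nat_lit 1) (nat_lit 1) (BT.and (nat_lit 1) (nat_lit 0) (BT.img (nat_lit 1) (nat_lit 0) (BT.and (nat_lit 9) (nat_lit 0) (BT.one (nat_lit 2) (nat_lit 0x211e2123200707) (nat_lit 0x211e2123200707) [nat_lit 0, nat_lit 7, nat_lit 8, nat_lit 9, nat_lit 14]))))))))))))))) BT.nil))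

theorem nt_c10_cnt : Cnt 24 (grp 24 EG) [p_g135] [p_g135] 0 0 0 0 24 :=
  BT.sound nt_c10_cnt_P Known.nil (t := nt_c10_cnt_t) (d := 0) (by decide +kernel)

theorem nt_c10_ge : 24 ≤ Nat.card (grp 24 nt_c10_K) :=
  Ch.le_card_grp (k := 5) (L := (lab 24 5)) p_hn nt_c10_K_ok (c := (Ch.cons (nat_lit 0) [nat_lit 1, nat_lit 3, nat_lit 5] Ch.nil)) (by decide +kernel)

theorem nt_c10_eq : (grp 24 EG) ⊓ Subgroup.centralizer {Net.toPerm 24 p_g135} = grp 24 nt_c10_K :=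
  cent_eq nt_c10_sym nt_c10_cnt nt_c10_ge

theorem nt_c10_card : Nat.card ↥((grp 24 EG) ⊓ Subgroup.centralizer {Net.toPerm 24 p_g135}) = 24 :=
  card_cent nt_c10_sym nt_c10_cnt nt_c10_ge

theorem nt_c10_ord : orderOf (Net.toPerm 24 p_g135) = 6 :=
  orderOf_net p_hn p_hk p_g135_ok (by decide) (ps := [2, 3]) (by set_option linter.unusedSimpArgs false in simp [Nat.primeFactorsList_ofNat]) (by decide +kernel)

theorem p_le140 : grp 24 nt_c11_K ≤ grp 24 N_E0 :=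
  grp_le_of_memB p_hn p_hk N_E0_ok nt_c11_K_ok (ws := [nat_lit 0x191719150e0b0101, nat_lit 0x17130e0e08080107]) (by decide +kernel)

theorem nt_c11_le : grp 24 nt_c11_K ≤ (grp 24 EG) :=
  (p_le140.trans T_s0.le)

theorem nt_c11_mem : Net.toPerm 24 p_g139 ∈ (grp 24 EG) :=
  nt_c11_le (toPerm_mem_grp (E := nt_c11_K) (List.Mem.head _))

theorem nt_c11_sym : Sym 24 (grp 24 EG) [p_g139] nt_c11_K 0 :=
  Sym.of_lab p_hn p_hk (okE_cons.2 ⟨p_g139_ok, okE_nil _⟩) nt_c11_K_ok nt_c11_le (kT := 0) (by decide +kernel)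

theorem p_le144 : grp 24 p_V143 ≤ grp 24 p_V71 :=
  grp_le_of_memB p_hn p_hk p_V71_ok p_V143_ok (ws := [nat_lit 0xe0b0d090101, nat_lit 0xc07090502, nat_lit 0xb0d07090502]) (by decide +kernel)

theorem T_s15 : Stab 24 (grp 24 EG) [nat_lit 3, nat_lit 22, nat_lit 0] p_V143 60 :=
  Stab.step (k := 5) (L := (lab 24 5)) p_hn T_s2 p_V143_ok p_le144 (c := (Ch.cons (nat_lit 8) [nat_lit 1] (Ch.cons (nat_lit 18) [nat_lit 3, nat_lit 5] Ch.nil))) (by decide +kernel)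

theorem T_s16 : Stab 24 (grp 24 EG) [nat_lit 8, nat_lit 3, nat_lit 22, nat_lit 0] p_V145 6 :=
  Stab.step (k := 5) (L := (lab 24 5)) p_hn T_s15 p_V145_ok (grp_mono (List.subset_append_right [p_g141] _)) (c := (Ch.cons (nat_lit 18) [nat_lit 1, nat_lit 3] Ch.nil)) (by decide +kernel)

theorem T_s17 : Stab 24 (grp 24 EG) [nat_lit 18, nat_lit 8, nat_lit 3, nat_lit 22, nat_lit 0] p_V146 1 :=
  Stab.step (k := 5) (L := (lab 24 5)) p_hn T_s16 p_V146_ok (grp_mono (List.subset_append_right [p_g142, p_g99] _)) (c := Ch.nil) (by decide +kernel)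

theorem p_g142_T : Net.toPerm 24 p_g142 ∈ (grp 24 EG) :=
  T_s16.le (toPerm_mem_grp (E := p_V145) (List.Mem.head _))

theorem p_g99_T : Net.toPerm 24 p_g99 ∈ (grp 24 EG) :=
  T_s16.le (toPerm_mem_grp (E := p_V145) (List.Mem.tail _ (List.Mem.head _)))

theorem p_g141_T : Net.toPerm 24 p_g141 ∈ (grp 24 EG) :=
  T_s15.le (toPerm_mem_grp (E := p_V143) (List.Mem.head _))

noncomputable def T_s17_O : ℕ := (nat_lit 0x933332e0f83ec67318b26d92000001400000000008000100040000)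

theorem T_s17_F : Frame 24 (grp 24 EG) 5 9 T_s17_O 1 1 :=
  IsBase.frame T_s17.isBase (by decide +kernel)

noncomputable def nt_c11_cnt_L : List ℕ := [1, 2, T_s1_O, 0, 0, 5, 9, T_s17_O, 1, 0]

theorem nt_c11_cnt_P : Prob 24 5 (grp 24 EG) nt_c11_cnt_EG [p_g139] [p_g139] nt_c11_K nt_c11_cnt_L 0 0 :=
  Sym.prob p_hn p_hk nt_c11_sym nt_c11_cnt_EG_ok (grp_cons_le p_g22_T (grp_cons_le p_g1_T (grp_cons_le p_g2_T (grp_cons_le p_g29_T (grp_cons_le p_g25_T (grp_cons_le p_g26_T (grp_cons_le p_g36_T (grp_cons_le p_g32_T (grp_cons_le p_g33_T (grp_cons_le p_g43_T (grp_cons_le p_g40_T (grp_cons_le p_g47_T (grp_cons_le p_g46_T (grp_cons_le p_g39_T (grp_cons_le p_g142_T (grp_cons_le p_g99_T (grp_cons_le p_g141_T (grp_nil_le _)))))))))))))))))) (Frames.cons T_s1_F (Frames.cons T_s17_F Frames.nil)) (okE_cons.2 ⟨p_g139_ok, okE_nil _⟩) _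

noncomputable def nt_c11_cnt_t : BT := (BT.fix (nat_lit 65793) (BT.dif (nat_lit 3) (nat_lit 0) (BT.fix (nat_lit 257) (BT.dif (nat_lit 1) (nat_lit 0) (BT.br (nat_lit 0) (nat_lit 0) [nat_lit 1, nat_lit 3] (BT.kid (nat_lit 0) (nat_lit 1) (BT.img (nat_lit 1) (nat_lit 0) (BT.img (nat_lit 1) (nat_lit 0) (BT.img (nat_lit 1) (nat_lit 0) (BT.fix (nat_lit 1) (BT.frm (nat_lit 0) (nat_lit 0) (nat_lit 0) [nat_lit 4] (BT.pln (nat_lit 0) (nat_lit 1) (BT.dif (nat_lit 2) (nat_lit 0) (BT.one (nat_lit 1) (nat_lit 0x1d211e0e120c) (nat_lit 0x1d211e0e120c) [nat_lit 4, nat_lit 5, nat_lit 6, nat_lit 0, nat_lit 7])))))))) BT.nil))))))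

theorem nt_c11_cnt : Cnt 24 (grp 24 EG) [p_g139] [p_g139] 0 0 0 0 12 :=
  BT.sound nt_c11_cnt_P Known.nil (t := nt_c11_cnt_t) (d := 0) (by decide +kernel)

theorem nt_c11_ge : 12 ≤ Nat.card (grp 24 nt_c11_K) :=
  Ch.le_card_grp (k := 5) (L := (lab 24 5)) p_hn nt_c11_K_ok (c := (Ch.cons (nat_lit 0) [nat_lit 1, nat_lit 3] Ch.nil)) (by decide +kernel)

theorem nt_c11_eq : (grp 24 EG) ⊓ Subgroup.centralizer {Net.toPerm 24 p_g139} = grp 24 nt_c11_K :=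
  cent_eq nt_c11_sym nt_c11_cnt nt_c11_ge

theorem nt_c11_card : Nat.card ↥((grp 24 EG) ⊓ Subgroup.centralizer {Net.toPerm 24 p_g139}) = 12 :=
  card_cent nt_c11_sym nt_c11_cnt nt_c11_ge

theorem nt_c11_ord : orderOf (Net.toPerm 24 p_g139) = 6 :=
  orderOf_net p_hn p_hk p_g139_ok (by decide) (ps := [2, 3]) (by set_option linter.unusedSimpArgs false in simp [Nat.primeFactorsList_ofNat]) (by decide +kernel)

theorem p_le149 : grp 24 nt_c12_K ≤ grp 24 N_E0 :=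
  grp_le_of_memB p_hn p_hk N_E0_ok nt_c12_K_ok (ws := [nat_lit 0x1a1813150d0d0b0107, nat_lit 0x191719131511081a0503]) (by decide +kernel)

theorem nt_c12_le : grp 24 nt_c12_K ≤ (grp 24 EG) :=
  (p_le149.trans T_s0.le)

theorem nt_c12_mem : Net.toPerm 24 p_g147 ∈ (grp 24 EG) :=
  nt_c12_le (toPerm_mem_grp (E := nt_c12_K) (List.Mem.head _))

theorem nt_c12_sym : Sym 24 (grp 24 EG) [p_g147] nt_c12_K 0 :=
  Sym.of_lab p_hn p_hk (okE_cons.2 ⟨p_g147_ok, okE_nil _⟩) nt_c12_K_ok nt_c12_le (kT := 0) (by decide +kernel)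

noncomputable def nt_c12_cnt_L : List ℕ := [1, 2, T_s1_O, 0, 0, 3, 5, T_s3_O, 0, 0, 5, 11, T_s5_O, 0, 0, 6, 10, T_s6_O, 1, 0]

theorem nt_c12_cnt_P : Prob 24 5 (grp 24 EG) nt_c12_cnt_EG [p_g147] [p_g147] nt_c12_K nt_c12_cnt_L 0 0 :=
  Sym.prob p_hn p_hk nt_c12_sym nt_c12_cnt_EG_ok (grp_cons_le p_g22_T (grp_cons_le p_g1_T (grp_cons_le p_g2_T (grp_cons_le p_g29_T (grp_cons_le p_g25_T (grp_cons_le p_g26_T (grp_cons_le p_g36_T (grp_cons_le p_g32_T (grp_cons_le p_g33_T (grp_cons_le p_g43_T (grp_cons_le p_g40_T (grp_cons_le p_g47_T (grp_cons_le p_g46_T (grp_cons_le p_g39_T (grp_nil_le _))))))))))))))) (Frames.cons T_s1_F (Frames.cons T_s3_F (Frames.cons T_s5_F (Frames.cons T_s6_F Frames.nil)))) (okE_cons.2 ⟨p_g147_ok, okE_nil _⟩) _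

noncomputable def nt_c12_cnt_t : BT := (BT.br (nat_lit 2) (nat_lit 0) [nat_lit 1, nat_lit 3] (BT.dead (nat_lit 1) (BT.img (nat_lit 1) (nat_lit 0) (BT.img (nat_lit 1) (nat_lit 0) (BT.img (nat_lit 1) (nat_lit 0) (BT.frm (nat_lit 1) (nat_lit 922887) (nat_lit 0x110e090603) [nat_lit 0, nat_lit 2, nat_lit 3] (BT.pln (nat_lit 0) (nat_lit 3) (BT.and (nat_lit 0) (nat_lit 3) (BT.cnt (nat_lit 0)))))))) (BT.kid (nat_lit 0) (nat_lit 1) (BT.frm (nat_lit 0) (nat_lit 0) (nat_lit 0) [nat_lit 0] (BT.pln (nat_lit 0) (nat_lit 1) (BT.img (nat_lit 1) (nat_lit 2) (BT.img (nat_lit 1) (nat_lit 0) (BT.img (nat_lit 1) (nat_lit 0) (BT.img (nat_lit 1) (nat_lit 0) (BT.frm (nat_lit 2) (nat_lit 0x130e1507) (nat_lit 0x130e1507) [nat_lit 0, nat_lit 2, nat_lit 1, nat_lit 3, nat_lit 6] (BT.pln (nat_lit 0) (nat_lit 5) (BT.and (nat_lit 6) (nat_lit 0) (BT.br (nat_lit 0) (nat_lit 12) [] (BT.dead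 (nat_lit 6) (BT.frm (nat_lit 3) (nat_lit 0x19130e1507) (nat_lit 0x1a130e1507) [nat_lit 0, nat_lit 4, nat_lit 6, nat_lit 5, nat_lit 7, nat_lit 10] (BT.pln (nat_lit 0) (nat_lit 6) (BT.img (nat_lit 1) (nat_lit 2) (BT.and (nat_lit 1) (nat_lit 0) (BT.cnt (nat_lit 0)))))) (BT.dead (nat_lit 8) (BT.frm (nat_lit 3) (nat_lit 0x19130e1507) (nat_lit 0x130e1507) [nat_lit 0, nat_lit 4, nat_lit 6, nat_lit 5, nat_lit 7, nat_lit 10] (BT.pln (nat_lit 0) (nat_lit 6) (BT.img (nat_lit 1) (nat_lit 2) (BT.and (nat_lit 1) (nat_lit 0) (BT.cnt (nat_lit 0)))))) (BT.kid (nat_lit 12) (nat_lit 1) (BT.one (nat_lit 3) (nat_lit 0x19130e1507) (nat_lit 0x19130e1507) [nat_lit 0, nat_lit 4, nat_lit 6, nat_lit 5, nat_lit 7, nat_lit 10]) BT.nil))))))))))))) BT.nil)))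

theorem nt_c12_cnt : Cnt 24 (grp 24 EG) [p_g147] [p_g147] 0 0 0 0 12 :=
  BT.sound nt_c12_cnt_P Known.nil (t := nt_c12_cnt_t) (d := 0) (by decide +kernel)

theorem nt_c12_ge : 12 ≤ Nat.card (grp 24 nt_c12_K) :=
  Ch.le_card_grp (k := 5) (L := (lab 24 5)) p_hn nt_c12_K_ok (c := (Ch.cons (nat_lit 0) [nat_lit 1, nat_lit 3] Ch.nil)) (by decide +kernel)

theorem nt_c12_eq : (grp 24 EG) ⊓ Subgroup.centralizer {Net.toPerm 24 p_g147} = grp 24 nt_c12_K :=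
  cent_eq nt_c12_sym nt_c12_cnt nt_c12_ge

theorem nt_c12_card : Nat.card ↥((grp 24 EG) ⊓ Subgroup.centralizer {Net.toPerm 24 p_g147}) = 12 :=
  card_cent nt_c12_sym nt_c12_cnt nt_c12_ge

theorem nt_c12_ord : orderOf (Net.toPerm 24 p_g147) = 6 :=
  orderOf_net p_hn p_hk p_g147_ok (by decide) (ps := [2, 3]) (by set_option linter.unusedSimpArgs false in simp [Nat.primeFactorsList_ofNat]) (by decide +kernel)

theorem p_le151 : grp 24 nt_c13_K ≤ grp 24 N_E0 :=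
  grp_le_of_memB p_hn p_hk N_E0_ok nt_c13_K_ok (ws := [nat_lit 0x191714110e0c050a, nat_lit 0x1715110e081a0507]) (by decide +kernel)

theorem nt_c13_le : grp 24 nt_c13_K ≤ (grp 24 EG) :=
  (p_le151.trans T_s0.le)

theorem nt_c13_mem : Net.toPerm 24 p_g150 ∈ (grp 24 EG) :=
  nt_c13_le (toPerm_mem_grp (E := nt_c13_K) (List.Mem.head _))

theorem nt_c13_sym : Sym 24 (grp 24 EG) [p_g150] nt_c13_K 0 :=
  Sym.of_lab p_hn p_hk (okE_cons.2 ⟨p_g150_ok, okE_nil _⟩) nt_c13_K_ok nt_c13_le (kT := 0) (by decide +kernel)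

noncomputable def nt_c13_cnt_L : List ℕ := [1, 2, T_s1_O, 0, 0, 5, 9, T_s10_O, 1, 0]

theorem nt_c13_cnt_P : Prob 24 5 (grp 24 EG) nt_c13_cnt_EG [p_g150] [p_g150] nt_c13_K nt_c13_cnt_L 0 0 :=
  Sym.prob p_hn p_hk nt_c13_sym nt_c13_cnt_EG_ok (grp_cons_le p_g22_T (grp_cons_le p_g1_T (grp_cons_le p_g2_T (grp_cons_le p_g29_T (grp_cons_le p_g25_T (grp_cons_le p_g26_T (grp_cons_le p_g36_T (grp_cons_le p_g32_T (grp_cons_le p_g33_T (grp_cons_le p_g43_T (grp_cons_le p_g40_T (grp_cons_le p_g47_T (grp_cons_le p_g46_T (grp_cons_le p_g39_T (grp_cons_le p_g83_T (grp_cons_le p_g84_T (grp_cons_le p_g82_T (grp_cons_le p_g81_T (grp_nil_le _))))))))))))))))))) (Frames.cons T_s1_F (Frames.cons T_s10_F Frames.nil)) (okE_cons.2 ⟨p_g150_ok, okE_nil _⟩) _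

noncomputable def nt_c13_cnt_t : BT := (BT.fix (nat_lit 0x1010101) (BT.fix (nat_lit 257) (BT.dif (nat_lit 1) (nat_lit 0) (BT.br (nat_lit 0) (nat_lit 23) [nat_lit 1] (BT.kid (nat_lit 23) (nat_lit 2) (BT.dif (nat_lit 6) (nat_lit 3) (BT.frm (nat_lit 0) (nat_lit 261) (nat_lit 261) [nat_lit 1] (BT.pln (nat_lit 0) (nat_lit 1) (BT.dif (nat_lit 2) (nat_lit 0) (BT.br (nat_lit 0) (nat_lit 0) [nat_lit 3] (BT.dead (nat_lit 1) (BT.and (nat_lit 2) (nat_lit 8) (BT.img (nat_lit 1) (nat_lit 6) (BT.dif (nat_lit 1) (nat_lit 0) (BT.img (nat_lit 1) (nat_lit 1) (BT.dif (nat_lit 1) (nat_lit 0) (BT.frm (nat_lit 1) (nat_lit 852229) (nat_lit 0x1d200d0105) [nat_lit 5, nat_lit 0, nat_lit 1, nat_lit 3, nat_lit 10] (BT.pln (nat_lit 0) (nat_lit 5) (BT.img (nat_lit 1) (nat_lit 7) (BT.and (nat_lit 1) (nat_lit 0) (BT.cnt (nat_lit 0))))))))))) (BT.dead (nat_lit 16) (BT.and (nat_lit 2) (nat_lit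 8) (BT.img (nat_lit 1) (nat_lit 6) (BT.dif (nat_lit 1) (nat_lit 0) (BT.img (nat_lit 1) (nat_lit 1) (BT.dif (nat_lit 1) (nat_lit 0) (BT.frm (nat_lit 1) (nat_lit 852229) (nat_lit 0x1e0d0105) [nat_lit 5, nat_lit 0, nat_lit 1, nat_lit 3, nat_lit 10] (BT.pln (nat_lit 0) (nat_lit 5) (BT.fix (nat_lit 1) (BT.and (nat_lit 1) (nat_lit 0) (BT.cnt (nat_lit 0))))))))))) (BT.dead (nat_lit 2) (BT.and (nat_lit 2) (nat_lit 8) (BT.img (nat_lit 1) (nat_lit 6) (BT.dif (nat_lit 1) (nat_lit 0) (BT.img (nat_lit 1) (nat_lit 1) (BT.dif (nat_lit 1) (nat_lit 0) (BT.frm (nat_lit 1) (nat_lit 852229) (nat_lit 0x200d0105) [nat_lit 5, nat_lit 0, nat_lit 1, nat_lit 3, nat_lit 10] (BT.pln (nat_lit 0) (nat_lit 5) (BT.img (nat_lit 1) (nat_lit 7) (BT.and (nat_lit 1) (nat_lit 0) (BT.cnt (nat_lit 0))))))))))) (BT.kid (nat_lit 0) (nat_lit 1) (BT.and (nat_lit 2) (nat_lit 8) (BT.img (nat_lit 1)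 (nat_lit 6) (BT.dif (nat_lit 1) (nat_lit 0) (BT.img (nat_lit 1) (nat_lit 1) (BT.dif (nat_lit 1) (nat_lit 0) (BT.one (nat_lit 1) (nat_lit 852229) (nat_lit 852229) [nat_lit 5, nat_lit 0, nat_lit 1, nat_lit 3, nat_lit 10])))))) BT.nil))))))))) BT.nil)))))

theorem nt_c13_cnt : Cnt 24 (grp 24 EG) [p_g150] [p_g150] 0 0 0 0 8 :=
  BT.sound nt_c13_cnt_P Known.nil (t := nt_c13_cnt_t) (d := 0) (by decide +kernel)

theorem nt_c13_ge : 8 ≤ Nat.card (grp 24 nt_c13_K) :=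
  Ch.le_card_grp (k := 5) (L := (lab 24 5)) p_hn nt_c13_K_ok (c := (Ch.cons (nat_lit 23) [nat_lit 1] (Ch.cons (nat_lit 0) [nat_lit 3] Ch.nil))) (by decide +kernel)

theorem nt_c13_eq : (grp 24 EG) ⊓ Subgroup.centralizer {Net.toPerm 24 p_g150} = grp 24 nt_c13_K :=
  cent_eq nt_c13_sym nt_c13_cnt nt_c13_ge

theorem nt_c13_card : Nat.card ↥((grp 24 EG) ⊓ Subgroup.centralizer {Net.toPerm 24 p_g150}) = 8 :=
  card_cent nt_c13_sym nt_c13_cnt nt_c13_ge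

theorem nt_c13_ord : orderOf (Net.toPerm 24 p_g150) = 8 :=
  orderOf_net p_hn p_hk p_g150_ok (by decide) (ps := [2]) (by set_option linter.unusedSimpArgs false in simp [Nat.primeFactorsList_ofNat]) (by decide +kernel)

theorem p_le154 : grp 24 nt_c14_K ≤ grp 24 N_E0 :=
  grp_le_of_memB p_hn p_hk N_E0_ok nt_c14_K_ok (ws := [nat_lit 0x131507110105, nat_lit 0x1913110e0a010b]) (by decide +kernel)

theorem nt_c14_le : grp 24 nt_c14_K ≤ (grp 24 EG) :=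
  (p_le154.trans T_s0.le)

theorem nt_c14_mem : Net.toPerm 24 p_g152 ∈ (grp 24 EG) :=
  nt_c14_le (toPerm_mem_grp (E := nt_c14_K) (List.Mem.head _))

theorem nt_c14_sym : Sym 24 (grp 24 EG) [p_g152] nt_c14_K 0 :=
  Sym.of_lab p_hn p_hk (okE_cons.2 ⟨p_g152_ok, okE_nil _⟩) nt_c14_K_ok nt_c14_le (kT := 0) (by decide +kernel)

noncomputable def nt_c14_cnt_L : List ℕ := [1, 2, T_s1_O, 0, 0, 3, 5, T_s3_O, 0, 0, 6, 10, T_s6_O, 1, 0]

theorem nt_c14_cnt_P : Prob 24 5 (grp 24 EG) nt_c14_cnt_EG [p_g152] [p_g152] nt_c14_K nt_c14_cnt_L 0 0 :=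
  Sym.prob p_hn p_hk nt_c14_sym nt_c14_cnt_EG_ok (grp_cons_le p_g22_T (grp_cons_le p_g1_T (grp_cons_le p_g2_T (grp_cons_le p_g29_T (grp_cons_le p_g25_T (grp_cons_le p_g26_T (grp_cons_le p_g36_T (grp_cons_le p_g32_T (grp_cons_le p_g33_T (grp_cons_le p_g43_T (grp_cons_le p_g40_T (grp_cons_le p_g47_T (grp_cons_le p_g46_T (grp_cons_le p_g39_T (grp_nil_le _))))))))))))))) (Frames.cons T_s1_F (Frames.cons T_s3_F (Frames.cons T_s6_F Frames.nil))) (okE_cons.2 ⟨p_g152_ok, okE_nil _⟩) _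

noncomputable def nt_c14_cnt_t : BT := (BT.fix (nat_lit 257) (BT.dif (nat_lit 3) (nat_lit 0) (BT.br (nat_lit 0) (nat_lit 20) [nat_lit 1, nat_lit 3] (BT.kid (nat_lit 20) (nat_lit 1) (BT.frm (nat_lit 0) (nat_lit 515) (nat_lit 515) [nat_lit 0] (BT.pln (nat_lit 0) (nat_lit 1) (BT.img (nat_lit 1) (nat_lit 2) (BT.img (nat_lit 1) (nat_lit 0) (BT.img (nat_lit 1) (nat_lit 0) (BT.frm (nat_lit 1) (nat_lit 0xe15081a0203) (nat_lit 0xe15081a0203) [nat_lit 0, nat_lit 2, nat_lit 5] (BT.pln (nat_lit 0) (nat_lit 3) (BT.dif (nat_lit 5) (nat_lit 0) (BT.img (nat_lit 1) (nat_lit 3) (BT.dif (nat_lit 1) (nat_lit 0) (BT.dif (nat_lit 15) (nat_lit 8) (BT.dif (nat_lit 0) (nat_lit 11) (BT.and (nat_lit 10) (nat_lit 5) (BT.dif (nat_lit 0) (nat_lit 15) (BT.dif (nat_lit 0) (nat_lit 10) (BT.img (nat_lit 1) (nat_lit 6) (BT.img (nat_lit 1) (nat_lit 0) (BT.dif (nat_lit 2) (nat_lit 0) (BT.img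 (nat_lit 1) (nat_lit 1) (BT.img (nat_lit 1) (nat_lit 0) (BT.dif (nat_lit 2) (nat_lit 0) (BT.img (nat_lit 1) (nat_lit 0) (BT.and (nat_lit 10) (nat_lit 0) (BT.img (nat_lit 1) (nat_lit 0) (BT.and (nat_lit 14) (nat_lit 0) (BT.img (nat_lit 1) (nat_lit 0) (BT.and (nat_lit 14) (nat_lit 0) (BT.img (nat_lit 1) (nat_lit 0) (BT.and (nat_lit 18) (nat_lit 0) (BT.one (nat_lit 2) (nat_lit 0x19150e15081a0203) (nat_lit 0x19150e15081a0203) [nat_lit 0, nat_lit 4, nat_lit 20, nat_lit 24, nat_lit 26, nat_lit 29])))))))))))))))))))))))))))))) BT.nil))))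

theorem nt_c14_cnt : Cnt 24 (grp 24 EG) [p_g152] [p_g152] 0 0 0 0 20 :=
  BT.sound nt_c14_cnt_P Known.nil (t := nt_c14_cnt_t) (d := 0) (by decide +kernel)

theorem nt_c14_ge : 20 ≤ Nat.card (grp 24 nt_c14_K) :=
  Ch.le_card_grp (k := 5) (L := (lab 24 5)) p_hn nt_c14_K_ok (c := (Ch.cons (nat_lit 20) [nat_lit 1, nat_lit 3] Ch.nil)) (by decide +kernel)

theorem nt_c14_eq : (grp 24 EG) ⊓ Subgroup.centralizer {Net.toPerm 24 p_g152} = grp 24 nt_c14_K :=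
  cent_eq nt_c14_sym nt_c14_cnt nt_c14_ge

theorem nt_c14_card : Nat.card ↥((grp 24 EG) ⊓ Subgroup.centralizer {Net.toPerm 24 p_g152}) = 20 :=
  card_cent nt_c14_sym nt_c14_cnt nt_c14_ge

theorem nt_c14_ord : orderOf (Net.toPerm 24 p_g152) = 10 :=
  orderOf_net p_hn p_hk p_g152_ok (by decide) (ps := [2, 5]) (by set_option linter.unusedSimpArgs false in simp [Nat.primeFactorsList_ofNat]) (by decide +kernel)

theorem p_le157 : grp 24 nt_c15_K ≤ grp 24 N_E0 :=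
  grp_le_of_memB p_hn p_hk N_E0_ok nt_c15_K_ok (ws := [nat_lit 0x13150c0105, nat_lit 0x1917140e0e07070514]) (by decide +kernel)

theorem nt_c15_le : grp 24 nt_c15_K ≤ (grp 24 EG) :=
  (p_le157.trans T_s0.le)

theorem nt_c15_mem : Net.toPerm 24 p_g155 ∈ (grp 24 EG) :=
  nt_c15_le (toPerm_mem_grp (E := nt_c15_K) (List.Mem.head _))

theorem nt_c15_sym : Sym 24 (grp 24 EG) [p_g155] nt_c15_K 0 :=
  Sym.of_lab p_hn p_hk (okE_cons.2 ⟨p_g155_ok, okE_nil _⟩) nt_c15_K_ok nt_c15_le (kT := 0) (by decide +kernel)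

noncomputable def nt_c15_cnt_L : List ℕ := [6, 10, T_s6_O, 1, 0]

theorem nt_c15_cnt_P : Prob 24 5 (grp 24 EG) nt_c15_cnt_EG [p_g155] [p_g155] nt_c15_K nt_c15_cnt_L 0 0 :=
  Sym.prob p_hn p_hk nt_c15_sym nt_c15_cnt_EG_ok (grp_cons_le p_g46_T (grp_cons_le p_g39_T (grp_cons_le p_g47_T (grp_cons_le p_g43_T (grp_cons_le p_g40_T (grp_cons_le p_g36_T (grp_cons_le p_g32_T (grp_cons_le p_g33_T (grp_cons_le p_g29_T (grp_cons_le p_g25_T (grp_cons_le p_g26_T (grp_cons_le p_g22_T (grp_cons_le p_g1_T (grp_cons_le p_g2_T (grp_nil_le _))))))))))))))) (Frames.cons T_s6_F Frames.nil) (okE_cons.2 ⟨p_g155_ok, okE_nil _⟩) _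

noncomputable def nt_c15_cnt_t : BT := (BT.fix (nat_lit 257) (BT.dif (nat_lit 3) (nat_lit 0) (BT.br (nat_lit 0) (nat_lit 20) [nat_lit 1, nat_lit 3] (BT.kid (nat_lit 20) (nat_lit 1) (BT.img (nat_lit 1) (nat_lit 0) (BT.img (nat_lit 1) (nat_lit 0) (BT.img (nat_lit 1) (nat_lit 0) (BT.img (nat_lit 1) (nat_lit 0) (BT.img (nat_lit 1) (nat_lit 0) (BT.img (nat_lit 1) (nat_lit 0) (BT.img (nat_lit 1) (nat_lit 0) (BT.img (nat_lit 1) (nat_lit 0) (BT.one (nat_lit 0) (nat_lit 0x70b141819) (nat_lit 0x70b141819) [nat_lit 0, nat_lit 2, nat_lit 4, nat_lit 5, nat_lit 7, nat_lit 8]))))))))) BT.nil))))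

theorem nt_c15_cnt : Cnt 24 (grp 24 EG) [p_g155] [p_g155] 0 0 0 0 20 :=
  BT.sound nt_c15_cnt_P Known.nil (t := nt_c15_cnt_t) (d := 0) (by decide +kernel)

theorem nt_c15_ge : 20 ≤ Nat.card (grp 24 nt_c15_K) :=
  Ch.le_card_grp (k := 5) (L := (lab 24 5)) p_hn nt_c15_K_ok (c := (Ch.cons (nat_lit 20) [nat_lit 1, nat_lit 3] Ch.nil)) (by decide +kernel)

theorem nt_c15_eq : (grp 24 EG) ⊓ Subgroup.centralizer {Net.toPerm 24 p_g155} = grp 24 nt_c15_K :=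
  cent_eq nt_c15_sym nt_c15_cnt nt_c15_ge

theorem nt_c15_card : Nat.card ↥((grp 24 EG) ⊓ Subgroup.centralizer {Net.toPerm 24 p_g155}) = 20 :=
  card_cent nt_c15_sym nt_c15_cnt nt_c15_ge

theorem nt_c15_ord : orderOf (Net.toPerm 24 p_g155) = 10 :=
  orderOf_net p_hn p_hk p_g155_ok (by decide) (ps := [2, 5]) (by set_option linter.unusedSimpArgs false in simp [Nat.primeFactorsList_ofNat]) (by decide +kernel)

theorem p_le160 : grp 24 nt_c16_K ≤ grp 24 N_E0 :=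
  grp_le_of_memB p_hn p_hk N_E0_ok nt_c16_K_ok (ws := [nat_lit 0x1a140c0514, nat_lit 0x1917150c010b]) (by decide +kernel)

theorem nt_c16_le : grp 24 nt_c16_K ≤ (grp 24 EG) :=
  (p_le160.trans T_s0.le)

theorem nt_c16_mem : Net.toPerm 24 p_g158 ∈ (grp 24 EG) :=
  nt_c16_le (toPerm_mem_grp (E := nt_c16_K) (List.Mem.head _))

theorem nt_c16_sym : Sym 24 (grp 24 EG) [p_g158] nt_c16_K 0 :=
  Sym.of_lab p_hn p_hk (okE_cons.2 ⟨p_g158_ok, okE_nil _⟩) nt_c16_K_ok nt_c16_le (kT := 0) (by decide +kernel)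

noncomputable def nt_c16_cnt_L : List ℕ := [5, 9, T_s14_O, 1, 0]

theorem nt_c16_cnt_P : Prob 24 5 (grp 24 EG) nt_c16_cnt_EG [p_g158] [p_g158] nt_c16_K nt_c16_cnt_L 0 0 :=
  Sym.prob p_hn p_hk nt_c16_sym nt_c16_cnt_EG_ok (grp_cons_le p_g83_T (grp_cons_le p_g84_T (grp_cons_le p_g82_T (grp_cons_le p_g81_T (grp_cons_le p_g29_T (grp_cons_le p_g25_T (grp_cons_le p_g26_T (grp_cons_le p_g36_T (grp_cons_le p_g32_T (grp_cons_le p_g33_T (grp_cons_le p_g43_T (grp_cons_le p_g40_T (grp_cons_le p_g47_T (grp_cons_le p_g46_T (grp_cons_le p_g39_T (grp_cons_le p_g22_T (grp_cons_le p_g1_T (grp_cons_le p_g2_T (grp_nil_le _))))))))))))))))))) (Frames.cons T_s14_F Frames.nil) (okE_cons.2 ⟨p_g158_ok, okE_nil _⟩) _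

noncomputable def nt_c16_cnt_t : BT := (BT.fix (nat_lit 257) (BT.dif (nat_lit 3) (nat_lit 0) (BT.br (nat_lit 0) (nat_lit 0) [nat_lit 1, nat_lit 3] (BT.kid (nat_lit 0) (nat_lit 1) (BT.img (nat_lit 1) (nat_lit 0) (BT.img (nat_lit 1) (nat_lit 0) (BT.img (nat_lit 1) (nat_lit 0) (BT.img (nat_lit 1) (nat_lit 0) (BT.one (nat_lit 0) (nat_lit 0x10306070213) (nat_lit 0x10306070213) [nat_lit 0, nat_lit 1, nat_lit 2, nat_lit 3, nat_lit 4]))))) BT.nil))))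

theorem nt_c16_cnt : Cnt 24 (grp 24 EG) [p_g158] [p_g158] 0 0 0 0 20 :=
  BT.sound nt_c16_cnt_P Known.nil (t := nt_c16_cnt_t) (d := 0) (by decide +kernel)

theorem nt_c16_ge : 20 ≤ Nat.card (grp 24 nt_c16_K) :=
  Ch.le_card_grp (k := 5) (L := (lab 24 5)) p_hn nt_c16_K_ok (c := (Ch.cons (nat_lit 0) [nat_lit 1, nat_lit 3] Ch.nil)) (by decide +kernel)

theorem nt_c16_eq : (grp 24 EG) ⊓ Subgroup.centralizer {Net.toPerm 24 p_g158} = grp 24 nt_c16_K :=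
  cent_eq nt_c16_sym nt_c16_cnt nt_c16_ge

theorem nt_c16_card : Nat.card ↥((grp 24 EG) ⊓ Subgroup.centralizer {Net.toPerm 24 p_g158}) = 20 :=
  card_cent nt_c16_sym nt_c16_cnt nt_c16_ge

theorem nt_c16_ord : orderOf (Net.toPerm 24 p_g158) = 10 :=
  orderOf_net p_hn p_hk p_g158_ok (by decide) (ps := [2, 5]) (by set_option linter.unusedSimpArgs false in simp [Nat.primeFactorsList_ofNat]) (by decide +kernel)

theorem p_le162 : grp 24 nt_c17_K ≤ grp 24 N_E0 :=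
  grp_le_of_memB p_hn p_hk N_E0_ok nt_c17_K_ok (ws := [nat_lit 0xd08080508]) (by decide +kernel)

theorem nt_c17_le : grp 24 nt_c17_K ≤ (grp 24 EG) :=
  (p_le162.trans T_s0.le)

theorem nt_c17_mem : Net.toPerm 24 p_g161 ∈ (grp 24 EG) :=
  nt_c17_le (toPerm_mem_grp (E := nt_c17_K) (List.Mem.head _))

theorem nt_c17_sym : Sym 24 (grp 24 EG) [p_g161] nt_c17_K 0 :=
  Sym.of_lab p_hn p_hk (okE_cons.2 ⟨p_g161_ok, okE_nil _⟩) nt_c17_K_ok nt_c17_le (kT := 0) (by decide +kernel)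

noncomputable def T_s15_O : ℕ := (nat_lit 0xac800b004a0000001400000000008)

theorem T_s15_F : Frame 24 (grp 24 EG) 3 5 T_s15_O 0 1 :=
  Stab.frame p_hn T_s15 (by decide +kernel)

noncomputable def nt_c17_cnt_L : List ℕ := [1, 2, T_s1_O, 0, 0, 3, 5, T_s15_O, 0, 0, 5, 9, T_s17_O, 1, 0]

theorem nt_c17_cnt_P : Prob 24 5 (grp 24 EG) nt_c17_cnt_EG [p_g161] [p_g161] nt_c17_K nt_c17_cnt_L 0 0 :=
  Sym.prob p_hn p_hk nt_c17_sym nt_c17_cnt_EG_ok (grp_cons_le p_g22_T (grp_cons_le p_g1_T (grp_cons_le p_g2_T (grp_cons_le p_g29_T (grp_cons_le p_g25_T (grp_cons_le p_g26_T (grp_cons_le p_g36_T (grp_cons_le p_g32_T (grp_cons_le p_g33_T (grp_cons_le p_g43_T (grp_cons_le p_g40_T (grp_cons_le p_g47_T (grp_cons_le p_g46_T (grp_cons_le p_g39_T (grp_cons_le p_g142_T (grp_cons_le p_g99_T (grp_cons_le p_g141_T (grp_nil_le _)))))))))))))))))) (Frames.cons T_s1_F (Frames.cons T_s15_F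 (Frames.cons T_s17_F Frames.nil))) (okE_cons.2 ⟨p_g161_ok, okE_nil _⟩) _

noncomputable def nt_c17_cnt_t : BT := (BT.fix (nat_lit 1) (BT.dif (nat_lit 3) (nat_lit 0) (BT.br (nat_lit 0) (nat_lit 0) [nat_lit 1] (BT.dead (nat_lit 5) (BT.frm (nat_lit 0) (nat_lit 0) (nat_lit 264) [nat_lit 0] (BT.pln (nat_lit 0) (nat_lit 1) (BT.dif (nat_lit 7) (nat_lit 0) (BT.dif (nat_lit 0) (nat_lit 3) (BT.img (nat_lit 1) (nat_lit 4) (BT.dif (nat_lit 7) (nat_lit 3) (BT.frm (nat_lit 1) (nat_lit 919313) (nat_lit 0x1208080108) [nat_lit 1, nat_lit 0, nat_lit 6] (BT.pln (nat_lit 0) (nat_lit 3) (BT.and (nat_lit 4) (nat_lit 0) (BT.pln (nat_lit 2) (nat_lit 4) (BT.and (nat_lit 6) (nat_lit 0) (BT.img (nat_lit 1) (nat_lit 1) (BT.and (nat_lit 1) (nat_lit 0) (BT.img (nat_lit 1) (nat_lit 0) (BT.and (nat_lit 5) (nat_lit 0) (BT.img (nat_lit 1) (nat_lit 0) (BT.and (nat_lit 7) (nat_lit 0) (BT.img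 (nat_lit 1) (nat_lit 0) (BT.and (nat_lit 0) (nat_lit 10) (BT.cnt (nat_lit 0))))))))))))))))))))) (BT.kid (nat_lit 0) (nat_lit 1) (BT.img (nat_lit 1) (nat_lit 0) (BT.img (nat_lit 1) (nat_lit 0) (BT.img (nat_lit 1) (nat_lit 0) (BT.img (nat_lit 1) (nat_lit 0) (BT.frm (nat_lit 0) (nat_lit 0) (nat_lit 0) [nat_lit 4] (BT.pln (nat_lit 0) (nat_lit 1) (BT.dif (nat_lit 8) (nat_lit 0) (BT.one (nat_lit 2) (nat_lit 0x1e22220e0711) (nat_lit 0x1e22220e0711) [nat_lit 3, nat_lit 5, nat_lit 6, nat_lit 0, nat_lit 7])))))))) BT.nil)))))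

theorem nt_c17_cnt : Cnt 24 (grp 24 EG) [p_g161] [p_g161] 0 0 0 0 11 :=
  BT.sound nt_c17_cnt_P Known.nil (t := nt_c17_cnt_t) (d := 0) (by decide +kernel)

theorem nt_c17_ge : 11 ≤ Nat.card (grp 24 nt_c17_K) :=
  Ch.le_card_grp (k := 5) (L := (lab 24 5)) p_hn nt_c17_K_ok (c := (Ch.cons (nat_lit 0) [nat_lit 1] Ch.nil)) (by decide +kernel)

theorem nt_c17_eq : (grp 24 EG) ⊓ Subgroup.centralizer {Net.toPerm 24 p_g161} = grp 24 nt_c17_K :=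
  cent_eq nt_c17_sym nt_c17_cnt nt_c17_ge

theorem nt_c17_card : Nat.card ↥((grp 24 EG) ⊓ Subgroup.centralizer {Net.toPerm 24 p_g161}) = 11 :=
  card_cent nt_c17_sym nt_c17_cnt nt_c17_ge

theorem nt_c17_ord : orderOf (Net.toPerm 24 p_g161) = 11 :=
  orderOf_net p_hn p_hk p_g161_ok (by decide) (ps := [11]) (by set_option linter.unusedSimpArgs false in simp [Nat.primeFactorsList_ofNat]) (by decide +kernel)

theorem p_le164 : grp 24 nt_c18_K ≤ grp 24 N_E0 :=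
  grp_le_of_memB p_hn p_hk N_E0_ok nt_c18_K_ok (ws := [nat_lit 0x1917190d190204]) (by decide +kernel)

theorem nt_c18_le : grp 24 nt_c18_K ≤ (grp 24 EG) :=
  (p_le164.trans T_s0.le)

theorem nt_c18_mem : Net.toPerm 24 p_g163 ∈ (grp 24 EG) :=
  nt_c18_le (toPerm_mem_grp (E := nt_c18_K) (List.Mem.head _))

theorem nt_c18_sym : Sym 24 (grp 24 EG) [p_g163] nt_c18_K 0 :=
  Sym.of_lab p_hn p_hk (okE_cons.2 ⟨p_g163_ok, okE_nil _⟩) nt_c18_K_ok nt_c18_le (kT := 0) (by decide +kernel)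

noncomputable def nt_c18_cnt_L : List ℕ := [1, 2, T_s1_O, 0, 0, 3, 5, T_s3_O, 0, 0, 5, 11, T_s5_O, 0, 0, 6, 10, T_s6_O, 1, 0]

theorem nt_c18_cnt_P : Prob 24 5 (grp 24 EG) nt_c18_cnt_EG [p_g163] [p_g163] nt_c18_K nt_c18_cnt_L 0 0 :=
  Sym.prob p_hn p_hk nt_c18_sym nt_c18_cnt_EG_ok (grp_cons_le p_g22_T (grp_cons_le p_g1_T (grp_cons_le p_g2_T (grp_cons_le p_g29_T (grp_cons_le p_g25_T (grp_cons_le p_g26_T (grp_cons_le p_g36_T (grp_cons_le p_g32_T (grp_cons_le p_g33_T (grp_cons_le p_g43_T (grp_cons_le p_g40_T (grp_cons_le p_g47_T (grp_cons_le p_g46_T (grp_cons_le p_g39_T (grp_nil_le _))))))))))))))) (Frames.cons T_s1_F (Frames.cons T_s3_F (Frames.cons T_s5_F (Frames.cons T_s6_F Frames.nil)))) (okE_cons.2 ⟨p_g163_ok, okE_nil _⟩) _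

noncomputable def nt_c18_cnt_t : BT := (BT.fix (nat_lit 0x10101010101) (BT.dif (nat_lit 3) (nat_lit 0) (BT.fix (nat_lit 0x1010101) (BT.dif (nat_lit 1) (nat_lit 0) (BT.br (nat_lit 0) (nat_lit 0) [nat_lit 1] (BT.kid (nat_lit 0) (nat_lit 1) (BT.frm (nat_lit 0) (nat_lit 0) (nat_lit 0) [nat_lit 0] (BT.pln (nat_lit 0) (nat_lit 1) (BT.and (nat_lit 0) (nat_lit 6) (BT.fix (nat_lit 257) (BT.dif (nat_lit 1) (nat_lit 0) (BT.dif (nat_lit 12) (nat_lit 3) (BT.and (nat_lit 0) (nat_lit 10) (BT.dif (nat_lit 0) (nat_lit 3) (BT.img (nat_lit 1) (nat_lit 8) (BT.img (nat_lit 1) (nat_lit 0) (BT.img (nat_lit 1) (nat_lit 0) (BT.frm (nat_lit 1) (nat_lit 0xe0e0808) (nat_lit 0xe0e0808) [nat_lit 0, nat_lit 2, nat_lit 11] (BT.pln (nat_lit 0) (nat_lit 3) (BT.and (nat_lit 8) (nat_lit 0) (BT.img (nat_lit 1) (nat_lit 0) (BT.and (nat_lit 7) (nat_lit 0) (BT.img (nat_lit 1) (nat_lit 0) (BT.and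 (nat_lit 12) (nat_lit 0) (BT.img (nat_lit 1) (nat_lit 7) (BT.frm (nat_lit 2) (nat_lit 0x13150e0e0808) (nat_lit 0x13150e0e0808) [nat_lit 1, nat_lit 0, nat_lit 8, nat_lit 10, nat_lit 19] (BT.pln (nat_lit 0) (nat_lit 5) (BT.and (nat_lit 16) (nat_lit 0) (BT.one (nat_lit 3) (nat_lit 0x1913150e0e0808) (nat_lit 0x1913150e0e0808) [nat_lit 0, nat_lit 4, nat_lit 3, nat_lit 11, nat_lit 13, nat_lit 22]))))))))))))))))))))))) BT.nil))))))

theorem nt_c18_cnt : Cnt 24 (grp 24 EG) [p_g163] [p_g163] 0 0 0 0 12 :=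
  BT.sound nt_c18_cnt_P Known.nil (t := nt_c18_cnt_t) (d := 0) (by decide +kernel)

theorem nt_c18_ge : 12 ≤ Nat.card (grp 24 nt_c18_K) :=
  Ch.le_card_grp (k := 5) (L := (lab 24 5)) p_hn nt_c18_K_ok (c := (Ch.cons (nat_lit 0) [nat_lit 1] Ch.nil)) (by decide +kernel)

theorem nt_c18_eq : (grp 24 EG) ⊓ Subgroup.centralizer {Net.toPerm 24 p_g163} = grp 24 nt_c18_K :=
  cent_eq nt_c18_sym nt_c18_cnt nt_c18_ge

theorem nt_c18_card : Nat.card ↥((grp 24 EG) ⊓ Subgroup.centralizer {Net.toPerm 24 p_g163}) = 12 :=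
  card_cent nt_c18_sym nt_c18_cnt nt_c18_ge

theorem nt_c18_ord : orderOf (Net.toPerm 24 p_g163) = 12 :=
  orderOf_net p_hn p_hk p_g163_ok (by decide) (ps := [2, 3]) (by set_option linter.unusedSimpArgs false in simp [Nat.primeFactorsList_ofNat]) (by decide +kernel)

theorem p_le166 : grp 24 nt_c19_K ≤ grp 24 N_E0 :=
  grp_le_of_memB p_hn p_hk N_E0_ok nt_c19_K_ok (ws := [nat_lit 0x1813150d0d0b0103]) (by decide +kernel)

theorem nt_c19_le : grp 24 nt_c19_K ≤ (grp 24 EG) :=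
  (p_le166.trans T_s0.le)

theorem nt_c19_mem : Net.toPerm 24 p_g165 ∈ (grp 24 EG) :=
  nt_c19_le (toPerm_mem_grp (E := nt_c19_K) (List.Mem.head _))

theorem nt_c19_sym : Sym 24 (grp 24 EG) [p_g165] nt_c19_K 0 :=
  Sym.of_lab p_hn p_hk (okE_cons.2 ⟨p_g165_ok, okE_nil _⟩) nt_c19_K_ok nt_c19_le (kT := 0) (by decide +kernel)

noncomputable def nt_c19_cnt_L : List ℕ := [6, 10, T_s6_O, 1, 0]

theorem nt_c19_cnt_P : Prob 24 5 (grp 24 EG) nt_c19_cnt_EG [p_g165] [p_g165] nt_c19_K nt_c19_cnt_L 0 0 :=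
  Sym.prob p_hn p_hk nt_c19_sym nt_c19_cnt_EG_ok (grp_cons_le p_g46_T (grp_cons_le p_g39_T (grp_cons_le p_g47_T (grp_cons_le p_g43_T (grp_cons_le p_g40_T (grp_cons_le p_g36_T (grp_cons_le p_g32_T (grp_cons_le p_g33_T (grp_cons_le p_g29_T (grp_cons_le p_g25_T (grp_cons_le p_g26_T (grp_cons_le p_g22_T (grp_cons_le p_g1_T (grp_cons_le p_g2_T (grp_nil_le _))))))))))))))) (Frames.cons T_s6_F Frames.nil) (okE_cons.2 ⟨p_g165_ok, okE_nil _⟩) _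

noncomputable def nt_c19_cnt_t : BT := (BT.fix (nat_lit 0x10101010101) (BT.dif (nat_lit 3) (nat_lit 0) (BT.fix (nat_lit 0x1010101) (BT.dif (nat_lit 1) (nat_lit 0) (BT.br (nat_lit 0) (nat_lit 0) [nat_lit 1] (BT.kid (nat_lit 0) (nat_lit 1) (BT.img (nat_lit 1) (nat_lit 0) (BT.img (nat_lit 1) (nat_lit 0) (BT.img (nat_lit 1) (nat_lit 0) (BT.img (nat_lit 1) (nat_lit 0) (BT.img (nat_lit 1) (nat_lit 0) (BT.img (nat_lit 1) (nat_lit 0) (BT.img (nat_lit 1) (nat_lit 0) (BT.img (nat_lit 1) (nat_lit 0) (BT.one (nat_lit 0) (nat_lit 532) (nat_lit 532) [nat_lit 0, nat_lit 4, nat_lit 6, nat_lit 5, nat_lit 7, nat_lit 8]))))))))) BT.nil))))))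

theorem nt_c19_cnt : Cnt 24 (grp 24 EG) [p_g165] [p_g165] 0 0 0 0 12 :=
  BT.sound nt_c19_cnt_P Known.nil (t := nt_c19_cnt_t) (d := 0) (by decide +kernel)

theorem nt_c19_ge : 12 ≤ Nat.card (grp 24 nt_c19_K) :=
  Ch.le_card_grp (k := 5) (L := (lab 24 5)) p_hn nt_c19_K_ok (c := (Ch.cons (nat_lit 0) [nat_lit 1] Ch.nil)) (by decide +kernel)

theorem nt_c19_eq : (grp 24 EG) ⊓ Subgroup.centralizer {Net.toPerm 24 p_g165} = grp 24 nt_c19_K :=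
  cent_eq nt_c19_sym nt_c19_cnt nt_c19_ge

theorem nt_c19_card : Nat.card ↥((grp 24 EG) ⊓ Subgroup.centralizer {Net.toPerm 24 p_g165}) = 12 :=
  card_cent nt_c19_sym nt_c19_cnt nt_c19_ge

theorem nt_c19_ord : orderOf (Net.toPerm 24 p_g165) = 12 :=
  orderOf_net p_hn p_hk p_g165_ok (by decide) (ps := [2, 3]) (by set_option linter.unusedSimpArgs false in simp [Nat.primeFactorsList_ofNat]) (by decide +kernel)

theorem p_le168 : grp 24 nt_c20_K ≤ grp 24 N_E0 :=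
  grp_le_of_memB p_hn p_hk N_E0_ok nt_c20_K_ok (ws := [nat_lit 0x1a170e090105]) (by decide +kernel)

theorem nt_c20_le : grp 24 nt_c20_K ≤ (grp 24 EG) :=
  (p_le168.trans T_s0.le)

theorem nt_c20_mem : Net.toPerm 24 p_g167 ∈ (grp 24 EG) :=
  nt_c20_le (toPerm_mem_grp (E := nt_c20_K) (List.Mem.head _))

theorem nt_c20_sym : Sym 24 (grp 24 EG) [p_g167] nt_c20_K 0 :=
  Sym.of_lab p_hn p_hk (okE_cons.2 ⟨p_g167_ok, okE_nil _⟩) nt_c20_K_ok nt_c20_le (kT := 0) (by decide +kernel)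

noncomputable def nt_c20_cnt_L : List ℕ := [1, 2, T_s1_O, 0, 0, 3, 5, T_s3_O, 0, 0, 6, 10, T_s6_O, 1, 0]

theorem nt_c20_cnt_P : Prob 24 5 (grp 24 EG) nt_c20_cnt_EG [p_g167] [p_g167] nt_c20_K nt_c20_cnt_L 0 0 :=
  Sym.prob p_hn p_hk nt_c20_sym nt_c20_cnt_EG_ok (grp_cons_le p_g22_T (grp_cons_le p_g1_T (grp_cons_le p_g2_T (grp_cons_le p_g29_T (grp_cons_le p_g25_T (grp_cons_le p_g26_T (grp_cons_le p_g36_T (grp_cons_le p_g32_T (grp_cons_le p_g33_T (grp_cons_le p_g43_T (grp_cons_le p_g40_T (grp_cons_le p_g47_T (grp_cons_le p_g46_T (grp_cons_le p_g39_T (grp_nil_le _))))))))))))))) (Frames.cons T_s1_F (Frames.cons T_s3_F (Frames.cons T_s6_F Frames.nil))) (okE_cons.2 ⟨p_g167_ok, okE_nil _⟩) _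

noncomputable def nt_c20_cnt_t : BT := (BT.br (nat_lit 2) (nat_lit 0) [nat_lit 1] (BT.dead (nat_lit 1) (BT.frm (nat_lit 0) (nat_lit 0) (nat_lit 1539) [nat_lit 0] (BT.pln (nat_lit 0) (nat_lit 1) (BT.dif (nat_lit 5) (nat_lit 0) (BT.dif (nat_lit 0) (nat_lit 3) (BT.img (nat_lit 1) (nat_lit 4) (BT.dif (nat_lit 1) (nat_lit 0) (BT.img (nat_lit 1) (nat_lit 1) (BT.img (nat_lit 1) (nat_lit 0) (BT.dif (nat_lit 2) (nat_lit 0) (BT.frm (nat_lit 1) (nat_lit 858380) (nat_lit 853507) [nat_lit 1, nat_lit 4, nat_lit 9] (BT.pln (nat_lit 0) (nat_lit 3) (BT.dif (nat_lit 9) (nat_lit 0) (BT.dif (nat_lit 0) (nat_lit 5) (BT.img (nat_lit 1) (nat_lit 5) (BT.dif (nat_lit 1) (nat_lit 0) (BT.and (nat_lit 13) (nat_lit 4) (BT.img (nat_lit 1) (nat_lit 2) (BT.img (nat_lit 1) (nat_lit 0) (BT.dif (nat_lit 2) (nat_lit 0) (BT.img (nat_lit 1) (nat_lit 1) (BT.img (nat_lit 1) (nat_lit 0) (BT.dif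 (nat_lit 2) (nat_lit 0) (BT.img (nat_lit 1) (nat_lit 1) (BT.img (nat_lit 1) (nat_lit 0) (BT.dif (nat_lit 2) (nat_lit 0) (BT.img (nat_lit 1) (nat_lit 0) (BT.and (nat_lit 20) (nat_lit 0) (BT.img (nat_lit 1) (nat_lit 0) (BT.and (nat_lit 12) (nat_lit 0) (BT.img (nat_lit 1) (nat_lit 0) (BT.and (nat_lit 21) (nat_lit 0) (BT.img (nat_lit 1) (nat_lit 0) (BT.and (nat_lit 17) (nat_lit 0) (BT.img (nat_lit 1) (nat_lit 0) (BT.and (nat_lit 25) (nat_lit 0) (BT.img (nat_lit 1) (nat_lit 0) (BT.and (nat_lit 0) (nat_lit 25) (BT.cnt (nat_lit 0))))))))))))))))))))))))))))))))))))))) (BT.kid (nat_lit 0) (nat_lit 1) (BT.frm (nat_lit 0) (nat_lit 0) (nat_lit 0) [nat_lit 0] (BT.pln (nat_lit 0) (nat_lit 1) (BT.img (nat_lit 1) (nat_lit 2) (BT.img (nat_lit 1) (nat_lit 0) (BT.img (nat_lit 1) (nat_lit 0) (BT.frm (nat_lit 1) (nat_lit 858380) (nat_lit 858380) [nat_lit 0, nat_lit 2, nat_lit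 5] (BT.pln (nat_lit 0) (nat_lit 3) (BT.dif (nat_lit 5) (nat_lit 0) (BT.dif (nat_lit 0) (nat_lit 4) (BT.img (nat_lit 1) (nat_lit 4) (BT.dif (nat_lit 1) (nat_lit 0) (BT.dif (nat_lit 14) (nat_lit 9) (BT.dif (nat_lit 0) (nat_lit 12) (BT.dif (nat_lit 0) (nat_lit 10) (BT.and (nat_lit 12) (nat_lit 7) (BT.img (nat_lit 1) (nat_lit 5) (BT.img (nat_lit 1) (nat_lit 0) (BT.dif (nat_lit 2) (nat_lit 0) (BT.img (nat_lit 1) (nat_lit 1) (BT.img (nat_lit 1) (nat_lit 0) (BT.dif (nat_lit 2) (nat_lit 0) (BT.img (nat_lit 1) (nat_lit 1) (BT.img (nat_lit 1) (nat_lit 0) (BT.dif (nat_lit 2) (nat_lit 0) (BT.img (nat_lit 1) (nat_lit 0) (BT.and (nat_lit 11) (nat_lit 0) (BT.img (nat_lit 1) (nat_lit 0) (BT.dif (nat_lit 16) (nat_lit 0) (BT.one (nat_lit 2) (nat_lit 0x1a1719140d190c) (nat_lit 0x1a1719140d190c) [nat_lit 0, nat_lit 18, nat_lit 24, nat_lit 23, nat_lit 25, nat_lit 28])))))))))))))))))))))))))))))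 BT.nil)))

theorem nt_c20_cnt : Cnt 24 (grp 24 EG) [p_g167] [p_g167] 0 0 0 0 12 :=
  BT.sound nt_c20_cnt_P Known.nil (t := nt_c20_cnt_t) (d := 0) (by decide +kernel)

theorem nt_c20_ge : 12 ≤ Nat.card (grp 24 nt_c20_K) :=
  Ch.le_card_grp (k := 5) (L := (lab 24 5)) p_hn nt_c20_K_ok (c := (Ch.cons (nat_lit 0) [nat_lit 1] Ch.nil)) (by decide +kernel)

theorem nt_c20_eq : (grp 24 EG) ⊓ Subgroup.centralizer {Net.toPerm 24 p_g167} = grp 24 nt_c20_K :=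
  cent_eq nt_c20_sym nt_c20_cnt nt_c20_ge

theorem nt_c20_card : Nat.card ↥((grp 24 EG) ⊓ Subgroup.centralizer {Net.toPerm 24 p_g167}) = 12 :=
  card_cent nt_c20_sym nt_c20_cnt nt_c20_ge

theorem nt_c20_ord : orderOf (Net.toPerm 24 p_g167) = 12 :=
  orderOf_net p_hn p_hk p_g167_ok (by decide) (ps := [2, 3]) (by set_option linter.unusedSimpArgs false in simp [Nat.primeFactorsList_ofNat]) (by decide +kernel)

noncomputable def nt_xs : List Net := [Net.nil, p_g76, p_g90, p_g95, p_g107, p_g114, p_g118, p_g123, p_g128, p_g98, p_g135, p_g139, p_g147, p_g150, p_g152, p_g155, p_g158, p_g161, p_g163, p_g165, p_g167]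

noncomputable def nt_cs : List ℕ := [190080, 480, 384, 240, 108, 72, 48, 32, 24, 20, 24, 12, 12, 8, 20, 20, 20, 11, 12, 12, 12]

noncomputable def nt_os : List ℕ := [1, 2, 2, 2, 3, 3, 4, 4, 4, 5, 6, 6, 6, 8, 10, 10, 10, 11, 12, 12, 12]

theorem nt_reps : Reps 24 (grp 24 EG) nt_xs nt_cs nt_os :=
  (Reps.cons rfl (one_mem _) (card_cent_nil N_card) orderOf_one (Reps.cons p_g76_ok nt_c1_mem nt_c1_card nt_c1_ord (Reps.cons p_g90_ok nt_c2_mem nt_c2_card nt_c2_ord (Reps.cons p_g95_ok nt_c3_mem nt_c3_card nt_c3_ord (Reps.cons p_g107_ok nt_c4_mem nt_c4_card nt_c4_ord (Reps.cons p_g114_ok nt_c5_mem nt_c5_card nt_c5_ord (Reps.cons p_g118_ok nt_c6_mem nt_c6_card nt_c6_ord (Reps.cons p_g123_ok nt_c7_mem nt_c7_card nt_c7_ord (Reps.cons p_g128_ok nt_c8_mem nt_c8_card nt_c8_ord (Reps.cons p_g98_ok nt_c9_mem nt_c9_card nt_c9_ord (Reps.cons p_g135_ok nt_c10_mem nt_c10_card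 nt_c10_ord (Reps.cons p_g139_ok nt_c11_mem nt_c11_card nt_c11_ord (Reps.cons p_g147_ok nt_c12_mem nt_c12_card nt_c12_ord (Reps.cons p_g150_ok nt_c13_mem nt_c13_card nt_c13_ord (Reps.cons p_g152_ok nt_c14_mem nt_c14_card nt_c14_ord (Reps.cons p_g155_ok nt_c15_mem nt_c15_card nt_c15_ord (Reps.cons p_g158_ok nt_c16_mem nt_c16_card nt_c16_ord (Reps.cons p_g161_ok nt_c17_mem nt_c17_card nt_c17_ord (Reps.cons p_g163_ok nt_c18_mem nt_c18_card nt_c18_ord (Reps.cons p_g165_ok nt_c19_mem nt_c19_card nt_c19_ord (Reps.cons p_g167_ok nt_c20_mem nt_c20_card nt_c20_ord Reps.nil)))))))))))))))))))))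

noncomputable def nt_nc15_14_cnt_L : List ℕ := [3, 5, T_s3_O, 0, 0]

theorem nt_nc15_14_cnt_P : Prob 24 5 (grp 24 EG) nt_nc15_14_cnt_EG [p_g155] [p_g152] nt_c14_K nt_nc15_14_cnt_L 0 0 :=
  Sym.prob p_hn p_hk nt_c14_sym nt_nc15_14_cnt_EG_ok (grp_cons_le p_g36_T (grp_cons_le p_g32_T (grp_cons_le p_g33_T (grp_cons_le p_g43_T (grp_cons_le p_g40_T (grp_cons_le p_g47_T (grp_cons_le p_g46_T (grp_cons_le p_g39_T (grp_cons_le p_g29_T (grp_cons_le p_g25_T (grp_cons_le p_g26_T (grp_cons_le p_g22_T (grp_cons_le p_g1_T (grp_cons_le p_g2_T (grp_nil_le _))))))))))))))) (Frames.cons T_s3_F Frames.nil) (okE_cons.2 ⟨p_g155_ok, okE_nil _⟩) _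

noncomputable def nt_nc15_14_cnt_t : BT := (BT.fix (nat_lit 257) (BT.dif (nat_lit 3) (nat_lit 0) (BT.br (nat_lit 0) (nat_lit 20) [nat_lit 1, nat_lit 3] (BT.dead (nat_lit 20) (BT.img (nat_lit 1) (nat_lit 0) (BT.img (nat_lit 1) (nat_lit 0) (BT.img (nat_lit 1) (nat_lit 0) (BT.frm (nat_lit 0) (nat_lit 0x1141819) (nat_lit 0x209120e1819) [nat_lit 0, nat_lit 2, nat_lit 3] (BT.pln (nat_lit 0) (nat_lit 3) (BT.img (nat_lit 1) (nat_lit 2) (BT.img (nat_lit 1) (nat_lit 0) (BT.img (nat_lit 1) (nat_lit 0) (BT.and (nat_lit 3) (nat_lit 0) (BT.cnt (nat_lit 0))))))))))) BT.nil))))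

theorem nt_nc15_14_cnt : Cnt 24 (grp 24 EG) [p_g155] [p_g152] 0 0 0 0 0 :=
  BT.sound nt_nc15_14_cnt_P Known.nil (t := nt_nc15_14_cnt_t) (d := 0) (by decide +kernel)

theorem nt_nc15_14 : ¬ CjIn (grp 24 EG) (Net.toPerm 24 p_g155) (Net.toPerm 24 p_g152) :=
  not_cjIn nt_nc15_14_cnt

noncomputable def nt_nc16_14_cnt_L : List ℕ := [1, 2, T_s1_O, 0, 0]

theorem nt_nc16_14_cnt_P : Prob 24 5 (grp 24 EG) nt_nc16_14_cnt_EG [p_g158] [p_g152] nt_c14_K nt_nc16_14_cnt_L 0 0 :=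
  Sym.prob p_hn p_hk nt_c14_sym nt_nc16_14_cnt_EG_ok (grp_cons_le p_g22_T (grp_cons_le p_g1_T (grp_cons_le p_g2_T (grp_cons_le p_g29_T (grp_cons_le p_g25_T (grp_cons_le p_g26_T (grp_cons_le p_g36_T (grp_cons_le p_g32_T (grp_cons_le p_g33_T (grp_cons_le p_g43_T (grp_cons_le p_g40_T (grp_cons_le p_g47_T (grp_cons_le p_g46_T (grp_cons_le p_g39_T (grp_nil_le _))))))))))))))) (Frames.cons T_s1_F Frames.nil) (okE_cons.2 ⟨p_g158_ok, okE_nil _⟩) _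

noncomputable def nt_nc16_14_cnt_t : BT := (BT.fix (nat_lit 257) (BT.dif (nat_lit 3) (nat_lit 0) (BT.br (nat_lit 0) (nat_lit 0) [nat_lit 1, nat_lit 3] (BT.dead (nat_lit 20) (BT.frm (nat_lit 0) (nat_lit 0) (nat_lit 515) [nat_lit 0] (BT.pln (nat_lit 0) (nat_lit 1) (BT.img (nat_lit 1) (nat_lit 2) (BT.and (nat_lit 1) (nat_lit 0) (BT.cnt (nat_lit 0)))))) BT.nil))))

theorem nt_nc16_14_cnt : Cnt 24 (grp 24 EG) [p_g158] [p_g152] 0 0 0 0 0 :=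
  BT.sound nt_nc16_14_cnt_P Known.nil (t := nt_nc16_14_cnt_t) (d := 0) (by decide +kernel)

theorem nt_nc16_14 : ¬ CjIn (grp 24 EG) (Net.toPerm 24 p_g158) (Net.toPerm 24 p_g152) :=
  not_cjIn nt_nc16_14_cnt

noncomputable def nt_nc16_15_cnt_L : List ℕ := [1, 2, T_s1_O, 0, 0]

theorem nt_nc16_15_cnt_P : Prob 24 5 (grp 24 EG) nt_nc16_15_cnt_EG [p_g158] [p_g155] nt_c15_K nt_nc16_15_cnt_L 0 0 :=
  Sym.prob p_hn p_hk nt_c15_sym nt_nc16_15_cnt_EG_ok (grp_cons_le p_g22_T (grp_cons_le p_g1_T (grp_cons_le p_g2_T (grp_cons_le p_g29_T (grp_cons_le p_g25_T (grp_cons_le p_g26_T (grp_cons_le p_g36_T (grp_cons_le p_g32_T (grp_cons_le p_g33_T (grp_cons_le p_g43_T (grp_cons_le p_g40_T (grp_cons_le p_g47_T (grp_cons_le p_g46_T (grp_cons_le p_g39_T (grp_nil_le _))))))))))))))) (Frames.cons T_s1_F Frames.nil) (okE_cons.2 ⟨p_g158_ok, okE_nil _⟩) _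

noncomputable def nt_nc16_15_cnt_t : BT := (BT.fix (nat_lit 257) (BT.dif (nat_lit 3) (nat_lit 0) (BT.br (nat_lit 0) (nat_lit 0) [nat_lit 1, nat_lit 3] (BT.dead (nat_lit 20) (BT.frm (nat_lit 0) (nat_lit 0) (nat_lit 515) [nat_lit 0] (BT.pln (nat_lit 0) (nat_lit 1) (BT.img (nat_lit 1) (nat_lit 2) (BT.and (nat_lit 1) (nat_lit 0) (BT.cnt (nat_lit 0)))))) BT.nil))))

theorem nt_nc16_15_cnt : Cnt 24 (grp 24 EG) [p_g158] [p_g155] 0 0 0 0 0 :=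
  BT.sound nt_nc16_15_cnt_P Known.nil (t := nt_nc16_15_cnt_t) (d := 0) (by decide +kernel)

theorem nt_nc16_15 : ¬ CjIn (grp 24 EG) (Net.toPerm 24 p_g158) (Net.toPerm 24 p_g155) :=
  not_cjIn nt_nc16_15_cnt

noncomputable def nt_nc19_18_cnt_L : List ℕ := [3, 5, T_s3_O, 0, 0]

theorem nt_nc19_18_cnt_P : Prob 24 5 (grp 24 EG) nt_nc19_18_cnt_EG [p_g165] [p_g163] nt_c18_K nt_nc19_18_cnt_L 0 0 :=
  Sym.prob p_hn p_hk nt_c18_sym nt_nc19_18_cnt_EG_ok (grp_cons_le p_g36_T (grp_cons_le p_g32_T (grp_cons_le p_g33_T (grp_cons_le p_g43_T (grp_cons_le p_g40_T (grp_cons_le p_g47_T (grp_cons_le p_g46_T (grp_cons_le p_g39_T (grp_cons_le p_g29_T (grp_cons_le p_g25_T (grp_cons_le p_g26_T (grp_cons_le p_g22_T (grp_cons_le p_g1_T (grp_cons_le p_g2_T (grp_nil_le _))))))))))))))) (Frames.cons T_s3_F Frames.nil) (okE_cons.2 ⟨p_g165_ok, okE_nil _⟩) _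

noncomputable def nt_nc19_18_cnt_t : BT := (BT.fix (nat_lit 0x10101010101) (BT.dif (nat_lit 3) (nat_lit 0) (BT.fix (nat_lit 0x1010101) (BT.dif (nat_lit 1) (nat_lit 0) (BT.br (nat_lit 0) (nat_lit 0) [nat_lit 1] (BT.dead (nat_lit 0) (BT.img (nat_lit 1) (nat_lit 0) (BT.img (nat_lit 1) (nat_lit 0) (BT.img (nat_lit 1) (nat_lit 0) (BT.frm (nat_lit 0) (nat_lit 20) (nat_lit 0x2021212) [nat_lit 0, nat_lit 2, nat_lit 3] (BT.pln (nat_lit 0) (nat_lit 3) (BT.and (nat_lit 0) (nat_lit 7) (BT.cnt (nat_lit 0)))))))) BT.nil))))))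

theorem nt_nc19_18_cnt : Cnt 24 (grp 24 EG) [p_g165] [p_g163] 0 0 0 0 0 :=
  BT.sound nt_nc19_18_cnt_P Known.nil (t := nt_nc19_18_cnt_t) (d := 0) (by decide +kernel)

theorem nt_nc19_18 : ¬ CjIn (grp 24 EG) (Net.toPerm 24 p_g165) (Net.toPerm 24 p_g163) :=
  not_cjIn nt_nc19_18_cnt

theorem nt_exc : Exc 24 (grp 24 EG) nt_xs [19018, 16015, 16014, 15014] :=
  (Exc.cons 19 18 (by decide) nt_nc19_18 (Exc.cons 16 15 (by decide) nt_nc16_15 (Exc.cons 16 14 (by decide) nt_nc16_14 (Exc.cons 15 14 (by decide) nt_nc15_14 Exc.nil))))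

theorem nt : Table 24 (grp 24 EG) nt_xs nt_cs nt_os :=
  Reps.table (D := 3) p_hn p_hk nt_reps nt_exc N_card (by decide +kernel)

theorem reps : ∀ σ ∈ (grp 24 EG), orderOf σ = 2 → ∃ t ∈ ({Net.toPerm 24 p_g76, Net.toPerm 24 p_g90, Net.toPerm 24 p_g95} : Set (Equiv.Perm (Fin 24))), CjIn (grp 24 EG) t σ :=
  fun σ hσ ho => by
  obtain ⟨i, hi, hc, h1, -⟩ := nt.exists hσ
  rw [ho] at h1
  rcases (by decide +kernel : ∀ i < nt_xs.length, 2 = nthN nt_os i → 1 = i ∨ 2 = i ∨ 3 = i) i hi h1 with rfl | rfl | rfl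
  · exact ⟨_, (.inl rfl), hc⟩
  · exact ⟨_, (.inr (.inl rfl)), hc⟩
  · exact ⟨_, (.inr (.inr rfl)), hc⟩

theorem ch2_le : grp 24 ch2_Q ≤ grp 24 nt_c2_K :=
  grp_le_of_memB p_hn p_hk nt_c2_K_ok ch2_Q_ok (ws := [nat_lit 0x6010501, nat_lit 0x603060103010503, nat_lit 0x50305010301050301, nat_lit 0x603010306]) (by decide +kernel)

theorem p_le173 : grp 24 p_V172 ≤ grp 24 ch2_Q :=
  grp_le_of_memB p_hn p_hk ch2_Q_ok p_V172_ok (ws := [nat_lit 5]) (by decide +kernel)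

theorem p_le176 : grp 24 p_V175 ≤ grp 24 ch2_Q :=
  grp_le_of_memB p_hn p_hk ch2_Q_ok p_V175_ok (ws := [nat_lit 0x20406010502, nat_lit 0x405030207070407]) (by decide +kernel)

theorem p_le178 : grp 24 p_V177 ≤ grp 24 p_V175 :=
  grp_le_of_memB p_hn p_hk p_V175_ok p_V177_ok (ws := [nat_lit 259, nat_lit 3]) (by decide +kernel)

theorem p_le180 : grp 24 p_V179 ≤ grp 24 p_V175 :=
  grp_le_of_memB p_hn p_hk p_V175_ok p_V179_ok (ws := [nat_lit 0x3010402, nat_lit 1028]) (by decide +kernel)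

theorem p_le182 : grp 24 p_V181 ≤ grp 24 p_V179 :=
  grp_le_of_memB p_hn p_hk p_V179_ok p_V181_ok (ws := [nat_lit 1]) (by decide +kernel)

theorem ch2_o_card3 : Nat.card (grp 24 ch2_o_E3) = 1 :=
  card_grp_nil 24

theorem ch2_o_leO3 : grp 24 ch2_o_E3 ≤ grp 24 ch2_Q :=
  grp_nil_le _

theorem ch2_o_2_fix : grp 24 ch2_o_E3 ≤ MulAction.stabilizer (Equiv.Perm (Fin 24)) (⟨0, by decide⟩ : Fin 24) :=
  grp_le_stab ch2_o_E3_ok (by decide : 0 < 24) (by decide +kernel)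

noncomputable def ch2_o_2_ts : List ℕ := [nat_lit 0, nat_lit 1]

noncomputable def ch2_o_2_ds : List ℕ := [nat_lit 0, nat_lit 13]

theorem ch2_o_2_dist : Dist 24 ch2_o_E3 ch2_o_G2 (⟨0, by decide⟩ : Fin 24) ch2_o_2_ts ch2_o_2_ds :=
  dist_of_distB (k := 1) p_hn ch2_o_E3_ok ch2_o_G2_ok (by decide : 0 < 24) (by decide +kernel)

noncomputable def ch2_o_2_sl0 : SL := (SL.cons (nat_lit 1) (nat_lit 13) Ch.nil [] SL.nil)

theorem ch2_o_2_sc0 : SCs 24 ch2_o_E3 ch2_o_G2 (⟨0, by decide⟩ : Fin 24) (SL.words ch2_o_2_sl0) :=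
  scs_of_ok p_hn (det_lab p_hk ⊤) ch2_o_E3_ok ch2_o_G2_ok le_top le_top (by decide : 0 < 24) ch2_o_2_fix ch2_o_card3.le (by decide +kernel)

noncomputable def ch2_o_2_l : List ℕ := (appL (SL.words ch2_o_2_sl0) [])

theorem ch2_o_2_scs : SCs 24 ch2_o_E3 ch2_o_G2 (⟨0, by decide⟩ : Fin 24) ch2_o_2_l :=
  (SCs.append ch2_o_2_sc0 SCs.nil)

noncomputable def ch2_o_2_rl0_0 : RL := (RL.cons (nat_lit 0) (nat_lit 0) (nat_lit 0) (nat_lit 0) (nat_lit 1) (nat_lit 0) (RL.cons (nat_lit 1) (nat_lit 13) (nat_lit 0) (nat_lit 0) (nat_lit 0) (nat_lit 0) RL.nil))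

theorem ch2_o_2_good0_0 : GoodSet 24 ch2_o_E3 ch2_o_G2 (⟨0, by decide⟩ : Fin 24) ch2_o_2_ts (nat_lit 1) (RL.pts ch2_o_2_rl0_0) :=
  goodSet_of_ok p_hn (det_lab p_hk ⊤) ch2_o_E3_ok ch2_o_G2_ok le_top le_top (by decide : 0 < 24) (sepAt_lab p_hk _) (by decide +kernel)

theorem ch2_o_2_step0 : Step 24 ch2_o_E3 ch2_o_G2 ch2_o_2_ts (2 * 0 + 1) :=
  step_of_cover ch2_o_E3_ok ch2_o_2_dist (by decide +kernel) ch2_o_2_scs (by decide +kernel) ch2_o_2_good0_0 (kw := [])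
    (conj_mem_of_scs ch2_o_E3_ok ch2_o_G2_ok (by decide : 0 < 24) ch2_o_2_scs (c := 0) (d := 13) (by decide +kernel)) (by decide +kernel)

theorem ch2_o_2_lev : grp 24 ch2_o_G2 ⊓ MulAction.stabilizer (Equiv.Perm (Fin 24)) (⟨0, by decide⟩ : Fin 24) = grp 24 ch2_o_E3 :=
  sims_level (gs := p_V181) rfl (by decide) ch2_o_2_fix ch2_o_2_dist (forall_lt_one ch2_o_2_step0)

theorem ch2_o_2_cardG : Nat.card (grp 24 ch2_o_G2) = 2 :=
  card_of_level p_hn ch2_o_G2_ok (by decide : 0 < 24) ch2_o_2_lev ch2_o_card3 (m := 2) (by decide +kernel)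

theorem p_le183 : grp 24 ch2_o_E2 ≤ grp 24 ch2_o_G2 :=
  grp_le_of_memB p_hn p_hk ch2_o_G2_ok ch2_o_E2_ok (ws := [nat_lit 1]) (by decide +kernel)

theorem p_le184 : grp 24 ch2_o_G2 ≤ grp 24 ch2_o_E2 :=
  grp_le_of_memB p_hn p_hk ch2_o_E2_ok ch2_o_G2_ok (ws := [nat_lit 1]) (by decide +kernel)

theorem ch2_o_2_eq : grp 24 ch2_o_E2 = grp 24 ch2_o_G2 :=
  le_antisymm p_le183 p_le184

theorem ch2_o_card2 : Nat.card (grp 24 ch2_o_E2) = 2 :=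
  by rw [ch2_o_2_eq]; exact ch2_o_2_cardG

theorem ch2_o_stab2 : grp 24 ch2_o_E2 ⊓ MulAction.stabilizer (Equiv.Perm (Fin 24)) (⟨0, by decide⟩ : Fin 24) = grp 24 ch2_o_E3 :=
  by rw [ch2_o_2_eq]; exact ch2_o_2_lev

theorem ch2_o_leO2 : grp 24 ch2_o_E2 ≤ grp 24 ch2_Q :=
  ch2_o_2_eq.le.trans (grp_cons_le ((p_le180.trans (p_le176.trans (le_refl (grp 24 ch2_Q)))) (p_le182 (toPerm_mem_grp (E := p_V181) (by simp [p_V181])))) ch2_o_leO3)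

theorem ch2_o_1_fix : grp 24 ch2_o_E2 ≤ MulAction.stabilizer (Equiv.Perm (Fin 24)) (⟨15, by decide⟩ : Fin 24) :=
  grp_le_stab ch2_o_E2_ok (by decide : 15 < 24) (by decide +kernel)

noncomputable def ch2_o_1_ts : List ℕ := [nat_lit 0, nat_lit 1, nat_lit 3, nat_lit 259]

noncomputable def ch2_o_1_ds : List ℕ := [nat_lit 15, nat_lit 10, nat_lit 14, nat_lit 23]

theorem ch2_o_1_dist : Dist 24 ch2_o_E2 ch2_o_G1 (⟨15, by decide⟩ : Fin 24) ch2_o_1_ts ch2_o_1_ds :=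
  dist_of_distB (k := 2) p_hn ch2_o_E2_ok ch2_o_G1_ok (by decide : 15 < 24) (by decide +kernel)

noncomputable def ch2_o_1_sl0 : SL := (SL.cons (nat_lit 1) (nat_lit 10) (Ch.cons (nat_lit 0) [nat_lit 1] Ch.nil) [nat_lit 1] (SL.cons (nat_lit 3) (nat_lit 14) (Ch.cons (nat_lit 0) [nat_lit 1] Ch.nil) [nat_lit 1] (SL.cons (nat_lit 259) (nat_lit 23) (Ch.cons (nat_lit 0) [nat_lit 1] Ch.nil) [nat_lit 1] SL.nil)))

theorem ch2_o_1_sc0 : SCs 24 ch2_o_E2 ch2_o_G1 (⟨15, by decide⟩ : Fin 24) (SL.words ch2_o_1_sl0) :=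
  scs_of_ok p_hn (det_lab p_hk ⊤) ch2_o_E2_ok ch2_o_G1_ok le_top le_top (by decide : 15 < 24) ch2_o_1_fix ch2_o_card2.le (by decide +kernel)

noncomputable def ch2_o_1_l : List ℕ := (appL (SL.words ch2_o_1_sl0) [])

theorem ch2_o_1_scs : SCs 24 ch2_o_E2 ch2_o_G1 (⟨15, by decide⟩ : Fin 24) ch2_o_1_l :=
  (SCs.append ch2_o_1_sc0 SCs.nil)

noncomputable def ch2_o_1_rl0_0 : RL := (RL.cons (nat_lit 0) (nat_lit 15) (nat_lit 0) (nat_lit 0) (nat_lit 1) (nat_lit 1) (RL.cons (nat_lit 1) (nat_lit 10) (nat_lit 0) (nat_lit 0) (nat_lit 0) (nat_lit 0) (RL.cons (nat_lit 2) (nat_lit 14) (nat_lit 0) (nat_lit 0) (nat_lit 3) (nat_lit 0) (RL.cons (nat_lit 3) (nat_lit 23) (nat_lit 0) (nat_lit 0) (nat_lit 2) (nat_lit 1) RL.nil))))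

theorem ch2_o_1_good0_0 : GoodSet 24 ch2_o_E2 ch2_o_G1 (⟨15, by decide⟩ : Fin 24) ch2_o_1_ts (nat_lit 1) (RL.pts ch2_o_1_rl0_0) :=
  goodSet_of_ok p_hn (det_lab p_hk ⊤) ch2_o_E2_ok ch2_o_G1_ok le_top le_top (by decide : 15 < 24) (sepAt_lab p_hk _) (by decide +kernel)

theorem ch2_o_1_step0 : Step 24 ch2_o_E2 ch2_o_G1 ch2_o_1_ts (2 * 0 + 1) :=
  step_of_cover ch2_o_E2_ok ch2_o_1_dist (by decide +kernel) ch2_o_1_scs (by decide +kernel) ch2_o_1_good0_0 (kw := [nat_lit 1])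
    (conj_mem_of_scs ch2_o_E2_ok ch2_o_G1_ok (by decide : 15 < 24) ch2_o_1_scs (c := 0) (d := 10) (by decide +kernel)) (by decide +kernel)

noncomputable def ch2_o_1_rl1_0 : RL := (RL.cons (nat_lit 0) (nat_lit 15) (nat_lit 0) (nat_lit 0) (nat_lit 2) (nat_lit 1) (RL.cons (nat_lit 1) (nat_lit 10) (nat_lit 0) (nat_lit 0) (nat_lit 3) (nat_lit 1) (RL.cons (nat_lit 2) (nat_lit 14) (nat_lit 0) (nat_lit 0) (nat_lit 0) (nat_lit 0) (RL.cons (nat_lit 3) (nat_lit 23) (nat_lit 0) (nat_lit 0) (nat_lit 1) (nat_lit 0) RL.nil))))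

theorem ch2_o_1_good1_0 : GoodSet 24 ch2_o_E2 ch2_o_G1 (⟨15, by decide⟩ : Fin 24) ch2_o_1_ts (nat_lit 3) (RL.pts ch2_o_1_rl1_0) :=
  goodSet_of_ok p_hn (det_lab p_hk ⊤) ch2_o_E2_ok ch2_o_G1_ok le_top le_top (by decide : 15 < 24) (sepAt_lab p_hk _) (by decide +kernel)

theorem ch2_o_1_step1 : Step 24 ch2_o_E2 ch2_o_G1 ch2_o_1_ts (2 * 1 + 1) :=
  step_of_cover ch2_o_E2_ok ch2_o_1_dist (by decide +kernel) ch2_o_1_scs (by decide +kernel) ch2_o_1_good1_0 (kw := [nat_lit 1])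
    (conj_mem_of_scs ch2_o_E2_ok ch2_o_G1_ok (by decide : 15 < 24) ch2_o_1_scs (c := 1) (d := 14) (by decide +kernel)) (by decide +kernel)

theorem ch2_o_1_lev : grp 24 ch2_o_G1 ⊓ MulAction.stabilizer (Equiv.Perm (Fin 24)) (⟨15, by decide⟩ : Fin 24) = grp 24 ch2_o_E2 :=
  sims_level (gs := p_V177) rfl (by decide) ch2_o_1_fix ch2_o_1_dist (forall_lt_succ' (forall_lt_one ch2_o_1_step0) ch2_o_1_step1)

theorem ch2_o_1_cardG : Nat.card (grp 24 ch2_o_G1) = 8 :=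
  card_of_level p_hn ch2_o_G1_ok (by decide : 15 < 24) ch2_o_1_lev ch2_o_card2 (m := 4) (by decide +kernel)

theorem p_le185 : grp 24 ch2_o_E1 ≤ grp 24 ch2_o_G1 :=
  grp_le_of_memB p_hn p_hk ch2_o_G1_ok ch2_o_E1_ok (ws := [nat_lit 1, nat_lit 3, nat_lit 327939, nat_lit 5]) (by decide +kernel)

theorem p_le186 : grp 24 ch2_o_G1 ≤ grp 24 ch2_o_E1 :=
  grp_le_of_memB p_hn p_hk ch2_o_E1_ok ch2_o_G1_ok (ws := [nat_lit 1, nat_lit 3, nat_lit 7]) (by decide +kernel)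

theorem ch2_o_1_eq : grp 24 ch2_o_E1 = grp 24 ch2_o_G1 :=
  le_antisymm p_le185 p_le186

theorem ch2_o_card1 : Nat.card (grp 24 ch2_o_E1) = 8 :=
  by rw [ch2_o_1_eq]; exact ch2_o_1_cardG

theorem ch2_o_stab1 : grp 24 ch2_o_E1 ⊓ MulAction.stabilizer (Equiv.Perm (Fin 24)) (⟨15, by decide⟩ : Fin 24) = grp 24 ch2_o_E2 :=
  by rw [ch2_o_1_eq]; exact ch2_o_1_lev

theorem ch2_o_leO1 : grp 24 ch2_o_E1 ≤ grp 24 ch2_Q :=
  ch2_o_1_eq.le.trans (grp_cons_le ((p_le176.trans (le_refl (grp 24 ch2_Q))) (p_le178 (toPerm_mem_grp (E := p_V177) (by simp [p_V177])))) (grp_cons_le ((p_le176.trans (le_refl (grp 24 ch2_Q))) (p_le178 (toPerm_mem_grp (E := p_V177) (by simp [p_V177])))) ch2_o_leO2))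

theorem ch2_o_0_fix : grp 24 ch2_o_E1 ≤ MulAction.stabilizer (Equiv.Perm (Fin 24)) (⟨4, by decide⟩ : Fin 24) :=
  grp_le_stab ch2_o_E1_ok (by decide : 4 < 24) (by decide +kernel)

noncomputable def ch2_o_0_ts : List ℕ := [nat_lit 0, nat_lit 1, nat_lit 66305, nat_lit 66817, nat_lit 67329]

noncomputable def ch2_o_0_ds : List ℕ := [nat_lit 4, nat_lit 15, nat_lit 8, nat_lit 9, nat_lit 6]

theorem ch2_o_0_dist : Dist 24 ch2_o_E1 ch2_o_G0 (⟨4, by decide⟩ : Fin 24) ch2_o_0_ts ch2_o_0_ds :=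
  dist_of_distB (k := 3) p_hn ch2_o_E1_ok ch2_o_G0_ok (by decide : 4 < 24) (by decide +kernel)

noncomputable def ch2_o_0_sl0 : SL := (SL.cons (nat_lit 1) (nat_lit 15) (Ch.cons (nat_lit 0) [nat_lit 7] Ch.nil) [nat_lit 7] (SL.cons (nat_lit 66305) (nat_lit 8) (Ch.cons (nat_lit 0) [nat_lit 3, nat_lit 1] Ch.nil) [nat_lit 3, nat_lit 1] (SL.cons (nat_lit 66817) (nat_lit 9) (Ch.cons (nat_lit 0) [nat_lit 1, nat_lit 5] Ch.nil) [nat_lit 1, nat_lit 5] (SL.cons (nat_lit 67329) (nat_lit 6) (Ch.cons (nat_lit 0) [nat_lit 3, nat_lit 1] Ch.nil) [nat_lit 3, nat_lit 1] SL.nil))))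

theorem ch2_o_0_sc0 : SCs 24 ch2_o_E1 ch2_o_G0 (⟨4, by decide⟩ : Fin 24) (SL.words ch2_o_0_sl0) :=
  scs_of_ok p_hn (det_lab p_hk ⊤) ch2_o_E1_ok ch2_o_G0_ok le_top le_top (by decide : 4 < 24) ch2_o_0_fix ch2_o_card1.le (by decide +kernel)

noncomputable def ch2_o_0_l : List ℕ := (appL (SL.words ch2_o_0_sl0) [])

theorem ch2_o_0_scs : SCs 24 ch2_o_E1 ch2_o_G0 (⟨4, by decide⟩ : Fin 24) ch2_o_0_l :=
  (SCs.append ch2_o_0_sc0 SCs.nil)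

noncomputable def ch2_o_0_rl0_0 : RL := (RL.cons (nat_lit 0) (nat_lit 4) (nat_lit 0) (nat_lit 0) (nat_lit 1) (nat_lit 7) (RL.cons (nat_lit 1) (nat_lit 15) (nat_lit 0) (nat_lit 0) (nat_lit 0) (nat_lit 0) (RL.cons (nat_lit 1) (nat_lit 10) (nat_lit 1) (nat_lit 0) (nat_lit 2) (nat_lit 7) (RL.cons (nat_lit 1) (nat_lit 14) (nat_lit 3) (nat_lit 0) (nat_lit 3) (nat_lit 7) (RL.cons (nat_lit 1) (nat_lit 23) (nat_lit 5) (nat_lit 0) (nat_lit 4) (nat_lit 7) (RL.cons (nat_lit 2) (nat_lit 8) (nat_lit 0) (nat_lit 1) (nat_lit 1) (nat_lit 0) (RL.cons (nat_lit 3) (nat_lit 9) (nat_lit 0) (nat_lit 3) (nat_lit 1) (nat_lit 0) (RL.cons (nat_lit 4) (nat_lit 6) (nat_lit 0) (nat_lit 5) (nat_lit 1) (nat_lit 0) RL.nil))))))))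

theorem ch2_o_0_good0_0 : GoodSet 24 ch2_o_E1 ch2_o_G0 (⟨4, by decide⟩ : Fin 24) ch2_o_0_ts (nat_lit 1) (RL.pts ch2_o_0_rl0_0) :=
  goodSet_of_ok p_hn (det_lab p_hk ⊤) ch2_o_E1_ok ch2_o_G0_ok le_top le_top (by decide : 4 < 24) (sepAt_lab p_hk _) (by decide +kernel)

theorem ch2_o_0_step0 : Step 24 ch2_o_E1 ch2_o_G0 ch2_o_0_ts (2 * 0 + 1) :=
  step_of_cover ch2_o_E1_ok ch2_o_0_dist (by decide +kernel) ch2_o_0_scs (by decide +kernel) ch2_o_0_good0_0 (kw := [nat_lit 7])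
    (conj_mem_of_scs ch2_o_E1_ok ch2_o_G0_ok (by decide : 4 < 24) ch2_o_0_scs (c := 0) (d := 15) (by decide +kernel)) (by decide +kernel)

theorem ch2_o_0_lev : grp 24 ch2_o_G0 ⊓ MulAction.stabilizer (Equiv.Perm (Fin 24)) (⟨4, by decide⟩ : Fin 24) = grp 24 ch2_o_E1 :=
  sims_level (gs := p_V172) rfl (by decide) ch2_o_0_fix ch2_o_0_dist (forall_lt_one ch2_o_0_step0)

theorem ch2_o_0_cardG : Nat.card (grp 24 ch2_o_G0) = 64 :=
  card_of_level p_hn ch2_o_G0_ok (by decide : 4 < 24) ch2_o_0_lev ch2_o_card1 (m := 8) (by decide +kernel)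

theorem p_le187 : grp 24 ch2_o_E0 ≤ grp 24 ch2_o_G0 :=
  grp_le_of_memB p_hn p_hk ch2_o_G0_ok ch2_o_E0_ok (ws := [nat_lit 1, nat_lit 590593, nat_lit 3, nat_lit 5, nat_lit 7, nat_lit 9]) (by decide +kernel)

theorem p_le188 : grp 24 ch2_o_G0 ≤ grp 24 ch2_o_E0 :=
  grp_le_of_memB p_hn p_hk ch2_o_E0_ok ch2_o_G0_ok (ws := [nat_lit 1, nat_lit 5, nat_lit 7, nat_lit 9, nat_lit 11]) (by decide +kernel)

theorem ch2_o_0_eq : grp 24 ch2_o_E0 = grp 24 ch2_o_G0 :=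
  le_antisymm p_le187 p_le188

theorem ch2_o_card0 : Nat.card (grp 24 ch2_o_E0) = 64 :=
  by rw [ch2_o_0_eq]; exact ch2_o_0_cardG

theorem ch2_o_stab0 : grp 24 ch2_o_E0 ⊓ MulAction.stabilizer (Equiv.Perm (Fin 24)) (⟨4, by decide⟩ : Fin 24) = grp 24 ch2_o_E1 :=
  by rw [ch2_o_0_eq]; exact ch2_o_0_lev

theorem ch2_o_leO0 : grp 24 ch2_o_E0 ≤ grp 24 ch2_Q :=
  ch2_o_0_eq.le.trans (grp_cons_le ((le_refl (grp 24 ch2_Q)) (p_le173 (toPerm_mem_grp (E := p_V172) (by simp [p_V172])))) ch2_o_leO1)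

theorem p_le189 : grp 24 ch2_Q ≤ grp 24 ch2_o_E0 :=
  grp_le_of_memB p_hn p_hk ch2_o_E0_ok ch2_Q_ok (ws := [nat_lit 11, nat_lit 9, nat_lit 1, nat_lit 3]) (by decide +kernel)

theorem ch2_o_eq : grp 24 ch2_Q = grp 24 ch2_o_E0 :=
  le_antisymm p_le189 ch2_o_leO0

theorem ch2_o_card : Nat.card (grp 24 ch2_Q) = 64 :=
  by rw [ch2_o_eq]; exact ch2_o_card0

noncomputable def ch2_o_ch : Ch := (Ch.cons (nat_lit 4) [nat_lit 1, nat_lit 3] (Ch.cons (nat_lit 15) [nat_lit 5, nat_lit 7, nat_lit 9] (Ch.cons (nat_lit 0) [nat_lit 11] Ch.nil)))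

theorem ch2_o_exact : Ch.Exact 24 ch2_o_E0 ch2_o_ch (grp 24 ch2_o_E0) :=
  Ch.exact (k := 5) (L := (lab 24 5)) p_hn ch2_o_E0_ok (by decide +kernel) (wgrp_le_grp _ _ _) ch2_o_card0.le

theorem ch2_n : grp 24 nt_c2_K ≤ Subgroup.normalizer (grp 24 ch2_Q : Set (Equiv.Perm (Fin 24))) :=
  EvG.le_norm p_hn p_hk nt_c2_K_ok ch2_Q_ok ch2_o_E0_ok ch2_o_eq.ge (W := [[nat_lit 11, nat_lit 0xb010703, nat_lit 0xb090109, nat_lit 590087], [nat_lit 11, nat_lit 2823, nat_lit 722180, nat_lit 2820], [nat_lit 11, nat_lit 9, nat_lit 2817, nat_lit 722689]]) (by decide +kernel)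

theorem ch2_x3 : Net.toPerm 24 p_g190 ∈ (grp 24 EG) ⊓ Subgroup.centralizer {Net.toPerm 24 p_g90} :=
  nt_c2_eq.ge (mem_grp_of_memB p_hn p_hk nt_c2_K_ok p_g190_ok (w := (nat_lit 0x50306010301)) (by decide +kernel))

theorem ch2_ord3 : orderOf (Net.toPerm 24 p_g190) = 3 :=
  orderOf_net p_hn p_hk p_g190_ok (by decide) (ps := [3]) (by set_option linter.unusedSimpArgs false in simp [Nat.primeFactorsList_ofNat]) (by decide +kernel)

theorem ch2 : IsOfCharacteristicTwo ↥((grp 24 EG) ⊓ Subgroup.centralizer {Net.toPerm 24 p_g90}) :=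
  H44.Ki.charTwo_of_primes (ch2_le.trans nt_c2_eq.ge) (nt_c2_eq.le.trans ch2_n)
    (IsPGroup.of_card (n := 6) ch2_o_card) fun p hp hd => by
  rw [nt_c2_card] at hd ⊢
  have h := (Nat.mem_primeFactorsList (by norm_num)).2 ⟨hp, hd⟩
  simp [Nat.primeFactorsList_ofNat] at h
  rcases h with rfl | rfl
  · exact .inl rfl
  · exact .inr ⟨by norm_num, _, ch2_x3, ch2_ord3 ▸ pow_orderOf_eq_one _, _, (toPerm_mem_grp (E := ch2_Q) (List.Mem.tail _ (List.Mem.head _))),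
      EvG.ncomm_net (k := 5) p_hn (by decide +kernel)⟩

theorem p_le194 : grp 24 p_V193 ≤ grp 24 L1 :=
  grp_le_of_memB p_hn p_hk L1_ok p_V193_ok (ws := [nat_lit 1]) (by decide +kernel)

theorem p_le198 : grp 24 p_V197 ≤ grp 24 L1 :=
  grp_le_of_memB p_hn p_hk L1_ok p_V197_ok (ws := [nat_lit 0x401030103, nat_lit 0x202030203]) (by decide +kernel)

theorem p_le201 : grp 24 p_V200 ≤ grp 24 p_V197 :=
  grp_le_of_memB p_hn p_hk p_V197_ok p_V200_ok (ws := [nat_lit 257]) (by decide +kernel)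

theorem p_le203 : grp 24 p_V202 ≤ grp 24 p_V197 :=
  grp_le_of_memB p_hn p_hk p_V197_ok p_V202_ok (ws := [nat_lit 0x20203010101, nat_lit 0x103030301]) (by decide +kernel)

theorem p_le205 : grp 24 p_V204 ≤ grp 24 p_V202 :=
  grp_le_of_memB p_hn p_hk p_V202_ok p_V204_ok (ws := [nat_lit 1]) (by decide +kernel)

theorem L1o_card3 : Nat.card (grp 24 L1o_E3) = 1 :=
  card_grp_nil 24

theorem L1o_leO3 : grp 24 L1o_E3 ≤ grp 24 L1 :=
  grp_nil_le _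

theorem L1o_2_fix : grp 24 L1o_E3 ≤ MulAction.stabilizer (Equiv.Perm (Fin 24)) (⟨12, by decide⟩ : Fin 24) :=
  grp_le_stab L1o_E3_ok (by decide : 12 < 24) (by decide +kernel)

noncomputable def L1o_2_ts : List ℕ := [nat_lit 0, nat_lit 1]

noncomputable def L1o_2_ds : List ℕ := [nat_lit 12, nat_lit 8]

theorem L1o_2_dist : Dist 24 L1o_E3 L1o_G2 (⟨12, by decide⟩ : Fin 24) L1o_2_ts L1o_2_ds :=
  dist_of_distB (k := 1) p_hn L1o_E3_ok L1o_G2_ok (by decide : 12 < 24) (by decide +kernel)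

noncomputable def L1o_2_sl0 : SL := (SL.cons (nat_lit 1) (nat_lit 8) Ch.nil [] SL.nil)

theorem L1o_2_sc0 : SCs 24 L1o_E3 L1o_G2 (⟨12, by decide⟩ : Fin 24) (SL.words L1o_2_sl0) :=
  scs_of_ok p_hn (det_lab p_hk ⊤) L1o_E3_ok L1o_G2_ok le_top le_top (by decide : 12 < 24) L1o_2_fix L1o_card3.le (by decide +kernel)

noncomputable def L1o_2_l : List ℕ := (appL (SL.words L1o_2_sl0) [])

theorem L1o_2_scs : SCs 24 L1o_E3 L1o_G2 (⟨12, by decide⟩ : Fin 24) L1o_2_l :=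
  (SCs.append L1o_2_sc0 SCs.nil)

noncomputable def L1o_2_rl0_0 : RL := (RL.cons (nat_lit 0) (nat_lit 12) (nat_lit 0) (nat_lit 0) (nat_lit 1) (nat_lit 0) (RL.cons (nat_lit 1) (nat_lit 8) (nat_lit 0) (nat_lit 0) (nat_lit 0) (nat_lit 0) RL.nil))

theorem L1o_2_good0_0 : GoodSet 24 L1o_E3 L1o_G2 (⟨12, by decide⟩ : Fin 24) L1o_2_ts (nat_lit 1) (RL.pts L1o_2_rl0_0) :=
  goodSet_of_ok p_hn (det_lab p_hk ⊤) L1o_E3_ok L1o_G2_ok le_top le_top (by decide : 12 < 24) (sepAt_lab p_hk _) (by decide +kernel)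

theorem L1o_2_step0 : Step 24 L1o_E3 L1o_G2 L1o_2_ts (2 * 0 + 1) :=
  step_of_cover L1o_E3_ok L1o_2_dist (by decide +kernel) L1o_2_scs (by decide +kernel) L1o_2_good0_0 (kw := [])
    (conj_mem_of_scs L1o_E3_ok L1o_G2_ok (by decide : 12 < 24) L1o_2_scs (c := 0) (d := 8) (by decide +kernel)) (by decide +kernel)

theorem L1o_2_lev : grp 24 L1o_G2 ⊓ MulAction.stabilizer (Equiv.Perm (Fin 24)) (⟨12, by decide⟩ : Fin 24) = grp 24 L1o_E3 :=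
  sims_level (gs := p_V204) rfl (by decide) L1o_2_fix L1o_2_dist (forall_lt_one L1o_2_step0)

theorem L1o_2_cardG : Nat.card (grp 24 L1o_G2) = 2 :=
  card_of_level p_hn L1o_G2_ok (by decide : 12 < 24) L1o_2_lev L1o_card3 (m := 2) (by decide +kernel)

theorem p_le206 : grp 24 L1o_E2 ≤ grp 24 L1o_G2 :=
  grp_le_of_memB p_hn p_hk L1o_G2_ok L1o_E2_ok (ws := [nat_lit 1]) (by decide +kernel)

theorem p_le207 : grp 24 L1o_G2 ≤ grp 24 L1o_E2 :=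
  grp_le_of_memB p_hn p_hk L1o_E2_ok L1o_G2_ok (ws := [nat_lit 1]) (by decide +kernel)

theorem L1o_2_eq : grp 24 L1o_E2 = grp 24 L1o_G2 :=
  le_antisymm p_le206 p_le207

theorem L1o_card2 : Nat.card (grp 24 L1o_E2) = 2 :=
  by rw [L1o_2_eq]; exact L1o_2_cardG

theorem L1o_stab2 : grp 24 L1o_E2 ⊓ MulAction.stabilizer (Equiv.Perm (Fin 24)) (⟨12, by decide⟩ : Fin 24) = grp 24 L1o_E3 :=
  by rw [L1o_2_eq]; exact L1o_2_lev

theorem L1o_leO2 : grp 24 L1o_E2 ≤ grp 24 L1 :=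
  L1o_2_eq.le.trans (grp_cons_le ((p_le203.trans (p_le198.trans (le_refl (grp 24 L1)))) (p_le205 (toPerm_mem_grp (E := p_V204) (by simp [p_V204])))) L1o_leO3)

theorem L1o_1_fix : grp 24 L1o_E2 ≤ MulAction.stabilizer (Equiv.Perm (Fin 24)) (⟨1, by decide⟩ : Fin 24) :=
  grp_le_stab L1o_E2_ok (by decide : 1 < 24) (by decide +kernel)

noncomputable def L1o_1_ts : List ℕ := [nat_lit 0, nat_lit 1, nat_lit 257]

noncomputable def L1o_1_ds : List ℕ := [nat_lit 1, nat_lit 12, nat_lit 18]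

theorem L1o_1_dist : Dist 24 L1o_E2 L1o_G1 (⟨1, by decide⟩ : Fin 24) L1o_1_ts L1o_1_ds :=
  dist_of_distB (k := 2) p_hn L1o_E2_ok L1o_G1_ok (by decide : 1 < 24) (by decide +kernel)

noncomputable def L1o_1_sl0 : SL := (SL.cons (nat_lit 1) (nat_lit 12) Ch.nil [] (SL.cons (nat_lit 257) (nat_lit 18) Ch.nil [] SL.nil))

theorem L1o_1_sc0 : SCs 24 L1o_E2 L1o_G1 (⟨1, by decide⟩ : Fin 24) (SL.words L1o_1_sl0) :=
  scs_of_ok p_hn (det_lab p_hk ⊤) L1o_E2_ok L1o_G1_ok le_top le_top (by decide : 1 < 24) L1o_1_fix L1o_card2.le (by decide +kernel)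

noncomputable def L1o_1_l : List ℕ := (appL (SL.words L1o_1_sl0) [])

theorem L1o_1_scs : SCs 24 L1o_E2 L1o_G1 (⟨1, by decide⟩ : Fin 24) L1o_1_l :=
  (SCs.append L1o_1_sc0 SCs.nil)

noncomputable def L1o_1_rl0_0 : RL := (RL.cons (nat_lit 0) (nat_lit 1) (nat_lit 0) (nat_lit 1) (nat_lit 1) (nat_lit 1) (RL.cons (nat_lit 1) (nat_lit 12) (nat_lit 0) (nat_lit 0) (nat_lit 0) (nat_lit 0) (RL.cons (nat_lit 1) (nat_lit 8) (nat_lit 1) (nat_lit 1) (nat_lit 2) (nat_lit 0) (RL.cons (nat_lit 2) (nat_lit 18) (nat_lit 0) (nat_lit 0) (nat_lit 1) (nat_lit 0) (RL.cons (nat_lit 2) (nat_lit 16) (nat_lit 1) (nat_lit 0) (nat_lit 2) (nat_lit 1) RL.nil)))))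

theorem L1o_1_good0_0 : GoodSet 24 L1o_E2 L1o_G1 (⟨1, by decide⟩ : Fin 24) L1o_1_ts (nat_lit 1) (RL.pts L1o_1_rl0_0) :=
  goodSet_of_ok p_hn (det_lab p_hk ⊤) L1o_E2_ok L1o_G1_ok le_top le_top (by decide : 1 < 24) (sepAt_lab p_hk _) (by decide +kernel)

theorem L1o_1_step0 : Step 24 L1o_E2 L1o_G1 L1o_1_ts (2 * 0 + 1) :=
  step_of_cover L1o_E2_ok L1o_1_dist (by decide +kernel) L1o_1_scs (by decide +kernel) L1o_1_good0_0 (kw := [])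
    (conj_mem_of_scs L1o_E2_ok L1o_G1_ok (by decide : 1 < 24) L1o_1_scs (c := 0) (d := 12) (by decide +kernel)) (by decide +kernel)

theorem L1o_1_lev : grp 24 L1o_G1 ⊓ MulAction.stabilizer (Equiv.Perm (Fin 24)) (⟨1, by decide⟩ : Fin 24) = grp 24 L1o_E2 :=
  sims_level (gs := p_V200) rfl (by decide) L1o_1_fix L1o_1_dist (forall_lt_one L1o_1_step0)

theorem L1o_1_cardG : Nat.card (grp 24 L1o_G1) = 10 :=
  card_of_level p_hn L1o_G1_ok (by decide : 1 < 24) L1o_1_lev L1o_card2 (m := 5) (by decide +kernel)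

theorem p_le208 : grp 24 L1o_E1 ≤ grp 24 L1o_G1 :=
  grp_le_of_memB p_hn p_hk L1o_G1_ok L1o_E1_ok (ws := [nat_lit 1, nat_lit 514, nat_lit 3]) (by decide +kernel)

theorem p_le209 : grp 24 L1o_G1 ≤ grp 24 L1o_E1 :=
  grp_le_of_memB p_hn p_hk L1o_E1_ok L1o_G1_ok (ws := [nat_lit 1, nat_lit 5]) (by decide +kernel)

theorem L1o_1_eq : grp 24 L1o_E1 = grp 24 L1o_G1 :=
  le_antisymm p_le208 p_le209

theorem L1o_card1 : Nat.card (grp 24 L1o_E1) = 10 :=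
  by rw [L1o_1_eq]; exact L1o_1_cardG

theorem L1o_stab1 : grp 24 L1o_E1 ⊓ MulAction.stabilizer (Equiv.Perm (Fin 24)) (⟨1, by decide⟩ : Fin 24) = grp 24 L1o_E2 :=
  by rw [L1o_1_eq]; exact L1o_1_lev

theorem L1o_leO1 : grp 24 L1o_E1 ≤ grp 24 L1 :=
  L1o_1_eq.le.trans (grp_cons_le ((p_le198.trans (le_refl (grp 24 L1))) (p_le201 (toPerm_mem_grp (E := p_V200) (by simp [p_V200])))) L1o_leO2)

theorem L1o_0_fix : grp 24 L1o_E1 ≤ MulAction.stabilizer (Equiv.Perm (Fin 24)) (⟨0, by decide⟩ : Fin 24) :=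
  grp_le_stab L1o_E1_ok (by decide : 0 < 24) (by decide +kernel)

noncomputable def L1o_0_ts : List ℕ := [nat_lit 0, nat_lit 1]

noncomputable def L1o_0_ds : List ℕ := [nat_lit 0, nat_lit 1]

theorem L1o_0_dist : Dist 24 L1o_E1 L1o_G0 (⟨0, by decide⟩ : Fin 24) L1o_0_ts L1o_0_ds :=
  dist_of_distB (k := 1) p_hn L1o_E1_ok L1o_G0_ok (by decide : 0 < 24) (by decide +kernel)

noncomputable def L1o_0_sl0 : SL := (SL.cons (nat_lit 1) (nat_lit 1) (Ch.cons (nat_lit 12) [nat_lit 5] Ch.nil) [nat_lit 1282] SL.nil)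

theorem L1o_0_sc0 : SCs 24 L1o_E1 L1o_G0 (⟨0, by decide⟩ : Fin 24) (SL.words L1o_0_sl0) :=
  scs_of_ok p_hn (det_lab p_hk ⊤) L1o_E1_ok L1o_G0_ok le_top le_top (by decide : 0 < 24) L1o_0_fix L1o_card1.le (by decide +kernel)

noncomputable def L1o_0_l : List ℕ := (appL (SL.words L1o_0_sl0) [])

theorem L1o_0_scs : SCs 24 L1o_E1 L1o_G0 (⟨0, by decide⟩ : Fin 24) L1o_0_l :=
  (SCs.append L1o_0_sc0 SCs.nil)

noncomputable def L1o_0_rl0_0 : RL := (RL.cons (nat_lit 0) (nat_lit 0) (nat_lit 0) (nat_lit 4) (nat_lit 1) (nat_lit 4) (RL.cons (nat_lit 1) (nat_lit 1) (nat_lit 0) (nat_lit 0) (nat_lit 0) (nat_lit 0) (RL.cons (nat_lit 1) (nat_lit 12) (nat_lit 1) (nat_lit 3) (nat_lit 1) (nat_lit 1283) (RL.cons (nat_lit 1) (nat_lit 16) (nat_lit 3) (nat_lit 2) (nat_lit 1) (nat_lit 4) RL.nil))))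

theorem L1o_0_good0_0 : GoodSet 24 L1o_E1 L1o_G0 (⟨0, by decide⟩ : Fin 24) L1o_0_ts (nat_lit 1) (RL.pts L1o_0_rl0_0) :=
  goodSet_of_ok p_hn (det_lab p_hk ⊤) L1o_E1_ok L1o_G0_ok le_top le_top (by decide : 0 < 24) (sepAt_lab p_hk _) (by decide +kernel)

theorem L1o_0_step0 : Step 24 L1o_E1 L1o_G0 L1o_0_ts (2 * 0 + 1) :=
  step_of_cover L1o_E1_ok L1o_0_dist (by decide +kernel) L1o_0_scs (by decide +kernel) L1o_0_good0_0 (kw := [nat_lit 5])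
    (conj_mem_of_scs L1o_E1_ok L1o_G0_ok (by decide : 0 < 24) L1o_0_scs (c := 0) (d := 1) (by decide +kernel)) (by decide +kernel)

theorem L1o_0_lev : grp 24 L1o_G0 ⊓ MulAction.stabilizer (Equiv.Perm (Fin 24)) (⟨0, by decide⟩ : Fin 24) = grp 24 L1o_E1 :=
  sims_level (gs := p_V193) rfl (by decide) L1o_0_fix L1o_0_dist (forall_lt_one L1o_0_step0)

theorem L1o_0_cardG : Nat.card (grp 24 L1o_G0) = 60 :=
  card_of_level p_hn L1o_G0_ok (by decide : 0 < 24) L1o_0_lev L1o_card1 (m := 6) (by decide +kernel)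

theorem p_le210 : grp 24 L1o_E0 ≤ grp 24 L1o_G0 :=
  grp_le_of_memB p_hn p_hk L1o_G0_ok L1o_E0_ok (ws := [nat_lit 1, nat_lit 770, nat_lit 3, nat_lit 5, nat_lit 7]) (by decide +kernel)

theorem p_le211 : grp 24 L1o_G0 ≤ grp 24 L1o_E0 :=
  grp_le_of_memB p_hn p_hk L1o_E0_ok L1o_G0_ok (ws := [nat_lit 1, nat_lit 5, nat_lit 7, nat_lit 9]) (by decide +kernel)

theorem L1o_0_eq : grp 24 L1o_E0 = grp 24 L1o_G0 :=
  le_antisymm p_le210 p_le211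

theorem L1o_card0 : Nat.card (grp 24 L1o_E0) = 60 :=
  by rw [L1o_0_eq]; exact L1o_0_cardG

theorem L1o_stab0 : grp 24 L1o_E0 ⊓ MulAction.stabilizer (Equiv.Perm (Fin 24)) (⟨0, by decide⟩ : Fin 24) = grp 24 L1o_E1 :=
  by rw [L1o_0_eq]; exact L1o_0_lev

theorem L1o_leO0 : grp 24 L1o_E0 ≤ grp 24 L1 :=
  L1o_0_eq.le.trans (grp_cons_le ((le_refl (grp 24 L1)) (p_le194 (toPerm_mem_grp (E := p_V193) (by simp [p_V193])))) L1o_leO1)

theorem p_le212 : grp 24 L1 ≤ grp 24 L1o_E0 :=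
  grp_le_of_memB p_hn p_hk L1o_E0_ok L1_ok (ws := [nat_lit 1, nat_lit 3]) (by decide +kernel)

theorem L1o_eq : grp 24 L1 = grp 24 L1o_E0 :=
  le_antisymm p_le212 L1o_leO0

theorem L1o_card : Nat.card (grp 24 L1) = 60 :=
  by rw [L1o_eq]; exact L1o_card0

noncomputable def L1o_ch : Ch := (Ch.cons (nat_lit 0) [nat_lit 1, nat_lit 3] (Ch.cons (nat_lit 1) [nat_lit 5, nat_lit 7] (Ch.cons (nat_lit 12) [nat_lit 9] Ch.nil)))

theorem L1o_exact : Ch.Exact 24 L1o_E0 L1o_ch (grp 24 L1o_E0) :=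
  Ch.exact (k := 5) (L := (lab 24 5)) p_hn L1o_E0_ok (by decide +kernel) (wgrp_le_grp _ _ _) L1o_card0.le

theorem p_le213 : grp 24 L1 ≤ grp 24 lb_E :=
  grp_le_of_memB p_hn p_hk lb_E_ok L1_ok (ws := [nat_lit 0x110b05090401, nat_lit 0x1715110f0911070307]) (by decide +kernel)

theorem L1_G : grp 24 L1 ≤ (grp 24 E) :=
  (p_le213).trans lb_le

theorem L1_n : grp 24 nt_c1_K ≤ Subgroup.normalizer (grp 24 L1 : Set (Equiv.Perm (Fin 24))) :=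
  EvG.le_norm p_hn p_hk nt_c1_K_ok L1_ok L1o_E0_ok L1o_eq.ge (W := [[nat_lit 1537, nat_lit 1], [nat_lit 1284, nat_lit 524548], [nat_lit 524547, nat_lit 591876]]) (by decide +kernel)

theorem b1_le6 : grp 6 b1_V5 ≤ grp 6 B1_E :=
  grp_le_of_memB b1_hn b1_hk B1_E_ok b1_V5_ok (ws := [nat_lit 0x2030104040202, nat_lit 0x3020303030301]) (by decide +kernel)

theorem b1_le9 : grp 6 b1_V8 ≤ grp 6 b1_V5 :=
  grp_le_of_memB b1_hn b1_hk b1_V5_ok b1_V8_ok (ws := [nat_lit 1026, nat_lit 0x40203020402]) (by decide +kernel)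

theorem B1_lb_le : grp 6 B1_lb_E ≤ grp 6 B1_E :=
  (grp_cons_le ((le_refl (grp 6 B1_E)) (toPerm_mem_grp (E := B1_E) (by simp [B1_E]))) (grp_cons_le ((le_refl (grp 6 B1_E)) (toPerm_mem_grp (E := B1_E) (by simp [B1_E]))) (grp_cons_le ((b1_le6.trans (le_refl (grp 6 B1_E))) (toPerm_mem_grp (E := b1_V5) (by simp [b1_V5]))) (grp_cons_le ((b1_le6.trans (le_refl (grp 6 B1_E))) (toPerm_mem_grp (E := b1_V5) (by simp [b1_V5]))) (grp_cons_le ((b1_le9.trans (b1_le6.trans (le_refl (grp 6 B1_E)))) (toPerm_mem_grp (E := b1_V8) (by simp [b1_V8]))) (grp_cons_le ((b1_le9.trans (b1_le6.trans (le_refl (grp 6 B1_E)))) (toPerm_mem_grp (E := b1_V8) (by simp [b1_V8]))) (grp_nil_le _)))))))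

noncomputable def B1_lb_ch : Ch := (Ch.cons (nat_lit 0) [nat_lit 1, nat_lit 3] (Ch.cons (nat_lit 1) [nat_lit 5, nat_lit 7] (Ch.cons (nat_lit 2) [nat_lit 9, nat_lit 11] Ch.nil)))

theorem B1_lb_chk : Ch.chk 6 3 (lab 6 3) B1_lb_E B1_lb_ch 60 = true :=
  by decide +kernel

theorem B1_lb_ge : 60 ≤ Nat.card (grp 6 B1_E) :=
  (Ch.le_card_grp b1_hn B1_lb_E_ok B1_lb_chk).trans (Subgroup.card_le_of_le B1_lb_le)

noncomputable def B1_M : List ℕ := [(nat_lit 0), (nat_lit 0), (nat_lit 0), (nat_lit 0), (nat_lit 0), (nat_lit 32), (nat_lit 0), (nat_lit 0), (nat_lit 0), (nat_lit 0), (nat_lit 16), (nat_lit 8), (nat_lit 0), (nat_lit 0), (nat_lit 0), (nat_lit 0), (nat_lit 0), (nat_lit 4), (nat_lit 0), (nat_lit 0), (nat_lit 2), (nat_lit 0), (nat_lit 1), (nat_lit 0)]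

theorem B1_inj : Function.Injective (cols 24 6 (nthN B1_M)) :=
  cols_injective (by decide +kernel)

theorem B1_acts : List.Forall₂ (fun o o' => Acts (cols 24 6 (nthN B1_M)) (Net.toPerm 24 o) (Net.toPerm 6 o')) L1 B1_E :=
  (List.Forall₂.cons (inc_of_incB p_g191_ok b1_g1_ok (allN_iff.1 (by decide +kernel))).acts_cols (List.Forall₂.cons (inc_of_incB p_g192_ok b1_g2_ok (allN_iff.1 (by decide +kernel))).acts_cols List.Forall₂.nil))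

theorem B1_ex : Nonempty (grp 24 L1 ≃* grp 6 B1_E) :=
  by
  obtain ⟨ρ, -, h⟩ := exists_hom_grp B1_inj B1_acts
  exact ⟨(exists_equiv_of_hom ρ h (injective_of_card_le ρ h (L1o_card.le.trans B1_lb_ge))).choose⟩

theorem B1_card : Nat.card (grp 6 B1_E) = 60 :=
  (Nat.card_congr B1_ex.some.toEquiv).symm.trans L1o_card

theorem B1_eq : grp 6 B1_E = grp 6 B1_lb_E :=
  le_antisymm (grp_mono (List.subset_append_left B1_E [b1_g3, b1_g4, b1_g7, b1_g7])) B1_lb_le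

theorem B1X_s0 : Stab 6 (grp 6 B1_E) [] B1_lb_E 60 :=
  Stab.root' B1_lb_E_ok B1_eq B1_card

theorem B1X_s1 : Stab 6 (grp 6 B1_E) [nat_lit 0] b1_V10 10 :=
  Stab.step (k := 3) (L := (lab 6 3)) b1_hn B1X_s0 b1_V10_ok (grp_mono (List.subset_append_right [b1_g1, b1_g2] _)) (c := (Ch.cons (nat_lit 1) [nat_lit 1, nat_lit 3] (Ch.cons (nat_lit 2) [nat_lit 5, nat_lit 7] Ch.nil))) (by decide +kernel)

theorem B1_prim : PrimAt (grp 6 B1_E) (⟨0, by decide⟩ : Fin 6) :=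
  B1_eq ▸ primAt_of_primB B1_lb_E_ok (by decide) (hw := [nat_lit 5]) (ts := [nat_lit 3]) (by decide +kernel)

theorem B1_simple : IsSimpleGroup (grp 6 B1_E) :=
  isSimpleGroup_grp b1_hn b1_hk B1_E_ok B1_prim (c := 10) (m := 3) B1_card (by norm_num) (by norm_num) (by decide +kernel)

theorem p_le216 : grp 24 Y1 ≤ grp 24 N_E0 :=
  grp_le_of_memB p_hn p_hk N_E0_ok Y1_ok (ws := [nat_lit 0x1713110e0a0103, nat_lit 0x1a18150d07110107]) (by decide +kernel)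

theorem Y1_le : grp 24 Y1 ≤ (grp 24 EG) :=
  (p_le216.trans T_s0.le)

theorem Y1_sym : Sym 24 (grp 24 EG) L1 Y1 0 :=
  Sym.of_lab p_hn p_hk L1_ok Y1_ok Y1_le (kT := 0) (by decide +kernel)

noncomputable def Y1_cnt_L : List ℕ := [5, 9, T_s14_O, 1, 0]

theorem Y1_cnt_P : Prob 24 5 (grp 24 EG) Y1_cnt_EG L1 L1 Y1 Y1_cnt_L 0 0 :=
  Sym.prob p_hn p_hk Y1_sym Y1_cnt_EG_ok (grp_cons_le p_g83_T (grp_cons_le p_g84_T (grp_cons_le p_g82_T (grp_cons_le p_g81_T (grp_cons_le p_g29_T (grp_cons_le p_g25_T (grp_cons_le p_g26_T (grp_cons_le p_g36_T (grp_cons_le p_g32_T (grp_cons_le p_g33_T (grp_cons_le p_g43_T (grp_cons_le p_g40_T (grp_cons_le p_g47_T (grp_cons_le p_g46_T (grp_cons_le p_g39_T (grp_cons_le p_g22_T (grp_cons_le p_g1_T (grp_cons_le p_g2_T (grp_nil_le _))))))))))))))))))) (Frames.cons T_s14_F Frames.nil) L1_ok _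

noncomputable def Y1_cnt_t : BT := (BT.br (nat_lit 2) (nat_lit 0) [nat_lit 1, nat_lit 3] (BT.dead (nat_lit 1) (BT.img (nat_lit 3) (nat_lit 0) (BT.img (nat_lit 3) (nat_lit 0) (BT.img (nat_lit 1) (nat_lit 0) (BT.img (nat_lit 1) (nat_lit 0) (BT.and (nat_lit 0) (nat_lit 3) (BT.cnt (nat_lit 0))))))) (BT.dead (nat_lit 6) (BT.img (nat_lit 3) (nat_lit 0) (BT.img (nat_lit 3) (nat_lit 0) (BT.img (nat_lit 1) (nat_lit 2) (BT.and (nat_lit 1) (nat_lit 0) (BT.cnt (nat_lit 0)))))) (BT.dead (nat_lit 5) (BT.img (nat_lit 3) (nat_lit 0) (BT.img (nat_lit 3) (nat_lit 0) (BT.img (nat_lit 1) (nat_lit 0) (BT.and (nat_lit 0) (nat_lit 3) (BT.cnt (nat_lit 0)))))) (BT.dead (nat_lit 4) (BT.img (nat_lit 3) (nat_lit 0) (BT.img (nat_lit 3) (nat_lit 0) (BT.img (nat_lit 1) (nat_lit 0) (BT.and (nat_lit 0) (nat_lit 2) (BT.cnt (nat_lit 0)))))) (BT.dead (nat_lit 2) (BT.img (nat_lit 3) (nat_lit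 0) (BT.img (nat_lit 1) (nat_lit 1) (BT.and (nat_lit 1) (nat_lit 0) (BT.cnt (nat_lit 0))))) (BT.kid (nat_lit 0) (nat_lit 1) (BT.img (nat_lit 3) (nat_lit 0) (BT.img (nat_lit 3) (nat_lit 0) (BT.img (nat_lit 1) (nat_lit 0) (BT.img (nat_lit 1) (nat_lit 3) (BT.one (nat_lit 0) (nat_lit 0x101050f) (nat_lit 0x101050f) [nat_lit 1, nat_lit 2, nat_lit 3, nat_lit 0, nat_lit 4]))))) BT.nil)))))))

theorem Y1_cnt : Cnt 24 (grp 24 EG) L1 L1 0 0 0 0 4 :=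
  BT.sound Y1_cnt_P Known.nil (t := Y1_cnt_t) (d := 0) (by decide +kernel)

theorem Y1_ge : 4 ≤ Nat.card (grp 24 Y1) :=
  Ch.le_card_grp (k := 5) (L := (lab 24 5)) p_hn Y1_ok (c := (Ch.cons (nat_lit 0) [nat_lit 1, nat_lit 3] Ch.nil)) (by decide +kernel)

theorem Y1_eq : (grp 24 EG) ⊓ Subgroup.centralizer (grp 24 L1 : Set (Equiv.Perm (Fin 24))) = grp 24 Y1 :=
  cent_grp_eq Y1_sym Y1_cnt Y1_ge

theorem Y1_card : Nat.card (grp 24 Y1) = 4 :=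
  (Y1_sym.mem_iff Y1_cnt Y1_ge).1

theorem cmp1 : EvG.Cmp (grp 24 E) (grp 24 EG) (Net.toPerm 24 p_g76) (grp 24 L1) (grp 24 Y1) :=
  ⟨nt_c1_mem, EvG.sq_net p_hn p_hk (by decide +kernel), L1_G, EvG.le_cent p_hn p_hk (by decide +kernel),
    nt_c1_eq.le.trans L1_n, ⟨3, by rw [nt_c1_card, L1o_card]; norm_num⟩, (have := B1_simple; B1_ex.some.isSimpleGroup),
    EvG.nab_of (toPerm_mem_grp (E := L1) (List.Mem.head _)) (toPerm_mem_grp (E := L1) (List.Mem.tail _ (List.Mem.head _))) (EvG.ncomm_net (k := 5) p_hn (by decide +kernel)),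
    fun _ hy _ h => Y1_eq.le ⟨hy, fun x hx => (h x hx).symm⟩⟩

theorem V1_s0 : Stab 24 (grp 24 L1) [] L1o_E0 60 :=
  Stab.root' L1o_E0_ok L1o_eq L1o_card

theorem p_le219 : grp 24 lt1_c1_K ≤ grp 24 L1o_E0 :=
  grp_le_of_memB p_hn p_hk L1o_E0_ok lt1_c1_K_ok (ws := [nat_lit 0x9060103, nat_lit 2309]) (by decide +kernel)

theorem lt1_c1_le : grp 24 lt1_c1_K ≤ (grp 24 L1) :=
  (p_le219.trans V1_s0.le)

theorem lt1_c1_mem : Net.toPerm 24 p_g217 ∈ (grp 24 L1) :=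
  lt1_c1_le (toPerm_mem_grp (E := lt1_c1_K) (List.Mem.head _))

theorem lt1_c1_sym : Sym 24 (grp 24 L1) [p_g217] lt1_c1_K 0 :=
  Sym.of_lab p_hn p_hk (okE_cons.2 ⟨p_g217_ok, okE_nil _⟩) lt1_c1_K_ok lt1_c1_le (kT := 0) (by decide +kernel)

theorem V1_s1 : Stab 24 (grp 24 L1) [nat_lit 0] p_V220 10 :=
  Stab.step (k := 5) (L := (lab 24 5)) p_hn V1_s0 p_V220_ok (grp_mono (List.subset_append_right [p_g191, p_g192] _)) (c := (Ch.cons (nat_lit 1) [nat_lit 1, nat_lit 3] (Ch.cons (nat_lit 12) [nat_lit 5] Ch.nil))) (by decide +kernel)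

theorem V1_s2 : Stab 24 (grp 24 L1) [nat_lit 1, nat_lit 0] p_V221 2 :=
  Stab.step (k := 5) (L := (lab 24 5)) p_hn V1_s1 p_V221_ok (grp_mono (List.subset_append_right [p_g199, p_g195] _)) (c := (Ch.cons (nat_lit 12) [nat_lit 1] Ch.nil)) (by decide +kernel)

theorem p_le223 : grp 24 p_V222 ≤ grp 24 p_V221 :=
  grp_le_of_memB p_hn p_hk p_V221_ok p_V222_ok (ws := []) (by decide +kernel)

theorem V1_s3 : Stab 24 (grp 24 L1) [nat_lit 16, nat_lit 1, nat_lit 0] p_V222 1 :=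
  Stab.step (k := 5) (L := (lab 24 5)) p_hn V1_s2 p_V222_ok p_le223 (c := Ch.nil) (by decide +kernel)

theorem p_g199_V1 : Net.toPerm 24 p_g199 ∈ (grp 24 L1) :=
  V1_s1.le (toPerm_mem_grp (E := p_V220) (List.Mem.head _))

theorem p_g195_V1 : Net.toPerm 24 p_g195 ∈ (grp 24 L1) :=
  V1_s1.le (toPerm_mem_grp (E := p_V220) (List.Mem.tail _ (List.Mem.head _)))

theorem p_g196_V1 : Net.toPerm 24 p_g196 ∈ (grp 24 L1) :=
  V1_s1.le (toPerm_mem_grp (E := p_V220) (List.Mem.tail _ (List.Mem.tail _ (List.Mem.head _))))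

theorem p_g191_V1 : Net.toPerm 24 p_g191 ∈ (grp 24 L1) :=
  V1_s0.le (toPerm_mem_grp (E := L1o_E0) (List.Mem.head _))

theorem p_g192_V1 : Net.toPerm 24 p_g192 ∈ (grp 24 L1) :=
  V1_s0.le (toPerm_mem_grp (E := L1o_E0) (List.Mem.tail _ (List.Mem.head _)))

noncomputable def V1_s3_O : ℕ := (nat_lit 0x933332e0f83ec67318b26d92000001000002010000)

theorem V1_s3_F : Frame 24 (grp 24 L1) 3 7 V1_s3_O 1 1 :=
  IsBase.frame V1_s3.isBase (by decide +kernel)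

noncomputable def V1_s2_O : ℕ := (nat_lit 0x20000008000002000000040000020000000805000000c000400800001100800080100020002010000001000002)

theorem V1_s2_F : Frame 24 (grp 24 L1) 2 15 V1_s2_O 0 1 :=
  Stab.frame p_hn V1_s2 (by decide +kernel)

noncomputable def V1_s0_O : ℕ := (nat_lit 0xa8c080520c2000225c)

theorem V1_s0_F : Frame 24 (grp 24 L1) 0 3 V1_s0_O 0 1 :=
  Stab.frame p_hn V1_s0 (by decide +kernel)

noncomputable def lt1_c1_cnt_L : List ℕ := [0, 3, V1_s0_O, 0, 0, 2, 15, V1_s2_O, 0, 0, 3, 7, V1_s3_O, 1, 0]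

theorem lt1_c1_cnt_P : Prob 24 5 (grp 24 L1) lt1_c1_cnt_EG [p_g217] [p_g217] lt1_c1_K lt1_c1_cnt_L 0 0 :=
  Sym.prob p_hn p_hk lt1_c1_sym lt1_c1_cnt_EG_ok (grp_cons_le p_g199_V1 (grp_cons_le p_g195_V1 (grp_cons_le p_g196_V1 (grp_cons_le p_g191_V1 (grp_cons_le p_g192_V1 (grp_nil_le _)))))) (Frames.cons V1_s0_F (Frames.cons V1_s2_F (Frames.cons V1_s3_F Frames.nil))) (okE_cons.2 ⟨p_g217_ok, okE_nil _⟩) _

noncomputable def lt1_c1_cnt_t : BT := (BT.frm (nat_lit 0) (nat_lit 0) (nat_lit 0) [] (BT.pln (nat_lit 0) (nat_lit 0) (BT.dif (nat_lit 4) (nat_lit 0) (BT.pln (nat_lit 2) (nat_lit 1) (BT.dif (nat_lit 1) (nat_lit 0) (BT.pln (nat_lit 4) (nat_lit 2) (BT.dif (nat_lit 1) (nat_lit 0) (BT.fix (nat_lit 1) (BT.dif (nat_lit 1) (nat_lit 0) (BT.br (nat_lit 0) (nat_lit 0) [nat_lit 1] (BT.dead (nat_lit 1) (BT.img (nat_lit 1) (nat_lit 0) (BT.frm (nat_lit 1) (nat_lit 3)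 (nat_lit 775) [nat_lit 0, nat_lit 1] (BT.pln (nat_lit 0) (nat_lit 2) (BT.and (nat_lit 0) (nat_lit 5) (BT.cnt (nat_lit 0)))))) (BT.kid (nat_lit 0) (nat_lit 2) (BT.img (nat_lit 1) (nat_lit 0) (BT.frm (nat_lit 1) (nat_lit 3) (nat_lit 3) [nat_lit 0, nat_lit 1] (BT.pln (nat_lit 0) (nat_lit 8) (BT.br (nat_lit 0) (nat_lit 12) [nat_lit 3] (BT.kid (nat_lit 12) (nat_lit 1) (BT.one (nat_lit 2) (nat_lit 3) (nat_lit 3) [nat_lit 0, nat_lit 3, nat_lit 4]) BT.nil))))) BT.nil))))))))))))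

theorem lt1_c1_cnt : Cnt 24 (grp 24 L1) [p_g217] [p_g217] 0 0 0 0 4 :=
  BT.sound lt1_c1_cnt_P Known.nil (t := lt1_c1_cnt_t) (d := 0) (by decide +kernel)

theorem lt1_c1_ge : 4 ≤ Nat.card (grp 24 lt1_c1_K) :=
  Ch.le_card_grp (k := 5) (L := (lab 24 5)) p_hn lt1_c1_K_ok (c := (Ch.cons (nat_lit 0) [nat_lit 1] (Ch.cons (nat_lit 12) [nat_lit 3] Ch.nil))) (by decide +kernel)

theorem lt1_c1_eq : (grp 24 L1) ⊓ Subgroup.centralizer {Net.toPerm 24 p_g217} = grp 24 lt1_c1_K :=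
  cent_eq lt1_c1_sym lt1_c1_cnt lt1_c1_ge

theorem lt1_c1_card : Nat.card ↥((grp 24 L1) ⊓ Subgroup.centralizer {Net.toPerm 24 p_g217}) = 4 :=
  card_cent lt1_c1_sym lt1_c1_cnt lt1_c1_ge

theorem lt1_c1_ord : orderOf (Net.toPerm 24 p_g217) = 2 :=
  orderOf_net p_hn p_hk p_g217_ok (by decide) (ps := [2]) (by set_option linter.unusedSimpArgs false in simp [Nat.primeFactorsList_ofNat]) (by decide +kernel)

theorem p_le225 : grp 24 lt1_c2_K ≤ grp 24 L1o_E0 :=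
  grp_le_of_memB p_hn p_hk L1o_E0_ok lt1_c2_K_ok (ws := [nat_lit 524548]) (by decide +kernel)

theorem lt1_c2_le : grp 24 lt1_c2_K ≤ (grp 24 L1) :=
  (p_le225.trans V1_s0.le)

theorem lt1_c2_mem : Net.toPerm 24 p_g224 ∈ (grp 24 L1) :=
  lt1_c2_le (toPerm_mem_grp (E := lt1_c2_K) (List.Mem.head _))

theorem lt1_c2_sym : Sym 24 (grp 24 L1) [p_g224] lt1_c2_K 0 :=
  Sym.of_lab p_hn p_hk (okE_cons.2 ⟨p_g224_ok, okE_nil _⟩) lt1_c2_K_ok lt1_c2_le (kT := 0) (by decide +kernel)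

theorem V1_s4 : Stab 24 (grp 24 L1) [nat_lit 12, nat_lit 1, nat_lit 0] p_V226 1 :=
  Stab.step (k := 5) (L := (lab 24 5)) p_hn V1_s2 p_V226_ok (grp_mono (List.subset_append_right [p_g196] _)) (c := Ch.nil) (by decide +kernel)

noncomputable def V1_s4_O : ℕ := (nat_lit 0x933332e0f83ec67318b26d92000001000002001000)

theorem V1_s4_F : Frame 24 (grp 24 L1) 3 7 V1_s4_O 1 1 :=
  IsBase.frame V1_s4.isBase (by decide +kernel)

noncomputable def V1_s1_O : ℕ := (nat_lit 0x80000020000000200a0c080500c2000205c000001)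

theorem V1_s1_F : Frame 24 (grp 24 L1) 1 7 V1_s1_O 0 1 :=
  Stab.frame p_hn V1_s1 (by decide +kernel)

noncomputable def lt1_c2_cnt_L : List ℕ := [0, 3, V1_s0_O, 0, 0, 1, 7, V1_s1_O, 0, 0, 2, 15, V1_s2_O, 0, 0, 3, 7, V1_s4_O, 1, 0]

theorem lt1_c2_cnt_P : Prob 24 5 (grp 24 L1) lt1_c2_cnt_EG [p_g224] [p_g224] lt1_c2_K lt1_c2_cnt_L 0 0 :=
  Sym.prob p_hn p_hk lt1_c2_sym lt1_c2_cnt_EG_ok (grp_cons_le p_g191_V1 (grp_cons_le p_g192_V1 (grp_cons_le p_g199_V1 (grp_cons_le p_g195_V1 (grp_cons_le p_g196_V1 (grp_nil_le _)))))) (Frames.cons V1_s0_F (Frames.cons V1_s1_F (Frames.cons V1_s2_F (Frames.cons V1_s4_F Frames.nil)))) (okE_cons.2 ⟨p_g224_ok, okE_nil _⟩) _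

noncomputable def lt1_c2_cnt_t : BT := (BT.frm (nat_lit 0) (nat_lit 0) (nat_lit 0) [] (BT.pln (nat_lit 0) (nat_lit 0) (BT.dif (nat_lit 4) (nat_lit 0) (BT.pln (nat_lit 2) (nat_lit 1) (BT.dif (nat_lit 1) (nat_lit 0) (BT.pln (nat_lit 4) (nat_lit 2) (BT.dif (nat_lit 1) (nat_lit 0) (BT.br (nat_lit 0) (nat_lit 0) [nat_lit 1] (BT.dead (nat_lit 1) (BT.img (nat_lit 1) (nat_lit 0) (BT.frm (nat_lit 2) (nat_lit 5) (nat_lit 1281) [nat_lit 0, nat_lit 1] (BT.pln (nat_lit 0) (nat_lit 2) (BT.frm (nat_lit 1) (nat_lit 0) (nat_lit 1) [nat_lit 3] (BT.pln (nat_lit 0) (nat_lit 1) (BT.dif (nat_lit 11) (nat_lit 0) (BT.img (nat_lit 1) (nat_lit 0) (BT.and (nat_lit 13) (nat_lit 0) (BT.img (nat_lit 1) (nat_lit 0) (BT.and (nat_lit 6) (nat_lit 0) (BT.cnt (nat_lit 0)))))))))))) (BT.kid (nat_lit 0) (nat_lit 1) (BT.img (nat_lit 1) (nat_lit 0) (BT.frm (nat_lit 2) (nat_lit 5) (nat_lit 5)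 [nat_lit 0, nat_lit 1] (BT.pln (nat_lit 0) (nat_lit 5) (BT.pln (nat_lit 1) (nat_lit 8) (BT.img (nat_lit 1) (nat_lit 3) (BT.dif (nat_lit 1) (nat_lit 0) (BT.img (nat_lit 1) (nat_lit 0) (BT.and (nat_lit 4) (nat_lit 0) (BT.one (nat_lit 3) (nat_lit 5) (nat_lit 5) [nat_lit 0, nat_lit 7, nat_lit 8]))))))))) BT.nil))))))))))

theorem lt1_c2_cnt : Cnt 24 (grp 24 L1) [p_g224] [p_g224] 0 0 0 0 3 :=
  BT.sound lt1_c2_cnt_P Known.nil (t := lt1_c2_cnt_t) (d := 0) (by decide +kernel)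

theorem lt1_c2_ge : 3 ≤ Nat.card (grp 24 lt1_c2_K) :=
  Ch.le_card_grp (k := 5) (L := (lab 24 5)) p_hn lt1_c2_K_ok (c := (Ch.cons (nat_lit 0) [nat_lit 1] Ch.nil)) (by decide +kernel)

theorem lt1_c2_eq : (grp 24 L1) ⊓ Subgroup.centralizer {Net.toPerm 24 p_g224} = grp 24 lt1_c2_K :=
  cent_eq lt1_c2_sym lt1_c2_cnt lt1_c2_ge

theorem lt1_c2_card : Nat.card ↥((grp 24 L1) ⊓ Subgroup.centralizer {Net.toPerm 24 p_g224}) = 3 :=
  card_cent lt1_c2_sym lt1_c2_cnt lt1_c2_ge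

theorem lt1_c2_ord : orderOf (Net.toPerm 24 p_g224) = 3 :=
  orderOf_net p_hn p_hk p_g224_ok (by decide) (ps := [3]) (by set_option linter.unusedSimpArgs false in simp [Nat.primeFactorsList_ofNat]) (by decide +kernel)

theorem p_le228 : grp 24 lt1_c3_K ≤ grp 24 L1o_E0 :=
  grp_le_of_memB p_hn p_hk L1o_E0_ok lt1_c3_K_ok (ws := [nat_lit 327939]) (by decide +kernel)

theorem lt1_c3_le : grp 24 lt1_c3_K ≤ (grp 24 L1) :=
  (p_le228.trans V1_s0.le)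

theorem lt1_c3_mem : Net.toPerm 24 p_g227 ∈ (grp 24 L1) :=
  lt1_c3_le (toPerm_mem_grp (E := lt1_c3_K) (List.Mem.head _))

theorem lt1_c3_sym : Sym 24 (grp 24 L1) [p_g227] lt1_c3_K 0 :=
  Sym.of_lab p_hn p_hk (okE_cons.2 ⟨p_g227_ok, okE_nil _⟩) lt1_c3_K_ok lt1_c3_le (kT := 0) (by decide +kernel)

noncomputable def lt1_c3_cnt_L : List ℕ := [0, 3, V1_s0_O, 0, 0, 3, 7, V1_s4_O, 1, 0]

theorem lt1_c3_cnt_P : Prob 24 5 (grp 24 L1) lt1_c3_cnt_EG [p_g227] [p_g227] lt1_c3_K lt1_c3_cnt_L 0 0 :=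
  Sym.prob p_hn p_hk lt1_c3_sym lt1_c3_cnt_EG_ok (grp_cons_le p_g196_V1 (grp_cons_le p_g199_V1 (grp_cons_le p_g195_V1 (grp_cons_le p_g191_V1 (grp_cons_le p_g192_V1 (grp_nil_le _)))))) (Frames.cons V1_s0_F (Frames.cons V1_s4_F Frames.nil)) (okE_cons.2 ⟨p_g227_ok, okE_nil _⟩) _

noncomputable def lt1_c3_cnt_t : BT := (BT.frm (nat_lit 0) (nat_lit 0) (nat_lit 0) [] (BT.pln (nat_lit 0) (nat_lit 0) (BT.dif (nat_lit 4) (nat_lit 0) (BT.pln (nat_lit 2) (nat_lit 1) (BT.dif (nat_lit 1) (nat_lit 0) (BT.pln (nat_lit 4) (nat_lit 2) (BT.dif (nat_lit 1) (nat_lit 0) (BT.fix (nat_lit 1) (BT.dif (nat_lit 1) (nat_lit 0) (BT.br (nat_lit 0) (nat_lit 0) [nat_lit 1] (BT.kid (nat_lit 0) (nat_lit 1) (BT.img (nat_lit 1) (nat_lit 0) (BT.dif (nat_lit 3) (nat_lit 9) (BT.dif (nat_lit 0) (nat_lit 8) (BT.dif (nat_lit 0) (nat_lit 7) (BT.one (nat_lit 1) (nat_lit 67082) (nat_lit 67082) [nat_lit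 3, nat_lit 4, nat_lit 0]))))) BT.nil)))))))))))

theorem lt1_c3_cnt : Cnt 24 (grp 24 L1) [p_g227] [p_g227] 0 0 0 0 5 :=
  BT.sound lt1_c3_cnt_P Known.nil (t := lt1_c3_cnt_t) (d := 0) (by decide +kernel)

theorem lt1_c3_ge : 5 ≤ Nat.card (grp 24 lt1_c3_K) :=
  Ch.le_card_grp (k := 5) (L := (lab 24 5)) p_hn lt1_c3_K_ok (c := (Ch.cons (nat_lit 0) [nat_lit 1] Ch.nil)) (by decide +kernel)

theorem lt1_c3_eq : (grp 24 L1) ⊓ Subgroup.centralizer {Net.toPerm 24 p_g227} = grp 24 lt1_c3_K :=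
  cent_eq lt1_c3_sym lt1_c3_cnt lt1_c3_ge

theorem lt1_c3_card : Nat.card ↥((grp 24 L1) ⊓ Subgroup.centralizer {Net.toPerm 24 p_g227}) = 5 :=
  card_cent lt1_c3_sym lt1_c3_cnt lt1_c3_ge

theorem lt1_c3_ord : orderOf (Net.toPerm 24 p_g227) = 5 :=
  orderOf_net p_hn p_hk p_g227_ok (by decide) (ps := [5]) (by set_option linter.unusedSimpArgs false in simp [Nat.primeFactorsList_ofNat]) (by decide +kernel)

theorem p_le230 : grp 24 lt1_c4_K ≤ grp 24 L1o_E0 :=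
  grp_le_of_memB p_hn p_hk L1o_E0_ok lt1_c4_K_ok (ws := [nat_lit 459012]) (by decide +kernel)

theorem lt1_c4_le : grp 24 lt1_c4_K ≤ (grp 24 L1) :=
  (p_le230.trans V1_s0.le)

theorem lt1_c4_mem : Net.toPerm 24 p_g229 ∈ (grp 24 L1) :=
  lt1_c4_le (toPerm_mem_grp (E := lt1_c4_K) (List.Mem.head _))

theorem lt1_c4_sym : Sym 24 (grp 24 L1) [p_g229] lt1_c4_K 0 :=
  Sym.of_lab p_hn p_hk (okE_cons.2 ⟨p_g229_ok, okE_nil _⟩) lt1_c4_K_ok lt1_c4_le (kT := 0) (by decide +kernel)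

noncomputable def lt1_c4_cnt_L : List ℕ := [0, 3, V1_s0_O, 0, 0, 3, 7, V1_s4_O, 1, 0]

theorem lt1_c4_cnt_P : Prob 24 5 (grp 24 L1) lt1_c4_cnt_EG [p_g229] [p_g229] lt1_c4_K lt1_c4_cnt_L 0 0 :=
  Sym.prob p_hn p_hk lt1_c4_sym lt1_c4_cnt_EG_ok (grp_cons_le p_g196_V1 (grp_cons_le p_g199_V1 (grp_cons_le p_g195_V1 (grp_cons_le p_g191_V1 (grp_cons_le p_g192_V1 (grp_nil_le _)))))) (Frames.cons V1_s0_F (Frames.cons V1_s4_F Frames.nil)) (okE_cons.2 ⟨p_g229_ok, okE_nil _⟩) _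

noncomputable def lt1_c4_cnt_t : BT := (BT.frm (nat_lit 0) (nat_lit 0) (nat_lit 0) [] (BT.pln (nat_lit 0) (nat_lit 0) (BT.dif (nat_lit 4) (nat_lit 0) (BT.pln (nat_lit 2) (nat_lit 1) (BT.dif (nat_lit 1) (nat_lit 0) (BT.pln (nat_lit 4) (nat_lit 2) (BT.dif (nat_lit 1) (nat_lit 0) (BT.fix (nat_lit 1) (BT.dif (nat_lit 1) (nat_lit 0) (BT.br (nat_lit 0) (nat_lit 0) [nat_lit 1] (BT.kid (nat_lit 0) (nat_lit 1) (BT.img (nat_lit 1) (nat_lit 0) (BT.img (nat_lit 1) (nat_lit 0) (BT.dif (nat_lit 4) (nat_lit 10) (BT.dif (nat_lit 0) (nat_lit 9) (BT.dif (nat_lit 0) (nat_lit 8) (BT.one (nat_lit 1) (nat_lit 1546) (nat_lit 1546) [nat_lit 3, nat_lit 5, nat_lit 0])))))) BT.nil)))))))))))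

theorem lt1_c4_cnt : Cnt 24 (grp 24 L1) [p_g229] [p_g229] 0 0 0 0 5 :=
  BT.sound lt1_c4_cnt_P Known.nil (t := lt1_c4_cnt_t) (d := 0) (by decide +kernel)

theorem lt1_c4_ge : 5 ≤ Nat.card (grp 24 lt1_c4_K) :=
  Ch.le_card_grp (k := 5) (L := (lab 24 5)) p_hn lt1_c4_K_ok (c := (Ch.cons (nat_lit 0) [nat_lit 1] Ch.nil)) (by decide +kernel)

theorem lt1_c4_eq : (grp 24 L1) ⊓ Subgroup.centralizer {Net.toPerm 24 p_g229} = grp 24 lt1_c4_K :=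
  cent_eq lt1_c4_sym lt1_c4_cnt lt1_c4_ge

theorem lt1_c4_card : Nat.card ↥((grp 24 L1) ⊓ Subgroup.centralizer {Net.toPerm 24 p_g229}) = 5 :=
  card_cent lt1_c4_sym lt1_c4_cnt lt1_c4_ge

theorem lt1_c4_ord : orderOf (Net.toPerm 24 p_g229) = 5 :=
  orderOf_net p_hn p_hk p_g229_ok (by decide) (ps := [5]) (by set_option linter.unusedSimpArgs false in simp [Nat.primeFactorsList_ofNat]) (by decide +kernel)

noncomputable def lt1_xs : List Net := [Net.nil, p_g217, p_g224, p_g227, p_g229]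

noncomputable def lt1_cs : List ℕ := [60, 4, 3, 5, 5]

noncomputable def lt1_os : List ℕ := [1, 2, 3, 5, 5]

theorem lt1_reps : Reps 24 (grp 24 L1) lt1_xs lt1_cs lt1_os :=
  (Reps.cons rfl (one_mem _) (card_cent_nil L1o_card) orderOf_one (Reps.cons p_g217_ok lt1_c1_mem lt1_c1_card lt1_c1_ord (Reps.cons p_g224_ok lt1_c2_mem lt1_c2_card lt1_c2_ord (Reps.cons p_g227_ok lt1_c3_mem lt1_c3_card lt1_c3_ord (Reps.cons p_g229_ok lt1_c4_mem lt1_c4_card lt1_c4_ord Reps.nil)))))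

noncomputable def lt1_nc4_3_cnt_L : List ℕ := [0, 3, V1_s0_O, 0, 0, 2, 15, V1_s2_O, 0, 0]

theorem lt1_nc4_3_cnt_P : Prob 24 5 (grp 24 L1) lt1_nc4_3_cnt_EG [p_g229] [p_g227] lt1_c3_K lt1_nc4_3_cnt_L 0 0 :=
  Sym.prob p_hn p_hk lt1_c3_sym lt1_nc4_3_cnt_EG_ok (grp_cons_le p_g199_V1 (grp_cons_le p_g195_V1 (grp_cons_le p_g196_V1 (grp_cons_le p_g191_V1 (grp_cons_le p_g192_V1 (grp_nil_le _)))))) (Frames.cons V1_s0_F (Frames.cons V1_s2_F Frames.nil)) (okE_cons.2 ⟨p_g229_ok, okE_nil _⟩) _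

noncomputable def lt1_nc4_3_cnt_t : BT := (BT.frm (nat_lit 0) (nat_lit 0) (nat_lit 0) [] (BT.pln (nat_lit 0) (nat_lit 0) (BT.dif (nat_lit 4) (nat_lit 0) (BT.pln (nat_lit 2) (nat_lit 1) (BT.dif (nat_lit 1) (nat_lit 0) (BT.pln (nat_lit 4) (nat_lit 2) (BT.dif (nat_lit 1) (nat_lit 0) (BT.fix (nat_lit 1) (BT.dif (nat_lit 1) (nat_lit 0) (BT.br (nat_lit 0) (nat_lit 0) [nat_lit 1] (BT.dead (nat_lit 0) (BT.dif (nat_lit 2) (nat_lit 8) (BT.dif (nat_lit 0) (nat_lit 7) (BT.dif (nat_lit 0) (nat_lit 6) (BT.frm (nat_lit 1) (nat_lit 1034) (nat_lit 1034) [nat_lit 3, nat_lit 0] (BT.pln (nat_lit 0) (nat_lit 5) (BT.img (nat_lit 1) (nat_lit 5) (BT.and (nat_lit 1) (nat_lit 0) (BT.cnt (nat_lit 0))))))))) BT.nil)))))))))))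

theorem lt1_nc4_3_cnt : Cnt 24 (grp 24 L1) [p_g229] [p_g227] 0 0 0 0 0 :=
  BT.sound lt1_nc4_3_cnt_P Known.nil (t := lt1_nc4_3_cnt_t) (d := 0) (by decide +kernel)

theorem lt1_nc4_3 : ¬ CjIn (grp 24 L1) (Net.toPerm 24 p_g229) (Net.toPerm 24 p_g227) :=
  not_cjIn lt1_nc4_3_cnt

theorem lt1_exc : Exc 24 (grp 24 L1) lt1_xs [4003] :=
  (Exc.cons 4 3 (by decide) lt1_nc4_3 Exc.nil)

theorem lt1 : Table 24 (grp 24 L1) lt1_xs lt1_cs lt1_os :=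
  Reps.table (D := 1) p_hn p_hk lt1_reps lt1_exc L1o_card (by decide +kernel)

theorem j1_G : Net.toPerm 24 p_g231 ∈ (grp 24 E) :=
  lb_le (mem_grp_of_memB p_hn p_hk lb_E_ok p_g231_ok (w := (nat_lit 0x170d060f030a)) (by decide +kernel))

theorem kf1 : ∀ {α : MulAut (grp 24 E)}, EvG.Ind (grp 24 E) (Net.toPerm 24 p_g76) α → H62.EV.KF α ((grp 24 L1).subgroupOf (grp 24 E)) :=
  fun hα => cmp1.kf hα (m := 2) (by rw [L1o_card]; norm_num) fun a ha ho hd => by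
  obtain ⟨i, hi, hc, h1, h2⟩ := lt1.exists ha
  rw [ho] at h1
  rw [h2] at hd
  obtain rfl := (by decide +kernel : ∀ i < lt1_xs.length, 2 = nthN lt1_os i → 2 ^ 2 ∣ nthN lt1_cs i → 1 = i) i hi h1 hd
  exact ⟨_, hc, _, j1_G, EvG.cob_net p_hn p_hk (by decide +kernel)⟩

theorem p_le235 : grp 24 p_V234 ≤ grp 24 L3 :=
  grp_le_of_memB p_hn p_hk L3_ok p_V234_ok (ws := [nat_lit 1]) (by decide +kernel)

theorem p_le238 : grp 24 p_V237 ≤ grp 24 L3 :=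
  grp_le_of_memB p_hn p_hk L3_ok p_V237_ok (ws := [nat_lit 0x104010401040402, nat_lit 0x301040202]) (by decide +kernel)

theorem p_le241 : grp 24 p_V240 ≤ grp 24 p_V237 :=
  grp_le_of_memB p_hn p_hk p_V237_ok p_V240_ok (ws := [nat_lit 2]) (by decide +kernel)

theorem p_le244 : grp 24 p_V243 ≤ grp 24 p_V237 :=
  grp_le_of_memB p_hn p_hk p_V237_ok p_V243_ok (ws := [nat_lit 0x10101040101, nat_lit 0x30104040202]) (by decide +kernel)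

theorem p_le246 : grp 24 p_V245 ≤ grp 24 p_V243 :=
  grp_le_of_memB p_hn p_hk p_V243_ok p_V245_ok (ws := [nat_lit 1]) (by decide +kernel)

theorem L3o_card3 : Nat.card (grp 24 L3o_E3) = 1 :=
  card_grp_nil 24

theorem L3o_leO3 : grp 24 L3o_E3 ≤ grp 24 L3 :=
  grp_nil_le _

theorem L3o_2_fix : grp 24 L3o_E3 ≤ MulAction.stabilizer (Equiv.Perm (Fin 24)) (⟨9, by decide⟩ : Fin 24) :=
  grp_le_stab L3o_E3_ok (by decide : 9 < 24) (by decide +kernel)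

noncomputable def L3o_2_ts : List ℕ := [nat_lit 0, nat_lit 1]

noncomputable def L3o_2_ds : List ℕ := [nat_lit 9, nat_lit 13]

theorem L3o_2_dist : Dist 24 L3o_E3 L3o_G2 (⟨9, by decide⟩ : Fin 24) L3o_2_ts L3o_2_ds :=
  dist_of_distB (k := 1) p_hn L3o_E3_ok L3o_G2_ok (by decide : 9 < 24) (by decide +kernel)

noncomputable def L3o_2_sl0 : SL := (SL.cons (nat_lit 1) (nat_lit 13) Ch.nil [] SL.nil)

theorem L3o_2_sc0 : SCs 24 L3o_E3 L3o_G2 (⟨9, by decide⟩ : Fin 24) (SL.words L3o_2_sl0) :=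
  scs_of_ok p_hn (det_lab p_hk ⊤) L3o_E3_ok L3o_G2_ok le_top le_top (by decide : 9 < 24) L3o_2_fix L3o_card3.le (by decide +kernel)

noncomputable def L3o_2_l : List ℕ := (appL (SL.words L3o_2_sl0) [])

theorem L3o_2_scs : SCs 24 L3o_E3 L3o_G2 (⟨9, by decide⟩ : Fin 24) L3o_2_l :=
  (SCs.append L3o_2_sc0 SCs.nil)

noncomputable def L3o_2_rl0_0 : RL := (RL.cons (nat_lit 0) (nat_lit 9) (nat_lit 0) (nat_lit 0) (nat_lit 1) (nat_lit 0) (RL.cons (nat_lit 1) (nat_lit 13) (nat_lit 0) (nat_lit 0) (nat_lit 0) (nat_lit 0) RL.nil))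

theorem L3o_2_good0_0 : GoodSet 24 L3o_E3 L3o_G2 (⟨9, by decide⟩ : Fin 24) L3o_2_ts (nat_lit 1) (RL.pts L3o_2_rl0_0) :=
  goodSet_of_ok p_hn (det_lab p_hk ⊤) L3o_E3_ok L3o_G2_ok le_top le_top (by decide : 9 < 24) (sepAt_lab p_hk _) (by decide +kernel)

theorem L3o_2_step0 : Step 24 L3o_E3 L3o_G2 L3o_2_ts (2 * 0 + 1) :=
  step_of_cover L3o_E3_ok L3o_2_dist (by decide +kernel) L3o_2_scs (by decide +kernel) L3o_2_good0_0 (kw := [])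
    (conj_mem_of_scs L3o_E3_ok L3o_G2_ok (by decide : 9 < 24) L3o_2_scs (c := 0) (d := 13) (by decide +kernel)) (by decide +kernel)

theorem L3o_2_lev : grp 24 L3o_G2 ⊓ MulAction.stabilizer (Equiv.Perm (Fin 24)) (⟨9, by decide⟩ : Fin 24) = grp 24 L3o_E3 :=
  sims_level (gs := p_V245) rfl (by decide) L3o_2_fix L3o_2_dist (forall_lt_one L3o_2_step0)

theorem L3o_2_cardG : Nat.card (grp 24 L3o_G2) = 2 :=
  card_of_level p_hn L3o_G2_ok (by decide : 9 < 24) L3o_2_lev L3o_card3 (m := 2) (by decide +kernel)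

theorem p_le247 : grp 24 L3o_E2 ≤ grp 24 L3o_G2 :=
  grp_le_of_memB p_hn p_hk L3o_G2_ok L3o_E2_ok (ws := [nat_lit 1]) (by decide +kernel)

theorem p_le248 : grp 24 L3o_G2 ≤ grp 24 L3o_E2 :=
  grp_le_of_memB p_hn p_hk L3o_E2_ok L3o_G2_ok (ws := [nat_lit 1]) (by decide +kernel)

theorem L3o_2_eq : grp 24 L3o_E2 = grp 24 L3o_G2 :=
  le_antisymm p_le247 p_le248

theorem L3o_card2 : Nat.card (grp 24 L3o_E2) = 2 :=
  by rw [L3o_2_eq]; exact L3o_2_cardG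

theorem L3o_stab2 : grp 24 L3o_E2 ⊓ MulAction.stabilizer (Equiv.Perm (Fin 24)) (⟨9, by decide⟩ : Fin 24) = grp 24 L3o_E3 :=
  by rw [L3o_2_eq]; exact L3o_2_lev

theorem L3o_leO2 : grp 24 L3o_E2 ≤ grp 24 L3 :=
  L3o_2_eq.le.trans (grp_cons_le ((p_le244.trans (p_le238.trans (le_refl (grp 24 L3)))) (p_le246 (toPerm_mem_grp (E := p_V245) (by simp [p_V245])))) L3o_leO3)

theorem L3o_1_fix : grp 24 L3o_E2 ≤ MulAction.stabilizer (Equiv.Perm (Fin 24)) (⟨6, by decide⟩ : Fin 24) :=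
  grp_le_stab L3o_E2_ok (by decide : 6 < 24) (by decide +kernel)

noncomputable def L3o_1_ts : List ℕ := [nat_lit 0, nat_lit 1, nat_lit 257]

noncomputable def L3o_1_ds : List ℕ := [nat_lit 6, nat_lit 9, nat_lit 4]

theorem L3o_1_dist : Dist 24 L3o_E2 L3o_G1 (⟨6, by decide⟩ : Fin 24) L3o_1_ts L3o_1_ds :=
  dist_of_distB (k := 2) p_hn L3o_E2_ok L3o_G1_ok (by decide : 6 < 24) (by decide +kernel)

noncomputable def L3o_1_sl0 : SL := (SL.cons (nat_lit 1) (nat_lit 9) Ch.nil [] (SL.cons (nat_lit 257) (nat_lit 4) Ch.nil [] SL.nil))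

theorem L3o_1_sc0 : SCs 24 L3o_E2 L3o_G1 (⟨6, by decide⟩ : Fin 24) (SL.words L3o_1_sl0) :=
  scs_of_ok p_hn (det_lab p_hk ⊤) L3o_E2_ok L3o_G1_ok le_top le_top (by decide : 6 < 24) L3o_1_fix L3o_card2.le (by decide +kernel)

noncomputable def L3o_1_l : List ℕ := (appL (SL.words L3o_1_sl0) [])

theorem L3o_1_scs : SCs 24 L3o_E2 L3o_G1 (⟨6, by decide⟩ : Fin 24) L3o_1_l :=
  (SCs.append L3o_1_sc0 SCs.nil)

noncomputable def L3o_1_rl0_0 : RL := (RL.cons (nat_lit 0) (nat_lit 6) (nat_lit 0) (nat_lit 1) (nat_lit 1) (nat_lit 1) (RL.cons (nat_lit 1) (nat_lit 9) (nat_lit 0) (nat_lit 0) (nat_lit 0) (nat_lit 0) (RL.cons (nat_lit 1) (nat_lit 13) (nat_lit 1) (nat_lit 1) (nat_lit 2) (nat_lit 0) (RL.cons (nat_lit 2) (nat_lit 4) (nat_lit 0) (nat_lit 0) (nat_lit 1) (nat_lit 0) (RL.cons (nat_lit 2) (nat_lit 3) (nat_lit 1) (nat_lit 0) (nat_lit 2) (nat_lit 1) RL.nil)))))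

theorem L3o_1_good0_0 : GoodSet 24 L3o_E2 L3o_G1 (⟨6, by decide⟩ : Fin 24) L3o_1_ts (nat_lit 1) (RL.pts L3o_1_rl0_0) :=
  goodSet_of_ok p_hn (det_lab p_hk ⊤) L3o_E2_ok L3o_G1_ok le_top le_top (by decide : 6 < 24) (sepAt_lab p_hk _) (by decide +kernel)

theorem L3o_1_step0 : Step 24 L3o_E2 L3o_G1 L3o_1_ts (2 * 0 + 1) :=
  step_of_cover L3o_E2_ok L3o_1_dist (by decide +kernel) L3o_1_scs (by decide +kernel) L3o_1_good0_0 (kw := [])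
    (conj_mem_of_scs L3o_E2_ok L3o_G1_ok (by decide : 6 < 24) L3o_1_scs (c := 0) (d := 9) (by decide +kernel)) (by decide +kernel)

theorem L3o_1_lev : grp 24 L3o_G1 ⊓ MulAction.stabilizer (Equiv.Perm (Fin 24)) (⟨6, by decide⟩ : Fin 24) = grp 24 L3o_E2 :=
  sims_level (gs := p_V240) rfl (by decide) L3o_1_fix L3o_1_dist (forall_lt_one L3o_1_step0)

theorem L3o_1_cardG : Nat.card (grp 24 L3o_G1) = 10 :=
  card_of_level p_hn L3o_G1_ok (by decide : 6 < 24) L3o_1_lev L3o_card2 (m := 5) (by decide +kernel)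

theorem p_le249 : grp 24 L3o_E1 ≤ grp 24 L3o_G1 :=
  grp_le_of_memB p_hn p_hk L3o_G1_ok L3o_E1_ok (ws := [nat_lit 1, nat_lit 2, nat_lit 770, nat_lit 3]) (by decide +kernel)

theorem p_le250 : grp 24 L3o_G1 ≤ grp 24 L3o_E1 :=
  grp_le_of_memB p_hn p_hk L3o_E1_ok L3o_G1_ok (ws := [nat_lit 1, nat_lit 7]) (by decide +kernel)

theorem L3o_1_eq : grp 24 L3o_E1 = grp 24 L3o_G1 :=
  le_antisymm p_le249 p_le250

theorem L3o_card1 : Nat.card (grp 24 L3o_E1) = 10 :=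
  by rw [L3o_1_eq]; exact L3o_1_cardG

theorem L3o_stab1 : grp 24 L3o_E1 ⊓ MulAction.stabilizer (Equiv.Perm (Fin 24)) (⟨6, by decide⟩ : Fin 24) = grp 24 L3o_E2 :=
  by rw [L3o_1_eq]; exact L3o_1_lev

theorem L3o_leO1 : grp 24 L3o_E1 ≤ grp 24 L3 :=
  L3o_1_eq.le.trans (grp_cons_le ((p_le238.trans (le_refl (grp 24 L3))) (p_le241 (toPerm_mem_grp (E := p_V240) (by simp [p_V240])))) L3o_leO2)

theorem L3o_0_fix : grp 24 L3o_E1 ≤ MulAction.stabilizer (Equiv.Perm (Fin 24)) (⟨0, by decide⟩ : Fin 24) :=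
  grp_le_stab L3o_E1_ok (by decide : 0 < 24) (by decide +kernel)

noncomputable def L3o_0_ts : List ℕ := [nat_lit 0, nat_lit 1]

noncomputable def L3o_0_ds : List ℕ := [nat_lit 0, nat_lit 6]

theorem L3o_0_dist : Dist 24 L3o_E1 L3o_G0 (⟨0, by decide⟩ : Fin 24) L3o_0_ts L3o_0_ds :=
  dist_of_distB (k := 1) p_hn L3o_E1_ok L3o_G0_ok (by decide : 0 < 24) (by decide +kernel)

noncomputable def L3o_0_sl0 : SL := (SL.cons (nat_lit 1) (nat_lit 6) (Ch.cons (nat_lit 9) [nat_lit 7] Ch.nil) [nat_lit 459009] SL.nil)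

theorem L3o_0_sc0 : SCs 24 L3o_E1 L3o_G0 (⟨0, by decide⟩ : Fin 24) (SL.words L3o_0_sl0) :=
  scs_of_ok p_hn (det_lab p_hk ⊤) L3o_E1_ok L3o_G0_ok le_top le_top (by decide : 0 < 24) L3o_0_fix L3o_card1.le (by decide +kernel)

noncomputable def L3o_0_l : List ℕ := (appL (SL.words L3o_0_sl0) [])

theorem L3o_0_scs : SCs 24 L3o_E1 L3o_G0 (⟨0, by decide⟩ : Fin 24) L3o_0_l :=
  (SCs.append L3o_0_sc0 SCs.nil)

noncomputable def L3o_0_rl0_0 : RL := (RL.cons (nat_lit 0) (nat_lit 0) (nat_lit 0) (nat_lit 1) (nat_lit 1) (nat_lit 1) (RL.cons (nat_lit 1) (nat_lit 6) (nat_lit 0) (nat_lit 0) (nat_lit 0) (nat_lit 0) (RL.cons (nat_lit 1) (nat_lit 9) (nat_lit 1) (nat_lit 0) (nat_lit 1) (nat_lit 2) (RL.cons (nat_lit 1) (nat_lit 4) (nat_lit 257) (nat_lit 261) (nat_lit 1) (nat_lit 257) RL.nil))))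

theorem L3o_0_good0_0 : GoodSet 24 L3o_E1 L3o_G0 (⟨0, by decide⟩ : Fin 24) L3o_0_ts (nat_lit 1) (RL.pts L3o_0_rl0_0) :=
  goodSet_of_ok p_hn (det_lab p_hk ⊤) L3o_E1_ok L3o_G0_ok le_top le_top (by decide : 0 < 24) (sepAt_lab p_hk _) (by decide +kernel)

theorem L3o_0_step0 : Step 24 L3o_E1 L3o_G0 L3o_0_ts (2 * 0 + 1) :=
  step_of_cover L3o_E1_ok L3o_0_dist (by decide +kernel) L3o_0_scs (by decide +kernel) L3o_0_good0_0 (kw := [nat_lit 7])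
    (conj_mem_of_scs L3o_E1_ok L3o_G0_ok (by decide : 0 < 24) L3o_0_scs (c := 0) (d := 6) (by decide +kernel)) (by decide +kernel)

theorem L3o_0_lev : grp 24 L3o_G0 ⊓ MulAction.stabilizer (Equiv.Perm (Fin 24)) (⟨0, by decide⟩ : Fin 24) = grp 24 L3o_E1 :=
  sims_level (gs := p_V234) rfl (by decide) L3o_0_fix L3o_0_dist (forall_lt_one L3o_0_step0)

theorem L3o_0_cardG : Nat.card (grp 24 L3o_G0) = 60 :=
  card_of_level p_hn L3o_G0_ok (by decide : 0 < 24) L3o_0_lev L3o_card1 (m := 6) (by decide +kernel)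

theorem p_le251 : grp 24 L3o_E0 ≤ grp 24 L3o_G0 :=
  grp_le_of_memB p_hn p_hk L3o_G0_ok L3o_E0_ok (ws := [nat_lit 1, nat_lit 0x3070104, nat_lit 3, nat_lit 5, nat_lit 7, nat_lit 9]) (by decide +kernel)

theorem p_le252 : grp 24 L3o_G0 ≤ grp 24 L3o_E0 :=
  grp_le_of_memB p_hn p_hk L3o_E0_ok L3o_G0_ok (ws := [nat_lit 1, nat_lit 5, nat_lit 7, nat_lit 9, nat_lit 11]) (by decide +kernel)

theorem L3o_0_eq : grp 24 L3o_E0 = grp 24 L3o_G0 :=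
  le_antisymm p_le251 p_le252

theorem L3o_card0 : Nat.card (grp 24 L3o_E0) = 60 :=
  by rw [L3o_0_eq]; exact L3o_0_cardG

theorem L3o_stab0 : grp 24 L3o_E0 ⊓ MulAction.stabilizer (Equiv.Perm (Fin 24)) (⟨0, by decide⟩ : Fin 24) = grp 24 L3o_E1 :=
  by rw [L3o_0_eq]; exact L3o_0_lev

theorem L3o_leO0 : grp 24 L3o_E0 ≤ grp 24 L3 :=
  L3o_0_eq.le.trans (grp_cons_le ((le_refl (grp 24 L3)) (p_le235 (toPerm_mem_grp (E := p_V234) (by simp [p_V234])))) L3o_leO1)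

theorem p_le253 : grp 24 L3 ≤ grp 24 L3o_E0 :=
  grp_le_of_memB p_hn p_hk L3o_E0_ok L3_ok (ws := [nat_lit 1, nat_lit 3]) (by decide +kernel)

theorem L3o_eq : grp 24 L3 = grp 24 L3o_E0 :=
  le_antisymm p_le253 L3o_leO0

theorem L3o_card : Nat.card (grp 24 L3) = 60 :=
  by rw [L3o_eq]; exact L3o_card0

noncomputable def L3o_ch : Ch := (Ch.cons (nat_lit 0) [nat_lit 1, nat_lit 3] (Ch.cons (nat_lit 6) [nat_lit 5, nat_lit 7, nat_lit 9] (Ch.cons (nat_lit 9) [nat_lit 11] Ch.nil)))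

theorem L3o_exact : Ch.Exact 24 L3o_E0 L3o_ch (grp 24 L3o_E0) :=
  Ch.exact (k := 5) (L := (lab 24 5)) p_hn L3o_E0_ok (by decide +kernel) (wgrp_le_grp _ _ _) L3o_card0.le

theorem p_le254 : grp 24 L3 ≤ grp 24 lb_E :=
  grp_le_of_memB p_hn p_hk lb_E_ok L3_ok (ws := [nat_lit 0x13110915050a04, nat_lit 0x17131511091105090310]) (by decide +kernel)

theorem L3_G : grp 24 L3 ≤ (grp 24 E) :=
  (p_le254).trans lb_le

theorem L3_n : grp 24 nt_c3_K ≤ Subgroup.normalizer (grp 24 L3 : Set (Equiv.Perm (Fin 24))) :=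
  EvG.le_norm p_hn p_hk nt_c3_K_ok L3_ok L3o_E0_ok L3o_eq.ge (W := [[nat_lit 0x5050104, nat_lit 2820], [nat_lit 0xb050503, nat_lit 2819], [nat_lit 0xb050503, nat_lit 327940], [nat_lit 2, nat_lit 4]]) (by decide +kernel)

theorem b3_le6 : grp 6 b3_V5 ≤ grp 6 B3_E :=
  grp_le_of_memB b3_hn b3_hk B3_E_ok b3_V5_ok (ws := [nat_lit 0x20404020302, nat_lit 0x10303020402]) (by decide +kernel)

theorem b3_le9 : grp 6 b3_V8 ≤ grp 6 b3_V5 :=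
  grp_le_of_memB b3_hn b3_hk b3_V5_ok b3_V8_ok (ws := [nat_lit 66307, nat_lit 262659]) (by decide +kernel)

theorem B3_lb_le : grp 6 B3_lb_E ≤ grp 6 B3_E :=
  (grp_cons_le ((le_refl (grp 6 B3_E)) (toPerm_mem_grp (E := B3_E) (by simp [B3_E]))) (grp_cons_le ((le_refl (grp 6 B3_E)) (toPerm_mem_grp (E := B3_E) (by simp [B3_E]))) (grp_cons_le ((b3_le6.trans (le_refl (grp 6 B3_E))) (toPerm_mem_grp (E := b3_V5) (by simp [b3_V5]))) (grp_cons_le ((b3_le6.trans (le_refl (grp 6 B3_E))) (toPerm_mem_grp (E := b3_V5) (by simp [b3_V5]))) (grp_cons_le ((b3_le9.trans (b3_le6.trans (le_refl (grp 6 B3_E)))) (toPerm_mem_grp (E := b3_V8) (by simp [b3_V8]))) (grp_cons_le ((b3_le9.trans (b3_le6.trans (le_refl (grp 6 B3_E)))) (toPerm_mem_grp (E := b3_V8) (by simp [b3_V8]))) (grp_nil_le _)))))))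

noncomputable def B3_lb_ch : Ch := (Ch.cons (nat_lit 0) [nat_lit 1, nat_lit 3] (Ch.cons (nat_lit 1) [nat_lit 5, nat_lit 7] (Ch.cons (nat_lit 2) [nat_lit 9, nat_lit 11] Ch.nil)))

theorem B3_lb_chk : Ch.chk 6 3 (lab 6 3) B3_lb_E B3_lb_ch 60 = true :=
  by decide +kernel

theorem B3_lb_ge : 60 ≤ Nat.card (grp 6 B3_E) :=
  (Ch.le_card_grp b3_hn B3_lb_E_ok B3_lb_chk).trans (Subgroup.card_le_of_le B3_lb_le)

noncomputable def B3_M : List ℕ := [(nat_lit 0), (nat_lit 32), (nat_lit 16), (nat_lit 0), (nat_lit 0), (nat_lit 0), (nat_lit 0), (nat_lit 0), (nat_lit 8), (nat_lit 0), (nat_lit 0), (nat_lit 0), (nat_lit 4), (nat_lit 0), (nat_lit 0), (nat_lit 0), (nat_lit 2), (nat_lit 0), (nat_lit 1), (nat_lit 0), (nat_lit 0), (nat_lit 0), (nat_lit 0), (nat_lit 0)]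

theorem B3_inj : Function.Injective (cols 24 6 (nthN B3_M)) :=
  cols_injective (by decide +kernel)

theorem B3_acts : List.Forall₂ (fun o o' => Acts (cols 24 6 (nthN B3_M)) (Net.toPerm 24 o) (Net.toPerm 6 o')) L3 B3_E :=
  (List.Forall₂.cons (inc_of_incB p_g232_ok b3_g1_ok (allN_iff.1 (by decide +kernel))).acts_cols (List.Forall₂.cons (inc_of_incB p_g233_ok b3_g2_ok (allN_iff.1 (by decide +kernel))).acts_cols List.Forall₂.nil))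

theorem B3_ex : Nonempty (grp 24 L3 ≃* grp 6 B3_E) :=
  by
  obtain ⟨ρ, -, h⟩ := exists_hom_grp B3_inj B3_acts
  exact ⟨(exists_equiv_of_hom ρ h (injective_of_card_le ρ h (L3o_card.le.trans B3_lb_ge))).choose⟩

theorem B3_card : Nat.card (grp 6 B3_E) = 60 :=
  (Nat.card_congr B3_ex.some.toEquiv).symm.trans L3o_card

theorem B3_eq : grp 6 B3_E = grp 6 B3_lb_E :=
  le_antisymm (grp_mono (List.subset_append_left B3_E [b3_g3, b3_g4, b3_g7, b3_g7])) B3_lb_le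

theorem B3X_s0 : Stab 6 (grp 6 B3_E) [] B3_lb_E 60 :=
  Stab.root' B3_lb_E_ok B3_eq B3_card

theorem B3X_s1 : Stab 6 (grp 6 B3_E) [nat_lit 0] b3_V10 10 :=
  Stab.step (k := 3) (L := (lab 6 3)) b3_hn B3X_s0 b3_V10_ok (grp_mono (List.subset_append_right [b3_g1, b3_g2] _)) (c := (Ch.cons (nat_lit 1) [nat_lit 1, nat_lit 3] (Ch.cons (nat_lit 2) [nat_lit 5, nat_lit 7] Ch.nil))) (by decide +kernel)

theorem B3_prim : PrimAt (grp 6 B3_E) (⟨0, by decide⟩ : Fin 6) :=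
  B3_eq ▸ primAt_of_primB B3_lb_E_ok (by decide) (hw := [nat_lit 7]) (ts := [nat_lit 4]) (by decide +kernel)

theorem B3_simple : IsSimpleGroup (grp 6 B3_E) :=
  isSimpleGroup_grp b3_hn b3_hk B3_E_ok B3_prim (c := 10) (m := 3) B3_card (by norm_num) (by norm_num) (by decide +kernel)

theorem p_le256 : grp 24 Y3 ≤ grp 24 N_E0 :=
  grp_le_of_memB p_hn p_hk N_E0_ok Y3_ok (ws := [nat_lit 0x1a1719120808010b, nat_lit 0x1719150d081a0105]) (by decide +kernel)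

theorem Y3_le : grp 24 Y3 ≤ (grp 24 EG) :=
  (p_le256.trans T_s0.le)

theorem Y3_sym : Sym 24 (grp 24 EG) L3 Y3 0 :=
  Sym.of_lab p_hn p_hk L3_ok Y3_ok Y3_le (kT := 0) (by decide +kernel)

noncomputable def Y3_cnt_L : List ℕ := [5, 9, T_s14_O, 1, 0]

theorem Y3_cnt_P : Prob 24 5 (grp 24 EG) Y3_cnt_EG L3 L3 Y3 Y3_cnt_L 0 0 :=
  Sym.prob p_hn p_hk Y3_sym Y3_cnt_EG_ok (grp_cons_le p_g83_T (grp_cons_le p_g84_T (grp_cons_le p_g82_T (grp_cons_le p_g81_T (grp_cons_le p_g29_T (grp_cons_le p_g25_T (grp_cons_le p_g26_T (grp_cons_le p_g36_T (grp_cons_le p_g32_T (grp_cons_le p_g33_T (grp_cons_le p_g43_T (grp_cons_le p_g40_T (grp_cons_le p_g47_T (grp_cons_le p_g46_T (grp_cons_le p_g39_T (grp_cons_le p_g22_T (grp_cons_le p_g1_T (grp_cons_le p_g2_T (grp_nil_le _))))))))))))))))))) (Frames.cons T_s14_F Frames.nil) L3_ok _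

noncomputable def Y3_cnt_t : BT := (BT.br (nat_lit 2) (nat_lit 0) [nat_lit 1, nat_lit 3] (BT.dead (nat_lit 2) (BT.img (nat_lit 1) (nat_lit 0) (BT.img (nat_lit 1) (nat_lit 0) (BT.img (nat_lit 3) (nat_lit 2) (BT.img (nat_lit 3) (nat_lit 0) (BT.and (nat_lit 2) (nat_lit 0) (BT.cnt (nat_lit 0))))))) (BT.dead (nat_lit 4) (BT.img (nat_lit 3) (nat_lit 0) (BT.img (nat_lit 3) (nat_lit 0) (BT.img (nat_lit 1) (nat_lit 2) (BT.and (nat_lit 1) (nat_lit 0) (BT.cnt (nat_lit 0)))))) (BT.dead (nat_lit 3) (BT.img (nat_lit 3) (nat_lit 0) (BT.img (nat_lit 3) (nat_lit 0) (BT.img (nat_lit 1) (nat_lit 1) (BT.and (nat_lit 1) (nat_lit 0) (BT.cnt (nat_lit 0)))))) (BT.dead (nat_lit 10) (BT.img (nat_lit 3) (nat_lit 0) (BT.img (nat_lit 1) (nat_lit 0) (BT.and (nat_lit 0) (nat_lit 2) (BT.cnt (nat_lit 0))))) (BT.dead (nat_lit 1) (BT.img (nat_lit 3) (nat_lit 0) (BT.img (nat_lit 1) (nat_lit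 1) (BT.and (nat_lit 1) (nat_lit 0) (BT.cnt (nat_lit 0))))) (BT.kid (nat_lit 0) (nat_lit 1) (BT.img (nat_lit 3) (nat_lit 0) (BT.img (nat_lit 3) (nat_lit 0) (BT.img (nat_lit 1) (nat_lit 1) (BT.img (nat_lit 1) (nat_lit 3) (BT.one (nat_lit 0) (nat_lit 0x3060308030a) (nat_lit 0x3060308030a) [nat_lit 2, nat_lit 1, nat_lit 3, nat_lit 0, nat_lit 4]))))) BT.nil)))))))

theorem Y3_cnt : Cnt 24 (grp 24 EG) L3 L3 0 0 0 0 4 :=
  BT.sound Y3_cnt_P Known.nil (t := Y3_cnt_t) (d := 0) (by decide +kernel)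

theorem Y3_ge : 4 ≤ Nat.card (grp 24 Y3) :=
  Ch.le_card_grp (k := 5) (L := (lab 24 5)) p_hn Y3_ok (c := (Ch.cons (nat_lit 0) [nat_lit 1, nat_lit 3] Ch.nil)) (by decide +kernel)

theorem Y3_eq : (grp 24 EG) ⊓ Subgroup.centralizer (grp 24 L3 : Set (Equiv.Perm (Fin 24))) = grp 24 Y3 :=
  cent_grp_eq Y3_sym Y3_cnt Y3_ge

theorem Y3_card : Nat.card (grp 24 Y3) = 4 :=
  (Y3_sym.mem_iff Y3_cnt Y3_ge).1

theorem cmp3 : EvG.Cmp (grp 24 E) (grp 24 EG) (Net.toPerm 24 p_g95) (grp 24 L3) (grp 24 Y3) :=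
  ⟨nt_c3_mem, EvG.sq_net p_hn p_hk (by decide +kernel), L3_G, EvG.le_cent p_hn p_hk (by decide +kernel),
    nt_c3_eq.le.trans L3_n, ⟨2, by rw [nt_c3_card, L3o_card]; norm_num⟩, (have := B3_simple; B3_ex.some.isSimpleGroup),
    EvG.nab_of (toPerm_mem_grp (E := L3) (List.Mem.head _)) (toPerm_mem_grp (E := L3) (List.Mem.tail _ (List.Mem.head _))) (EvG.ncomm_net (k := 5) p_hn (by decide +kernel)),
    fun _ hy _ h => Y3_eq.le ⟨hy, fun x hx => (h x hx).symm⟩⟩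

theorem V3_s0 : Stab 24 (grp 24 L3) [] L3o_E0 60 :=
  Stab.root' L3o_E0_ok L3o_eq L3o_card

theorem p_le258 : grp 24 lt3_c1_K ≤ grp 24 L3o_E0 :=
  grp_le_of_memB p_hn p_hk L3o_E0_ok lt3_c1_K_ok (ws := [nat_lit 722178, nat_lit 722181]) (by decide +kernel)

theorem lt3_c1_le : grp 24 lt3_c1_K ≤ (grp 24 L3) :=
  (p_le258.trans V3_s0.le)

theorem lt3_c1_mem : Net.toPerm 24 p_g257 ∈ (grp 24 L3) :=
  lt3_c1_le (toPerm_mem_grp (E := lt3_c1_K) (List.Mem.head _))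

theorem lt3_c1_sym : Sym 24 (grp 24 L3) [p_g257] lt3_c1_K 0 :=
  Sym.of_lab p_hn p_hk (okE_cons.2 ⟨p_g257_ok, okE_nil _⟩) lt3_c1_K_ok lt3_c1_le (kT := 0) (by decide +kernel)

theorem V3_s1 : Stab 24 (grp 24 L3) [nat_lit 0] p_V259 10 :=
  Stab.step (k := 5) (L := (lab 24 5)) p_hn V3_s0 p_V259_ok (grp_mono (List.subset_append_right [p_g232, p_g233] _)) (c := (Ch.cons (nat_lit 6) [nat_lit 1, nat_lit 3, nat_lit 5] (Ch.cons (nat_lit 9) [nat_lit 7] Ch.nil))) (by decide +kernel)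

theorem V3_s2 : Stab 24 (grp 24 L3) [nat_lit 6, nat_lit 0] p_V260 2 :=
  Stab.step (k := 5) (L := (lab 24 5)) p_hn V3_s1 p_V260_ok (grp_mono (List.subset_append_right [p_g239, p_g98, p_g236] _)) (c := (Ch.cons (nat_lit 9) [nat_lit 1] Ch.nil)) (by decide +kernel)

theorem p_le262 : grp 24 p_V261 ≤ grp 24 p_V260 :=
  grp_le_of_memB p_hn p_hk p_V260_ok p_V261_ok (ws := []) (by decide +kernel)

theorem V3_s3 : Stab 24 (grp 24 L3) [nat_lit 4, nat_lit 6, nat_lit 0] p_V261 1 :=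
  Stab.step (k := 5) (L := (lab 24 5)) p_hn V3_s2 p_V261_ok p_le262 (c := Ch.nil) (by decide +kernel)

theorem p_g239_V3 : Net.toPerm 24 p_g239 ∈ (grp 24 L3) :=
  V3_s1.le (toPerm_mem_grp (E := p_V259) (List.Mem.head _))

theorem p_g98_V3 : Net.toPerm 24 p_g98 ∈ (grp 24 L3) :=
  V3_s1.le (toPerm_mem_grp (E := p_V259) (List.Mem.tail _ (List.Mem.head _)))

theorem p_g236_V3 : Net.toPerm 24 p_g236 ∈ (grp 24 L3) :=
  V3_s1.le (toPerm_mem_grp (E := p_V259) (List.Mem.tail _ (List.Mem.tail _ (List.Mem.head _))))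

theorem p_g242_V3 : Net.toPerm 24 p_g242 ∈ (grp 24 L3) :=
  V3_s1.le (toPerm_mem_grp (E := p_V259) (List.Mem.tail _ (List.Mem.tail _ (List.Mem.tail _ (List.Mem.head _)))))

theorem p_g232_V3 : Net.toPerm 24 p_g232 ∈ (grp 24 L3) :=
  V3_s0.le (toPerm_mem_grp (E := L3o_E0) (List.Mem.head _))

theorem p_g233_V3 : Net.toPerm 24 p_g233 ∈ (grp 24 L3) :=
  V3_s0.le (toPerm_mem_grp (E := L3o_E0) (List.Mem.tail _ (List.Mem.head _)))

noncomputable def V3_s3_O : ℕ := (nat_lit 0x933332e0f83ec67318b26d92000001000040000010)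

theorem V3_s3_F : Frame 24 (grp 24 L3) 3 7 V3_s3_O 1 1 :=
  IsBase.frame V3_s3.isBase (by decide +kernel)

noncomputable def V3_s2_O : ℕ := (nat_lit 0x800000010000008000004000000800000002180000020400002200001100400080200020000018000001000040)

theorem V3_s2_F : Frame 24 (grp 24 L3) 2 15 V3_s2_O 0 1 :=
  Stab.frame p_hn V3_s2 (by decide +kernel)

noncomputable def V3_s0_O : ℕ := (nat_lit 0x588880a24420051106)

theorem V3_s0_F : Frame 24 (grp 24 L3) 0 3 V3_s0_O 0 1 :=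
  Stab.frame p_hn V3_s0 (by decide +kernel)

noncomputable def lt3_c1_cnt_L : List ℕ := [0, 3, V3_s0_O, 0, 0, 2, 15, V3_s2_O, 0, 0, 3, 7, V3_s3_O, 1, 0]

theorem lt3_c1_cnt_P : Prob 24 5 (grp 24 L3) lt3_c1_cnt_EG [p_g257] [p_g257] lt3_c1_K lt3_c1_cnt_L 0 0 :=
  Sym.prob p_hn p_hk lt3_c1_sym lt3_c1_cnt_EG_ok (grp_cons_le p_g239_V3 (grp_cons_le p_g98_V3 (grp_cons_le p_g236_V3 (grp_cons_le p_g242_V3 (grp_cons_le p_g232_V3 (grp_cons_le p_g233_V3 (grp_nil_le _))))))) (Frames.cons V3_s0_F (Frames.cons V3_s2_F (Frames.cons V3_s3_F Frames.nil))) (okE_cons.2 ⟨p_g257_ok, okE_nil _⟩) _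

noncomputable def lt3_c1_cnt_t : BT := (BT.frm (nat_lit 0) (nat_lit 0) (nat_lit 0) [] (BT.pln (nat_lit 0) (nat_lit 0) (BT.dif (nat_lit 4) (nat_lit 0) (BT.pln (nat_lit 2) (nat_lit 1) (BT.dif (nat_lit 1) (nat_lit 0) (BT.pln (nat_lit 4) (nat_lit 2) (BT.dif (nat_lit 1) (nat_lit 0) (BT.fix (nat_lit 1) (BT.dif (nat_lit 1) (nat_lit 0) (BT.br (nat_lit 0) (nat_lit 0) [nat_lit 1] (BT.dead (nat_lit 13) (BT.img (nat_lit 1) (nat_lit 0) (BT.frm (nat_lit 1) (nat_lit 1) (nat_lit 267) [nat_lit 0, nat_lit 1] (BT.pln (nat_lit 0) (nat_lit 2) (BT.and (nat_lit 0) (nat_lit 5) (BT.cnt (nat_lit 0)))))) (BT.kid (nat_lit 0) (nat_lit 2) (BT.img (nat_lit 1) (nat_lit 0) (BT.frm (nat_lit 1) (nat_lit 1) (nat_lit 1) [nat_lit 0, nat_lit 1] (BT.pln (nat_lit 0) (nat_lit 2) (BT.br (nat_lit 0) (nat_lit 3) [nat_lit 3] (BT.kid (nat_lit 3) (nat_lit 1) (BT.one (nat_lit 2) (nat_lit 1) (nat_lit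 1) [nat_lit 0, nat_lit 3, nat_lit 4]) BT.nil))))) BT.nil))))))))))))

theorem lt3_c1_cnt : Cnt 24 (grp 24 L3) [p_g257] [p_g257] 0 0 0 0 4 :=
  BT.sound lt3_c1_cnt_P Known.nil (t := lt3_c1_cnt_t) (d := 0) (by decide +kernel)

theorem lt3_c1_ge : 4 ≤ Nat.card (grp 24 lt3_c1_K) :=
  Ch.le_card_grp (k := 5) (L := (lab 24 5)) p_hn lt3_c1_K_ok (c := (Ch.cons (nat_lit 0) [nat_lit 1] (Ch.cons (nat_lit 3) [nat_lit 3] Ch.nil))) (by decide +kernel)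

theorem lt3_c1_eq : (grp 24 L3) ⊓ Subgroup.centralizer {Net.toPerm 24 p_g257} = grp 24 lt3_c1_K :=
  cent_eq lt3_c1_sym lt3_c1_cnt lt3_c1_ge

theorem lt3_c1_card : Nat.card ↥((grp 24 L3) ⊓ Subgroup.centralizer {Net.toPerm 24 p_g257}) = 4 :=
  card_cent lt3_c1_sym lt3_c1_cnt lt3_c1_ge

theorem lt3_c1_ord : orderOf (Net.toPerm 24 p_g257) = 2 :=
  orderOf_net p_hn p_hk p_g257_ok (by decide) (ps := [2]) (by set_option linter.unusedSimpArgs false in simp [Nat.primeFactorsList_ofNat]) (by decide +kernel)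

theorem p_le264 : grp 24 lt3_c2_K ≤ grp 24 L3o_E0 :=
  grp_le_of_memB p_hn p_hk L3o_E0_ok lt3_c2_K_ok (ws := [nat_lit 329985]) (by decide +kernel)

theorem lt3_c2_le : grp 24 lt3_c2_K ≤ (grp 24 L3) :=
  (p_le264.trans V3_s0.le)

theorem lt3_c2_mem : Net.toPerm 24 p_g263 ∈ (grp 24 L3) :=
  lt3_c2_le (toPerm_mem_grp (E := lt3_c2_K) (List.Mem.head _))

theorem lt3_c2_sym : Sym 24 (grp 24 L3) [p_g263] lt3_c2_K 0 :=
  Sym.of_lab p_hn p_hk (okE_cons.2 ⟨p_g263_ok, okE_nil _⟩) lt3_c2_K_ok lt3_c2_le (kT := 0) (by decide +kernel)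

theorem V3_s4 : Stab 24 (grp 24 L3) [nat_lit 9, nat_lit 6, nat_lit 0] p_V265 1 :=
  Stab.step (k := 5) (L := (lab 24 5)) p_hn V3_s2 p_V265_ok (grp_mono (List.subset_append_right [p_g242] _)) (c := Ch.nil) (by decide +kernel)

noncomputable def V3_s4_O : ℕ := (nat_lit 0x933332e0f83ec67318b26d92000001000040000200)

theorem V3_s4_F : Frame 24 (grp 24 L3) 3 7 V3_s4_O 1 1 :=
  IsBase.frame V3_s4.isBase (by decide +kernel)

noncomputable def V3_s1_O : ℕ := (nat_lit 0x800000010000000800588080224420002258000001)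

theorem V3_s1_F : Frame 24 (grp 24 L3) 1 7 V3_s1_O 0 1 :=
  Stab.frame p_hn V3_s1 (by decide +kernel)

noncomputable def lt3_c2_cnt_L : List ℕ := [0, 3, V3_s0_O, 0, 0, 1, 7, V3_s1_O, 0, 0, 2, 15, V3_s2_O, 0, 0, 3, 7, V3_s4_O, 1, 0]

theorem lt3_c2_cnt_P : Prob 24 5 (grp 24 L3) lt3_c2_cnt_EG [p_g263] [p_g263] lt3_c2_K lt3_c2_cnt_L 0 0 :=
  Sym.prob p_hn p_hk lt3_c2_sym lt3_c2_cnt_EG_ok (grp_cons_le p_g232_V3 (grp_cons_le p_g233_V3 (grp_cons_le p_g239_V3 (grp_cons_le p_g98_V3 (grp_cons_le p_g236_V3 (grp_cons_le p_g242_V3 (grp_nil_le _))))))) (Frames.cons V3_s0_F (Frames.cons V3_s1_F (Frames.cons V3_s2_F (Frames.cons V3_s4_F Frames.nil)))) (okE_cons.2 ⟨p_g263_ok, okE_nil _⟩) _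

noncomputable def lt3_c2_cnt_t : BT := (BT.frm (nat_lit 0) (nat_lit 0) (nat_lit 0) [] (BT.pln (nat_lit 0) (nat_lit 0) (BT.dif (nat_lit 4) (nat_lit 0) (BT.pln (nat_lit 2) (nat_lit 1) (BT.dif (nat_lit 1) (nat_lit 0) (BT.pln (nat_lit 4) (nat_lit 2) (BT.dif (nat_lit 1) (nat_lit 0) (BT.br (nat_lit 0) (nat_lit 0) [nat_lit 1] (BT.dead (nat_lit 13) (BT.img (nat_lit 1) (nat_lit 0) (BT.frm (nat_lit 2) (nat_lit 0) (nat_lit 1283) [nat_lit 0, nat_lit 1] (BT.pln (nat_lit 0) (nat_lit 2) (BT.img (nat_lit 1) (nat_lit 2) (BT.and (nat_lit 1) (nat_lit 0) (BT.cnt (nat_lit 0))))))) (BT.kid (nat_lit 0) (nat_lit 1) (BT.frm (nat_lit 1) (nat_lit 0) (nat_lit 0) [nat_lit 0] (BT.pln (nat_lit 0) (nat_lit 1) (BT.img (nat_lit 1) (nat_lit 2) (BT.frm (nat_lit 2) (nat_lit 0) (nat_lit 0) [nat_lit 0, nat_lit 3] (BT.pln (nat_lit 0) (nat_lit 2) (BT.and (nat_lit 3) (nat_lit 0) (BT.img (nat_lit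 1) (nat_lit 3) (BT.dif (nat_lit 1) (nat_lit 0) (BT.img (nat_lit 1) (nat_lit 0) (BT.and (nat_lit 7) (nat_lit 0) (BT.one (nat_lit 3) (nat_lit 0) (nat_lit 0) [nat_lit 0, nat_lit 7, nat_lit 10]))))))))))) BT.nil))))))))))

theorem lt3_c2_cnt : Cnt 24 (grp 24 L3) [p_g263] [p_g263] 0 0 0 0 3 :=
  BT.sound lt3_c2_cnt_P Known.nil (t := lt3_c2_cnt_t) (d := 0) (by decide +kernel)

theorem lt3_c2_ge : 3 ≤ Nat.card (grp 24 lt3_c2_K) :=
  Ch.le_card_grp (k := 5) (L := (lab 24 5)) p_hn lt3_c2_K_ok (c := (Ch.cons (nat_lit 0) [nat_lit 1] Ch.nil)) (by decide +kernel)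

theorem lt3_c2_eq : (grp 24 L3) ⊓ Subgroup.centralizer {Net.toPerm 24 p_g263} = grp 24 lt3_c2_K :=
  cent_eq lt3_c2_sym lt3_c2_cnt lt3_c2_ge

theorem lt3_c2_card : Nat.card ↥((grp 24 L3) ⊓ Subgroup.centralizer {Net.toPerm 24 p_g263}) = 3 :=
  card_cent lt3_c2_sym lt3_c2_cnt lt3_c2_ge

theorem lt3_c2_ord : orderOf (Net.toPerm 24 p_g263) = 3 :=
  orderOf_net p_hn p_hk p_g263_ok (by decide) (ps := [3]) (by set_option linter.unusedSimpArgs false in simp [Nat.primeFactorsList_ofNat]) (by decide +kernel)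

theorem p_le267 : grp 24 lt3_c3_K ≤ grp 24 L3o_E0 :=
  grp_le_of_memB p_hn p_hk L3o_E0_ok lt3_c3_K_ok (ws := [nat_lit 2817]) (by decide +kernel)

theorem lt3_c3_le : grp 24 lt3_c3_K ≤ (grp 24 L3) :=
  (p_le267.trans V3_s0.le)

theorem lt3_c3_mem : Net.toPerm 24 p_g266 ∈ (grp 24 L3) :=
  lt3_c3_le (toPerm_mem_grp (E := lt3_c3_K) (List.Mem.head _))

theorem lt3_c3_sym : Sym 24 (grp 24 L3) [p_g266] lt3_c3_K 0 :=
  Sym.of_lab p_hn p_hk (okE_cons.2 ⟨p_g266_ok, okE_nil _⟩) lt3_c3_K_ok lt3_c3_le (kT := 0) (by decide +kernel)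

noncomputable def lt3_c3_cnt_L : List ℕ := [0, 3, V3_s0_O, 0, 0, 1, 7, V3_s1_O, 0, 0, 3, 7, V3_s4_O, 1, 0]

theorem lt3_c3_cnt_P : Prob 24 5 (grp 24 L3) lt3_c3_cnt_EG [p_g266] [p_g266] lt3_c3_K lt3_c3_cnt_L 0 0 :=
  Sym.prob p_hn p_hk lt3_c3_sym lt3_c3_cnt_EG_ok (grp_cons_le p_g232_V3 (grp_cons_le p_g233_V3 (grp_cons_le p_g239_V3 (grp_cons_le p_g98_V3 (grp_cons_le p_g236_V3 (grp_cons_le p_g242_V3 (grp_nil_le _))))))) (Frames.cons V3_s0_F (Frames.cons V3_s1_F (Frames.cons V3_s4_F Frames.nil))) (okE_cons.2 ⟨p_g266_ok, okE_nil _⟩) _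

noncomputable def lt3_c3_cnt_t : BT := (BT.fix (nat_lit 1) (BT.frm (nat_lit 0) (nat_lit 0) (nat_lit 0) [] (BT.pln (nat_lit 0) (nat_lit 0) (BT.dif (nat_lit 2) (nat_lit 0) (BT.pln (nat_lit 2) (nat_lit 1) (BT.dif (nat_lit 1) (nat_lit 0) (BT.pln (nat_lit 4) (nat_lit 2) (BT.dif (nat_lit 1) (nat_lit 0) (BT.frm (nat_lit 1) (nat_lit 4) (nat_lit 4) [nat_lit 0] (BT.pln (nat_lit 0) (nat_lit 1) (BT.br (nat_lit 0) (nat_lit 0) [nat_lit 1] (BT.kid (nat_lit 0) (nat_lit 1) (BT.img (nat_lit 1) (nat_lit 0) (BT.img (nat_lit 1) (nat_lit 0) (BT.one (nat_lit 2) (nat_lit 722436) (nat_lit 722436) [nat_lit 0, nat_lit 2, nat_lit 5]))) BT.nil))))))))))))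

theorem lt3_c3_cnt : Cnt 24 (grp 24 L3) [p_g266] [p_g266] 0 0 0 0 5 :=
  BT.sound lt3_c3_cnt_P Known.nil (t := lt3_c3_cnt_t) (d := 0) (by decide +kernel)

theorem lt3_c3_ge : 5 ≤ Nat.card (grp 24 lt3_c3_K) :=
  Ch.le_card_grp (k := 5) (L := (lab 24 5)) p_hn lt3_c3_K_ok (c := (Ch.cons (nat_lit 0) [nat_lit 1] Ch.nil)) (by decide +kernel)

theorem lt3_c3_eq : (grp 24 L3) ⊓ Subgroup.centralizer {Net.toPerm 24 p_g266} = grp 24 lt3_c3_K :=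
  cent_eq lt3_c3_sym lt3_c3_cnt lt3_c3_ge

theorem lt3_c3_card : Nat.card ↥((grp 24 L3) ⊓ Subgroup.centralizer {Net.toPerm 24 p_g266}) = 5 :=
  card_cent lt3_c3_sym lt3_c3_cnt lt3_c3_ge

theorem lt3_c3_ord : orderOf (Net.toPerm 24 p_g266) = 5 :=
  orderOf_net p_hn p_hk p_g266_ok (by decide) (ps := [5]) (by set_option linter.unusedSimpArgs false in simp [Nat.primeFactorsList_ofNat]) (by decide +kernel)

theorem p_le269 : grp 24 lt3_c4_K ≤ grp 24 L3o_E0 :=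
  grp_le_of_memB p_hn p_hk L3o_E0_ok lt3_c4_K_ok (ws := [nat_lit 328962]) (by decide +kernel)

theorem lt3_c4_le : grp 24 lt3_c4_K ≤ (grp 24 L3) :=
  (p_le269.trans V3_s0.le)

theorem lt3_c4_mem : Net.toPerm 24 p_g268 ∈ (grp 24 L3) :=
  lt3_c4_le (toPerm_mem_grp (E := lt3_c4_K) (List.Mem.head _))

theorem lt3_c4_sym : Sym 24 (grp 24 L3) [p_g268] lt3_c4_K 0 :=
  Sym.of_lab p_hn p_hk (okE_cons.2 ⟨p_g268_ok, okE_nil _⟩) lt3_c4_K_ok lt3_c4_le (kT := 0) (by decide +kernel)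

noncomputable def lt3_c4_cnt_L : List ℕ := [0, 3, V3_s0_O, 0, 0, 1, 7, V3_s1_O, 0, 0, 3, 7, V3_s4_O, 1, 0]

theorem lt3_c4_cnt_P : Prob 24 5 (grp 24 L3) lt3_c4_cnt_EG [p_g268] [p_g268] lt3_c4_K lt3_c4_cnt_L 0 0 :=
  Sym.prob p_hn p_hk lt3_c4_sym lt3_c4_cnt_EG_ok (grp_cons_le p_g232_V3 (grp_cons_le p_g233_V3 (grp_cons_le p_g239_V3 (grp_cons_le p_g98_V3 (grp_cons_le p_g236_V3 (grp_cons_le p_g242_V3 (grp_nil_le _))))))) (Frames.cons V3_s0_F (Frames.cons V3_s1_F (Frames.cons V3_s4_F Frames.nil))) (okE_cons.2 ⟨p_g268_ok, okE_nil _⟩) _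

noncomputable def lt3_c4_cnt_t : BT := (BT.fix (nat_lit 1) (BT.frm (nat_lit 0) (nat_lit 0) (nat_lit 0) [] (BT.pln (nat_lit 0) (nat_lit 0) (BT.dif (nat_lit 2) (nat_lit 0) (BT.pln (nat_lit 2) (nat_lit 1) (BT.dif (nat_lit 1) (nat_lit 0) (BT.pln (nat_lit 4) (nat_lit 2) (BT.dif (nat_lit 1) (nat_lit 0) (BT.frm (nat_lit 1) (nat_lit 4) (nat_lit 4) [nat_lit 0] (BT.pln (nat_lit 0) (nat_lit 1) (BT.br (nat_lit 0) (nat_lit 0) [nat_lit 1] (BT.kid (nat_lit 0) (nat_lit 1) (BT.img (nat_lit 1) (nat_lit 0) (BT.one (nat_lit 2) (nat_lit 722436) (nat_lit 722436) [nat_lit 0, nat_lit 1, nat_lit 4])) BT.nil))))))))))))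

theorem lt3_c4_cnt : Cnt 24 (grp 24 L3) [p_g268] [p_g268] 0 0 0 0 5 :=
  BT.sound lt3_c4_cnt_P Known.nil (t := lt3_c4_cnt_t) (d := 0) (by decide +kernel)

theorem lt3_c4_ge : 5 ≤ Nat.card (grp 24 lt3_c4_K) :=
  Ch.le_card_grp (k := 5) (L := (lab 24 5)) p_hn lt3_c4_K_ok (c := (Ch.cons (nat_lit 0) [nat_lit 1] Ch.nil)) (by decide +kernel)

theorem lt3_c4_eq : (grp 24 L3) ⊓ Subgroup.centralizer {Net.toPerm 24 p_g268} = grp 24 lt3_c4_K :=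
  cent_eq lt3_c4_sym lt3_c4_cnt lt3_c4_ge

theorem lt3_c4_card : Nat.card ↥((grp 24 L3) ⊓ Subgroup.centralizer {Net.toPerm 24 p_g268}) = 5 :=
  card_cent lt3_c4_sym lt3_c4_cnt lt3_c4_ge

theorem lt3_c4_ord : orderOf (Net.toPerm 24 p_g268) = 5 :=
  orderOf_net p_hn p_hk p_g268_ok (by decide) (ps := [5]) (by set_option linter.unusedSimpArgs false in simp [Nat.primeFactorsList_ofNat]) (by decide +kernel)

noncomputable def lt3_xs : List Net := [Net.nil, p_g257, p_g263, p_g266, p_g268]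

noncomputable def lt3_cs : List ℕ := [60, 4, 3, 5, 5]

noncomputable def lt3_os : List ℕ := [1, 2, 3, 5, 5]

theorem lt3_reps : Reps 24 (grp 24 L3) lt3_xs lt3_cs lt3_os :=
  (Reps.cons rfl (one_mem _) (card_cent_nil L3o_card) orderOf_one (Reps.cons p_g257_ok lt3_c1_mem lt3_c1_card lt3_c1_ord (Reps.cons p_g263_ok lt3_c2_mem lt3_c2_card lt3_c2_ord (Reps.cons p_g266_ok lt3_c3_mem lt3_c3_card lt3_c3_ord (Reps.cons p_g268_ok lt3_c4_mem lt3_c4_card lt3_c4_ord Reps.nil)))))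

noncomputable def lt3_nc4_3_cnt_L : List ℕ := [0, 3, V3_s0_O, 0, 0, 1, 7, V3_s1_O, 0, 0, 2, 15, V3_s2_O, 0, 0]

theorem lt3_nc4_3_cnt_P : Prob 24 5 (grp 24 L3) lt3_nc4_3_cnt_EG [p_g268] [p_g266] lt3_c3_K lt3_nc4_3_cnt_L 0 0 :=
  Sym.prob p_hn p_hk lt3_c3_sym lt3_nc4_3_cnt_EG_ok (grp_cons_le p_g232_V3 (grp_cons_le p_g233_V3 (grp_cons_le p_g239_V3 (grp_cons_le p_g98_V3 (grp_cons_le p_g236_V3 (grp_cons_le p_g242_V3 (grp_nil_le _))))))) (Frames.cons V3_s0_F (Frames.cons V3_s1_F (Frames.cons V3_s2_F Frames.nil))) (okE_cons.2 ⟨p_g268_ok, okE_nil _⟩) _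

noncomputable def lt3_nc4_3_cnt_t : BT := (BT.fix (nat_lit 1) (BT.frm (nat_lit 0) (nat_lit 0) (nat_lit 0) [] (BT.pln (nat_lit 0) (nat_lit 0) (BT.dif (nat_lit 2) (nat_lit 0) (BT.pln (nat_lit 2) (nat_lit 1) (BT.dif (nat_lit 1) (nat_lit 0) (BT.pln (nat_lit 4) (nat_lit 2) (BT.dif (nat_lit 1) (nat_lit 0) (BT.frm (nat_lit 1) (nat_lit 4) (nat_lit 4) [nat_lit 0] (BT.pln (nat_lit 0) (nat_lit 1) (BT.br (nat_lit 0) (nat_lit 0) [nat_lit 1] (BT.dead (nat_lit 0) (BT.frm (nat_lit 2) (nat_lit 1540) (nat_lit 1540) [nat_lit 0, nat_lit 3] (BT.pln (nat_lit 0) (nat_lit 2) (BT.img (nat_lit 1) (nat_lit 2) (BT.and (nat_lit 1) (nat_lit 0) (BT.cnt (nat_lit 0)))))) BT.nil))))))))))))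

theorem lt3_nc4_3_cnt : Cnt 24 (grp 24 L3) [p_g268] [p_g266] 0 0 0 0 0 :=
  BT.sound lt3_nc4_3_cnt_P Known.nil (t := lt3_nc4_3_cnt_t) (d := 0) (by decide +kernel)

theorem lt3_nc4_3 : ¬ CjIn (grp 24 L3) (Net.toPerm 24 p_g268) (Net.toPerm 24 p_g266) :=
  not_cjIn lt3_nc4_3_cnt

theorem lt3_exc : Exc 24 (grp 24 L3) lt3_xs [4003] :=
  (Exc.cons 4 3 (by decide) lt3_nc4_3 Exc.nil)

theorem lt3 : Table 24 (grp 24 L3) lt3_xs lt3_cs lt3_os :=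
  Reps.table (D := 1) p_hn p_hk lt3_reps lt3_exc L3o_card (by decide +kernel)

theorem j3_G : Net.toPerm 24 p_g270 ∈ (grp 24 E) :=
  lb_le (mem_grp_of_memB p_hn p_hk lb_E_ok p_g270_ok (w := (nat_lit 0x1315110e090c0509030e)) (by decide +kernel))

theorem kf3 : ∀ {α : MulAut (grp 24 E)}, EvG.Ind (grp 24 E) (Net.toPerm 24 p_g95) α → H62.EV.KF α ((grp 24 L3).subgroupOf (grp 24 E)) :=
  fun hα => cmp3.kf hα (m := 2) (by rw [L3o_card]; norm_num) fun a ha ho hd => by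
  obtain ⟨i, hi, hc, h1, h2⟩ := lt3.exists ha
  rw [ho] at h1
  rw [h2] at hd
  obtain rfl := (by decide +kernel : ∀ i < lt3_xs.length, 2 = nthN lt3_os i → 2 ^ 2 ∣ nthN lt3_cs i → 1 = i) i hi h1 hd
  exact ⟨_, hc, _, j3_G, EvG.cob_net p_hn p_hk (by decide +kernel)⟩

theorem Y1_S : grp 24 Y1 ≤ grp 24 ES1 :=
  grp_le_of_memB p_hn p_hk ES1_ok Y1_ok (ws := [nat_lit 3, nat_lit 259]) (by decide +kernel)

theorem Y1_mem : ∀ y ∈ grp 24 Y1, y = 1 ∨ y = Net.toPerm 24 p_g76 ∨ y = Net.toPerm 24 p_g214 ∨ y = Net.toPerm 24 p_g76 * Net.toPerm 24 p_g214 :=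
  fun _ hy => EvG.mem_pair p_hn p_hk (by decide +kernel) (Y1_S hy)

theorem Y1_sq : ∀ y ∈ grp 24 Y1, y * y = 1 :=
  fun _ hy => EvG.sq_pair p_hn p_hk (by decide +kernel) (Y1_S hy)

theorem p_le273 : grp 24 cv1_K ≤ grp 24 N_E0 :=
  grp_le_of_memB p_hn p_hk N_E0_ok cv1_K_ok (ws := [nat_lit 0x1918140d0d07070203, nat_lit 0x19171913150e0706, nat_lit 0x170e070c, nat_lit 0x1a1713110e0711]) (by decide +kernel)

theorem cv1_le : grp 24 cv1_K ≤ (grp 24 EG) :=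
  (p_le273.trans T_s0.le)

theorem cv1_mem : Net.toPerm 24 p_g214 ∈ (grp 24 EG) :=
  cv1_le (mem_grp_of_memB p_hn p_hk cv1_K_ok p_g214_ok (w := (nat_lit 0x6030103)) (by decide +kernel))

theorem cv1_sym : Sym 24 (grp 24 EG) [p_g214] cv1_K 0 :=
  Sym.of_lab p_hn p_hk (okE_cons.2 ⟨p_g214_ok, okE_nil _⟩) cv1_K_ok cv1_le (kT := 0) (by decide +kernel)

noncomputable def cv1_cnt_L : List ℕ := [2, 3, T_s2_O, 0, 0, 3, 5, T_s3_O, 0, 0, 4, 7, T_s11_O, 0, 0, 5, 15, T_s12_O, 0, 0, 6, 10, T_s13_O, 1, 0]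

theorem cv1_cnt_P : Prob 24 5 (grp 24 EG) cv1_cnt_EG [p_g214] [p_g214] cv1_K cv1_cnt_L 0 0 :=
  Sym.prob p_hn p_hk cv1_sym cv1_cnt_EG_ok (grp_cons_le p_g29_T (grp_cons_le p_g25_T (grp_cons_le p_g26_T (grp_cons_le p_g36_T (grp_cons_le p_g32_T (grp_cons_le p_g33_T (grp_cons_le p_g43_T (grp_cons_le p_g40_T (grp_cons_le p_g47_T (grp_cons_le p_g46_T (grp_cons_le p_g39_T (grp_cons_le p_g22_T (grp_cons_le p_g1_T (grp_cons_le p_g2_T (grp_cons_le p_g101_T (grp_cons_le p_g102_T (grp_nil_le _))))))))))))))))) (Frames.cons T_s2_F (Frames.cons T_s3_F (Frames.cons T_s11_F (Frames.cons T_s12_F (Frames.cons T_s13_F Frames.nil))))) (okE_cons.2 ⟨p_g214_ok, okE_nil _⟩) _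

noncomputable def cv1_cnt_t : BT := (BT.br (nat_lit 2) (nat_lit 0) [nat_lit 1, nat_lit 3] (BT.kid (nat_lit 0) (nat_lit 10) (BT.img (nat_lit 1) (nat_lit 0) (BT.frm (nat_lit 0) (nat_lit 4) (nat_lit 4) [nat_lit 0, nat_lit 1] (BT.pln (nat_lit 0) (nat_lit 2) (BT.br (nat_lit 0) (nat_lit 23) [nat_lit 5] (BT.dead (nat_lit 19) (BT.img (nat_lit 1) (nat_lit 0) (BT.frm (nat_lit 2) (nat_lit 0x140b0804) (nat_lit 4) [nat_lit 0, nat_lit 1, nat_lit 4, nat_lit 5] (BT.pln (nat_lit 0) (nat_lit 5) (BT.and (nat_lit 4) (nat_lit 0) (BT.br (nat_lit 0) (nat_lit 10) [nat_lit 5] (BT.dead (nat_lit 23) (BT.frm (nat_lit 3) (nat_lit 0x1d1d140b0804) (nat_lit 0x1d1d04) [nat_lit 0, nat_lit 4, nat_lit 5, nat_lit 8, nat_lit 9] (BT.pln (nat_lit 0) (nat_lit 6) (BT.img (nat_lit 1) (nat_lit 2) (BT.and (nat_lit 1) (nat_lit 0) (BT.cnt (nat_lit 0)))))) BT.nil)))))) (BT.dead (nat_lit 11) (BT.frm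 (nat_lit 1) (nat_lit 722948) (nat_lit 1796) [nat_lit 0, nat_lit 3, nat_lit 4] (BT.pln (nat_lit 0) (nat_lit 3) (BT.img (nat_lit 1) (nat_lit 2) (BT.and (nat_lit 1) (nat_lit 0) (BT.cnt (nat_lit 0)))))) (BT.kid (nat_lit 23) (nat_lit 2) (BT.img (nat_lit 1) (nat_lit 0) (BT.frm (nat_lit 2) (nat_lit 0x140b0804) (nat_lit 0x140b0804) [nat_lit 0, nat_lit 1, nat_lit 4, nat_lit 5] (BT.pln (nat_lit 0) (nat_lit 5) (BT.and (nat_lit 4) (nat_lit 0) (BT.br (nat_lit 0) (nat_lit 10) [nat_lit 7] (BT.dead (nat_lit 7) (BT.frm (nat_lit 3) (nat_lit 0x1d1d140b0804) (nat_lit 0x1e1e140b0804) [nat_lit 0, nat_lit 4, nat_lit 5, nat_lit 8, nat_lit 9] (BT.pln (nat_lit 0) (nat_lit 6) (BT.img (nat_lit 1) (nat_lit 2) (BT.and (nat_lit 1) (nat_lit 0) (BT.cnt (nat_lit 0)))))) (BT.dead (nat_lit 19) (BT.frm (nat_lit 3) (nat_lit 0x1d1d140b0804) (nat_lit 0x1d140b0804) [nat_lit 0, nat_lit 4, nat_lit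 5, nat_lit 8, nat_lit 9] (BT.pln (nat_lit 0) (nat_lit 6) (BT.img (nat_lit 1) (nat_lit 2) (BT.and (nat_lit 1) (nat_lit 0) (BT.cnt (nat_lit 0)))))) (BT.kid (nat_lit 10) (nat_lit 1) (BT.img (nat_lit 1) (nat_lit 0) (BT.one (nat_lit 4) (nat_lit 0x1f1d1d140b0804) (nat_lit 0x1f1d1d140b0804) [nat_lit 0, nat_lit 1, nat_lit 5, nat_lit 6, nat_lit 9, nat_lit 10])) BT.nil)))))))) BT.nil))))))) BT.nil))

theorem cv1_cnt : Cnt 24 (grp 24 EG) [p_g214] [p_g214] 0 0 0 0 240 :=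
  BT.sound cv1_cnt_P Known.nil (t := cv1_cnt_t) (d := 0) (by decide +kernel)

theorem cv1_ge : 240 ≤ Nat.card (grp 24 cv1_K) :=
  Ch.le_card_grp (k := 5) (L := (lab 24 5)) p_hn cv1_K_ok (c := (Ch.cons (nat_lit 0) [nat_lit 1, nat_lit 3] (Ch.cons (nat_lit 23) [nat_lit 5] (Ch.cons (nat_lit 10) [nat_lit 7] Ch.nil)))) (by decide +kernel)

theorem cv1_eq : (grp 24 EG) ⊓ Subgroup.centralizer {Net.toPerm 24 p_g214} = grp 24 cv1_K :=
  cent_eq cv1_sym cv1_cnt cv1_ge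

theorem cv1_card : Nat.card ↥((grp 24 EG) ⊓ Subgroup.centralizer {Net.toPerm 24 p_g214}) = 240 :=
  card_cent cv1_sym cv1_cnt cv1_ge

theorem cv1_n : grp 24 cv1_K ≤ Subgroup.normalizer (grp 24 L1 : Set (Equiv.Perm (Fin 24))) :=
  EvG.le_norm p_hn p_hk cv1_K_ok L1_ok L1o_E0_ok L1o_eq.ge (W := [[nat_lit 591106, nat_lit 591617], [nat_lit 591617, nat_lit 591105], [nat_lit 0x9050103, nat_lit 1], [nat_lit 327940, nat_lit 4]]) (by decide +kernel)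

theorem p_le276 : grp 24 cw1_K ≤ grp 24 N_E0 :=
  grp_le_of_memB p_hn p_hk N_E0_ok cw1_K_ok (ws := [nat_lit 0x1a1412080104, nat_lit 0x191311080806, nat_lit 0x170e070c, nat_lit 0x1a1713110e0711]) (by decide +kernel)

theorem cw1_le : grp 24 cw1_K ≤ (grp 24 EG) :=
  (p_le276.trans T_s0.le)

theorem cw1_mem : Net.toPerm 24 p_g215 ∈ (grp 24 EG) :=
  cw1_le (mem_grp_of_memB p_hn p_hk cw1_K_ok p_g215_ok (w := (nat_lit 66564)) (by decide +kernel))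

theorem cw1_sym : Sym 24 (grp 24 EG) [p_g215] cw1_K 0 :=
  Sym.of_lab p_hn p_hk (okE_cons.2 ⟨p_g215_ok, okE_nil _⟩) cw1_K_ok cw1_le (kT := 0) (by decide +kernel)

noncomputable def T_s4_O : ℕ := (nat_lit 0x2c800011210b004a0000001400000080000000008)

theorem T_s4_F : Frame 24 (grp 24 EG) 4 7 T_s4_O 0 1 :=
  Stab.frame p_hn T_s4 (by decide +kernel)

noncomputable def cw1_cnt_L : List ℕ := [2, 3, T_s2_O, 0, 0, 3, 5, T_s3_O, 0, 0, 4, 7, T_s4_O, 0, 0, 5, 11, T_s5_O, 0, 0, 6, 10, T_s6_O, 1, 0]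

theorem cw1_cnt_P : Prob 24 5 (grp 24 EG) cw1_cnt_EG [p_g215] [p_g215] cw1_K cw1_cnt_L 0 0 :=
  Sym.prob p_hn p_hk cw1_sym cw1_cnt_EG_ok (grp_cons_le p_g29_T (grp_cons_le p_g25_T (grp_cons_le p_g26_T (grp_cons_le p_g36_T (grp_cons_le p_g32_T (grp_cons_le p_g33_T (grp_cons_le p_g43_T (grp_cons_le p_g40_T (grp_cons_le p_g47_T (grp_cons_le p_g46_T (grp_cons_le p_g39_T (grp_cons_le p_g22_T (grp_cons_le p_g1_T (grp_cons_le p_g2_T (grp_nil_le _))))))))))))))) (Frames.cons T_s2_F (Frames.cons T_s3_F (Frames.cons T_s4_F (Frames.cons T_s5_F (Frames.cons T_s6_F Frames.nil))))) (okE_cons.2 ⟨p_g215_ok, okE_nil _⟩) _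

noncomputable def cw1_cnt_t : BT := (BT.br (nat_lit 2) (nat_lit 0) [nat_lit 1, nat_lit 3, nat_lit 5] (BT.kid (nat_lit 0) (nat_lit 10) (BT.img (nat_lit 1) (nat_lit 0) (BT.frm (nat_lit 0) (nat_lit 1) (nat_lit 1) [nat_lit 0, nat_lit 1] (BT.pln (nat_lit 0) (nat_lit 2) (BT.br (nat_lit 0) (nat_lit 23) [nat_lit 5] (BT.dead (nat_lit 17) (BT.frm (nat_lit 1) (nat_lit 2049) (nat_lit 462593) [nat_lit 0, nat_lit 3, nat_lit 4] (BT.pln (nat_lit 0) (nat_lit 3) (BT.img (nat_lit 1) (nat_lit 2) (BT.and (nat_lit 1) (nat_lit 0) (BT.cnt (nat_lit 0)))))) (BT.dead (nat_lit 11) (BT.frm (nat_lit 1) (nat_lit 2049) (nat_lit 460545) [nat_lit 0, nat_lit 3, nat_lit 4] (BT.pln (nat_lit 0) (nat_lit 3) (BT.img (nat_lit 1) (nat_lit 2) (BT.and (nat_lit 1) (nat_lit 0) (BT.cnt (nat_lit 0)))))) (BT.kid (nat_lit 23) (nat_lit 2) (BT.dif (nat_lit 7) (nat_lit 1) (BT.img (nat_lit 1) (nat_lit 1)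 (BT.frm (nat_lit 2) (nat_lit 919553) (nat_lit 919553) [nat_lit 0, nat_lit 2, nat_lit 5, nat_lit 6] (BT.pln (nat_lit 0) (nat_lit 5) (BT.and (nat_lit 3) (nat_lit 0) (BT.br (nat_lit 0) (nat_lit 8) [nat_lit 7] (BT.dead (nat_lit 4) (BT.frm (nat_lit 3) (nat_lit 0x110e0801) (nat_lit 0x120e0801) [nat_lit 0, nat_lit 4, nat_lit 6, nat_lit 9, nat_lit 10] (BT.pln (nat_lit 0) (nat_lit 9) (BT.img (nat_lit 1) (nat_lit 2) (BT.and (nat_lit 1) (nat_lit 0) (BT.cnt (nat_lit 0)))))) (BT.kid (nat_lit 8) (nat_lit 1) (BT.dif (nat_lit 2) (nat_lit 0) (BT.br (nat_lit 0) (nat_lit 18) [] (BT.dead (nat_lit 6) (BT.frm (nat_lit 4) (nat_lit 0x13110e0801) (nat_lit 0x14110e0801) [nat_lit 0, nat_lit 2, nat_lit 6, nat_lit 8, nat_lit 11, nat_lit 12] (BT.pln (nat_lit 0) (nat_lit 7) (BT.img (nat_lit 1) (nat_lit 2) (BT.and (nat_lit 1) (nat_lit 0) (BT.cnt (nat_lit 0)))))) (BT.dead (nat_lit 4) (BT.frm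 (nat_lit 4) (nat_lit 0x13110e0801) (nat_lit 0x110e0801) [nat_lit 0, nat_lit 2, nat_lit 6, nat_lit 8, nat_lit 11, nat_lit 12] (BT.pln (nat_lit 0) (nat_lit 8) (BT.img (nat_lit 1) (nat_lit 2) (BT.and (nat_lit 1) (nat_lit 0) (BT.cnt (nat_lit 0)))))) (BT.kid (nat_lit 18) (nat_lit 1) (BT.one (nat_lit 4) (nat_lit 0x13110e0801) (nat_lit 0x13110e0801) [nat_lit 0, nat_lit 2, nat_lit 6, nat_lit 8, nat_lit 11, nat_lit 12]) BT.nil))))) BT.nil)))))))) BT.nil))))))) BT.nil))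

theorem cw1_cnt : Cnt 24 (grp 24 EG) [p_g215] [p_g215] 0 0 0 0 240 :=
  BT.sound cw1_cnt_P Known.nil (t := cw1_cnt_t) (d := 0) (by decide +kernel)

theorem cw1_ge : 240 ≤ Nat.card (grp 24 cw1_K) :=
  Ch.le_card_grp (k := 5) (L := (lab 24 5)) p_hn cw1_K_ok (c := (Ch.cons (nat_lit 0) [nat_lit 1, nat_lit 3] (Ch.cons (nat_lit 23) [nat_lit 5] (Ch.cons (nat_lit 8) [nat_lit 7] Ch.nil)))) (by decide +kernel)

theorem cw1_eq : (grp 24 EG) ⊓ Subgroup.centralizer {Net.toPerm 24 p_g215} = grp 24 cw1_K :=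
  cent_eq cw1_sym cw1_cnt cw1_ge

theorem cw1_card : Nat.card ↥((grp 24 EG) ⊓ Subgroup.centralizer {Net.toPerm 24 p_g215}) = 240 :=
  card_cent cw1_sym cw1_cnt cw1_ge

theorem cw1_n : grp 24 cw1_K ≤ Subgroup.normalizer (grp 24 L1 : Set (Equiv.Perm (Fin 24))) :=
  EvG.le_norm p_hn p_hk cw1_K_ok L1_ok L1o_E0_ok L1o_eq.ge (W := [[nat_lit 591618, nat_lit 2308], [nat_lit 524547, nat_lit 2], [nat_lit 0x9050103, nat_lit 1], [nat_lit 327940, nat_lit 4]]) (by decide +kernel)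

theorem ky1 : ∀ {α : MulAut (grp 24 E)}, EvG.Ind (grp 24 E) (Net.toPerm 24 p_g76) α → H62.EV.KY' α ((grp 24 L1).subgroupOf (grp 24 E)) :=
  fun hα => cmp1.ky' amb hα fun y hy h1 h2 => by
  rcases Y1_mem y hy with rfl | rfl | rfl | rfl
  · exact absurd rfl h1
  · exact absurd rfl h2
  · exact EvG.core_cert amb (cv1_eq.le.trans cv1_n) L1_G (EvG.le_cent p_hn p_hk (by decide +kernel)) (k := 2)
      (by rw [cv1_card, L1o_card]; norm_num)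
  · rw [EvG.mul_net (z := p_g215) p_hn p_hk (by decide +kernel)]
    exact EvG.core_cert amb (cw1_eq.le.trans cw1_n) L1_G (EvG.le_cent p_hn p_hk (by decide +kernel)) (k := 2)
      (by rw [cw1_card, L1o_card]; norm_num)

theorem Y3_S : grp 24 Y3 ≤ grp 24 ES3 :=
  grp_le_of_memB p_hn p_hk ES3_ok Y3_ok (ws := [nat_lit 259, nat_lit 1]) (by decide +kernel)

theorem Y3_mem : ∀ y ∈ grp 24 Y3, y = 1 ∨ y = Net.toPerm 24 p_g95 ∨ y = Net.toPerm 24 p_g277 ∨ y = Net.toPerm 24 p_g95 * Net.toPerm 24 p_g277 :=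
  fun _ hy => EvG.mem_pair p_hn p_hk (by decide +kernel) (Y3_S hy)

theorem Y3_sq : ∀ y ∈ grp 24 Y3, y * y = 1 :=
  fun _ hy => EvG.sq_pair p_hn p_hk (by decide +kernel) (Y3_S hy)

theorem p_le281 : grp 24 cv3_K ≤ grp 24 N_E0 :=
  grp_le_of_memB p_hn p_hk N_E0_ok cv3_K_ok (ws := [nat_lit 0x1a140e0e08080106, nat_lit 0x191813151209, nat_lit 0x11070c]) (by decide +kernel)

theorem cv3_le : grp 24 cv3_K ≤ (grp 24 EG) :=
  (p_le281.trans T_s0.le)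

theorem cv3_mem : Net.toPerm 24 p_g277 ∈ (grp 24 EG) :=
  cv3_le (mem_grp_of_memB p_hn p_hk cv3_K_ok p_g277_ok (w := (nat_lit 0x40501040501)) (by decide +kernel))

theorem cv3_sym : Sym 24 (grp 24 EG) [p_g277] cv3_K 0 :=
  Sym.of_lab p_hn p_hk (okE_cons.2 ⟨p_g277_ok, okE_nil _⟩) cv3_K_ok cv3_le (kT := 0) (by decide +kernel)

noncomputable def cv3_cnt_L : List ℕ := [2, 3, T_s7_O, 0, 0, 5, 9, T_s14_O, 1, 0]

theorem cv3_cnt_P : Prob 24 5 (grp 24 EG) cv3_cnt_EG [p_g277] [p_g277] cv3_K cv3_cnt_L 0 0 :=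
  Sym.prob p_hn p_hk cv3_sym cv3_cnt_EG_ok (grp_cons_le p_g29_T (grp_cons_le p_g25_T (grp_cons_le p_g26_T (grp_cons_le p_g36_T (grp_cons_le p_g32_T (grp_cons_le p_g33_T (grp_cons_le p_g43_T (grp_cons_le p_g40_T (grp_cons_le p_g47_T (grp_cons_le p_g46_T (grp_cons_le p_g39_T (grp_cons_le p_g22_T (grp_cons_le p_g1_T (grp_cons_le p_g2_T (grp_cons_le p_g83_T (grp_cons_le p_g84_T (grp_cons_le p_g82_T (grp_cons_le p_g81_T (grp_nil_le _))))))))))))))))))) (Frames.cons T_s7_F (Frames.cons T_s14_F Frames.nil)) (okE_cons.2 ⟨p_g277_ok, okE_nil _⟩) _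

noncomputable def cv3_cnt_t : BT := (BT.br (nat_lit 2) (nat_lit 0) [nat_lit 1, nat_lit 3] (BT.kid (nat_lit 0) (nat_lit 20) (BT.img (nat_lit 1) (nat_lit 0) (BT.frm (nat_lit 0) (nat_lit 11) (nat_lit 11) [nat_lit 0, nat_lit 1] (BT.pln (nat_lit 0) (nat_lit 2) (BT.br (nat_lit 0) (nat_lit 12) [nat_lit 3, nat_lit 5] (BT.dead (nat_lit 3) (BT.dif (nat_lit 1) (nat_lit 0) (BT.img (nat_lit 1) (nat_lit 1) (BT.dif (nat_lit 1) (nat_lit 0) (BT.br (nat_lit 0) (nat_lit 1) [nat_lit 328709] (BT.dead (nat_lit 12) (BT.frm (nat_lit 1) (nat_lit 0x231e0b) (nat_lit 0x2021230b) [nat_lit 0, nat_lit 2, nat_lit 4, nat_lit 7, nat_lit 8] (BT.pln (nat_lit 0) (nat_lit 7) (BT.img (nat_lit 1) (nat_lit 2) (BT.and (nat_lit 1) (nat_lit 0) (BT.cnt (nat_lit 0)))))) (BT.dead (nat_lit 13) (BT.frm (nat_lit 1) (nat_lit 0x231e0b) (nat_lit 0x21230b) [nat_lit 0, nat_lit 2, nat_lit 4, nat_lit 7, nat_lit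 8] (BT.pln (nat_lit 0) (nat_lit 6) (BT.img (nat_lit 1) (nat_lit 2) (BT.and (nat_lit 1) (nat_lit 0) (BT.cnt (nat_lit 0)))))) BT.nil)))))) (BT.kid (nat_lit 12) (nat_lit 4) (BT.dif (nat_lit 1) (nat_lit 0) (BT.img (nat_lit 1) (nat_lit 1) (BT.dif (nat_lit 1) (nat_lit 0) (BT.br (nat_lit 0) (nat_lit 1) [nat_lit 5] (BT.dead (nat_lit 3) (BT.frm (nat_lit 1) (nat_lit 0x231e0b) (nat_lit 0x1d20231e0b) [nat_lit 0, nat_lit 2, nat_lit 4, nat_lit 7, nat_lit 8] (BT.pln (nat_lit 0) (nat_lit 5) (BT.img (nat_lit 1) (nat_lit 2) (BT.and (nat_lit 1) (nat_lit 0) (BT.cnt (nat_lit 0)))))) (BT.kid (nat_lit 1) (nat_lit 1) (BT.one (nat_lit 1) (nat_lit 0x231e0b) (nat_lit 0x231e0b) [nat_lit 0, nat_lit 2, nat_lit 4, nat_lit 7, nat_lit 8]) BT.nil)))))) BT.nil)))))) BT.nil))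

theorem cv3_cnt : Cnt 24 (grp 24 EG) [p_g277] [p_g277] 0 0 0 0 480 :=
  BT.sound cv3_cnt_P Known.nil (t := cv3_cnt_t) (d := 0) (by decide +kernel)

theorem cv3_ge : 480 ≤ Nat.card (grp 24 cv3_K) :=
  Ch.le_card_grp (k := 5) (L := (lab 24 5)) p_hn cv3_K_ok (c := (Ch.cons (nat_lit 0) [nat_lit 1] (Ch.cons (nat_lit 12) [nat_lit 3] (Ch.cons (nat_lit 1) [nat_lit 5] Ch.nil)))) (by decide +kernel)

theorem cv3_eq : (grp 24 EG) ⊓ Subgroup.centralizer {Net.toPerm 24 p_g277} = grp 24 cv3_K :=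
  cent_eq cv3_sym cv3_cnt cv3_ge

theorem cv3_card : Nat.card ↥((grp 24 EG) ⊓ Subgroup.centralizer {Net.toPerm 24 p_g277}) = 480 :=
  card_cent cv3_sym cv3_cnt cv3_ge

theorem cv3_n : grp 24 cv3_K ≤ Subgroup.normalizer (grp 24 L3 : Set (Equiv.Perm (Fin 24))) :=
  EvG.le_norm p_hn p_hk cv3_K_ok L3_ok L3o_E0_ok L3o_eq.ge (W := [[nat_lit 2820, nat_lit 2], [nat_lit 1283, nat_lit 0xb050504], [nat_lit 0x5050104, nat_lit 0xb050902]]) (by decide +kernel)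

theorem p_le285 : grp 24 cw3_K ≤ grp 24 N_E0 :=
  grp_le_of_memB p_hn p_hk N_E0_ok cw3_K_ok (ws := [nat_lit 0x1a18140e15080108, nat_lit 0x1a18140d080107, nat_lit 0x19180d150711, nat_lit 0x180d0d0808]) (by decide +kernel)

theorem cw3_le : grp 24 cw3_K ≤ (grp 24 EG) :=
  (p_le285.trans T_s0.le)

theorem cw3_mem : Net.toPerm 24 p_g255 ∈ (grp 24 EG) :=
  cw3_le (mem_grp_of_memB p_hn p_hk cw3_K_ok p_g255_ok (w := (nat_lit 0x706010401)) (by decide +kernel))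

theorem cw3_sym : Sym 24 (grp 24 EG) [p_g255] cw3_K 0 :=
  Sym.of_lab p_hn p_hk (okE_cons.2 ⟨p_g255_ok, okE_nil _⟩) cw3_K_ok cw3_le (kT := 0) (by decide +kernel)

noncomputable def cw3_cnt_L : List ℕ := [2, 3, T_s2_O, 0, 0, 3, 5, T_s3_O, 0, 0, 4, 7, T_s11_O, 0, 0, 5, 15, T_s12_O, 0, 0, 6, 10, T_s13_O, 1, 0]

theorem cw3_cnt_P : Prob 24 5 (grp 24 EG) cw3_cnt_EG [p_g255] [p_g255] cw3_K cw3_cnt_L 0 0 :=
  Sym.prob p_hn p_hk cw3_sym cw3_cnt_EG_ok (grp_cons_le p_g29_T (grp_cons_le p_g25_T (grp_cons_le p_g26_T (grp_cons_le p_g36_T (grp_cons_le p_g32_T (grp_cons_le p_g33_T (grp_cons_le p_g43_T (grp_cons_le p_g40_T (grp_cons_le p_g47_T (grp_cons_le p_g46_T (grp_cons_le p_g39_T (grp_cons_le p_g22_T (grp_cons_le p_g1_T (grp_cons_le p_g2_T (grp_cons_le p_g101_T (grp_cons_le p_g102_T (grp_nil_le _))))))))))))))))) (Frames.cons T_s2_F (Frames.cons T_s3_F (Frames.cons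 T_s11_F (Frames.cons T_s12_F (Frames.cons T_s13_F Frames.nil))))) (okE_cons.2 ⟨p_g255_ok, okE_nil _⟩) _

noncomputable def cw3_cnt_t : BT := (BT.br (nat_lit 2) (nat_lit 0) [nat_lit 1, nat_lit 3] (BT.kid (nat_lit 0) (nat_lit 10) (BT.img (nat_lit 1) (nat_lit 0) (BT.frm (nat_lit 0) (nat_lit 5) (nat_lit 5) [nat_lit 0, nat_lit 1] (BT.pln (nat_lit 0) (nat_lit 2) (BT.br (nat_lit 0) (nat_lit 23) [nat_lit 5] (BT.dead (nat_lit 10) (BT.img (nat_lit 1) (nat_lit 0) (BT.frm (nat_lit 2) (nat_lit 5) (nat_lit 462597) [nat_lit 0, nat_lit 1, nat_lit 4, nat_lit 5] (BT.pln (nat_lit 0) (nat_lit 5) (BT.and (nat_lit 4) (nat_lit 0) (BT.br (nat_lit 0) (nat_lit 10) [nat_lit 7] (BT.dead (nat_lit 23) (BT.dif (nat_lit 12) (nat_lit 6) (BT.frm (nat_lit 3) (nat_lit 7429) (nat_lit 0x1e1e070f05) [nat_lit 1, nat_lit 5, nat_lit 6, nat_lit 9, nat_lit 10] (BT.pln (nat_lit 0) (nat_lit 6) (BT.and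 (nat_lit 2) (nat_lit 0) (BT.br (nat_lit 0) (nat_lit 1) [nat_lit 7] (BT.dead (nat_lit 1) (BT.frm (nat_lit 4) (nat_lit 0x1f1d05) (nat_lit 0x1e1e070f05) [nat_lit 0, nat_lit 5, nat_lit 9, nat_lit 10, nat_lit 13, nat_lit 14] (BT.pln (nat_lit 0) (nat_lit 6) (BT.img (nat_lit 1) (nat_lit 2) (BT.and (nat_lit 1) (nat_lit 0) (BT.cnt (nat_lit 0)))))) BT.nil)))))) (BT.dead (nat_lit 7) (BT.frm (nat_lit 3) (nat_lit 7429) (nat_lit 0x1d1d070f05) [nat_lit 0, nat_lit 4, nat_lit 5, nat_lit 8, nat_lit 9] (BT.pln (nat_lit 0) (nat_lit 6) (BT.img (nat_lit 1) (nat_lit 2) (BT.and (nat_lit 1) (nat_lit 0) (BT.cnt (nat_lit 0)))))) (BT.dead (nat_lit 14) (BT.frm (nat_lit 3) (nat_lit 7429) (nat_lit 0x1d070f05) [nat_lit 0, nat_lit 4, nat_lit 5, nat_lit 8, nat_lit 9] (BT.pln (nat_lit 0) (nat_lit 8) (BT.img (nat_lit 1) (nat_lit 2) (BT.and (nat_lit 1) (nat_lit 0) (BT.cnt (nat_lit 0))))))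 BT.nil)))))))) (BT.dead (nat_lit 22) (BT.frm (nat_lit 1) (nat_lit 5) (nat_lit 528133) [nat_lit 0, nat_lit 3, nat_lit 4] (BT.pln (nat_lit 0) (nat_lit 3) (BT.img (nat_lit 1) (nat_lit 2) (BT.and (nat_lit 1) (nat_lit 0) (BT.cnt (nat_lit 0)))))) (BT.kid (nat_lit 23) (nat_lit 10) (BT.img (nat_lit 1) (nat_lit 0) (BT.frm (nat_lit 2) (nat_lit 5) (nat_lit 5) [nat_lit 0, nat_lit 1, nat_lit 4, nat_lit 5] (BT.pln (nat_lit 0) (nat_lit 5) (BT.and (nat_lit 4) (nat_lit 0) (BT.br (nat_lit 0) (nat_lit 10) [nat_lit 5] (BT.kid (nat_lit 10) (nat_lit 2) (BT.dif (nat_lit 12) (nat_lit 6) (BT.frm (nat_lit 3) (nat_lit 7429) (nat_lit 7429) [nat_lit 1, nat_lit 5, nat_lit 6, nat_lit 9, nat_lit 10] (BT.pln (nat_lit 0) (nat_lit 6) (BT.and (nat_lit 2) (nat_lit 0) (BT.br (nat_lit 0) (nat_lit 1) [nat_lit 7] (BT.kid (nat_lit 1) (nat_lit 1) (BT.one (nat_lit 4) (nat_lit 0x1f1d05) (nat_lit 0x1f1d05)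 [nat_lit 0, nat_lit 5, nat_lit 9, nat_lit 10, nat_lit 13, nat_lit 14]) BT.nil)))))) BT.nil)))))) BT.nil))))))) BT.nil))

theorem cw3_cnt : Cnt 24 (grp 24 EG) [p_g255] [p_g255] 0 0 0 0 240 :=
  BT.sound cw3_cnt_P Known.nil (t := cw3_cnt_t) (d := 0) (by decide +kernel)

theorem cw3_ge : 240 ≤ Nat.card (grp 24 cw3_K) :=
  Ch.le_card_grp (k := 5) (L := (lab 24 5)) p_hn cw3_K_ok (c := (Ch.cons (nat_lit 0) [nat_lit 1, nat_lit 3] (Ch.cons (nat_lit 10) [nat_lit 5] (Ch.cons (nat_lit 1) [nat_lit 7] Ch.nil)))) (by decide +kernel)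

theorem cw3_eq : (grp 24 EG) ⊓ Subgroup.centralizer {Net.toPerm 24 p_g255} = grp 24 cw3_K :=
  cent_eq cw3_sym cw3_cnt cw3_ge

theorem cw3_card : Nat.card ↥((grp 24 EG) ⊓ Subgroup.centralizer {Net.toPerm 24 p_g255}) = 240 :=
  card_cent cw3_sym cw3_cnt cw3_ge

theorem cw3_n : grp 24 cw3_K ≤ Subgroup.normalizer (grp 24 L3 : Set (Equiv.Perm (Fin 24))) :=
  EvG.le_norm p_hn p_hk cw3_K_ok L3_ok L3o_E0_ok L3o_eq.ge (W := [[nat_lit 0xb050104, nat_lit 328961], [nat_lit 4, nat_lit 1283], [nat_lit 0xb050902, nat_lit 722433], [nat_lit 0xb060104, nat_lit 1283]]) (by decide +kernel)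

theorem ky3 : ∀ {α : MulAut (grp 24 E)}, EvG.Ind (grp 24 E) (Net.toPerm 24 p_g95) α → H62.EV.KY' α ((grp 24 L3).subgroupOf (grp 24 E)) :=
  fun hα => cmp3.ky' amb hα fun y hy h1 h2 => by
  rcases Y3_mem y hy with rfl | rfl | rfl | rfl
  · exact absurd rfl h1
  · exact absurd rfl h2
  · exact EvG.core_cert amb (cv3_eq.le.trans cv3_n) L3_G (EvG.le_cent p_hn p_hk (by decide +kernel)) (k := 3)
      (by rw [cv3_card, L3o_card]; norm_num)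
  · rw [EvG.mul_net (z := p_g255) p_hn p_hk (by decide +kernel)]
    exact EvG.core_cert amb (cw3_eq.le.trans cw3_n) L3_G (EvG.le_cent p_hn p_hk (by decide +kernel)) (k := 2)
      (by rw [cw3_card, L3o_card]; norm_num)

theorem v_G_le : grp 24 EG ≤ grp 24 v_G_X :=
  grp_le_of_memB p_hn p_hk v_G_X_ok EG_ok (ws := [nat_lit 0x15170f050901, nat_lit 0x19170f110d0811, nat_lit 5]) (by decide +kernel)

theorem v_G : Net.toPerm 24 p_g214 ∉ (grp 24 E) :=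
  EvG.not_mem_of_card (v_G_le.trans (EvG.grp_cons_le_sup _ lb_le)) (by rw [card_G, N_card]; norm_num)

theorem u_G_le : grp 24 EG ≤ grp 24 u_G_X :=
  grp_le_of_memB p_hn p_hk u_G_X_ok EG_ok (ws := [nat_lit 0x150f0b1309050301, nat_lit 0x19170f110d0811, nat_lit 5]) (by decide +kernel)

theorem u_G : Net.toPerm 24 p_g95 ∉ (grp 24 E) :=
  EvG.not_mem_of_card (u_G_le.trans (EvG.grp_cons_le_sup _ lb_le)) (by rw [card_G, N_card]; norm_num)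

theorem p_le290 : grp 24 p_V289 ≤ grp 24 E3 :=
  grp_le_of_memB p_hn p_hk E3_ok p_V289_ok (ws := [nat_lit 0x4040204, nat_lit 0x203010104]) (by decide +kernel)

theorem E3lb_le : grp 24 E3lb_E ≤ grp 24 E3 :=
  (grp_cons_le ((le_refl (grp 24 E3)) (toPerm_mem_grp (E := E3) (by simp [E3]))) (grp_cons_le ((le_refl (grp 24 E3)) (toPerm_mem_grp (E := E3) (by simp [E3]))) (grp_cons_le ((p_le290.trans (le_refl (grp 24 E3))) (toPerm_mem_grp (E := p_V289) (by simp [p_V289]))) (grp_cons_le ((p_le290.trans (le_refl (grp 24 E3))) (toPerm_mem_grp (E := p_V289) (by simp [p_V289]))) (grp_nil_le _)))))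

noncomputable def E3lb_ch : Ch := (Ch.cons (nat_lit 4) [nat_lit 1, nat_lit 3] (Ch.cons (nat_lit 0) [nat_lit 5, nat_lit 7] Ch.nil))

theorem E3lb_chk : Ch.chk 24 5 (lab 24 5) E3lb_E E3lb_ch 9 = true :=
  by decide +kernel

theorem E3lb_ge : 9 ≤ Nat.card (grp 24 E3) :=
  (Ch.le_card_grp p_hn E3lb_E_ok E3lb_chk).trans (Subgroup.card_le_of_le E3lb_le)

theorem x3_G : Net.toPerm 24 p_g286 ∈ (grp 24 E) :=
  lb_le (mem_grp_of_memB p_hn p_hk lb_E_ok p_g286_ok (w := (nat_lit 0x17110e0b06100401)) (by decide +kernel))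

theorem y3_G : Net.toPerm 24 p_g287 ∈ (grp 24 E) :=
  lb_le (mem_grp_of_memB p_hn p_hk lb_E_ok p_g287_ok (w := (nat_lit 0x17150d160603)) (by decide +kernel))

theorem x3_ord : orderOf (Net.toPerm 24 p_g286) = 3 :=
  orderOf_net p_hn p_hk p_g286_ok (by decide) (ps := [3]) (by set_option linter.unusedSimpArgs false in simp [Nat.primeFactorsList_ofNat]) (by decide +kernel)

theorem y3_ord : orderOf (Net.toPerm 24 p_g287) = 3 :=
  orderOf_net p_hn p_hk p_g287_ok (by decide) (ps := [3]) (by set_option linter.unusedSimpArgs false in simp [Nat.primeFactorsList_ofNat]) (by decide +kernel)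

theorem rank3 : ¬ PRankLE 3 1 (grp 24 E) :=
  EvG.not_rank x3_G y3_G (EvG.comm_net p_hn p_hk (by decide +kernel)) (x3_ord ▸ pow_orderOf_eq_one _) (y3_ord ▸ pow_orderOf_eq_one _)
    (by rw [← EvG.grp_pair]; exact le_trans (by norm_num) E3lb_ge)

theorem s_G : Net.toPerm 24 p_g76 ∈ (grp 24 E) :=
  lb_le (mem_grp_of_memB p_hn p_hk lb_E_ok p_g76_ok (w := (nat_lit 0x1711090906100302)) (by decide +kernel))

theorem s1_G : Net.toPerm 24 p_g277 ∈ (grp 24 E) :=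
  lb_le (mem_grp_of_memB p_hn p_hk lb_E_ok p_g277_ok (w := (nat_lit 0x170e0b07030c)) (by decide +kernel))

theorem d_le6 : grp 12 d_V5 ≤ grp 12 D_E :=
  grp_le_of_memB d_hn d_hk D_E_ok d_V5_ok (ws := [nat_lit 0x10103030204, nat_lit 0x202020204040103]) (by decide +kernel)

theorem d_le10 : grp 12 d_V9 ≤ grp 12 d_V5 :=
  grp_le_of_memB d_hn d_hk d_V5_ok d_V9_ok (ws := [nat_lit 0x404020203, nat_lit 0x303020303]) (by decide +kernel)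

theorem d_le15 : grp 12 d_V14 ≤ grp 12 d_V9 :=
  grp_le_of_memB d_hn d_hk d_V9_ok d_V14_ok (ws := [nat_lit 516, nat_lit 0x1030203030101, nat_lit 0x3020404020202]) (by decide +kernel)

theorem d_le19 : grp 12 d_V18 ≤ grp 12 d_V14 :=
  grp_le_of_memB d_hn d_hk d_V14_ok d_V18_ok (ws := [nat_lit 0x4050404060303060204, nat_lit 0x503030103020404]) (by decide +kernel)

theorem D_lb_le : grp 12 D_lb_E ≤ grp 12 D_E :=
  (grp_cons_le ((le_refl (grp 12 D_E)) (toPerm_mem_grp (E := D_E) (by simp [D_E]))) (grp_cons_le ((le_refl (grp 12 D_E)) (toPerm_mem_grp (E := D_E) (by simp [D_E]))) (grp_cons_le ((d_le6.trans (le_refl (grp 12 D_E))) (toPerm_mem_grp (E := d_V5) (by simp [d_V5]))) (grp_cons_le ((d_le6.trans (le_refl (grp 12 D_E))) (toPerm_mem_grp (E := d_V5) (by simp [d_V5]))) (grp_cons_le ((d_le10.trans (d_le6.trans (le_refl (grp 12 D_E)))) (toPerm_mem_grp (E := d_V9)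 (by simp [d_V9]))) (grp_cons_le ((d_le10.trans (d_le6.trans (le_refl (grp 12 D_E)))) (toPerm_mem_grp (E := d_V9) (by simp [d_V9]))) (grp_cons_le ((d_le15.trans (d_le10.trans (d_le6.trans (le_refl (grp 12 D_E))))) (toPerm_mem_grp (E := d_V14) (by simp [d_V14]))) (grp_cons_le ((d_le15.trans (d_le10.trans (d_le6.trans (le_refl (grp 12 D_E))))) (toPerm_mem_grp (E := d_V14) (by simp [d_V14]))) (grp_cons_le ((d_le15.trans (d_le10.trans (d_le6.trans (le_refl (grp 12 D_E))))) (toPerm_mem_grp (E := d_V14) (by simp [d_V14]))) (grp_cons_le ((d_le19.trans (d_le15.trans (d_le10.trans (d_le6.trans (le_refl (grp 12 D_E)))))) (toPerm_mem_grp (E := d_V18) (by simp [d_V18]))) (grp_cons_le ((d_le19.trans (d_le15.trans (d_le10.trans (d_le6.trans (le_refl (grp 12 D_E)))))) (toPerm_mem_grp (E := d_V18) (by simp [d_V18]))) (grp_nil_le _))))))))))))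

noncomputable def D_lb_ch : Ch := (Ch.cons (nat_lit 0) [nat_lit 1, nat_lit 3] (Ch.cons (nat_lit 1) [nat_lit 5, nat_lit 7] (Ch.cons (nat_lit 2) [nat_lit 9, nat_lit 11] (Ch.cons (nat_lit 3) [nat_lit 13, nat_lit 15, nat_lit 17] (Ch.cons (nat_lit 4) [nat_lit 19, nat_lit 21] Ch.nil)))))

theorem D_lb_chk : Ch.chk 12 4 (lab 12 4) D_lb_E D_lb_ch 95040 = true :=
  by decide +kernel

theorem D_lb_ge : 95040 ≤ Nat.card (grp 12 D_E) :=
  (Ch.le_card_grp d_hn D_lb_E_ok D_lb_chk).trans (Subgroup.card_le_of_le D_lb_le)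

noncomputable def D_M : List ℕ := [(nat_lit 2048), (nat_lit 1024), (nat_lit 512), (nat_lit 256), (nat_lit 128), (nat_lit 0), (nat_lit 64), (nat_lit 0), (nat_lit 32), (nat_lit 16), (nat_lit 0), (nat_lit 0), (nat_lit 8), (nat_lit 4), (nat_lit 0), (nat_lit 0), (nat_lit 2), (nat_lit 0), (nat_lit 1), (nat_lit 0), (nat_lit 0), (nat_lit 0), (nat_lit 0), (nat_lit 0)]

theorem D_inj : Function.Injective (cols 24 12 (nthN D_M)) :=
  cols_injective (by decide +kernel)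

theorem D_acts : List.Forall₂ (fun o o' => Acts (cols 24 12 (nthN D_M)) (Net.toPerm 24 o) (Net.toPerm 12 o')) E D_E :=
  (List.Forall₂.cons (inc_of_incB p_g1_ok d_g1_ok (allN_iff.1 (by decide +kernel))).acts_cols (List.Forall₂.cons (inc_of_incB p_g2_ok d_g2_ok (allN_iff.1 (by decide +kernel))).acts_cols List.Forall₂.nil))

theorem mult : HasCyclicSchurMultiplier (grp 24 E) 2 :=
  H80.hasSchurMultiplier_congr_left S2035.result equiv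

theorem lift_s : ∀ {J : Type*} [Group J] [Finite J] {π : J →* (grp 24 E)}, H62.EV.Cover π → H62.EV.Lift4 π ⟨Net.toPerm 24 p_g76, s_G⟩ :=
  fun hπ => by
  obtain ⟨ρ, h, -⟩ := exists_hom_grp D_inj D_acts
  refine EvG.lift4_perm mult ρ (Subtype.ext ((pow_two _).trans (EvG.sq_net p_hn p_hk (by decide +kernel)))) ?_ hπ
  rw [Acts.unique D_inj (h ⟨_, s_G⟩) (inc_of_incB p_g76_ok d_g20_ok (allN_iff.1 (by decide +kernel))).acts_cols]
  exact EvG.spin_net d_hn d_hk d_g20_ok (by decide +kernel)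

theorem lift_s1 : ∀ {J : Type*} [Group J] [Finite J] {π : J →* (grp 24 E)}, H62.EV.Cover π → H62.EV.Lift4 π ⟨Net.toPerm 24 p_g277, s1_G⟩ :=
  fun hπ => by
  obtain ⟨ρ, h, -⟩ := exists_hom_grp D_inj D_acts
  refine EvG.lift4_perm mult ρ (Subtype.ext ((pow_two _).trans (EvG.sq_net p_hn p_hk (by decide +kernel)))) ?_ hπ
  rw [Acts.unique D_inj (h ⟨_, s1_G⟩) (inc_of_incB p_g277_ok d_g21_ok (allN_iff.1 (by decide +kernel))).acts_cols]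
  exact EvG.spin_net d_hn d_hk d_g21_ok (by decide +kernel)

universe u

open Cfsg.Agent.H62.EV EvG

theorem ks0 : KS (grp 24 E) := amb.ks reps fun t ht α hα L hp => by
  rcases ht with rfl | rfl | rfl
  · obtain rfl := cmp1.eq amb hα hp.comp
    exact ⟨hα.idx (k := 4) (c := 240) (two_mul_dvd' amb (cv1_mem) (comm_net p_hn p_hk (by decide +kernel))
      (sq_net p_hn p_hk (by decide +kernel)) v_G nt_c1_card) (by norm_num) (by rw [card_G]; norm_num), cmp1.cen,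
      cmp1.k2 amb hα (by rw [Y1_card]) rank3, (ky1 hα).ky, .inl (kf1 hα)⟩
  · exact (amb.no_comp ch2 hα hp.comp).elim
  · obtain rfl := cmp3.eq amb hα hp.comp
    exact ⟨hα.idx (k := 4) (c := 240) (nt_c3_card ▸ Subgroup.card_dvd_of_le (inf_le_inf_right _ G_le))
      (by norm_num) (by rw [card_G]; norm_num), cmp3.cen,
      cmp3.k2 amb hα (by rw [Y3_card]) rank3, (ky3 hα).ky, .inl (kf3 hα)⟩

theorem kc0 : KCU.{u} (grp 24 E) := amb.kcu reps fun J _ _ π hπ t ht α hα L hp => by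
  rcases ht with rfl | rfl | rfl
  · obtain rfl := cmp1.eq amb hα hp.comp
    exact ⟨kf1 hα, .inl (cmp1.ca amb hα Y1_sq s_G (lift_s hπ))⟩
  · exact (amb.no_comp ch2 hα hp.comp).elim
  · obtain rfl := cmp3.eq amb hα hp.comp
    exact ⟨kf3 hα, .inr (.inl (cmp3.cb amb hα Y3_sq (ky3 hα) (card_ker_eq mult hπ) s1_G
      (comm_net p_hn p_hk (by decide +kernel)) (sq_net p_hn p_hk (by decide +kernel)) (lift_s1 hπ) (.inl fun x hx =>
        (Subgroup.mem_centralizer_singleton_iff.1 (le_cent (E := L3) p_hn p_hk (by decide +kernel) hx)).symm)))⟩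

theorem ksM12 : KSFor.{u} (fun S _ => Spor.IsoM12 S) := fun _ _ _ _ _ ⟨e⟩ =>
  KS.congr (equiv.symm.trans e.symm) ks0

theorem kcM12 : KCFor.{u} (fun S _ => Spor.IsoM12 S) := fun _ _ _ _ _ ⟨e⟩ =>
  KCU.kc (equiv.symm.trans e.symm) kc0

end Cfsg.Agent.H17.EvM12
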