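import Mathlib
import Cfsg.Agent.H43.Cent
import Cfsg.Agent.H17.EvQ
import Cfsg.Agent.S2064

set_option autoImplicit false
set_option maxRecDepth 200000
set_option linter.style.longLine false

namespace Cfsg.Agent.H17.EvM24

open Cfsg.Agent.H43
open scoped Pointwise

theorem p_hn : NOk 24 := by decide

theorem p_hk : 24 ≤ 2 ^ 5 := by decide

noncomputable def p_g1 : Net := (Net.cons (nat_lit 1) (nat_lit 0x450504) (Net.cons (nat_lit 2) (nat_lit 0x203020) (Net.cons (nat_lit 4) (nat_lit 2048) (Net.cons (nat_lit 8) (nat_lit 40) (Net.cons (nat_lit 16) (nat_lit 187) (Net.cons (nat_lit 8) (nat_lit 106) (Net.cons (nat_lit 4) (nat_lit 1289) (Net.cons (nat_lit 2) (nat_lit 139538) (Net.cons (nat_lit 1) (nat_lit 0x440451) Net.nil)))))))))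

theorem p_g1_ok : Net.ok 24 p_g1 = true := by decide +kernel

noncomputable def p_g2 : Net := (Net.cons (nat_lit 1) (nat_lit 65616) (Net.cons (nat_lit 2) (nat_lit 0x232310) (Net.cons (nat_lit 4) (nat_lit 786432) (Net.cons (nat_lit 8) (nat_lit 150) (Net.cons (nat_lit 16) (nat_lit 151) (Net.cons (nat_lit 8) (nat_lit 189) (Net.cons (nat_lit 4) (nat_lit 782) (Net.cons (nat_lit 2) (nat_lit 0x100011) (Net.cons (nat_lit 1) (nat_lit 0x540005) Net.nil)))))))))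

theorem p_g2_ok : Net.ok 24 p_g2 = true := by decide +kernel

noncomputable def E : List Net := [p_g1, p_g2]

theorem E_ok : okE 24 E = true := (okE_cons.2 ⟨p_g1_ok, (okE_cons.2 ⟨p_g2_ok, (okE_nil 24)⟩)⟩)

noncomputable def p_g3 : Net := (Net.cons (nat_lit 1) (nat_lit 262144) (Net.cons (nat_lit 2) (nat_lit 0x221120) (Net.cons (nat_lit 4) (nat_lit 263168) (Net.cons (nat_lit 8) (nat_lit 19) (Net.cons (nat_lit 16) (nat_lit 219) (Net.cons (nat_lit 8) (nat_lit 211) (Net.cons (nat_lit 4) (nat_lit 853512) (Net.cons (nat_lit 2) (nat_lit 139266) (Net.cons (nat_lit 1) (nat_lit 0x455500) Net.nil)))))))))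

theorem p_g3_ok : Net.ok 24 p_g3 = true := by decide +kernel

noncomputable def p_g4 : Net := (Net.cons (nat_lit 1) (nat_lit 70656) (Net.cons (nat_lit 2) (nat_lit 0x212300) (Net.cons (nat_lit 4) (nat_lit 525824) (Net.cons (nat_lit 8) (nat_lit 9) (Net.cons (nat_lit 16) (nat_lit 157) (Net.cons (nat_lit 8) (nat_lit 75) (Net.cons (nat_lit 4) (nat_lit 1024) (Net.cons (nat_lit 2) (nat_lit 131120) (Net.cons (nat_lit 1) (nat_lit 0x550404) Net.nil)))))))))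

theorem p_g4_ok : Net.ok 24 p_g4 = true := by decide +kernel

noncomputable def p_V5 : List Net := [p_g3, p_g4]

theorem p_V5_ok : okE 24 p_V5 = true := (okE_cons.2 ⟨p_g3_ok, (okE_cons.2 ⟨p_g4_ok, (okE_nil 24)⟩)⟩)

noncomputable def p_g7 : Net := (Net.cons (nat_lit 1) (nat_lit 0x114010) (Net.cons (nat_lit 2) (nat_lit 0x311300) (Net.cons (nat_lit 4) (nat_lit 328960) (Net.cons (nat_lit 8) (nat_lit 65) (Net.cons (nat_lit 16) (nat_lit 245) (Net.cons (nat_lit 8) (nat_lit 233) (Net.cons (nat_lit 4) (nat_lit 524812) (Net.cons (nat_lit 2) (nat_lit 0x123130) (Net.cons (nat_lit 1) (nat_lit 0x500104) Net.nil)))))))))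

theorem p_g7_ok : Net.ok 24 p_g7 = true := by decide +kernel

noncomputable def p_g8 : Net := (Net.cons (nat_lit 1) (nat_lit 0x445000) (Net.cons (nat_lit 2) (nat_lit 0x222000) (Net.cons (nat_lit 4) (nat_lit 656128) (Net.cons (nat_lit 8) (nat_lit 84) (Net.cons (nat_lit 16) (nat_lit 244) (Net.cons (nat_lit 8) (nat_lit 32) (Net.cons (nat_lit 4) (nat_lit 589828) (Net.cons (nat_lit 2) (nat_lit 0x332010) (Net.cons (nat_lit 1) (nat_lit 0x444440) Net.nil)))))))))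

theorem p_g8_ok : Net.ok 24 p_g8 = true := by decide +kernel

noncomputable def p_V9 : List Net := [p_g7, p_g8]

theorem p_V9_ok : okE 24 p_V9 = true := (okE_cons.2 ⟨p_g7_ok, (okE_cons.2 ⟨p_g8_ok, (okE_nil 24)⟩)⟩)

noncomputable def p_g11 : Net := (Net.cons (nat_lit 1) (nat_lit 0x500400) (Net.cons (nat_lit 2) (nat_lit 0x130200) (Net.cons (nat_lit 4) (nat_lit 657664) (Net.cons (nat_lit 8) (nat_lit 18) (Net.cons (nat_lit 16) (nat_lit 146) (Net.cons (nat_lit 8) (nat_lit 106) (Net.cons (nat_lit 4) (nat_lit 196872) (Net.cons (nat_lit 2) (nat_lit 4096) (Net.cons (nat_lit 1) (nat_lit 0x115540) Net.nil)))))))))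

theorem p_g11_ok : Net.ok 24 p_g11 = true := by decide +kernel

noncomputable def p_g12 : Net := (Net.cons (nat_lit 1) (nat_lit 0x101010) (Net.cons (nat_lit 2) (nat_lit 0x220020) (Net.cons (nat_lit 4) (nat_lit 330752) (Net.cons (nat_lit 8) (nat_lit 73) (Net.cons (nat_lit 16) (nat_lit 217) (Net.cons (nat_lit 8) (nat_lit 41) (Net.cons (nat_lit 4) (nat_lit 659208) (Net.cons (nat_lit 2) (nat_lit 0x330310) (Net.cons (nat_lit 1) (nat_lit 344064) Net.nil)))))))))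

theorem p_g12_ok : Net.ok 24 p_g12 = true := by decide +kernel

noncomputable def p_V13 : List Net := [p_g11, p_g12]

theorem p_V13_ok : okE 24 p_V13 = true := (okE_cons.2 ⟨p_g11_ok, (okE_cons.2 ⟨p_g12_ok, (okE_nil 24)⟩)⟩)

noncomputable def p_g15 : Net := (Net.cons (nat_lit 1) (nat_lit 0x110100) (Net.cons (nat_lit 2) (nat_lit 0x100100) (Net.cons (nat_lit 4) (nat_lit 459264) (Net.cons (nat_lit 8) (nat_lit 76) (Net.cons (nat_lit 16) (nat_lit 252) (Net.cons (nat_lit 8) (nat_lit 172) (Net.cons (nat_lit 4) (nat_lit 721152) (Net.cons (nat_lit 2) (nat_lit 0x201000) (Net.cons (nat_lit 1) (nat_lit 0x505410) Net.nil)))))))))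

theorem p_g15_ok : Net.ok 24 p_g15 = true := by decide +kernel

noncomputable def p_g16 : Net := (Net.cons (nat_lit 1) (nat_lit 0x101040) (Net.cons (nat_lit 2) (nat_lit 0x232000) (Net.cons (nat_lit 4) (nat_lit 199168) (Net.cons (nat_lit 8) (nat_lit 41) (Net.cons (nat_lit 16) (nat_lit 185) (Net.cons (nat_lit 8) (nat_lit 73) (Net.cons (nat_lit 4) (nat_lit 198144) (Net.cons (nat_lit 2) (nat_lit 0x332100) (Net.cons (nat_lit 1) (nat_lit 0x454000) Net.nil)))))))))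

theorem p_g16_ok : Net.ok 24 p_g16 = true := by decide +kernel

noncomputable def p_V17 : List Net := [p_g15, p_g16]

theorem p_V17_ok : okE 24 p_V17 = true := (okE_cons.2 ⟨p_g15_ok, (okE_cons.2 ⟨p_g16_ok, (okE_nil 24)⟩)⟩)

noncomputable def p_g19 : Net := (Net.cons (nat_lit 1) (nat_lit 0x511500) (Net.cons (nat_lit 2) (nat_lit 0x322000) (Net.cons (nat_lit 4) (nat_lit 264192) (Net.cons (nat_lit 8) (nat_lit 6) (Net.cons (nat_lit 16) (nat_lit 102) (Net.cons (nat_lit 8) (nat_lit 134) (Net.cons (nat_lit 4) (nat_lit 65792) (Net.cons (nat_lit 2) (nat_lit 77824) (Net.cons (nat_lit 1) (nat_lit 0x511500) Net.nil)))))))))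

theorem p_g19_ok : Net.ok 24 p_g19 = true := by decide +kernel

noncomputable def p_g20 : Net := (Net.cons (nat_lit 1) (nat_lit 0x510540) (Net.cons (nat_lit 2) (nat_lit 0x301000) (Net.cons (nat_lit 4) (nat_lit 131584) (Net.cons (nat_lit 8) (nat_lit 23) (Net.cons (nat_lit 16) (nat_lit 55) (Net.cons (nat_lit 8) (nat_lit 87) (Net.cons (nat_lit 4) (nat_lit 724736) (Net.cons (nat_lit 2) (nat_lit 0x113020) (Net.cons (nat_lit 1) (nat_lit 0x555040) Net.nil)))))))))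

theorem p_g20_ok : Net.ok 24 p_g20 = true := by decide +kernel

noncomputable def p_g21 : Net := (Net.cons (nat_lit 1) (nat_lit 0x545100) (Net.cons (nat_lit 2) (nat_lit 208896) (Net.cons (nat_lit 4) (nat_lit 790016) (Net.cons (nat_lit 8) (nat_lit 128) (Net.cons (nat_lit 16) (nat_lit 224) (Net.cons (nat_lit 8) (nat_lit 96) (Net.cons (nat_lit 4) (nat_lit 591616) (Net.cons (nat_lit 2) (nat_lit 0x312020) (Net.cons (nat_lit 1) (nat_lit 349504) Net.nil)))))))))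

theorem p_g21_ok : Net.ok 24 p_g21 = true := by decide +kernel

noncomputable def p_V22 : List Net := [p_g19, p_g20, p_g21]

theorem p_V22_ok : okE 24 p_V22 = true := (okE_cons.2 ⟨p_g19_ok, (okE_cons.2 ⟨p_g20_ok, (okE_cons.2 ⟨p_g21_ok, (okE_nil 24)⟩)⟩)⟩)

noncomputable def p_g24 : Net := (Net.cons (nat_lit 1) (nat_lit 0x110000) (Net.cons (nat_lit 2) (nat_lit 0x112300) (Net.cons (nat_lit 4) (nat_lit 131072) (Net.cons (nat_lit 8) (nat_lit 6) (Net.cons (nat_lit 16) (nat_lit 102) (Net.cons (nat_lit 8) (nat_lit 6) (Net.cons (nat_lit 4) (nat_lit 722944) (Net.cons (nat_lit 2) (nat_lit 0x112300) (Net.cons (nat_lit 1) (nat_lit 0x114000) Net.nil)))))))))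

theorem p_g24_ok : Net.ok 24 p_g24 = true := by decide +kernel

noncomputable def p_g25 : Net := (Net.cons (nat_lit 1) (nat_lit 82944) (Net.cons (nat_lit 2) (nat_lit 0x220200) (Net.cons (nat_lit 8) (nat_lit 136) (Net.cons (nat_lit 16) (nat_lit 136) (Net.cons (nat_lit 8) (nat_lit 232) (Net.cons (nat_lit 4) (nat_lit 458752) (Net.cons (nat_lit 2) (nat_lit 0x220300) (Net.cons (nat_lit 1) (nat_lit 0x454400) Net.nil))))))))

theorem p_g25_ok : Net.ok 24 p_g25 = true := by decide +kernel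

noncomputable def p_g26 : Net := (Net.cons (nat_lit 1) (nat_lit 86272) (Net.cons (nat_lit 2) (nat_lit 0x130200) (Net.cons (nat_lit 4) (nat_lit 132096) (Net.cons (nat_lit 8) (nat_lit 23) (Net.cons (nat_lit 16) (nat_lit 119) (Net.cons (nat_lit 8) (nat_lit 23) (Net.cons (nat_lit 4) (nat_lit 658432) (Net.cons (nat_lit 2) (nat_lit 0x130200) (Net.cons (nat_lit 1) (nat_lit 86272) Net.nil)))))))))

theorem p_g26_ok : Net.ok 24 p_g26 = true := by decide +kernel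

noncomputable def p_g27 : Net := (Net.cons (nat_lit 1) (nat_lit 0x405000) (Net.cons (nat_lit 2) (nat_lit 131584) (Net.cons (nat_lit 4) (nat_lit 1536) (Net.cons (nat_lit 8) (nat_lit 140) (Net.cons (nat_lit 16) (nat_lit 204) (Net.cons (nat_lit 8) (nat_lit 172) (Net.cons (nat_lit 4) (nat_lit 198400) (Net.cons (nat_lit 2) (nat_lit 131584) (Net.cons (nat_lit 1) (nat_lit 0x405000) Net.nil)))))))))

theorem p_g27_ok : Net.ok 24 p_g27 = true := by decide +kernel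

noncomputable def p_g28 : Net := (Net.cons (nat_lit 1) (nat_lit 262464) (Net.cons (nat_lit 2) (nat_lit 0x213000) (Net.cons (nat_lit 4) (nat_lit 524800) (Net.cons (nat_lit 8) (nat_lit 145) (Net.cons (nat_lit 16) (nat_lit 177) (Net.cons (nat_lit 8) (nat_lit 49) (Net.cons (nat_lit 4) (nat_lit 395264) (Net.cons (nat_lit 2) (nat_lit 201248) (Net.cons (nat_lit 1) (nat_lit 262464) Net.nil)))))))))

theorem p_g28_ok : Net.ok 24 p_g28 = true := by decide +kernel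

noncomputable def p_V29 : List Net := [p_g24, p_g25, p_g26, p_g27, p_g28]

theorem p_V29_ok : okE 24 p_V29 = true := (okE_cons.2 ⟨p_g24_ok, (okE_cons.2 ⟨p_g25_ok, (okE_cons.2 ⟨p_g26_ok, (okE_cons.2 ⟨p_g27_ok, (okE_cons.2 ⟨p_g28_ok, (okE_nil 24)⟩)⟩)⟩)⟩)⟩)

noncomputable def lb_E : List Net := [p_g1, p_g2, p_g3, p_g4, p_g7, p_g8, p_g11, p_g12, p_g15, p_g16, p_g19, p_g20, p_g21, p_g24, p_g25, p_g26, p_g27, p_g28]

theorem lb_E_ok : okE 24 lb_E = true := (okE_cons.2 ⟨p_g1_ok, (okE_cons.2 ⟨p_g2_ok, (okE_cons.2 ⟨p_g3_ok, (okE_cons.2 ⟨p_g4_ok, (okE_cons.2 ⟨p_g7_ok, (okE_cons.2 ⟨p_g8_ok, (okE_cons.2 ⟨p_g11_ok, (okE_cons.2 ⟨p_g12_ok, (okE_cons.2 ⟨p_g15_ok, (okE_cons.2 ⟨p_g16_ok, (okE_cons.2 ⟨p_g19_ok, (okE_cons.2 ⟨p_g20_ok, (okE_cons.2 ⟨p_g21_ok, (okE_cons.2 ⟨p_g24_ok, (okE_cons.2 ⟨p_g25_ok, (okE_cons.2 ⟨p_g26_ok, (okE_cons.2 ⟨p_g27_ok, (okE_cons.2 ⟨p_g28_ok,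 (okE_nil 24)⟩)⟩)⟩)⟩)⟩)⟩)⟩)⟩)⟩)⟩)⟩)⟩)⟩)⟩)⟩)⟩)⟩)⟩)

noncomputable def Z : List Net := []

theorem Z_ok : okE 24 Z = true := (okE_nil 24)

noncomputable def p_V32 : List Net := [p_g3, p_g4, p_g7, p_g8, p_g11, p_g12, p_g15, p_g16, p_g19, p_g20, p_g21, p_g24, p_g25, p_g26, p_g27, p_g28]

theorem p_V32_ok : okE 24 p_V32 = true := (okE_cons.2 ⟨p_g3_ok, (okE_cons.2 ⟨p_g4_ok, (okE_cons.2 ⟨p_g7_ok, (okE_cons.2 ⟨p_g8_ok, (okE_cons.2 ⟨p_g11_ok, (okE_cons.2 ⟨p_g12_ok, (okE_cons.2 ⟨p_g15_ok, (okE_cons.2 ⟨p_g16_ok, (okE_cons.2 ⟨p_g19_ok, (okE_cons.2 ⟨p_g20_ok, (okE_cons.2 ⟨p_g21_ok, (okE_cons.2 ⟨p_g24_ok, (okE_cons.2 ⟨p_g25_ok, (okE_cons.2 ⟨p_g26_ok, (okE_cons.2 ⟨p_g27_ok, (okE_cons.2 ⟨p_g28_ok, (okE_nil 24)⟩)⟩)⟩)⟩)⟩)⟩)⟩)⟩)⟩)⟩)⟩)⟩)⟩)⟩)⟩)⟩)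

noncomputable def p_V33 : List Net := [p_g7, p_g8, p_g11, p_g12, p_g15, p_g16, p_g19, p_g20, p_g21, p_g24, p_g25, p_g26, p_g27, p_g28]

theorem p_V33_ok : okE 24 p_V33 = true := (okE_cons.2 ⟨p_g7_ok, (okE_cons.2 ⟨p_g8_ok, (okE_cons.2 ⟨p_g11_ok, (okE_cons.2 ⟨p_g12_ok, (okE_cons.2 ⟨p_g15_ok, (okE_cons.2 ⟨p_g16_ok, (okE_cons.2 ⟨p_g19_ok, (okE_cons.2 ⟨p_g20_ok, (okE_cons.2 ⟨p_g21_ok, (okE_cons.2 ⟨p_g24_ok, (okE_cons.2 ⟨p_g25_ok, (okE_cons.2 ⟨p_g26_ok, (okE_cons.2 ⟨p_g27_ok, (okE_cons.2 ⟨p_g28_ok, (okE_nil 24)⟩)⟩)⟩)⟩)⟩)⟩)⟩)⟩)⟩)⟩)⟩)⟩)⟩)⟩)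

noncomputable def p_V34 : List Net := [p_g11, p_g12, p_g15, p_g16, p_g19, p_g20, p_g21, p_g24, p_g25, p_g26, p_g27, p_g28]

theorem p_V34_ok : okE 24 p_V34 = true := (okE_cons.2 ⟨p_g11_ok, (okE_cons.2 ⟨p_g12_ok, (okE_cons.2 ⟨p_g15_ok, (okE_cons.2 ⟨p_g16_ok, (okE_cons.2 ⟨p_g19_ok, (okE_cons.2 ⟨p_g20_ok, (okE_cons.2 ⟨p_g21_ok, (okE_cons.2 ⟨p_g24_ok, (okE_cons.2 ⟨p_g25_ok, (okE_cons.2 ⟨p_g26_ok, (okE_cons.2 ⟨p_g27_ok, (okE_cons.2 ⟨p_g28_ok, (okE_nil 24)⟩)⟩)⟩)⟩)⟩)⟩)⟩)⟩)⟩)⟩)⟩)⟩)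

noncomputable def p_V35 : List Net := [p_g15, p_g16, p_g19, p_g20, p_g21, p_g24, p_g25, p_g26, p_g27, p_g28]

theorem p_V35_ok : okE 24 p_V35 = true := (okE_cons.2 ⟨p_g15_ok, (okE_cons.2 ⟨p_g16_ok, (okE_cons.2 ⟨p_g19_ok, (okE_cons.2 ⟨p_g20_ok, (okE_cons.2 ⟨p_g21_ok, (okE_cons.2 ⟨p_g24_ok, (okE_cons.2 ⟨p_g25_ok, (okE_cons.2 ⟨p_g26_ok, (okE_cons.2 ⟨p_g27_ok, (okE_cons.2 ⟨p_g28_ok, (okE_nil 24)⟩)⟩)⟩)⟩)⟩)⟩)⟩)⟩)⟩)⟩)

noncomputable def p_V36 : List Net := [p_g19, p_g20, p_g21, p_g24, p_g25, p_g26, p_g27, p_g28]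

theorem p_V36_ok : okE 24 p_V36 = true := (okE_cons.2 ⟨p_g19_ok, (okE_cons.2 ⟨p_g20_ok, (okE_cons.2 ⟨p_g21_ok, (okE_cons.2 ⟨p_g24_ok, (okE_cons.2 ⟨p_g25_ok, (okE_cons.2 ⟨p_g26_ok, (okE_cons.2 ⟨p_g27_ok, (okE_cons.2 ⟨p_g28_ok, (okE_nil 24)⟩)⟩)⟩)⟩)⟩)⟩)⟩)⟩)

noncomputable def p_V37 : List Net := [p_g24, p_g25, p_g26, p_g27, p_g28]

theorem p_V37_ok : okE 24 p_V37 = true := (okE_cons.2 ⟨p_g24_ok, (okE_cons.2 ⟨p_g25_ok, (okE_cons.2 ⟨p_g26_ok, (okE_cons.2 ⟨p_g27_ok, (okE_cons.2 ⟨p_g28_ok, (okE_nil 24)⟩)⟩)⟩)⟩)⟩)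

noncomputable def p_V38 : List Net := []

theorem p_V38_ok : okE 24 p_V38 = true := (okE_nil 24)

noncomputable def Z_cnt_EG : List Net := [p_g24, p_g25, p_g26, p_g27, p_g28, p_g19, p_g20, p_g21, p_g15, p_g16, p_g11, p_g12, p_g7, p_g8, p_g3, p_g4, p_g1, p_g2]

theorem Z_cnt_EG_ok : okE 24 Z_cnt_EG = true := (okE_cons.2 ⟨p_g24_ok, (okE_cons.2 ⟨p_g25_ok, (okE_cons.2 ⟨p_g26_ok, (okE_cons.2 ⟨p_g27_ok, (okE_cons.2 ⟨p_g28_ok, (okE_cons.2 ⟨p_g19_ok, (okE_cons.2 ⟨p_g20_ok, (okE_cons.2 ⟨p_g21_ok, (okE_cons.2 ⟨p_g15_ok, (okE_cons.2 ⟨p_g16_ok, (okE_cons.2 ⟨p_g11_ok, (okE_cons.2 ⟨p_g12_ok, (okE_cons.2 ⟨p_g7_ok, (okE_cons.2 ⟨p_g8_ok, (okE_cons.2 ⟨p_g3_ok, (okE_cons.2 ⟨p_g4_ok, (okE_cons.2 ⟨p_g1_ok, (okE_cons.2 ⟨p_g2_ok, (okE_nil 24)⟩)⟩)⟩)⟩)⟩)⟩)⟩)⟩)⟩)⟩)⟩)⟩)⟩)⟩)⟩)⟩)⟩)⟩)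

noncomputable def p_g39 : Net := (Net.cons (nat_lit 1) (nat_lit 5120) (Net.cons (nat_lit 2) (nat_lit 0x113300) (Net.cons (nat_lit 4) (nat_lit 395520) (Net.cons (nat_lit 8) (nat_lit 112) (Net.cons (nat_lit 16) (nat_lit 124) (Net.cons (nat_lit 8) (nat_lit 241) (Net.cons (nat_lit 4) (nat_lit 395520) (Net.cons (nat_lit 2) (nat_lit 0x313300) (Net.cons (nat_lit 1) (nat_lit 5120) Net.nil)))))))))

theorem p_g39_ok : Net.ok 24 p_g39 = true := by decide +kernel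

noncomputable def p_g40 : Net := (Net.cons (nat_lit 1) (nat_lit 0x104140) (Net.cons (nat_lit 2) (nat_lit 0x310220) (Net.cons (nat_lit 4) (nat_lit 656128) (Net.cons (nat_lit 8) (nat_lit 192) (Net.cons (nat_lit 16) (nat_lit 225) (Net.cons (nat_lit 8) (nat_lit 180) (Net.cons (nat_lit 4) (nat_lit 459782) (Net.cons (nat_lit 2) (nat_lit 197394) (Net.cons (nat_lit 1) (nat_lit 0x144151) Net.nil)))))))))

theorem p_g40_ok : Net.ok 24 p_g40 = true := by decide +kernel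

noncomputable def p_g41 : Net := (Net.cons (nat_lit 1) (nat_lit 0x155014) (Net.cons (nat_lit 2) (nat_lit 0x130210) (Net.cons (nat_lit 4) (nat_lit 787712) (Net.cons (nat_lit 8) (nat_lit 8) (Net.cons (nat_lit 16) (nat_lit 14) (Net.cons (nat_lit 8) (nat_lit 52) (Net.cons (nat_lit 4) (nat_lit 852746) (Net.cons (nat_lit 2) (nat_lit 0x221110) (Net.cons (nat_lit 1) (nat_lit 0x544114) Net.nil)))))))))

theorem p_g41_ok : Net.ok 24 p_g41 = true := by decide +kernel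

noncomputable def p_g42 : Net := (Net.cons (nat_lit 1) (nat_lit 0x550450) (Net.cons (nat_lit 2) (nat_lit 0x130300) (Net.cons (nat_lit 4) (nat_lit 524288) (Net.cons (nat_lit 8) (nat_lit 33) (Net.cons (nat_lit 16) (nat_lit 105) (Net.cons (nat_lit 8) (nat_lit 33) (Net.cons (nat_lit 4) (nat_lit 66308) (Net.cons (nat_lit 2) (nat_lit 0x230020) (Net.cons (nat_lit 1) (nat_lit 331844) Net.nil)))))))))

theorem p_g42_ok : Net.ok 24 p_g42 = true := by decide +kernel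

noncomputable def p_g43 : Net := (Net.cons (nat_lit 1) (nat_lit 16) (Net.cons (nat_lit 2) (nat_lit 66048) (Net.cons (nat_lit 4) (nat_lit 656640) (Net.cons (nat_lit 8) (nat_lit 3) (Net.cons (nat_lit 16) (nat_lit 131) (Net.cons (nat_lit 8) (nat_lit 91) (Net.cons (nat_lit 4) (nat_lit 656642) (Net.cons (nat_lit 2) (nat_lit 66320) (Net.cons (nat_lit 1) (nat_lit 0x400010) Net.nil)))))))))

theorem p_g43_ok : Net.ok 24 p_g43 = true := by decide +kernel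

noncomputable def p_g44 : Net := (Net.cons (nat_lit 1) (nat_lit 0x500150) (Net.cons (nat_lit 2) (nat_lit 65792) (Net.cons (nat_lit 4) (nat_lit 68608) (Net.cons (nat_lit 8) (nat_lit 128) (Net.cons (nat_lit 16) (nat_lit 152) (Net.cons (nat_lit 8) (nat_lit 194) (Net.cons (nat_lit 4) (nat_lit 68864) (Net.cons (nat_lit 2) (nat_lit 0x110120) (Net.cons (nat_lit 1) (nat_lit 0x500150) Net.nil)))))))))

theorem p_g44_ok : Net.ok 24 p_g44 = true := by decide +kernel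

noncomputable def p_g45 : Net := (Net.cons (nat_lit 1) (nat_lit 0x441010) (Net.cons (nat_lit 2) (nat_lit 0x222020) (Net.cons (nat_lit 4) (nat_lit 525568) (Net.cons (nat_lit 16) (nat_lit 42) (Net.cons (nat_lit 8) (nat_lit 208) (Net.cons (nat_lit 4) (nat_lit 787712) (Net.cons (nat_lit 2) (nat_lit 0x222220) (Net.cons (nat_lit 1) (nat_lit 0x441010) Net.nil))))))))

theorem p_g45_ok : Net.ok 24 p_g45 = true := by decide +kernel

noncomputable def nt_c1_K : List Net := [p_g40, p_g41, p_g42, p_g43, p_g44, p_g45]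

theorem nt_c1_K_ok : okE 24 nt_c1_K = true := (okE_cons.2 ⟨p_g40_ok, (okE_cons.2 ⟨p_g41_ok, (okE_cons.2 ⟨p_g42_ok, (okE_cons.2 ⟨p_g43_ok, (okE_cons.2 ⟨p_g44_ok, (okE_cons.2 ⟨p_g45_ok, (okE_nil 24)⟩)⟩)⟩)⟩)⟩)⟩)

noncomputable def nt_c1_cnt_EG : List Net := [p_g15, p_g16, p_g19, p_g20, p_g21, p_g24, p_g25, p_g26, p_g27, p_g28, p_g11, p_g12, p_g7, p_g8, p_g3, p_g4, p_g1, p_g2]

theorem nt_c1_cnt_EG_ok : okE 24 nt_c1_cnt_EG = true := (okE_cons.2 ⟨p_g15_ok, (okE_cons.2 ⟨p_g16_ok, (okE_cons.2 ⟨p_g19_ok, (okE_cons.2 ⟨p_g20_ok, (okE_cons.2 ⟨p_g21_ok, (okE_cons.2 ⟨p_g24_ok, (okE_cons.2 ⟨p_g25_ok, (okE_cons.2 ⟨p_g26_ok, (okE_cons.2 ⟨p_g27_ok, (okE_cons.2 ⟨p_g28_ok, (okE_cons.2 ⟨p_g11_ok, (okE_cons.2 ⟨p_g12_ok, (okE_cons.2 ⟨p_g7_ok, (okE_cons.2 ⟨p_g8_ok, (okE_cons.2 ⟨p_g3_ok, (okE_cons.2 ⟨p_g4_ok, (okE_cons.2 ⟨p_g1_ok, (okE_cons.2 ⟨p_g2_ok, (okE_nil 24)⟩)⟩)⟩)⟩)⟩)⟩)⟩)⟩)⟩)⟩)⟩)⟩)⟩)⟩)⟩)⟩)⟩)⟩)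

noncomputable def p_g47 : Net := (Net.cons (nat_lit 1) (nat_lit 5136) (Net.cons (nat_lit 2) (nat_lit 0x333100) (Net.cons (nat_lit 4) (nat_lit 460032) (Net.cons (nat_lit 8) (nat_lit 52) (Net.cons (nat_lit 16) (nat_lit 245) (Net.cons (nat_lit 8) (nat_lit 203) (Net.cons (nat_lit 4) (nat_lit 853768) (Net.cons (nat_lit 2) (nat_lit 563) (Net.cons (nat_lit 1) (nat_lit 5136) Net.nil)))))))))

theorem p_g47_ok : Net.ok 24 p_g47 = true := by decide +kernel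

noncomputable def p_g48 : Net := (Net.cons (nat_lit 1) (nat_lit 0x105450) (Net.cons (nat_lit 2) (nat_lit 0x333000) (Net.cons (nat_lit 4) (nat_lit 1792) (Net.cons (nat_lit 8) (nat_lit 44) (Net.cons (nat_lit 16) (nat_lit 254) (Net.cons (nat_lit 8) (nat_lit 77) (Net.cons (nat_lit 4) (nat_lit 721160) (Net.cons (nat_lit 2) (nat_lit 0x121110) (Net.cons (nat_lit 1) (nat_lit 0x400415) Net.nil)))))))))

theorem p_g48_ok : Net.ok 24 p_g48 = true := by decide +kernel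

noncomputable def p_g49 : Net := (Net.cons (nat_lit 1) (nat_lit 0x501100) (Net.cons (nat_lit 2) (nat_lit 200960) (Net.cons (nat_lit 4) (nat_lit 2304) (Net.cons (nat_lit 8) (nat_lit 88) (Net.cons (nat_lit 16) (nat_lit 220) (Net.cons (nat_lit 8) (nat_lit 42) (Net.cons (nat_lit 4) (nat_lit 329988) (Net.cons (nat_lit 2) (nat_lit 272) (Net.cons (nat_lit 1) (nat_lit 0x145500) Net.nil)))))))))

theorem p_g49_ok : Net.ok 24 p_g49 = true := by decide +kernel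

noncomputable def p_g50 : Net := (Net.cons (nat_lit 1) (nat_lit 0x145500) (Net.cons (nat_lit 2) (nat_lit 0x100100) (Net.cons (nat_lit 8) (nat_lit 73) (Net.cons (nat_lit 16) (nat_lit 77) (Net.cons (nat_lit 8) (nat_lit 235) (Net.cons (nat_lit 4) (nat_lit 514) (Net.cons (nat_lit 2) (nat_lit 0x100110) (Net.cons (nat_lit 1) (nat_lit 0x145500) Net.nil))))))))

theorem p_g50_ok : Net.ok 24 p_g50 = true := by decide +kernel

noncomputable def p_g51 : Net := (Net.cons (nat_lit 1) (nat_lit 5136) (Net.cons (nat_lit 2) (nat_lit 135184) (Net.cons (nat_lit 4) (nat_lit 196608) (Net.cons (nat_lit 8) (nat_lit 84) (Net.cons (nat_lit 16) (nat_lit 86) (Net.cons (nat_lit 8) (nat_lit 234) (Net.cons (nat_lit 4) (nat_lit 65796) (Net.cons (nat_lit 2) (nat_lit 135730) (Net.cons (nat_lit 1) (nat_lit 5136) Net.nil)))))))))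

theorem p_g51_ok : Net.ok 24 p_g51 = true := by decide +kernel

noncomputable def nt_c2_K : List Net := [p_g48, p_g49, p_g50, p_g51]

theorem nt_c2_K_ok : okE 24 nt_c2_K = true := (okE_cons.2 ⟨p_g48_ok, (okE_cons.2 ⟨p_g49_ok, (okE_cons.2 ⟨p_g50_ok, (okE_cons.2 ⟨p_g51_ok, (okE_nil 24)⟩)⟩)⟩)⟩)

noncomputable def p_g53 : Net := (Net.cons (nat_lit 1) (nat_lit 0x111140) (Net.cons (nat_lit 2) (nat_lit 197120) (Net.cons (nat_lit 4) (nat_lit 67584) (Net.cons (nat_lit 8) (nat_lit 73) (Net.cons (nat_lit 16) (nat_lit 73) (Net.cons (nat_lit 8) (nat_lit 169) (Net.cons (nat_lit 4) (nat_lit 462080) (Net.cons (nat_lit 2) (nat_lit 0x321220) (Net.cons (nat_lit 1) (nat_lit 0x104000) Net.nil)))))))))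

theorem p_g53_ok : Net.ok 24 p_g53 = true := by decide +kernel

noncomputable def p_V54 : List Net := [p_g53]

theorem p_V54_ok : okE 24 p_V54 = true := (okE_cons.2 ⟨p_g53_ok, (okE_nil 24)⟩)

noncomputable def p_V56 : List Net := []

theorem p_V56_ok : okE 24 p_V56 = true := (okE_nil 24)

noncomputable def nt_c2_cnt_EG : List Net := [p_g15, p_g16, p_g19, p_g20, p_g21, p_g24, p_g25, p_g26, p_g27, p_g28, p_g11, p_g12, p_g7, p_g8, p_g3, p_g4, p_g1, p_g2, p_g53]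

theorem nt_c2_cnt_EG_ok : okE 24 nt_c2_cnt_EG = true := (okE_cons.2 ⟨p_g15_ok, (okE_cons.2 ⟨p_g16_ok, (okE_cons.2 ⟨p_g19_ok, (okE_cons.2 ⟨p_g20_ok, (okE_cons.2 ⟨p_g21_ok, (okE_cons.2 ⟨p_g24_ok, (okE_cons.2 ⟨p_g25_ok, (okE_cons.2 ⟨p_g26_ok, (okE_cons.2 ⟨p_g27_ok, (okE_cons.2 ⟨p_g28_ok, (okE_cons.2 ⟨p_g11_ok, (okE_cons.2 ⟨p_g12_ok, (okE_cons.2 ⟨p_g7_ok, (okE_cons.2 ⟨p_g8_ok, (okE_cons.2 ⟨p_g3_ok, (okE_cons.2 ⟨p_g4_ok, (okE_cons.2 ⟨p_g1_ok, (okE_cons.2 ⟨p_g2_ok, (okE_cons.2 ⟨p_g53_ok, (okE_nil 24)⟩)⟩)⟩)⟩)⟩)⟩)⟩)⟩)⟩)⟩)⟩)⟩)⟩)⟩)⟩)⟩)⟩)⟩)⟩)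

noncomputable def p_g57 : Net := (Net.cons (nat_lit 1) (nat_lit 0x510000) (Net.cons (nat_lit 2) (nat_lit 0x210120) (Net.cons (nat_lit 4) (nat_lit 395264) (Net.cons (nat_lit 8) (nat_lit 8) (Net.cons (nat_lit 16) (nat_lit 14) (Net.cons (nat_lit 8) (nat_lit 203) (Net.cons (nat_lit 4) (nat_lit 657664) (Net.cons (nat_lit 2) (nat_lit 0x210110) (Net.cons (nat_lit 1) (nat_lit 0x510000) Net.nil)))))))))

theorem p_g57_ok : Net.ok 24 p_g57 = true := by decide +kernel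

noncomputable def p_g58 : Net := (Net.cons (nat_lit 1) (nat_lit 0x100540) (Net.cons (nat_lit 2) (nat_lit 0x111100) (Net.cons (nat_lit 4) (nat_lit 2048) (Net.cons (nat_lit 8) (nat_lit 24) (Net.cons (nat_lit 16) (nat_lit 154) (Net.cons (nat_lit 8) (nat_lit 92) (Net.cons (nat_lit 4) (nat_lit 921347) (Net.cons (nat_lit 2) (nat_lit 0x330011) (Net.cons (nat_lit 1) (nat_lit 0x500151) Net.nil)))))))))

theorem p_g58_ok : Net.ok 24 p_g58 = true := by decide +kernel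

noncomputable def p_g59 : Net := (Net.cons (nat_lit 1) (nat_lit 0x550540) (Net.cons (nat_lit 2) (nat_lit 0x130210) (Net.cons (nat_lit 4) (nat_lit 329984) (Net.cons (nat_lit 8) (nat_lit 132) (Net.cons (nat_lit 16) (nat_lit 156) (Net.cons (nat_lit 8) (nat_lit 152) (Net.cons (nat_lit 4) (nat_lit 1282) (Net.cons (nat_lit 2) (nat_lit 0x310222) (Net.cons (nat_lit 1) (nat_lit 0x454544) Net.nil)))))))))

theorem p_g59_ok : Net.ok 24 p_g59 = true := by decide +kernel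

noncomputable def p_g60 : Net := (Net.cons (nat_lit 1) (nat_lit 0x414000) (Net.cons (nat_lit 2) (nat_lit 0x333220) (Net.cons (nat_lit 4) (nat_lit 133632) (Net.cons (nat_lit 8) (nat_lit 3) (Net.cons (nat_lit 16) (nat_lit 107) (Net.cons (nat_lit 8) (nat_lit 177) (Net.cons (nat_lit 4) (nat_lit 2050) (Net.cons (nat_lit 2) (nat_lit 0x333220) (Net.cons (nat_lit 1) (nat_lit 0x414000) Net.nil)))))))))

theorem p_g60_ok : Net.ok 24 p_g60 = true := by decide +kernel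

noncomputable def p_g61 : Net := (Net.cons (nat_lit 1) (nat_lit 0x150140) (Net.cons (nat_lit 2) (nat_lit 544) (Net.cons (nat_lit 4) (nat_lit 394496) (Net.cons (nat_lit 8) (nat_lit 6) (Net.cons (nat_lit 16) (nat_lit 70) (Net.cons (nat_lit 8) (nat_lit 158) (Net.cons (nat_lit 4) (nat_lit 394498) (Net.cons (nat_lit 2) (nat_lit 131616) (Net.cons (nat_lit 1) (nat_lit 0x150140) Net.nil)))))))))

theorem p_g61_ok : Net.ok 24 p_g61 = true := by decide +kernel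

noncomputable def nt_c3_K : List Net := [p_g58, p_g59, p_g60, p_g61]

theorem nt_c3_K_ok : okE 24 nt_c3_K = true := (okE_cons.2 ⟨p_g58_ok, (okE_cons.2 ⟨p_g59_ok, (okE_cons.2 ⟨p_g60_ok, (okE_cons.2 ⟨p_g61_ok, (okE_nil 24)⟩)⟩)⟩)⟩)

noncomputable def nt_c3_cnt_EG : List Net := [p_g24, p_g25, p_g26, p_g27, p_g28, p_g19, p_g20, p_g21, p_g15, p_g16, p_g11, p_g12, p_g7, p_g8, p_g3, p_g4, p_g1, p_g2]

theorem nt_c3_cnt_EG_ok : okE 24 nt_c3_cnt_EG = true := (okE_cons.2 ⟨p_g24_ok, (okE_cons.2 ⟨p_g25_ok, (okE_cons.2 ⟨p_g26_ok, (okE_cons.2 ⟨p_g27_ok, (okE_cons.2 ⟨p_g28_ok, (okE_cons.2 ⟨p_g19_ok, (okE_cons.2 ⟨p_g20_ok, (okE_cons.2 ⟨p_g21_ok, (okE_cons.2 ⟨p_g15_ok, (okE_cons.2 ⟨p_g16_ok, (okE_cons.2 ⟨p_g11_ok, (okE_cons.2 ⟨p_g12_ok, (okE_cons.2 ⟨p_g7_ok, (okE_cons.2 ⟨p_g8_ok, (okE_cons.2 ⟨p_g3_ok, (okE_cons.2 ⟨p_g4_ok, (okE_cons.2 ⟨p_g1_ok, (okE_cons.2 ⟨p_g2_ok,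 (okE_nil 24)⟩)⟩)⟩)⟩)⟩)⟩)⟩)⟩)⟩)⟩)⟩)⟩)⟩)⟩)⟩)⟩)⟩)⟩)

noncomputable def p_g63 : Net := (Net.cons (nat_lit 1) (nat_lit 5136) (Net.cons (nat_lit 2) (nat_lit 0x330000) (Net.cons (nat_lit 4) (nat_lit 920576) (Net.cons (nat_lit 8) (nat_lit 38) (Net.cons (nat_lit 16) (nat_lit 63) (Net.cons (nat_lit 8) (nat_lit 108) (Net.cons (nat_lit 4) (nat_lit 853515) (Net.cons (nat_lit 2) (nat_lit 0x103121) (Net.cons (nat_lit 1) (nat_lit 5136) Net.nil)))))))))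

theorem p_g63_ok : Net.ok 24 p_g63 = true := by decide +kernel

noncomputable def p_g64 : Net := (Net.cons (nat_lit 1) (nat_lit 0x154014) (Net.cons (nat_lit 2) (nat_lit 0x200100) (Net.cons (nat_lit 4) (nat_lit 658176) (Net.cons (nat_lit 8) (nat_lit 48) (Net.cons (nat_lit 16) (nat_lit 121) (Net.cons (nat_lit 8) (nat_lit 212) (Net.cons (nat_lit 4) (nat_lit 132111) (Net.cons (nat_lit 2) (nat_lit 205057) (Net.cons (nat_lit 1) (nat_lit 0x540151) Net.nil)))))))))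

theorem p_g64_ok : Net.ok 24 p_g64 = true := by decide +kernel

noncomputable def p_g65 : Net := (Net.cons (nat_lit 1) (nat_lit 0x554440) (Net.cons (nat_lit 2) (nat_lit 0x320220) (Net.cons (nat_lit 4) (nat_lit 459776) (Net.cons (nat_lit 8) (nat_lit 180) (Net.cons (nat_lit 16) (nat_lit 244) (Net.cons (nat_lit 8) (nat_lit 60) (Net.cons (nat_lit 4) (nat_lit 919040) (Net.cons (nat_lit 2) (nat_lit 0x203232) (Net.cons (nat_lit 1) (nat_lit 0x455440) Net.nil)))))))))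

theorem p_g65_ok : Net.ok 24 p_g65 = true := by decide +kernel

noncomputable def p_g66 : Net := (Net.cons (nat_lit 1) (nat_lit 0x151150) (Net.cons (nat_lit 2) (nat_lit 4128) (Net.cons (nat_lit 4) (nat_lit 131072) (Net.cons (nat_lit 8) (nat_lit 6) (Net.cons (nat_lit 16) (nat_lit 6) (Net.cons (nat_lit 8) (nat_lit 52) (Net.cons (nat_lit 4) (nat_lit 198912) (Net.cons (nat_lit 2) (nat_lit 8192) (Net.cons (nat_lit 1) (nat_lit 0x104140) Net.nil)))))))))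

theorem p_g66_ok : Net.ok 24 p_g66 = true := by decide +kernel

noncomputable def nt_c4_K : List Net := [p_g64, p_g65, p_g66]

theorem nt_c4_K_ok : okE 24 nt_c4_K = true := (okE_cons.2 ⟨p_g64_ok, (okE_cons.2 ⟨p_g65_ok, (okE_cons.2 ⟨p_g66_ok, (okE_nil 24)⟩)⟩)⟩)

noncomputable def nt_c4_cnt_EG : List Net := [p_g15, p_g16, p_g19, p_g20, p_g21, p_g24, p_g25, p_g26, p_g27, p_g28, p_g11, p_g12, p_g7, p_g8, p_g3, p_g4, p_g1, p_g2, p_g53]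

theorem nt_c4_cnt_EG_ok : okE 24 nt_c4_cnt_EG = true := (okE_cons.2 ⟨p_g15_ok, (okE_cons.2 ⟨p_g16_ok, (okE_cons.2 ⟨p_g19_ok, (okE_cons.2 ⟨p_g20_ok, (okE_cons.2 ⟨p_g21_ok, (okE_cons.2 ⟨p_g24_ok, (okE_cons.2 ⟨p_g25_ok, (okE_cons.2 ⟨p_g26_ok, (okE_cons.2 ⟨p_g27_ok, (okE_cons.2 ⟨p_g28_ok, (okE_cons.2 ⟨p_g11_ok, (okE_cons.2 ⟨p_g12_ok, (okE_cons.2 ⟨p_g7_ok, (okE_cons.2 ⟨p_g8_ok, (okE_cons.2 ⟨p_g3_ok, (okE_cons.2 ⟨p_g4_ok, (okE_cons.2 ⟨p_g1_ok, (okE_cons.2 ⟨p_g2_ok, (okE_cons.2 ⟨p_g53_ok, (okE_nil 24)⟩)⟩)⟩)⟩)⟩)⟩)⟩)⟩)⟩)⟩)⟩)⟩)⟩)⟩)⟩)⟩)⟩)⟩)⟩)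

noncomputable def p_g68 : Net := (Net.cons (nat_lit 1) (nat_lit 20800) (Net.cons (nat_lit 2) (nat_lit 0x113020) (Net.cons (nat_lit 4) (nat_lit 591872) (Net.cons (nat_lit 8) (nat_lit 96) (Net.cons (nat_lit 16) (nat_lit 122) (Net.cons (nat_lit 8) (nat_lit 164) (Net.cons (nat_lit 4) (nat_lit 396047) (Net.cons (nat_lit 2) (nat_lit 0x111033) (Net.cons (nat_lit 1) (nat_lit 0x544505) Net.nil)))))))))

theorem p_g68_ok : Net.ok 24 p_g68 = true := by decide +kernel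

noncomputable def p_g69 : Net := (Net.cons (nat_lit 1) (nat_lit 0x151450) (Net.cons (nat_lit 2) (nat_lit 0x200000) (Net.cons (nat_lit 4) (nat_lit 788992) (Net.cons (nat_lit 8) (nat_lit 41) (Net.cons (nat_lit 16) (nat_lit 235) (Net.cons (nat_lit 8) (nat_lit 162) (Net.cons (nat_lit 4) (nat_lit 724743) (Net.cons (nat_lit 2) (nat_lit 135682) (Net.cons (nat_lit 1) (nat_lit 0x500044) Net.nil)))))))))

theorem p_g69_ok : Net.ok 24 p_g69 = true := by decide +kernel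

noncomputable def p_g70 : Net := (Net.cons (nat_lit 1) (nat_lit 69632) (Net.cons (nat_lit 2) (nat_lit 12288) (Net.cons (nat_lit 4) (nat_lit 264704) (Net.cons (nat_lit 8) (nat_lit 105) (Net.cons (nat_lit 16) (nat_lit 107) (Net.cons (nat_lit 8) (nat_lit 115) (Net.cons (nat_lit 4) (nat_lit 527360) (Net.cons (nat_lit 2) (nat_lit 0x121120) (Net.cons (nat_lit 1) (nat_lit 0x100110) Net.nil)))))))))

theorem p_g70_ok : Net.ok 24 p_g70 = true := by decide +kernel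

noncomputable def p_g71 : Net := (Net.cons (nat_lit 1) (nat_lit 0x150000) (Net.cons (nat_lit 2) (nat_lit 0x312200) (Net.cons (nat_lit 4) (nat_lit 786688) (Net.cons (nat_lit 8) (nat_lit 140) (Net.cons (nat_lit 16) (nat_lit 174) (Net.cons (nat_lit 8) (nat_lit 180) (Net.cons (nat_lit 4) (nat_lit 461058) (Net.cons (nat_lit 2) (nat_lit 0x110202) (Net.cons (nat_lit 1) (nat_lit 0x150000) Net.nil)))))))))

theorem p_g71_ok : Net.ok 24 p_g71 = true := by decide +kernel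

noncomputable def p_g72 : Net := (Net.cons (nat_lit 1) (nat_lit 0x440000) (Net.cons (nat_lit 2) (nat_lit 0x332200) (Net.cons (nat_lit 4) (nat_lit 196608) (Net.cons (nat_lit 8) (nat_lit 165) (Net.cons (nat_lit 16) (nat_lit 167) (Net.cons (nat_lit 8) (nat_lit 173) (Net.cons (nat_lit 4) (nat_lit 393216) (Net.cons (nat_lit 2) (nat_lit 0x222300) (Net.cons (nat_lit 1) (nat_lit 0x440010) Net.nil)))))))))

theorem p_g72_ok : Net.ok 24 p_g72 = true := by decide +kernel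

noncomputable def nt_c5_K : List Net := [p_g69, p_g70, p_g71, p_g72]

theorem nt_c5_K_ok : okE 24 nt_c5_K = true := (okE_cons.2 ⟨p_g69_ok, (okE_cons.2 ⟨p_g70_ok, (okE_cons.2 ⟨p_g71_ok, (okE_cons.2 ⟨p_g72_ok, (okE_nil 24)⟩)⟩)⟩)⟩)

noncomputable def nt_c5_cnt_EG : List Net := [p_g15, p_g16, p_g19, p_g20, p_g21, p_g24, p_g25, p_g26, p_g27, p_g28, p_g11, p_g12, p_g7, p_g8, p_g3, p_g4, p_g1, p_g2]

theorem nt_c5_cnt_EG_ok : okE 24 nt_c5_cnt_EG = true := (okE_cons.2 ⟨p_g15_ok, (okE_cons.2 ⟨p_g16_ok, (okE_cons.2 ⟨p_g19_ok, (okE_cons.2 ⟨p_g20_ok, (okE_cons.2 ⟨p_g21_ok, (okE_cons.2 ⟨p_g24_ok, (okE_cons.2 ⟨p_g25_ok, (okE_cons.2 ⟨p_g26_ok, (okE_cons.2 ⟨p_g27_ok, (okE_cons.2 ⟨p_g28_ok, (okE_cons.2 ⟨p_g11_ok, (okE_cons.2 ⟨p_g12_ok, (okE_cons.2 ⟨p_g7_ok, (okE_cons.2 ⟨p_g8_ok, (okE_cons.2 ⟨p_g3_ok, (okE_cons.2 ⟨p_g4_ok, (okE_cons.2 ⟨p_g1_ok, (okE_cons.2 ⟨p_g2_ok,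 (okE_nil 24)⟩)⟩)⟩)⟩)⟩)⟩)⟩)⟩)⟩)⟩)⟩)⟩)⟩)⟩)⟩)⟩)⟩)⟩)

noncomputable def p_g74 : Net := (Net.cons (nat_lit 1) (nat_lit 263236) (Net.cons (nat_lit 2) (nat_lit 0x311000) (Net.cons (nat_lit 4) (nat_lit 65792) (Net.cons (nat_lit 8) (nat_lit 7) (Net.cons (nat_lit 16) (nat_lit 143) (Net.cons (nat_lit 8) (nat_lit 64) (Net.cons (nat_lit 4) (nat_lit 525068) (Net.cons (nat_lit 2) (nat_lit 0x101001) (Net.cons (nat_lit 1) (nat_lit 0x155445) Net.nil)))))))))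

theorem p_g74_ok : Net.ok 24 p_g74 = true := by decide +kernel

noncomputable def p_g75 : Net := (Net.cons (nat_lit 1) (nat_lit 0x510040) (Net.cons (nat_lit 2) (nat_lit 0x100010) (Net.cons (nat_lit 4) (nat_lit 262144) (Net.cons (nat_lit 8) (nat_lit 224) (Net.cons (nat_lit 16) (nat_lit 251) (Net.cons (nat_lit 8) (nat_lit 250) (Net.cons (nat_lit 4) (nat_lit 67592) (Net.cons (nat_lit 2) (nat_lit 0x333313) (Net.cons (nat_lit 1) (nat_lit 0x554000) Net.nil)))))))))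

theorem p_g75_ok : Net.ok 24 p_g75 = true := by decide +kernel

noncomputable def p_g76 : Net := (Net.cons (nat_lit 1) (nat_lit 0x115100) (Net.cons (nat_lit 2) (nat_lit 0x300100) (Net.cons (nat_lit 4) (nat_lit 591360) (Net.cons (nat_lit 8) (nat_lit 88) (Net.cons (nat_lit 16) (nat_lit 89) (Net.cons (nat_lit 8) (nat_lit 86) (Net.cons (nat_lit 4) (nat_lit 131592) (Net.cons (nat_lit 2) (nat_lit 0x101101) (Net.cons (nat_lit 1) (nat_lit 0x411114) Net.nil)))))))))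

theorem p_g76_ok : Net.ok 24 p_g76 = true := by decide +kernel

noncomputable def p_g77 : Net := (Net.cons (nat_lit 1) (nat_lit 0x441110) (Net.cons (nat_lit 2) (nat_lit 0x220120) (Net.cons (nat_lit 4) (nat_lit 852480) (Net.cons (nat_lit 8) (nat_lit 64) (Net.cons (nat_lit 16) (nat_lit 109) (Net.cons (nat_lit 8) (nat_lit 249) (Net.cons (nat_lit 4) (nat_lit 68361) (Net.cons (nat_lit 2) (nat_lit 0x231001) (Net.cons (nat_lit 1) (nat_lit 0x555404) Net.nil)))))))))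

theorem p_g77_ok : Net.ok 24 p_g77 = true := by decide +kernel

noncomputable def p_g78 : Net := (Net.cons (nat_lit 1) (nat_lit 5136) (Net.cons (nat_lit 2) (nat_lit 0x221200) (Net.cons (nat_lit 4) (nat_lit 330240) (Net.cons (nat_lit 8) (nat_lit 148) (Net.cons (nat_lit 16) (nat_lit 156) (Net.cons (nat_lit 8) (nat_lit 33) (Net.cons (nat_lit 4) (nat_lit 983817) (Net.cons (nat_lit 2) (nat_lit 0x120200) (Net.cons (nat_lit 1) (nat_lit 5136) Net.nil)))))))))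

theorem p_g78_ok : Net.ok 24 p_g78 = true := by decide +kernel

noncomputable def p_g79 : Net := (Net.cons (nat_lit 1) (nat_lit 5120) (Net.cons (nat_lit 2) (nat_lit 0x233000) (Net.cons (nat_lit 4) (nat_lit 458752) (Net.cons (nat_lit 8) (nat_lit 38) (Net.cons (nat_lit 16) (nat_lit 39) (Net.cons (nat_lit 8) (nat_lit 31) (Net.cons (nat_lit 4) (nat_lit 591625) (Net.cons (nat_lit 2) (nat_lit 209441) (Net.cons (nat_lit 1) (nat_lit 5120) Net.nil)))))))))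

theorem p_g79_ok : Net.ok 24 p_g79 = true := by decide +kernel

noncomputable def nt_c6_K : List Net := [p_g74, p_g75, p_g76, p_g77, p_g78, p_g79]

theorem nt_c6_K_ok : okE 24 nt_c6_K = true := (okE_cons.2 ⟨p_g74_ok, (okE_cons.2 ⟨p_g75_ok, (okE_cons.2 ⟨p_g76_ok, (okE_cons.2 ⟨p_g77_ok, (okE_cons.2 ⟨p_g78_ok, (okE_cons.2 ⟨p_g79_ok, (okE_nil 24)⟩)⟩)⟩)⟩)⟩)⟩)

noncomputable def nt_c6_cnt_EG : List Net := [p_g24, p_g25, p_g26, p_g27, p_g28, p_g19, p_g20, p_g21, p_g15, p_g16, p_g11, p_g12, p_g7, p_g8, p_g3, p_g4, p_g1, p_g2]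

theorem nt_c6_cnt_EG_ok : okE 24 nt_c6_cnt_EG = true := (okE_cons.2 ⟨p_g24_ok, (okE_cons.2 ⟨p_g25_ok, (okE_cons.2 ⟨p_g26_ok, (okE_cons.2 ⟨p_g27_ok, (okE_cons.2 ⟨p_g28_ok, (okE_cons.2 ⟨p_g19_ok, (okE_cons.2 ⟨p_g20_ok, (okE_cons.2 ⟨p_g21_ok, (okE_cons.2 ⟨p_g15_ok, (okE_cons.2 ⟨p_g16_ok, (okE_cons.2 ⟨p_g11_ok, (okE_cons.2 ⟨p_g12_ok, (okE_cons.2 ⟨p_g7_ok, (okE_cons.2 ⟨p_g8_ok, (okE_cons.2 ⟨p_g3_ok, (okE_cons.2 ⟨p_g4_ok, (okE_cons.2 ⟨p_g1_ok, (okE_cons.2 ⟨p_g2_ok, (okE_nil 24)⟩)⟩)⟩)⟩)⟩)⟩)⟩)⟩)⟩)⟩)⟩)⟩)⟩)⟩)⟩)⟩)⟩)⟩)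

noncomputable def p_g81 : Net := (Net.cons (nat_lit 1) (nat_lit 0x141110) (Net.cons (nat_lit 2) (nat_lit 768) (Net.cons (nat_lit 4) (nat_lit 393472) (Net.cons (nat_lit 8) (nat_lit 128) (Net.cons (nat_lit 16) (nat_lit 250) (Net.cons (nat_lit 8) (nat_lit 146) (Net.cons (nat_lit 4) (nat_lit 462593) (Net.cons (nat_lit 2) (nat_lit 0x121133) (Net.cons (nat_lit 1) (nat_lit 0x454151) Net.nil)))))))))

theorem p_g81_ok : Net.ok 24 p_g81 = true := by decide +kernel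

noncomputable def p_g82 : Net := (Net.cons (nat_lit 1) (nat_lit 17476) (Net.cons (nat_lit 2) (nat_lit 0x311100) (Net.cons (nat_lit 4) (nat_lit 459264) (Net.cons (nat_lit 8) (nat_lit 14) (Net.cons (nat_lit 16) (nat_lit 222) (Net.cons (nat_lit 8) (nat_lit 122) (Net.cons (nat_lit 4) (nat_lit 264454) (Net.cons (nat_lit 2) (nat_lit 0x313133) (Net.cons (nat_lit 1) (nat_lit 0x540515) Net.nil)))))))))

theorem p_g82_ok : Net.ok 24 p_g82 = true := by decide +kernel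

noncomputable def p_g83 : Net := (Net.cons (nat_lit 1) (nat_lit 0x101014) (Net.cons (nat_lit 2) (nat_lit 0x111200) (Net.cons (nat_lit 4) (nat_lit 525312) (Net.cons (nat_lit 8) (nat_lit 192) (Net.cons (nat_lit 16) (nat_lit 220) (Net.cons (nat_lit 8) (nat_lit 134) (Net.cons (nat_lit 4) (nat_lit 917508) (Net.cons (nat_lit 2) (nat_lit 0x111200) (Net.cons (nat_lit 1) (nat_lit 0x101014) Net.nil)))))))))

theorem p_g83_ok : Net.ok 24 p_g83 = true := by decide +kernel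

noncomputable def p_g84 : Net := (Net.cons (nat_lit 1) (nat_lit 0x554000) (Net.cons (nat_lit 2) (nat_lit 0x200200) (Net.cons (nat_lit 4) (nat_lit 786432) (Net.cons (nat_lit 8) (nat_lit 98) (Net.cons (nat_lit 16) (nat_lit 110) (Net.cons (nat_lit 8) (nat_lit 38) (Net.cons (nat_lit 4) (nat_lit 722438) (Net.cons (nat_lit 2) (nat_lit 0x200200) (Net.cons (nat_lit 1) (nat_lit 0x554000) Net.nil)))))))))

theorem p_g84_ok : Net.ok 24 p_g84 = true := by decide +kernel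

noncomputable def nt_c7_K : List Net := [p_g81, p_g82, p_g83, p_g84]

theorem nt_c7_K_ok : okE 24 nt_c7_K = true := (okE_cons.2 ⟨p_g81_ok, (okE_cons.2 ⟨p_g82_ok, (okE_cons.2 ⟨p_g83_ok, (okE_cons.2 ⟨p_g84_ok, (okE_nil 24)⟩)⟩)⟩)⟩)

noncomputable def nt_c7_cnt_EG : List Net := [p_g15, p_g16, p_g19, p_g20, p_g21, p_g24, p_g25, p_g26, p_g27, p_g28, p_g11, p_g12, p_g7, p_g8, p_g3, p_g4, p_g1, p_g2, p_g53]

theorem nt_c7_cnt_EG_ok : okE 24 nt_c7_cnt_EG = true := (okE_cons.2 ⟨p_g15_ok, (okE_cons.2 ⟨p_g16_ok, (okE_cons.2 ⟨p_g19_ok, (okE_cons.2 ⟨p_g20_ok, (okE_cons.2 ⟨p_g21_ok, (okE_cons.2 ⟨p_g24_ok, (okE_cons.2 ⟨p_g25_ok, (okE_cons.2 ⟨p_g26_ok, (okE_cons.2 ⟨p_g27_ok, (okE_cons.2 ⟨p_g28_ok, (okE_cons.2 ⟨p_g11_ok, (okE_cons.2 ⟨p_g12_ok, (okE_cons.2 ⟨p_g7_ok, (okE_cons.2 ⟨p_g8_ok, (okE_cons.2 ⟨p_g3_ok, (okE_cons.2 ⟨p_g4_ok, (okE_cons.2 ⟨p_g1_ok, (okE_cons.2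 ⟨p_g2_ok, (okE_cons.2 ⟨p_g53_ok, (okE_nil 24)⟩)⟩)⟩)⟩)⟩)⟩)⟩)⟩)⟩)⟩)⟩)⟩)⟩)⟩)⟩)⟩)⟩)⟩)⟩)

noncomputable def p_g86 : Net := (Net.cons (nat_lit 1) (nat_lit 0x141150) (Net.cons (nat_lit 2) (nat_lit 288) (Net.cons (nat_lit 4) (nat_lit 590080) (Net.cons (nat_lit 8) (nat_lit 129) (Net.cons (nat_lit 16) (nat_lit 133) (Net.cons (nat_lit 8) (nat_lit 140) (Net.cons (nat_lit 4) (nat_lit 200460) (Net.cons (nat_lit 2) (nat_lit 13105) (Net.cons (nat_lit 1) (nat_lit 0x440154) Net.nil)))))))))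

theorem p_g86_ok : Net.ok 24 p_g86 = true := by decide +kernel

noncomputable def p_g87 : Net := (Net.cons (nat_lit 1) (nat_lit 0x105140) (Net.cons (nat_lit 2) (nat_lit 0x211120) (Net.cons (nat_lit 4) (nat_lit 2816) (Net.cons (nat_lit 8) (nat_lit 13) (Net.cons (nat_lit 16) (nat_lit 159) (Net.cons (nat_lit 8) (nat_lit 202) (Net.cons (nat_lit 4) (nat_lit 853262) (Net.cons (nat_lit 2) (nat_lit 69889) (Net.cons (nat_lit 1) (nat_lit 0x454014) Net.nil)))))))))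

theorem p_g87_ok : Net.ok 24 p_g87 = true := by decide +kernel

noncomputable def p_g88 : Net := (Net.cons (nat_lit 1) (nat_lit 329040) (Net.cons (nat_lit 2) (nat_lit 143360) (Net.cons (nat_lit 4) (nat_lit 394240) (Net.cons (nat_lit 8) (nat_lit 130) (Net.cons (nat_lit 16) (nat_lit 166) (Net.cons (nat_lit 8) (nat_lit 14) (Net.cons (nat_lit 4) (nat_lit 2050) (Net.cons (nat_lit 2) (nat_lit 0x131022) (Net.cons (nat_lit 1) (nat_lit 0x511554) Net.nil)))))))))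

theorem p_g88_ok : Net.ok 24 p_g88 = true := by decide +kernel

noncomputable def nt_c8_K : List Net := [p_g86, p_g87, p_g88]

theorem nt_c8_K_ok : okE 24 nt_c8_K = true := (okE_cons.2 ⟨p_g86_ok, (okE_cons.2 ⟨p_g87_ok, (okE_cons.2 ⟨p_g88_ok, (okE_nil 24)⟩)⟩)⟩)

noncomputable def nt_c8_cnt_EG : List Net := [p_g15, p_g16, p_g19, p_g20, p_g21, p_g24, p_g25, p_g26, p_g27, p_g28, p_g11, p_g12, p_g7, p_g8, p_g3, p_g4, p_g1, p_g2, p_g53]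

theorem nt_c8_cnt_EG_ok : okE 24 nt_c8_cnt_EG = true := (okE_cons.2 ⟨p_g15_ok, (okE_cons.2 ⟨p_g16_ok, (okE_cons.2 ⟨p_g19_ok, (okE_cons.2 ⟨p_g20_ok, (okE_cons.2 ⟨p_g21_ok, (okE_cons.2 ⟨p_g24_ok, (okE_cons.2 ⟨p_g25_ok, (okE_cons.2 ⟨p_g26_ok, (okE_cons.2 ⟨p_g27_ok, (okE_cons.2 ⟨p_g28_ok, (okE_cons.2 ⟨p_g11_ok, (okE_cons.2 ⟨p_g12_ok, (okE_cons.2 ⟨p_g7_ok, (okE_cons.2 ⟨p_g8_ok, (okE_cons.2 ⟨p_g3_ok, (okE_cons.2 ⟨p_g4_ok, (okE_cons.2 ⟨p_g1_ok, (okE_cons.2 ⟨p_g2_ok, (okE_cons.2 ⟨p_g53_ok, (okE_nil 24)⟩)⟩)⟩)⟩)⟩)⟩)⟩)⟩)⟩)⟩)⟩)⟩)⟩)⟩)⟩)⟩)⟩)⟩)⟩)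

noncomputable def p_g90 : Net := (Net.cons (nat_lit 1) (nat_lit 5136) (Net.cons (nat_lit 2) (nat_lit 0x122020) (Net.cons (nat_lit 4) (nat_lit 328960) (Net.cons (nat_lit 8) (nat_lit 20) (Net.cons (nat_lit 16) (nat_lit 252) (Net.cons (nat_lit 8) (nat_lit 211) (Net.cons (nat_lit 4) (nat_lit 462082) (Net.cons (nat_lit 2) (nat_lit 0x211230) (Net.cons (nat_lit 1) (nat_lit 5136) Net.nil)))))))))

theorem p_g90_ok : Net.ok 24 p_g90 = true := by decide +kernel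

noncomputable def p_g91 : Net := (Net.cons (nat_lit 1) (nat_lit 5136) (Net.cons (nat_lit 2) (nat_lit 0x230230) (Net.cons (nat_lit 4) (nat_lit 196864) (Net.cons (nat_lit 8) (nat_lit 52) (Net.cons (nat_lit 16) (nat_lit 253) (Net.cons (nat_lit 8) (nat_lit 99) (Net.cons (nat_lit 4) (nat_lit 67341) (Net.cons (nat_lit 2) (nat_lit 0x221001) (Net.cons (nat_lit 1) (nat_lit 0x554145) Net.nil)))))))))

theorem p_g91_ok : Net.ok 24 p_g91 = true := by decide +kernel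

noncomputable def p_g92 : Net := (Net.cons (nat_lit 1) (nat_lit 5136) (Net.cons (nat_lit 2) (nat_lit 0x210100) (Net.cons (nat_lit 4) (nat_lit 65536) (Net.cons (nat_lit 8) (nat_lit 36) (Net.cons (nat_lit 16) (nat_lit 47) (Net.cons (nat_lit 8) (nat_lit 181) (Net.cons (nat_lit 4) (nat_lit 919046) (Net.cons (nat_lit 2) (nat_lit 0x202313) (Net.cons (nat_lit 1) (nat_lit 5136) Net.nil)))))))))

theorem p_g92_ok : Net.ok 24 p_g92 = true := by decide +kernel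

noncomputable def nt_c9_K : List Net := [p_g90, p_g91, p_g92]

theorem nt_c9_K_ok : okE 24 nt_c9_K = true := (okE_cons.2 ⟨p_g90_ok, (okE_cons.2 ⟨p_g91_ok, (okE_cons.2 ⟨p_g92_ok, (okE_nil 24)⟩)⟩)⟩)

noncomputable def nt_c9_cnt_EG : List Net := [p_g19, p_g20, p_g21, p_g24, p_g25, p_g26, p_g27, p_g28, p_g15, p_g16, p_g11, p_g12, p_g7, p_g8, p_g3, p_g4, p_g1, p_g2, p_g53]

theorem nt_c9_cnt_EG_ok : okE 24 nt_c9_cnt_EG = true := (okE_cons.2 ⟨p_g19_ok, (okE_cons.2 ⟨p_g20_ok, (okE_cons.2 ⟨p_g21_ok, (okE_cons.2 ⟨p_g24_ok, (okE_cons.2 ⟨p_g25_ok, (okE_cons.2 ⟨p_g26_ok, (okE_cons.2 ⟨p_g27_ok, (okE_cons.2 ⟨p_g28_ok, (okE_cons.2 ⟨p_g15_ok, (okE_cons.2 ⟨p_g16_ok, (okE_cons.2 ⟨p_g11_ok, (okE_cons.2 ⟨p_g12_ok, (okE_cons.2 ⟨p_g7_ok, (okE_cons.2 ⟨p_g8_ok, (okE_cons.2 ⟨p_g3_ok, (okE_cons.2 ⟨p_g4_ok, (okE_cons.2 ⟨p_g1_ok, (okE_cons.2 ⟨p_g2_ok, (okE_cons.2 ⟨p_g53_ok,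 (okE_nil 24)⟩)⟩)⟩)⟩)⟩)⟩)⟩)⟩)⟩)⟩)⟩)⟩)⟩)⟩)⟩)⟩)⟩)⟩)⟩)

noncomputable def p_g94 : Net := (Net.cons (nat_lit 1) (nat_lit 0x144450) (Net.cons (nat_lit 2) (nat_lit 0x101300) (Net.cons (nat_lit 4) (nat_lit 525312) (Net.cons (nat_lit 8) (nat_lit 122) (Net.cons (nat_lit 16) (nat_lit 123) (Net.cons (nat_lit 8) (nat_lit 109) (Net.cons (nat_lit 4) (nat_lit 854017) (Net.cons (nat_lit 2) (nat_lit 0x113020) (Net.cons (nat_lit 1) (nat_lit 0x441001) Net.nil)))))))))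

theorem p_g94_ok : Net.ok 24 p_g94 = true := by decide +kernel

noncomputable def p_g95 : Net := (Net.cons (nat_lit 1) (nat_lit 70660) (Net.cons (nat_lit 2) (nat_lit 0x212330) (Net.cons (nat_lit 4) (nat_lit 724224) (Net.cons (nat_lit 8) (nat_lit 208) (Net.cons (nat_lit 16) (nat_lit 246) (Net.cons (nat_lit 8) (nat_lit 232) (Net.cons (nat_lit 4) (nat_lit 67599) (Net.cons (nat_lit 2) (nat_lit 0x320231) (Net.cons (nat_lit 1) (nat_lit 0x114044) Net.nil)))))))))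

theorem p_g95_ok : Net.ok 24 p_g95 = true := by decide +kernel

noncomputable def p_g96 : Net := (Net.cons (nat_lit 1) (nat_lit 0x154500) (Net.cons (nat_lit 2) (nat_lit 4096) (Net.cons (nat_lit 4) (nat_lit 132608) (Net.cons (nat_lit 8) (nat_lit 32) (Net.cons (nat_lit 16) (nat_lit 42) (Net.cons (nat_lit 8) (nat_lit 224) (Net.cons (nat_lit 4) (nat_lit 395008) (Net.cons (nat_lit 2) (nat_lit 4096) (Net.cons (nat_lit 1) (nat_lit 0x154510) Net.nil)))))))))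

theorem p_g96_ok : Net.ok 24 p_g96 = true := by decide +kernel

noncomputable def nt_c10_K : List Net := [p_g94, p_g95, p_g96]

theorem nt_c10_K_ok : okE 24 nt_c10_K = true := (okE_cons.2 ⟨p_g94_ok, (okE_cons.2 ⟨p_g95_ok, (okE_cons.2 ⟨p_g96_ok, (okE_nil 24)⟩)⟩)⟩)

noncomputable def nt_c10_cnt_EG : List Net := [p_g24, p_g25, p_g26, p_g27, p_g28, p_g19, p_g20, p_g21, p_g15, p_g16, p_g11, p_g12, p_g7, p_g8, p_g3, p_g4, p_g1, p_g2]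

theorem nt_c10_cnt_EG_ok : okE 24 nt_c10_cnt_EG = true := (okE_cons.2 ⟨p_g24_ok, (okE_cons.2 ⟨p_g25_ok, (okE_cons.2 ⟨p_g26_ok, (okE_cons.2 ⟨p_g27_ok, (okE_cons.2 ⟨p_g28_ok, (okE_cons.2 ⟨p_g19_ok, (okE_cons.2 ⟨p_g20_ok, (okE_cons.2 ⟨p_g21_ok, (okE_cons.2 ⟨p_g15_ok, (okE_cons.2 ⟨p_g16_ok, (okE_cons.2 ⟨p_g11_ok, (okE_cons.2 ⟨p_g12_ok, (okE_cons.2 ⟨p_g7_ok, (okE_cons.2 ⟨p_g8_ok, (okE_cons.2 ⟨p_g3_ok, (okE_cons.2 ⟨p_g4_ok, (okE_cons.2 ⟨p_g1_ok, (okE_cons.2 ⟨p_g2_ok, (okE_nil 24)⟩)⟩)⟩)⟩)⟩)⟩)⟩)⟩)⟩)⟩)⟩)⟩)⟩)⟩)⟩)⟩)⟩)⟩)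

noncomputable def p_g98 : Net := (Net.cons (nat_lit 1) (nat_lit 0x504450) (Net.cons (nat_lit 2) (nat_lit 0x101300) (Net.cons (nat_lit 4) (nat_lit 655360) (Net.cons (nat_lit 8) (nat_lit 129) (Net.cons (nat_lit 16) (nat_lit 243) (Net.cons (nat_lit 8) (nat_lit 2) (Net.cons (nat_lit 4) (nat_lit 590859) (Net.cons (nat_lit 2) (nat_lit 0x310312) (Net.cons (nat_lit 1) (nat_lit 0x140401) Net.nil)))))))))

theorem p_g98_ok : Net.ok 24 p_g98 = true := by decide +kernel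

noncomputable def p_g99 : Net := (Net.cons (nat_lit 1) (nat_lit 17664) (Net.cons (nat_lit 2) (nat_lit 135424) (Net.cons (nat_lit 4) (nat_lit 262144) (Net.cons (nat_lit 8) (nat_lit 24) (Net.cons (nat_lit 16) (nat_lit 219) (Net.cons (nat_lit 8) (nat_lit 65) (Net.cons (nat_lit 4) (nat_lit 329475) (Net.cons (nat_lit 2) (nat_lit 143650) (Net.cons (nat_lit 1) (nat_lit 0x501001) Net.nil)))))))))

theorem p_g99_ok : Net.ok 24 p_g99 = true := by decide +kernel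

noncomputable def p_g100 : Net := (Net.cons (nat_lit 1) (nat_lit 0x515010) (Net.cons (nat_lit 2) (nat_lit 143648) (Net.cons (nat_lit 4) (nat_lit 1536) (Net.cons (nat_lit 8) (nat_lit 80) (Net.cons (nat_lit 16) (nat_lit 88) (Net.cons (nat_lit 8) (nat_lit 214) (Net.cons (nat_lit 4) (nat_lit 1536) (Net.cons (nat_lit 2) (nat_lit 209184) (Net.cons (nat_lit 1) (nat_lit 0x515050) Net.nil)))))))))

theorem p_g100_ok : Net.ok 24 p_g100 = true := by decide +kernel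

noncomputable def nt_c11_K : List Net := [p_g98, p_g99, p_g100]

theorem nt_c11_K_ok : okE 24 nt_c11_K = true := (okE_cons.2 ⟨p_g98_ok, (okE_cons.2 ⟨p_g99_ok, (okE_cons.2 ⟨p_g100_ok, (okE_nil 24)⟩)⟩)⟩)

noncomputable def nt_c11_cnt_EG : List Net := [p_g15, p_g16, p_g19, p_g20, p_g21, p_g24, p_g25, p_g26, p_g27, p_g28, p_g11, p_g12, p_g7, p_g8, p_g3, p_g4, p_g1, p_g2]

theorem nt_c11_cnt_EG_ok : okE 24 nt_c11_cnt_EG = true := (okE_cons.2 ⟨p_g15_ok, (okE_cons.2 ⟨p_g16_ok, (okE_cons.2 ⟨p_g19_ok, (okE_cons.2 ⟨p_g20_ok, (okE_cons.2 ⟨p_g21_ok, (okE_cons.2 ⟨p_g24_ok, (okE_cons.2 ⟨p_g25_ok, (okE_cons.2 ⟨p_g26_ok, (okE_cons.2 ⟨p_g27_ok, (okE_cons.2 ⟨p_g28_ok, (okE_cons.2 ⟨p_g11_ok, (okE_cons.2 ⟨p_g12_ok, (okE_cons.2 ⟨p_g7_ok, (okE_cons.2 ⟨p_g8_ok, (okE_cons.2 ⟨p_g3_ok, (okE_cons.2 ⟨p_g4_ok, (okE_cons.2 ⟨p_g1_ok, (okE_cons.2 ⟨p_g2_ok, (okE_nil 24)⟩)⟩)⟩)⟩)⟩)⟩)⟩)⟩)⟩)⟩)⟩)⟩)⟩)⟩)⟩)⟩)⟩)⟩)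

noncomputable def p_g102 : Net := (Net.cons (nat_lit 1) (nat_lit 0x100540) (Net.cons (nat_lit 2) (nat_lit 0x201000) (Net.cons (nat_lit 4) (nat_lit 69120) (Net.cons (nat_lit 8) (nat_lit 36) (Net.cons (nat_lit 16) (nat_lit 117) (Net.cons (nat_lit 8) (nat_lit 148) (Net.cons (nat_lit 4) (nat_lit 724490) (Net.cons (nat_lit 2) (nat_lit 562) (Net.cons (nat_lit 1) (nat_lit 0x414111) Net.nil)))))))))

theorem p_g102_ok : Net.ok 24 p_g102 = true := by decide +kernel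

noncomputable def p_g103 : Net := (Net.cons (nat_lit 1) (nat_lit 328960) (Net.cons (nat_lit 2) (nat_lit 0x103100) (Net.cons (nat_lit 4) (nat_lit 460032) (Net.cons (nat_lit 8) (nat_lit 14) (Net.cons (nat_lit 16) (nat_lit 30) (Net.cons (nat_lit 8) (nat_lit 146) (Net.cons (nat_lit 4) (nat_lit 985614) (Net.cons (nat_lit 2) (nat_lit 209713) (Net.cons (nat_lit 1) (nat_lit 0x115144) Net.nil)))))))))

theorem p_g103_ok : Net.ok 24 p_g103 = true := by decide +kernel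

noncomputable def nt_c12_K : List Net := [p_g102, p_g103, p_g100]

theorem nt_c12_K_ok : okE 24 nt_c12_K = true := (okE_cons.2 ⟨p_g102_ok, (okE_cons.2 ⟨p_g103_ok, (okE_cons.2 ⟨p_g100_ok, (okE_nil 24)⟩)⟩)⟩)

noncomputable def nt_c12_cnt_EG : List Net := [p_g15, p_g16, p_g19, p_g20, p_g21, p_g24, p_g25, p_g26, p_g27, p_g28, p_g11, p_g12, p_g7, p_g8, p_g3, p_g4, p_g1, p_g2]

theorem nt_c12_cnt_EG_ok : okE 24 nt_c12_cnt_EG = true := (okE_cons.2 ⟨p_g15_ok, (okE_cons.2 ⟨p_g16_ok, (okE_cons.2 ⟨p_g19_ok, (okE_cons.2 ⟨p_g20_ok, (okE_cons.2 ⟨p_g21_ok, (okE_cons.2 ⟨p_g24_ok, (okE_cons.2 ⟨p_g25_ok, (okE_cons.2 ⟨p_g26_ok, (okE_cons.2 ⟨p_g27_ok, (okE_cons.2 ⟨p_g28_ok, (okE_cons.2 ⟨p_g11_ok, (okE_cons.2 ⟨p_g12_ok, (okE_cons.2 ⟨p_g7_ok, (okE_cons.2 ⟨p_g8_ok, (okE_cons.2 ⟨p_g3_ok, (okE_cons.2 ⟨p_g4_ok, (okE_cons.2 ⟨p_g1_ok, (okE_cons.2 ⟨p_g2_ok, (okE_nil 24)⟩)⟩)⟩)⟩)⟩)⟩)⟩)⟩)⟩)⟩)⟩)⟩)⟩)⟩)⟩)⟩)⟩)⟩)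

noncomputable def p_g105 : Net := (Net.cons (nat_lit 1) (nat_lit 344320) (Net.cons (nat_lit 2) (nat_lit 0x301020) (Net.cons (nat_lit 4) (nat_lit 256) (Net.cons (nat_lit 8) (nat_lit 1) (Net.cons (nat_lit 16) (nat_lit 203) (Net.cons (nat_lit 8) (nat_lit 196) (Net.cons (nat_lit 4) (nat_lit 786689) (Net.cons (nat_lit 2) (nat_lit 0x331202) (Net.cons (nat_lit 1) (nat_lit 0x440501) Net.nil)))))))))

theorem p_g105_ok : Net.ok 24 p_g105 = true := by decide +kernel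

noncomputable def p_g106 : Net := (Net.cons (nat_lit 1) (nat_lit 0x114010) (Net.cons (nat_lit 2) (nat_lit 143904) (Net.cons (nat_lit 4) (nat_lit 983040) (Net.cons (nat_lit 8) (nat_lit 32) (Net.cons (nat_lit 16) (nat_lit 242) (Net.cons (nat_lit 8) (nat_lit 112) (Net.cons (nat_lit 4) (nat_lit 919555) (Net.cons (nat_lit 2) (nat_lit 78386) (Net.cons (nat_lit 1) (nat_lit 0x514010) Net.nil)))))))))

theorem p_g106_ok : Net.ok 24 p_g106 = true := by decide +kernel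

noncomputable def p_g107 : Net := (Net.cons (nat_lit 1) (nat_lit 0x104040) (Net.cons (nat_lit 2) (nat_lit 0x210010) (Net.cons (nat_lit 4) (nat_lit 655360) (Net.cons (nat_lit 8) (nat_lit 16) (Net.cons (nat_lit 16) (nat_lit 57) (Net.cons (nat_lit 8) (nat_lit 208) (Net.cons (nat_lit 4) (nat_lit 655363) (Net.cons (nat_lit 2) (nat_lit 0x220020) (Net.cons (nat_lit 1) (nat_lit 0x150011) Net.nil)))))))))

theorem p_g107_ok : Net.ok 24 p_g107 = true := by decide +kernel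

noncomputable def nt_c13_K : List Net := [p_g105, p_g106, p_g107]

theorem nt_c13_K_ok : okE 24 nt_c13_K = true := (okE_cons.2 ⟨p_g105_ok, (okE_cons.2 ⟨p_g106_ok, (okE_cons.2 ⟨p_g107_ok, (okE_nil 24)⟩)⟩)⟩)

noncomputable def nt_c13_cnt_EG : List Net := [p_g24, p_g25, p_g26, p_g27, p_g28, p_g19, p_g20, p_g21, p_g15, p_g16, p_g11, p_g12, p_g7, p_g8, p_g3, p_g4, p_g1, p_g2]

theorem nt_c13_cnt_EG_ok : okE 24 nt_c13_cnt_EG = true := (okE_cons.2 ⟨p_g24_ok, (okE_cons.2 ⟨p_g25_ok, (okE_cons.2 ⟨p_g26_ok, (okE_cons.2 ⟨p_g27_ok, (okE_cons.2 ⟨p_g28_ok, (okE_cons.2 ⟨p_g19_ok, (okE_cons.2 ⟨p_g20_ok, (okE_cons.2 ⟨p_g21_ok, (okE_cons.2 ⟨p_g15_ok, (okE_cons.2 ⟨p_g16_ok, (okE_cons.2 ⟨p_g11_ok, (okE_cons.2 ⟨p_g12_ok, (okE_cons.2 ⟨p_g7_ok, (okE_cons.2 ⟨p_g8_ok, (okE_cons.2 ⟨p_g3_ok, (okE_cons.2 ⟨p_g4_ok, (okE_cons.2 ⟨p_g1_ok, (okE_cons.2 ⟨p_g2_ok, (okE_nil 24)⟩)⟩)⟩)⟩)⟩)⟩)⟩)⟩)⟩)⟩)⟩)⟩)⟩)⟩)⟩)⟩)⟩)⟩)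

noncomputable def p_g109 : Net := (Net.cons (nat_lit 1) (nat_lit 0x450044) (Net.cons (nat_lit 2) (nat_lit 0x121110) (Net.cons (nat_lit 4) (nat_lit 984576) (Net.cons (nat_lit 8) (nat_lit 193) (Net.cons (nat_lit 16) (nat_lit 229) (Net.cons (nat_lit 8) (nat_lit 180) (Net.cons (nat_lit 4) (nat_lit 658442) (Net.cons (nat_lit 2) (nat_lit 0x320123) (Net.cons (nat_lit 1) (nat_lit 17732) Net.nil)))))))))

theorem p_g109_ok : Net.ok 24 p_g109 = true := by decide +kernel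

noncomputable def p_g110 : Net := (Net.cons (nat_lit 1) (nat_lit 0x404544) (Net.cons (nat_lit 2) (nat_lit 512) (Net.cons (nat_lit 4) (nat_lit 262144) (Net.cons (nat_lit 8) (nat_lit 5) (Net.cons (nat_lit 16) (nat_lit 253) (Net.cons (nat_lit 8) (nat_lit 98) (Net.cons (nat_lit 4) (nat_lit 851969) (Net.cons (nat_lit 2) (nat_lit 0x320211) (Net.cons (nat_lit 1) (nat_lit 70672) Net.nil)))))))))

theorem p_g110_ok : Net.ok 24 p_g110 = true := by decide +kernel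

noncomputable def nt_c14_K : List Net := [p_g109, p_g110]

theorem nt_c14_K_ok : okE 24 nt_c14_K = true := (okE_cons.2 ⟨p_g109_ok, (okE_cons.2 ⟨p_g110_ok, (okE_nil 24)⟩)⟩)

noncomputable def nt_c14_cnt_EG : List Net := [p_g24, p_g25, p_g26, p_g27, p_g28, p_g19, p_g20, p_g21, p_g15, p_g16, p_g11, p_g12, p_g7, p_g8, p_g3, p_g4, p_g1, p_g2]

theorem nt_c14_cnt_EG_ok : okE 24 nt_c14_cnt_EG = true := (okE_cons.2 ⟨p_g24_ok, (okE_cons.2 ⟨p_g25_ok, (okE_cons.2 ⟨p_g26_ok, (okE_cons.2 ⟨p_g27_ok, (okE_cons.2 ⟨p_g28_ok, (okE_cons.2 ⟨p_g19_ok, (okE_cons.2 ⟨p_g20_ok, (okE_cons.2 ⟨p_g21_ok, (okE_cons.2 ⟨p_g15_ok, (okE_cons.2 ⟨p_g16_ok, (okE_cons.2 ⟨p_g11_ok, (okE_cons.2 ⟨p_g12_ok, (okE_cons.2 ⟨p_g7_ok, (okE_cons.2 ⟨p_g8_ok, (okE_cons.2 ⟨p_g3_ok, (okE_cons.2 ⟨p_g4_ok, (okE_cons.2 ⟨p_g1_ok, (okE_cons.2 ⟨p_g2_ok, (okE_nil 24)⟩)⟩)⟩)⟩)⟩)⟩)⟩)⟩)⟩)⟩)⟩)⟩)⟩)⟩)⟩)⟩)⟩)⟩)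

noncomputable def p_g112 : Net := (Net.cons (nat_lit 1) (nat_lit 0x114410) (Net.cons (nat_lit 2) (nat_lit 0x313120) (Net.cons (nat_lit 4) (nat_lit 3072) (Net.cons (nat_lit 8) (nat_lit 224) (Net.cons (nat_lit 16) (nat_lit 248) (Net.cons (nat_lit 8) (nat_lit 56) (Net.cons (nat_lit 4) (nat_lit 920067) (Net.cons (nat_lit 2) (nat_lit 139538) (Net.cons (nat_lit 1) (nat_lit 0x411410) Net.nil)))))))))

theorem p_g112_ok : Net.ok 24 p_g112 = true := by decide +kernel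

noncomputable def nt_c15_K : List Net := [p_g112]

theorem nt_c15_K_ok : okE 24 nt_c15_K = true := (okE_cons.2 ⟨p_g112_ok, (okE_nil 24)⟩)

noncomputable def nt_c15_cnt_EG : List Net := [p_g15, p_g16, p_g19, p_g20, p_g21, p_g24, p_g25, p_g26, p_g27, p_g28, p_g11, p_g12, p_g7, p_g8, p_g3, p_g4, p_g1, p_g2]

theorem nt_c15_cnt_EG_ok : okE 24 nt_c15_cnt_EG = true := (okE_cons.2 ⟨p_g15_ok, (okE_cons.2 ⟨p_g16_ok, (okE_cons.2 ⟨p_g19_ok, (okE_cons.2 ⟨p_g20_ok, (okE_cons.2 ⟨p_g21_ok, (okE_cons.2 ⟨p_g24_ok, (okE_cons.2 ⟨p_g25_ok, (okE_cons.2 ⟨p_g26_ok, (okE_cons.2 ⟨p_g27_ok, (okE_cons.2 ⟨p_g28_ok, (okE_cons.2 ⟨p_g11_ok, (okE_cons.2 ⟨p_g12_ok, (okE_cons.2 ⟨p_g7_ok, (okE_cons.2 ⟨p_g8_ok, (okE_cons.2 ⟨p_g3_ok, (okE_cons.2 ⟨p_g4_ok, (okE_cons.2 ⟨p_g1_ok, (okE_cons.2 ⟨p_g2_ok, (okE_nil 24)⟩)⟩)⟩)⟩)⟩)⟩)⟩)⟩)⟩)⟩)⟩)⟩)⟩)⟩)⟩)⟩)⟩)⟩)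

noncomputable def p_g114 : Net := (Net.cons (nat_lit 1) (nat_lit 65604) (Net.cons (nat_lit 2) (nat_lit 0x200020) (Net.cons (nat_lit 4) (nat_lit 262400) (Net.cons (nat_lit 8) (nat_lit 54) (Net.cons (nat_lit 16) (nat_lit 183) (Net.cons (nat_lit 8) (nat_lit 99) (Net.cons (nat_lit 4) (nat_lit 68099) (Net.cons (nat_lit 2) (nat_lit 135458) (Net.cons (nat_lit 1) (nat_lit 87313) Net.nil)))))))))

theorem p_g114_ok : Net.ok 24 p_g114 = true := by decide +kernel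

noncomputable def nt_c16_K : List Net := [p_g114]

theorem nt_c16_K_ok : okE 24 nt_c16_K = true := (okE_cons.2 ⟨p_g114_ok, (okE_nil 24)⟩)

noncomputable def nt_c16_cnt_EG : List Net := [p_g15, p_g16, p_g19, p_g20, p_g21, p_g24, p_g25, p_g26, p_g27, p_g28, p_g11, p_g12, p_g7, p_g8, p_g3, p_g4, p_g1, p_g2]

theorem nt_c16_cnt_EG_ok : okE 24 nt_c16_cnt_EG = true := (okE_cons.2 ⟨p_g15_ok, (okE_cons.2 ⟨p_g16_ok, (okE_cons.2 ⟨p_g19_ok, (okE_cons.2 ⟨p_g20_ok, (okE_cons.2 ⟨p_g21_ok, (okE_cons.2 ⟨p_g24_ok, (okE_cons.2 ⟨p_g25_ok, (okE_cons.2 ⟨p_g26_ok, (okE_cons.2 ⟨p_g27_ok, (okE_cons.2 ⟨p_g28_ok, (okE_cons.2 ⟨p_g11_ok, (okE_cons.2 ⟨p_g12_ok, (okE_cons.2 ⟨p_g7_ok, (okE_cons.2 ⟨p_g8_ok, (okE_cons.2 ⟨p_g3_ok, (okE_cons.2 ⟨p_g4_ok, (okE_cons.2 ⟨p_g1_ok, (okE_cons.2 ⟨p_g2_ok, (okE_nil 24)⟩)⟩)⟩)⟩)⟩)⟩)⟩)⟩)⟩)⟩)⟩)⟩)⟩)⟩)⟩)⟩)⟩)⟩)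

noncomputable def nt_c17_K : List Net := [p_g95]

theorem nt_c17_K_ok : okE 24 nt_c17_K = true := (okE_cons.2 ⟨p_g95_ok, (okE_nil 24)⟩)

noncomputable def nt_c17_cnt_EG : List Net := [p_g24, p_g25, p_g26, p_g27, p_g28, p_g19, p_g20, p_g21, p_g15, p_g16, p_g11, p_g12, p_g7, p_g8, p_g3, p_g4, p_g1, p_g2]

theorem nt_c17_cnt_EG_ok : okE 24 nt_c17_cnt_EG = true := (okE_cons.2 ⟨p_g24_ok, (okE_cons.2 ⟨p_g25_ok, (okE_cons.2 ⟨p_g26_ok, (okE_cons.2 ⟨p_g27_ok, (okE_cons.2 ⟨p_g28_ok, (okE_cons.2 ⟨p_g19_ok, (okE_cons.2 ⟨p_g20_ok, (okE_cons.2 ⟨p_g21_ok, (okE_cons.2 ⟨p_g15_ok, (okE_cons.2 ⟨p_g16_ok, (okE_cons.2 ⟨p_g11_ok, (okE_cons.2 ⟨p_g12_ok, (okE_cons.2 ⟨p_g7_ok, (okE_cons.2 ⟨p_g8_ok, (okE_cons.2 ⟨p_g3_ok, (okE_cons.2 ⟨p_g4_ok, (okE_cons.2 ⟨p_g1_ok, (okE_cons.2 ⟨p_g2_ok, (okE_nil 24)⟩)⟩)⟩)⟩)⟩)⟩)⟩)⟩)⟩)⟩)⟩)⟩)⟩)⟩)⟩)⟩)⟩)⟩)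

noncomputable def p_g117 : Net := (Net.cons (nat_lit 1) (nat_lit 345172) (Net.cons (nat_lit 2) (nat_lit 0x300000) (Net.cons (nat_lit 4) (nat_lit 68096) (Net.cons (nat_lit 8) (nat_lit 72) (Net.cons (nat_lit 16) (nat_lit 120) (Net.cons (nat_lit 8) (nat_lit 23) (Net.cons (nat_lit 4) (nat_lit 920077) (Net.cons (nat_lit 2) (nat_lit 0x312133) (Net.cons (nat_lit 1) (nat_lit 327764) Net.nil)))))))))

theorem p_g117_ok : Net.ok 24 p_g117 = true := by decide +kernel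

noncomputable def nt_c18_K : List Net := [p_g117]

theorem nt_c18_K_ok : okE 24 nt_c18_K = true := (okE_cons.2 ⟨p_g117_ok, (okE_nil 24)⟩)

noncomputable def nt_c18_cnt_EG : List Net := [p_g24, p_g25, p_g26, p_g27, p_g28, p_g19, p_g20, p_g21, p_g15, p_g16, p_g11, p_g12, p_g7, p_g8, p_g3, p_g4, p_g1, p_g2]

theorem nt_c18_cnt_EG_ok : okE 24 nt_c18_cnt_EG = true := (okE_cons.2 ⟨p_g24_ok, (okE_cons.2 ⟨p_g25_ok, (okE_cons.2 ⟨p_g26_ok, (okE_cons.2 ⟨p_g27_ok, (okE_cons.2 ⟨p_g28_ok, (okE_cons.2 ⟨p_g19_ok, (okE_cons.2 ⟨p_g20_ok, (okE_cons.2 ⟨p_g21_ok, (okE_cons.2 ⟨p_g15_ok, (okE_cons.2 ⟨p_g16_ok, (okE_cons.2 ⟨p_g11_ok, (okE_cons.2 ⟨p_g12_ok, (okE_cons.2 ⟨p_g7_ok, (okE_cons.2 ⟨p_g8_ok, (okE_cons.2 ⟨p_g3_ok, (okE_cons.2 ⟨p_g4_ok, (okE_cons.2 ⟨p_g1_ok, (okE_cons.2 ⟨p_g2_ok, (okE_nil 24)⟩)⟩)⟩)⟩)⟩)⟩)⟩)⟩)⟩)⟩)⟩)⟩)⟩)⟩)⟩)⟩)⟩)⟩)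

noncomputable def p_g119 : Net := (Net.cons (nat_lit 1) (nat_lit 0x404510) (Net.cons (nat_lit 2) (nat_lit 0x111010) (Net.cons (nat_lit 4) (nat_lit 655872) (Net.cons (nat_lit 8) (nat_lit 44) (Net.cons (nat_lit 16) (nat_lit 252) (Net.cons (nat_lit 8) (nat_lit 242) (Net.cons (nat_lit 4) (nat_lit 593409) (Net.cons (nat_lit 2) (nat_lit 0x101023) (Net.cons (nat_lit 1) (nat_lit 0x455555) Net.nil)))))))))

theorem p_g119_ok : Net.ok 24 p_g119 = true := by decide +kernel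

noncomputable def nt_c19_K : List Net := [p_g119]

theorem nt_c19_K_ok : okE 24 nt_c19_K = true := (okE_cons.2 ⟨p_g119_ok, (okE_nil 24)⟩)

noncomputable def nt_c19_cnt_EG : List Net := [p_g24, p_g25, p_g26, p_g27, p_g28, p_g19, p_g20, p_g21, p_g15, p_g16, p_g11, p_g12, p_g7, p_g8, p_g3, p_g4, p_g1, p_g2]

theorem nt_c19_cnt_EG_ok : okE 24 nt_c19_cnt_EG = true := (okE_cons.2 ⟨p_g24_ok, (okE_cons.2 ⟨p_g25_ok, (okE_cons.2 ⟨p_g26_ok, (okE_cons.2 ⟨p_g27_ok, (okE_cons.2 ⟨p_g28_ok, (okE_cons.2 ⟨p_g19_ok, (okE_cons.2 ⟨p_g20_ok, (okE_cons.2 ⟨p_g21_ok, (okE_cons.2 ⟨p_g15_ok, (okE_cons.2 ⟨p_g16_ok, (okE_cons.2 ⟨p_g11_ok, (okE_cons.2 ⟨p_g12_ok, (okE_cons.2 ⟨p_g7_ok, (okE_cons.2 ⟨p_g8_ok, (okE_cons.2 ⟨p_g3_ok, (okE_cons.2 ⟨p_g4_ok, (okE_cons.2 ⟨p_g1_ok, (okE_cons.2 ⟨p_g2_ok, (okE_nil 24)⟩)⟩)⟩)⟩)⟩)⟩)⟩)⟩)⟩)⟩)⟩)⟩)⟩)⟩)⟩)⟩)⟩)⟩)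

noncomputable def p_g121 : Net := (Net.cons (nat_lit 1) (nat_lit 0x411140) (Net.cons (nat_lit 2) (nat_lit 78336) (Net.cons (nat_lit 4) (nat_lit 461312) (Net.cons (nat_lit 8) (nat_lit 22) (Net.cons (nat_lit 16) (nat_lit 119) (Net.cons (nat_lit 8) (nat_lit 210) (Net.cons (nat_lit 4) (nat_lit 328712) (Net.cons (nat_lit 2) (nat_lit 0x110330) (Net.cons (nat_lit 1) (nat_lit 65861) Net.nil)))))))))

theorem p_g121_ok : Net.ok 24 p_g121 = true := by decide +kernel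

noncomputable def nt_c20_K : List Net := [p_g121]

theorem nt_c20_K_ok : okE 24 nt_c20_K = true := (okE_cons.2 ⟨p_g121_ok, (okE_nil 24)⟩)

noncomputable def nt_c20_cnt_EG : List Net := [p_g24, p_g25, p_g26, p_g27, p_g28, p_g19, p_g20, p_g21, p_g15, p_g16, p_g11, p_g12, p_g7, p_g8, p_g3, p_g4, p_g1, p_g2]

theorem nt_c20_cnt_EG_ok : okE 24 nt_c20_cnt_EG = true := (okE_cons.2 ⟨p_g24_ok, (okE_cons.2 ⟨p_g25_ok, (okE_cons.2 ⟨p_g26_ok, (okE_cons.2 ⟨p_g27_ok, (okE_cons.2 ⟨p_g28_ok, (okE_cons.2 ⟨p_g19_ok, (okE_cons.2 ⟨p_g20_ok, (okE_cons.2 ⟨p_g21_ok, (okE_cons.2 ⟨p_g15_ok, (okE_cons.2 ⟨p_g16_ok, (okE_cons.2 ⟨p_g11_ok, (okE_cons.2 ⟨p_g12_ok, (okE_cons.2 ⟨p_g7_ok, (okE_cons.2 ⟨p_g8_ok, (okE_cons.2 ⟨p_g3_ok, (okE_cons.2 ⟨p_g4_ok, (okE_cons.2 ⟨p_g1_ok, (okE_cons.2 ⟨p_g2_ok, (okE_nil 24)⟩)⟩)⟩)⟩)⟩)⟩)⟩)⟩)⟩)⟩)⟩)⟩)⟩)⟩)⟩)⟩)⟩)⟩)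

noncomputable def p_g123 : Net := (Net.cons (nat_lit 1) (nat_lit 0x104440) (Net.cons (nat_lit 2) (nat_lit 135968) (Net.cons (nat_lit 4) (nat_lit 788480) (Net.cons (nat_lit 8) (nat_lit 17) (Net.cons (nat_lit 16) (nat_lit 93) (Net.cons (nat_lit 8) (nat_lit 242) (Net.cons (nat_lit 4) (nat_lit 68879) (Net.cons (nat_lit 2) (nat_lit 140048) (Net.cons (nat_lit 1) (nat_lit 4096) Net.nil)))))))))

theorem p_g123_ok : Net.ok 24 p_g123 = true := by decide +kernel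

noncomputable def nt_c21_K : List Net := [p_g123]

theorem nt_c21_K_ok : okE 24 nt_c21_K = true := (okE_cons.2 ⟨p_g123_ok, (okE_nil 24)⟩)

noncomputable def nt_c21_cnt_EG : List Net := [p_g24, p_g25, p_g26, p_g27, p_g28, p_g19, p_g20, p_g21, p_g15, p_g16, p_g11, p_g12, p_g7, p_g8, p_g3, p_g4, p_g1, p_g2]

theorem nt_c21_cnt_EG_ok : okE 24 nt_c21_cnt_EG = true := (okE_cons.2 ⟨p_g24_ok, (okE_cons.2 ⟨p_g25_ok, (okE_cons.2 ⟨p_g26_ok, (okE_cons.2 ⟨p_g27_ok, (okE_cons.2 ⟨p_g28_ok, (okE_cons.2 ⟨p_g19_ok, (okE_cons.2 ⟨p_g20_ok, (okE_cons.2 ⟨p_g21_ok, (okE_cons.2 ⟨p_g15_ok, (okE_cons.2 ⟨p_g16_ok, (okE_cons.2 ⟨p_g11_ok, (okE_cons.2 ⟨p_g12_ok, (okE_cons.2 ⟨p_g7_ok, (okE_cons.2 ⟨p_g8_ok, (okE_cons.2 ⟨p_g3_ok, (okE_cons.2 ⟨p_g4_ok, (okE_cons.2 ⟨p_g1_ok, (okE_cons.2 ⟨p_g2_ok, (okE_nil 24)⟩)⟩)⟩)⟩)⟩)⟩)⟩)⟩)⟩)⟩)⟩)⟩)⟩)⟩)⟩)⟩)⟩)⟩)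

noncomputable def p_g125 : Net := (Net.cons (nat_lit 1) (nat_lit 0x150404) (Net.cons (nat_lit 2) (nat_lit 0x310000) (Net.cons (nat_lit 4) (nat_lit 590848) (Net.cons (nat_lit 8) (nat_lit 90) (Net.cons (nat_lit 16) (nat_lit 218) (Net.cons (nat_lit 8) (nat_lit 41) (Net.cons (nat_lit 4) (nat_lit 3340) (Net.cons (nat_lit 2) (nat_lit 0x133110) (Net.cons (nat_lit 1) (nat_lit 0x441451) Net.nil)))))))))

theorem p_g125_ok : Net.ok 24 p_g125 = true := by decide +kernel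

noncomputable def nt_c22_K : List Net := [p_g125]

theorem nt_c22_K_ok : okE 24 nt_c22_K = true := (okE_cons.2 ⟨p_g125_ok, (okE_nil 24)⟩)

noncomputable def nt_c22_cnt_EG : List Net := [p_g24, p_g25, p_g26, p_g27, p_g28, p_g19, p_g20, p_g21, p_g15, p_g16, p_g11, p_g12, p_g7, p_g8, p_g3, p_g4, p_g1, p_g2]

theorem nt_c22_cnt_EG_ok : okE 24 nt_c22_cnt_EG = true := (okE_cons.2 ⟨p_g24_ok, (okE_cons.2 ⟨p_g25_ok, (okE_cons.2 ⟨p_g26_ok, (okE_cons.2 ⟨p_g27_ok, (okE_cons.2 ⟨p_g28_ok, (okE_cons.2 ⟨p_g19_ok, (okE_cons.2 ⟨p_g20_ok, (okE_cons.2 ⟨p_g21_ok, (okE_cons.2 ⟨p_g15_ok, (okE_cons.2 ⟨p_g16_ok, (okE_cons.2 ⟨p_g11_ok, (okE_cons.2 ⟨p_g12_ok, (okE_cons.2 ⟨p_g7_ok, (okE_cons.2 ⟨p_g8_ok, (okE_cons.2 ⟨p_g3_ok, (okE_cons.2 ⟨p_g4_ok, (okE_cons.2 ⟨p_g1_ok, (okE_cons.2 ⟨p_g2_ok, (okE_nil 24)⟩)⟩)⟩)⟩)⟩)⟩)⟩)⟩)⟩)⟩)⟩)⟩)⟩)⟩)⟩)⟩)⟩)⟩)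

noncomputable def p_g127 : Net := (Net.cons (nat_lit 1) (nat_lit 0x105010) (Net.cons (nat_lit 2) (nat_lit 201248) (Net.cons (nat_lit 4) (nat_lit 327680) (Net.cons (nat_lit 8) (nat_lit 64) (Net.cons (nat_lit 16) (nat_lit 237) (Net.cons (nat_lit 8) (nat_lit 67) (Net.cons (nat_lit 4) (nat_lit 198157) (Net.cons (nat_lit 2) (nat_lit 0x223022) (Net.cons (nat_lit 1) (nat_lit 0x411554) Net.nil)))))))))

theorem p_g127_ok : Net.ok 24 p_g127 = true := by decide +kernel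

noncomputable def nt_c23_K : List Net := [p_g127]

theorem nt_c23_K_ok : okE 24 nt_c23_K = true := (okE_cons.2 ⟨p_g127_ok, (okE_nil 24)⟩)

noncomputable def nt_c23_cnt_EG : List Net := [p_g24, p_g25, p_g26, p_g27, p_g28, p_g19, p_g20, p_g21, p_g15, p_g16, p_g11, p_g12, p_g7, p_g8, p_g3, p_g4, p_g1, p_g2]

theorem nt_c23_cnt_EG_ok : okE 24 nt_c23_cnt_EG = true := (okE_cons.2 ⟨p_g24_ok, (okE_cons.2 ⟨p_g25_ok, (okE_cons.2 ⟨p_g26_ok, (okE_cons.2 ⟨p_g27_ok, (okE_cons.2 ⟨p_g28_ok, (okE_cons.2 ⟨p_g19_ok, (okE_cons.2 ⟨p_g20_ok, (okE_cons.2 ⟨p_g21_ok, (okE_cons.2 ⟨p_g15_ok, (okE_cons.2 ⟨p_g16_ok, (okE_cons.2 ⟨p_g11_ok, (okE_cons.2 ⟨p_g12_ok, (okE_cons.2 ⟨p_g7_ok, (okE_cons.2 ⟨p_g8_ok, (okE_cons.2 ⟨p_g3_ok, (okE_cons.2 ⟨p_g4_ok, (okE_cons.2 ⟨p_g1_ok, (okE_cons.2 ⟨p_g2_ok, (okE_nil 24)⟩)⟩)⟩)⟩)⟩)⟩)⟩)⟩)⟩)⟩)⟩)⟩)⟩)⟩)⟩)⟩)⟩)⟩)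

noncomputable def p_g129 : Net := (Net.cons (nat_lit 1) (nat_lit 0x554500) (Net.cons (nat_lit 2) (nat_lit 0x311020) (Net.cons (nat_lit 4) (nat_lit 1536) (Net.cons (nat_lit 8) (nat_lit 12) (Net.cons (nat_lit 16) (nat_lit 77) (Net.cons (nat_lit 8) (nat_lit 155) (Net.cons (nat_lit 4) (nat_lit 524808) (Net.cons (nat_lit 2) (nat_lit 0x221013) (Net.cons (nat_lit 1) (nat_lit 0x540004) Net.nil)))))))))

theorem p_g129_ok : Net.ok 24 p_g129 = true := by decide +kernel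

noncomputable def nt_c24_K : List Net := [p_g129]

theorem nt_c24_K_ok : okE 24 nt_c24_K = true := (okE_cons.2 ⟨p_g129_ok, (okE_nil 24)⟩)

noncomputable def nt_c24_cnt_EG : List Net := [p_g24, p_g25, p_g26, p_g27, p_g28, p_g19, p_g20, p_g21, p_g15, p_g16, p_g11, p_g12, p_g7, p_g8, p_g3, p_g4, p_g1, p_g2]

theorem nt_c24_cnt_EG_ok : okE 24 nt_c24_cnt_EG = true := (okE_cons.2 ⟨p_g24_ok, (okE_cons.2 ⟨p_g25_ok, (okE_cons.2 ⟨p_g26_ok, (okE_cons.2 ⟨p_g27_ok, (okE_cons.2 ⟨p_g28_ok, (okE_cons.2 ⟨p_g19_ok, (okE_cons.2 ⟨p_g20_ok, (okE_cons.2 ⟨p_g21_ok, (okE_cons.2 ⟨p_g15_ok, (okE_cons.2 ⟨p_g16_ok, (okE_cons.2 ⟨p_g11_ok, (okE_cons.2 ⟨p_g12_ok, (okE_cons.2 ⟨p_g7_ok, (okE_cons.2 ⟨p_g8_ok, (okE_cons.2 ⟨p_g3_ok, (okE_cons.2 ⟨p_g4_ok, (okE_cons.2 ⟨p_g1_ok, (okE_cons.2 ⟨p_g2_ok, (okE_nil 24)⟩)⟩)⟩)⟩)⟩)⟩)⟩)⟩)⟩)⟩)⟩)⟩)⟩)⟩)⟩)⟩)⟩)⟩)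

noncomputable def p_g131 : Net := (Net.cons (nat_lit 1) (nat_lit 66576) (Net.cons (nat_lit 2) (nat_lit 0x201120) (Net.cons (nat_lit 4) (nat_lit 3072) (Net.cons (nat_lit 8) (nat_lit 144) (Net.cons (nat_lit 16) (nat_lit 191) (Net.cons (nat_lit 8) (nat_lit 55) (Net.cons (nat_lit 4) (nat_lit 526606) (Net.cons (nat_lit 2) (nat_lit 65825) (Net.cons (nat_lit 1) (nat_lit 279877) Net.nil)))))))))

theorem p_g131_ok : Net.ok 24 p_g131 = true := by decide +kernel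

noncomputable def nt_c25_K : List Net := [p_g131]

theorem nt_c25_K_ok : okE 24 nt_c25_K = true := (okE_cons.2 ⟨p_g131_ok, (okE_nil 24)⟩)

noncomputable def nt_c25_cnt_EG : List Net := [p_g24, p_g25, p_g26, p_g27, p_g28, p_g19, p_g20, p_g21, p_g15, p_g16, p_g11, p_g12, p_g7, p_g8, p_g3, p_g4, p_g1, p_g2]

theorem nt_c25_cnt_EG_ok : okE 24 nt_c25_cnt_EG = true := (okE_cons.2 ⟨p_g24_ok, (okE_cons.2 ⟨p_g25_ok, (okE_cons.2 ⟨p_g26_ok, (okE_cons.2 ⟨p_g27_ok, (okE_cons.2 ⟨p_g28_ok, (okE_cons.2 ⟨p_g19_ok, (okE_cons.2 ⟨p_g20_ok, (okE_cons.2 ⟨p_g21_ok, (okE_cons.2 ⟨p_g15_ok, (okE_cons.2 ⟨p_g16_ok, (okE_cons.2 ⟨p_g11_ok, (okE_cons.2 ⟨p_g12_ok, (okE_cons.2 ⟨p_g7_ok, (okE_cons.2 ⟨p_g8_ok, (okE_cons.2 ⟨p_g3_ok, (okE_cons.2 ⟨p_g4_ok, (okE_cons.2 ⟨p_g1_ok, (okE_cons.2 ⟨p_g2_ok, (okE_nil 24)⟩)⟩)⟩)⟩)⟩)⟩)⟩)⟩)⟩)⟩)⟩)⟩)⟩)⟩)⟩)⟩)⟩)⟩)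

noncomputable def nt_nc12_11_cnt_EG : List Net := [p_g19, p_g20, p_g21, p_g24, p_g25, p_g26, p_g27, p_g28, p_g15, p_g16, p_g11, p_g12, p_g7, p_g8, p_g3, p_g4, p_g1, p_g2]

theorem nt_nc12_11_cnt_EG_ok : okE 24 nt_nc12_11_cnt_EG = true := (okE_cons.2 ⟨p_g19_ok, (okE_cons.2 ⟨p_g20_ok, (okE_cons.2 ⟨p_g21_ok, (okE_cons.2 ⟨p_g24_ok, (okE_cons.2 ⟨p_g25_ok, (okE_cons.2 ⟨p_g26_ok, (okE_cons.2 ⟨p_g27_ok, (okE_cons.2 ⟨p_g28_ok, (okE_cons.2 ⟨p_g15_ok, (okE_cons.2 ⟨p_g16_ok, (okE_cons.2 ⟨p_g11_ok, (okE_cons.2 ⟨p_g12_ok, (okE_cons.2 ⟨p_g7_ok, (okE_cons.2 ⟨p_g8_ok, (okE_cons.2 ⟨p_g3_ok, (okE_cons.2 ⟨p_g4_ok, (okE_cons.2 ⟨p_g1_ok, (okE_cons.2 ⟨p_g2_ok, (okE_nil 24)⟩)⟩)⟩)⟩)⟩)⟩)⟩)⟩)⟩)⟩)⟩)⟩)⟩)⟩)⟩)⟩)⟩)⟩)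

noncomputable def nt_nc19_18_cnt_EG : List Net := [p_g15, p_g16, p_g19, p_g20, p_g21, p_g24, p_g25, p_g26, p_g27, p_g28, p_g11, p_g12, p_g7, p_g8, p_g3, p_g4, p_g1, p_g2]

theorem nt_nc19_18_cnt_EG_ok : okE 24 nt_nc19_18_cnt_EG = true := (okE_cons.2 ⟨p_g15_ok, (okE_cons.2 ⟨p_g16_ok, (okE_cons.2 ⟨p_g19_ok, (okE_cons.2 ⟨p_g20_ok, (okE_cons.2 ⟨p_g21_ok, (okE_cons.2 ⟨p_g24_ok, (okE_cons.2 ⟨p_g25_ok, (okE_cons.2 ⟨p_g26_ok, (okE_cons.2 ⟨p_g27_ok, (okE_cons.2 ⟨p_g28_ok, (okE_cons.2 ⟨p_g11_ok, (okE_cons.2 ⟨p_g12_ok, (okE_cons.2 ⟨p_g7_ok, (okE_cons.2 ⟨p_g8_ok, (okE_cons.2 ⟨p_g3_ok, (okE_cons.2 ⟨p_g4_ok, (okE_cons.2 ⟨p_g1_ok, (okE_cons.2 ⟨p_g2_ok, (okE_nil 24)⟩)⟩)⟩)⟩)⟩)⟩)⟩)⟩)⟩)⟩)⟩)⟩)⟩)⟩)⟩)⟩)⟩)⟩)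

noncomputable def nt_nc21_20_cnt_EG : List Net := [p_g15, p_g16, p_g19, p_g20, p_g21, p_g24, p_g25, p_g26, p_g27, p_g28, p_g11, p_g12, p_g7, p_g8, p_g3, p_g4, p_g1, p_g2]

theorem nt_nc21_20_cnt_EG_ok : okE 24 nt_nc21_20_cnt_EG = true := (okE_cons.2 ⟨p_g15_ok, (okE_cons.2 ⟨p_g16_ok, (okE_cons.2 ⟨p_g19_ok, (okE_cons.2 ⟨p_g20_ok, (okE_cons.2 ⟨p_g21_ok, (okE_cons.2 ⟨p_g24_ok, (okE_cons.2 ⟨p_g25_ok, (okE_cons.2 ⟨p_g26_ok, (okE_cons.2 ⟨p_g27_ok, (okE_cons.2 ⟨p_g28_ok, (okE_cons.2 ⟨p_g11_ok, (okE_cons.2 ⟨p_g12_ok, (okE_cons.2 ⟨p_g7_ok, (okE_cons.2 ⟨p_g8_ok, (okE_cons.2 ⟨p_g3_ok, (okE_cons.2 ⟨p_g4_ok, (okE_cons.2 ⟨p_g1_ok, (okE_cons.2 ⟨p_g2_ok, (okE_nil 24)⟩)⟩)⟩)⟩)⟩)⟩)⟩)⟩)⟩)⟩)⟩)⟩)⟩)⟩)⟩)⟩)⟩)⟩)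

noncomputable def nt_nc23_22_cnt_EG : List Net := [p_g15, p_g16, p_g19, p_g20, p_g21, p_g24, p_g25, p_g26, p_g27, p_g28, p_g11, p_g12, p_g7, p_g8, p_g3, p_g4, p_g1, p_g2]

theorem nt_nc23_22_cnt_EG_ok : okE 24 nt_nc23_22_cnt_EG = true := (okE_cons.2 ⟨p_g15_ok, (okE_cons.2 ⟨p_g16_ok, (okE_cons.2 ⟨p_g19_ok, (okE_cons.2 ⟨p_g20_ok, (okE_cons.2 ⟨p_g21_ok, (okE_cons.2 ⟨p_g24_ok, (okE_cons.2 ⟨p_g25_ok, (okE_cons.2 ⟨p_g26_ok, (okE_cons.2 ⟨p_g27_ok, (okE_cons.2 ⟨p_g28_ok, (okE_cons.2 ⟨p_g11_ok, (okE_cons.2 ⟨p_g12_ok, (okE_cons.2 ⟨p_g7_ok, (okE_cons.2 ⟨p_g8_ok, (okE_cons.2 ⟨p_g3_ok, (okE_cons.2 ⟨p_g4_ok, (okE_cons.2 ⟨p_g1_ok, (okE_cons.2 ⟨p_g2_ok, (okE_nil 24)⟩)⟩)⟩)⟩)⟩)⟩)⟩)⟩)⟩)⟩)⟩)⟩)⟩)⟩)⟩)⟩)⟩)⟩)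

noncomputable def nt_nc25_24_cnt_EG : List Net := [p_g15, p_g16, p_g19, p_g20, p_g21, p_g24, p_g25, p_g26, p_g27, p_g28, p_g11, p_g12, p_g7, p_g8, p_g3, p_g4, p_g1, p_g2]

theorem nt_nc25_24_cnt_EG_ok : okE 24 nt_nc25_24_cnt_EG = true := (okE_cons.2 ⟨p_g15_ok, (okE_cons.2 ⟨p_g16_ok, (okE_cons.2 ⟨p_g19_ok, (okE_cons.2 ⟨p_g20_ok, (okE_cons.2 ⟨p_g21_ok, (okE_cons.2 ⟨p_g24_ok, (okE_cons.2 ⟨p_g25_ok, (okE_cons.2 ⟨p_g26_ok, (okE_cons.2 ⟨p_g27_ok, (okE_cons.2 ⟨p_g28_ok, (okE_cons.2 ⟨p_g11_ok, (okE_cons.2 ⟨p_g12_ok, (okE_cons.2 ⟨p_g7_ok, (okE_cons.2 ⟨p_g8_ok, (okE_cons.2 ⟨p_g3_ok, (okE_cons.2 ⟨p_g4_ok, (okE_cons.2 ⟨p_g1_ok, (okE_cons.2 ⟨p_g2_ok, (okE_nil 24)⟩)⟩)⟩)⟩)⟩)⟩)⟩)⟩)⟩)⟩)⟩)⟩)⟩)⟩)⟩)⟩)⟩)⟩)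

noncomputable def p_g133 : Net := (Net.cons (nat_lit 1) (nat_lit 0x155500) (Net.cons (nat_lit 2) (nat_lit 0x200000) (Net.cons (nat_lit 4) (nat_lit 2048) (Net.cons (nat_lit 8) (nat_lit 84) (Net.cons (nat_lit 16) (nat_lit 213) (Net.cons (nat_lit 8) (nat_lit 89) (Net.cons (nat_lit 4) (nat_lit 133120) (Net.cons (nat_lit 2) (nat_lit 0x210101) (Net.cons (nat_lit 1) (nat_lit 0x155500) Net.nil)))))))))

theorem p_g133_ok : Net.ok 24 p_g133 = true := by decide +kernel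

noncomputable def p_g134 : Net := (Net.cons (nat_lit 1) (nat_lit 0x504440) (Net.cons (nat_lit 2) (nat_lit 201216) (Net.cons (nat_lit 4) (nat_lit 458752) (Net.cons (nat_lit 8) (nat_lit 144) (Net.cons (nat_lit 16) (nat_lit 222) (Net.cons (nat_lit 8) (nat_lit 99) (Net.cons (nat_lit 4) (nat_lit 525059) (Net.cons (nat_lit 2) (nat_lit 205056) (Net.cons (nat_lit 1) (nat_lit 332053) Net.nil)))))))))

theorem p_g134_ok : Net.ok 24 p_g134 = true := by decide +kernel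

noncomputable def p_g135 : Net := (Net.cons (nat_lit 1) (nat_lit 69632) (Net.cons (nat_lit 2) (nat_lit 8704) (Net.cons (nat_lit 4) (nat_lit 590848) (Net.cons (nat_lit 8) (nat_lit 50) (Net.cons (nat_lit 16) (nat_lit 179) (Net.cons (nat_lit 8) (nat_lit 62) (Net.cons (nat_lit 4) (nat_lit 722432) (Net.cons (nat_lit 2) (nat_lit 8704) (Net.cons (nat_lit 1) (nat_lit 0x411000) Net.nil)))))))))

theorem p_g135_ok : Net.ok 24 p_g135 = true := by decide +kernel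

noncomputable def p_g136 : Net := (Net.cons (nat_lit 1) (nat_lit 345088) (Net.cons (nat_lit 2) (nat_lit 288) (Net.cons (nat_lit 4) (nat_lit 789504) (Net.cons (nat_lit 8) (nat_lit 10) (Net.cons (nat_lit 16) (nat_lit 14) (Net.cons (nat_lit 8) (nat_lit 39) (Net.cons (nat_lit 4) (nat_lit 789504) (Net.cons (nat_lit 2) (nat_lit 65824) (Net.cons (nat_lit 1) (nat_lit 0x550404) Net.nil)))))))))

theorem p_g136_ok : Net.ok 24 p_g136 = true := by decide +kernel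

noncomputable def p_g137 : Net := (Net.cons (nat_lit 1) (nat_lit 83008) (Net.cons (nat_lit 2) (nat_lit 32) (Net.cons (nat_lit 4) (nat_lit 133376) (Net.cons (nat_lit 8) (nat_lit 101) (Net.cons (nat_lit 16) (nat_lit 101) (Net.cons (nat_lit 8) (nat_lit 245) (Net.cons (nat_lit 4) (nat_lit 396546) (Net.cons (nat_lit 2) (nat_lit 0x211020) (Net.cons (nat_lit 1) (nat_lit 83008) Net.nil)))))))))

theorem p_g137_ok : Net.ok 24 p_g137 = true := by decide +kernel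

noncomputable def ch1_Q : List Net := [p_g39, p_g133, p_g134, p_g135, p_g136, p_g137, p_g44]

theorem ch1_Q_ok : okE 24 ch1_Q = true := (okE_cons.2 ⟨p_g39_ok, (okE_cons.2 ⟨p_g133_ok, (okE_cons.2 ⟨p_g134_ok, (okE_cons.2 ⟨p_g135_ok, (okE_cons.2 ⟨p_g136_ok, (okE_cons.2 ⟨p_g137_ok, (okE_cons.2 ⟨p_g44_ok, (okE_nil 24)⟩)⟩)⟩)⟩)⟩)⟩)⟩)

noncomputable def p_g138 : Net := (Net.cons (nat_lit 1) (nat_lit 0x500144) (Net.cons (nat_lit 2) (nat_lit 0x131010) (Net.cons (nat_lit 4) (nat_lit 3840) (Net.cons (nat_lit 8) (nat_lit 24) (Net.cons (nat_lit 16) (nat_lit 157) (Net.cons (nat_lit 8) (nat_lit 6) (Net.cons (nat_lit 4) (nat_lit 921345) (Net.cons (nat_lit 2) (nat_lit 0x300311) (Net.cons (nat_lit 1) (nat_lit 0x141415) Net.nil)))))))))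

theorem p_g138_ok : Net.ok 24 p_g138 = true := by decide +kernel

noncomputable def p_V139 : List Net := [p_g44, p_g134, p_g138]

theorem p_V139_ok : okE 24 p_V139 = true := (okE_cons.2 ⟨p_g44_ok, (okE_cons.2 ⟨p_g134_ok, (okE_cons.2 ⟨p_g138_ok, (okE_nil 24)⟩)⟩)⟩)

noncomputable def p_g141 : Net := (Net.cons (nat_lit 1) (nat_lit 0x144040) (Net.cons (nat_lit 2) (nat_lit 200704) (Net.cons (nat_lit 4) (nat_lit 65536) (Net.cons (nat_lit 8) (nat_lit 16) (Net.cons (nat_lit 16) (nat_lit 93) (Net.cons (nat_lit 8) (nat_lit 16) (Net.cons (nat_lit 4) (nat_lit 330244) (Net.cons (nat_lit 2) (nat_lit 0x331001) (Net.cons (nat_lit 1) (nat_lit 0x144040) Net.nil)))))))))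

theorem p_g141_ok : Net.ok 24 p_g141 = true := by decide +kernel

noncomputable def p_g142 : Net := (Net.cons (nat_lit 1) (nat_lit 0x554100) (Net.cons (nat_lit 2) (nat_lit 0x320000) (Net.cons (nat_lit 4) (nat_lit 2048) (Net.cons (nat_lit 8) (nat_lit 224) (Net.cons (nat_lit 16) (nat_lit 236) (Net.cons (nat_lit 8) (nat_lit 105) (Net.cons (nat_lit 4) (nat_lit 589832) (Net.cons (nat_lit 2) (nat_lit 0x320000) (Net.cons (nat_lit 1) (nat_lit 0x554100) Net.nil)))))))))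

theorem p_g142_ok : Net.ok 24 p_g142 = true := by decide +kernel

noncomputable def p_V143 : List Net := [p_g141, p_g133, p_g142, p_g136]

theorem p_V143_ok : okE 24 p_V143 = true := (okE_cons.2 ⟨p_g141_ok, (okE_cons.2 ⟨p_g133_ok, (okE_cons.2 ⟨p_g142_ok, (okE_cons.2 ⟨p_g136_ok, (okE_nil 24)⟩)⟩)⟩)⟩)

noncomputable def p_g145 : Net := (Net.cons (nat_lit 1) (nat_lit 0x114140) (Net.cons (nat_lit 2) (nat_lit 201216) (Net.cons (nat_lit 4) (nat_lit 65536) (Net.cons (nat_lit 8) (nat_lit 162) (Net.cons (nat_lit 16) (nat_lit 239) (Net.cons (nat_lit 8) (nat_lit 162) (Net.cons (nat_lit 4) (nat_lit 459524) (Net.cons (nat_lit 2) (nat_lit 201216) (Net.cons (nat_lit 1) (nat_lit 0x114140) Net.nil)))))))))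

theorem p_g145_ok : Net.ok 24 p_g145 = true := by decide +kernel

noncomputable def p_g146 : Net := (Net.cons (nat_lit 1) (nat_lit 0x541004) (Net.cons (nat_lit 2) (nat_lit 204800) (Net.cons (nat_lit 4) (nat_lit 65536) (Net.cons (nat_lit 8) (nat_lit 32) (Net.cons (nat_lit 16) (nat_lit 173) (Net.cons (nat_lit 8) (nat_lit 32) (Net.cons (nat_lit 4) (nat_lit 262144) (Net.cons (nat_lit 2) (nat_lit 0x123201) (Net.cons (nat_lit 1) (nat_lit 0x541004) Net.nil)))))))))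

theorem p_g146_ok : Net.ok 24 p_g146 = true := by decide +kernel

noncomputable def p_g147 : Net := (Net.cons (nat_lit 1) (nat_lit 0x540400) (Net.cons (nat_lit 2) (nat_lit 0x102020) (Net.cons (nat_lit 4) (nat_lit 67584) (Net.cons (nat_lit 8) (nat_lit 66) (Net.cons (nat_lit 16) (nat_lit 67) (Net.cons (nat_lit 8) (nat_lit 110) (Net.cons (nat_lit 4) (nat_lit 67584) (Net.cons (nat_lit 2) (nat_lit 0x312020) (Net.cons (nat_lit 1) (nat_lit 0x540400) Net.nil)))))))))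

theorem p_g147_ok : Net.ok 24 p_g147 = true := by decide +kernel

noncomputable def p_V148 : List Net := [p_g145, p_g146, p_g135, p_g147]

theorem p_V148_ok : okE 24 p_V148 = true := (okE_cons.2 ⟨p_g145_ok, (okE_cons.2 ⟨p_g146_ok, (okE_cons.2 ⟨p_g135_ok, (okE_cons.2 ⟨p_g147_ok, (okE_nil 24)⟩)⟩)⟩)⟩)

noncomputable def ch1_o_E2 : List Net := []

theorem ch1_o_E2_ok : okE 24 ch1_o_E2 = true := (okE_nil 24)

noncomputable def ch1_o_G1 : List Net := [p_g145, p_g146, p_g135, p_g147]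

theorem ch1_o_G1_ok : okE 24 ch1_o_G1 = true := (okE_cons.2 ⟨p_g145_ok, (okE_cons.2 ⟨p_g146_ok, (okE_cons.2 ⟨p_g135_ok, (okE_cons.2 ⟨p_g147_ok, (okE_nil 24)⟩)⟩)⟩)⟩)

noncomputable def ch1_o_E1 : List Net := [p_g145, p_g146, p_g135, p_g147, p_g141, p_g133, p_g142, p_g136]

theorem ch1_o_E1_ok : okE 24 ch1_o_E1 = true := (okE_cons.2 ⟨p_g145_ok, (okE_cons.2 ⟨p_g146_ok, (okE_cons.2 ⟨p_g135_ok, (okE_cons.2 ⟨p_g147_ok, (okE_cons.2 ⟨p_g141_ok, (okE_cons.2 ⟨p_g133_ok, (okE_cons.2 ⟨p_g142_ok, (okE_cons.2 ⟨p_g136_ok, (okE_nil 24)⟩)⟩)⟩)⟩)⟩)⟩)⟩)⟩)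

noncomputable def ch1_o_G0 : List Net := [p_g44, p_g134, p_g138, p_g145, p_g146, p_g135, p_g147, p_g141, p_g133, p_g142, p_g136]

theorem ch1_o_G0_ok : okE 24 ch1_o_G0 = true := (okE_cons.2 ⟨p_g44_ok, (okE_cons.2 ⟨p_g134_ok, (okE_cons.2 ⟨p_g138_ok, (okE_cons.2 ⟨p_g145_ok, (okE_cons.2 ⟨p_g146_ok, (okE_cons.2 ⟨p_g135_ok, (okE_cons.2 ⟨p_g147_ok, (okE_cons.2 ⟨p_g141_ok, (okE_cons.2 ⟨p_g133_ok, (okE_cons.2 ⟨p_g142_ok, (okE_cons.2 ⟨p_g136_ok, (okE_nil 24)⟩)⟩)⟩)⟩)⟩)⟩)⟩)⟩)⟩)⟩)⟩)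

noncomputable def ch1_o_E0 : List Net := [p_g44, p_g134, p_g138, p_g39, p_g137, p_g145, p_g146, p_g135, p_g147, p_g141, p_g133, p_g142, p_g136]

theorem ch1_o_E0_ok : okE 24 ch1_o_E0 = true := (okE_cons.2 ⟨p_g44_ok, (okE_cons.2 ⟨p_g134_ok, (okE_cons.2 ⟨p_g138_ok, (okE_cons.2 ⟨p_g39_ok, (okE_cons.2 ⟨p_g137_ok, (okE_cons.2 ⟨p_g145_ok, (okE_cons.2 ⟨p_g146_ok, (okE_cons.2 ⟨p_g135_ok, (okE_cons.2 ⟨p_g147_ok, (okE_cons.2 ⟨p_g141_ok, (okE_cons.2 ⟨p_g133_ok, (okE_cons.2 ⟨p_g142_ok, (okE_cons.2 ⟨p_g136_ok, (okE_nil 24)⟩)⟩)⟩)⟩)⟩)⟩)⟩)⟩)⟩)⟩)⟩)⟩)⟩)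

noncomputable def p_g155 : Net := (Net.cons (nat_lit 1) (nat_lit 0x510004) (Net.cons (nat_lit 2) (nat_lit 4112) (Net.cons (nat_lit 4) (nat_lit 262656) (Net.cons (nat_lit 8) (nat_lit 136) (Net.cons (nat_lit 16) (nat_lit 201) (Net.cons (nat_lit 8) (nat_lit 134) (Net.cons (nat_lit 4) (nat_lit 263680) (Net.cons (nat_lit 2) (nat_lit 0x220003) (Net.cons (nat_lit 1) (nat_lit 0x501001) Net.nil)))))))))

theorem p_g155_ok : Net.ok 24 p_g155 = true := by decide +kernel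

noncomputable def p_g156 : Net := (Net.cons (nat_lit 1) (nat_lit 0x550510) (Net.cons (nat_lit 2) (nat_lit 4864) (Net.cons (nat_lit 4) (nat_lit 196864) (Net.cons (nat_lit 8) (nat_lit 112) (Net.cons (nat_lit 16) (nat_lit 248) (Net.cons (nat_lit 8) (nat_lit 209) (Net.cons (nat_lit 4) (nat_lit 984587) (Net.cons (nat_lit 2) (nat_lit 0x121212) (Net.cons (nat_lit 1) (nat_lit 0x111551) Net.nil)))))))))

theorem p_g156_ok : Net.ok 24 p_g156 = true := by decide +kernel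

noncomputable def p_g157 : Net := (Net.cons (nat_lit 1) (nat_lit 0x150550) (Net.cons (nat_lit 2) (nat_lit 0x302000) (Net.cons (nat_lit 4) (nat_lit 657408) (Net.cons (nat_lit 8) (nat_lit 228) (Net.cons (nat_lit 16) (nat_lit 236) (Net.cons (nat_lit 8) (nat_lit 229) (Net.cons (nat_lit 4) (nat_lit 920580) (Net.cons (nat_lit 2) (nat_lit 0x302020) (Net.cons (nat_lit 1) (nat_lit 0x150550) Net.nil)))))))))

theorem p_g157_ok : Net.ok 24 p_g157 = true := by decide +kernel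

noncomputable def p_g158 : Net := (Net.cons (nat_lit 1) (nat_lit 0x154110) (Net.cons (nat_lit 2) (nat_lit 0x221030) (Net.cons (nat_lit 4) (nat_lit 657408) (Net.cons (nat_lit 8) (nat_lit 44) (Net.cons (nat_lit 16) (nat_lit 45) (Net.cons (nat_lit 8) (nat_lit 103) (Net.cons (nat_lit 4) (nat_lit 198406) (Net.cons (nat_lit 2) (nat_lit 0x200303) (Net.cons (nat_lit 1) (nat_lit 0x401445) Net.nil)))))))))

theorem p_g158_ok : Net.ok 24 p_g158 = true := by decide +kernel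

noncomputable def p_g159 : Net := (Net.cons (nat_lit 1) (nat_lit 69888) (Net.cons (nat_lit 2) (nat_lit 0x220000) (Net.cons (nat_lit 4) (nat_lit 65536) (Net.cons (nat_lit 8) (nat_lit 156) (Net.cons (nat_lit 16) (nat_lit 156) (Net.cons (nat_lit 8) (nat_lit 190) (Net.cons (nat_lit 4) (nat_lit 591872) (Net.cons (nat_lit 2) (nat_lit 0x220010) (Net.cons (nat_lit 1) (nat_lit 0x411100) Net.nil)))))))))

theorem p_g159_ok : Net.ok 24 p_g159 = true := by decide +kernel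

noncomputable def p_g160 : Net := (Net.cons (nat_lit 1) (nat_lit 0x501100) (Net.cons (nat_lit 2) (nat_lit 0x201100) (Net.cons (nat_lit 4) (nat_lit 263424) (Net.cons (nat_lit 8) (nat_lit 4) (Net.cons (nat_lit 16) (nat_lit 68) (Net.cons (nat_lit 8) (nat_lit 54) (Net.cons (nat_lit 4) (nat_lit 462594) (Net.cons (nat_lit 2) (nat_lit 0x201100) (Net.cons (nat_lit 1) (nat_lit 0x501100) Net.nil)))))))))

theorem p_g160_ok : Net.ok 24 p_g160 = true := by decide +kernel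

noncomputable def p_g161 : Net := (Net.cons (nat_lit 1) (nat_lit 266560) (Net.cons (nat_lit 2) (nat_lit 0x300100) (Net.cons (nat_lit 4) (nat_lit 590080) (Net.cons (nat_lit 8) (nat_lit 1) (Net.cons (nat_lit 16) (nat_lit 133) (Net.cons (nat_lit 8) (nat_lit 115) (Net.cons (nat_lit 4) (nat_lit 721152) (Net.cons (nat_lit 2) (nat_lit 0x300100) (Net.cons (nat_lit 1) (nat_lit 266560) Net.nil)))))))))

theorem p_g161_ok : Net.ok 24 p_g161 = true := by decide +kernel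

noncomputable def p_g162 : Net := (Net.cons (nat_lit 1) (nat_lit 69888) (Net.cons (nat_lit 2) (nat_lit 272) (Net.cons (nat_lit 4) (nat_lit 787712) (Net.cons (nat_lit 8) (nat_lit 1) (Net.cons (nat_lit 16) (nat_lit 193) (Net.cons (nat_lit 8) (nat_lit 55) (Net.cons (nat_lit 4) (nat_lit 788226) (Net.cons (nat_lit 2) (nat_lit 272) (Net.cons (nat_lit 1) (nat_lit 0x411100) Net.nil)))))))))

theorem p_g162_ok : Net.ok 24 p_g162 = true := by decide +kernel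

noncomputable def ch2_Q : List Net := [p_g157, p_g158, p_g159, p_g160, p_g161, p_g162]

theorem ch2_Q_ok : okE 24 ch2_Q = true := (okE_cons.2 ⟨p_g157_ok, (okE_cons.2 ⟨p_g158_ok, (okE_cons.2 ⟨p_g159_ok, (okE_cons.2 ⟨p_g160_ok, (okE_cons.2 ⟨p_g161_ok, (okE_cons.2 ⟨p_g162_ok, (okE_nil 24)⟩)⟩)⟩)⟩)⟩)⟩)

noncomputable def p_g163 : Net := (Net.cons (nat_lit 1) (nat_lit 69892) (Net.cons (nat_lit 2) (nat_lit 0x220000) (Net.cons (nat_lit 8) (nat_lit 153) (Net.cons (nat_lit 16) (nat_lit 153) (Net.cons (nat_lit 8) (nat_lit 187) (Net.cons (nat_lit 4) (nat_lit 66306) (Net.cons (nat_lit 2) (nat_lit 0x220001) (Net.cons (nat_lit 1) (nat_lit 0x411104) Net.nil))))))))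

theorem p_g163_ok : Net.ok 24 p_g163 = true := by decide +kernel

noncomputable def p_V164 : List Net := [p_g158, p_g163]

theorem p_V164_ok : okE 24 p_V164 = true := (okE_cons.2 ⟨p_g158_ok, (okE_cons.2 ⟨p_g163_ok, (okE_nil 24)⟩)⟩)

noncomputable def p_g166 : Net := (Net.cons (nat_lit 1) (nat_lit 65536) (Net.cons (nat_lit 2) (nat_lit 0x212010) (Net.cons (nat_lit 4) (nat_lit 720896) (Net.cons (nat_lit 8) (nat_lit 40) (Net.cons (nat_lit 16) (nat_lit 184) (Net.cons (nat_lit 8) (nat_lit 108) (Net.cons (nat_lit 4) (nat_lit 722182) (Net.cons (nat_lit 2) (nat_lit 0x212010) (Net.cons (nat_lit 1) (nat_lit 65536) Net.nil)))))))))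

theorem p_g166_ok : Net.ok 24 p_g166 = true := by decide +kernel

noncomputable def p_g167 : Net := (Net.cons (nat_lit 1) (nat_lit 20800) (Net.cons (nat_lit 2) (nat_lit 0x310000) (Net.cons (nat_lit 4) (nat_lit 262144) (Net.cons (nat_lit 8) (nat_lit 216) (Net.cons (nat_lit 16) (nat_lit 216) (Net.cons (nat_lit 8) (nat_lit 250) (Net.cons (nat_lit 4) (nat_lit 920070) (Net.cons (nat_lit 2) (nat_lit 0x310000) (Net.cons (nat_lit 1) (nat_lit 20800) Net.nil)))))))))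

theorem p_g167_ok : Net.ok 24 p_g167 = true := by decide +kernel

noncomputable def p_g168 : Net := (Net.cons (nat_lit 1) (nat_lit 331840) (Net.cons (nat_lit 2) (nat_lit 0x200300) (Net.cons (nat_lit 4) (nat_lit 788736) (Net.cons (nat_lit 8) (nat_lit 75) (Net.cons (nat_lit 16) (nat_lit 203) (Net.cons (nat_lit 8) (nat_lit 91) (Net.cons (nat_lit 4) (nat_lit 788740) (Net.cons (nat_lit 2) (nat_lit 0x200300) (Net.cons (nat_lit 1) (nat_lit 0x451040) Net.nil)))))))))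

theorem p_g168_ok : Net.ok 24 p_g168 = true := by decide +kernel

noncomputable def p_V169 : List Net := [p_g166, p_g167, p_g168, p_g162]

theorem p_V169_ok : okE 24 p_V169 = true := (okE_cons.2 ⟨p_g166_ok, (okE_cons.2 ⟨p_g167_ok, (okE_cons.2 ⟨p_g168_ok, (okE_cons.2 ⟨p_g162_ok, (okE_nil 24)⟩)⟩)⟩)⟩)

noncomputable def p_V171 : List Net := [p_g161, p_g167]

theorem p_V171_ok : okE 24 p_V171 = true := (okE_cons.2 ⟨p_g161_ok, (okE_cons.2 ⟨p_g167_ok, (okE_nil 24)⟩)⟩)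

noncomputable def p_g173 : Net := (Net.cons (nat_lit 1) (nat_lit 0x445010) (Net.cons (nat_lit 2) (nat_lit 135680) (Net.cons (nat_lit 4) (nat_lit 458752) (Net.cons (nat_lit 8) (nat_lit 82) (Net.cons (nat_lit 16) (nat_lit 118) (Net.cons (nat_lit 8) (nat_lit 150) (Net.cons (nat_lit 4) (nat_lit 721924) (Net.cons (nat_lit 2) (nat_lit 135680) (Net.cons (nat_lit 1) (nat_lit 0x445010) Net.nil)))))))))

theorem p_g173_ok : Net.ok 24 p_g173 = true := by decide +kernel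

noncomputable def p_V174 : List Net := [p_g168, p_g173]

theorem p_V174_ok : okE 24 p_V174 = true := (okE_cons.2 ⟨p_g168_ok, (okE_cons.2 ⟨p_g173_ok, (okE_nil 24)⟩)⟩)

noncomputable def p_g176 : Net := (Net.cons (nat_lit 1) (nat_lit 0x410000) (Net.cons (nat_lit 2) (nat_lit 0x102200) (Net.cons (nat_lit 4) (nat_lit 789504) (Net.cons (nat_lit 8) (nat_lit 72) (Net.cons (nat_lit 16) (nat_lit 200) (Net.cons (nat_lit 8) (nat_lit 76) (Net.cons (nat_lit 4) (nat_lit 986624) (Net.cons (nat_lit 2) (nat_lit 0x102210) (Net.cons (nat_lit 1) (nat_lit 0x410000) Net.nil)))))))))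

theorem p_g176_ok : Net.ok 24 p_g176 = true := by decide +kernel

noncomputable def p_V177 : List Net := [p_g173, p_g176]

theorem p_V177_ok : okE 24 p_V177 = true := (okE_cons.2 ⟨p_g173_ok, (okE_cons.2 ⟨p_g176_ok, (okE_nil 24)⟩)⟩)

noncomputable def ch2_o_E3 : List Net := []

theorem ch2_o_E3_ok : okE 24 ch2_o_E3 = true := (okE_nil 24)

noncomputable def ch2_o_G2 : List Net := [p_g173, p_g176]

theorem ch2_o_G2_ok : okE 24 ch2_o_G2 = true := (okE_cons.2 ⟨p_g173_ok, (okE_cons.2 ⟨p_g176_ok, (okE_nil 24)⟩)⟩)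

noncomputable def ch2_o_E2 : List Net := [p_g173, p_g176, p_g168]

theorem ch2_o_E2_ok : okE 24 ch2_o_E2 = true := (okE_cons.2 ⟨p_g173_ok, (okE_cons.2 ⟨p_g176_ok, (okE_cons.2 ⟨p_g168_ok, (okE_nil 24)⟩)⟩)⟩)

noncomputable def ch2_o_G1 : List Net := [p_g161, p_g167, p_g173, p_g176, p_g168]

theorem ch2_o_G1_ok : okE 24 ch2_o_G1 = true := (okE_cons.2 ⟨p_g161_ok, (okE_cons.2 ⟨p_g167_ok, (okE_cons.2 ⟨p_g173_ok, (okE_cons.2 ⟨p_g176_ok, (okE_cons.2 ⟨p_g168_ok, (okE_nil 24)⟩)⟩)⟩)⟩)⟩)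

noncomputable def ch2_o_E1 : List Net := [p_g161, p_g167, p_g166, p_g162, p_g173, p_g176, p_g168]

theorem ch2_o_E1_ok : okE 24 ch2_o_E1 = true := (okE_cons.2 ⟨p_g161_ok, (okE_cons.2 ⟨p_g167_ok, (okE_cons.2 ⟨p_g166_ok, (okE_cons.2 ⟨p_g162_ok, (okE_cons.2 ⟨p_g173_ok, (okE_cons.2 ⟨p_g176_ok, (okE_cons.2 ⟨p_g168_ok, (okE_nil 24)⟩)⟩)⟩)⟩)⟩)⟩)⟩)

noncomputable def ch2_o_G0 : List Net := [p_g158, p_g163, p_g161, p_g167, p_g166, p_g162, p_g173, p_g176, p_g168]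

theorem ch2_o_G0_ok : okE 24 ch2_o_G0 = true := (okE_cons.2 ⟨p_g158_ok, (okE_cons.2 ⟨p_g163_ok, (okE_cons.2 ⟨p_g161_ok, (okE_cons.2 ⟨p_g167_ok, (okE_cons.2 ⟨p_g166_ok, (okE_cons.2 ⟨p_g162_ok, (okE_cons.2 ⟨p_g173_ok, (okE_cons.2 ⟨p_g176_ok, (okE_cons.2 ⟨p_g168_ok, (okE_nil 24)⟩)⟩)⟩)⟩)⟩)⟩)⟩)⟩)⟩)

noncomputable def ch2_o_E0 : List Net := [p_g158, p_g163, p_g157, p_g159, p_g160, p_g161, p_g167, p_g166, p_g162, p_g173, p_g176, p_g168]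

theorem ch2_o_E0_ok : okE 24 ch2_o_E0 = true := (okE_cons.2 ⟨p_g158_ok, (okE_cons.2 ⟨p_g163_ok, (okE_cons.2 ⟨p_g157_ok, (okE_cons.2 ⟨p_g159_ok, (okE_cons.2 ⟨p_g160_ok, (okE_cons.2 ⟨p_g161_ok, (okE_cons.2 ⟨p_g167_ok, (okE_cons.2 ⟨p_g166_ok, (okE_cons.2 ⟨p_g162_ok, (okE_cons.2 ⟨p_g173_ok, (okE_cons.2 ⟨p_g176_ok, (okE_cons.2 ⟨p_g168_ok, (okE_nil 24)⟩)⟩)⟩)⟩)⟩)⟩)⟩)⟩)⟩)⟩)⟩)⟩)

noncomputable def p_g186 : Net := (Net.cons (nat_lit 1) (nat_lit 0x545100) (Net.cons (nat_lit 2) (nat_lit 0x303000) (Net.cons (nat_lit 4) (nat_lit 65792) (Net.cons (nat_lit 8) (nat_lit 129) (Net.cons (nat_lit 16) (nat_lit 209) (Net.cons (nat_lit 8) (nat_lit 129) (Net.cons (nat_lit 4) (nat_lit 919306) (Net.cons (nat_lit 2) (nat_lit 0x113022) (Net.cons (nat_lit 1) (nat_lit 87045) Net.nil)))))))))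

theorem p_g186_ok : Net.ok 24 p_g186 = true := by decide +kernel

noncomputable def p_g187 : Net := (Net.cons (nat_lit 1) (nat_lit 0x101004) (Net.cons (nat_lit 2) (nat_lit 200704) (Net.cons (nat_lit 4) (nat_lit 656128) (Net.cons (nat_lit 8) (nat_lit 137) (Net.cons (nat_lit 16) (nat_lit 249) (Net.cons (nat_lit 8) (nat_lit 91) (Net.cons (nat_lit 4) (nat_lit 396808) (Net.cons (nat_lit 2) (nat_lit 205074) (Net.cons (nat_lit 1) (nat_lit 0x505454) Net.nil)))))))))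

theorem p_g187_ok : Net.ok 24 p_g187 = true := by decide +kernel

theorem p_le6 : grp 24 p_V5 ≤ grp 24 E :=
  grp_le_of_memB p_hn p_hk E_ok p_V5_ok (ws := [nat_lit 0x1010104020202030202, nat_lit 131587]) (by decide +kernel)

theorem p_le10 : grp 24 p_V9 ≤ grp 24 p_V5 :=
  grp_le_of_memB p_hn p_hk p_V5_ok p_V9_ok (ws := [nat_lit 0x2030103020402, nat_lit 0x2020301]) (by decide +kernel)

theorem p_le14 : grp 24 p_V13 ≤ grp 24 p_V9 :=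
  grp_le_of_memB p_hn p_hk p_V9_ok p_V13_ok (ws := [nat_lit 0x104040203030302, nat_lit 0x2020302040103030104]) (by decide +kernel)

theorem p_le18 : grp 24 p_V17 ≤ grp 24 p_V13 :=
  grp_le_of_memB p_hn p_hk p_V13_ok p_V17_ok (ws := [nat_lit 0x4040103, nat_lit 0x40103020301]) (by decide +kernel)

theorem p_le23 : grp 24 p_V22 ≤ grp 24 p_V17 :=
  grp_le_of_memB p_hn p_hk p_V17_ok p_V22_ok (ws := [nat_lit 0x101040401030301, nat_lit 0x1040404020202030301, nat_lit 0x402040401030202020301]) (by decide +kernel)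

theorem p_le30 : grp 24 p_V29 ≤ grp 24 p_V22 :=
  grp_le_of_memB p_hn p_hk p_V22_ok p_V29_ok (ws := [nat_lit 0x401040202050302, nat_lit 0x10104040504050406030601, nat_lit 0x60606040401, nat_lit 0x1060305050502050202, nat_lit 0x30306060601050205]) (by decide +kernel)

theorem lb_le : grp 24 lb_E ≤ grp 24 E :=
  (grp_cons_le ((le_refl (grp 24 E)) (toPerm_mem_grp (E := E) (by simp [E]))) (grp_cons_le ((le_refl (grp 24 E)) (toPerm_mem_grp (E := E) (by simp [E]))) (grp_cons_le ((p_le6.trans (le_refl (grp 24 E))) (toPerm_mem_grp (E := p_V5) (by simp [p_V5]))) (grp_cons_le ((p_le6.trans (le_refl (grp 24 E))) (toPerm_mem_grp (E := p_V5) (by simp [p_V5]))) (grp_cons_le ((p_le10.trans (p_le6.trans (le_refl (grp 24 E)))) (toPerm_mem_grp (E := p_V9) (by simp [p_V9]))) (grp_cons_le ((p_le10.trans (p_le6.trans (le_refl (grp 24 E)))) (toPerm_mem_grp (E := p_V9)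 (by simp [p_V9]))) (grp_cons_le ((p_le14.trans (p_le10.trans (p_le6.trans (le_refl (grp 24 E))))) (toPerm_mem_grp (E := p_V13) (by simp [p_V13]))) (grp_cons_le ((p_le14.trans (p_le10.trans (p_le6.trans (le_refl (grp 24 E))))) (toPerm_mem_grp (E := p_V13) (by simp [p_V13]))) (grp_cons_le ((p_le18.trans (p_le14.trans (p_le10.trans (p_le6.trans (le_refl (grp 24 E)))))) (toPerm_mem_grp (E := p_V17) (by simp [p_V17]))) (grp_cons_le ((p_le18.trans (p_le14.trans (p_le10.trans (p_le6.trans (le_refl (grp 24 E)))))) (toPerm_mem_grp (E := p_V17) (by simp [p_V17]))) (grp_cons_le ((p_le23.trans (p_le18.trans (p_le14.trans (p_le10.trans (p_le6.trans (le_refl (grp 24 E))))))) (toPerm_mem_grp (E := p_V22) (by simp [p_V22]))) (grp_cons_le ((p_le23.trans (p_le18.trans (p_le14.trans (p_le10.trans (p_le6.trans (le_refl (grp 24 E))))))) (toPerm_mem_grp (E := p_V22)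 (by simp [p_V22]))) (grp_cons_le ((p_le23.trans (p_le18.trans (p_le14.trans (p_le10.trans (p_le6.trans (le_refl (grp 24 E))))))) (toPerm_mem_grp (E := p_V22) (by simp [p_V22]))) (grp_cons_le ((p_le30.trans (p_le23.trans (p_le18.trans (p_le14.trans (p_le10.trans (p_le6.trans (le_refl (grp 24 E)))))))) (toPerm_mem_grp (E := p_V29) (by simp [p_V29]))) (grp_cons_le ((p_le30.trans (p_le23.trans (p_le18.trans (p_le14.trans (p_le10.trans (p_le6.trans (le_refl (grp 24 E)))))))) (toPerm_mem_grp (E := p_V29) (by simp [p_V29]))) (grp_cons_le ((p_le30.trans (p_le23.trans (p_le18.trans (p_le14.trans (p_le10.trans (p_le6.trans (le_refl (grp 24 E)))))))) (toPerm_mem_grp (E := p_V29) (by simp [p_V29]))) (grp_cons_le ((p_le30.trans (p_le23.trans (p_le18.trans (p_le14.trans (p_le10.trans (p_le6.trans (le_refl (grp 24 E)))))))) (toPerm_mem_grp (E := p_V29) (by simp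 [p_V29]))) (grp_cons_le ((p_le30.trans (p_le23.trans (p_le18.trans (p_le14.trans (p_le10.trans (p_le6.trans (le_refl (grp 24 E)))))))) (toPerm_mem_grp (E := p_V29) (by simp [p_V29]))) (grp_nil_le _)))))))))))))))))))

noncomputable def lb_ch : Ch := (Ch.cons (nat_lit 0) [nat_lit 1, nat_lit 3] (Ch.cons (nat_lit 1) [nat_lit 5, nat_lit 7] (Ch.cons (nat_lit 2) [nat_lit 9, nat_lit 11] (Ch.cons (nat_lit 3) [nat_lit 13, nat_lit 15] (Ch.cons (nat_lit 4) [nat_lit 17, nat_lit 19] (Ch.cons (nat_lit 7) [nat_lit 21, nat_lit 23, nat_lit 25] (Ch.cons (nat_lit 5) [nat_lit 27, nat_lit 29, nat_lit 31, nat_lit 33, nat_lit 35] Ch.nil)))))))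

theorem lb_chk : Ch.chk 24 5 (lab 24 5) lb_E lb_ch 244823040 = true :=
  by decide +kernel

theorem lb_ge : 244823040 ≤ Nat.card (grp 24 E) :=
  (Ch.le_card_grp p_hn lb_E_ok lb_chk).trans (Subgroup.card_le_of_le lb_le)

theorem eq_lb : grp 24 E = grp 24 lb_E :=
  le_antisymm (grp_mono (List.subset_append_left E [p_g3, p_g4, p_g7, p_g8, p_g11, p_g12, p_g15, p_g16, p_g19, p_g20, p_g21, p_g24, p_g25, p_g26, p_g27, p_g28])) lb_le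

noncomputable def equiv : M24 ≃* grp 24 E := (EvG.mathieu_equiv H74.test24 E_ok (cs := [974855768169945087371542203801344592, 844488761218678937840095785496449456]) (by decide +kernel) (H42.card_M24.le.trans lb_ge)).some

theorem card_G : Nat.card (grp 24 E) = 244823040 :=
  (Nat.card_congr equiv.toEquiv).symm.trans H42.card_M24

theorem T_s0 : Stab 24 (grp 24 E) [] lb_E 244823040 :=
  Stab.root' lb_E_ok eq_lb card_G

theorem G_le : (grp 24 E) ≤ (grp 24 E) :=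
  le_rfl

theorem nrm : (grp 24 E) ≤ Subgroup.normalizer ((grp 24 E) : Set (Equiv.Perm (Fin 24))) :=
  Subgroup.le_normalizer

theorem p_le31 : grp 24 Z ≤ grp 24 lb_E :=
  grp_le_of_memB p_hn p_hk lb_E_ok Z_ok (ws := []) (by decide +kernel)

theorem Z_le : grp 24 Z ≤ (grp 24 E) :=
  (p_le31.trans T_s0.le)

theorem Z_sym : Sym 24 (grp 24 E) E Z 0 :=
  Sym.of_lab p_hn p_hk E_ok Z_ok Z_le (kT := 0) (by decide +kernel)

theorem T_s1 : Stab 24 (grp 24 E) [nat_lit 0] p_V32 10200960 :=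
  Stab.step (k := 5) (L := (lab 24 5)) p_hn T_s0 p_V32_ok (grp_mono (List.subset_append_right [p_g1, p_g2] _)) (c := (Ch.cons (nat_lit 1) [nat_lit 1, nat_lit 3] (Ch.cons (nat_lit 2) [nat_lit 5, nat_lit 7] (Ch.cons (nat_lit 3) [nat_lit 9, nat_lit 11] (Ch.cons (nat_lit 4) [nat_lit 13, nat_lit 15] (Ch.cons (nat_lit 7) [nat_lit 17, nat_lit 19, nat_lit 21] (Ch.cons (nat_lit 5) [nat_lit 23, nat_lit 25, nat_lit 27, nat_lit 29, nat_lit 31] Ch.nil))))))) (by decide +kernel)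

theorem T_s2 : Stab 24 (grp 24 E) [nat_lit 1, nat_lit 0] p_V33 443520 :=
  Stab.step (k := 5) (L := (lab 24 5)) p_hn T_s1 p_V33_ok (grp_mono (List.subset_append_right [p_g3, p_g4] _)) (c := (Ch.cons (nat_lit 2) [nat_lit 1, nat_lit 3] (Ch.cons (nat_lit 3) [nat_lit 5, nat_lit 7] (Ch.cons (nat_lit 4) [nat_lit 9, nat_lit 11] (Ch.cons (nat_lit 7) [nat_lit 13, nat_lit 15, nat_lit 17] (Ch.cons (nat_lit 5) [nat_lit 19, nat_lit 21, nat_lit 23, nat_lit 25, nat_lit 27] Ch.nil)))))) (by decide +kernel)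

theorem T_s3 : Stab 24 (grp 24 E) [nat_lit 2, nat_lit 1, nat_lit 0] p_V34 20160 :=
  Stab.step (k := 5) (L := (lab 24 5)) p_hn T_s2 p_V34_ok (grp_mono (List.subset_append_right [p_g7, p_g8] _)) (c := (Ch.cons (nat_lit 3) [nat_lit 1, nat_lit 3] (Ch.cons (nat_lit 4) [nat_lit 5, nat_lit 7] (Ch.cons (nat_lit 7) [nat_lit 9, nat_lit 11, nat_lit 13] (Ch.cons (nat_lit 5) [nat_lit 15, nat_lit 17, nat_lit 19, nat_lit 21, nat_lit 23] Ch.nil))))) (by decide +kernel)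

theorem T_s4 : Stab 24 (grp 24 E) [nat_lit 3, nat_lit 2, nat_lit 1, nat_lit 0] p_V35 960 :=
  Stab.step (k := 5) (L := (lab 24 5)) p_hn T_s3 p_V35_ok (grp_mono (List.subset_append_right [p_g11, p_g12] _)) (c := (Ch.cons (nat_lit 4) [nat_lit 1, nat_lit 3] (Ch.cons (nat_lit 7) [nat_lit 5, nat_lit 7, nat_lit 9] (Ch.cons (nat_lit 5) [nat_lit 11, nat_lit 13, nat_lit 15, nat_lit 17, nat_lit 19] Ch.nil)))) (by decide +kernel)

theorem T_s5 : Stab 24 (grp 24 E) [nat_lit 4, nat_lit 3, nat_lit 2, nat_lit 1, nat_lit 0] p_V36 48 :=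
  Stab.step (k := 5) (L := (lab 24 5)) p_hn T_s4 p_V36_ok (grp_mono (List.subset_append_right [p_g15, p_g16] _)) (c := (Ch.cons (nat_lit 7) [nat_lit 1, nat_lit 3, nat_lit 5] (Ch.cons (nat_lit 5) [nat_lit 7, nat_lit 9, nat_lit 11, nat_lit 13, nat_lit 15] Ch.nil))) (by decide +kernel)

theorem T_s6 : Stab 24 (grp 24 E) [nat_lit 7, nat_lit 4, nat_lit 3, nat_lit 2, nat_lit 1, nat_lit 0] p_V37 16 :=
  Stab.step (k := 5) (L := (lab 24 5)) p_hn T_s5 p_V37_ok (grp_mono (List.subset_append_right [p_g19, p_g20, p_g21] _)) (c := (Ch.cons (nat_lit 5) [nat_lit 1, nat_lit 3, nat_lit 5, nat_lit 7, nat_lit 9] Ch.nil)) (by decide +kernel)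

theorem T_s7 : Stab 24 (grp 24 E) [nat_lit 5, nat_lit 7, nat_lit 4, nat_lit 3, nat_lit 2, nat_lit 1, nat_lit 0] p_V38 1 :=
  Stab.step (k := 5) (L := (lab 24 5)) p_hn T_s6 p_V38_ok (grp_mono (List.subset_append_right [p_g24, p_g25, p_g26, p_g27, p_g28] _)) (c := Ch.nil) (by decide +kernel)

theorem p_g24_T : Net.toPerm 24 p_g24 ∈ (grp 24 E) :=
  T_s6.le (toPerm_mem_grp (E := p_V37) (List.Mem.head _))

theorem p_g25_T : Net.toPerm 24 p_g25 ∈ (grp 24 E) :=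
  T_s6.le (toPerm_mem_grp (E := p_V37) (List.Mem.tail _ (List.Mem.head _)))

theorem p_g26_T : Net.toPerm 24 p_g26 ∈ (grp 24 E) :=
  T_s6.le (toPerm_mem_grp (E := p_V37) (List.Mem.tail _ (List.Mem.tail _ (List.Mem.head _))))

theorem p_g27_T : Net.toPerm 24 p_g27 ∈ (grp 24 E) :=
  T_s6.le (toPerm_mem_grp (E := p_V37) (List.Mem.tail _ (List.Mem.tail _ (List.Mem.tail _ (List.Mem.head _)))))

theorem p_g28_T : Net.toPerm 24 p_g28 ∈ (grp 24 E) :=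
  T_s6.le (toPerm_mem_grp (E := p_V37) (List.Mem.tail _ (List.Mem.tail _ (List.Mem.tail _ (List.Mem.tail _ (List.Mem.head _))))))

theorem p_g19_T : Net.toPerm 24 p_g19 ∈ (grp 24 E) :=
  T_s5.le (toPerm_mem_grp (E := p_V36) (List.Mem.head _))

theorem p_g20_T : Net.toPerm 24 p_g20 ∈ (grp 24 E) :=
  T_s5.le (toPerm_mem_grp (E := p_V36) (List.Mem.tail _ (List.Mem.head _)))

theorem p_g21_T : Net.toPerm 24 p_g21 ∈ (grp 24 E) :=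
  T_s5.le (toPerm_mem_grp (E := p_V36) (List.Mem.tail _ (List.Mem.tail _ (List.Mem.head _))))

theorem p_g15_T : Net.toPerm 24 p_g15 ∈ (grp 24 E) :=
  T_s4.le (toPerm_mem_grp (E := p_V35) (List.Mem.head _))

theorem p_g16_T : Net.toPerm 24 p_g16 ∈ (grp 24 E) :=
  T_s4.le (toPerm_mem_grp (E := p_V35) (List.Mem.tail _ (List.Mem.head _)))

theorem p_g11_T : Net.toPerm 24 p_g11 ∈ (grp 24 E) :=
  T_s3.le (toPerm_mem_grp (E := p_V34) (List.Mem.head _))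

theorem p_g12_T : Net.toPerm 24 p_g12 ∈ (grp 24 E) :=
  T_s3.le (toPerm_mem_grp (E := p_V34) (List.Mem.tail _ (List.Mem.head _)))

theorem p_g7_T : Net.toPerm 24 p_g7 ∈ (grp 24 E) :=
  T_s2.le (toPerm_mem_grp (E := p_V33) (List.Mem.head _))

theorem p_g8_T : Net.toPerm 24 p_g8 ∈ (grp 24 E) :=
  T_s2.le (toPerm_mem_grp (E := p_V33) (List.Mem.tail _ (List.Mem.head _)))

theorem p_g3_T : Net.toPerm 24 p_g3 ∈ (grp 24 E) :=
  T_s1.le (toPerm_mem_grp (E := p_V32) (List.Mem.head _))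

theorem p_g4_T : Net.toPerm 24 p_g4 ∈ (grp 24 E) :=
  T_s1.le (toPerm_mem_grp (E := p_V32) (List.Mem.tail _ (List.Mem.head _)))

theorem p_g1_T : Net.toPerm 24 p_g1 ∈ (grp 24 E) :=
  T_s0.le (toPerm_mem_grp (E := lb_E) (List.Mem.head _))

theorem p_g2_T : Net.toPerm 24 p_g2 ∈ (grp 24 E) :=
  T_s0.le (toPerm_mem_grp (E := lb_E) (List.Mem.tail _ (List.Mem.head _)))

noncomputable def T_s7_O : ℕ := (nat_lit 0x933332e0f83ec67318b26d92000001000002000004000008000010000080000020)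

theorem T_s7_F : Frame 24 (grp 24 E) 7 11 T_s7_O 1 1 :=
  IsBase.frame T_s7.isBase (by decide +kernel)

noncomputable def Z_cnt_L : List ℕ := [7, 11, T_s7_O, 1, 0]

theorem Z_cnt_P : Prob 24 5 (grp 24 E) Z_cnt_EG E E Z Z_cnt_L 0 0 :=
  Sym.prob p_hn p_hk Z_sym Z_cnt_EG_ok (grp_cons_le p_g24_T (grp_cons_le p_g25_T (grp_cons_le p_g26_T (grp_cons_le p_g27_T (grp_cons_le p_g28_T (grp_cons_le p_g19_T (grp_cons_le p_g20_T (grp_cons_le p_g21_T (grp_cons_le p_g15_T (grp_cons_le p_g16_T (grp_cons_le p_g11_T (grp_cons_le p_g12_T (grp_cons_le p_g7_T (grp_cons_le p_g8_T (grp_cons_le p_g3_T (grp_cons_le p_g4_T (grp_cons_le p_g1_T (grp_cons_le p_g2_T (grp_nil_le _))))))))))))))))))) (Frames.cons T_s7_F Frames.nil) E_ok _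

noncomputable def Z_cnt_t : BT := (BT.fix (nat_lit 0x1010101) (BT.fix (nat_lit 257) (BT.dif (nat_lit 1) (nat_lit 0) (BT.fix (nat_lit 0x303030303) (BT.dif (nat_lit 1) (nat_lit 0) (BT.and (nat_lit 1) (nat_lit 4) (BT.fix (nat_lit 3) (BT.dif (nat_lit 1) (nat_lit 0) (BT.dif (nat_lit 4) (nat_lit 7) (BT.img (nat_lit 3) (nat_lit 0) (BT.and (nat_lit 2) (nat_lit 0) (BT.img (nat_lit 1) (nat_lit 0) (BT.and (nat_lit 7) (nat_lit 0) (BT.dif (nat_lit 15) (nat_lit 12) (BT.fix (nat_lit 1) (BT.img (nat_lit 3) (nat_lit 2) (BT.and (nat_lit 1) (nat_lit 0) (BT.img (nat_lit 3) (nat_lit 0) (BT.and (nat_lit 4) (nat_lit 0) (BT.img (nat_lit 1) (nat_lit 0) (BT.and (nat_lit 6) (nat_lit 0) (BT.dif (nat_lit 13) (nat_lit 11) (BT.img (nat_lit 1) (nat_lit 13) (BT.and (nat_lit 14) (nat_lit 0) (BT.dif (nat_lit 22) (nat_lit 9) (BT.dif (nat_lit 0) (nat_lit 18) (BT.one (nat_lit 0) (nat_lit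 0x70b11111512141a1a1d2203) (nat_lit 0x70b11111512141a1a1d2203) [nat_lit 13, nat_lit 5, nat_lit 15, nat_lit 4, nat_lit 2, nat_lit 0, nat_lit 19])))))))))))))))))))))))))))

theorem Z_cnt : Cnt 24 (grp 24 E) E E 0 0 0 0 1 :=
  BT.sound Z_cnt_P Known.nil (t := Z_cnt_t) (d := 0) (by decide +kernel)

theorem Z_ge : 1 ≤ Nat.card (grp 24 Z) :=
  Ch.le_card_grp (k := 5) (L := (lab 24 5)) p_hn Z_ok (c := Ch.nil) (by decide +kernel)

theorem Z_eq : (grp 24 E) ⊓ Subgroup.centralizer (grp 24 E : Set (Equiv.Perm (Fin 24))) = grp 24 Z :=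
  cent_grp_eq Z_sym Z_cnt Z_ge

theorem Z_card : Nat.card (grp 24 Z) = 1 :=
  (Z_sym.mem_iff Z_cnt Z_ge).1

theorem amb : EvG.Amb (grp 24 E) (grp 24 E) :=
  EvG.Amb.of_out G_le nrm (by rw [Z_eq]; exact Z_card) equiv S2064.result (by rw [card_G])

theorem p_le46 : grp 24 nt_c1_K ≤ grp 24 lb_E :=
  grp_le_of_memB p_hn p_hk lb_E_ok nt_c1_K_ok (ws := [nat_lit 0x1f15111f0d1214090d051002, nat_lit 0x211611110d11090e0621, nat_lit 0x1b2312210e100a0d, nat_lit 0x21111f0e1a0b0a070e, nat_lit 0x231611110f0b0a0718, nat_lit 0x1b1f211611210e130621]) (by decide +kernel)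

theorem nt_c1_le : grp 24 nt_c1_K ≤ (grp 24 E) :=
  (p_le46.trans T_s0.le)

theorem nt_c1_mem : Net.toPerm 24 p_g39 ∈ (grp 24 E) :=
  nt_c1_le (mem_grp_of_memB p_hn p_hk nt_c1_K_ok p_g39_ok (w := (nat_lit 0x905090305010401)) (by decide +kernel))

theorem nt_c1_sym : Sym 24 (grp 24 E) [p_g39] nt_c1_K 0 :=
  Sym.of_lab p_hn p_hk (okE_cons.2 ⟨p_g39_ok, okE_nil _⟩) nt_c1_K_ok nt_c1_le (kT := 0) (by decide +kernel)

noncomputable def T_s5_O : ℕ := (nat_lit 0x1480000001000002000004000008000010)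

theorem T_s5_F : Frame 24 (grp 24 E) 5 6 T_s5_O 0 1 :=
  Stab.frame p_hn T_s5 (by decide +kernel)

noncomputable def nt_c1_cnt_L : List ℕ := [5, 6, T_s5_O, 0, 0, 7, 11, T_s7_O, 1, 0]

theorem nt_c1_cnt_P : Prob 24 5 (grp 24 E) nt_c1_cnt_EG [p_g39] [p_g39] nt_c1_K nt_c1_cnt_L 0 0 :=
  Sym.prob p_hn p_hk nt_c1_sym nt_c1_cnt_EG_ok (grp_cons_le p_g15_T (grp_cons_le p_g16_T (grp_cons_le p_g19_T (grp_cons_le p_g20_T (grp_cons_le p_g21_T (grp_cons_le p_g24_T (grp_cons_le p_g25_T (grp_cons_le p_g26_T (grp_cons_le p_g27_T (grp_cons_le p_g28_T (grp_cons_le p_g11_T (grp_cons_le p_g12_T (grp_cons_le p_g7_T (grp_cons_le p_g8_T (grp_cons_le p_g3_T (grp_cons_le p_g4_T (grp_cons_le p_g1_T (grp_cons_le p_g2_T (grp_nil_le _))))))))))))))))))) (Frames.cons T_s5_F (Frames.cons T_s7_F Frames.nil)) (okE_cons.2 ⟨p_g39_ok, okE_nil _⟩) _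

noncomputable def nt_c1_cnt_t : BT := (BT.fix (nat_lit 1) (BT.dif (nat_lit 3) (nat_lit 0) (BT.br (nat_lit 0) (nat_lit 0) [nat_lit 1, nat_lit 3] (BT.kid (nat_lit 0) (nat_lit 1344) (BT.dif (nat_lit 1) (nat_lit 0) (BT.img (nat_lit 1) (nat_lit 1) (BT.dif (nat_lit 1) (nat_lit 0) (BT.br (nat_lit 0) (nat_lit 15) [nat_lit 3, nat_lit 5] (BT.kid (nat_lit 15) (nat_lit 96) (BT.dif (nat_lit 5) (nat_lit 0) (BT.dif (nat_lit 0) (nat_lit 5) (BT.dif (nat_lit 0) (nat_lit 4) (BT.img (nat_lit 1) (nat_lit 3) (BT.dif (nat_lit 1) (nat_lit 0) (BT.br (nat_lit 0) (nat_lit 13) [nat_lit 5, nat_lit 7, nat_lit 9] (BT.kid (nat_lit 13) (nat_lit 8) (BT.dif (nat_lit 11) (nat_lit 0) (BT.dif (nat_lit 0) (nat_lit 11) (BT.dif (nat_lit 0) (nat_lit 10) (BT.dif (nat_lit 0) (nat_lit 9) (BT.dif (nat_lit 0) (nat_lit 6) (BT.frm (nat_lit 0) (nat_lit 0x10816161915171e18) (nat_lit 0x10816161915171e18)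 [nat_lit 5, nat_lit 7, nat_lit 11, nat_lit 13, nat_lit 15] (BT.pln (nat_lit 0) (nat_lit 5) (BT.dif (nat_lit 2) (nat_lit 0) (BT.br (nat_lit 0) (nat_lit 11) [nat_lit 7, nat_lit 9, nat_lit 11] (BT.kid (nat_lit 11) (nat_lit 1) (BT.img (nat_lit 1) (nat_lit 9) (BT.one (nat_lit 1) (nat_lit 0x1113010816161915171e18) (nat_lit 0x1113010816161915171e18) [nat_lit 1, nat_lit 0, nat_lit 10, nat_lit 12, nat_lit 16, nat_lit 18, nat_lit 20])) BT.nil)))))))))) BT.nil))))))) BT.nil))))) BT.nil))))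

theorem nt_c1_cnt : Cnt 24 (grp 24 E) [p_g39] [p_g39] 0 0 0 0 21504 :=
  BT.sound nt_c1_cnt_P Known.nil (t := nt_c1_cnt_t) (d := 0) (by decide +kernel)

theorem nt_c1_ge : 21504 ≤ Nat.card (grp 24 nt_c1_K) :=
  Ch.le_card_grp (k := 5) (L := (lab 24 5)) p_hn nt_c1_K_ok (c := (Ch.cons (nat_lit 0) [nat_lit 1] (Ch.cons (nat_lit 15) [nat_lit 3] (Ch.cons (nat_lit 13) [nat_lit 5] (Ch.cons (nat_lit 11) [nat_lit 7, nat_lit 9, nat_lit 11] Ch.nil))))) (by decide +kernel)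

theorem nt_c1_eq : (grp 24 E) ⊓ Subgroup.centralizer {Net.toPerm 24 p_g39} = grp 24 nt_c1_K :=
  cent_eq nt_c1_sym nt_c1_cnt nt_c1_ge

theorem nt_c1_card : Nat.card ↥((grp 24 E) ⊓ Subgroup.centralizer {Net.toPerm 24 p_g39}) = 21504 :=
  card_cent nt_c1_sym nt_c1_cnt nt_c1_ge

theorem nt_c1_ord : orderOf (Net.toPerm 24 p_g39) = 2 :=
  orderOf_net p_hn p_hk p_g39_ok (by decide) (ps := [2]) (by set_option linter.unusedSimpArgs false in simp [Nat.primeFactorsList_ofNat]) (by decide +kernel)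

theorem p_le52 : grp 24 nt_c2_K ≤ grp 24 lb_E :=
  grp_le_of_memB p_hn p_hk lb_E_ok nt_c2_K_ok (ws := [nat_lit 0x1b2123121f0e11090509021d, nat_lit 0x1b1611110d160a0718, nat_lit 0x1b16120d140a0a0606, nat_lit 0x1b1511170e0f090d0f0723]) (by decide +kernel)

theorem nt_c2_le : grp 24 nt_c2_K ≤ (grp 24 E) :=
  (p_le52.trans T_s0.le)

theorem nt_c2_mem : Net.toPerm 24 p_g47 ∈ (grp 24 E) :=
  nt_c2_le (mem_grp_of_memB p_hn p_hk nt_c2_K_ok p_g47_ok (w := (nat_lit 0x5010501)) (by decide +kernel))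

theorem nt_c2_sym : Sym 24 (grp 24 E) [p_g47] nt_c2_K 0 :=
  Sym.of_lab p_hn p_hk (okE_cons.2 ⟨p_g47_ok, okE_nil _⟩) nt_c2_K_ok nt_c2_le (kT := 0) (by decide +kernel)

theorem p_le55 : grp 24 p_V54 ≤ grp 24 p_V36 :=
  grp_le_of_memB p_hn p_hk p_V36_ok p_V54_ok (ws := [nat_lit 461058]) (by decide +kernel)

theorem T_s8 : Stab 24 (grp 24 E) [nat_lit 11, nat_lit 4, nat_lit 3, nat_lit 2, nat_lit 1, nat_lit 0] p_V54 3 :=
  Stab.step (k := 5) (L := (lab 24 5)) p_hn T_s5 p_V54_ok p_le55 (c := (Ch.cons (nat_lit 6) [nat_lit 1] Ch.nil)) (by decide +kernel)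

theorem T_s9 : Stab 24 (grp 24 E) [nat_lit 6, nat_lit 11, nat_lit 4, nat_lit 3, nat_lit 2, nat_lit 1, nat_lit 0] p_V56 1 :=
  Stab.step (k := 5) (L := (lab 24 5)) p_hn T_s8 p_V56_ok (grp_mono (List.subset_append_right [p_g53] _)) (c := Ch.nil) (by decide +kernel)

theorem p_g53_T : Net.toPerm 24 p_g53 ∈ (grp 24 E) :=
  T_s8.le (toPerm_mem_grp (E := p_V54) (List.Mem.head _))

noncomputable def T_s9_O : ℕ := (nat_lit 0x933332e0f83ec67318b26d92000001000002000004000008000010000800000040)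

theorem T_s9_F : Frame 24 (grp 24 E) 7 11 T_s9_O 1 1 :=
  IsBase.frame T_s9.isBase (by decide +kernel)

noncomputable def nt_c2_cnt_L : List ℕ := [5, 6, T_s5_O, 0, 0, 7, 11, T_s9_O, 1, 0]

theorem nt_c2_cnt_P : Prob 24 5 (grp 24 E) nt_c2_cnt_EG [p_g47] [p_g47] nt_c2_K nt_c2_cnt_L 0 0 :=
  Sym.prob p_hn p_hk nt_c2_sym nt_c2_cnt_EG_ok (grp_cons_le p_g15_T (grp_cons_le p_g16_T (grp_cons_le p_g19_T (grp_cons_le p_g20_T (grp_cons_le p_g21_T (grp_cons_le p_g24_T (grp_cons_le p_g25_T (grp_cons_le p_g26_T (grp_cons_le p_g27_T (grp_cons_le p_g28_T (grp_cons_le p_g11_T (grp_cons_le p_g12_T (grp_cons_le p_g7_T (grp_cons_le p_g8_T (grp_cons_le p_g3_T (grp_cons_le p_g4_T (grp_cons_le p_g1_T (grp_cons_le p_g2_T (grp_cons_le p_g53_T (grp_nil_le _)))))))))))))))))))) (Frames.cons T_s5_F (Frames.cons T_s9_F Frames.nil)) (okE_cons.2 ⟨p_g47_ok, okE_nil _⟩) _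

noncomputable def nt_c2_cnt_t : BT := (BT.br (nat_lit 2) (nat_lit 0) [nat_lit 1, nat_lit 3] (BT.kid (nat_lit 0) (nat_lit 320) (BT.dif (nat_lit 3) (nat_lit 0) (BT.img (nat_lit 1) (nat_lit 1) (BT.dif (nat_lit 1) (nat_lit 0) (BT.br (nat_lit 0) (nat_lit 23) [nat_lit 3, nat_lit 7] (BT.dead (nat_lit 3) (BT.dif (nat_lit 7) (nat_lit 0) (BT.dif (nat_lit 0) (nat_lit 5) (BT.dif (nat_lit 0) (nat_lit 4) (BT.img (nat_lit 1) (nat_lit 3) (BT.dif (nat_lit 1) (nat_lit 0) (BT.br (nat_lit 0) (nat_lit 21) [nat_lit 0x5080308, nat_lit 0x7070303] (BT.dead (nat_lit 23) (BT.frm (nat_lit 0) (nat_lit 0x204180719021d18) (nat_lit 0x216031a181d18) [nat_lit 0, nat_lit 2, nat_lit 6, nat_lit 8, nat_lit 10] (BT.pln (nat_lit 0) (nat_lit 5) (BT.img (nat_lit 1) (nat_lit 2) (BT.and (nat_lit 1) (nat_lit 0) (BT.cnt (nat_lit 0)))))) BT.nil))))))) (BT.kid (nat_lit 23) (nat_lit 16) (BT.dif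 (nat_lit 7) (nat_lit 0) (BT.dif (nat_lit 0) (nat_lit 5) (BT.dif (nat_lit 0) (nat_lit 4) (BT.img (nat_lit 1) (nat_lit 3) (BT.dif (nat_lit 1) (nat_lit 0) (BT.br (nat_lit 0) (nat_lit 21) [nat_lit 5, nat_lit 7] (BT.dead (nat_lit 13) (BT.frm (nat_lit 0) (nat_lit 0x204180719021d18) (nat_lit 0x1180719021d18) [nat_lit 0, nat_lit 2, nat_lit 6, nat_lit 8, nat_lit 10] (BT.pln (nat_lit 0) (nat_lit 5) (BT.img (nat_lit 1) (nat_lit 2) (BT.and (nat_lit 1) (nat_lit 0) (BT.cnt (nat_lit 0)))))) (BT.dead (nat_lit 3) (BT.frm (nat_lit 0) (nat_lit 0x204180719021d18) (nat_lit 0x3180719021d18) [nat_lit 0, nat_lit 2, nat_lit 6, nat_lit 8, nat_lit 10] (BT.pln (nat_lit 0) (nat_lit 5) (BT.img (nat_lit 1) (nat_lit 2) (BT.and (nat_lit 1) (nat_lit 0) (BT.cnt (nat_lit 0)))))) (BT.kid (nat_lit 21) (nat_lit 1) (BT.frm (nat_lit 0) (nat_lit 0x204180719021d18) (nat_lit 0x204180719021d18)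 [nat_lit 0, nat_lit 2, nat_lit 6, nat_lit 8, nat_lit 10] (BT.pln (nat_lit 0) (nat_lit 5) (BT.img (nat_lit 1) (nat_lit 0) (BT.br (nat_lit 0) (nat_lit 11) [] (BT.dead (nat_lit 5) (BT.img (nat_lit 1) (nat_lit 4) (BT.frm (nat_lit 1) (nat_lit 0x5110204180719021d18) (nat_lit 0x2605110204180719021d18) [nat_lit 1, nat_lit 0, nat_lit 5, nat_lit 7, nat_lit 11, nat_lit 13, nat_lit 15] (BT.pln (nat_lit 0) (nat_lit 7) (BT.img (nat_lit 1) (nat_lit 3) (BT.and (nat_lit 1) (nat_lit 0) (BT.cnt (nat_lit 0))))))) (BT.dead (nat_lit 12) (BT.img (nat_lit 1) (nat_lit 4) (BT.frm (nat_lit 1) (nat_lit 0x5110204180719021d18) (nat_lit 0x2505110204180719021d18) [nat_lit 1, nat_lit 0, nat_lit 5, nat_lit 7, nat_lit 11, nat_lit 13, nat_lit 15] (BT.pln (nat_lit 0) (nat_lit 7) (BT.img (nat_lit 1) (nat_lit 0) (BT.and (nat_lit 0) (nat_lit 1) (BT.cnt (nat_lit 0))))))) (BT.kid (nat_lit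 11) (nat_lit 1) (BT.img (nat_lit 1) (nat_lit 4) (BT.one (nat_lit 1) (nat_lit 0x5110204180719021d18) (nat_lit 0x5110204180719021d18) [nat_lit 1, nat_lit 0, nat_lit 5, nat_lit 7, nat_lit 11, nat_lit 13, nat_lit 15])) BT.nil))))))) BT.nil))))))))) BT.nil)))))) BT.nil))

theorem nt_c2_cnt : Cnt 24 (grp 24 E) [p_g47] [p_g47] 0 0 0 0 7680 :=
  BT.sound nt_c2_cnt_P Known.nil (t := nt_c2_cnt_t) (d := 0) (by decide +kernel)

theorem nt_c2_ge : 7680 ≤ Nat.card (grp 24 nt_c2_K) :=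
  Ch.le_card_grp (k := 5) (L := (lab 24 5)) p_hn nt_c2_K_ok (c := (Ch.cons (nat_lit 0) [nat_lit 1] (Ch.cons (nat_lit 23) [nat_lit 3] (Ch.cons (nat_lit 21) [nat_lit 5, nat_lit 7] Ch.nil)))) (by decide +kernel)

theorem nt_c2_eq : (grp 24 E) ⊓ Subgroup.centralizer {Net.toPerm 24 p_g47} = grp 24 nt_c2_K :=
  cent_eq nt_c2_sym nt_c2_cnt nt_c2_ge

theorem nt_c2_card : Nat.card ↥((grp 24 E) ⊓ Subgroup.centralizer {Net.toPerm 24 p_g47}) = 7680 :=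
  card_cent nt_c2_sym nt_c2_cnt nt_c2_ge

theorem nt_c2_ord : orderOf (Net.toPerm 24 p_g47) = 2 :=
  orderOf_net p_hn p_hk p_g47_ok (by decide) (ps := [2]) (by set_option linter.unusedSimpArgs false in simp [Nat.primeFactorsList_ofNat]) (by decide +kernel)

theorem p_le62 : grp 24 nt_c3_K ≤ grp 24 lb_E :=
  grp_le_of_memB p_hn p_hk lb_E_ok nt_c3_K_ok (ws := [nat_lit 0x1f211214090e07180411, nat_lit 0x151110170923050a, nat_lit 0x1b1d2116140e090509, nat_lit 0x212316130d0912050a]) (by decide +kernel)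

theorem nt_c3_le : grp 24 nt_c3_K ≤ (grp 24 E) :=
  (p_le62.trans T_s0.le)

theorem nt_c3_mem : Net.toPerm 24 p_g57 ∈ (grp 24 E) :=
  nt_c3_le (mem_grp_of_memB p_hn p_hk nt_c3_K_ok p_g57_ok (w := (nat_lit 514)) (by decide +kernel))

theorem nt_c3_sym : Sym 24 (grp 24 E) [p_g57] nt_c3_K 0 :=
  Sym.of_lab p_hn p_hk (okE_cons.2 ⟨p_g57_ok, okE_nil _⟩) nt_c3_K_ok nt_c3_le (kT := 0) (by decide +kernel)

noncomputable def nt_c3_cnt_L : List ℕ := [7, 11, T_s7_O, 1, 0]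

theorem nt_c3_cnt_P : Prob 24 5 (grp 24 E) nt_c3_cnt_EG [p_g57] [p_g57] nt_c3_K nt_c3_cnt_L 0 0 :=
  Sym.prob p_hn p_hk nt_c3_sym nt_c3_cnt_EG_ok (grp_cons_le p_g24_T (grp_cons_le p_g25_T (grp_cons_le p_g26_T (grp_cons_le p_g27_T (grp_cons_le p_g28_T (grp_cons_le p_g19_T (grp_cons_le p_g20_T (grp_cons_le p_g21_T (grp_cons_le p_g15_T (grp_cons_le p_g16_T (grp_cons_le p_g11_T (grp_cons_le p_g12_T (grp_cons_le p_g7_T (grp_cons_le p_g8_T (grp_cons_le p_g3_T (grp_cons_le p_g4_T (grp_cons_le p_g1_T (grp_cons_le p_g2_T (grp_nil_le _))))))))))))))))))) (Frames.cons T_s7_F Frames.nil) (okE_cons.2 ⟨p_g57_ok, okE_nil _⟩) _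

noncomputable def nt_c3_cnt_t : BT := (BT.fix (nat_lit 1) (BT.dif (nat_lit 3) (nat_lit 0) (BT.br (nat_lit 0) (nat_lit 0) [nat_lit 1, nat_lit 3] (BT.kid (nat_lit 0) (nat_lit 60) (BT.dif (nat_lit 1) (nat_lit 0) (BT.img (nat_lit 1) (nat_lit 1) (BT.dif (nat_lit 1) (nat_lit 0) (BT.img (nat_lit 1) (nat_lit 1) (BT.dif (nat_lit 1) (nat_lit 0) (BT.br (nat_lit 0) (nat_lit 17) [nat_lit 3, nat_lit 5] (BT.kid (nat_lit 17) (nat_lit 4) (BT.dif (nat_lit 7) (nat_lit 0) (BT.dif (nat_lit 0) (nat_lit 7) (BT.dif (nat_lit 0) (nat_lit 6) (BT.dif (nat_lit 0) (nat_lit 5) (BT.img (nat_lit 1) (nat_lit 4) (BT.dif (nat_lit 1) (nat_lit 0) (BT.img (nat_lit 1) (nat_lit 1) (BT.dif (nat_lit 1) (nat_lit 0) (BT.br (nat_lit 0) (nat_lit 14) [nat_lit 5, nat_lit 7] (BT.dead (nat_lit 1) (BT.frm (nat_lit 0) (nat_lit 0x107090c1105180d190d1e1e) (nat_lit 0x1050c1105180d190d1e1e) [nat_lit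 0, nat_lit 2, nat_lit 4, nat_lit 9, nat_lit 11, nat_lit 13, nat_lit 15] (BT.pln (nat_lit 0) (nat_lit 7) (BT.and (nat_lit 0) (nat_lit 19) (BT.cnt (nat_lit 0))))) (BT.dead (nat_lit 4) (BT.frm (nat_lit 0) (nat_lit 0x107090c1105180d190d1e1e) (nat_lit 0x50c1105180d190d1e1e) [nat_lit 0, nat_lit 2, nat_lit 4, nat_lit 9, nat_lit 11, nat_lit 13, nat_lit 15] (BT.pln (nat_lit 0) (nat_lit 7) (BT.img (nat_lit 1) (nat_lit 2) (BT.img (nat_lit 1) (nat_lit 0) (BT.and (nat_lit 2) (nat_lit 0) (BT.cnt (nat_lit 0))))))) (BT.kid (nat_lit 14) (nat_lit 1) (BT.one (nat_lit 0) (nat_lit 0x107090c1105180d190d1e1e) (nat_lit 0x107090c1105180d190d1e1e) [nat_lit 0, nat_lit 2, nat_lit 4, nat_lit 9, nat_lit 11, nat_lit 13, nat_lit 15]) BT.nil)))))))))))) BT.nil))))))) BT.nil))))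

theorem nt_c3_cnt : Cnt 24 (grp 24 E) [p_g57] [p_g57] 0 0 0 0 1080 :=
  BT.sound nt_c3_cnt_P Known.nil (t := nt_c3_cnt_t) (d := 0) (by decide +kernel)

theorem nt_c3_ge : 1080 ≤ Nat.card (grp 24 nt_c3_K) :=
  Ch.le_card_grp (k := 5) (L := (lab 24 5)) p_hn nt_c3_K_ok (c := (Ch.cons (nat_lit 0) [nat_lit 1] (Ch.cons (nat_lit 17) [nat_lit 3] (Ch.cons (nat_lit 14) [nat_lit 5, nat_lit 7] Ch.nil)))) (by decide +kernel)

theorem nt_c3_eq : (grp 24 E) ⊓ Subgroup.centralizer {Net.toPerm 24 p_g57} = grp 24 nt_c3_K :=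
  cent_eq nt_c3_sym nt_c3_cnt nt_c3_ge

theorem nt_c3_card : Nat.card ↥((grp 24 E) ⊓ Subgroup.centralizer {Net.toPerm 24 p_g57}) = 1080 :=
  card_cent nt_c3_sym nt_c3_cnt nt_c3_ge

theorem nt_c3_ord : orderOf (Net.toPerm 24 p_g57) = 3 :=
  orderOf_net p_hn p_hk p_g57_ok (by decide) (ps := [3]) (by set_option linter.unusedSimpArgs false in simp [Nat.primeFactorsList_ofNat]) (by decide +kernel)

theorem p_le67 : grp 24 nt_c4_K ≤ grp 24 lb_E :=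
  grp_le_of_memB p_hn p_hk lb_E_ok nt_c4_K_ok (ws := [nat_lit 0x2316130e110a0d060109, nat_lit 0x2311190e1405, nat_lit 0x1f15110d12140b0a0718]) (by decide +kernel)

theorem nt_c4_le : grp 24 nt_c4_K ≤ (grp 24 E) :=
  (p_le67.trans T_s0.le)

theorem nt_c4_mem : Net.toPerm 24 p_g63 ∈ (grp 24 E) :=
  nt_c4_le (mem_grp_of_memB p_hn p_hk nt_c4_K_ok p_g63_ok (w := (nat_lit 0x6010601)) (by decide +kernel))

theorem nt_c4_sym : Sym 24 (grp 24 E) [p_g63] nt_c4_K 0 :=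
  Sym.of_lab p_hn p_hk (okE_cons.2 ⟨p_g63_ok, okE_nil _⟩) nt_c4_K_ok nt_c4_le (kT := 0) (by decide +kernel)

noncomputable def nt_c4_cnt_L : List ℕ := [5, 6, T_s5_O, 0, 0, 7, 11, T_s9_O, 1, 0]

theorem nt_c4_cnt_P : Prob 24 5 (grp 24 E) nt_c4_cnt_EG [p_g63] [p_g63] nt_c4_K nt_c4_cnt_L 0 0 :=
  Sym.prob p_hn p_hk nt_c4_sym nt_c4_cnt_EG_ok (grp_cons_le p_g15_T (grp_cons_le p_g16_T (grp_cons_le p_g19_T (grp_cons_le p_g20_T (grp_cons_le p_g21_T (grp_cons_le p_g24_T (grp_cons_le p_g25_T (grp_cons_le p_g26_T (grp_cons_le p_g27_T (grp_cons_le p_g28_T (grp_cons_le p_g11_T (grp_cons_le p_g12_T (grp_cons_le p_g7_T (grp_cons_le p_g8_T (grp_cons_le p_g3_T (grp_cons_le p_g4_T (grp_cons_le p_g1_T (grp_cons_le p_g2_T (grp_cons_le p_g53_T (grp_nil_le _)))))))))))))))))))) (Frames.cons T_s5_F (Frames.cons T_s9_F Frames.nil)) (okE_cons.2 ⟨p_g63_ok, okE_nil _⟩) _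

noncomputable def nt_c4_cnt_t : BT := (BT.br (nat_lit 2) (nat_lit 0) [nat_lit 1, nat_lit 3] (BT.kid (nat_lit 0) (nat_lit 21) (BT.dif (nat_lit 3) (nat_lit 0) (BT.img (nat_lit 1) (nat_lit 1) (BT.dif (nat_lit 1) (nat_lit 0) (BT.img (nat_lit 1) (nat_lit 1) (BT.dif (nat_lit 1) (nat_lit 0) (BT.br (nat_lit 0) (nat_lit 23) [nat_lit 3, nat_lit 5] (BT.dead (nat_lit 4) (BT.img (nat_lit 1) (nat_lit 0) (BT.frm (nat_lit 0) (nat_lit 0x20f1d1d) (nat_lit 0x1081502041d1d) [nat_lit 0, nat_lit 1, nat_lit 3, nat_lit 5, nat_lit 7] (BT.pln (nat_lit 0) (nat_lit 5) (BT.img (nat_lit 1) (nat_lit 0) (BT.img (nat_lit 1) (nat_lit 0) (BT.br (nat_lit 0) (nat_lit 18) [nat_lit 328454] (BT.dead (nat_lit 3) (BT.img (nat_lit 1) (nat_lit 5) (BT.frm (nat_lit 1) (nat_lit 0x2611020f1d1d) (nat_lit 0x260801081502041d1d) [nat_lit 1, nat_lit 0, nat_lit 6, nat_lit 7, nat_lit 9, nat_lit 11,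 nat_lit 13] (BT.pln (nat_lit 0) (nat_lit 7) (BT.img (nat_lit 1) (nat_lit 3) (BT.img (nat_lit 1) (nat_lit 0) (BT.and (nat_lit 2) (nat_lit 0) (BT.cnt (nat_lit 0)))))))) BT.nil))))))) (BT.dead (nat_lit 1) (BT.img (nat_lit 1) (nat_lit 0) (BT.frm (nat_lit 0) (nat_lit 0x20f1d1d) (nat_lit 0x10915061d1d) [nat_lit 0, nat_lit 1, nat_lit 3, nat_lit 5, nat_lit 7] (BT.pln (nat_lit 0) (nat_lit 5) (BT.img (nat_lit 1) (nat_lit 0) (BT.img (nat_lit 1) (nat_lit 0) (BT.br (nat_lit 0) (nat_lit 18) [nat_lit 328454] (BT.dead (nat_lit 13) (BT.img (nat_lit 1) (nat_lit 5) (BT.frm (nat_lit 1) (nat_lit 0x2611020f1d1d) (nat_lit 0x5010915061d1d) [nat_lit 1, nat_lit 0, nat_lit 6, nat_lit 7, nat_lit 9, nat_lit 11, nat_lit 13] (BT.pln (nat_lit 0) (nat_lit 7) (BT.img (nat_lit 1) (nat_lit 3) (BT.and (nat_lit 1) (nat_lit 0) (BT.cnt (nat_lit 0))))))) BT.nil))))))) (BT.kid (nat_lit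 23) (nat_lit 3) (BT.img (nat_lit 1) (nat_lit 0) (BT.frm (nat_lit 0) (nat_lit 0x20f1d1d) (nat_lit 0x20f1d1d) [nat_lit 0, nat_lit 1, nat_lit 3, nat_lit 5, nat_lit 7] (BT.pln (nat_lit 0) (nat_lit 5) (BT.img (nat_lit 1) (nat_lit 0) (BT.img (nat_lit 1) (nat_lit 0) (BT.br (nat_lit 0) (nat_lit 18) [nat_lit 5] (BT.kid (nat_lit 18) (nat_lit 1) (BT.img (nat_lit 1) (nat_lit 5) (BT.one (nat_lit 1) (nat_lit 0x2611020f1d1d) (nat_lit 0x2611020f1d1d) [nat_lit 1, nat_lit 0, nat_lit 6, nat_lit 7, nat_lit 9, nat_lit 11, nat_lit 13])) BT.nil))))))) BT.nil))))))))) BT.nil))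

theorem nt_c4_cnt : Cnt 24 (grp 24 E) [p_g63] [p_g63] 0 0 0 0 504 :=
  BT.sound nt_c4_cnt_P Known.nil (t := nt_c4_cnt_t) (d := 0) (by decide +kernel)

theorem nt_c4_ge : 504 ≤ Nat.card (grp 24 nt_c4_K) :=
  Ch.le_card_grp (k := 5) (L := (lab 24 5)) p_hn nt_c4_K_ok (c := (Ch.cons (nat_lit 0) [nat_lit 1] (Ch.cons (nat_lit 23) [nat_lit 3] (Ch.cons (nat_lit 18) [nat_lit 5] Ch.nil)))) (by decide +kernel)

theorem nt_c4_eq : (grp 24 E) ⊓ Subgroup.centralizer {Net.toPerm 24 p_g63} = grp 24 nt_c4_K :=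
  cent_eq nt_c4_sym nt_c4_cnt nt_c4_ge

theorem nt_c4_card : Nat.card ↥((grp 24 E) ⊓ Subgroup.centralizer {Net.toPerm 24 p_g63}) = 504 :=
  card_cent nt_c4_sym nt_c4_cnt nt_c4_ge

theorem nt_c4_ord : orderOf (Net.toPerm 24 p_g63) = 3 :=
  orderOf_net p_hn p_hk p_g63_ok (by decide) (ps := [3]) (by set_option linter.unusedSimpArgs false in simp [Nat.primeFactorsList_ofNat]) (by decide +kernel)

theorem p_le73 : grp 24 nt_c5_K ≤ grp 24 lb_E :=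
  grp_le_of_memB p_hn p_hk lb_E_ok nt_c5_K_ok (ws := [nat_lit 0x1b231511210d140912050f021d, nat_lit 0x1612210b0a0723, nat_lit 0x1b212316120e1a0510, nat_lit 0x211511110e110505]) (by decide +kernel)

theorem nt_c5_le : grp 24 nt_c5_K ≤ (grp 24 E) :=
  (p_le73.trans T_s0.le)

theorem nt_c5_mem : Net.toPerm 24 p_g68 ∈ (grp 24 E) :=
  nt_c5_le (mem_grp_of_memB p_hn p_hk nt_c5_K_ok p_g68_ok (w := (nat_lit 65793)) (by decide +kernel))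

theorem nt_c5_sym : Sym 24 (grp 24 E) [p_g68] nt_c5_K 0 :=
  Sym.of_lab p_hn p_hk (okE_cons.2 ⟨p_g68_ok, okE_nil _⟩) nt_c5_K_ok nt_c5_le (kT := 0) (by decide +kernel)

noncomputable def T_s6_O : ℕ := (nat_lit 0x1000000400000001000002000004000008000010000080)

theorem T_s6_F : Frame 24 (grp 24 E) 6 8 T_s6_O 0 1 :=
  Stab.frame p_hn T_s6 (by decide +kernel)

noncomputable def nt_c5_cnt_L : List ℕ := [5, 6, T_s5_O, 0, 0, 6, 8, T_s6_O, 0, 0, 7, 11, T_s7_O, 1, 0]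

theorem nt_c5_cnt_P : Prob 24 5 (grp 24 E) nt_c5_cnt_EG [p_g68] [p_g68] nt_c5_K nt_c5_cnt_L 0 0 :=
  Sym.prob p_hn p_hk nt_c5_sym nt_c5_cnt_EG_ok (grp_cons_le p_g15_T (grp_cons_le p_g16_T (grp_cons_le p_g19_T (grp_cons_le p_g20_T (grp_cons_le p_g21_T (grp_cons_le p_g24_T (grp_cons_le p_g25_T (grp_cons_le p_g26_T (grp_cons_le p_g27_T (grp_cons_le p_g28_T (grp_cons_le p_g11_T (grp_cons_le p_g12_T (grp_cons_le p_g7_T (grp_cons_le p_g8_T (grp_cons_le p_g3_T (grp_cons_le p_g4_T (grp_cons_le p_g1_T (grp_cons_le p_g2_T (grp_nil_le _))))))))))))))))))) (Frames.cons T_s5_F (Frames.cons T_s6_F (Frames.cons T_s7_F Frames.nil))) (okE_cons.2 ⟨p_g68_ok, okE_nil _⟩) _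

noncomputable def nt_c5_cnt_t : BT := (BT.fix (nat_lit 257) (BT.dif (nat_lit 3) (nat_lit 0) (BT.br (nat_lit 0) (nat_lit 0) [nat_lit 1, nat_lit 5] (BT.kid (nat_lit 0) (nat_lit 24) (BT.dif (nat_lit 1) (nat_lit 0) (BT.img (nat_lit 1) (nat_lit 1) (BT.dif (nat_lit 1) (nat_lit 0) (BT.img (nat_lit 1) (nat_lit 1) (BT.dif (nat_lit 1) (nat_lit 0) (BT.img (nat_lit 1) (nat_lit 1) (BT.dif (nat_lit 1) (nat_lit 0) (BT.br (nat_lit 0) (nat_lit 17) [nat_lit 3, nat_lit 5] (BT.dead (nat_lit 16) (BT.img (nat_lit 1) (nat_lit 0) (BT.frm (nat_lit 1) (nat_lit 0x301160a19021d1a) (nat_lit 0x60103160a19021d1a) [nat_lit 0, nat_lit 1, nat_lit 3, nat_lit 5, nat_lit 7, nat_lit 9] (BT.pln (nat_lit 0) (nat_lit 6) (BT.img (nat_lit 1) (nat_lit 2) (BT.and (nat_lit 1) (nat_lit 0) (BT.cnt (nat_lit 0))))))) (BT.kid (nat_lit 17) (nat_lit 4) (BT.dif (nat_lit 9) (nat_lit 0) (BT.dif (nat_lit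 0) (nat_lit 9) (BT.dif (nat_lit 0) (nat_lit 8) (BT.dif (nat_lit 0) (nat_lit 7) (BT.dif (nat_lit 0) (nat_lit 6) (BT.frm (nat_lit 0) (nat_lit 0x301160a19021d1a) (nat_lit 0x301160a19021d1a) [nat_lit 5, nat_lit 7, nat_lit 9, nat_lit 11, nat_lit 13] (BT.pln (nat_lit 0) (nat_lit 5) (BT.dif (nat_lit 2) (nat_lit 0) (BT.br (nat_lit 0) (nat_lit 21) [nat_lit 5, nat_lit 7] (BT.dead (nat_lit 16) (BT.img (nat_lit 1) (nat_lit 9) (BT.frm (nat_lit 2) (nat_lit 0xd110301160a19021d1a) (nat_lit 0xf0301160a19021d1a) [nat_lit 1, nat_lit 0, nat_lit 10, nat_lit 12, nat_lit 14, nat_lit 16, nat_lit 18] (BT.pln (nat_lit 0) (nat_lit 10) (BT.img (nat_lit 1) (nat_lit 3) (BT.and (nat_lit 1) (nat_lit 0) (BT.cnt (nat_lit 0))))))) (BT.kid (nat_lit 21) (nat_lit 1) (BT.img (nat_lit 1) (nat_lit 9) (BT.one (nat_lit 2) (nat_lit 0xd110301160a19021d1a) (nat_lit 0xd110301160a19021d1a) [nat_lit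 1, nat_lit 0, nat_lit 10, nat_lit 12, nat_lit 14, nat_lit 16, nat_lit 18])) BT.nil))))))))))) BT.nil)))))))))) BT.nil))))

theorem nt_c5_cnt : Cnt 24 (grp 24 E) [p_g68] [p_g68] 0 0 0 0 384 :=
  BT.sound nt_c5_cnt_P Known.nil (t := nt_c5_cnt_t) (d := 0) (by decide +kernel)

theorem nt_c5_ge : 384 ≤ Nat.card (grp 24 nt_c5_K) :=
  Ch.le_card_grp (k := 5) (L := (lab 24 5)) p_hn nt_c5_K_ok (c := (Ch.cons (nat_lit 0) [nat_lit 1] (Ch.cons (nat_lit 17) [nat_lit 3] (Ch.cons (nat_lit 21) [nat_lit 5, nat_lit 7] Ch.nil)))) (by decide +kernel)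

theorem nt_c5_eq : (grp 24 E) ⊓ Subgroup.centralizer {Net.toPerm 24 p_g68} = grp 24 nt_c5_K :=
  cent_eq nt_c5_sym nt_c5_cnt nt_c5_ge

theorem nt_c5_card : Nat.card ↥((grp 24 E) ⊓ Subgroup.centralizer {Net.toPerm 24 p_g68}) = 384 :=
  card_cent nt_c5_sym nt_c5_cnt nt_c5_ge

theorem nt_c5_ord : orderOf (Net.toPerm 24 p_g68) = 4 :=
  orderOf_net p_hn p_hk p_g68_ok (by decide) (ps := [2]) (by set_option linter.unusedSimpArgs false in simp [Nat.primeFactorsList_ofNat]) (by decide +kernel)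

theorem p_le80 : grp 24 nt_c6_K ≤ grp 24 lb_E :=
  grp_le_of_memB p_hn p_hk lb_E_ok nt_c6_K_ok (ws := [nat_lit 0x1b1d211613110e130a0a071704, nat_lit 0x1b1f21151121101a090709010b, nat_lit 0x1d1612210d100a0d050d0113, nat_lit 0x1b1d110d100923062102, nat_lit 0x21140f0918061a041a, nat_lit 0x1b1f21161117090d05100121]) (by decide +kernel)

theorem nt_c6_le : grp 24 nt_c6_K ≤ (grp 24 E) :=
  (p_le80.trans T_s0.le)

theorem nt_c6_mem : Net.toPerm 24 p_g74 ∈ (grp 24 E) :=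
  nt_c6_le (toPerm_mem_grp (E := nt_c6_K) (List.Mem.head _))

theorem nt_c6_sym : Sym 24 (grp 24 E) [p_g74] nt_c6_K 0 :=
  Sym.of_lab p_hn p_hk (okE_cons.2 ⟨p_g74_ok, okE_nil _⟩) nt_c6_K_ok nt_c6_le (kT := 0) (by decide +kernel)

noncomputable def nt_c6_cnt_L : List ℕ := [7, 11, T_s7_O, 1, 0]

theorem nt_c6_cnt_P : Prob 24 5 (grp 24 E) nt_c6_cnt_EG [p_g74] [p_g74] nt_c6_K nt_c6_cnt_L 0 0 :=
  Sym.prob p_hn p_hk nt_c6_sym nt_c6_cnt_EG_ok (grp_cons_le p_g24_T (grp_cons_le p_g25_T (grp_cons_le p_g26_T (grp_cons_le p_g27_T (grp_cons_le p_g28_T (grp_cons_le p_g19_T (grp_cons_le p_g20_T (grp_cons_le p_g21_T (grp_cons_le p_g15_T (grp_cons_le p_g16_T (grp_cons_le p_g11_T (grp_cons_le p_g12_T (grp_cons_le p_g7_T (grp_cons_le p_g8_T (grp_cons_le p_g3_T (grp_cons_le p_g4_T (grp_cons_le p_g1_T (grp_cons_le p_g2_T (grp_nil_le _))))))))))))))))))) (Frames.cons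 T_s7_F Frames.nil) (okE_cons.2 ⟨p_g74_ok, okE_nil _⟩) _

noncomputable def nt_c6_cnt_t : BT := (BT.fix (nat_lit 257) (BT.fix (nat_lit 1) (BT.dif (nat_lit 1) (nat_lit 0) (BT.br (nat_lit 0) (nat_lit 18) [nat_lit 3] (BT.kid (nat_lit 18) (nat_lit 32) (BT.dif (nat_lit 1) (nat_lit 0) (BT.img (nat_lit 1) (nat_lit 1) (BT.dif (nat_lit 1) (nat_lit 0) (BT.br (nat_lit 0) (nat_lit 1) [nat_lit 5] (BT.kid (nat_lit 1) (nat_lit 16) (BT.dif (nat_lit 10) (nat_lit 7) (BT.br (nat_lit 0) (nat_lit 0) [nat_lit 7, nat_lit 9, nat_lit 11] (BT.kid (nat_lit 0) (nat_lit 1) (BT.img (nat_lit 1) (nat_lit 0) (BT.img (nat_lit 1) (nat_lit 0) (BT.dif (nat_lit 7) (nat_lit 4) (BT.dif (nat_lit 0) (nat_lit 7) (BT.one (nat_lit 0) (nat_lit 0x50b140716101f16211f) (nat_lit 0x50b140716101f16211f) [nat_lit 3, nat_lit 2, nat_lit 4, nat_lit 0, nat_lit 6, nat_lit 8, nat_lit 10]))))) BT.nil))) BT.nil)))))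 BT.nil)))))

theorem nt_c6_cnt : Cnt 24 (grp 24 E) [p_g74] [p_g74] 0 0 0 0 128 :=
  BT.sound nt_c6_cnt_P Known.nil (t := nt_c6_cnt_t) (d := 0) (by decide +kernel)

theorem nt_c6_ge : 128 ≤ Nat.card (grp 24 nt_c6_K) :=
  Ch.le_card_grp (k := 5) (L := (lab 24 5)) p_hn nt_c6_K_ok (c := (Ch.cons (nat_lit 18) [nat_lit 1, nat_lit 3] (Ch.cons (nat_lit 1) [nat_lit 5] (Ch.cons (nat_lit 0) [nat_lit 7, nat_lit 9, nat_lit 11] Ch.nil)))) (by decide +kernel)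

theorem nt_c6_eq : (grp 24 E) ⊓ Subgroup.centralizer {Net.toPerm 24 p_g74} = grp 24 nt_c6_K :=
  cent_eq nt_c6_sym nt_c6_cnt nt_c6_ge

theorem nt_c6_card : Nat.card ↥((grp 24 E) ⊓ Subgroup.centralizer {Net.toPerm 24 p_g74}) = 128 :=
  card_cent nt_c6_sym nt_c6_cnt nt_c6_ge

theorem nt_c6_ord : orderOf (Net.toPerm 24 p_g74) = 4 :=
  orderOf_net p_hn p_hk p_g74_ok (by decide) (ps := [2]) (by set_option linter.unusedSimpArgs false in simp [Nat.primeFactorsList_ofNat]) (by decide +kernel)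

theorem p_le85 : grp 24 nt_c7_K ≤ grp 24 lb_E :=
  grp_le_of_memB p_hn p_hk lb_E_ok nt_c7_K_ok (ws := [nat_lit 0x1b1d1123100a1f050d0411, nat_lit 0x16131a0f090f0606010c03, nat_lit 0x1f1611130a0d0509, nat_lit 0x1b1f16111d0d1409120709]) (by decide +kernel)

theorem nt_c7_le : grp 24 nt_c7_K ≤ (grp 24 E) :=
  (p_le85.trans T_s0.le)

theorem nt_c7_mem : Net.toPerm 24 p_g81 ∈ (grp 24 E) :=
  nt_c7_le (toPerm_mem_grp (E := nt_c7_K) (List.Mem.head _))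

theorem nt_c7_sym : Sym 24 (grp 24 E) [p_g81] nt_c7_K 0 :=
  Sym.of_lab p_hn p_hk (okE_cons.2 ⟨p_g81_ok, okE_nil _⟩) nt_c7_K_ok nt_c7_le (kT := 0) (by decide +kernel)

noncomputable def T_s8_O : ℕ := (nat_lit 0x980000228000054000001480400240000001000002000004000008000010000800)

theorem T_s8_F : Frame 24 (grp 24 E) 6 11 T_s8_O 0 1 :=
  Stab.frame p_hn T_s8 (by decide +kernel)

noncomputable def nt_c7_cnt_L : List ℕ := [5, 6, T_s5_O, 0, 0, 6, 11, T_s8_O, 0, 0, 7, 11, T_s9_O, 1, 0]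

theorem nt_c7_cnt_P : Prob 24 5 (grp 24 E) nt_c7_cnt_EG [p_g81] [p_g81] nt_c7_K nt_c7_cnt_L 0 0 :=
  Sym.prob p_hn p_hk nt_c7_sym nt_c7_cnt_EG_ok (grp_cons_le p_g15_T (grp_cons_le p_g16_T (grp_cons_le p_g19_T (grp_cons_le p_g20_T (grp_cons_le p_g21_T (grp_cons_le p_g24_T (grp_cons_le p_g25_T (grp_cons_le p_g26_T (grp_cons_le p_g27_T (grp_cons_le p_g28_T (grp_cons_le p_g11_T (grp_cons_le p_g12_T (grp_cons_le p_g7_T (grp_cons_le p_g8_T (grp_cons_le p_g3_T (grp_cons_le p_g4_T (grp_cons_le p_g1_T (grp_cons_le p_g2_T (grp_cons_le p_g53_T (grp_nil_le _)))))))))))))))))))) (Frames.cons T_s5_F (Frames.cons T_s8_F (Frames.cons T_s9_F Frames.nil))) (okE_cons.2 ⟨p_g81_ok, okE_nil _⟩) _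

noncomputable def nt_c7_cnt_t : BT := (BT.br (nat_lit 2) (nat_lit 0) [nat_lit 3, nat_lit 7] (BT.kid (nat_lit 0) (nat_lit 4) (BT.dif (nat_lit 3) (nat_lit 0) (BT.img (nat_lit 1) (nat_lit 1) (BT.dif (nat_lit 1) (nat_lit 0) (BT.img (nat_lit 1) (nat_lit 1) (BT.dif (nat_lit 1) (nat_lit 0) (BT.img (nat_lit 1) (nat_lit 1) (BT.dif (nat_lit 1) (nat_lit 0) (BT.br (nat_lit 0) (nat_lit 23) [nat_lit 5, nat_lit 7] (BT.dead (nat_lit 3) (BT.img (nat_lit 1) (nat_lit 0) (BT.frm (nat_lit 1) (nat_lit 0x103161619021d17) (nat_lit 0x80a0109161619021d17) [nat_lit 0, nat_lit 1, nat_lit 3, nat_lit 5, nat_lit 7, nat_lit 9] (BT.pln (nat_lit 0) (nat_lit 8) (BT.img (nat_lit 1) (nat_lit 2) (BT.img (nat_lit 1) (nat_lit 0) (BT.and (nat_lit 2) (nat_lit 0) (BT.cnt (nat_lit 0)))))))) (BT.dead (nat_lit 1) (BT.img (nat_lit 1) (nat_lit 0) (BT.frm (nat_lit 1) (nat_lit 0x103161619021d17)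 (nat_lit 0x60b0101161619021d17) [nat_lit 0, nat_lit 1, nat_lit 3, nat_lit 5, nat_lit 7, nat_lit 9] (BT.pln (nat_lit 0) (nat_lit 8) (BT.img (nat_lit 1) (nat_lit 2) (BT.and (nat_lit 1) (nat_lit 0) (BT.cnt (nat_lit 0))))))) (BT.dead (nat_lit 6) (BT.img (nat_lit 1) (nat_lit 0) (BT.frm (nat_lit 1) (nat_lit 0x103161619021d17) (nat_lit 0x60b161619021d17) [nat_lit 0, nat_lit 1, nat_lit 3, nat_lit 5, nat_lit 7, nat_lit 9] (BT.pln (nat_lit 0) (nat_lit 9) (BT.img (nat_lit 1) (nat_lit 2) (BT.and (nat_lit 1) (nat_lit 0) (BT.cnt (nat_lit 0))))))) (BT.dead (nat_lit 14) (BT.frm (nat_lit 0) (nat_lit 0x103161619021d17) (nat_lit 0x411161619021d17) [nat_lit 0, nat_lit 2, nat_lit 4, nat_lit 6, nat_lit 8] (BT.pln (nat_lit 0) (nat_lit 5) (BT.img (nat_lit 1) (nat_lit 2) (BT.and (nat_lit 1) (nat_lit 0) (BT.cnt (nat_lit 0)))))) (BT.dead (nat_lit 12) (BT.frm (nat_lit 0) (nat_lit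 0x103161619021d17) (nat_lit 0x2161619021d17) [nat_lit 0, nat_lit 2, nat_lit 4, nat_lit 6, nat_lit 8] (BT.pln (nat_lit 0) (nat_lit 5) (BT.img (nat_lit 1) (nat_lit 2) (BT.and (nat_lit 1) (nat_lit 0) (BT.cnt (nat_lit 0)))))) (BT.dead (nat_lit 9) (BT.frm (nat_lit 0) (nat_lit 0x103161619021d17) (nat_lit 0x1161619021d17) [nat_lit 0, nat_lit 2, nat_lit 4, nat_lit 6, nat_lit 8] (BT.pln (nat_lit 0) (nat_lit 5) (BT.img (nat_lit 1) (nat_lit 2) (BT.and (nat_lit 1) (nat_lit 0) (BT.cnt (nat_lit 0)))))) (BT.dead (nat_lit 8) (BT.frm (nat_lit 0) (nat_lit 0x103161619021d17) (nat_lit 0x3161619021d17) [nat_lit 0, nat_lit 2, nat_lit 4, nat_lit 6, nat_lit 8] (BT.pln (nat_lit 0) (nat_lit 5) (BT.img (nat_lit 1) (nat_lit 2) (BT.and (nat_lit 1) (nat_lit 0) (BT.cnt (nat_lit 0)))))) (BT.kid (nat_lit 23) (nat_lit 1) (BT.frm (nat_lit 0) (nat_lit 0x103161619021d17) (nat_lit 0x103161619021d17)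 [nat_lit 0, nat_lit 2, nat_lit 4, nat_lit 6, nat_lit 8] (BT.pln (nat_lit 0) (nat_lit 5) (BT.img (nat_lit 1) (nat_lit 0) (BT.img (nat_lit 1) (nat_lit 0) (BT.img (nat_lit 1) (nat_lit 0) (BT.img (nat_lit 1) (nat_lit 5) (BT.frm (nat_lit 1) (nat_lit 0x103161619021d17) (nat_lit 0x103161619021d17) [nat_lit 0, nat_lit 6, nat_lit 8, nat_lit 10, nat_lit 12, nat_lit 14] (BT.pln (nat_lit 0) (nat_lit 8) (BT.and (nat_lit 3) (nat_lit 0) (BT.img (nat_lit 1) (nat_lit 0) (BT.and (nat_lit 8) (nat_lit 0) (BT.img (nat_lit 1) (nat_lit 0) (BT.and (nat_lit 9) (nat_lit 0) (BT.one (nat_lit 2) (nat_lit 0x260103161619021d17) (nat_lit 0x260103161619021d17) [nat_lit 0, nat_lit 7, nat_lit 13, nat_lit 15, nat_lit 17, nat_lit 19, nat_lit 21])))))))))))))) BT.nil)))))))))))))))) BT.nil))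

theorem nt_c7_cnt : Cnt 24 (grp 24 E) [p_g81] [p_g81] 0 0 0 0 96 :=
  BT.sound nt_c7_cnt_P Known.nil (t := nt_c7_cnt_t) (d := 0) (by decide +kernel)

theorem nt_c7_ge : 96 ≤ Nat.card (grp 24 nt_c7_K) :=
  Ch.le_card_grp (k := 5) (L := (lab 24 5)) p_hn nt_c7_K_ok (c := (Ch.cons (nat_lit 0) [nat_lit 1, nat_lit 3] (Ch.cons (nat_lit 23) [nat_lit 5, nat_lit 7] Ch.nil))) (by decide +kernel)

theorem nt_c7_eq : (grp 24 E) ⊓ Subgroup.centralizer {Net.toPerm 24 p_g81} = grp 24 nt_c7_K :=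
  cent_eq nt_c7_sym nt_c7_cnt nt_c7_ge

theorem nt_c7_card : Nat.card ↥((grp 24 E) ⊓ Subgroup.centralizer {Net.toPerm 24 p_g81}) = 96 :=
  card_cent nt_c7_sym nt_c7_cnt nt_c7_ge

theorem nt_c7_ord : orderOf (Net.toPerm 24 p_g81) = 4 :=
  orderOf_net p_hn p_hk p_g81_ok (by decide) (ps := [2]) (by set_option linter.unusedSimpArgs false in simp [Nat.primeFactorsList_ofNat]) (by decide +kernel)

theorem p_le89 : grp 24 nt_c8_K ≤ grp 24 lb_E :=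
  grp_le_of_memB p_hn p_hk lb_E_ok nt_c8_K_ok (ws := [nat_lit 0x1f21111f0d160a0621021d, nat_lit 0x1b1d211611180d12090d0604, nat_lit 0x1d21111310090d050a]) (by decide +kernel)

theorem nt_c8_le : grp 24 nt_c8_K ≤ (grp 24 E) :=
  (p_le89.trans T_s0.le)

theorem nt_c8_mem : Net.toPerm 24 p_g86 ∈ (grp 24 E) :=
  nt_c8_le (toPerm_mem_grp (E := nt_c8_K) (List.Mem.head _))

theorem nt_c8_sym : Sym 24 (grp 24 E) [p_g86] nt_c8_K 0 :=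
  Sym.of_lab p_hn p_hk (okE_cons.2 ⟨p_g86_ok, okE_nil _⟩) nt_c8_K_ok nt_c8_le (kT := 0) (by decide +kernel)

noncomputable def nt_c8_cnt_L : List ℕ := [5, 6, T_s5_O, 0, 0, 6, 11, T_s8_O, 0, 0, 7, 11, T_s9_O, 1, 0]

theorem nt_c8_cnt_P : Prob 24 5 (grp 24 E) nt_c8_cnt_EG [p_g86] [p_g86] nt_c8_K nt_c8_cnt_L 0 0 :=
  Sym.prob p_hn p_hk nt_c8_sym nt_c8_cnt_EG_ok (grp_cons_le p_g15_T (grp_cons_le p_g16_T (grp_cons_le p_g19_T (grp_cons_le p_g20_T (grp_cons_le p_g21_T (grp_cons_le p_g24_T (grp_cons_le p_g25_T (grp_cons_le p_g26_T (grp_cons_le p_g27_T (grp_cons_le p_g28_T (grp_cons_le p_g11_T (grp_cons_le p_g12_T (grp_cons_le p_g7_T (grp_cons_le p_g8_T (grp_cons_le p_g3_T (grp_cons_le p_g4_T (grp_cons_le p_g1_T (grp_cons_le p_g2_T (grp_cons_le p_g53_T (grp_nil_le _)))))))))))))))))))) (Frames.cons T_s5_F (Frames.cons T_s8_F (Frames.cons T_s9_F Frames.nil)))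 (okE_cons.2 ⟨p_g86_ok, okE_nil _⟩) _

noncomputable def nt_c8_cnt_t : BT := (BT.fix (nat_lit 1) (BT.dif (nat_lit 3) (nat_lit 0) (BT.br (nat_lit 0) (nat_lit 0) [nat_lit 3, nat_lit 5] (BT.kid (nat_lit 0) (nat_lit 3) (BT.img (nat_lit 1) (nat_lit 0) (BT.img (nat_lit 1) (nat_lit 0) (BT.img (nat_lit 1) (nat_lit 0) (BT.img (nat_lit 1) (nat_lit 0) (BT.frm (nat_lit 0) (nat_lit 0x20415021a0f1e18) (nat_lit 0x20415021a0f1e18) [nat_lit 0, nat_lit 1, nat_lit 2, nat_lit 3, nat_lit 4] (BT.pln (nat_lit 0) (nat_lit 5) (BT.dif (nat_lit 8) (nat_lit 0) (BT.frm (nat_lit 1) (nat_lit 0x60b020415021a0f1e18) (nat_lit 0x60b020415021a0f1e18) [nat_lit 0, nat_lit 3, nat_lit 4, nat_lit 5, nat_lit 6, nat_lit 7] (BT.pln (nat_lit 0) (nat_lit 6) (BT.and (nat_lit 10) (nat_lit 0) (BT.br (nat_lit 0) (nat_lit 4) [nat_lit 5] (BT.kid (nat_lit 4) (nat_lit 1) (BT.one (nat_lit 2) (nat_lit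 0x26060b020415021a0f1e18) (nat_lit 0x26060b020415021a0f1e18) [nat_lit 0, nat_lit 4, nat_lit 7, nat_lit 8, nat_lit 9, nat_lit 10, nat_lit 11]) BT.nil)))))))))))) BT.nil))))

theorem nt_c8_cnt : Cnt 24 (grp 24 E) [p_g86] [p_g86] 0 0 0 0 60 :=
  BT.sound nt_c8_cnt_P Known.nil (t := nt_c8_cnt_t) (d := 0) (by decide +kernel)

theorem nt_c8_ge : 60 ≤ Nat.card (grp 24 nt_c8_K) :=
  Ch.le_card_grp (k := 5) (L := (lab 24 5)) p_hn nt_c8_K_ok (c := (Ch.cons (nat_lit 0) [nat_lit 1, nat_lit 3] (Ch.cons (nat_lit 4) [nat_lit 5] Ch.nil))) (by decide +kernel)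

theorem nt_c8_eq : (grp 24 E) ⊓ Subgroup.centralizer {Net.toPerm 24 p_g86} = grp 24 nt_c8_K :=
  cent_eq nt_c8_sym nt_c8_cnt nt_c8_ge

theorem nt_c8_card : Nat.card ↥((grp 24 E) ⊓ Subgroup.centralizer {Net.toPerm 24 p_g86}) = 60 :=
  card_cent nt_c8_sym nt_c8_cnt nt_c8_ge

theorem nt_c8_ord : orderOf (Net.toPerm 24 p_g86) = 5 :=
  orderOf_net p_hn p_hk p_g86_ok (by decide) (ps := [5]) (by set_option linter.unusedSimpArgs false in simp [Nat.primeFactorsList_ofNat]) (by decide +kernel)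

theorem p_le93 : grp 24 nt_c9_K ≤ grp 24 lb_E :=
  grp_le_of_memB p_hn p_hk lb_E_ok nt_c9_K_ok (ws := [nat_lit 0x1b15110d10090d0f061a021d, nat_lit 0x1b1f11130d0a10050802, nat_lit 0x1b2312090d071701]) (by decide +kernel)

theorem nt_c9_le : grp 24 nt_c9_K ≤ (grp 24 E) :=
  (p_le93.trans T_s0.le)

theorem nt_c9_mem : Net.toPerm 24 p_g90 ∈ (grp 24 E) :=
  nt_c9_le (toPerm_mem_grp (E := nt_c9_K) (List.Mem.head _))

theorem nt_c9_sym : Sym 24 (grp 24 E) [p_g90] nt_c9_K 0 :=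
  Sym.of_lab p_hn p_hk (okE_cons.2 ⟨p_g90_ok, okE_nil _⟩) nt_c9_K_ok nt_c9_le (kT := 0) (by decide +kernel)

noncomputable def nt_c9_cnt_L : List ℕ := [6, 11, T_s8_O, 0, 0, 7, 11, T_s9_O, 1, 0]

theorem nt_c9_cnt_P : Prob 24 5 (grp 24 E) nt_c9_cnt_EG [p_g90] [p_g90] nt_c9_K nt_c9_cnt_L 0 0 :=
  Sym.prob p_hn p_hk nt_c9_sym nt_c9_cnt_EG_ok (grp_cons_le p_g19_T (grp_cons_le p_g20_T (grp_cons_le p_g21_T (grp_cons_le p_g24_T (grp_cons_le p_g25_T (grp_cons_le p_g26_T (grp_cons_le p_g27_T (grp_cons_le p_g28_T (grp_cons_le p_g15_T (grp_cons_le p_g16_T (grp_cons_le p_g11_T (grp_cons_le p_g12_T (grp_cons_le p_g7_T (grp_cons_le p_g8_T (grp_cons_le p_g3_T (grp_cons_le p_g4_T (grp_cons_le p_g1_T (grp_cons_le p_g2_T (grp_cons_le p_g53_T (grp_nil_le _)))))))))))))))))))) (Frames.cons T_s8_F (Frames.cons T_s9_F Frames.nil)) (okE_cons.2 ⟨p_g90_ok, okE_nil _⟩) _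

noncomputable def nt_c9_cnt_t : BT := (BT.br (nat_lit 2) (nat_lit 0) [nat_lit 3, nat_lit 5] (BT.kid (nat_lit 0) (nat_lit 1) (BT.img (nat_lit 1) (nat_lit 0) (BT.img (nat_lit 1) (nat_lit 0) (BT.img (nat_lit 1) (nat_lit 0) (BT.img (nat_lit 1) (nat_lit 0) (BT.img (nat_lit 1) (nat_lit 0) (BT.frm (nat_lit 0) (nat_lit 0x209131512141a151e18) (nat_lit 0x209131512141a151e18) [nat_lit 0, nat_lit 1, nat_lit 2, nat_lit 3, nat_lit 4, nat_lit 5] (BT.pln (nat_lit 0) (nat_lit 6) (BT.br (nat_lit 0) (nat_lit 4) [] (BT.dead (nat_lit 18) (BT.frm (nat_lit 1) (nat_lit 0x209131512141a151e18) (nat_lit 0x250209131512141a151e18) [nat_lit 0, nat_lit 3, nat_lit 4, nat_lit 5, nat_lit 6, nat_lit 7, nat_lit 8] (BT.pln (nat_lit 0) (nat_lit 7) (BT.img (nat_lit 1) (nat_lit 2) (BT.img (nat_lit 1) (nat_lit 0) (BT.img (nat_lit 1) (nat_lit 0) (BT.and (nat_lit 3) (nat_lit 0) (BT.cnt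 (nat_lit 0)))))))) (BT.dead (nat_lit 19) (BT.frm (nat_lit 1) (nat_lit 0x209131512141a151e18) (nat_lit 0x260209131512141a151e18) [nat_lit 0, nat_lit 3, nat_lit 4, nat_lit 5, nat_lit 6, nat_lit 7, nat_lit 8] (BT.pln (nat_lit 0) (nat_lit 7) (BT.img (nat_lit 1) (nat_lit 2) (BT.and (nat_lit 1) (nat_lit 0) (BT.cnt (nat_lit 0)))))) (BT.kid (nat_lit 4) (nat_lit 1) (BT.one (nat_lit 1) (nat_lit 0x209131512141a151e18) (nat_lit 0x209131512141a151e18) [nat_lit 0, nat_lit 3, nat_lit 4, nat_lit 5, nat_lit 6, nat_lit 7, nat_lit 8]) BT.nil))))))))))) BT.nil))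

theorem nt_c9_cnt : Cnt 24 (grp 24 E) [p_g90] [p_g90] 0 0 0 0 24 :=
  BT.sound nt_c9_cnt_P Known.nil (t := nt_c9_cnt_t) (d := 0) (by decide +kernel)

theorem nt_c9_ge : 24 ≤ Nat.card (grp 24 nt_c9_K) :=
  Ch.le_card_grp (k := 5) (L := (lab 24 5)) p_hn nt_c9_K_ok (c := (Ch.cons (nat_lit 0) [nat_lit 1, nat_lit 3, nat_lit 5] Ch.nil)) (by decide +kernel)

theorem nt_c9_eq : (grp 24 E) ⊓ Subgroup.centralizer {Net.toPerm 24 p_g90} = grp 24 nt_c9_K :=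
  cent_eq nt_c9_sym nt_c9_cnt nt_c9_ge

theorem nt_c9_card : Nat.card ↥((grp 24 E) ⊓ Subgroup.centralizer {Net.toPerm 24 p_g90}) = 24 :=
  card_cent nt_c9_sym nt_c9_cnt nt_c9_ge

theorem nt_c9_ord : orderOf (Net.toPerm 24 p_g90) = 6 :=
  orderOf_net p_hn p_hk p_g90_ok (by decide) (ps := [2, 3]) (by set_option linter.unusedSimpArgs false in simp [Nat.primeFactorsList_ofNat]) (by decide +kernel)

theorem p_le97 : grp 24 nt_c10_K ≤ grp 24 lb_E :=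
  grp_le_of_memB p_hn p_hk lb_E_ok nt_c10_K_ok (ws := [nat_lit 0x1b1f111d0e110b0509010b, nat_lit 0x1b212316131a0e140918050a0411, nat_lit 0x1b11130d12140510]) (by decide +kernel)

theorem nt_c10_le : grp 24 nt_c10_K ≤ (grp 24 E) :=
  (p_le97.trans T_s0.le)

theorem nt_c10_mem : Net.toPerm 24 p_g94 ∈ (grp 24 E) :=
  nt_c10_le (toPerm_mem_grp (E := nt_c10_K) (List.Mem.head _))

theorem nt_c10_sym : Sym 24 (grp 24 E) [p_g94] nt_c10_K 0 :=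
  Sym.of_lab p_hn p_hk (okE_cons.2 ⟨p_g94_ok, okE_nil _⟩) nt_c10_K_ok nt_c10_le (kT := 0) (by decide +kernel)

noncomputable def nt_c10_cnt_L : List ℕ := [7, 11, T_s7_O, 1, 0]

theorem nt_c10_cnt_P : Prob 24 5 (grp 24 E) nt_c10_cnt_EG [p_g94] [p_g94] nt_c10_K nt_c10_cnt_L 0 0 :=
  Sym.prob p_hn p_hk nt_c10_sym nt_c10_cnt_EG_ok (grp_cons_le p_g24_T (grp_cons_le p_g25_T (grp_cons_le p_g26_T (grp_cons_le p_g27_T (grp_cons_le p_g28_T (grp_cons_le p_g19_T (grp_cons_le p_g20_T (grp_cons_le p_g21_T (grp_cons_le p_g15_T (grp_cons_le p_g16_T (grp_cons_le p_g11_T (grp_cons_le p_g12_T (grp_cons_le p_g7_T (grp_cons_le p_g8_T (grp_cons_le p_g3_T (grp_cons_le p_g4_T (grp_cons_le p_g1_T (grp_cons_le p_g2_T (grp_nil_le _))))))))))))))))))) (Frames.cons T_s7_F Frames.nil) (okE_cons.2 ⟨p_g94_ok, okE_nil _⟩) _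

noncomputable def nt_c10_cnt_t : BT := (BT.fix (nat_lit 65793) (BT.dif (nat_lit 3) (nat_lit 0) (BT.fix (nat_lit 257) (BT.dif (nat_lit 1) (nat_lit 0) (BT.br (nat_lit 0) (nat_lit 0) [nat_lit 3] (BT.kid (nat_lit 0) (nat_lit 2) (BT.dif (nat_lit 1) (nat_lit 0) (BT.img (nat_lit 1) (nat_lit 1) (BT.dif (nat_lit 1) (nat_lit 0) (BT.img (nat_lit 1) (nat_lit 1) (BT.dif (nat_lit 1) (nat_lit 0) (BT.img (nat_lit 1) (nat_lit 1) (BT.dif (nat_lit 1) (nat_lit 0) (BT.img (nat_lit 1) (nat_lit 1) (BT.dif (nat_lit 1) (nat_lit 0) (BT.img (nat_lit 1) (nat_lit 1) (BT.dif (nat_lit 1) (nat_lit 0) (BT.br (nat_lit 0) (nat_lit 11) [nat_lit 5] (BT.dead (nat_lit 4) (BT.frm (nat_lit 0) (nat_lit 0x1050c13111719151f0d) (nat_lit 0x1070c13111719151f0d) [nat_lit 0, nat_lit 2, nat_lit 4, nat_lit 6, nat_lit 8, nat_lit 10, nat_lit 12] (BT.pln (nat_lit 0) (nat_lit 7) (BT.img (nat_lit 1)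 (nat_lit 2) (BT.and (nat_lit 1) (nat_lit 0) (BT.cnt (nat_lit 0)))))) (BT.dead (nat_lit 14) (BT.frm (nat_lit 0) (nat_lit 0x1050c13111719151f0d) (nat_lit 0x30c13111719151f0d) [nat_lit 0, nat_lit 2, nat_lit 4, nat_lit 6, nat_lit 8, nat_lit 10, nat_lit 12] (BT.pln (nat_lit 0) (nat_lit 7) (BT.img (nat_lit 1) (nat_lit 2) (BT.and (nat_lit 1) (nat_lit 0) (BT.cnt (nat_lit 0)))))) (BT.kid (nat_lit 11) (nat_lit 1) (BT.one (nat_lit 0) (nat_lit 0x1050c13111719151f0d) (nat_lit 0x1050c13111719151f0d) [nat_lit 0, nat_lit 2, nat_lit 4, nat_lit 6, nat_lit 8, nat_lit 10, nat_lit 12]) BT.nil))))))))))))))) BT.nil))))))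

theorem nt_c10_cnt : Cnt 24 (grp 24 E) [p_g94] [p_g94] 0 0 0 0 24 :=
  BT.sound nt_c10_cnt_P Known.nil (t := nt_c10_cnt_t) (d := 0) (by decide +kernel)

theorem nt_c10_ge : 24 ≤ Nat.card (grp 24 nt_c10_K) :=
  Ch.le_card_grp (k := 5) (L := (lab 24 5)) p_hn nt_c10_K_ok (c := (Ch.cons (nat_lit 0) [nat_lit 1, nat_lit 3] (Ch.cons (nat_lit 11) [nat_lit 5] Ch.nil))) (by decide +kernel)

theorem nt_c10_eq : (grp 24 E) ⊓ Subgroup.centralizer {Net.toPerm 24 p_g94} = grp 24 nt_c10_K :=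
  cent_eq nt_c10_sym nt_c10_cnt nt_c10_ge

theorem nt_c10_card : Nat.card ↥((grp 24 E) ⊓ Subgroup.centralizer {Net.toPerm 24 p_g94}) = 24 :=
  card_cent nt_c10_sym nt_c10_cnt nt_c10_ge

theorem nt_c10_ord : orderOf (Net.toPerm 24 p_g94) = 6 :=
  orderOf_net p_hn p_hk p_g94_ok (by decide) (ps := [2, 3]) (by set_option linter.unusedSimpArgs false in simp [Nat.primeFactorsList_ofNat]) (by decide +kernel)

theorem p_le101 : grp 24 nt_c11_K ≤ grp 24 lb_E :=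
  grp_le_of_memB p_hn p_hk lb_E_ok nt_c11_K_ok (ws := [nat_lit 0x1311101a0a1007170119, nat_lit 0x1b1d2115111f0e1109072302, nat_lit 0x2114210d1209180610]) (by decide +kernel)

theorem nt_c11_le : grp 24 nt_c11_K ≤ (grp 24 E) :=
  (p_le101.trans T_s0.le)

theorem nt_c11_mem : Net.toPerm 24 p_g98 ∈ (grp 24 E) :=
  nt_c11_le (toPerm_mem_grp (E := nt_c11_K) (List.Mem.head _))

theorem nt_c11_sym : Sym 24 (grp 24 E) [p_g98] nt_c11_K 0 :=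
  Sym.of_lab p_hn p_hk (okE_cons.2 ⟨p_g98_ok, okE_nil _⟩) nt_c11_K_ok nt_c11_le (kT := 0) (by decide +kernel)

noncomputable def nt_c11_cnt_L : List ℕ := [5, 6, T_s5_O, 0, 0, 7, 11, T_s7_O, 1, 0]

theorem nt_c11_cnt_P : Prob 24 5 (grp 24 E) nt_c11_cnt_EG [p_g98] [p_g98] nt_c11_K nt_c11_cnt_L 0 0 :=
  Sym.prob p_hn p_hk nt_c11_sym nt_c11_cnt_EG_ok (grp_cons_le p_g15_T (grp_cons_le p_g16_T (grp_cons_le p_g19_T (grp_cons_le p_g20_T (grp_cons_le p_g21_T (grp_cons_le p_g24_T (grp_cons_le p_g25_T (grp_cons_le p_g26_T (grp_cons_le p_g27_T (grp_cons_le p_g28_T (grp_cons_le p_g11_T (grp_cons_le p_g12_T (grp_cons_le p_g7_T (grp_cons_le p_g8_T (grp_cons_le p_g3_T (grp_cons_le p_g4_T (grp_cons_le p_g1_T (grp_cons_le p_g2_T (grp_nil_le _))))))))))))))))))) (Frames.cons T_s5_F (Frames.cons T_s7_F Frames.nil)) (okE_cons.2 ⟨p_g98_ok, okE_nil _⟩) _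

noncomputable def nt_c11_cnt_t : BT := (BT.fix (nat_lit 1) (BT.dif (nat_lit 3) (nat_lit 0) (BT.br (nat_lit 0) (nat_lit 0) [nat_lit 3, nat_lit 5] (BT.kid (nat_lit 0) (nat_lit 2) (BT.dif (nat_lit 1) (nat_lit 0) (BT.img (nat_lit 1) (nat_lit 1) (BT.dif (nat_lit 1) (nat_lit 0) (BT.img (nat_lit 1) (nat_lit 1) (BT.dif (nat_lit 1) (nat_lit 0) (BT.img (nat_lit 1) (nat_lit 1) (BT.dif (nat_lit 1) (nat_lit 0) (BT.img (nat_lit 1) (nat_lit 1) (BT.dif (nat_lit 1) (nat_lit 0) (BT.frm (nat_lit 0) (nat_lit 0x113161619191d19) (nat_lit 0x113161619191d19) [nat_lit 1, nat_lit 3, nat_lit 5, nat_lit 7, nat_lit 9] (BT.pln (nat_lit 0) (nat_lit 5) (BT.dif (nat_lit 2) (nat_lit 0) (BT.br (nat_lit 0) (nat_lit 17) [nat_lit 5] (BT.dead (nat_lit 4) (BT.img (nat_lit 1) (nat_lit 5) (BT.frm (nat_lit 1) (nat_lit 0xf060113161619191d19) (nat_lit 0x1113060113161619191d19) [nat_lit 1,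 nat_lit 0, nat_lit 6, nat_lit 8, nat_lit 10, nat_lit 12, nat_lit 14] (BT.pln (nat_lit 0) (nat_lit 7) (BT.img (nat_lit 1) (nat_lit 3) (BT.and (nat_lit 1) (nat_lit 0) (BT.cnt (nat_lit 0))))))) (BT.dead (nat_lit 6) (BT.img (nat_lit 1) (nat_lit 5) (BT.frm (nat_lit 1) (nat_lit 0xf060113161619191d19) (nat_lit 0xd11060113161619191d19) [nat_lit 1, nat_lit 0, nat_lit 6, nat_lit 8, nat_lit 10, nat_lit 12, nat_lit 14] (BT.pln (nat_lit 0) (nat_lit 7) (BT.and (nat_lit 0) (nat_lit 18) (BT.cnt (nat_lit 0)))))) (BT.dead (nat_lit 15) (BT.img (nat_lit 1) (nat_lit 5) (BT.frm (nat_lit 1) (nat_lit 0xf060113161619191d19) (nat_lit 0xd060113161619191d19) [nat_lit 1, nat_lit 0, nat_lit 6, nat_lit 8, nat_lit 10, nat_lit 12, nat_lit 14] (BT.pln (nat_lit 0) (nat_lit 7) (BT.img (nat_lit 1) (nat_lit 3) (BT.and (nat_lit 1) (nat_lit 0) (BT.cnt (nat_lit 0))))))) (BT.dead (nat_lit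 3) (BT.img (nat_lit 1) (nat_lit 5) (BT.frm (nat_lit 1) (nat_lit 0xf060113161619191d19) (nat_lit 0x11060113161619191d19) [nat_lit 1, nat_lit 0, nat_lit 6, nat_lit 8, nat_lit 10, nat_lit 12, nat_lit 14] (BT.pln (nat_lit 0) (nat_lit 7) (BT.and (nat_lit 0) (nat_lit 18) (BT.cnt (nat_lit 0)))))) (BT.dead (nat_lit 1) (BT.img (nat_lit 1) (nat_lit 5) (BT.frm (nat_lit 1) (nat_lit 0xf060113161619191d19) (nat_lit 0x13060113161619191d19) [nat_lit 1, nat_lit 0, nat_lit 6, nat_lit 8, nat_lit 10, nat_lit 12, nat_lit 14] (BT.pln (nat_lit 0) (nat_lit 7) (BT.and (nat_lit 0) (nat_lit 18) (BT.cnt (nat_lit 0)))))) (BT.dead (nat_lit 23) (BT.img (nat_lit 1) (nat_lit 5) (BT.frm (nat_lit 1) (nat_lit 0xf060113161619191d19) (nat_lit 0x60113161619191d19) [nat_lit 1, nat_lit 0, nat_lit 6, nat_lit 8, nat_lit 10, nat_lit 12, nat_lit 14] (BT.pln (nat_lit 0) (nat_lit 7) (BT.and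 (nat_lit 0) (nat_lit 18) (BT.cnt (nat_lit 0)))))) (BT.kid (nat_lit 17) (nat_lit 1) (BT.img (nat_lit 1) (nat_lit 5) (BT.one (nat_lit 1) (nat_lit 0xf060113161619191d19) (nat_lit 0xf060113161619191d19) [nat_lit 1, nat_lit 0, nat_lit 6, nat_lit 8, nat_lit 10, nat_lit 12, nat_lit 14])) BT.nil)))))))))))))))))))) BT.nil))))

theorem nt_c11_cnt : Cnt 24 (grp 24 E) [p_g98] [p_g98] 0 0 0 0 42 :=
  BT.sound nt_c11_cnt_P Known.nil (t := nt_c11_cnt_t) (d := 0) (by decide +kernel)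

theorem nt_c11_ge : 42 ≤ Nat.card (grp 24 nt_c11_K) :=
  Ch.le_card_grp (k := 5) (L := (lab 24 5)) p_hn nt_c11_K_ok (c := (Ch.cons (nat_lit 0) [nat_lit 1, nat_lit 3] (Ch.cons (nat_lit 17) [nat_lit 5] Ch.nil))) (by decide +kernel)

theorem nt_c11_eq : (grp 24 E) ⊓ Subgroup.centralizer {Net.toPerm 24 p_g98} = grp 24 nt_c11_K :=
  cent_eq nt_c11_sym nt_c11_cnt nt_c11_ge

theorem nt_c11_card : Nat.card ↥((grp 24 E) ⊓ Subgroup.centralizer {Net.toPerm 24 p_g98}) = 42 :=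
  card_cent nt_c11_sym nt_c11_cnt nt_c11_ge

theorem nt_c11_ord : orderOf (Net.toPerm 24 p_g98) = 7 :=
  orderOf_net p_hn p_hk p_g98_ok (by decide) (ps := [7]) (by set_option linter.unusedSimpArgs false in simp [Nat.primeFactorsList_ofNat]) (by decide +kernel)

theorem p_le104 : grp 24 nt_c12_K ≤ grp 24 lb_E :=
  grp_le_of_memB p_hn p_hk lb_E_ok nt_c12_K_ok (ws := [nat_lit 0x1f16111d05080121, nat_lit 0x1b1d0d140a1f061a010c03, nat_lit 0x2114210d1209180610]) (by decide +kernel)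

theorem nt_c12_le : grp 24 nt_c12_K ≤ (grp 24 E) :=
  (p_le104.trans T_s0.le)

theorem nt_c12_mem : Net.toPerm 24 p_g102 ∈ (grp 24 E) :=
  nt_c12_le (toPerm_mem_grp (E := nt_c12_K) (List.Mem.head _))

theorem nt_c12_sym : Sym 24 (grp 24 E) [p_g102] nt_c12_K 0 :=
  Sym.of_lab p_hn p_hk (okE_cons.2 ⟨p_g102_ok, okE_nil _⟩) nt_c12_K_ok nt_c12_le (kT := 0) (by decide +kernel)

noncomputable def nt_c12_cnt_L : List ℕ := [5, 6, T_s5_O, 0, 0, 7, 11, T_s7_O, 1, 0]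

theorem nt_c12_cnt_P : Prob 24 5 (grp 24 E) nt_c12_cnt_EG [p_g102] [p_g102] nt_c12_K nt_c12_cnt_L 0 0 :=
  Sym.prob p_hn p_hk nt_c12_sym nt_c12_cnt_EG_ok (grp_cons_le p_g15_T (grp_cons_le p_g16_T (grp_cons_le p_g19_T (grp_cons_le p_g20_T (grp_cons_le p_g21_T (grp_cons_le p_g24_T (grp_cons_le p_g25_T (grp_cons_le p_g26_T (grp_cons_le p_g27_T (grp_cons_le p_g28_T (grp_cons_le p_g11_T (grp_cons_le p_g12_T (grp_cons_le p_g7_T (grp_cons_le p_g8_T (grp_cons_le p_g3_T (grp_cons_le p_g4_T (grp_cons_le p_g1_T (grp_cons_le p_g2_T (grp_nil_le _))))))))))))))))))) (Frames.cons T_s5_F (Frames.cons T_s7_F Frames.nil)) (okE_cons.2 ⟨p_g102_ok, okE_nil _⟩) _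

noncomputable def nt_c12_cnt_t : BT := (BT.fix (nat_lit 1) (BT.dif (nat_lit 3) (nat_lit 0) (BT.br (nat_lit 0) (nat_lit 0) [nat_lit 3] (BT.kid (nat_lit 0) (nat_lit 2) (BT.dif (nat_lit 1) (nat_lit 0) (BT.img (nat_lit 1) (nat_lit 1) (BT.dif (nat_lit 1) (nat_lit 0) (BT.img (nat_lit 1) (nat_lit 1) (BT.dif (nat_lit 1) (nat_lit 0) (BT.img (nat_lit 1) (nat_lit 1) (BT.dif (nat_lit 1) (nat_lit 0) (BT.img (nat_lit 1) (nat_lit 1) (BT.dif (nat_lit 1) (nat_lit 0) (BT.frm (nat_lit 0) (nat_lit 0x2041506191c1d18) (nat_lit 0x2041506191c1d18) [nat_lit 1, nat_lit 3, nat_lit 5, nat_lit 7, nat_lit 9] (BT.pln (nat_lit 0) (nat_lit 5) (BT.dif (nat_lit 2) (nat_lit 0) (BT.br (nat_lit 0) (nat_lit 18) [nat_lit 5] (BT.dead (nat_lit 23) (BT.img (nat_lit 1) (nat_lit 5) (BT.frm (nat_lit 1) (nat_lit 0xb02041506191c1d18) (nat_lit 0xb0f1102041506191c1d18) [nat_lit 1, nat_lit 0, nat_lit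 6, nat_lit 8, nat_lit 10, nat_lit 12, nat_lit 14] (BT.pln (nat_lit 0) (nat_lit 7) (BT.and (nat_lit 0) (nat_lit 18) (BT.cnt (nat_lit 0)))))) (BT.dead (nat_lit 3) (BT.img (nat_lit 1) (nat_lit 5) (BT.frm (nat_lit 1) (nat_lit 0xb02041506191c1d18) (nat_lit 0xb0f02041506191c1d18) [nat_lit 1, nat_lit 0, nat_lit 6, nat_lit 8, nat_lit 10, nat_lit 12, nat_lit 14] (BT.pln (nat_lit 0) (nat_lit 7) (BT.and (nat_lit 0) (nat_lit 18) (BT.cnt (nat_lit 0)))))) (BT.dead (nat_lit 1) (BT.img (nat_lit 1) (nat_lit 5) (BT.frm (nat_lit 1) (nat_lit 0xb02041506191c1d18) (nat_lit 0xf1102041506191c1d18) [nat_lit 1, nat_lit 0, nat_lit 6, nat_lit 8, nat_lit 10, nat_lit 12, nat_lit 14] (BT.pln (nat_lit 0) (nat_lit 7) (BT.and (nat_lit 0) (nat_lit 18) (BT.cnt (nat_lit 0)))))) (BT.dead (nat_lit 15) (BT.img (nat_lit 1) (nat_lit 5) (BT.frm (nat_lit 1) (nat_lit 0xb02041506191c1d18) (nat_lit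 0x1102041506191c1d18) [nat_lit 1, nat_lit 0, nat_lit 6, nat_lit 8, nat_lit 10, nat_lit 12, nat_lit 14] (BT.pln (nat_lit 0) (nat_lit 7) (BT.and (nat_lit 0) (nat_lit 18) (BT.cnt (nat_lit 0)))))) (BT.dead (nat_lit 4) (BT.img (nat_lit 1) (nat_lit 5) (BT.frm (nat_lit 1) (nat_lit 0xb02041506191c1d18) (nat_lit 0xf02041506191c1d18) [nat_lit 1, nat_lit 0, nat_lit 6, nat_lit 8, nat_lit 10, nat_lit 12, nat_lit 14] (BT.pln (nat_lit 0) (nat_lit 7) (BT.and (nat_lit 0) (nat_lit 18) (BT.cnt (nat_lit 0)))))) (BT.dead (nat_lit 6) (BT.img (nat_lit 1) (nat_lit 5) (BT.frm (nat_lit 1) (nat_lit 0xb02041506191c1d18) (nat_lit 0x2041506191c1d18) [nat_lit 1, nat_lit 0, nat_lit 6, nat_lit 8, nat_lit 10, nat_lit 12, nat_lit 14] (BT.pln (nat_lit 0) (nat_lit 7) (BT.img (nat_lit 1) (nat_lit 3) (BT.img (nat_lit 1) (nat_lit 0) (BT.and (nat_lit 2) (nat_lit 0) (BT.cnt (nat_lit 0))))))))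 (BT.kid (nat_lit 18) (nat_lit 1) (BT.img (nat_lit 1) (nat_lit 5) (BT.one (nat_lit 1) (nat_lit 0xb02041506191c1d18) (nat_lit 0xb02041506191c1d18) [nat_lit 1, nat_lit 0, nat_lit 6, nat_lit 8, nat_lit 10, nat_lit 12, nat_lit 14])) BT.nil)))))))))))))))))))) BT.nil))))

theorem nt_c12_cnt : Cnt 24 (grp 24 E) [p_g102] [p_g102] 0 0 0 0 42 :=
  BT.sound nt_c12_cnt_P Known.nil (t := nt_c12_cnt_t) (d := 0) (by decide +kernel)

theorem nt_c12_ge : 42 ≤ Nat.card (grp 24 nt_c12_K) :=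
  Ch.le_card_grp (k := 5) (L := (lab 24 5)) p_hn nt_c12_K_ok (c := (Ch.cons (nat_lit 0) [nat_lit 1, nat_lit 3] (Ch.cons (nat_lit 18) [nat_lit 5] Ch.nil))) (by decide +kernel)

theorem nt_c12_eq : (grp 24 E) ⊓ Subgroup.centralizer {Net.toPerm 24 p_g102} = grp 24 nt_c12_K :=
  cent_eq nt_c12_sym nt_c12_cnt nt_c12_ge

theorem nt_c12_card : Nat.card ↥((grp 24 E) ⊓ Subgroup.centralizer {Net.toPerm 24 p_g102}) = 42 :=
  card_cent nt_c12_sym nt_c12_cnt nt_c12_ge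

theorem nt_c12_ord : orderOf (Net.toPerm 24 p_g102) = 7 :=
  orderOf_net p_hn p_hk p_g102_ok (by decide) (ps := [7]) (by set_option linter.unusedSimpArgs false in simp [Nat.primeFactorsList_ofNat]) (by decide +kernel)

theorem p_le108 : grp 24 nt_c13_K ≤ grp 24 lb_E :=
  grp_le_of_memB p_hn p_hk lb_E_ok nt_c13_K_ok (ws := [nat_lit 0x1b1f15120e1a0a100717021d, nat_lit 0x1b1d2111180e21090c0621010f, nat_lit 0x1d1611131017090d070e0113]) (by decide +kernel)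

theorem nt_c13_le : grp 24 nt_c13_K ≤ (grp 24 E) :=
  (p_le108.trans T_s0.le)

theorem nt_c13_mem : Net.toPerm 24 p_g105 ∈ (grp 24 E) :=
  nt_c13_le (toPerm_mem_grp (E := nt_c13_K) (List.Mem.head _))

theorem nt_c13_sym : Sym 24 (grp 24 E) [p_g105] nt_c13_K 0 :=
  Sym.of_lab p_hn p_hk (okE_cons.2 ⟨p_g105_ok, okE_nil _⟩) nt_c13_K_ok nt_c13_le (kT := 0) (by decide +kernel)

noncomputable def nt_c13_cnt_L : List ℕ := [7, 11, T_s7_O, 1, 0]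

theorem nt_c13_cnt_P : Prob 24 5 (grp 24 E) nt_c13_cnt_EG [p_g105] [p_g105] nt_c13_K nt_c13_cnt_L 0 0 :=
  Sym.prob p_hn p_hk nt_c13_sym nt_c13_cnt_EG_ok (grp_cons_le p_g24_T (grp_cons_le p_g25_T (grp_cons_le p_g26_T (grp_cons_le p_g27_T (grp_cons_le p_g28_T (grp_cons_le p_g19_T (grp_cons_le p_g20_T (grp_cons_le p_g21_T (grp_cons_le p_g15_T (grp_cons_le p_g16_T (grp_cons_le p_g11_T (grp_cons_le p_g12_T (grp_cons_le p_g7_T (grp_cons_le p_g8_T (grp_cons_le p_g3_T (grp_cons_le p_g4_T (grp_cons_le p_g1_T (grp_cons_le p_g2_T (grp_nil_le _))))))))))))))))))) (Frames.cons T_s7_F Frames.nil) (okE_cons.2 ⟨p_g105_ok, okE_nil _⟩) _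

noncomputable def nt_c13_cnt_t : BT := (BT.fix (nat_lit 0x1010101) (BT.fix (nat_lit 257) (BT.dif (nat_lit 1) (nat_lit 0) (BT.br (nat_lit 0) (nat_lit 11) [nat_lit 1] (BT.kid (nat_lit 11) (nat_lit 4) (BT.fix (nat_lit 1) (BT.dif (nat_lit 3) (nat_lit 0) (BT.br (nat_lit 0) (nat_lit 23) [nat_lit 3] (BT.kid (nat_lit 23) (nat_lit 2) (BT.dif (nat_lit 9) (nat_lit 6) (BT.br (nat_lit 0) (nat_lit 0) [nat_lit 5] (BT.dead (nat_lit 19) (BT.dif (nat_lit 7) (nat_lit 2) (BT.dif (nat_lit 0) (nat_lit 5) (BT.dif (nat_lit 8) (nat_lit 7) (BT.img (nat_lit 1) (nat_lit 8) (BT.dif (nat_lit 1) (nat_lit 0) (BT.img (nat_lit 1) (nat_lit 1) (BT.dif (nat_lit 1) (nat_lit 0) (BT.frm (nat_lit 0) (nat_lit 0x70914071512141a1f16210f) (nat_lit 0x1030714071512141a1f16210f) [nat_lit 7, nat_lit 5, nat_lit 9, nat_lit 0, nat_lit 1, nat_lit 3, nat_lit 12] (BT.pln (nat_lit 0) (nat_lit 7) (BT.img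 (nat_lit 1) (nat_lit 9) (BT.and (nat_lit 1) (nat_lit 0) (BT.cnt (nat_lit 0))))))))))))) (BT.dead (nat_lit 4) (BT.dif (nat_lit 7) (nat_lit 2) (BT.dif (nat_lit 0) (nat_lit 5) (BT.dif (nat_lit 8) (nat_lit 7) (BT.img (nat_lit 1) (nat_lit 8) (BT.dif (nat_lit 1) (nat_lit 0) (BT.img (nat_lit 1) (nat_lit 1) (BT.dif (nat_lit 1) (nat_lit 0) (BT.frm (nat_lit 0) (nat_lit 0x70914071512141a1f16210f) (nat_lit 0x10714071512141a1f16210f) [nat_lit 7, nat_lit 5, nat_lit 9, nat_lit 0, nat_lit 1, nat_lit 3, nat_lit 12] (BT.pln (nat_lit 0) (nat_lit 7) (BT.img (nat_lit 1) (nat_lit 9) (BT.img (nat_lit 1) (nat_lit 0) (BT.and (nat_lit 2) (nat_lit 0) (BT.cnt (nat_lit 0)))))))))))))) (BT.dead (nat_lit 6) (BT.dif (nat_lit 7) (nat_lit 2) (BT.dif (nat_lit 0) (nat_lit 5) (BT.dif (nat_lit 8) (nat_lit 7) (BT.img (nat_lit 1) (nat_lit 8) (BT.dif (nat_lit 1) (nat_lit 0) (BT.img (nat_lit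 1) (nat_lit 1) (BT.dif (nat_lit 1) (nat_lit 0) (BT.frm (nat_lit 0) (nat_lit 0x70914071512141a1f16210f) (nat_lit 0x10914071512141a1f16210f) [nat_lit 7, nat_lit 5, nat_lit 9, nat_lit 0, nat_lit 1, nat_lit 3, nat_lit 12] (BT.pln (nat_lit 0) (nat_lit 7) (BT.img (nat_lit 1) (nat_lit 9) (BT.and (nat_lit 1) (nat_lit 0) (BT.cnt (nat_lit 0))))))))))))) (BT.dead (nat_lit 3) (BT.dif (nat_lit 7) (nat_lit 2) (BT.dif (nat_lit 0) (nat_lit 5) (BT.dif (nat_lit 8) (nat_lit 7) (BT.img (nat_lit 1) (nat_lit 8) (BT.dif (nat_lit 1) (nat_lit 0) (BT.img (nat_lit 1) (nat_lit 1) (BT.dif (nat_lit 1) (nat_lit 0) (BT.frm (nat_lit 0) (nat_lit 0x70914071512141a1f16210f) (nat_lit 0x30714071512141a1f16210f) [nat_lit 7, nat_lit 5, nat_lit 9, nat_lit 0, nat_lit 1, nat_lit 3, nat_lit 12] (BT.pln (nat_lit 0) (nat_lit 7) (BT.img (nat_lit 1) (nat_lit 9) (BT.and (nat_lit 1) (nat_lit 0)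 (BT.cnt (nat_lit 0))))))))))))) (BT.dead (nat_lit 1) (BT.dif (nat_lit 7) (nat_lit 2) (BT.dif (nat_lit 0) (nat_lit 5) (BT.dif (nat_lit 8) (nat_lit 7) (BT.img (nat_lit 1) (nat_lit 8) (BT.dif (nat_lit 1) (nat_lit 0) (BT.img (nat_lit 1) (nat_lit 1) (BT.dif (nat_lit 1) (nat_lit 0) (BT.frm (nat_lit 0) (nat_lit 0x70914071512141a1f16210f) (nat_lit 0x10314071512141a1f16210f) [nat_lit 7, nat_lit 5, nat_lit 9, nat_lit 0, nat_lit 1, nat_lit 3, nat_lit 12] (BT.pln (nat_lit 0) (nat_lit 7) (BT.img (nat_lit 1) (nat_lit 9) (BT.and (nat_lit 1) (nat_lit 0) (BT.cnt (nat_lit 0))))))))))))) (BT.dead (nat_lit 12) (BT.dif (nat_lit 7) (nat_lit 2) (BT.dif (nat_lit 0) (nat_lit 5) (BT.dif (nat_lit 8) (nat_lit 7) (BT.img (nat_lit 1) (nat_lit 8) (BT.dif (nat_lit 1) (nat_lit 0) (BT.img (nat_lit 1) (nat_lit 1) (BT.dif (nat_lit 1) (nat_lit 0) (BT.frm (nat_lit 0) (nat_lit 0x70914071512141a1f16210f)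 (nat_lit 0x314071512141a1f16210f) [nat_lit 7, nat_lit 5, nat_lit 9, nat_lit 0, nat_lit 1, nat_lit 3, nat_lit 12] (BT.pln (nat_lit 0) (nat_lit 7) (BT.img (nat_lit 1) (nat_lit 9) (BT.and (nat_lit 1) (nat_lit 0) (BT.cnt (nat_lit 0))))))))))))) (BT.dead (nat_lit 5) (BT.dif (nat_lit 7) (nat_lit 2) (BT.dif (nat_lit 0) (nat_lit 5) (BT.dif (nat_lit 8) (nat_lit 7) (BT.img (nat_lit 1) (nat_lit 8) (BT.dif (nat_lit 1) (nat_lit 0) (BT.img (nat_lit 1) (nat_lit 1) (BT.dif (nat_lit 1) (nat_lit 0) (BT.frm (nat_lit 0) (nat_lit 0x70914071512141a1f16210f) (nat_lit 0x14071512141a1f16210f) [nat_lit 7, nat_lit 5, nat_lit 9, nat_lit 0, nat_lit 1, nat_lit 3, nat_lit 12] (BT.pln (nat_lit 0) (nat_lit 7) (BT.img (nat_lit 1) (nat_lit 9) (BT.and (nat_lit 1) (nat_lit 0) (BT.cnt (nat_lit 0))))))))))))) (BT.kid (nat_lit 0) (nat_lit 1) (BT.dif (nat_lit 7) (nat_lit 2) (BT.dif (nat_lit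 0) (nat_lit 5) (BT.dif (nat_lit 8) (nat_lit 7) (BT.img (nat_lit 1) (nat_lit 8) (BT.dif (nat_lit 1) (nat_lit 0) (BT.img (nat_lit 1) (nat_lit 1) (BT.dif (nat_lit 1) (nat_lit 0) (BT.one (nat_lit 0) (nat_lit 0x70914071512141a1f16210f) (nat_lit 0x70914071512141a1f16210f) [nat_lit 7, nat_lit 5, nat_lit 9, nat_lit 0, nat_lit 1, nat_lit 3, nat_lit 12])))))))) BT.nil)))))))))) BT.nil)))) BT.nil)))))

theorem nt_c13_cnt : Cnt 24 (grp 24 E) [p_g105] [p_g105] 0 0 0 0 16 :=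
  BT.sound nt_c13_cnt_P Known.nil (t := nt_c13_cnt_t) (d := 0) (by decide +kernel)

theorem nt_c13_ge : 16 ≤ Nat.card (grp 24 nt_c13_K) :=
  Ch.le_card_grp (k := 5) (L := (lab 24 5)) p_hn nt_c13_K_ok (c := (Ch.cons (nat_lit 11) [nat_lit 1] (Ch.cons (nat_lit 23) [nat_lit 3] (Ch.cons (nat_lit 0) [nat_lit 5] Ch.nil)))) (by decide +kernel)

theorem nt_c13_eq : (grp 24 E) ⊓ Subgroup.centralizer {Net.toPerm 24 p_g105} = grp 24 nt_c13_K :=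
  cent_eq nt_c13_sym nt_c13_cnt nt_c13_ge

theorem nt_c13_card : Nat.card ↥((grp 24 E) ⊓ Subgroup.centralizer {Net.toPerm 24 p_g105}) = 16 :=
  card_cent nt_c13_sym nt_c13_cnt nt_c13_ge

theorem nt_c13_ord : orderOf (Net.toPerm 24 p_g105) = 8 :=
  orderOf_net p_hn p_hk p_g105_ok (by decide) (ps := [2]) (by set_option linter.unusedSimpArgs false in simp [Nat.primeFactorsList_ofNat]) (by decide +kernel)

theorem p_le111 : grp 24 nt_c14_K ≤ grp 24 lb_E :=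
  grp_le_of_memB p_hn p_hk lb_E_ok nt_c14_K_ok (ws := [nat_lit 0x1b23161210170a10050a0119, nat_lit 0x1d11190e0e0905080116]) (by decide +kernel)

theorem nt_c14_le : grp 24 nt_c14_K ≤ (grp 24 E) :=
  (p_le111.trans T_s0.le)

theorem nt_c14_mem : Net.toPerm 24 p_g109 ∈ (grp 24 E) :=
  nt_c14_le (toPerm_mem_grp (E := nt_c14_K) (List.Mem.head _))

theorem nt_c14_sym : Sym 24 (grp 24 E) [p_g109] nt_c14_K 0 :=
  Sym.of_lab p_hn p_hk (okE_cons.2 ⟨p_g109_ok, okE_nil _⟩) nt_c14_K_ok nt_c14_le (kT := 0) (by decide +kernel)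

noncomputable def nt_c14_cnt_L : List ℕ := [7, 11, T_s7_O, 1, 0]

theorem nt_c14_cnt_P : Prob 24 5 (grp 24 E) nt_c14_cnt_EG [p_g109] [p_g109] nt_c14_K nt_c14_cnt_L 0 0 :=
  Sym.prob p_hn p_hk nt_c14_sym nt_c14_cnt_EG_ok (grp_cons_le p_g24_T (grp_cons_le p_g25_T (grp_cons_le p_g26_T (grp_cons_le p_g27_T (grp_cons_le p_g28_T (grp_cons_le p_g19_T (grp_cons_le p_g20_T (grp_cons_le p_g21_T (grp_cons_le p_g15_T (grp_cons_le p_g16_T (grp_cons_le p_g11_T (grp_cons_le p_g12_T (grp_cons_le p_g7_T (grp_cons_le p_g8_T (grp_cons_le p_g3_T (grp_cons_le p_g4_T (grp_cons_le p_g1_T (grp_cons_le p_g2_T (grp_nil_le _))))))))))))))))))) (Frames.cons T_s7_F Frames.nil) (okE_cons.2 ⟨p_g109_ok, okE_nil _⟩) _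

noncomputable def nt_c14_cnt_t : BT := (BT.fix (nat_lit 257) (BT.dif (nat_lit 3) (nat_lit 0) (BT.br (nat_lit 0) (nat_lit 0) [nat_lit 1, nat_lit 3] (BT.kid (nat_lit 0) (nat_lit 1) (BT.img (nat_lit 1) (nat_lit 0) (BT.img (nat_lit 1) (nat_lit 0) (BT.img (nat_lit 1) (nat_lit 0) (BT.img (nat_lit 1) (nat_lit 0) (BT.img (nat_lit 1) (nat_lit 0) (BT.img (nat_lit 1) (nat_lit 0) (BT.img (nat_lit 1) (nat_lit 0) (BT.one (nat_lit 0) (nat_lit 0x10507110716141b1d19) (nat_lit 0x10507110716141b1d19) [nat_lit 2, nat_lit 0, nat_lit 3, nat_lit 4, nat_lit 5, nat_lit 6, nat_lit 7])))))))) BT.nil))))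

theorem nt_c14_cnt : Cnt 24 (grp 24 E) [p_g109] [p_g109] 0 0 0 0 20 :=
  BT.sound nt_c14_cnt_P Known.nil (t := nt_c14_cnt_t) (d := 0) (by decide +kernel)

theorem nt_c14_ge : 20 ≤ Nat.card (grp 24 nt_c14_K) :=
  Ch.le_card_grp (k := 5) (L := (lab 24 5)) p_hn nt_c14_K_ok (c := (Ch.cons (nat_lit 0) [nat_lit 1, nat_lit 3] Ch.nil)) (by decide +kernel)

theorem nt_c14_eq : (grp 24 E) ⊓ Subgroup.centralizer {Net.toPerm 24 p_g109} = grp 24 nt_c14_K :=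
  cent_eq nt_c14_sym nt_c14_cnt nt_c14_ge

theorem nt_c14_card : Nat.card ↥((grp 24 E) ⊓ Subgroup.centralizer {Net.toPerm 24 p_g109}) = 20 :=
  card_cent nt_c14_sym nt_c14_cnt nt_c14_ge

theorem nt_c14_ord : orderOf (Net.toPerm 24 p_g109) = 10 :=
  orderOf_net p_hn p_hk p_g109_ok (by decide) (ps := [2, 5]) (by set_option linter.unusedSimpArgs false in simp [Nat.primeFactorsList_ofNat]) (by decide +kernel)

theorem p_le113 : grp 24 nt_c15_K ≤ grp 24 lb_E :=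
  grp_le_of_memB p_hn p_hk lb_E_ok nt_c15_K_ok (ws := [nat_lit 0x1f0e0f0b0a010f]) (by decide +kernel)

theorem nt_c15_le : grp 24 nt_c15_K ≤ (grp 24 E) :=
  (p_le113.trans T_s0.le)

theorem nt_c15_mem : Net.toPerm 24 p_g112 ∈ (grp 24 E) :=
  nt_c15_le (toPerm_mem_grp (E := nt_c15_K) (List.Mem.head _))

theorem nt_c15_sym : Sym 24 (grp 24 E) [p_g112] nt_c15_K 0 :=
  Sym.of_lab p_hn p_hk (okE_cons.2 ⟨p_g112_ok, okE_nil _⟩) nt_c15_K_ok nt_c15_le (kT := 0) (by decide +kernel)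

noncomputable def nt_c15_cnt_L : List ℕ := [5, 6, T_s5_O, 0, 0, 7, 11, T_s7_O, 1, 0]

theorem nt_c15_cnt_P : Prob 24 5 (grp 24 E) nt_c15_cnt_EG [p_g112] [p_g112] nt_c15_K nt_c15_cnt_L 0 0 :=
  Sym.prob p_hn p_hk nt_c15_sym nt_c15_cnt_EG_ok (grp_cons_le p_g15_T (grp_cons_le p_g16_T (grp_cons_le p_g19_T (grp_cons_le p_g20_T (grp_cons_le p_g21_T (grp_cons_le p_g24_T (grp_cons_le p_g25_T (grp_cons_le p_g26_T (grp_cons_le p_g27_T (grp_cons_le p_g28_T (grp_cons_le p_g11_T (grp_cons_le p_g12_T (grp_cons_le p_g7_T (grp_cons_le p_g8_T (grp_cons_le p_g3_T (grp_cons_le p_g4_T (grp_cons_le p_g1_T (grp_cons_le p_g2_T (grp_nil_le _))))))))))))))))))) (Frames.cons T_s5_F (Frames.cons T_s7_F Frames.nil)) (okE_cons.2 ⟨p_g112_ok, okE_nil _⟩) _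

noncomputable def nt_c15_cnt_t : BT := (BT.fix (nat_lit 1) (BT.dif (nat_lit 3) (nat_lit 0) (BT.br (nat_lit 0) (nat_lit 0) [nat_lit 1] (BT.dead (nat_lit 1) (BT.img (nat_lit 1) (nat_lit 0) (BT.img (nat_lit 1) (nat_lit 0) (BT.img (nat_lit 1) (nat_lit 0) (BT.img (nat_lit 1) (nat_lit 0) (BT.frm (nat_lit 0) (nat_lit 72986) (nat_lit 0x10d180a1b1f241d) [nat_lit 0, nat_lit 1, nat_lit 2, nat_lit 3, nat_lit 4] (BT.pln (nat_lit 0) (nat_lit 5) (BT.img (nat_lit 1) (nat_lit 2) (BT.img (nat_lit 1) (nat_lit 0) (BT.and (nat_lit 2) (nat_lit 0) (BT.cnt (nat_lit 0))))))))))) (BT.kid (nat_lit 0) (nat_lit 1) (BT.img (nat_lit 1) (nat_lit 0) (BT.img (nat_lit 1) (nat_lit 0) (BT.img (nat_lit 1) (nat_lit 0) (BT.img (nat_lit 1) (nat_lit 0) (BT.img (nat_lit 1) (nat_lit 0) (BT.img (nat_lit 1) (nat_lit 0) (BT.one (nat_lit 1) (nat_lit 0xb0d05011d1a) (nat_lit 0xb0d05011d1a) [nat_lit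 1, nat_lit 0, nat_lit 2, nat_lit 3, nat_lit 4, nat_lit 5, nat_lit 6]))))))) BT.nil)))))

theorem nt_c15_cnt : Cnt 24 (grp 24 E) [p_g112] [p_g112] 0 0 0 0 11 :=
  BT.sound nt_c15_cnt_P Known.nil (t := nt_c15_cnt_t) (d := 0) (by decide +kernel)

theorem nt_c15_ge : 11 ≤ Nat.card (grp 24 nt_c15_K) :=
  Ch.le_card_grp (k := 5) (L := (lab 24 5)) p_hn nt_c15_K_ok (c := (Ch.cons (nat_lit 0) [nat_lit 1] Ch.nil)) (by decide +kernel)

theorem nt_c15_eq : (grp 24 E) ⊓ Subgroup.centralizer {Net.toPerm 24 p_g112} = grp 24 nt_c15_K :=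
  cent_eq nt_c15_sym nt_c15_cnt nt_c15_ge

theorem nt_c15_card : Nat.card ↥((grp 24 E) ⊓ Subgroup.centralizer {Net.toPerm 24 p_g112}) = 11 :=
  card_cent nt_c15_sym nt_c15_cnt nt_c15_ge

theorem nt_c15_ord : orderOf (Net.toPerm 24 p_g112) = 11 :=
  orderOf_net p_hn p_hk p_g112_ok (by decide) (ps := [11]) (by set_option linter.unusedSimpArgs false in simp [Nat.primeFactorsList_ofNat]) (by decide +kernel)

theorem p_le115 : grp 24 nt_c16_K ≤ grp 24 lb_E :=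
  grp_le_of_memB p_hn p_hk lb_E_ok nt_c16_K_ok (ws := [nat_lit 0x1611110d140b05080121]) (by decide +kernel)

theorem nt_c16_le : grp 24 nt_c16_K ≤ (grp 24 E) :=
  (p_le115.trans T_s0.le)

theorem nt_c16_mem : Net.toPerm 24 p_g114 ∈ (grp 24 E) :=
  nt_c16_le (toPerm_mem_grp (E := nt_c16_K) (List.Mem.head _))

theorem nt_c16_sym : Sym 24 (grp 24 E) [p_g114] nt_c16_K 0 :=
  Sym.of_lab p_hn p_hk (okE_cons.2 ⟨p_g114_ok, okE_nil _⟩) nt_c16_K_ok nt_c16_le (kT := 0) (by decide +kernel)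

noncomputable def nt_c16_cnt_L : List ℕ := [5, 6, T_s5_O, 0, 0, 7, 11, T_s7_O, 1, 0]

theorem nt_c16_cnt_P : Prob 24 5 (grp 24 E) nt_c16_cnt_EG [p_g114] [p_g114] nt_c16_K nt_c16_cnt_L 0 0 :=
  Sym.prob p_hn p_hk nt_c16_sym nt_c16_cnt_EG_ok (grp_cons_le p_g15_T (grp_cons_le p_g16_T (grp_cons_le p_g19_T (grp_cons_le p_g20_T (grp_cons_le p_g21_T (grp_cons_le p_g24_T (grp_cons_le p_g25_T (grp_cons_le p_g26_T (grp_cons_le p_g27_T (grp_cons_le p_g28_T (grp_cons_le p_g11_T (grp_cons_le p_g12_T (grp_cons_le p_g7_T (grp_cons_le p_g8_T (grp_cons_le p_g3_T (grp_cons_le p_g4_T (grp_cons_le p_g1_T (grp_cons_le p_g2_T (grp_nil_le _))))))))))))))))))) (Frames.cons T_s5_F (Frames.cons T_s7_F Frames.nil)) (okE_cons.2 ⟨p_g114_ok, okE_nil _⟩) _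

noncomputable def nt_c16_cnt_t : BT := (BT.br (nat_lit 2) (nat_lit 0) [nat_lit 1] (BT.dead (nat_lit 3) (BT.img (nat_lit 1) (nat_lit 0) (BT.img (nat_lit 1) (nat_lit 0) (BT.img (nat_lit 1) (nat_lit 0) (BT.img (nat_lit 1) (nat_lit 0) (BT.frm (nat_lit 0) (nat_lit 0x204161619111d18) (nat_lit 0x1091502041f211c23) [nat_lit 0, nat_lit 1, nat_lit 2, nat_lit 3, nat_lit 4] (BT.pln (nat_lit 0) (nat_lit 5) (BT.img (nat_lit 1) (nat_lit 0) (BT.img (nat_lit 1) (nat_lit 0) (BT.and (nat_lit 2) (nat_lit 0) (BT.img (nat_lit 1) (nat_lit 0) (BT.and (nat_lit 3) (nat_lit 0) (BT.img (nat_lit 1) (nat_lit 0) (BT.img (nat_lit 1) (nat_lit 0) (BT.img (nat_lit 1) (nat_lit 0) (BT.and (nat_lit 0) (nat_lit 8) (BT.cnt (nat_lit 0))))))))))))))))) (BT.kid (nat_lit 0) (nat_lit 1) (BT.img (nat_lit 1) (nat_lit 0) (BT.img (nat_lit 1) (nat_lit 0) (BT.img (nat_lit 1) (nat_lit 0) (BT.img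 (nat_lit 1) (nat_lit 0) (BT.img (nat_lit 1) (nat_lit 0) (BT.frm (nat_lit 0) (nat_lit 0x204161619111d18) (nat_lit 0x204161619111d18) [nat_lit 1, nat_lit 2, nat_lit 3, nat_lit 4, nat_lit 5] (BT.pln (nat_lit 0) (nat_lit 5) (BT.img (nat_lit 1) (nat_lit 0) (BT.img (nat_lit 1) (nat_lit 0) (BT.and (nat_lit 2) (nat_lit 0) (BT.one (nat_lit 1) (nat_lit 0x1113060204161619111d18) (nat_lit 0x1113060204161619111d18) [nat_lit 5, nat_lit 0, nat_lit 6, nat_lit 7, nat_lit 8, nat_lit 9, nat_lit 10]))))))))))) BT.nil)))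

theorem nt_c16_cnt : Cnt 24 (grp 24 E) [p_g114] [p_g114] 0 0 0 0 12 :=
  BT.sound nt_c16_cnt_P Known.nil (t := nt_c16_cnt_t) (d := 0) (by decide +kernel)

theorem nt_c16_ge : 12 ≤ Nat.card (grp 24 nt_c16_K) :=
  Ch.le_card_grp (k := 5) (L := (lab 24 5)) p_hn nt_c16_K_ok (c := (Ch.cons (nat_lit 0) [nat_lit 1] Ch.nil)) (by decide +kernel)

theorem nt_c16_eq : (grp 24 E) ⊓ Subgroup.centralizer {Net.toPerm 24 p_g114} = grp 24 nt_c16_K :=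
  cent_eq nt_c16_sym nt_c16_cnt nt_c16_ge

theorem nt_c16_card : Nat.card ↥((grp 24 E) ⊓ Subgroup.centralizer {Net.toPerm 24 p_g114}) = 12 :=
  card_cent nt_c16_sym nt_c16_cnt nt_c16_ge

theorem nt_c16_ord : orderOf (Net.toPerm 24 p_g114) = 12 :=
  orderOf_net p_hn p_hk p_g114_ok (by decide) (ps := [2, 3]) (by set_option linter.unusedSimpArgs false in simp [Nat.primeFactorsList_ofNat]) (by decide +kernel)

theorem p_le116 : grp 24 nt_c17_K ≤ grp 24 lb_E :=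
  grp_le_of_memB p_hn p_hk lb_E_ok nt_c17_K_ok (ws := [nat_lit 0x1b212316131a0e140918050a0411]) (by decide +kernel)

theorem nt_c17_le : grp 24 nt_c17_K ≤ (grp 24 E) :=
  (p_le116.trans T_s0.le)

theorem nt_c17_mem : Net.toPerm 24 p_g95 ∈ (grp 24 E) :=
  nt_c17_le (toPerm_mem_grp (E := nt_c17_K) (List.Mem.head _))

theorem nt_c17_sym : Sym 24 (grp 24 E) [p_g95] nt_c17_K 0 :=
  Sym.of_lab p_hn p_hk (okE_cons.2 ⟨p_g95_ok, okE_nil _⟩) nt_c17_K_ok nt_c17_le (kT := 0) (by decide +kernel)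

noncomputable def nt_c17_cnt_L : List ℕ := [7, 11, T_s7_O, 1, 0]

theorem nt_c17_cnt_P : Prob 24 5 (grp 24 E) nt_c17_cnt_EG [p_g95] [p_g95] nt_c17_K nt_c17_cnt_L 0 0 :=
  Sym.prob p_hn p_hk nt_c17_sym nt_c17_cnt_EG_ok (grp_cons_le p_g24_T (grp_cons_le p_g25_T (grp_cons_le p_g26_T (grp_cons_le p_g27_T (grp_cons_le p_g28_T (grp_cons_le p_g19_T (grp_cons_le p_g20_T (grp_cons_le p_g21_T (grp_cons_le p_g15_T (grp_cons_le p_g16_T (grp_cons_le p_g11_T (grp_cons_le p_g12_T (grp_cons_le p_g7_T (grp_cons_le p_g8_T (grp_cons_le p_g3_T (grp_cons_le p_g4_T (grp_cons_le p_g1_T (grp_cons_le p_g2_T (grp_nil_le _))))))))))))))))))) (Frames.cons T_s7_F Frames.nil) (okE_cons.2 ⟨p_g95_ok, okE_nil _⟩) _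

noncomputable def nt_c17_cnt_t : BT := (BT.fix (nat_lit 0x10101010101) (BT.dif (nat_lit 3) (nat_lit 0) (BT.fix (nat_lit 0x1010101) (BT.dif (nat_lit 1) (nat_lit 0) (BT.br (nat_lit 0) (nat_lit 0) [nat_lit 1] (BT.kid (nat_lit 0) (nat_lit 1) (BT.img (nat_lit 1) (nat_lit 0) (BT.img (nat_lit 1) (nat_lit 0) (BT.img (nat_lit 1) (nat_lit 0) (BT.img (nat_lit 1) (nat_lit 0) (BT.img (nat_lit 1) (nat_lit 0) (BT.img (nat_lit 1) (nat_lit 0) (BT.img (nat_lit 1) (nat_lit 0) (BT.img (nat_lit 1) (nat_lit 0) (BT.one (nat_lit 0) (nat_lit 0x107090b1103150c19191d17) (nat_lit 0x107090b1103150c19191d17) [nat_lit 3, nat_lit 0, nat_lit 4, nat_lit 5, nat_lit 6, nat_lit 7, nat_lit 8]))))))))) BT.nil))))))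

theorem nt_c17_cnt : Cnt 24 (grp 24 E) [p_g95] [p_g95] 0 0 0 0 12 :=
  BT.sound nt_c17_cnt_P Known.nil (t := nt_c17_cnt_t) (d := 0) (by decide +kernel)

theorem nt_c17_ge : 12 ≤ Nat.card (grp 24 nt_c17_K) :=
  Ch.le_card_grp (k := 5) (L := (lab 24 5)) p_hn nt_c17_K_ok (c := (Ch.cons (nat_lit 0) [nat_lit 1] Ch.nil)) (by decide +kernel)

theorem nt_c17_eq : (grp 24 E) ⊓ Subgroup.centralizer {Net.toPerm 24 p_g95} = grp 24 nt_c17_K :=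
  cent_eq nt_c17_sym nt_c17_cnt nt_c17_ge

theorem nt_c17_card : Nat.card ↥((grp 24 E) ⊓ Subgroup.centralizer {Net.toPerm 24 p_g95}) = 12 :=
  card_cent nt_c17_sym nt_c17_cnt nt_c17_ge

theorem nt_c17_ord : orderOf (Net.toPerm 24 p_g95) = 12 :=
  orderOf_net p_hn p_hk p_g95_ok (by decide) (ps := [2, 3]) (by set_option linter.unusedSimpArgs false in simp [Nat.primeFactorsList_ofNat]) (by decide +kernel)

theorem p_le118 : grp 24 nt_c18_K ≤ grp 24 lb_E :=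
  grp_le_of_memB p_hn p_hk lb_E_ok nt_c18_K_ok (ws := [nat_lit 0x1b21111d0e1a0a0a070e010c]) (by decide +kernel)

theorem nt_c18_le : grp 24 nt_c18_K ≤ (grp 24 E) :=
  (p_le118.trans T_s0.le)

theorem nt_c18_mem : Net.toPerm 24 p_g117 ∈ (grp 24 E) :=
  nt_c18_le (toPerm_mem_grp (E := nt_c18_K) (List.Mem.head _))

theorem nt_c18_sym : Sym 24 (grp 24 E) [p_g117] nt_c18_K 0 :=
  Sym.of_lab p_hn p_hk (okE_cons.2 ⟨p_g117_ok, okE_nil _⟩) nt_c18_K_ok nt_c18_le (kT := 0) (by decide +kernel)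

noncomputable def nt_c18_cnt_L : List ℕ := [7, 11, T_s7_O, 1, 0]

theorem nt_c18_cnt_P : Prob 24 5 (grp 24 E) nt_c18_cnt_EG [p_g117] [p_g117] nt_c18_K nt_c18_cnt_L 0 0 :=
  Sym.prob p_hn p_hk nt_c18_sym nt_c18_cnt_EG_ok (grp_cons_le p_g24_T (grp_cons_le p_g25_T (grp_cons_le p_g26_T (grp_cons_le p_g27_T (grp_cons_le p_g28_T (grp_cons_le p_g19_T (grp_cons_le p_g20_T (grp_cons_le p_g21_T (grp_cons_le p_g15_T (grp_cons_le p_g16_T (grp_cons_le p_g11_T (grp_cons_le p_g12_T (grp_cons_le p_g7_T (grp_cons_le p_g8_T (grp_cons_le p_g3_T (grp_cons_le p_g4_T (grp_cons_le p_g1_T (grp_cons_le p_g2_T (grp_nil_le _))))))))))))))))))) (Frames.cons T_s7_F Frames.nil) (okE_cons.2 ⟨p_g117_ok, okE_nil _⟩) _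

noncomputable def nt_c18_cnt_t : BT := (BT.fix (nat_lit 0x1010101010101) (BT.dif (nat_lit 3) (nat_lit 0) (BT.fix (nat_lit 257) (BT.dif (nat_lit 1) (nat_lit 0) (BT.br (nat_lit 0) (nat_lit 15) [nat_lit 1] (BT.kid (nat_lit 15) (nat_lit 1) (BT.img (nat_lit 1) (nat_lit 0) (BT.img (nat_lit 1) (nat_lit 0) (BT.img (nat_lit 1) (nat_lit 0) (BT.img (nat_lit 1) (nat_lit 0) (BT.img (nat_lit 1) (nat_lit 0) (BT.img (nat_lit 1) (nat_lit 0) (BT.img (nat_lit 1) (nat_lit 0) (BT.img (nat_lit 1) (nat_lit 0) (BT.fix (nat_lit 1) (BT.one (nat_lit 0) (nat_lit 0x50b110916101a151f192121) (nat_lit 0x50b110916101a151f192121) [nat_lit 5, nat_lit 1, nat_lit 6, nat_lit 7, nat_lit 8, nat_lit 9, nat_lit 0])))))))))) BT.nil))))))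

theorem nt_c18_cnt : Cnt 24 (grp 24 E) [p_g117] [p_g117] 0 0 0 0 14 :=
  BT.sound nt_c18_cnt_P Known.nil (t := nt_c18_cnt_t) (d := 0) (by decide +kernel)

theorem nt_c18_ge : 14 ≤ Nat.card (grp 24 nt_c18_K) :=
  Ch.le_card_grp (k := 5) (L := (lab 24 5)) p_hn nt_c18_K_ok (c := (Ch.cons (nat_lit 15) [nat_lit 1] Ch.nil)) (by decide +kernel)

theorem nt_c18_eq : (grp 24 E) ⊓ Subgroup.centralizer {Net.toPerm 24 p_g117} = grp 24 nt_c18_K :=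
  cent_eq nt_c18_sym nt_c18_cnt nt_c18_ge

theorem nt_c18_card : Nat.card ↥((grp 24 E) ⊓ Subgroup.centralizer {Net.toPerm 24 p_g117}) = 14 :=
  card_cent nt_c18_sym nt_c18_cnt nt_c18_ge

theorem nt_c18_ord : orderOf (Net.toPerm 24 p_g117) = 14 :=
  orderOf_net p_hn p_hk p_g117_ok (by decide) (ps := [2, 7]) (by set_option linter.unusedSimpArgs false in simp [Nat.primeFactorsList_ofNat]) (by decide +kernel)

theorem p_le120 : grp 24 nt_c19_K ≤ grp 24 lb_E :=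
  grp_le_of_memB p_hn p_hk lb_E_ok nt_c19_K_ok (ws := [nat_lit 0x15131a0d10091705050106]) (by decide +kernel)

theorem nt_c19_le : grp 24 nt_c19_K ≤ (grp 24 E) :=
  (p_le120.trans T_s0.le)

theorem nt_c19_mem : Net.toPerm 24 p_g119 ∈ (grp 24 E) :=
  nt_c19_le (toPerm_mem_grp (E := nt_c19_K) (List.Mem.head _))

theorem nt_c19_sym : Sym 24 (grp 24 E) [p_g119] nt_c19_K 0 :=
  Sym.of_lab p_hn p_hk (okE_cons.2 ⟨p_g119_ok, okE_nil _⟩) nt_c19_K_ok nt_c19_le (kT := 0) (by decide +kernel)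

noncomputable def nt_c19_cnt_L : List ℕ := [7, 11, T_s7_O, 1, 0]

theorem nt_c19_cnt_P : Prob 24 5 (grp 24 E) nt_c19_cnt_EG [p_g119] [p_g119] nt_c19_K nt_c19_cnt_L 0 0 :=
  Sym.prob p_hn p_hk nt_c19_sym nt_c19_cnt_EG_ok (grp_cons_le p_g24_T (grp_cons_le p_g25_T (grp_cons_le p_g26_T (grp_cons_le p_g27_T (grp_cons_le p_g28_T (grp_cons_le p_g19_T (grp_cons_le p_g20_T (grp_cons_le p_g21_T (grp_cons_le p_g15_T (grp_cons_le p_g16_T (grp_cons_le p_g11_T (grp_cons_le p_g12_T (grp_cons_le p_g7_T (grp_cons_le p_g8_T (grp_cons_le p_g3_T (grp_cons_le p_g4_T (grp_cons_le p_g1_T (grp_cons_le p_g2_T (grp_nil_le _))))))))))))))))))) (Frames.cons T_s7_F Frames.nil) (okE_cons.2 ⟨p_g119_ok, okE_nil _⟩) _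

noncomputable def nt_c19_cnt_t : BT := (BT.fix (nat_lit 0x1010101010101) (BT.dif (nat_lit 3) (nat_lit 0) (BT.fix (nat_lit 257) (BT.dif (nat_lit 1) (nat_lit 0) (BT.br (nat_lit 0) (nat_lit 15) [nat_lit 1] (BT.kid (nat_lit 15) (nat_lit 1) (BT.img (nat_lit 1) (nat_lit 0) (BT.img (nat_lit 1) (nat_lit 0) (BT.img (nat_lit 1) (nat_lit 0) (BT.img (nat_lit 1) (nat_lit 0) (BT.img (nat_lit 1) (nat_lit 0) (BT.img (nat_lit 1) (nat_lit 0) (BT.img (nat_lit 1) (nat_lit 0) (BT.img (nat_lit 1) (nat_lit 0) (BT.img (nat_lit 1) (nat_lit 0) (BT.fix (nat_lit 1) (BT.one (nat_lit 0) (nat_lit 0x1090b1207151219161f192121) (nat_lit 0x1090b1207151219161f192121) [nat_lit 6, nat_lit 1, nat_lit 7, nat_lit 8, nat_lit 9, nat_lit 10, nat_lit 0]))))))))))) BT.nil))))))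

theorem nt_c19_cnt : Cnt 24 (grp 24 E) [p_g119] [p_g119] 0 0 0 0 14 :=
  BT.sound nt_c19_cnt_P Known.nil (t := nt_c19_cnt_t) (d := 0) (by decide +kernel)

theorem nt_c19_ge : 14 ≤ Nat.card (grp 24 nt_c19_K) :=
  Ch.le_card_grp (k := 5) (L := (lab 24 5)) p_hn nt_c19_K_ok (c := (Ch.cons (nat_lit 15) [nat_lit 1] Ch.nil)) (by decide +kernel)

theorem nt_c19_eq : (grp 24 E) ⊓ Subgroup.centralizer {Net.toPerm 24 p_g119} = grp 24 nt_c19_K :=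
  cent_eq nt_c19_sym nt_c19_cnt nt_c19_ge

theorem nt_c19_card : Nat.card ↥((grp 24 E) ⊓ Subgroup.centralizer {Net.toPerm 24 p_g119}) = 14 :=
  card_cent nt_c19_sym nt_c19_cnt nt_c19_ge

theorem nt_c19_ord : orderOf (Net.toPerm 24 p_g119) = 14 :=
  orderOf_net p_hn p_hk p_g119_ok (by decide) (ps := [2, 7]) (by set_option linter.unusedSimpArgs false in simp [Nat.primeFactorsList_ofNat]) (by decide +kernel)

theorem p_le122 : grp 24 nt_c20_K ≤ grp 24 lb_E :=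
  grp_le_of_memB p_hn p_hk lb_E_ok nt_c20_K_ok (ws := [nat_lit 0x2123111f0e130a060f0123]) (by decide +kernel)

theorem nt_c20_le : grp 24 nt_c20_K ≤ (grp 24 E) :=
  (p_le122.trans T_s0.le)

theorem nt_c20_mem : Net.toPerm 24 p_g121 ∈ (grp 24 E) :=
  nt_c20_le (toPerm_mem_grp (E := nt_c20_K) (List.Mem.head _))

theorem nt_c20_sym : Sym 24 (grp 24 E) [p_g121] nt_c20_K 0 :=
  Sym.of_lab p_hn p_hk (okE_cons.2 ⟨p_g121_ok, okE_nil _⟩) nt_c20_K_ok nt_c20_le (kT := 0) (by decide +kernel)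

noncomputable def nt_c20_cnt_L : List ℕ := [7, 11, T_s7_O, 1, 0]

theorem nt_c20_cnt_P : Prob 24 5 (grp 24 E) nt_c20_cnt_EG [p_g121] [p_g121] nt_c20_K nt_c20_cnt_L 0 0 :=
  Sym.prob p_hn p_hk nt_c20_sym nt_c20_cnt_EG_ok (grp_cons_le p_g24_T (grp_cons_le p_g25_T (grp_cons_le p_g26_T (grp_cons_le p_g27_T (grp_cons_le p_g28_T (grp_cons_le p_g19_T (grp_cons_le p_g20_T (grp_cons_le p_g21_T (grp_cons_le p_g15_T (grp_cons_le p_g16_T (grp_cons_le p_g11_T (grp_cons_le p_g12_T (grp_cons_le p_g7_T (grp_cons_le p_g8_T (grp_cons_le p_g3_T (grp_cons_le p_g4_T (grp_cons_le p_g1_T (grp_cons_le p_g2_T (grp_nil_le _))))))))))))))))))) (Frames.cons T_s7_F Frames.nil) (okE_cons.2 ⟨p_g121_ok, okE_nil _⟩) _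

noncomputable def nt_c20_cnt_t : BT := (BT.fix (nat_lit 0x101010101) (BT.dif (nat_lit 3) (nat_lit 0) (BT.fix (nat_lit 65793) (BT.dif (nat_lit 1) (nat_lit 0) (BT.br (nat_lit 0) (nat_lit 0) [nat_lit 1] (BT.kid (nat_lit 0) (nat_lit 1) (BT.img (nat_lit 1) (nat_lit 0) (BT.img (nat_lit 1) (nat_lit 0) (BT.img (nat_lit 1) (nat_lit 0) (BT.img (nat_lit 1) (nat_lit 0) (BT.img (nat_lit 1) (nat_lit 0) (BT.img (nat_lit 1) (nat_lit 0) (BT.img (nat_lit 1) (nat_lit 0) (BT.img (nat_lit 1) (nat_lit 0) (BT.img (nat_lit 1) (nat_lit 0) (BT.img (nat_lit 1) (nat_lit 0) (BT.img (nat_lit 1) (nat_lit 0) (BT.img (nat_lit 1) (nat_lit 0) (BT.fix (nat_lit 1) (BT.one (nat_lit 0) (nat_lit 0x1030b12071719191e172119) (nat_lit 0x1030b12071719191e172119) [nat_lit 9, nat_lit 1, nat_lit 10, nat_lit 11, nat_lit 12, nat_lit 13, nat_lit 0])))))))))))))) BT.nil))))))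

theorem nt_c20_cnt : Cnt 24 (grp 24 E) [p_g121] [p_g121] 0 0 0 0 15 :=
  BT.sound nt_c20_cnt_P Known.nil (t := nt_c20_cnt_t) (d := 0) (by decide +kernel)

theorem nt_c20_ge : 15 ≤ Nat.card (grp 24 nt_c20_K) :=
  Ch.le_card_grp (k := 5) (L := (lab 24 5)) p_hn nt_c20_K_ok (c := (Ch.cons (nat_lit 0) [nat_lit 1] Ch.nil)) (by decide +kernel)

theorem nt_c20_eq : (grp 24 E) ⊓ Subgroup.centralizer {Net.toPerm 24 p_g121} = grp 24 nt_c20_K :=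
  cent_eq nt_c20_sym nt_c20_cnt nt_c20_ge

theorem nt_c20_card : Nat.card ↥((grp 24 E) ⊓ Subgroup.centralizer {Net.toPerm 24 p_g121}) = 15 :=
  card_cent nt_c20_sym nt_c20_cnt nt_c20_ge

theorem nt_c20_ord : orderOf (Net.toPerm 24 p_g121) = 15 :=
  orderOf_net p_hn p_hk p_g121_ok (by decide) (ps := [3, 5]) (by set_option linter.unusedSimpArgs false in simp [Nat.primeFactorsList_ofNat]) (by decide +kernel)

theorem p_le124 : grp 24 nt_c21_K ≤ grp 24 lb_E :=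
  grp_le_of_memB p_hn p_hk lb_E_ok nt_c21_K_ok (ws := [nat_lit 0x1b1f2116140e130b0a0606041a]) (by decide +kernel)

theorem nt_c21_le : grp 24 nt_c21_K ≤ (grp 24 E) :=
  (p_le124.trans T_s0.le)

theorem nt_c21_mem : Net.toPerm 24 p_g123 ∈ (grp 24 E) :=
  nt_c21_le (toPerm_mem_grp (E := nt_c21_K) (List.Mem.head _))

theorem nt_c21_sym : Sym 24 (grp 24 E) [p_g123] nt_c21_K 0 :=
  Sym.of_lab p_hn p_hk (okE_cons.2 ⟨p_g123_ok, okE_nil _⟩) nt_c21_K_ok nt_c21_le (kT := 0) (by decide +kernel)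

noncomputable def nt_c21_cnt_L : List ℕ := [7, 11, T_s7_O, 1, 0]

theorem nt_c21_cnt_P : Prob 24 5 (grp 24 E) nt_c21_cnt_EG [p_g123] [p_g123] nt_c21_K nt_c21_cnt_L 0 0 :=
  Sym.prob p_hn p_hk nt_c21_sym nt_c21_cnt_EG_ok (grp_cons_le p_g24_T (grp_cons_le p_g25_T (grp_cons_le p_g26_T (grp_cons_le p_g27_T (grp_cons_le p_g28_T (grp_cons_le p_g19_T (grp_cons_le p_g20_T (grp_cons_le p_g21_T (grp_cons_le p_g15_T (grp_cons_le p_g16_T (grp_cons_le p_g11_T (grp_cons_le p_g12_T (grp_cons_le p_g7_T (grp_cons_le p_g8_T (grp_cons_le p_g3_T (grp_cons_le p_g4_T (grp_cons_le p_g1_T (grp_cons_le p_g2_T (grp_nil_le _))))))))))))))))))) (Frames.cons T_s7_F Frames.nil) (okE_cons.2 ⟨p_g123_ok, okE_nil _⟩) _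

noncomputable def nt_c21_cnt_t : BT := (BT.fix (nat_lit 0x101010101) (BT.dif (nat_lit 3) (nat_lit 0) (BT.fix (nat_lit 65793) (BT.dif (nat_lit 1) (nat_lit 0) (BT.br (nat_lit 0) (nat_lit 0) [nat_lit 1] (BT.kid (nat_lit 0) (nat_lit 1) (BT.img (nat_lit 1) (nat_lit 0) (BT.img (nat_lit 1) (nat_lit 0) (BT.img (nat_lit 1) (nat_lit 0) (BT.img (nat_lit 1) (nat_lit 0) (BT.img (nat_lit 1) (nat_lit 0) (BT.img (nat_lit 1) (nat_lit 0) (BT.fix (nat_lit 1) (BT.one (nat_lit 0) (nat_lit 0x7091215181a1e172119) (nat_lit 0x7091215181a1e172119) [nat_lit 3, nat_lit 1, nat_lit 4, nat_lit 5, nat_lit 6, nat_lit 7, nat_lit 0])))))))) BT.nil))))))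

theorem nt_c21_cnt : Cnt 24 (grp 24 E) [p_g123] [p_g123] 0 0 0 0 15 :=
  BT.sound nt_c21_cnt_P Known.nil (t := nt_c21_cnt_t) (d := 0) (by decide +kernel)

theorem nt_c21_ge : 15 ≤ Nat.card (grp 24 nt_c21_K) :=
  Ch.le_card_grp (k := 5) (L := (lab 24 5)) p_hn nt_c21_K_ok (c := (Ch.cons (nat_lit 0) [nat_lit 1] Ch.nil)) (by decide +kernel)

theorem nt_c21_eq : (grp 24 E) ⊓ Subgroup.centralizer {Net.toPerm 24 p_g123} = grp 24 nt_c21_K :=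
  cent_eq nt_c21_sym nt_c21_cnt nt_c21_ge

theorem nt_c21_card : Nat.card ↥((grp 24 E) ⊓ Subgroup.centralizer {Net.toPerm 24 p_g123}) = 15 :=
  card_cent nt_c21_sym nt_c21_cnt nt_c21_ge

theorem nt_c21_ord : orderOf (Net.toPerm 24 p_g123) = 15 :=
  orderOf_net p_hn p_hk p_g123_ok (by decide) (ps := [3, 5]) (by set_option linter.unusedSimpArgs false in simp [Nat.primeFactorsList_ofNat]) (by decide +kernel)

theorem p_le126 : grp 24 nt_c22_K ≤ grp 24 lb_E :=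
  grp_le_of_memB p_hn p_hk lb_E_ok nt_c22_K_ok (ws := [nat_lit 0x21231512140d10090f07021d]) (by decide +kernel)

theorem nt_c22_le : grp 24 nt_c22_K ≤ (grp 24 E) :=
  (p_le126.trans T_s0.le)

theorem nt_c22_mem : Net.toPerm 24 p_g125 ∈ (grp 24 E) :=
  nt_c22_le (toPerm_mem_grp (E := nt_c22_K) (List.Mem.head _))

theorem nt_c22_sym : Sym 24 (grp 24 E) [p_g125] nt_c22_K 0 :=
  Sym.of_lab p_hn p_hk (okE_cons.2 ⟨p_g125_ok, okE_nil _⟩) nt_c22_K_ok nt_c22_le (kT := 0) (by decide +kernel)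

noncomputable def nt_c22_cnt_L : List ℕ := [7, 11, T_s7_O, 1, 0]

theorem nt_c22_cnt_P : Prob 24 5 (grp 24 E) nt_c22_cnt_EG [p_g125] [p_g125] nt_c22_K nt_c22_cnt_L 0 0 :=
  Sym.prob p_hn p_hk nt_c22_sym nt_c22_cnt_EG_ok (grp_cons_le p_g24_T (grp_cons_le p_g25_T (grp_cons_le p_g26_T (grp_cons_le p_g27_T (grp_cons_le p_g28_T (grp_cons_le p_g19_T (grp_cons_le p_g20_T (grp_cons_le p_g21_T (grp_cons_le p_g15_T (grp_cons_le p_g16_T (grp_cons_le p_g11_T (grp_cons_le p_g12_T (grp_cons_le p_g7_T (grp_cons_le p_g8_T (grp_cons_le p_g3_T (grp_cons_le p_g4_T (grp_cons_le p_g1_T (grp_cons_le p_g2_T (grp_nil_le _))))))))))))))))))) (Frames.cons T_s7_F Frames.nil) (okE_cons.2 ⟨p_g125_ok, okE_nil _⟩) _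

noncomputable def nt_c22_cnt_t : BT := (BT.fix (nat_lit 65793) (BT.dif (nat_lit 3) (nat_lit 0) (BT.br (nat_lit 0) (nat_lit 0) [nat_lit 1] (BT.kid (nat_lit 0) (nat_lit 1) (BT.img (nat_lit 1) (nat_lit 0) (BT.img (nat_lit 1) (nat_lit 0) (BT.img (nat_lit 1) (nat_lit 0) (BT.img (nat_lit 1) (nat_lit 0) (BT.img (nat_lit 1) (nat_lit 0) (BT.img (nat_lit 1) (nat_lit 0) (BT.img (nat_lit 1) (nat_lit 0) (BT.one (nat_lit 0) (nat_lit 0x107090c110f1611190e1e18) (nat_lit 0x107090c110f1611190e1e18) [nat_lit 2, nat_lit 0, nat_lit 3, nat_lit 4, nat_lit 5, nat_lit 6, nat_lit 7])))))))) BT.nil))))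

theorem nt_c22_cnt : Cnt 24 (grp 24 E) [p_g125] [p_g125] 0 0 0 0 21 :=
  BT.sound nt_c22_cnt_P Known.nil (t := nt_c22_cnt_t) (d := 0) (by decide +kernel)

theorem nt_c22_ge : 21 ≤ Nat.card (grp 24 nt_c22_K) :=
  Ch.le_card_grp (k := 5) (L := (lab 24 5)) p_hn nt_c22_K_ok (c := (Ch.cons (nat_lit 0) [nat_lit 1] Ch.nil)) (by decide +kernel)

theorem nt_c22_eq : (grp 24 E) ⊓ Subgroup.centralizer {Net.toPerm 24 p_g125} = grp 24 nt_c22_K :=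
  cent_eq nt_c22_sym nt_c22_cnt nt_c22_ge

theorem nt_c22_card : Nat.card ↥((grp 24 E) ⊓ Subgroup.centralizer {Net.toPerm 24 p_g125}) = 21 :=
  card_cent nt_c22_sym nt_c22_cnt nt_c22_ge

theorem nt_c22_ord : orderOf (Net.toPerm 24 p_g125) = 21 :=
  orderOf_net p_hn p_hk p_g125_ok (by decide) (ps := [3, 7]) (by set_option linter.unusedSimpArgs false in simp [Nat.primeFactorsList_ofNat]) (by decide +kernel)

theorem p_le128 : grp 24 nt_c23_K ≤ grp 24 lb_E :=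
  grp_le_of_memB p_hn p_hk lb_E_ok nt_c23_K_ok (ws := [nat_lit 0x1b2311230e090c0121]) (by decide +kernel)

theorem nt_c23_le : grp 24 nt_c23_K ≤ (grp 24 E) :=
  (p_le128.trans T_s0.le)

theorem nt_c23_mem : Net.toPerm 24 p_g127 ∈ (grp 24 E) :=
  nt_c23_le (toPerm_mem_grp (E := nt_c23_K) (List.Mem.head _))

theorem nt_c23_sym : Sym 24 (grp 24 E) [p_g127] nt_c23_K 0 :=
  Sym.of_lab p_hn p_hk (okE_cons.2 ⟨p_g127_ok, okE_nil _⟩) nt_c23_K_ok nt_c23_le (kT := 0) (by decide +kernel)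

noncomputable def nt_c23_cnt_L : List ℕ := [7, 11, T_s7_O, 1, 0]

theorem nt_c23_cnt_P : Prob 24 5 (grp 24 E) nt_c23_cnt_EG [p_g127] [p_g127] nt_c23_K nt_c23_cnt_L 0 0 :=
  Sym.prob p_hn p_hk nt_c23_sym nt_c23_cnt_EG_ok (grp_cons_le p_g24_T (grp_cons_le p_g25_T (grp_cons_le p_g26_T (grp_cons_le p_g27_T (grp_cons_le p_g28_T (grp_cons_le p_g19_T (grp_cons_le p_g20_T (grp_cons_le p_g21_T (grp_cons_le p_g15_T (grp_cons_le p_g16_T (grp_cons_le p_g11_T (grp_cons_le p_g12_T (grp_cons_le p_g7_T (grp_cons_le p_g8_T (grp_cons_le p_g3_T (grp_cons_le p_g4_T (grp_cons_le p_g1_T (grp_cons_le p_g2_T (grp_nil_le _))))))))))))))))))) (Frames.cons T_s7_F Frames.nil) (okE_cons.2 ⟨p_g127_ok, okE_nil _⟩) _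

noncomputable def nt_c23_cnt_t : BT := (BT.fix (nat_lit 65793) (BT.dif (nat_lit 3) (nat_lit 0) (BT.br (nat_lit 0) (nat_lit 0) [nat_lit 1] (BT.kid (nat_lit 0) (nat_lit 1) (BT.img (nat_lit 1) (nat_lit 0) (BT.img (nat_lit 1) (nat_lit 0) (BT.img (nat_lit 1) (nat_lit 0) (BT.img (nat_lit 1) (nat_lit 0) (BT.img (nat_lit 1) (nat_lit 0) (BT.img (nat_lit 1) (nat_lit 0) (BT.one (nat_lit 0) (nat_lit 0x10709110e190d1d18) (nat_lit 0x10709110e190d1d18) [nat_lit 1, nat_lit 0, nat_lit 2, nat_lit 3, nat_lit 4, nat_lit 5, nat_lit 6]))))))) BT.nil))))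

theorem nt_c23_cnt : Cnt 24 (grp 24 E) [p_g127] [p_g127] 0 0 0 0 21 :=
  BT.sound nt_c23_cnt_P Known.nil (t := nt_c23_cnt_t) (d := 0) (by decide +kernel)

theorem nt_c23_ge : 21 ≤ Nat.card (grp 24 nt_c23_K) :=
  Ch.le_card_grp (k := 5) (L := (lab 24 5)) p_hn nt_c23_K_ok (c := (Ch.cons (nat_lit 0) [nat_lit 1] Ch.nil)) (by decide +kernel)

theorem nt_c23_eq : (grp 24 E) ⊓ Subgroup.centralizer {Net.toPerm 24 p_g127} = grp 24 nt_c23_K :=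
  cent_eq nt_c23_sym nt_c23_cnt nt_c23_ge

theorem nt_c23_card : Nat.card ↥((grp 24 E) ⊓ Subgroup.centralizer {Net.toPerm 24 p_g127}) = 21 :=
  card_cent nt_c23_sym nt_c23_cnt nt_c23_ge

theorem nt_c23_ord : orderOf (Net.toPerm 24 p_g127) = 21 :=
  orderOf_net p_hn p_hk p_g127_ok (by decide) (ps := [3, 7]) (by set_option linter.unusedSimpArgs false in simp [Nat.primeFactorsList_ofNat]) (by decide +kernel)

theorem p_le130 : grp 24 nt_c24_K ≤ grp 24 lb_E :=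
  grp_le_of_memB p_hn p_hk lb_E_ok nt_c24_K_ok (ws := [nat_lit 0x1b212315140e110923050d01]) (by decide +kernel)

theorem nt_c24_le : grp 24 nt_c24_K ≤ (grp 24 E) :=
  (p_le130.trans T_s0.le)

theorem nt_c24_mem : Net.toPerm 24 p_g129 ∈ (grp 24 E) :=
  nt_c24_le (toPerm_mem_grp (E := nt_c24_K) (List.Mem.head _))

theorem nt_c24_sym : Sym 24 (grp 24 E) [p_g129] nt_c24_K 0 :=
  Sym.of_lab p_hn p_hk (okE_cons.2 ⟨p_g129_ok, okE_nil _⟩) nt_c24_K_ok nt_c24_le (kT := 0) (by decide +kernel)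

noncomputable def nt_c24_cnt_L : List ℕ := [7, 11, T_s7_O, 1, 0]

theorem nt_c24_cnt_P : Prob 24 5 (grp 24 E) nt_c24_cnt_EG [p_g129] [p_g129] nt_c24_K nt_c24_cnt_L 0 0 :=
  Sym.prob p_hn p_hk nt_c24_sym nt_c24_cnt_EG_ok (grp_cons_le p_g24_T (grp_cons_le p_g25_T (grp_cons_le p_g26_T (grp_cons_le p_g27_T (grp_cons_le p_g28_T (grp_cons_le p_g19_T (grp_cons_le p_g20_T (grp_cons_le p_g21_T (grp_cons_le p_g15_T (grp_cons_le p_g16_T (grp_cons_le p_g11_T (grp_cons_le p_g12_T (grp_cons_le p_g7_T (grp_cons_le p_g8_T (grp_cons_le p_g3_T (grp_cons_le p_g4_T (grp_cons_le p_g1_T (grp_cons_le p_g2_T (grp_nil_le _))))))))))))))))))) (Frames.cons T_s7_F Frames.nil) (okE_cons.2 ⟨p_g129_ok, okE_nil _⟩) _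

noncomputable def nt_c24_cnt_t : BT := (BT.fix (nat_lit 1) (BT.dif (nat_lit 3) (nat_lit 0) (BT.br (nat_lit 0) (nat_lit 0) [nat_lit 1] (BT.kid (nat_lit 0) (nat_lit 1) (BT.img (nat_lit 1) (nat_lit 0) (BT.img (nat_lit 1) (nat_lit 0) (BT.img (nat_lit 1) (nat_lit 0) (BT.img (nat_lit 1) (nat_lit 0) (BT.img (nat_lit 1) (nat_lit 0) (BT.one (nat_lit 0) (nat_lit 0x10711031619071e172109) (nat_lit 0x10711031619071e172109) [nat_lit 1, nat_lit 0, nat_lit 2, nat_lit 3, nat_lit 4, nat_lit 5, nat_lit 7])))))) BT.nil))))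

theorem nt_c24_cnt : Cnt 24 (grp 24 E) [p_g129] [p_g129] 0 0 0 0 23 :=
  BT.sound nt_c24_cnt_P Known.nil (t := nt_c24_cnt_t) (d := 0) (by decide +kernel)

theorem nt_c24_ge : 23 ≤ Nat.card (grp 24 nt_c24_K) :=
  Ch.le_card_grp (k := 5) (L := (lab 24 5)) p_hn nt_c24_K_ok (c := (Ch.cons (nat_lit 0) [nat_lit 1] Ch.nil)) (by decide +kernel)

theorem nt_c24_eq : (grp 24 E) ⊓ Subgroup.centralizer {Net.toPerm 24 p_g129} = grp 24 nt_c24_K :=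
  cent_eq nt_c24_sym nt_c24_cnt nt_c24_ge

theorem nt_c24_card : Nat.card ↥((grp 24 E) ⊓ Subgroup.centralizer {Net.toPerm 24 p_g129}) = 23 :=
  card_cent nt_c24_sym nt_c24_cnt nt_c24_ge

theorem nt_c24_ord : orderOf (Net.toPerm 24 p_g129) = 23 :=
  orderOf_net p_hn p_hk p_g129_ok (by decide) (ps := [23]) (by set_option linter.unusedSimpArgs false in simp [Nat.primeFactorsList_ofNat]) (by decide +kernel)

theorem p_le132 : grp 24 nt_c25_K ≤ grp 24 lb_E :=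
  grp_le_of_memB p_hn p_hk lb_E_ok nt_c25_K_ok (ws := [nat_lit 0x1d211510090c05080109]) (by decide +kernel)

theorem nt_c25_le : grp 24 nt_c25_K ≤ (grp 24 E) :=
  (p_le132.trans T_s0.le)

theorem nt_c25_mem : Net.toPerm 24 p_g131 ∈ (grp 24 E) :=
  nt_c25_le (toPerm_mem_grp (E := nt_c25_K) (List.Mem.head _))

theorem nt_c25_sym : Sym 24 (grp 24 E) [p_g131] nt_c25_K 0 :=
  Sym.of_lab p_hn p_hk (okE_cons.2 ⟨p_g131_ok, okE_nil _⟩) nt_c25_K_ok nt_c25_le (kT := 0) (by decide +kernel)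

noncomputable def nt_c25_cnt_L : List ℕ := [7, 11, T_s7_O, 1, 0]

theorem nt_c25_cnt_P : Prob 24 5 (grp 24 E) nt_c25_cnt_EG [p_g131] [p_g131] nt_c25_K nt_c25_cnt_L 0 0 :=
  Sym.prob p_hn p_hk nt_c25_sym nt_c25_cnt_EG_ok (grp_cons_le p_g24_T (grp_cons_le p_g25_T (grp_cons_le p_g26_T (grp_cons_le p_g27_T (grp_cons_le p_g28_T (grp_cons_le p_g19_T (grp_cons_le p_g20_T (grp_cons_le p_g21_T (grp_cons_le p_g15_T (grp_cons_le p_g16_T (grp_cons_le p_g11_T (grp_cons_le p_g12_T (grp_cons_le p_g7_T (grp_cons_le p_g8_T (grp_cons_le p_g3_T (grp_cons_le p_g4_T (grp_cons_le p_g1_T (grp_cons_le p_g2_T (grp_nil_le _))))))))))))))))))) (Frames.cons T_s7_F Frames.nil) (okE_cons.2 ⟨p_g131_ok, okE_nil _⟩) _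

noncomputable def nt_c25_cnt_t : BT := (BT.fix (nat_lit 1) (BT.dif (nat_lit 3) (nat_lit 0) (BT.br (nat_lit 0) (nat_lit 0) [nat_lit 1] (BT.kid (nat_lit 0) (nat_lit 1) (BT.img (nat_lit 1) (nat_lit 0) (BT.img (nat_lit 1) (nat_lit 0) (BT.img (nat_lit 1) (nat_lit 0) (BT.img (nat_lit 1) (nat_lit 0) (BT.img (nat_lit 1) (nat_lit 0) (BT.img (nat_lit 1) (nat_lit 0) (BT.img (nat_lit 1) (nat_lit 0) (BT.img (nat_lit 1) (nat_lit 0) (BT.img (nat_lit 1) (nat_lit 0) (BT.one (nat_lit 0) (nat_lit 0x10b140715121419171e172109) (nat_lit 0x10b140715121419171e172109) [nat_lit 5, nat_lit 0, nat_lit 6, nat_lit 7, nat_lit 8, nat_lit 9, nat_lit 11])))))))))) BT.nil))))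

theorem nt_c25_cnt : Cnt 24 (grp 24 E) [p_g131] [p_g131] 0 0 0 0 23 :=
  BT.sound nt_c25_cnt_P Known.nil (t := nt_c25_cnt_t) (d := 0) (by decide +kernel)

theorem nt_c25_ge : 23 ≤ Nat.card (grp 24 nt_c25_K) :=
  Ch.le_card_grp (k := 5) (L := (lab 24 5)) p_hn nt_c25_K_ok (c := (Ch.cons (nat_lit 0) [nat_lit 1] Ch.nil)) (by decide +kernel)

theorem nt_c25_eq : (grp 24 E) ⊓ Subgroup.centralizer {Net.toPerm 24 p_g131} = grp 24 nt_c25_K :=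
  cent_eq nt_c25_sym nt_c25_cnt nt_c25_ge

theorem nt_c25_card : Nat.card ↥((grp 24 E) ⊓ Subgroup.centralizer {Net.toPerm 24 p_g131}) = 23 :=
  card_cent nt_c25_sym nt_c25_cnt nt_c25_ge

theorem nt_c25_ord : orderOf (Net.toPerm 24 p_g131) = 23 :=
  orderOf_net p_hn p_hk p_g131_ok (by decide) (ps := [23]) (by set_option linter.unusedSimpArgs false in simp [Nat.primeFactorsList_ofNat]) (by decide +kernel)

noncomputable def nt_xs : List Net := [Net.nil, p_g39, p_g47, p_g57, p_g63, p_g68, p_g74, p_g81, p_g86, p_g90, p_g94, p_g98, p_g102, p_g105, p_g109, p_g112, p_g114, p_g95, p_g117, p_g119, p_g121, p_g123, p_g125, p_g127, p_g129, p_g131]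

noncomputable def nt_cs : List ℕ := [244823040, 21504, 7680, 1080, 504, 384, 128, 96, 60, 24, 24, 42, 42, 16, 20, 11, 12, 12, 14, 14, 15, 15, 21, 21, 23, 23]

noncomputable def nt_os : List ℕ := [1, 2, 2, 3, 3, 4, 4, 4, 5, 6, 6, 7, 7, 8, 10, 11, 12, 12, 14, 14, 15, 15, 21, 21, 23, 23]

theorem nt_reps : Reps 24 (grp 24 E) nt_xs nt_cs nt_os :=
  (Reps.cons rfl (one_mem _) (card_cent_nil card_G) orderOf_one (Reps.cons p_g39_ok nt_c1_mem nt_c1_card nt_c1_ord (Reps.cons p_g47_ok nt_c2_mem nt_c2_card nt_c2_ord (Reps.cons p_g57_ok nt_c3_mem nt_c3_card nt_c3_ord (Reps.cons p_g63_ok nt_c4_mem nt_c4_card nt_c4_ord (Reps.cons p_g68_ok nt_c5_mem nt_c5_card nt_c5_ord (Reps.cons p_g74_ok nt_c6_mem nt_c6_card nt_c6_ord (Reps.cons p_g81_ok nt_c7_mem nt_c7_card nt_c7_ord (Reps.cons p_g86_ok nt_c8_mem nt_c8_card nt_c8_ord (Reps.cons p_g90_ok nt_c9_mem nt_c9_card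 nt_c9_ord (Reps.cons p_g94_ok nt_c10_mem nt_c10_card nt_c10_ord (Reps.cons p_g98_ok nt_c11_mem nt_c11_card nt_c11_ord (Reps.cons p_g102_ok nt_c12_mem nt_c12_card nt_c12_ord (Reps.cons p_g105_ok nt_c13_mem nt_c13_card nt_c13_ord (Reps.cons p_g109_ok nt_c14_mem nt_c14_card nt_c14_ord (Reps.cons p_g112_ok nt_c15_mem nt_c15_card nt_c15_ord (Reps.cons p_g114_ok nt_c16_mem nt_c16_card nt_c16_ord (Reps.cons p_g95_ok nt_c17_mem nt_c17_card nt_c17_ord (Reps.cons p_g117_ok nt_c18_mem nt_c18_card nt_c18_ord (Reps.cons p_g119_ok nt_c19_mem nt_c19_card nt_c19_ord (Reps.cons p_g121_ok nt_c20_mem nt_c20_card nt_c20_ord (Reps.cons p_g123_ok nt_c21_mem nt_c21_card nt_c21_ord (Reps.cons p_g125_ok nt_c22_mem nt_c22_card nt_c22_ord (Reps.cons p_g127_ok nt_c23_mem nt_c23_card nt_c23_ord (Reps.cons p_g129_ok nt_c24_mem nt_c24_card nt_c24_ord (Reps.cons p_g131_ok nt_c25_mem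 nt_c25_card nt_c25_ord Reps.nil))))))))))))))))))))))))))

noncomputable def nt_nc12_11_cnt_L : List ℕ := [6, 8, T_s6_O, 0, 0]

theorem nt_nc12_11_cnt_P : Prob 24 5 (grp 24 E) nt_nc12_11_cnt_EG [p_g102] [p_g98] nt_c11_K nt_nc12_11_cnt_L 0 0 :=
  Sym.prob p_hn p_hk nt_c11_sym nt_nc12_11_cnt_EG_ok (grp_cons_le p_g19_T (grp_cons_le p_g20_T (grp_cons_le p_g21_T (grp_cons_le p_g24_T (grp_cons_le p_g25_T (grp_cons_le p_g26_T (grp_cons_le p_g27_T (grp_cons_le p_g28_T (grp_cons_le p_g15_T (grp_cons_le p_g16_T (grp_cons_le p_g11_T (grp_cons_le p_g12_T (grp_cons_le p_g7_T (grp_cons_le p_g8_T (grp_cons_le p_g3_T (grp_cons_le p_g4_T (grp_cons_le p_g1_T (grp_cons_le p_g2_T (grp_nil_le _))))))))))))))))))) (Frames.cons T_s6_F Frames.nil) (okE_cons.2 ⟨p_g102_ok, okE_nil _⟩) _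

noncomputable def nt_nc12_11_cnt_t : BT := (BT.fix (nat_lit 1) (BT.dif (nat_lit 3) (nat_lit 0) (BT.br (nat_lit 0) (nat_lit 0) [nat_lit 3, nat_lit 5] (BT.dead (nat_lit 0) (BT.img (nat_lit 1) (nat_lit 0) (BT.img (nat_lit 1) (nat_lit 0) (BT.img (nat_lit 1) (nat_lit 0) (BT.img (nat_lit 1) (nat_lit 0) (BT.img (nat_lit 1) (nat_lit 0) (BT.frm (nat_lit 0) (nat_lit 0x12141502191c1d18) (nat_lit 0x2110f161619191d19) [nat_lit 0, nat_lit 1, nat_lit 2, nat_lit 3, nat_lit 4, nat_lit 5] (BT.pln (nat_lit 0) (nat_lit 6) (BT.and (nat_lit 0) (nat_lit 9) (BT.cnt (nat_lit 0)))))))))) BT.nil))))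

theorem nt_nc12_11_cnt : Cnt 24 (grp 24 E) [p_g102] [p_g98] 0 0 0 0 0 :=
  BT.sound nt_nc12_11_cnt_P Known.nil (t := nt_nc12_11_cnt_t) (d := 0) (by decide +kernel)

theorem nt_nc12_11 : ¬ CjIn (grp 24 E) (Net.toPerm 24 p_g102) (Net.toPerm 24 p_g98) :=
  not_cjIn nt_nc12_11_cnt

noncomputable def nt_nc19_18_cnt_L : List ℕ := [5, 6, T_s5_O, 0, 0]

theorem nt_nc19_18_cnt_P : Prob 24 5 (grp 24 E) nt_nc19_18_cnt_EG [p_g119] [p_g117] nt_c18_K nt_nc19_18_cnt_L 0 0 :=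
  Sym.prob p_hn p_hk nt_c18_sym nt_nc19_18_cnt_EG_ok (grp_cons_le p_g15_T (grp_cons_le p_g16_T (grp_cons_le p_g19_T (grp_cons_le p_g20_T (grp_cons_le p_g21_T (grp_cons_le p_g24_T (grp_cons_le p_g25_T (grp_cons_le p_g26_T (grp_cons_le p_g27_T (grp_cons_le p_g28_T (grp_cons_le p_g11_T (grp_cons_le p_g12_T (grp_cons_le p_g7_T (grp_cons_le p_g8_T (grp_cons_le p_g3_T (grp_cons_le p_g4_T (grp_cons_le p_g1_T (grp_cons_le p_g2_T (grp_nil_le _))))))))))))))))))) (Frames.cons T_s5_F Frames.nil) (okE_cons.2 ⟨p_g119_ok, okE_nil _⟩) _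

noncomputable def nt_nc19_18_cnt_t : BT := (BT.fix (nat_lit 0x1010101010101) (BT.dif (nat_lit 3) (nat_lit 0) (BT.fix (nat_lit 257) (BT.dif (nat_lit 1) (nat_lit 0) (BT.br (nat_lit 0) (nat_lit 15) [nat_lit 1] (BT.dead (nat_lit 15) (BT.img (nat_lit 1) (nat_lit 0) (BT.img (nat_lit 1) (nat_lit 0) (BT.img (nat_lit 1) (nat_lit 0) (BT.fix (nat_lit 1) (BT.frm (nat_lit 0) (nat_lit 0x211150219161f192121) (nat_lit 0x113160a1a151f192121) [nat_lit 1, nat_lit 2, nat_lit 3, nat_lit 4, nat_lit 0] (BT.pln (nat_lit 0) (nat_lit 5) (BT.img (nat_lit 1) (nat_lit 3) (BT.img (nat_lit 1) (nat_lit 0) (BT.img (nat_lit 1) (nat_lit 0) (BT.img (nat_lit 1) (nat_lit 0) (BT.img (nat_lit 1) (nat_lit 0) (BT.and (nat_lit 5) (nat_lit 0) (BT.cnt (nat_lit 0)))))))))))))) BT.nil))))))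

theorem nt_nc19_18_cnt : Cnt 24 (grp 24 E) [p_g119] [p_g117] 0 0 0 0 0 :=
  BT.sound nt_nc19_18_cnt_P Known.nil (t := nt_nc19_18_cnt_t) (d := 0) (by decide +kernel)

theorem nt_nc19_18 : ¬ CjIn (grp 24 E) (Net.toPerm 24 p_g119) (Net.toPerm 24 p_g117) :=
  not_cjIn nt_nc19_18_cnt

noncomputable def nt_nc21_20_cnt_L : List ℕ := [5, 6, T_s5_O, 0, 0]

theorem nt_nc21_20_cnt_P : Prob 24 5 (grp 24 E) nt_nc21_20_cnt_EG [p_g123] [p_g121] nt_c20_K nt_nc21_20_cnt_L 0 0 :=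
  Sym.prob p_hn p_hk nt_c20_sym nt_nc21_20_cnt_EG_ok (grp_cons_le p_g15_T (grp_cons_le p_g16_T (grp_cons_le p_g19_T (grp_cons_le p_g20_T (grp_cons_le p_g21_T (grp_cons_le p_g24_T (grp_cons_le p_g25_T (grp_cons_le p_g26_T (grp_cons_le p_g27_T (grp_cons_le p_g28_T (grp_cons_le p_g11_T (grp_cons_le p_g12_T (grp_cons_le p_g7_T (grp_cons_le p_g8_T (grp_cons_le p_g3_T (grp_cons_le p_g4_T (grp_cons_le p_g1_T (grp_cons_le p_g2_T (grp_nil_le _))))))))))))))))))) (Frames.cons T_s5_F Frames.nil) (okE_cons.2 ⟨p_g123_ok, okE_nil _⟩) _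

noncomputable def nt_nc21_20_cnt_t : BT := (BT.fix (nat_lit 0x101010101) (BT.dif (nat_lit 3) (nat_lit 0) (BT.fix (nat_lit 65793) (BT.dif (nat_lit 1) (nat_lit 0) (BT.br (nat_lit 0) (nat_lit 0) [nat_lit 1] (BT.dead (nat_lit 0) (BT.img (nat_lit 1) (nat_lit 0) (BT.img (nat_lit 1) (nat_lit 0) (BT.img (nat_lit 1) (nat_lit 0) (BT.fix (nat_lit 1) (BT.frm (nat_lit 0) (nat_lit 0x215181a1e172119) (nat_lit 0x2111719191e172119) [nat_lit 1, nat_lit 2, nat_lit 3, nat_lit 4, nat_lit 0] (BT.pln (nat_lit 0) (nat_lit 5) (BT.img (nat_lit 1) (nat_lit 3) (BT.img (nat_lit 1) (nat_lit 0) (BT.img (nat_lit 1) (nat_lit 0) (BT.and (nat_lit 3) (nat_lit 0) (BT.cnt (nat_lit 0)))))))))))) BT.nil))))))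

theorem nt_nc21_20_cnt : Cnt 24 (grp 24 E) [p_g123] [p_g121] 0 0 0 0 0 :=
  BT.sound nt_nc21_20_cnt_P Known.nil (t := nt_nc21_20_cnt_t) (d := 0) (by decide +kernel)

theorem nt_nc21_20 : ¬ CjIn (grp 24 E) (Net.toPerm 24 p_g123) (Net.toPerm 24 p_g121) :=
  not_cjIn nt_nc21_20_cnt

noncomputable def nt_nc23_22_cnt_L : List ℕ := [5, 6, T_s5_O, 0, 0]

theorem nt_nc23_22_cnt_P : Prob 24 5 (grp 24 E) nt_nc23_22_cnt_EG [p_g127] [p_g125] nt_c22_K nt_nc23_22_cnt_L 0 0 :=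
  Sym.prob p_hn p_hk nt_c22_sym nt_nc23_22_cnt_EG_ok (grp_cons_le p_g15_T (grp_cons_le p_g16_T (grp_cons_le p_g19_T (grp_cons_le p_g20_T (grp_cons_le p_g21_T (grp_cons_le p_g24_T (grp_cons_le p_g25_T (grp_cons_le p_g26_T (grp_cons_le p_g27_T (grp_cons_le p_g28_T (grp_cons_le p_g11_T (grp_cons_le p_g12_T (grp_cons_le p_g7_T (grp_cons_le p_g8_T (grp_cons_le p_g3_T (grp_cons_le p_g4_T (grp_cons_le p_g1_T (grp_cons_le p_g2_T (grp_nil_le _))))))))))))))))))) (Frames.cons T_s5_F Frames.nil) (okE_cons.2 ⟨p_g127_ok, okE_nil _⟩) _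

noncomputable def nt_nc23_22_cnt_t : BT := (BT.fix (nat_lit 65793) (BT.dif (nat_lit 3) (nat_lit 0) (BT.br (nat_lit 0) (nat_lit 0) [nat_lit 1] (BT.dead (nat_lit 0) (BT.img (nat_lit 1) (nat_lit 0) (BT.img (nat_lit 1) (nat_lit 0) (BT.img (nat_lit 1) (nat_lit 0) (BT.img (nat_lit 1) (nat_lit 0) (BT.frm (nat_lit 0) (nat_lit 0x10819071d18) (nat_lit 0x109160119081e18) [nat_lit 0, nat_lit 1, nat_lit 2, nat_lit 3, nat_lit 4] (BT.pln (nat_lit 0) (nat_lit 5) (BT.img (nat_lit 1) (nat_lit 2) (BT.img (nat_lit 1) (nat_lit 0) (BT.and (nat_lit 2) (nat_lit 0) (BT.cnt (nat_lit 0))))))))))) BT.nil))))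

theorem nt_nc23_22_cnt : Cnt 24 (grp 24 E) [p_g127] [p_g125] 0 0 0 0 0 :=
  BT.sound nt_nc23_22_cnt_P Known.nil (t := nt_nc23_22_cnt_t) (d := 0) (by decide +kernel)

theorem nt_nc23_22 : ¬ CjIn (grp 24 E) (Net.toPerm 24 p_g127) (Net.toPerm 24 p_g125) :=
  not_cjIn nt_nc23_22_cnt

noncomputable def nt_nc25_24_cnt_L : List ℕ := [5, 6, T_s5_O, 0, 0]

theorem nt_nc25_24_cnt_P : Prob 24 5 (grp 24 E) nt_nc25_24_cnt_EG [p_g131] [p_g129] nt_c24_K nt_nc25_24_cnt_L 0 0 :=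
  Sym.prob p_hn p_hk nt_c24_sym nt_nc25_24_cnt_EG_ok (grp_cons_le p_g15_T (grp_cons_le p_g16_T (grp_cons_le p_g19_T (grp_cons_le p_g20_T (grp_cons_le p_g21_T (grp_cons_le p_g24_T (grp_cons_le p_g25_T (grp_cons_le p_g26_T (grp_cons_le p_g27_T (grp_cons_le p_g28_T (grp_cons_le p_g11_T (grp_cons_le p_g12_T (grp_cons_le p_g7_T (grp_cons_le p_g8_T (grp_cons_le p_g3_T (grp_cons_le p_g4_T (grp_cons_le p_g1_T (grp_cons_le p_g2_T (grp_nil_le _))))))))))))))))))) (Frames.cons T_s5_F Frames.nil) (okE_cons.2 ⟨p_g131_ok, okE_nil _⟩) _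

noncomputable def nt_nc25_24_cnt_t : BT := (BT.fix (nat_lit 1) (BT.dif (nat_lit 3) (nat_lit 0) (BT.br (nat_lit 0) (nat_lit 0) [nat_lit 1] (BT.dead (nat_lit 0) (BT.img (nat_lit 1) (nat_lit 0) (BT.img (nat_lit 1) (nat_lit 0) (BT.img (nat_lit 1) (nat_lit 0) (BT.frm (nat_lit 0) (nat_lit 0x41115020419171e172113) (nat_lit 0x10d1619111e172113) [nat_lit 0, nat_lit 1, nat_lit 2, nat_lit 3, nat_lit 5] (BT.pln (nat_lit 0) (nat_lit 5) (BT.img (nat_lit 1) (nat_lit 2) (BT.img (nat_lit 1) (nat_lit 0) (BT.and (nat_lit 2) (nat_lit 0) (BT.cnt (nat_lit 0)))))))))) BT.nil))))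

theorem nt_nc25_24_cnt : Cnt 24 (grp 24 E) [p_g131] [p_g129] 0 0 0 0 0 :=
  BT.sound nt_nc25_24_cnt_P Known.nil (t := nt_nc25_24_cnt_t) (d := 0) (by decide +kernel)

theorem nt_nc25_24 : ¬ CjIn (grp 24 E) (Net.toPerm 24 p_g131) (Net.toPerm 24 p_g129) :=
  not_cjIn nt_nc25_24_cnt

theorem nt_exc : Exc 24 (grp 24 E) nt_xs [25024, 23022, 21020, 19018, 12011] :=
  (Exc.cons 25 24 (by decide) nt_nc25_24 (Exc.cons 23 22 (by decide) nt_nc23_22 (Exc.cons 21 20 (by decide) nt_nc21_20 (Exc.cons 19 18 (by decide) nt_nc19_18 (Exc.cons 12 11 (by decide) nt_nc12_11 Exc.nil)))))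

theorem nt : Table 24 (grp 24 E) nt_xs nt_cs nt_os :=
  Reps.table (D := 3) p_hn p_hk nt_reps nt_exc card_G (by decide +kernel)

theorem reps : ∀ σ ∈ (grp 24 E), orderOf σ = 2 → ∃ t ∈ ({Net.toPerm 24 p_g39, Net.toPerm 24 p_g47} : Set (Equiv.Perm (Fin 24))), CjIn (grp 24 E) t σ :=
  fun σ hσ ho => by
  obtain ⟨i, hi, hc, h1, -⟩ := nt.exists hσ
  rw [ho] at h1
  rcases (by decide +kernel : ∀ i < nt_xs.length, 2 = nthN nt_os i → 1 = i ∨ 2 = i) i hi h1 with rfl | rfl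
  · exact ⟨_, (.inl rfl), hc⟩
  · exact ⟨_, (.inr rfl), hc⟩

theorem ch1_le : grp 24 ch1_Q ≤ grp 24 nt_c1_K :=
  grp_le_of_memB p_hn p_hk nt_c1_K_ok ch1_Q_ok (ws := [nat_lit 0x905090305010401, nat_lit 0x7090b06070104, nat_lit 0x709030503010405, nat_lit 0x70b050709050303010303, nat_lit 0x90b05090303030107, nat_lit 0x905030503, nat_lit 9]) (by decide +kernel)

theorem p_le140 : grp 24 p_V139 ≤ grp 24 ch1_Q :=
  grp_le_of_memB p_hn p_hk ch1_Q_ok p_V139_ok (ws := [nat_lit 13, nat_lit 5, nat_lit 1291]) (by decide +kernel)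

theorem p_le144 : grp 24 p_V143 ≤ grp 24 ch1_Q :=
  grp_le_of_memB p_hn p_hk ch1_Q_ok p_V143_ok (ws := [nat_lit 0x6070108040a030206, nat_lit 0x20b030301030c0101, nat_lit 0x4020a07010e0a0e, nat_lit 0xa080a0809]) (by decide +kernel)

theorem p_le149 : grp 24 p_V148 ≤ grp 24 p_V143 :=
  grp_le_of_memB p_hn p_hk p_V143_ok p_V148_ok (ws := [nat_lit 66309, nat_lit 1287, nat_lit 0x1030507, nat_lit 197895]) (by decide +kernel)

theorem ch1_o_card2 : Nat.card (grp 24 ch1_o_E2) = 1 :=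
  card_grp_nil 24

theorem ch1_o_leO2 : grp 24 ch1_o_E2 ≤ grp 24 ch1_Q :=
  grp_nil_le _

theorem ch1_o_1_fix : grp 24 ch1_o_E2 ≤ MulAction.stabilizer (Equiv.Perm (Fin 24)) (⟨0, by decide⟩ : Fin 24) :=
  grp_le_stab ch1_o_E2_ok (by decide : 0 < 24) (by decide +kernel)

noncomputable def ch1_o_1_ts : List ℕ := [nat_lit 0, nat_lit 1, nat_lit 3, nat_lit 5, nat_lit 7, nat_lit 259, nat_lit 261, nat_lit 263, nat_lit 773, nat_lit 775, nat_lit 1287, nat_lit 66309, nat_lit 66311, nat_lit 66823, nat_lit 197895, nat_lit 0x1030507]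

noncomputable def ch1_o_1_ds : List ℕ := [nat_lit 0, nat_lit 21, nat_lit 16, nat_lit 20, nat_lit 23, nat_lit 3, nat_lit 11, nat_lit 14, nat_lit 15, nat_lit 19, nat_lit 22, nat_lit 9, nat_lit 13, nat_lit 2, nat_lit 7, nat_lit 17]

theorem ch1_o_1_dist : Dist 24 ch1_o_E2 ch1_o_G1 (⟨0, by decide⟩ : Fin 24) ch1_o_1_ts ch1_o_1_ds :=
  dist_of_distB (k := 4) p_hn ch1_o_E2_ok ch1_o_G1_ok (by decide : 0 < 24) (by decide +kernel)

noncomputable def ch1_o_1_sl0 : SL := (SL.cons (nat_lit 1) (nat_lit 21) Ch.nil [] (SL.cons (nat_lit 3) (nat_lit 16) Ch.nil [] (SL.cons (nat_lit 5) (nat_lit 20) Ch.nil [] (SL.cons (nat_lit 7) (nat_lit 23) Ch.nil [] (SL.cons (nat_lit 259) (nat_lit 3) Ch.nil [] (SL.cons (nat_lit 261) (nat_lit 11) Ch.nil [] (SL.cons (nat_lit 263) (nat_lit 14) Ch.nil [] (SL.cons (nat_lit 773) (nat_lit 15) Ch.nil [] (SL.cons (nat_lit 775) (nat_lit 19)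 Ch.nil [] (SL.cons (nat_lit 1287) (nat_lit 22) Ch.nil [] (SL.cons (nat_lit 66309) (nat_lit 9) Ch.nil [] (SL.cons (nat_lit 66311) (nat_lit 13) Ch.nil [] (SL.cons (nat_lit 66823) (nat_lit 2) Ch.nil [] (SL.cons (nat_lit 197895) (nat_lit 7) Ch.nil [] (SL.cons (nat_lit 0x1030507) (nat_lit 17) Ch.nil [] SL.nil)))))))))))))))

theorem ch1_o_1_sc0 : SCs 24 ch1_o_E2 ch1_o_G1 (⟨0, by decide⟩ : Fin 24) (SL.words ch1_o_1_sl0) :=
  scs_of_ok p_hn (det_lab p_hk ⊤) ch1_o_E2_ok ch1_o_G1_ok le_top le_top (by decide : 0 < 24) ch1_o_1_fix ch1_o_card2.le (by decide +kernel)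

noncomputable def ch1_o_1_l : List ℕ := (appL (SL.words ch1_o_1_sl0) [])

theorem ch1_o_1_scs : SCs 24 ch1_o_E2 ch1_o_G1 (⟨0, by decide⟩ : Fin 24) ch1_o_1_l :=
  (SCs.append ch1_o_1_sc0 SCs.nil)

noncomputable def ch1_o_1_rl0_0 : RL := (RL.cons (nat_lit 0) (nat_lit 0) (nat_lit 0) (nat_lit 0) (nat_lit 1) (nat_lit 0) (RL.cons (nat_lit 1) (nat_lit 21) (nat_lit 0) (nat_lit 0) (nat_lit 0) (nat_lit 0) (RL.cons (nat_lit 2) (nat_lit 16) (nat_lit 0) (nat_lit 0) (nat_lit 5) (nat_lit 0) (RL.cons (nat_lit 3) (nat_lit 20) (nat_lit 0) (nat_lit 0) (nat_lit 6) (nat_lit 0) (RL.cons (nat_lit 4) (nat_lit 23) (nat_lit 0) (nat_lit 0) (nat_lit 7) (nat_lit 0) (RL.cons (nat_lit 5) (nat_lit 3) (nat_lit 0) (nat_lit 0) (nat_lit 2) (nat_lit 0) (RL.cons (nat_lit 6) (nat_lit 11) (nat_lit 0) (nat_lit 0) (nat_lit 3) (nat_lit 0) (RL.cons (nat_lit 7) (nat_lit 14) (nat_lit 0) (nat_lit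 0) (nat_lit 4) (nat_lit 0) (RL.cons (nat_lit 8) (nat_lit 15) (nat_lit 0) (nat_lit 0) (nat_lit 11) (nat_lit 0) (RL.cons (nat_lit 9) (nat_lit 19) (nat_lit 0) (nat_lit 0) (nat_lit 12) (nat_lit 0) (RL.cons (nat_lit 10) (nat_lit 22) (nat_lit 0) (nat_lit 0) (nat_lit 13) (nat_lit 0) (RL.cons (nat_lit 11) (nat_lit 9) (nat_lit 0) (nat_lit 0) (nat_lit 8) (nat_lit 0) (RL.cons (nat_lit 12) (nat_lit 13) (nat_lit 0) (nat_lit 0) (nat_lit 9) (nat_lit 0) (RL.cons (nat_lit 13) (nat_lit 2) (nat_lit 0) (nat_lit 0) (nat_lit 10) (nat_lit 0) (RL.cons (nat_lit 14) (nat_lit 7) (nat_lit 0) (nat_lit 0) (nat_lit 15) (nat_lit 0) (RL.cons (nat_lit 15) (nat_lit 17) (nat_lit 0) (nat_lit 0) (nat_lit 14) (nat_lit 0) RL.nil))))))))))))))))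

theorem ch1_o_1_good0_0 : GoodSet 24 ch1_o_E2 ch1_o_G1 (⟨0, by decide⟩ : Fin 24) ch1_o_1_ts (nat_lit 1) (RL.pts ch1_o_1_rl0_0) :=
  goodSet_of_ok p_hn (det_lab p_hk ⊤) ch1_o_E2_ok ch1_o_G1_ok le_top le_top (by decide : 0 < 24) (sepAt_lab p_hk _) (by decide +kernel)

theorem ch1_o_1_step0 : Step 24 ch1_o_E2 ch1_o_G1 ch1_o_1_ts (2 * 0 + 1) :=
  step_of_cover ch1_o_E2_ok ch1_o_1_dist (by decide +kernel) ch1_o_1_scs (by decide +kernel) ch1_o_1_good0_0 (kw := [])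
    (conj_mem_of_scs ch1_o_E2_ok ch1_o_G1_ok (by decide : 0 < 24) ch1_o_1_scs (c := 0) (d := 21) (by decide +kernel)) (by decide +kernel)

noncomputable def ch1_o_1_rl1_0 : RL := (RL.cons (nat_lit 0) (nat_lit 0) (nat_lit 0) (nat_lit 0) (nat_lit 2) (nat_lit 0) (RL.cons (nat_lit 1) (nat_lit 21) (nat_lit 0) (nat_lit 0) (nat_lit 5) (nat_lit 0) (RL.cons (nat_lit 2) (nat_lit 16) (nat_lit 0) (nat_lit 0) (nat_lit 0) (nat_lit 0) (RL.cons (nat_lit 3) (nat_lit 20) (nat_lit 0) (nat_lit 0) (nat_lit 8) (nat_lit 0) (RL.cons (nat_lit 4) (nat_lit 23) (nat_lit 0) (nat_lit 0) (nat_lit 9) (nat_lit 0) (RL.cons (nat_lit 5) (nat_lit 3) (nat_lit 0) (nat_lit 0) (nat_lit 1) (nat_lit 0) (RL.cons (nat_lit 6) (nat_lit 11) (nat_lit 0) (nat_lit 0) (nat_lit 11) (nat_lit 0) (RL.cons (nat_lit 7) (nat_lit 14) (nat_lit 0) (nat_lit 0) (nat_lit 12) (nat_lit 0) (RL.cons (nat_lit 8) (nat_lit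 15) (nat_lit 0) (nat_lit 0) (nat_lit 3) (nat_lit 0) (RL.cons (nat_lit 9) (nat_lit 19) (nat_lit 0) (nat_lit 0) (nat_lit 4) (nat_lit 0) (RL.cons (nat_lit 10) (nat_lit 22) (nat_lit 0) (nat_lit 0) (nat_lit 14) (nat_lit 0) (RL.cons (nat_lit 11) (nat_lit 9) (nat_lit 0) (nat_lit 0) (nat_lit 6) (nat_lit 0) (RL.cons (nat_lit 12) (nat_lit 13) (nat_lit 0) (nat_lit 0) (nat_lit 7) (nat_lit 0) (RL.cons (nat_lit 13) (nat_lit 2) (nat_lit 0) (nat_lit 0) (nat_lit 15) (nat_lit 0) (RL.cons (nat_lit 14) (nat_lit 7) (nat_lit 0) (nat_lit 0) (nat_lit 10) (nat_lit 0) (RL.cons (nat_lit 15) (nat_lit 17) (nat_lit 0) (nat_lit 0) (nat_lit 13) (nat_lit 0) RL.nil))))))))))))))))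

theorem ch1_o_1_good1_0 : GoodSet 24 ch1_o_E2 ch1_o_G1 (⟨0, by decide⟩ : Fin 24) ch1_o_1_ts (nat_lit 3) (RL.pts ch1_o_1_rl1_0) :=
  goodSet_of_ok p_hn (det_lab p_hk ⊤) ch1_o_E2_ok ch1_o_G1_ok le_top le_top (by decide : 0 < 24) (sepAt_lab p_hk _) (by decide +kernel)

theorem ch1_o_1_step1 : Step 24 ch1_o_E2 ch1_o_G1 ch1_o_1_ts (2 * 1 + 1) :=
  step_of_cover ch1_o_E2_ok ch1_o_1_dist (by decide +kernel) ch1_o_1_scs (by decide +kernel) ch1_o_1_good1_0 (kw := [])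
    (conj_mem_of_scs ch1_o_E2_ok ch1_o_G1_ok (by decide : 0 < 24) ch1_o_1_scs (c := 1) (d := 16) (by decide +kernel)) (by decide +kernel)

noncomputable def ch1_o_1_rl2_0 : RL := (RL.cons (nat_lit 0) (nat_lit 0) (nat_lit 0) (nat_lit 0) (nat_lit 3) (nat_lit 0) (RL.cons (nat_lit 1) (nat_lit 21) (nat_lit 0) (nat_lit 0) (nat_lit 6) (nat_lit 0) (RL.cons (nat_lit 2) (nat_lit 16) (nat_lit 0) (nat_lit 0) (nat_lit 8) (nat_lit 0) (RL.cons (nat_lit 3) (nat_lit 20) (nat_lit 0) (nat_lit 0) (nat_lit 0) (nat_lit 0) (RL.cons (nat_lit 4) (nat_lit 23) (nat_lit 0) (nat_lit 0) (nat_lit 10) (nat_lit 0) (RL.cons (nat_lit 5) (nat_lit 3) (nat_lit 0) (nat_lit 0) (nat_lit 11) (nat_lit 0) (RL.cons (nat_lit 6) (nat_lit 11) (nat_lit 0) (nat_lit 0) (nat_lit 1) (nat_lit 0) (RL.cons (nat_lit 7) (nat_lit 14) (nat_lit 0) (nat_lit 0) (nat_lit 13) (nat_lit 0) (RL.cons (nat_lit 8)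 (nat_lit 15) (nat_lit 0) (nat_lit 0) (nat_lit 2) (nat_lit 0) (RL.cons (nat_lit 9) (nat_lit 19) (nat_lit 0) (nat_lit 0) (nat_lit 14) (nat_lit 0) (RL.cons (nat_lit 10) (nat_lit 22) (nat_lit 0) (nat_lit 0) (nat_lit 4) (nat_lit 0) (RL.cons (nat_lit 11) (nat_lit 9) (nat_lit 0) (nat_lit 0) (nat_lit 5) (nat_lit 0) (RL.cons (nat_lit 12) (nat_lit 13) (nat_lit 0) (nat_lit 0) (nat_lit 15) (nat_lit 0) (RL.cons (nat_lit 13) (nat_lit 2) (nat_lit 0) (nat_lit 0) (nat_lit 7) (nat_lit 0) (RL.cons (nat_lit 14) (nat_lit 7) (nat_lit 0) (nat_lit 0) (nat_lit 9) (nat_lit 0) (RL.cons (nat_lit 15) (nat_lit 17) (nat_lit 0) (nat_lit 0) (nat_lit 12) (nat_lit 0) RL.nil))))))))))))))))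

theorem ch1_o_1_good2_0 : GoodSet 24 ch1_o_E2 ch1_o_G1 (⟨0, by decide⟩ : Fin 24) ch1_o_1_ts (nat_lit 5) (RL.pts ch1_o_1_rl2_0) :=
  goodSet_of_ok p_hn (det_lab p_hk ⊤) ch1_o_E2_ok ch1_o_G1_ok le_top le_top (by decide : 0 < 24) (sepAt_lab p_hk _) (by decide +kernel)

theorem ch1_o_1_step2 : Step 24 ch1_o_E2 ch1_o_G1 ch1_o_1_ts (2 * 2 + 1) :=
  step_of_cover ch1_o_E2_ok ch1_o_1_dist (by decide +kernel) ch1_o_1_scs (by decide +kernel) ch1_o_1_good2_0 (kw := [])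
    (conj_mem_of_scs ch1_o_E2_ok ch1_o_G1_ok (by decide : 0 < 24) ch1_o_1_scs (c := 2) (d := 20) (by decide +kernel)) (by decide +kernel)

noncomputable def ch1_o_1_rl3_0 : RL := (RL.cons (nat_lit 0) (nat_lit 0) (nat_lit 0) (nat_lit 0) (nat_lit 4) (nat_lit 0) (RL.cons (nat_lit 1) (nat_lit 21) (nat_lit 0) (nat_lit 0) (nat_lit 7) (nat_lit 0) (RL.cons (nat_lit 2) (nat_lit 16) (nat_lit 0) (nat_lit 0) (nat_lit 9) (nat_lit 0) (RL.cons (nat_lit 3) (nat_lit 20) (nat_lit 0) (nat_lit 0) (nat_lit 10) (nat_lit 0) (RL.cons (nat_lit 4) (nat_lit 23) (nat_lit 0) (nat_lit 0) (nat_lit 0) (nat_lit 0) (RL.cons (nat_lit 5) (nat_lit 3) (nat_lit 0) (nat_lit 0) (nat_lit 12) (nat_lit 0) (RL.cons (nat_lit 6) (nat_lit 11) (nat_lit 0) (nat_lit 0) (nat_lit 13) (nat_lit 0) (RL.cons (nat_lit 7) (nat_lit 14) (nat_lit 0) (nat_lit 0) (nat_lit 1) (nat_lit 0) (RL.cons (nat_lit 8)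 (nat_lit 15) (nat_lit 0) (nat_lit 0) (nat_lit 14) (nat_lit 0) (RL.cons (nat_lit 9) (nat_lit 19) (nat_lit 0) (nat_lit 0) (nat_lit 2) (nat_lit 0) (RL.cons (nat_lit 10) (nat_lit 22) (nat_lit 0) (nat_lit 0) (nat_lit 3) (nat_lit 0) (RL.cons (nat_lit 11) (nat_lit 9) (nat_lit 0) (nat_lit 0) (nat_lit 15) (nat_lit 0) (RL.cons (nat_lit 12) (nat_lit 13) (nat_lit 0) (nat_lit 0) (nat_lit 5) (nat_lit 0) (RL.cons (nat_lit 13) (nat_lit 2) (nat_lit 0) (nat_lit 0) (nat_lit 6) (nat_lit 0) (RL.cons (nat_lit 14) (nat_lit 7) (nat_lit 0) (nat_lit 0) (nat_lit 8) (nat_lit 0) (RL.cons (nat_lit 15) (nat_lit 17) (nat_lit 0) (nat_lit 0) (nat_lit 11) (nat_lit 0) RL.nil))))))))))))))))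

theorem ch1_o_1_good3_0 : GoodSet 24 ch1_o_E2 ch1_o_G1 (⟨0, by decide⟩ : Fin 24) ch1_o_1_ts (nat_lit 7) (RL.pts ch1_o_1_rl3_0) :=
  goodSet_of_ok p_hn (det_lab p_hk ⊤) ch1_o_E2_ok ch1_o_G1_ok le_top le_top (by decide : 0 < 24) (sepAt_lab p_hk _) (by decide +kernel)

theorem ch1_o_1_step3 : Step 24 ch1_o_E2 ch1_o_G1 ch1_o_1_ts (2 * 3 + 1) :=
  step_of_cover ch1_o_E2_ok ch1_o_1_dist (by decide +kernel) ch1_o_1_scs (by decide +kernel) ch1_o_1_good3_0 (kw := [])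
    (conj_mem_of_scs ch1_o_E2_ok ch1_o_G1_ok (by decide : 0 < 24) ch1_o_1_scs (c := 3) (d := 23) (by decide +kernel)) (by decide +kernel)

theorem ch1_o_1_lev : grp 24 ch1_o_G1 ⊓ MulAction.stabilizer (Equiv.Perm (Fin 24)) (⟨0, by decide⟩ : Fin 24) = grp 24 ch1_o_E2 :=
  sims_level (gs := p_V148) rfl (by decide) ch1_o_1_fix ch1_o_1_dist (forall_lt_succ' (forall_lt_succ' (forall_lt_succ' (forall_lt_one ch1_o_1_step0) ch1_o_1_step1) ch1_o_1_step2) ch1_o_1_step3)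

theorem ch1_o_1_cardG : Nat.card (grp 24 ch1_o_G1) = 16 :=
  card_of_level p_hn ch1_o_G1_ok (by decide : 0 < 24) ch1_o_1_lev ch1_o_card2 (m := 16) (by decide +kernel)

theorem p_le150 : grp 24 ch1_o_E1 ≤ grp 24 ch1_o_G1 :=
  grp_le_of_memB p_hn p_hk ch1_o_G1_ok ch1_o_E1_ok (ws := [nat_lit 1, nat_lit 3, nat_lit 5, nat_lit 7, nat_lit 1287, nat_lit 775, nat_lit 66309, nat_lit 261]) (by decide +kernel)

theorem p_le151 : grp 24 ch1_o_G1 ≤ grp 24 ch1_o_E1 :=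
  grp_le_of_memB p_hn p_hk ch1_o_E1_ok ch1_o_G1_ok (ws := [nat_lit 1, nat_lit 3, nat_lit 5, nat_lit 7]) (by decide +kernel)

theorem ch1_o_1_eq : grp 24 ch1_o_E1 = grp 24 ch1_o_G1 :=
  le_antisymm p_le150 p_le151

theorem ch1_o_card1 : Nat.card (grp 24 ch1_o_E1) = 16 :=
  by rw [ch1_o_1_eq]; exact ch1_o_1_cardG

theorem ch1_o_stab1 : grp 24 ch1_o_E1 ⊓ MulAction.stabilizer (Equiv.Perm (Fin 24)) (⟨0, by decide⟩ : Fin 24) = grp 24 ch1_o_E2 :=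
  by rw [ch1_o_1_eq]; exact ch1_o_1_lev

theorem ch1_o_leO1 : grp 24 ch1_o_E1 ≤ grp 24 ch1_Q :=
  ch1_o_1_eq.le.trans (grp_cons_le ((p_le144.trans (le_refl (grp 24 ch1_Q))) (p_le149 (toPerm_mem_grp (E := p_V148) (by simp [p_V148])))) (grp_cons_le ((p_le144.trans (le_refl (grp 24 ch1_Q))) (p_le149 (toPerm_mem_grp (E := p_V148) (by simp [p_V148])))) (grp_cons_le ((p_le144.trans (le_refl (grp 24 ch1_Q))) (p_le149 (toPerm_mem_grp (E := p_V148) (by simp [p_V148])))) (grp_cons_le ((p_le144.trans (le_refl (grp 24 ch1_Q))) (p_le149 (toPerm_mem_grp (E := p_V148) (by simp [p_V148])))) ch1_o_leO2))))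

theorem ch1_o_0_fix : grp 24 ch1_o_E1 ≤ MulAction.stabilizer (Equiv.Perm (Fin 24)) (⟨1, by decide⟩ : Fin 24) :=
  grp_le_stab ch1_o_E1_ok (by decide : 1 < 24) (by decide +kernel)

noncomputable def ch1_o_0_ts : List ℕ := [nat_lit 0, nat_lit 1, nat_lit 3, nat_lit 5, nat_lit 259, nat_lit 261, nat_lit 773, nat_lit 66309]

noncomputable def ch1_o_0_ds : List ℕ := [nat_lit 1, nat_lit 8, nat_lit 18, nat_lit 12, nat_lit 5, nat_lit 10, nat_lit 6, nat_lit 4]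

theorem ch1_o_0_dist : Dist 24 ch1_o_E1 ch1_o_G0 (⟨1, by decide⟩ : Fin 24) ch1_o_0_ts ch1_o_0_ds :=
  dist_of_distB (k := 3) p_hn ch1_o_E1_ok ch1_o_G0_ok (by decide : 1 < 24) (by decide +kernel)

noncomputable def ch1_o_0_sl0 : SL := (SL.cons (nat_lit 1) (nat_lit 8) (Ch.cons (nat_lit 0) [nat_lit 7, nat_lit 5, nat_lit 15, nat_lit 777] Ch.nil) [nat_lit 1, nat_lit 5, nat_lit 9, nat_lit 13] (SL.cons (nat_lit 3) (nat_lit 18) (Ch.cons (nat_lit 0) [nat_lit 3, nat_lit 11, nat_lit 13, nat_lit 5] Ch.nil) [nat_lit 3, nat_lit 11, nat_lit 777, nat_lit 265] (SL.cons (nat_lit 5) (nat_lit 12) (Ch.cons (nat_lit 0) [nat_lit 11, nat_lit 9, nat_lit 5, nat_lit 259] Ch.nil) [nat_lit 11, nat_lit 9, nat_lit 265, nat_lit 259] (SL.cons (nat_lit 259) (nat_lit 5) (Ch.cons (nat_lit 0) [nat_lit 7, nat_lit 11, nat_lit 1, nat_lit 265] Ch.nil) [nat_lit 1, nat_lit 259, nat_lit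 7, nat_lit 5] (SL.cons (nat_lit 261) (nat_lit 10) (Ch.cons (nat_lit 0) [nat_lit 13, nat_lit 1, nat_lit 7, nat_lit 11] Ch.nil) [nat_lit 13, nat_lit 1, nat_lit 7, nat_lit 259] (SL.cons (nat_lit 773) (nat_lit 6) (Ch.cons (nat_lit 0) [nat_lit 7, nat_lit 263, nat_lit 5, nat_lit 11] Ch.nil) [nat_lit 1, nat_lit 263, nat_lit 5, nat_lit 11] (SL.cons (nat_lit 66309) (nat_lit 4) (Ch.cons (nat_lit 0) [nat_lit 1805, nat_lit 269, nat_lit 5, nat_lit 1] Ch.nil) [nat_lit 269, nat_lit 1805, nat_lit 5, nat_lit 1] SL.nil)))))))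

theorem ch1_o_0_sc0 : SCs 24 ch1_o_E1 ch1_o_G0 (⟨1, by decide⟩ : Fin 24) (SL.words ch1_o_0_sl0) :=
  scs_of_ok p_hn (det_lab p_hk ⊤) ch1_o_E1_ok ch1_o_G0_ok le_top le_top (by decide : 1 < 24) ch1_o_0_fix ch1_o_card1.le (by decide +kernel)

noncomputable def ch1_o_0_l : List ℕ := (appL (SL.words ch1_o_0_sl0) [])

theorem ch1_o_0_scs : SCs 24 ch1_o_E1 ch1_o_G0 (⟨1, by decide⟩ : Fin 24) ch1_o_0_l :=
  (SCs.append ch1_o_0_sc0 SCs.nil)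

noncomputable def ch1_o_0_rl0_0 : RL := (RL.cons (nat_lit 0) (nat_lit 1) (nat_lit 0) (nat_lit 0) (nat_lit 1) (nat_lit 0) (RL.cons (nat_lit 1) (nat_lit 8) (nat_lit 0) (nat_lit 0) (nat_lit 0) (nat_lit 0) (RL.cons (nat_lit 2) (nat_lit 18) (nat_lit 0) (nat_lit 0) (nat_lit 4) (nat_lit 0) (RL.cons (nat_lit 3) (nat_lit 12) (nat_lit 0) (nat_lit 0) (nat_lit 5) (nat_lit 0) (RL.cons (nat_lit 4) (nat_lit 5) (nat_lit 0) (nat_lit 0) (nat_lit 2) (nat_lit 0) (RL.cons (nat_lit 5) (nat_lit 10) (nat_lit 0) (nat_lit 0) (nat_lit 3) (nat_lit 0) (RL.cons (nat_lit 6) (nat_lit 6) (nat_lit 0) (nat_lit 0) (nat_lit 7) (nat_lit 0) (RL.cons (nat_lit 7) (nat_lit 4) (nat_lit 0) (nat_lit 0) (nat_lit 6) (nat_lit 0) RL.nil))))))))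

theorem ch1_o_0_good0_0 : GoodSet 24 ch1_o_E1 ch1_o_G0 (⟨1, by decide⟩ : Fin 24) ch1_o_0_ts (nat_lit 1) (RL.pts ch1_o_0_rl0_0) :=
  goodSet_of_ok p_hn (det_lab p_hk ⊤) ch1_o_E1_ok ch1_o_G0_ok le_top le_top (by decide : 1 < 24) (sepAt_lab p_hk _) (by decide +kernel)

theorem ch1_o_0_step0 : Step 24 ch1_o_E1 ch1_o_G0 ch1_o_0_ts (2 * 0 + 1) :=
  step_of_cover ch1_o_E1_ok ch1_o_0_dist (by decide +kernel) ch1_o_0_scs (by decide +kernel) ch1_o_0_good0_0 (kw := [nat_lit 7, nat_lit 5, nat_lit 15, nat_lit 777])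
    (conj_mem_of_scs ch1_o_E1_ok ch1_o_G0_ok (by decide : 1 < 24) ch1_o_0_scs (c := 0) (d := 8) (by decide +kernel)) (by decide +kernel)

noncomputable def ch1_o_0_rl1_0 : RL := (RL.cons (nat_lit 0) (nat_lit 1) (nat_lit 0) (nat_lit 0) (nat_lit 2) (nat_lit 0) (RL.cons (nat_lit 1) (nat_lit 8) (nat_lit 0) (nat_lit 0) (nat_lit 4) (nat_lit 0) (RL.cons (nat_lit 2) (nat_lit 18) (nat_lit 0) (nat_lit 0) (nat_lit 0) (nat_lit 0) (RL.cons (nat_lit 3) (nat_lit 12) (nat_lit 0) (nat_lit 0) (nat_lit 6) (nat_lit 263) (RL.cons (nat_lit 4) (nat_lit 5) (nat_lit 0) (nat_lit 0) (nat_lit 1) (nat_lit 0) (RL.cons (nat_lit 5) (nat_lit 10) (nat_lit 0) (nat_lit 0) (nat_lit 7) (nat_lit 263) (RL.cons (nat_lit 6) (nat_lit 6) (nat_lit 0) (nat_lit 0) (nat_lit 3) (nat_lit 263) (RL.cons (nat_lit 7) (nat_lit 4) (nat_lit 0) (nat_lit 0) (nat_lit 5) (nat_lit 263) RL.nil))))))))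

theorem ch1_o_0_good1_0 : GoodSet 24 ch1_o_E1 ch1_o_G0 (⟨1, by decide⟩ : Fin 24) ch1_o_0_ts (nat_lit 3) (RL.pts ch1_o_0_rl1_0) :=
  goodSet_of_ok p_hn (det_lab p_hk ⊤) ch1_o_E1_ok ch1_o_G0_ok le_top le_top (by decide : 1 < 24) (sepAt_lab p_hk _) (by decide +kernel)

theorem ch1_o_0_step1 : Step 24 ch1_o_E1 ch1_o_G0 ch1_o_0_ts (2 * 1 + 1) :=
  step_of_cover ch1_o_E1_ok ch1_o_0_dist (by decide +kernel) ch1_o_0_scs (by decide +kernel) ch1_o_0_good1_0 (kw := [nat_lit 3, nat_lit 11, nat_lit 13, nat_lit 5])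
    (conj_mem_of_scs ch1_o_E1_ok ch1_o_G0_ok (by decide : 1 < 24) ch1_o_0_scs (c := 1) (d := 18) (by decide +kernel)) (by decide +kernel)

noncomputable def ch1_o_0_rl2_0 : RL := (RL.cons (nat_lit 0) (nat_lit 1) (nat_lit 0) (nat_lit 0) (nat_lit 3) (nat_lit 263) (RL.cons (nat_lit 1) (nat_lit 8) (nat_lit 0) (nat_lit 0) (nat_lit 5) (nat_lit 263) (RL.cons (nat_lit 2) (nat_lit 18) (nat_lit 0) (nat_lit 0) (nat_lit 6) (nat_lit 263) (RL.cons (nat_lit 3) (nat_lit 12) (nat_lit 0) (nat_lit 0) (nat_lit 0) (nat_lit 0) (RL.cons (nat_lit 4) (nat_lit 5) (nat_lit 0) (nat_lit 0) (nat_lit 7) (nat_lit 263) (RL.cons (nat_lit 5) (nat_lit 10) (nat_lit 0) (nat_lit 0) (nat_lit 1) (nat_lit 0) (RL.cons (nat_lit 6) (nat_lit 6) (nat_lit 0) (nat_lit 0) (nat_lit 2) (nat_lit 0) (RL.cons (nat_lit 7) (nat_lit 4) (nat_lit 0) (nat_lit 0) (nat_lit 4) (nat_lit 0) RL.nil))))))))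

theorem ch1_o_0_good2_0 : GoodSet 24 ch1_o_E1 ch1_o_G0 (⟨1, by decide⟩ : Fin 24) ch1_o_0_ts (nat_lit 5) (RL.pts ch1_o_0_rl2_0) :=
  goodSet_of_ok p_hn (det_lab p_hk ⊤) ch1_o_E1_ok ch1_o_G0_ok le_top le_top (by decide : 1 < 24) (sepAt_lab p_hk _) (by decide +kernel)

theorem ch1_o_0_step2 : Step 24 ch1_o_E1 ch1_o_G0 ch1_o_0_ts (2 * 2 + 1) :=
  step_of_cover ch1_o_E1_ok ch1_o_0_dist (by decide +kernel) ch1_o_0_scs (by decide +kernel) ch1_o_0_good2_0 (kw := [nat_lit 11, nat_lit 9, nat_lit 5, nat_lit 259])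
    (conj_mem_of_scs ch1_o_E1_ok ch1_o_G0_ok (by decide : 1 < 24) ch1_o_0_scs (c := 2) (d := 12) (by decide +kernel)) (by decide +kernel)

theorem ch1_o_0_lev : grp 24 ch1_o_G0 ⊓ MulAction.stabilizer (Equiv.Perm (Fin 24)) (⟨1, by decide⟩ : Fin 24) = grp 24 ch1_o_E1 :=
  sims_level (gs := p_V139) rfl (by decide) ch1_o_0_fix ch1_o_0_dist (forall_lt_succ' (forall_lt_succ' (forall_lt_one ch1_o_0_step0) ch1_o_0_step1) ch1_o_0_step2)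

theorem ch1_o_0_cardG : Nat.card (grp 24 ch1_o_G0) = 128 :=
  card_of_level p_hn ch1_o_G0_ok (by decide : 1 < 24) ch1_o_0_lev ch1_o_card1 (m := 8) (by decide +kernel)

theorem p_le152 : grp 24 ch1_o_E0 ≤ grp 24 ch1_o_G0 :=
  grp_le_of_memB p_hn p_hk ch1_o_G0_ok ch1_o_E0_ok (ws := [nat_lit 1, nat_lit 3, nat_lit 5, nat_lit 1805, nat_lit 773, nat_lit 7, nat_lit 9, nat_lit 11, nat_lit 13, nat_lit 15, nat_lit 17, nat_lit 19, nat_lit 21]) (by decide +kernel)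

theorem p_le153 : grp 24 ch1_o_G0 ≤ grp 24 ch1_o_E0 :=
  grp_le_of_memB p_hn p_hk ch1_o_E0_ok ch1_o_G0_ok (ws := [nat_lit 1, nat_lit 3, nat_lit 5, nat_lit 11, nat_lit 13, nat_lit 15, nat_lit 17, nat_lit 19, nat_lit 21, nat_lit 23, nat_lit 25]) (by decide +kernel)

theorem ch1_o_0_eq : grp 24 ch1_o_E0 = grp 24 ch1_o_G0 :=
  le_antisymm p_le152 p_le153

theorem ch1_o_card0 : Nat.card (grp 24 ch1_o_E0) = 128 :=
  by rw [ch1_o_0_eq]; exact ch1_o_0_cardG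

theorem ch1_o_stab0 : grp 24 ch1_o_E0 ⊓ MulAction.stabilizer (Equiv.Perm (Fin 24)) (⟨1, by decide⟩ : Fin 24) = grp 24 ch1_o_E1 :=
  by rw [ch1_o_0_eq]; exact ch1_o_0_lev

theorem ch1_o_leO0 : grp 24 ch1_o_E0 ≤ grp 24 ch1_Q :=
  ch1_o_0_eq.le.trans (grp_cons_le ((le_refl (grp 24 ch1_Q)) (p_le140 (toPerm_mem_grp (E := p_V139) (by simp [p_V139])))) (grp_cons_le ((le_refl (grp 24 ch1_Q)) (p_le140 (toPerm_mem_grp (E := p_V139) (by simp [p_V139])))) (grp_cons_le ((le_refl (grp 24 ch1_Q)) (p_le140 (toPerm_mem_grp (E := p_V139) (by simp [p_V139])))) ch1_o_leO1)))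

theorem p_le154 : grp 24 ch1_Q ≤ grp 24 ch1_o_E0 :=
  grp_le_of_memB p_hn p_hk ch1_o_E0_ok ch1_Q_ok (ws := [nat_lit 7, nat_lit 21, nat_lit 3, nat_lit 15, nat_lit 25, nat_lit 9, nat_lit 1]) (by decide +kernel)

theorem ch1_o_eq : grp 24 ch1_Q = grp 24 ch1_o_E0 :=
  le_antisymm p_le154 ch1_o_leO0

theorem ch1_o_card : Nat.card (grp 24 ch1_Q) = 128 :=
  by rw [ch1_o_eq]; exact ch1_o_card0

noncomputable def ch1_o_ch : Ch := (Ch.cons (nat_lit 1) [nat_lit 1, nat_lit 3, nat_lit 5, nat_lit 7, nat_lit 9] (Ch.cons (nat_lit 0) [nat_lit 11, nat_lit 13, nat_lit 15, nat_lit 17, nat_lit 19, nat_lit 21, nat_lit 23, nat_lit 25] Ch.nil))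

theorem ch1_o_exact : Ch.Exact 24 ch1_o_E0 ch1_o_ch (grp 24 ch1_o_E0) :=
  Ch.exact (k := 5) (L := (lab 24 5)) p_hn ch1_o_E0_ok (by decide +kernel) (wgrp_le_grp _ _ _) ch1_o_card0.le

theorem ch1_n : grp 24 nt_c1_K ≤ Subgroup.normalizer (grp 24 ch1_Q : Set (Equiv.Perm (Fin 24))) :=
  EvG.le_norm p_hn p_hk nt_c1_K_ok ch1_Q_ok ch1_o_E0_ok ch1_o_eq.ge (W := [[nat_lit 2833, nat_lit 17, nat_lit 983305, nat_lit 3347, nat_lit 13, nat_lit 0xb150105, nat_lit 725257], [nat_lit 2833, nat_lit 11, nat_lit 0xb130105, nat_lit 19, nat_lit 2837, nat_lit 265, nat_lit 726277], [nat_lit 2833, nat_lit 2837, nat_lit 724227, nat_lit 23, nat_lit 15, nat_lit 0xb150103, nat_lit 0xb150105], [nat_lit 2833, nat_lit 3347, nat_lit 259, nat_lit 15, nat_lit 11, nat_lit 9, nat_lit 1], [nat_lit 2833, nat_lit 2829, nat_lit 3, nat_lit 15, nat_lit 19, nat_lit 9, nat_lit 1], [nat_lit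 2833, nat_lit 17, nat_lit 3, nat_lit 15, nat_lit 23, nat_lit 265, nat_lit 1]]) (by decide +kernel)

theorem ch1_x3 : Net.toPerm 24 p_g155 ∈ (grp 24 E) ⊓ Subgroup.centralizer {Net.toPerm 24 p_g39} :=
  nt_c1_eq.ge (mem_grp_of_memB p_hn p_hk nt_c1_K_ok p_g155_ok (w := (nat_lit 0x90b0507050303030106)) (by decide +kernel))

theorem ch1_ord3 : orderOf (Net.toPerm 24 p_g155) = 3 :=
  orderOf_net p_hn p_hk p_g155_ok (by decide) (ps := [3]) (by set_option linter.unusedSimpArgs false in simp [Nat.primeFactorsList_ofNat]) (by decide +kernel)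

theorem ch1_x7 : Net.toPerm 24 p_g156 ∈ (grp 24 E) ⊓ Subgroup.centralizer {Net.toPerm 24 p_g39} :=
  nt_c1_eq.ge (mem_grp_of_memB p_hn p_hk nt_c1_K_ok p_g156_ok (w := (nat_lit 0x709060709030103)) (by decide +kernel))

theorem ch1_ord7 : orderOf (Net.toPerm 24 p_g156) = 7 :=
  orderOf_net p_hn p_hk p_g156_ok (by decide) (ps := [7]) (by set_option linter.unusedSimpArgs false in simp [Nat.primeFactorsList_ofNat]) (by decide +kernel)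

theorem ch1 : IsOfCharacteristicTwo ↥((grp 24 E) ⊓ Subgroup.centralizer {Net.toPerm 24 p_g39}) :=
  H44.Ki.charTwo_of_primes (ch1_le.trans nt_c1_eq.ge) (nt_c1_eq.le.trans ch1_n)
    (IsPGroup.of_card (n := 7) ch1_o_card) fun p hp hd => by
  rw [nt_c1_card] at hd ⊢
  have h := (Nat.mem_primeFactorsList (by norm_num)).2 ⟨hp, hd⟩
  simp [Nat.primeFactorsList_ofNat] at h
  rcases h with rfl | rfl | rfl
  · exact .inl rfl
  · exact .inr ⟨by norm_num, _, ch1_x3, ch1_ord3 ▸ pow_orderOf_eq_one _, _, (toPerm_mem_grp (E := ch1_Q) (List.Mem.tail _ (List.Mem.head _))),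
      EvG.ncomm_net (k := 5) p_hn (by decide +kernel)⟩
  · exact .inr ⟨by norm_num, _, ch1_x7, ch1_ord7 ▸ pow_orderOf_eq_one _, _, (toPerm_mem_grp (E := ch1_Q) (List.Mem.tail _ (List.Mem.head _))),
      EvG.ncomm_net (k := 5) p_hn (by decide +kernel)⟩

theorem ch2_le : grp 24 ch2_Q ≤ grp 24 nt_c2_K :=
  grp_le_of_memB p_hn p_hk nt_c2_K_ok ch2_Q_ok (ws := [nat_lit 0x80303070101, nat_lit 0x8030307010501, nat_lit 0x50705080303, nat_lit 0x8030307, nat_lit 0x70508030503, nat_lit 328451]) (by decide +kernel)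

theorem p_le165 : grp 24 p_V164 ≤ grp 24 ch2_Q :=
  grp_le_of_memB p_hn p_hk ch2_Q_ok p_V164_ok (ws := [nat_lit 3, nat_lit 259]) (by decide +kernel)

theorem p_le170 : grp 24 p_V169 ≤ grp 24 ch2_Q :=
  grp_le_of_memB p_hn p_hk ch2_Q_ok p_V169_ok (ws := [nat_lit 0x10802040804070408060c04, nat_lit 0x4020c05020904, nat_lit 0x50105090b02070103030502, nat_lit 0x50b06080c080c060305020402]) (by decide +kernel)

theorem p_le172 : grp 24 p_V171 ≤ grp 24 p_V169 :=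
  grp_le_of_memB p_hn p_hk p_V169_ok p_V171_ok (ws := [nat_lit 259, nat_lit 3]) (by decide +kernel)

theorem p_le175 : grp 24 p_V174 ≤ grp 24 p_V169 :=
  grp_le_of_memB p_hn p_hk p_V169_ok p_V174_ok (ws := [nat_lit 0x702060802, nat_lit 0x303070607060407]) (by decide +kernel)

theorem p_le178 : grp 24 p_V177 ≤ grp 24 p_V174 :=
  grp_le_of_memB p_hn p_hk p_V174_ok p_V177_ok (ws := [nat_lit 3, nat_lit 259]) (by decide +kernel)

theorem ch2_o_card3 : Nat.card (grp 24 ch2_o_E3) = 1 :=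
  card_grp_nil 24

theorem ch2_o_leO3 : grp 24 ch2_o_E3 ≤ grp 24 ch2_Q :=
  grp_nil_le _

theorem ch2_o_2_fix : grp 24 ch2_o_E3 ≤ MulAction.stabilizer (Equiv.Perm (Fin 24)) (⟨2, by decide⟩ : Fin 24) :=
  grp_le_stab ch2_o_E3_ok (by decide : 2 < 24) (by decide +kernel)

noncomputable def ch2_o_2_ts : List ℕ := [nat_lit 0, nat_lit 1, nat_lit 3, nat_lit 259]

noncomputable def ch2_o_2_ds : List ℕ := [nat_lit 2, nat_lit 19, nat_lit 14, nat_lit 7]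

theorem ch2_o_2_dist : Dist 24 ch2_o_E3 ch2_o_G2 (⟨2, by decide⟩ : Fin 24) ch2_o_2_ts ch2_o_2_ds :=
  dist_of_distB (k := 2) p_hn ch2_o_E3_ok ch2_o_G2_ok (by decide : 2 < 24) (by decide +kernel)

noncomputable def ch2_o_2_sl0 : SL := (SL.cons (nat_lit 1) (nat_lit 19) Ch.nil [] (SL.cons (nat_lit 3) (nat_lit 14) Ch.nil [] (SL.cons (nat_lit 259) (nat_lit 7) Ch.nil [] SL.nil)))

theorem ch2_o_2_sc0 : SCs 24 ch2_o_E3 ch2_o_G2 (⟨2, by decide⟩ : Fin 24) (SL.words ch2_o_2_sl0) :=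
  scs_of_ok p_hn (det_lab p_hk ⊤) ch2_o_E3_ok ch2_o_G2_ok le_top le_top (by decide : 2 < 24) ch2_o_2_fix ch2_o_card3.le (by decide +kernel)

noncomputable def ch2_o_2_l : List ℕ := (appL (SL.words ch2_o_2_sl0) [])

theorem ch2_o_2_scs : SCs 24 ch2_o_E3 ch2_o_G2 (⟨2, by decide⟩ : Fin 24) ch2_o_2_l :=
  (SCs.append ch2_o_2_sc0 SCs.nil)

noncomputable def ch2_o_2_rl0_0 : RL := (RL.cons (nat_lit 0) (nat_lit 2) (nat_lit 0) (nat_lit 0) (nat_lit 1) (nat_lit 0) (RL.cons (nat_lit 1) (nat_lit 19) (nat_lit 0) (nat_lit 0) (nat_lit 0) (nat_lit 0) (RL.cons (nat_lit 2) (nat_lit 14) (nat_lit 0) (nat_lit 0) (nat_lit 3) (nat_lit 0) (RL.cons (nat_lit 3) (nat_lit 7) (nat_lit 0) (nat_lit 0) (nat_lit 2) (nat_lit 0) RL.nil))))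

theorem ch2_o_2_good0_0 : GoodSet 24 ch2_o_E3 ch2_o_G2 (⟨2, by decide⟩ : Fin 24) ch2_o_2_ts (nat_lit 1) (RL.pts ch2_o_2_rl0_0) :=
  goodSet_of_ok p_hn (det_lab p_hk ⊤) ch2_o_E3_ok ch2_o_G2_ok le_top le_top (by decide : 2 < 24) (sepAt_lab p_hk _) (by decide +kernel)

theorem ch2_o_2_step0 : Step 24 ch2_o_E3 ch2_o_G2 ch2_o_2_ts (2 * 0 + 1) :=
  step_of_cover ch2_o_E3_ok ch2_o_2_dist (by decide +kernel) ch2_o_2_scs (by decide +kernel) ch2_o_2_good0_0 (kw := [])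
    (conj_mem_of_scs ch2_o_E3_ok ch2_o_G2_ok (by decide : 2 < 24) ch2_o_2_scs (c := 0) (d := 19) (by decide +kernel)) (by decide +kernel)

noncomputable def ch2_o_2_rl1_0 : RL := (RL.cons (nat_lit 0) (nat_lit 2) (nat_lit 0) (nat_lit 0) (nat_lit 2) (nat_lit 0) (RL.cons (nat_lit 1) (nat_lit 19) (nat_lit 0) (nat_lit 0) (nat_lit 3) (nat_lit 0) (RL.cons (nat_lit 2) (nat_lit 14) (nat_lit 0) (nat_lit 0) (nat_lit 0) (nat_lit 0) (RL.cons (nat_lit 3) (nat_lit 7) (nat_lit 0) (nat_lit 0) (nat_lit 1) (nat_lit 0) RL.nil))))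

theorem ch2_o_2_good1_0 : GoodSet 24 ch2_o_E3 ch2_o_G2 (⟨2, by decide⟩ : Fin 24) ch2_o_2_ts (nat_lit 3) (RL.pts ch2_o_2_rl1_0) :=
  goodSet_of_ok p_hn (det_lab p_hk ⊤) ch2_o_E3_ok ch2_o_G2_ok le_top le_top (by decide : 2 < 24) (sepAt_lab p_hk _) (by decide +kernel)

theorem ch2_o_2_step1 : Step 24 ch2_o_E3 ch2_o_G2 ch2_o_2_ts (2 * 1 + 1) :=
  step_of_cover ch2_o_E3_ok ch2_o_2_dist (by decide +kernel) ch2_o_2_scs (by decide +kernel) ch2_o_2_good1_0 (kw := [])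
    (conj_mem_of_scs ch2_o_E3_ok ch2_o_G2_ok (by decide : 2 < 24) ch2_o_2_scs (c := 1) (d := 14) (by decide +kernel)) (by decide +kernel)

theorem ch2_o_2_lev : grp 24 ch2_o_G2 ⊓ MulAction.stabilizer (Equiv.Perm (Fin 24)) (⟨2, by decide⟩ : Fin 24) = grp 24 ch2_o_E3 :=
  sims_level (gs := p_V177) rfl (by decide) ch2_o_2_fix ch2_o_2_dist (forall_lt_succ' (forall_lt_one ch2_o_2_step0) ch2_o_2_step1)

theorem ch2_o_2_cardG : Nat.card (grp 24 ch2_o_G2) = 4 :=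
  card_of_level p_hn ch2_o_G2_ok (by decide : 2 < 24) ch2_o_2_lev ch2_o_card3 (m := 4) (by decide +kernel)

theorem p_le179 : grp 24 ch2_o_E2 ≤ grp 24 ch2_o_G2 :=
  grp_le_of_memB p_hn p_hk ch2_o_G2_ok ch2_o_E2_ok (ws := [nat_lit 1, nat_lit 3, nat_lit 259]) (by decide +kernel)

theorem p_le180 : grp 24 ch2_o_G2 ≤ grp 24 ch2_o_E2 :=
  grp_le_of_memB p_hn p_hk ch2_o_E2_ok ch2_o_G2_ok (ws := [nat_lit 1, nat_lit 3]) (by decide +kernel)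

theorem ch2_o_2_eq : grp 24 ch2_o_E2 = grp 24 ch2_o_G2 :=
  le_antisymm p_le179 p_le180

theorem ch2_o_card2 : Nat.card (grp 24 ch2_o_E2) = 4 :=
  by rw [ch2_o_2_eq]; exact ch2_o_2_cardG

theorem ch2_o_stab2 : grp 24 ch2_o_E2 ⊓ MulAction.stabilizer (Equiv.Perm (Fin 24)) (⟨2, by decide⟩ : Fin 24) = grp 24 ch2_o_E3 :=
  by rw [ch2_o_2_eq]; exact ch2_o_2_lev

theorem ch2_o_leO2 : grp 24 ch2_o_E2 ≤ grp 24 ch2_Q :=
  ch2_o_2_eq.le.trans (grp_cons_le ((p_le175.trans (p_le170.trans (le_refl (grp 24 ch2_Q)))) (p_le178 (toPerm_mem_grp (E := p_V177) (by simp [p_V177])))) (grp_cons_le ((p_le175.trans (p_le170.trans (le_refl (grp 24 ch2_Q)))) (p_le178 (toPerm_mem_grp (E := p_V177) (by simp [p_V177])))) ch2_o_leO3))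

theorem ch2_o_1_fix : grp 24 ch2_o_E2 ≤ MulAction.stabilizer (Equiv.Perm (Fin 24)) (⟨1, by decide⟩ : Fin 24) :=
  grp_le_stab ch2_o_E2_ok (by decide : 1 < 24) (by decide +kernel)

noncomputable def ch2_o_1_ts : List ℕ := [nat_lit 0, nat_lit 1, nat_lit 3, nat_lit 259]

noncomputable def ch2_o_1_ds : List ℕ := [nat_lit 1, nat_lit 8, nat_lit 12, nat_lit 5]

theorem ch2_o_1_dist : Dist 24 ch2_o_E2 ch2_o_G1 (⟨1, by decide⟩ : Fin 24) ch2_o_1_ts ch2_o_1_ds :=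
  dist_of_distB (k := 2) p_hn ch2_o_E2_ok ch2_o_G1_ok (by decide : 1 < 24) (by decide +kernel)

noncomputable def ch2_o_1_sl0 : SL := (SL.cons (nat_lit 1) (nat_lit 8) (Ch.cons (nat_lit 2) [nat_lit 1, nat_lit 5] Ch.nil) [nat_lit 1, nat_lit 5] (SL.cons (nat_lit 3) (nat_lit 12) (Ch.cons (nat_lit 2) [nat_lit 3, nat_lit 5] Ch.nil) [nat_lit 3, nat_lit 5] (SL.cons (nat_lit 259) (nat_lit 5) (Ch.cons (nat_lit 2) [nat_lit 1, nat_lit 5] Ch.nil) [nat_lit 1, nat_lit 5] SL.nil)))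

theorem ch2_o_1_sc0 : SCs 24 ch2_o_E2 ch2_o_G1 (⟨1, by decide⟩ : Fin 24) (SL.words ch2_o_1_sl0) :=
  scs_of_ok p_hn (det_lab p_hk ⊤) ch2_o_E2_ok ch2_o_G1_ok le_top le_top (by decide : 1 < 24) ch2_o_1_fix ch2_o_card2.le (by decide +kernel)

noncomputable def ch2_o_1_l : List ℕ := (appL (SL.words ch2_o_1_sl0) [])

theorem ch2_o_1_scs : SCs 24 ch2_o_E2 ch2_o_G1 (⟨1, by decide⟩ : Fin 24) ch2_o_1_l :=
  (SCs.append ch2_o_1_sc0 SCs.nil)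

noncomputable def ch2_o_1_rl0_0 : RL := (RL.cons (nat_lit 0) (nat_lit 1) (nat_lit 0) (nat_lit 0) (nat_lit 1) (nat_lit 0) (RL.cons (nat_lit 1) (nat_lit 8) (nat_lit 0) (nat_lit 0) (nat_lit 0) (nat_lit 0) (RL.cons (nat_lit 2) (nat_lit 12) (nat_lit 0) (nat_lit 0) (nat_lit 3) (nat_lit 0) (RL.cons (nat_lit 3) (nat_lit 5) (nat_lit 0) (nat_lit 0) (nat_lit 2) (nat_lit 0) RL.nil))))

theorem ch2_o_1_good0_0 : GoodSet 24 ch2_o_E2 ch2_o_G1 (⟨1, by decide⟩ : Fin 24) ch2_o_1_ts (nat_lit 1) (RL.pts ch2_o_1_rl0_0) :=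
  goodSet_of_ok p_hn (det_lab p_hk ⊤) ch2_o_E2_ok ch2_o_G1_ok le_top le_top (by decide : 1 < 24) (sepAt_lab p_hk _) (by decide +kernel)

theorem ch2_o_1_step0 : Step 24 ch2_o_E2 ch2_o_G1 ch2_o_1_ts (2 * 0 + 1) :=
  step_of_cover ch2_o_E2_ok ch2_o_1_dist (by decide +kernel) ch2_o_1_scs (by decide +kernel) ch2_o_1_good0_0 (kw := [nat_lit 1, nat_lit 5])
    (conj_mem_of_scs ch2_o_E2_ok ch2_o_G1_ok (by decide : 1 < 24) ch2_o_1_scs (c := 0) (d := 8) (by decide +kernel)) (by decide +kernel)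

noncomputable def ch2_o_1_rl1_0 : RL := (RL.cons (nat_lit 0) (nat_lit 1) (nat_lit 0) (nat_lit 0) (nat_lit 2) (nat_lit 0) (RL.cons (nat_lit 1) (nat_lit 8) (nat_lit 0) (nat_lit 0) (nat_lit 3) (nat_lit 0) (RL.cons (nat_lit 2) (nat_lit 12) (nat_lit 0) (nat_lit 0) (nat_lit 0) (nat_lit 0) (RL.cons (nat_lit 3) (nat_lit 5) (nat_lit 0) (nat_lit 0) (nat_lit 1) (nat_lit 0) RL.nil))))

theorem ch2_o_1_good1_0 : GoodSet 24 ch2_o_E2 ch2_o_G1 (⟨1, by decide⟩ : Fin 24) ch2_o_1_ts (nat_lit 3) (RL.pts ch2_o_1_rl1_0) :=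
  goodSet_of_ok p_hn (det_lab p_hk ⊤) ch2_o_E2_ok ch2_o_G1_ok le_top le_top (by decide : 1 < 24) (sepAt_lab p_hk _) (by decide +kernel)

theorem ch2_o_1_step1 : Step 24 ch2_o_E2 ch2_o_G1 ch2_o_1_ts (2 * 1 + 1) :=
  step_of_cover ch2_o_E2_ok ch2_o_1_dist (by decide +kernel) ch2_o_1_scs (by decide +kernel) ch2_o_1_good1_0 (kw := [nat_lit 3, nat_lit 5])
    (conj_mem_of_scs ch2_o_E2_ok ch2_o_G1_ok (by decide : 1 < 24) ch2_o_1_scs (c := 1) (d := 12) (by decide +kernel)) (by decide +kernel)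

theorem ch2_o_1_lev : grp 24 ch2_o_G1 ⊓ MulAction.stabilizer (Equiv.Perm (Fin 24)) (⟨1, by decide⟩ : Fin 24) = grp 24 ch2_o_E2 :=
  sims_level (gs := p_V171) rfl (by decide) ch2_o_1_fix ch2_o_1_dist (forall_lt_succ' (forall_lt_one ch2_o_1_step0) ch2_o_1_step1)

theorem ch2_o_1_cardG : Nat.card (grp 24 ch2_o_G1) = 16 :=
  card_of_level p_hn ch2_o_G1_ok (by decide : 1 < 24) ch2_o_1_lev ch2_o_card2 (m := 4) (by decide +kernel)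

theorem p_le181 : grp 24 ch2_o_E1 ≤ grp 24 ch2_o_G1 :=
  grp_le_of_memB p_hn p_hk ch2_o_G1_ok ch2_o_E1_ok (ws := [nat_lit 1, nat_lit 3, nat_lit 259, nat_lit 1283, nat_lit 5, nat_lit 7, nat_lit 9]) (by decide +kernel)

theorem p_le182 : grp 24 ch2_o_G1 ≤ grp 24 ch2_o_E1 :=
  grp_le_of_memB p_hn p_hk ch2_o_E1_ok ch2_o_G1_ok (ws := [nat_lit 1, nat_lit 3, nat_lit 9, nat_lit 11, nat_lit 13]) (by decide +kernel)

theorem ch2_o_1_eq : grp 24 ch2_o_E1 = grp 24 ch2_o_G1 :=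
  le_antisymm p_le181 p_le182

theorem ch2_o_card1 : Nat.card (grp 24 ch2_o_E1) = 16 :=
  by rw [ch2_o_1_eq]; exact ch2_o_1_cardG

theorem ch2_o_stab1 : grp 24 ch2_o_E1 ⊓ MulAction.stabilizer (Equiv.Perm (Fin 24)) (⟨1, by decide⟩ : Fin 24) = grp 24 ch2_o_E2 :=
  by rw [ch2_o_1_eq]; exact ch2_o_1_lev

theorem ch2_o_leO1 : grp 24 ch2_o_E1 ≤ grp 24 ch2_Q :=
  ch2_o_1_eq.le.trans (grp_cons_le ((p_le170.trans (le_refl (grp 24 ch2_Q))) (p_le172 (toPerm_mem_grp (E := p_V171) (by simp [p_V171])))) (grp_cons_le ((p_le170.trans (le_refl (grp 24 ch2_Q))) (p_le172 (toPerm_mem_grp (E := p_V171) (by simp [p_V171])))) ch2_o_leO2))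

theorem ch2_o_0_fix : grp 24 ch2_o_E1 ≤ MulAction.stabilizer (Equiv.Perm (Fin 24)) (⟨0, by decide⟩ : Fin 24) :=
  grp_le_stab ch2_o_E1_ok (by decide : 0 < 24) (by decide +kernel)

noncomputable def ch2_o_0_ts : List ℕ := [nat_lit 0, nat_lit 1, nat_lit 3, nat_lit 259]

noncomputable def ch2_o_0_ds : List ℕ := [nat_lit 0, nat_lit 20, nat_lit 3, nat_lit 9]

theorem ch2_o_0_dist : Dist 24 ch2_o_E1 ch2_o_G0 (⟨0, by decide⟩ : Fin 24) ch2_o_0_ts ch2_o_0_ds :=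
  dist_of_distB (k := 2) p_hn ch2_o_E1_ok ch2_o_G0_ok (by decide : 0 < 24) (by decide +kernel)

noncomputable def ch2_o_0_sl0 : SL := (SL.cons (nat_lit 1) (nat_lit 20) (Ch.cons (nat_lit 1) [nat_lit 2307, nat_lit 5] (Ch.cons (nat_lit 2) [nat_lit 9, nat_lit 11] Ch.nil)) [nat_lit 2307, nat_lit 5, nat_lit 9, nat_lit 11] (SL.cons (nat_lit 3) (nat_lit 3) (Ch.cons (nat_lit 1) [nat_lit 1, nat_lit 3] (Ch.cons (nat_lit 2) [nat_lit 11, nat_lit 13] Ch.nil)) [nat_lit 1, nat_lit 3, nat_lit 11, nat_lit 13] (SL.cons (nat_lit 259) (nat_lit 9) (Ch.cons (nat_lit 1) [nat_lit 3, nat_lit 1] (Ch.cons (nat_lit 2) [nat_lit 11, nat_lit 13] Ch.nil)) [nat_lit 3, nat_lit 1, nat_lit 11, nat_lit 13] SL.nil)))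

theorem ch2_o_0_sc0 : SCs 24 ch2_o_E1 ch2_o_G0 (⟨0, by decide⟩ : Fin 24) (SL.words ch2_o_0_sl0) :=
  scs_of_ok p_hn (det_lab p_hk ⊤) ch2_o_E1_ok ch2_o_G0_ok le_top le_top (by decide : 0 < 24) ch2_o_0_fix ch2_o_card1.le (by decide +kernel)

noncomputable def ch2_o_0_l : List ℕ := (appL (SL.words ch2_o_0_sl0) [])

theorem ch2_o_0_scs : SCs 24 ch2_o_E1 ch2_o_G0 (⟨0, by decide⟩ : Fin 24) ch2_o_0_l :=
  (SCs.append ch2_o_0_sc0 SCs.nil)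

noncomputable def ch2_o_0_rl0_0 : RL := (RL.cons (nat_lit 0) (nat_lit 0) (nat_lit 0) (nat_lit 0) (nat_lit 1) (nat_lit 0) (RL.cons (nat_lit 1) (nat_lit 20) (nat_lit 0) (nat_lit 0) (nat_lit 0) (nat_lit 0) (RL.cons (nat_lit 2) (nat_lit 3) (nat_lit 0) (nat_lit 0) (nat_lit 3) (nat_lit 0) (RL.cons (nat_lit 3) (nat_lit 9) (nat_lit 0) (nat_lit 0) (nat_lit 2) (nat_lit 0) RL.nil))))

theorem ch2_o_0_good0_0 : GoodSet 24 ch2_o_E1 ch2_o_G0 (⟨0, by decide⟩ : Fin 24) ch2_o_0_ts (nat_lit 1) (RL.pts ch2_o_0_rl0_0) :=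
  goodSet_of_ok p_hn (det_lab p_hk ⊤) ch2_o_E1_ok ch2_o_G0_ok le_top le_top (by decide : 0 < 24) (sepAt_lab p_hk _) (by decide +kernel)

theorem ch2_o_0_step0 : Step 24 ch2_o_E1 ch2_o_G0 ch2_o_0_ts (2 * 0 + 1) :=
  step_of_cover ch2_o_E1_ok ch2_o_0_dist (by decide +kernel) ch2_o_0_scs (by decide +kernel) ch2_o_0_good0_0 (kw := [nat_lit 2307, nat_lit 5, nat_lit 9, nat_lit 11])
    (conj_mem_of_scs ch2_o_E1_ok ch2_o_G0_ok (by decide : 0 < 24) ch2_o_0_scs (c := 0) (d := 20) (by decide +kernel)) (by decide +kernel)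

noncomputable def ch2_o_0_rl1_0 : RL := (RL.cons (nat_lit 0) (nat_lit 0) (nat_lit 0) (nat_lit 0) (nat_lit 2) (nat_lit 0) (RL.cons (nat_lit 1) (nat_lit 20) (nat_lit 0) (nat_lit 0) (nat_lit 3) (nat_lit 0) (RL.cons (nat_lit 2) (nat_lit 3) (nat_lit 0) (nat_lit 0) (nat_lit 0) (nat_lit 0) (RL.cons (nat_lit 3) (nat_lit 9) (nat_lit 0) (nat_lit 0) (nat_lit 1) (nat_lit 0) RL.nil))))

theorem ch2_o_0_good1_0 : GoodSet 24 ch2_o_E1 ch2_o_G0 (⟨0, by decide⟩ : Fin 24) ch2_o_0_ts (nat_lit 3) (RL.pts ch2_o_0_rl1_0) :=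
  goodSet_of_ok p_hn (det_lab p_hk ⊤) ch2_o_E1_ok ch2_o_G0_ok le_top le_top (by decide : 0 < 24) (sepAt_lab p_hk _) (by decide +kernel)

theorem ch2_o_0_step1 : Step 24 ch2_o_E1 ch2_o_G0 ch2_o_0_ts (2 * 1 + 1) :=
  step_of_cover ch2_o_E1_ok ch2_o_0_dist (by decide +kernel) ch2_o_0_scs (by decide +kernel) ch2_o_0_good1_0 (kw := [nat_lit 1, nat_lit 3, nat_lit 11, nat_lit 13])
    (conj_mem_of_scs ch2_o_E1_ok ch2_o_G0_ok (by decide : 0 < 24) ch2_o_0_scs (c := 1) (d := 3) (by decide +kernel)) (by decide +kernel)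

theorem ch2_o_0_lev : grp 24 ch2_o_G0 ⊓ MulAction.stabilizer (Equiv.Perm (Fin 24)) (⟨0, by decide⟩ : Fin 24) = grp 24 ch2_o_E1 :=
  sims_level (gs := p_V164) rfl (by decide) ch2_o_0_fix ch2_o_0_dist (forall_lt_succ' (forall_lt_one ch2_o_0_step0) ch2_o_0_step1)

theorem ch2_o_0_cardG : Nat.card (grp 24 ch2_o_G0) = 64 :=
  card_of_level p_hn ch2_o_G0_ok (by decide : 0 < 24) ch2_o_0_lev ch2_o_card1 (m := 4) (by decide +kernel)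

theorem p_le183 : grp 24 ch2_o_E0 ≤ grp 24 ch2_o_G0 :=
  grp_le_of_memB p_hn p_hk ch2_o_G0_ok ch2_o_E0_ok (ws := [nat_lit 1, nat_lit 3, nat_lit 259, nat_lit 3333, nat_lit 4359, nat_lit 5, nat_lit 7, nat_lit 9, nat_lit 11, nat_lit 13, nat_lit 15, nat_lit 17]) (by decide +kernel)

theorem p_le184 : grp 24 ch2_o_G0 ≤ grp 24 ch2_o_E0 :=
  grp_le_of_memB p_hn p_hk ch2_o_E0_ok ch2_o_G0_ok (ws := [nat_lit 1, nat_lit 3, nat_lit 11, nat_lit 13, nat_lit 15, nat_lit 17, nat_lit 19, nat_lit 21, nat_lit 23]) (by decide +kernel)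

theorem ch2_o_0_eq : grp 24 ch2_o_E0 = grp 24 ch2_o_G0 :=
  le_antisymm p_le183 p_le184

theorem ch2_o_card0 : Nat.card (grp 24 ch2_o_E0) = 64 :=
  by rw [ch2_o_0_eq]; exact ch2_o_0_cardG

theorem ch2_o_stab0 : grp 24 ch2_o_E0 ⊓ MulAction.stabilizer (Equiv.Perm (Fin 24)) (⟨0, by decide⟩ : Fin 24) = grp 24 ch2_o_E1 :=
  by rw [ch2_o_0_eq]; exact ch2_o_0_lev

theorem ch2_o_leO0 : grp 24 ch2_o_E0 ≤ grp 24 ch2_Q :=
  ch2_o_0_eq.le.trans (grp_cons_le ((le_refl (grp 24 ch2_Q)) (p_le165 (toPerm_mem_grp (E := p_V164) (by simp [p_V164])))) (grp_cons_le ((le_refl (grp 24 ch2_Q)) (p_le165 (toPerm_mem_grp (E := p_V164) (by simp [p_V164])))) ch2_o_leO1))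

theorem p_le185 : grp 24 ch2_Q ≤ grp 24 ch2_o_E0 :=
  grp_le_of_memB p_hn p_hk ch2_o_E0_ok ch2_Q_ok (ws := [nat_lit 5, nat_lit 1, nat_lit 7, nat_lit 9, nat_lit 11, nat_lit 17]) (by decide +kernel)

theorem ch2_o_eq : grp 24 ch2_Q = grp 24 ch2_o_E0 :=
  le_antisymm p_le185 ch2_o_leO0

theorem ch2_o_card : Nat.card (grp 24 ch2_Q) = 64 :=
  by rw [ch2_o_eq]; exact ch2_o_card0

noncomputable def ch2_o_ch : Ch := (Ch.cons (nat_lit 0) [nat_lit 1, nat_lit 3, nat_lit 5, nat_lit 7, nat_lit 9] (Ch.cons (nat_lit 1) [nat_lit 11, nat_lit 13, nat_lit 15, nat_lit 17] (Ch.cons (nat_lit 2) [nat_lit 19, nat_lit 21, nat_lit 23] Ch.nil)))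

theorem ch2_o_exact : Ch.Exact 24 ch2_o_E0 ch2_o_ch (grp 24 ch2_o_E0) :=
  Ch.exact (k := 5) (L := (lab 24 5)) p_hn ch2_o_E0_ok (by decide +kernel) (wgrp_le_grp _ _ _) ch2_o_card0.le

theorem ch2_n : grp 24 nt_c2_K ≤ Subgroup.normalizer (grp 24 ch2_Q : Set (Equiv.Perm (Fin 24))) :=
  EvG.le_norm p_hn p_hk nt_c2_K_ok ch2_Q_ok ch2_o_E0_ok ch2_o_eq.ge (W := [[nat_lit 0x130b05, nat_lit 0x170f05, nat_lit 4875, nat_lit 5391, nat_lit 0x170d03, nat_lit 3329], [nat_lit 5893, nat_lit 1, nat_lit 5387, nat_lit 5389, nat_lit 5899, nat_lit 13], [nat_lit 5, nat_lit 1, nat_lit 4875, nat_lit 5901, nat_lit 11, nat_lit 4877], [nat_lit 0x130b03, nat_lit 2817, nat_lit 4879, nat_lit 4877, nat_lit 13, nat_lit 5899]]) (by decide +kernel)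

theorem ch2_x3 : Net.toPerm 24 p_g186 ∈ (grp 24 E) ⊓ Subgroup.centralizer {Net.toPerm 24 p_g47} :=
  nt_c2_eq.ge (mem_grp_of_memB p_hn p_hk nt_c2_K_ok p_g186_ok (w := (nat_lit 0x5080303070208)) (by decide +kernel))

theorem ch2_ord3 : orderOf (Net.toPerm 24 p_g186) = 3 :=
  orderOf_net p_hn p_hk p_g186_ok (by decide) (ps := [3]) (by set_option linter.unusedSimpArgs false in simp [Nat.primeFactorsList_ofNat]) (by decide +kernel)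

theorem ch2_x5 : Net.toPerm 24 p_g187 ∈ (grp 24 E) ⊓ Subgroup.centralizer {Net.toPerm 24 p_g47} :=
  nt_c2_eq.ge (mem_grp_of_memB p_hn p_hk nt_c2_K_ok p_g187_ok (w := (nat_lit 0x5080408)) (by decide +kernel))

theorem ch2_ord5 : orderOf (Net.toPerm 24 p_g187) = 5 :=
  orderOf_net p_hn p_hk p_g187_ok (by decide) (ps := [5]) (by set_option linter.unusedSimpArgs false in simp [Nat.primeFactorsList_ofNat]) (by decide +kernel)

theorem ch2 : IsOfCharacteristicTwo ↥((grp 24 E) ⊓ Subgroup.centralizer {Net.toPerm 24 p_g47}) :=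
  H44.Ki.charTwo_of_primes (ch2_le.trans nt_c2_eq.ge) (nt_c2_eq.le.trans ch2_n)
    (IsPGroup.of_card (n := 6) ch2_o_card) fun p hp hd => by
  rw [nt_c2_card] at hd ⊢
  have h := (Nat.mem_primeFactorsList (by norm_num)).2 ⟨hp, hd⟩
  simp [Nat.primeFactorsList_ofNat] at h
  rcases h with rfl | rfl | rfl
  · exact .inl rfl
  · exact .inr ⟨by norm_num, _, ch2_x3, ch2_ord3 ▸ pow_orderOf_eq_one _, _, (toPerm_mem_grp (E := ch2_Q) (List.Mem.head _)),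
      EvG.ncomm_net (k := 5) p_hn (by decide +kernel)⟩
  · exact .inr ⟨by norm_num, _, ch2_x5, ch2_ord5 ▸ pow_orderOf_eq_one _, _, (toPerm_mem_grp (E := ch2_Q) (List.Mem.head _)),
      EvG.ncomm_net (k := 5) p_hn (by decide +kernel)⟩

theorem noPair : H62.EV.NoPair (grp 24 E) :=
  amb.noPair reps fun t ht => by
  rcases ht with rfl | rfl
  · exact ch1
  · exact ch2

end Cfsg.Agent.H17.EvM24
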