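import Mathlib
import Cfsg.Agent.H43.Cent
import Cfsg.Agent.H43.HSM
import Cfsg.Agent.H44.Perm
import Cfsg.Agent.H17.HSG
import Cfsg.Agent.H17.HSM0
import Cfsg.Agent.H17.HSE

set_option autoImplicit false
set_option maxRecDepth 200000
set_option linter.style.longLine false

namespace Cfsg.Agent.H17.HSP

open Cfsg.Agent.H43

theorem p_hn : NOk 100 := by decide

theorem p_hk : 100 ≤ 2 ^ 7 := by decide

noncomputable def p_g1 : Net := (Net.cons (nat_lit 1) (nat_lit 0x5055404015111104401150450) (Net.cons (nat_lit 2) (nat_lit 0x1031212023321022231031100) (Net.cons (nat_lit 4) (nat_lit 0x70a0d080402010209010204) (Net.cons (nat_lit 8) (nat_lit 0x6200000080000300210000) (Net.cons (nat_lit 16) (nat_lit 0x46600000e85700000002) (Net.cons (nat_lit 32) (nat_lit 0x500000000658088d0) (Net.cons (nat_lit 64) (nat_lit 0xe7dd0bef1) (Net.cons (nat_lit 32) (nat_lit 0x300000000173e1265) (Net.cons (nat_lit 16) (nat_lit 0xe8c900004f3700006d58) (Net.cons (nat_lit 8) (nat_lit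 0x4f009500580087008300a2) (Net.cons (nat_lit 4) (nat_lit 0x709060b04020c0b0b04080e) (Net.cons (nat_lit 2) (nat_lit 0x2132021331121320002113221) (Net.cons (nat_lit 1) (nat_lit 0x555150505105055410050514) Net.nil)))))))))))))

theorem p_g1_ok : Net.ok 100 p_g1 = true := by decide +kernel

noncomputable def p_g2 : Net := (Net.cons (nat_lit 1) (nat_lit 0x4514501541015451410055150) (Net.cons (nat_lit 2) (nat_lit 0x2323110101122001113230220) (Net.cons (nat_lit 4) (nat_lit 0x70a0206050905090d030d01) (Net.cons (nat_lit 8) (nat_lit 0xb00330073009000c70002) (Net.cons (nat_lit 16) (nat_lit 0x61b00000a82d00000003) (Net.cons (nat_lit 32) (nat_lit 0x400000000daa023c0) (Net.cons (nat_lit 64) (nat_lit 0x2dfe0b3df) (Net.cons (nat_lit 32) (nat_lit 0x900000000270d24c2) (Net.cons (nat_lit 16) (nat_lit 0x57010000bf4b00009c74) (Net.cons (nat_lit 8) (nat_lit 0x9e002e0041009a0045007f) (Net.cons (nat_lit 4) (nat_lit 0x10f0c0a0f0b0601030303) (Net.cons (nat_lit 2) (nat_lit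 0x303103020103113213130031) (Net.cons (nat_lit 1) (nat_lit 0x101405514441144010405101) Net.nil)))))))))))))

theorem p_g2_ok : Net.ok 100 p_g2 = true := by decide +kernel

noncomputable def p_g3 : Net := (Net.cons (nat_lit 1) (nat_lit 0x511101041015105101051010) (Net.cons (nat_lit 2) (nat_lit 0x1022212133013010330100320) (Net.cons (nat_lit 4) (nat_lit 0xd020a0b0a0103030a0b0a04) (Net.cons (nat_lit 8) (nat_lit 0xb700bb00a7003200140003) (Net.cons (nat_lit 16) (nat_lit 0x8a50000001000000000b) (Net.cons (nat_lit 32) (nat_lit 0x80000000060829200) (Net.cons (nat_lit 64) (nat_lit 0x26ed3f29e) (Net.cons (nat_lit 32) (nat_lit 0x70000000082d619c5) (Net.cons (nat_lit 16) (nat_lit 0x1bf400007d5500005c3e) (Net.cons (nat_lit 8) (nat_lit 0xfe007d009700a80045007f) (Net.cons (nat_lit 4) (nat_lit 0xe0c0a09000704000d0b070a) (Net.cons (nat_lit 2) (nat_lit 0x3010232030222120120310021) (Net.cons (nat_lit 1) (nat_lit 0x4150101011544054054000145) Net.nil)))))))))))))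

theorem p_g3_ok : Net.ok 100 p_g3 = true := by decide +kernel

noncomputable def p_g4 : Net := (Net.cons (nat_lit 1) (nat_lit 0x50555005005150140444400) (Net.cons (nat_lit 2) (nat_lit 0x31200331203123332203010) (Net.cons (nat_lit 4) (nat_lit 0xa0c03080d0d080f04020e03) (Net.cons (nat_lit 8) (nat_lit 0x6500d7003000900011000a) (Net.cons (nat_lit 16) (nat_lit 0x30ee0000285600000000) (Net.cons (nat_lit 32) (nat_lit 0x40000000009c3d500) (Net.cons (nat_lit 64) (nat_lit 0x71fe3fd5a) (Net.cons (nat_lit 32) (nat_lit 0x900000000f85982a7) (Net.cons (nat_lit 16) (nat_lit 0xfe3d000004980000ffb4) (Net.cons (nat_lit 8) (nat_lit 0xbd00c900d000e2006c00df) (Net.cons (nat_lit 4) (nat_lit 0x20b02020e09090f020a030b) (Net.cons (nat_lit 2) (nat_lit 0x231120322310131103233221) (Net.cons (nat_lit 1) (nat_lit 0x5444011055404415050101001) Net.nil)))))))))))))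

theorem p_g4_ok : Net.ok 100 p_g4 = true := by decide +kernel

noncomputable def p_g5 : Net := (Net.cons (nat_lit 1) (nat_lit 0x1411404005100440410500) (Net.cons (nat_lit 2) (nat_lit 0x2020320103231220233311020) (Net.cons (nat_lit 4) (nat_lit 0x5000f040501010a080a0202) (Net.cons (nat_lit 8) (nat_lit 0x5b0085004c00a5008b0006) (Net.cons (nat_lit 16) (nat_lit 0xbcac00001b0800000009) (Net.cons (nat_lit 32) (nat_lit 0x40303b90) (Net.cons (nat_lit 64) (nat_lit 0xf57bbff96) (Net.cons (nat_lit 32) (nat_lit 0xd00000000d53183b7) (Net.cons (nat_lit 16) (nat_lit 0x6cb3000003e000004023) (Net.cons (nat_lit 8) (nat_lit 0xf800560094000f001e00be) (Net.cons (nat_lit 4) (nat_lit 0xd070f0d070c00090a0b020c) (Net.cons (nat_lit 2) (nat_lit 0x2200131001300203210302022) (Net.cons (nat_lit 1) (nat_lit 0x5004115410101040440014110) Net.nil)))))))))))))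

theorem p_g5_ok : Net.ok 100 p_g5 = true := by decide +kernel

noncomputable def p_g6 : Net := (Net.cons (nat_lit 1) (nat_lit 0x5050551515051410140001400) (Net.cons (nat_lit 2) (nat_lit 0x202211002101103002210000) (Net.cons (nat_lit 4) (nat_lit 0x10b000201090c090b010106) (Net.cons (nat_lit 8) (nat_lit 0xe200320080002300200006) (Net.cons (nat_lit 16) (nat_lit 0x89a20000305000000008) (Net.cons (nat_lit 32) (nat_lit 0x500000000421cf160) (Net.cons (nat_lit 64) (nat_lit 0x97b1cf3fc) (Net.cons (nat_lit 32) (nat_lit 0x700000000d24ee572) (Net.cons (nat_lit 16) (nat_lit 0x99b2000020c20000103a) (Net.cons (nat_lit 8) (nat_lit 0xe200b60081002300200047) (Net.cons (nat_lit 4) (nat_lit 0x50b000201090c0b0b010106) (Net.cons (nat_lit 2) (nat_lit 0x202211002101103002210000) (Net.cons (nat_lit 1) (nat_lit 0x5050551515051410140001400) Net.nil)))))))))))))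

theorem p_g6_ok : Net.ok 100 p_g6 = true := by decide +kernel

noncomputable def p_g7 : Net := (Net.cons (nat_lit 1) (nat_lit 0x4505100044545000010000040) (Net.cons (nat_lit 2) (nat_lit 0x100302311131113310020000) (Net.cons (nat_lit 4) (nat_lit 0x6080f080200050c08040000) (Net.cons (nat_lit 8) (nat_lit 0x11002e006d007800000000) (Net.cons (nat_lit 16) (nat_lit 0xa8040000141800000000) (Net.cons (nat_lit 32) (nat_lit 0x38240000) (Net.cons (nat_lit 64) (nat_lit 0x8ba6e0079) (Net.cons (nat_lit 32) (nat_lit 0x2000000007c353806) (Net.cons (nat_lit 16) (nat_lit 0xa94c0000d0980000044c) (Net.cons (nat_lit 8) (nat_lit 0x15002e006d007c008c0004) (Net.cons (nat_lit 4) (nat_lit 0xe08070802050708050c0000) (Net.cons (nat_lit 2) (nat_lit 0x1100302311131113310020000) (Net.cons (nat_lit 1) (nat_lit 0x4515100045545000010000040) Net.nil)))))))))))))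

theorem p_g7_ok : Net.ok 100 p_g7 = true := by decide +kernel

noncomputable def p_g8 : Net := (Net.cons (nat_lit 1) (nat_lit 0x550405051441554144545400) (Net.cons (nat_lit 2) (nat_lit 0x200103022100202001120020) (Net.cons (nat_lit 4) (nat_lit 0x603010a000c080d02070603) (Net.cons (nat_lit 8) (nat_lit 0xf5009a00810080000e0000) (Net.cons (nat_lit 16) (nat_lit 0x1204000004d40000000c) (Net.cons (nat_lit 32) (nat_lit 0x30000000001142440) (Net.cons (nat_lit 64) (nat_lit 0xc2fd5755b) (Net.cons (nat_lit 32) (nat_lit 0xb000000007145009d) (Net.cons (nat_lit 16) (nat_lit 0x4da90000acf300003513) (Net.cons (nat_lit 8) (nat_lit 0x95004100ca00a800bf00b1) (Net.cons (nat_lit 4) (nat_lit 0x1060e00000b0d05080f090c) (Net.cons (nat_lit 2) (nat_lit 0x3133230311233021332213313) (Net.cons (nat_lit 1) (nat_lit 0x550405051441554144545400) Net.nil)))))))))))))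

theorem p_g8_ok : Net.ok 100 p_g8 = true := by decide +kernel

noncomputable def p_O : List Net := [p_g1, p_g2, p_g3, p_g4, p_g5, p_g6, p_g7, p_g8]

theorem p_O_ok : okE 100 p_O = true := (okE_cons.2 ⟨p_g1_ok, (okE_cons.2 ⟨p_g2_ok, (okE_cons.2 ⟨p_g3_ok, (okE_cons.2 ⟨p_g4_ok, (okE_cons.2 ⟨p_g5_ok, (okE_cons.2 ⟨p_g6_ok, (okE_cons.2 ⟨p_g7_ok, (okE_cons.2 ⟨p_g8_ok, (okE_nil 100)⟩)⟩)⟩)⟩)⟩)⟩)⟩)⟩)

noncomputable def p_g10 : Net := (Net.cons (nat_lit 1) (nat_lit 0x4015451104115515410101114) (Net.cons (nat_lit 2) (nat_lit 0x310033223200222311201000) (Net.cons (nat_lit 4) (nat_lit 0x20b07020e0f080608040b04) (Net.cons (nat_lit 8) (nat_lit 0xa00560046001700110002) (Net.cons (nat_lit 16) (nat_lit 0xb58b00005c4c00000008) (Net.cons (nat_lit 32) (nat_lit 0x60000000032428580) (Net.cons (nat_lit 64) (nat_lit 0x836d2f7ee) (Net.cons (nat_lit 32) (nat_lit 0x700000000553529ca) (Net.cons (nat_lit 16) (nat_lit 0x450a00007d3200000b16) (Net.cons (nat_lit 8) (nat_lit 0xae000200710056004c0086)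 (Net.cons (nat_lit 4) (nat_lit 0x20a0205000b00000d080a0c) (Net.cons (nat_lit 2) (nat_lit 0x1331202022020312131303020) (Net.cons (nat_lit 1) (nat_lit 0x5011415544055100554054504) Net.nil)))))))))))))

theorem p_g10_ok : Net.ok 100 p_g10 = true := by decide +kernel

noncomputable def p_g11 : Net := (Net.cons (nat_lit 1) (nat_lit 0x4511440105155540450401104) (Net.cons (nat_lit 2) (nat_lit 0x133230001131122013123300) (Net.cons (nat_lit 4) (nat_lit 0xd010305030804090d0a08) (Net.cons (nat_lit 8) (nat_lit 0x8c008b00c800c200000001) (Net.cons (nat_lit 16) (nat_lit 0x49220000a83300000002) (Net.cons (nat_lit 32) (nat_lit 0x95990620) (Net.cons (nat_lit 64) (nat_lit 0x3ddbbb638) (Net.cons (nat_lit 32) (nat_lit 0xe000000008cd466a5) (Net.cons (nat_lit 16) (nat_lit 0x778e0000659b0000ac1a) (Net.cons (nat_lit 8) (nat_lit 0x200098005000a800d50033) (Net.cons (nat_lit 4) (nat_lit 0x60803010f0f000508010102) (Net.cons (nat_lit 2) (nat_lit 0x1012333321110323323120020)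 (Net.cons (nat_lit 1) (nat_lit 0x444051544405515410504414) Net.nil)))))))))))))

theorem p_g11_ok : Net.ok 100 p_g11 = true := by decide +kernel

noncomputable def p_V12 : List Net := [p_g10, p_g11]

theorem p_V12_ok : okE 100 p_V12 = true := (okE_cons.2 ⟨p_g10_ok, (okE_cons.2 ⟨p_g11_ok, (okE_nil 100)⟩)⟩)

noncomputable def p_g14 : Net := (Net.cons (nat_lit 1) (nat_lit 0x5450054544454501114551500) (Net.cons (nat_lit 2) (nat_lit 0x2320212020010230130101200) (Net.cons (nat_lit 4) (nat_lit 0xa0a0f00060f010a00050400) (Net.cons (nat_lit 8) (nat_lit 0x1400050084000b00240001) (Net.cons (nat_lit 16) (nat_lit 0x3ed10000011400000006) (Net.cons (nat_lit 32) (nat_lit 0x300000000f014d320) (Net.cons (nat_lit 64) (nat_lit 0xfdf4d32b) (Net.cons (nat_lit 32) (nat_lit 0xc00000000908ce127) (Net.cons (nat_lit 16) (nat_lit 0xcd250000ea470000fa0e) (Net.cons (nat_lit 8) (nat_lit 0xf10083002a002100d6008d) (Net.cons (nat_lit 4) (nat_lit 0xe080905000b03080e0a0d0c) (Net.cons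 (nat_lit 2) (nat_lit 0x1313020233233131122331100) (Net.cons (nat_lit 1) (nat_lit 0x5444400040155055445554044) Net.nil)))))))))))))

theorem p_g14_ok : Net.ok 100 p_g14 = true := by decide +kernel

noncomputable def p_g15 : Net := (Net.cons (nat_lit 1) (nat_lit 0x4451110411501415455050410) (Net.cons (nat_lit 2) (nat_lit 0x3312100101212300133220030) (Net.cons (nat_lit 4) (nat_lit 0x9050a09010a080a06050508) (Net.cons (nat_lit 8) (nat_lit 0x600c300c4004100920005) (Net.cons (nat_lit 16) (nat_lit 0x80440000432400000002) (Net.cons (nat_lit 32) (nat_lit 0x40000000072f80140) (Net.cons (nat_lit 64) (nat_lit 0xbf7fd3b66) (Net.cons (nat_lit 32) (nat_lit 0x50000000056447d33) (Net.cons (nat_lit 16) (nat_lit 0x61e9000038c500009a7e) (Net.cons (nat_lit 8) (nat_lit 0x5a00c00094004c003f008d) (Net.cons (nat_lit 4) (nat_lit 0x20c03050408060d0d070a04) (Net.cons (nat_lit 2) (nat_lit 0x1132220122200220231213300) (Net.cons (nat_lit 1) (nat_lit 0x1455150011454405445550500)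 Net.nil)))))))))))))

theorem p_g15_ok : Net.ok 100 p_g15 = true := by decide +kernel

noncomputable def p_V16 : List Net := [p_g14, p_g15]

theorem p_V16_ok : okE 100 p_V16 = true := (okE_cons.2 ⟨p_g14_ok, (okE_cons.2 ⟨p_g15_ok, (okE_nil 100)⟩)⟩)

noncomputable def p_g18 : Net := (Net.cons (nat_lit 1) (nat_lit 0x154044510000505101555450) (Net.cons (nat_lit 2) (nat_lit 0x1033031000030000133101100) (Net.cons (nat_lit 4) (nat_lit 0xa0807080c0c0d060a010100) (Net.cons (nat_lit 8) (nat_lit 0x48000f002a0045006e0006) (Net.cons (nat_lit 16) (nat_lit 0x3d8a000005ed0000000a) (Net.cons (nat_lit 32) (nat_lit 0x40000000010e4e510) (Net.cons (nat_lit 64) (nat_lit 0x67feef572) (Net.cons (nat_lit 32) (nat_lit 0xa00000000aa599502) (Net.cons (nat_lit 16) (nat_lit 0xa8a60000d99400008934) (Net.cons (nat_lit 8) (nat_lit 0xfb00f1005c001c00a70066) (Net.cons (nat_lit 4) (nat_lit 0x30e09070d0100030a0a0900) (Net.cons (nat_lit 2) (nat_lit 0x1131233103321302311000320) (Net.cons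 (nat_lit 1) (nat_lit 0x404440500140114045450110) Net.nil)))))))))))))

theorem p_g18_ok : Net.ok 100 p_g18 = true := by decide +kernel

noncomputable def p_g19 : Net := (Net.cons (nat_lit 1) (nat_lit 0x1540550510451055545040410) (Net.cons (nat_lit 2) (nat_lit 0x2322231032003220021311000) (Net.cons (nat_lit 4) (nat_lit 0x506000a0b0c080b0600090b) (Net.cons (nat_lit 8) (nat_lit 0x2f0000003100cb00100006) (Net.cons (nat_lit 16) (nat_lit 0x59b600008c8c00000008) (Net.cons (nat_lit 32) (nat_lit 0xb000000000068ed20) (Net.cons (nat_lit 64) (nat_lit 0x695ffff69) (Net.cons (nat_lit 32) (nat_lit 0x100000000300587ad) (Net.cons (nat_lit 16) (nat_lit 0x25f0000d8460000baca) (Net.cons (nat_lit 8) (nat_lit 0x1100e600470009000b00c7) (Net.cons (nat_lit 4) (nat_lit 0xd070505090c0c0a04030003) (Net.cons (nat_lit 2) (nat_lit 0x3023032112112120301131120) (Net.cons (nat_lit 1) (nat_lit 0x5500154014450014545155510) Net.nil)))))))))))))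

theorem p_g19_ok : Net.ok 100 p_g19 = true := by decide +kernel

noncomputable def p_V20 : List Net := [p_g18, p_g19]

theorem p_V20_ok : okE 100 p_V20 = true := (okE_cons.2 ⟨p_g18_ok, (okE_cons.2 ⟨p_g19_ok, (okE_nil 100)⟩)⟩)

noncomputable def p_g22 : Net := (Net.cons (nat_lit 1) (nat_lit 0x4004501004514111410010100) (Net.cons (nat_lit 2) (nat_lit 0x2223212010013231332210100) (Net.cons (nat_lit 4) (nat_lit 0x20c0a0107080b030b030400) (Net.cons (nat_lit 8) (nat_lit 0x5f00bb002300ad00020006) (Net.cons (nat_lit 16) (nat_lit 0x52420000cc200000000e) (Net.cons (nat_lit 32) (nat_lit 0x30000000046840090) (Net.cons (nat_lit 64) (nat_lit 0xddf9431de) (Net.cons (nat_lit 32) (nat_lit 0x1000000005b52e03c) (Net.cons (nat_lit 16) (nat_lit 0x604d000084640000298c) (Net.cons (nat_lit 8) (nat_lit 0x78001a007f00a2009c00d6) (Net.cons (nat_lit 4) (nat_lit 0x9090f0e000103030a060900) (Net.cons (nat_lit 2) (nat_lit 0x313101021202333012213010) (Net.cons (nat_lit 1) (nat_lit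 0x4415151111014011050555440) Net.nil)))))))))))))

theorem p_g22_ok : Net.ok 100 p_g22 = true := by decide +kernel

noncomputable def p_g23 : Net := (Net.cons (nat_lit 1) (nat_lit 0x5140405051545000141450500) (Net.cons (nat_lit 2) (nat_lit 0x213023322103330130102000) (Net.cons (nat_lit 4) (nat_lit 0x1010f0004040a050f020008) (Net.cons (nat_lit 8) (nat_lit 0xc600970002009700920001) (Net.cons (nat_lit 16) (nat_lit 0xa61d00003ad60000000a) (Net.cons (nat_lit 32) (nat_lit 0xa00000000dc198780) (Net.cons (nat_lit 64) (nat_lit 0x7fd998fa9) (Net.cons (nat_lit 32) (nat_lit 0xd0000000047dcab93) (Net.cons (nat_lit 16) (nat_lit 0x4d30000f9840000b01a) (Net.cons (nat_lit 8) (nat_lit 0xff009f00b900ff00bc0019) (Net.cons (nat_lit 4) (nat_lit 0x80b0605090e050006020508) (Net.cons (nat_lit 2) (nat_lit 0x1310332312003213202302010) (Net.cons (nat_lit 1) (nat_lit 0x55551001110514104441400) Net.nil)))))))))))))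

theorem p_g23_ok : Net.ok 100 p_g23 = true := by decide +kernel

noncomputable def p_g24 : Net := (Net.cons (nat_lit 1) (nat_lit 0x1014014400514401050015400) (Net.cons (nat_lit 2) (nat_lit 0x2101013021232333310210100) (Net.cons (nat_lit 4) (nat_lit 0x2050c0900060b04020900) (Net.cons (nat_lit 8) (nat_lit 0xdc0068009600f800000001) (Net.cons (nat_lit 16) (nat_lit 0xc4e0000081400000002) (Net.cons (nat_lit 32) (nat_lit 0xd0000000008020620) (Net.cons (nat_lit 64) (nat_lit 0xca8222e71) (Net.cons (nat_lit 32) (nat_lit 0xf000000001cff5602) (Net.cons (nat_lit 16) (nat_lit 0x5d6f00008d3000000222) (Net.cons (nat_lit 8) (nat_lit 0xd8006c009200fc00040081) (Net.cons (nat_lit 4) (nat_lit 0x20d0c09040a0b04060900) (Net.cons (nat_lit 2) (nat_lit 0x2101013021232333310210100) (Net.cons (nat_lit 1) (nat_lit 0x1054014400515511054055400) Net.nil)))))))))))))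

theorem p_g24_ok : Net.ok 100 p_g24 = true := by decide +kernel

noncomputable def p_V25 : List Net := [p_g22, p_g23, p_g24]

theorem p_V25_ok : okE 100 p_V25 = true := (okE_cons.2 ⟨p_g22_ok, (okE_cons.2 ⟨p_g23_ok, (okE_cons.2 ⟨p_g24_ok, (okE_nil 100)⟩)⟩)⟩)

noncomputable def p_g27 : Net := (Net.cons (nat_lit 1) (nat_lit 0x5010541014140050001400400) (Net.cons (nat_lit 2) (nat_lit 0x121001232121020322021200) (Net.cons (nat_lit 4) (nat_lit 0xd0e00080d0b060d0e050e00) (Net.cons (nat_lit 8) (nat_lit 0x810089000b007200830007) (Net.cons (nat_lit 16) (nat_lit 0x2ba30000388500000007) (Net.cons (nat_lit 32) (nat_lit 0xa92f010) (Net.cons (nat_lit 64) (nat_lit 0x20f9ef031) (Net.cons (nat_lit 32) (nat_lit 0xf00000000fbb1f894) (Net.cons (nat_lit 16) (nat_lit 0xf0be0000f5a30000c080) (Net.cons (nat_lit 8) (nat_lit 0xb8002a007d003700730067) (Net.cons (nat_lit 4) (nat_lit 0xd020a070e040c0a0b0d0c00) (Net.cons (nat_lit 2) (nat_lit 0x3233212102312013223221300) (Net.cons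 (nat_lit 1) (nat_lit 0x551501514115415545400140) Net.nil)))))))))))))

theorem p_g27_ok : Net.ok 100 p_g27 = true := by decide +kernel

noncomputable def p_g28 : Net := (Net.cons (nat_lit 1) (nat_lit 0x5100410140440444101440000) (Net.cons (nat_lit 2) (nat_lit 0x1332221000010330330300100) (Net.cons (nat_lit 4) (nat_lit 0xe0f06010709020005000200) (Net.cons (nat_lit 8) (nat_lit 0x1d0040004000fe003b0000) (Net.cons (nat_lit 16) (nat_lit 0x3b090000922000000000) (Net.cons (nat_lit 32) (nat_lit 0x2384c180) (Net.cons (nat_lit 64) (nat_lit 0x6bc4f9c0) (Net.cons (nat_lit 32) (nat_lit 0xf000000006fa35680) (Net.cons (nat_lit 16) (nat_lit 0x32390000975a00000c90) (Net.cons (nat_lit 8) (nat_lit 0x5f0040004000fe007b0000) (Net.cons (nat_lit 4) (nat_lit 0xa0e0e01040f000007060b00) (Net.cons (nat_lit 2) (nat_lit 0x1332223002210332330302100) (Net.cons (nat_lit 1) (nat_lit 0x5100410140440444101440000) Net.nil)))))))))))))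

theorem p_g28_ok : Net.ok 100 p_g28 = true := by decide +kernel

noncomputable def p_g29 : Net := (Net.cons (nat_lit 1) (nat_lit 0x5504540114115541454114040) (Net.cons (nat_lit 2) (nat_lit 0x3333230132021300001020000) (Net.cons (nat_lit 4) (nat_lit 0x90005050c0208090b0a0000) (Net.cons (nat_lit 8) (nat_lit 0x5d007000530022000c000c) (Net.cons (nat_lit 16) (nat_lit 0xdcc10000d4e800000006) (Net.cons (nat_lit 32) (nat_lit 0xa0000000033400f10) (Net.cons (nat_lit 64) (nat_lit 0xab74c7fb4) (Net.cons (nat_lit 32) (nat_lit 0x500000000b15d4dee) (Net.cons (nat_lit 16) (nat_lit 0x497900000bda0000e292) (Net.cons (nat_lit 8) (nat_lit 0xda005a0011005b001600bc) (Net.cons (nat_lit 4) (nat_lit 0x3060007070b080a0b090400) (Net.cons (nat_lit 2) (nat_lit 0x2122101213102213120000030) (Net.cons (nat_lit 1) (nat_lit 0x1110541515550150550105450) Net.nil)))))))))))))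

theorem p_g29_ok : Net.ok 100 p_g29 = true := by decide +kernel

noncomputable def p_V30 : List Net := [p_g27, p_g28, p_g29]

theorem p_V30_ok : okE 100 p_V30 = true := (okE_cons.2 ⟨p_g27_ok, (okE_cons.2 ⟨p_g28_ok, (okE_cons.2 ⟨p_g29_ok, (okE_nil 100)⟩)⟩)⟩)

noncomputable def p_g32 : Net := (Net.cons (nat_lit 1) (nat_lit 0x4101445400145004055500000) (Net.cons (nat_lit 2) (nat_lit 0x2302211133011233002030000) (Net.cons (nat_lit 4) (nat_lit 0x50c010e0308000c040400) (Net.cons (nat_lit 8) (nat_lit 0xc300a8009c001400a50003) (Net.cons (nat_lit 16) (nat_lit 0x50090000691000000004) (Net.cons (nat_lit 32) (nat_lit 0xa0000000054450980) (Net.cons (nat_lit 64) (nat_lit 0xc554509e6) (Net.cons (nat_lit 32) (nat_lit 0xf000000005ced7d94) (Net.cons (nat_lit 16) (nat_lit 0xd20d0000e91400008005) (Net.cons (nat_lit 8) (nat_lit 0xf300a8009e003600e50003) (Net.cons (nat_lit 4) (nat_lit 0x8050c010e030b020c060400) (Net.cons (nat_lit 2) (nat_lit 0x2302211133011233002030000)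 (Net.cons (nat_lit 1) (nat_lit 0x4101445400145004055500000) Net.nil)))))))))))))

theorem p_g32_ok : Net.ok 100 p_g32 = true := by decide +kernel

noncomputable def p_g33 : Net := (Net.cons (nat_lit 1) (nat_lit 0x544015014500501005441000) (Net.cons (nat_lit 2) (nat_lit 0x2202101303023002123210100) (Net.cons (nat_lit 4) (nat_lit 0xe00040c020b030802020409) (Net.cons (nat_lit 8) (nat_lit 0x9f0010000800f5000e0001) (Net.cons (nat_lit 16) (nat_lit 0xaae40000028000000002) (Net.cons (nat_lit 32) (nat_lit 0x200000000cd104290) (Net.cons (nat_lit 64) (nat_lit 0xcefdd4bba) (Net.cons (nat_lit 32) (nat_lit 0xb00000000ce21e198) (Net.cons (nat_lit 16) (nat_lit 0xb9e60000118000000702) (Net.cons (nat_lit 8) (nat_lit 0xdb0010000800f5000e0041) (Net.cons (nat_lit 4) (nat_lit 0xb04040c060a0b0802030509) (Net.cons (nat_lit 2) (nat_lit 0x2202101303223002123210100) (Net.cons (nat_lit 1) (nat_lit 0x544015014500501005441000) Net.nil)))))))))))))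

theorem p_g33_ok : Net.ok 100 p_g33 = true := by decide +kernel

noncomputable def p_g34 : Net := (Net.cons (nat_lit 1) (nat_lit 0x4511000005501000054040400) (Net.cons (nat_lit 2) (nat_lit 0x323211101000321003220200) (Net.cons (nat_lit 4) (nat_lit 0x50d010c02000600000900) (Net.cons (nat_lit 8) (nat_lit 0x5700b100ca000800080000) (Net.cons (nat_lit 16) (nat_lit 0x20c20000234500000000) (Net.cons (nat_lit 32) (nat_lit 0x1002290) (Net.cons (nat_lit 64) (nat_lit 0x5c304a7f0) (Net.cons (nat_lit 32) (nat_lit 0xa0000000025586290) (Net.cons (nat_lit 16) (nat_lit 0xb8c80000bf250000c8c0) (Net.cons (nat_lit 8) (nat_lit 0x1f00f900ca004a000d0050) (Net.cons (nat_lit 4) (nat_lit 0x4050d010802040604040b00) (Net.cons (nat_lit 2) (nat_lit 0x3303211121201321003220200) (Net.cons (nat_lit 1) (nat_lit 0x4511000005501000054040400) Net.nil)))))))))))))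

theorem p_g34_ok : Net.ok 100 p_g34 = true := by decide +kernel

noncomputable def p_g35 : Net := (Net.cons (nat_lit 1) (nat_lit 0x514401411554554104001100) (Net.cons (nat_lit 2) (nat_lit 0x3123231113011032111021000) (Net.cons (nat_lit 4) (nat_lit 0xb0e080305010104070b0108) (Net.cons (nat_lit 8) (nat_lit 0xe000a000d1008100640000) (Net.cons (nat_lit 16) (nat_lit 0x2cb0000a68d00000004) (Net.cons (nat_lit 32) (nat_lit 0x225584b0) (Net.cons (nat_lit 64) (nat_lit 0x9227fa6b8) (Net.cons (nat_lit 32) (nat_lit 0xc0000000067d525bc) (Net.cons (nat_lit 16) (nat_lit 0xc34b0000b68d00000844) (Net.cons (nat_lit 8) (nat_lit 0xe90020005100c100740010) (Net.cons (nat_lit 4) (nat_lit 0x30608090509010c070b0508) (Net.cons (nat_lit 2) (nat_lit 0x3123231331211032111223000) (Net.cons (nat_lit 1) (nat_lit 0x114505411554554104001100) Net.nil)))))))))))))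

theorem p_g35_ok : Net.ok 100 p_g35 = true := by decide +kernel

noncomputable def p_V36 : List Net := [p_g32, p_g33, p_g34, p_g35]

theorem p_V36_ok : okE 100 p_V36 = true := (okE_cons.2 ⟨p_g32_ok, (okE_cons.2 ⟨p_g33_ok, (okE_cons.2 ⟨p_g34_ok, (okE_cons.2 ⟨p_g35_ok, (okE_nil 100)⟩)⟩)⟩)⟩)

noncomputable def p_g38 : Net := (Net.cons (nat_lit 1) (nat_lit 0x544414005540004114040000) (Net.cons (nat_lit 2) (nat_lit 0x1112022300002321000110000) (Net.cons (nat_lit 4) (nat_lit 0x304080406080d0000030408) (Net.cons (nat_lit 8) (nat_lit 0xde00710083005400000001) (Net.cons (nat_lit 16) (nat_lit 0xc099000081880000000a) (Net.cons (nat_lit 32) (nat_lit 0x700000000c20342a0) (Net.cons (nat_lit 64) (nat_lit 0x4cbcbcab3) (Net.cons (nat_lit 32) (nat_lit 0xf000000006b32b6e8) (Net.cons (nat_lit 16) (nat_lit 0x1f98000062890000aa0a) (Net.cons (nat_lit 8) (nat_lit 0xdf00700082005500050001) (Net.cons (nat_lit 4) (nat_lit 0x304080406080d0800030408) (Net.cons (nat_lit 2)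 (nat_lit 0x1312022303002321000110000) (Net.cons (nat_lit 1) (nat_lit 0x544014005140004114040400) Net.nil)))))))))))))

theorem p_g38_ok : Net.ok 100 p_g38 = true := by decide +kernel

noncomputable def p_V39 : List Net := [p_g38, p_g28]

theorem p_V39_ok : okE 100 p_V39 = true := (okE_cons.2 ⟨p_g38_ok, (okE_cons.2 ⟨p_g28_ok, (okE_nil 100)⟩)⟩)

noncomputable def p_V41 : List Net := [p_g28, p_g28]

theorem p_V41_ok : okE 100 p_V41 = true := (okE_cons.2 ⟨p_g28_ok, (okE_cons.2 ⟨p_g28_ok, (okE_nil 100)⟩)⟩)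

noncomputable def p_lb_E : List Net := [p_g1, p_g2, p_g3, p_g4, p_g5, p_g6, p_g7, p_g8, p_g10, p_g11, p_g14, p_g15, p_g18, p_g19, p_g22, p_g23, p_g24, p_g27, p_g28, p_g29, p_g32, p_g33, p_g34, p_g35, p_g38, p_g28, p_g28, p_g28]

theorem p_lb_E_ok : okE 100 p_lb_E = true := (okE_cons.2 ⟨p_g1_ok, (okE_cons.2 ⟨p_g2_ok, (okE_cons.2 ⟨p_g3_ok, (okE_cons.2 ⟨p_g4_ok, (okE_cons.2 ⟨p_g5_ok, (okE_cons.2 ⟨p_g6_ok, (okE_cons.2 ⟨p_g7_ok, (okE_cons.2 ⟨p_g8_ok, (okE_cons.2 ⟨p_g10_ok, (okE_cons.2 ⟨p_g11_ok, (okE_cons.2 ⟨p_g14_ok, (okE_cons.2 ⟨p_g15_ok, (okE_cons.2 ⟨p_g18_ok, (okE_cons.2 ⟨p_g19_ok, (okE_cons.2 ⟨p_g22_ok, (okE_cons.2 ⟨p_g23_ok, (okE_cons.2 ⟨p_g24_ok, (okE_cons.2 ⟨p_g27_ok, (okE_cons.2 ⟨p_g28_ok, (okE_cons.2 ⟨p_g29_ok, (okE_cons.2 ⟨p_g32_ok, (okE_cons.2 ⟨p_g33_ok, (okE_cons.2 ⟨p_g34_ok, (okE_cons.2 ⟨p_g35_ok, (okE_cons.2 ⟨p_g38_ok, (okE_cons.2 ⟨p_g28_ok, (okE_cons.2 ⟨p_g28_ok, (okE_cons.2 ⟨p_g28_ok, (okE_nil 100)⟩)⟩)⟩)⟩)⟩)⟩)⟩)⟩)⟩)⟩)⟩)⟩)⟩)⟩)⟩)⟩)⟩)⟩)⟩)⟩)⟩)⟩)⟩)⟩)⟩)⟩)⟩)⟩)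

theorem p_le9 : grp 100 p_O ≤ grp 100 HSM.lb_E :=
  grp_le_of_memB p_hn p_hk HSM.lb_E_ok p_O_ok (ws := [nat_lit 0x140d110b0a05050906020e03, nat_lit 0xe0f09130b050512011101, nat_lit 0x140d0f120a0a060705031302, nat_lit 0x120e0a0c0c060e0108, nat_lit 0x130e11110c11060907020a, nat_lit 0xd10090914061401040e, nat_lit 0x130e0f140c1305050c010108, nat_lit 0xf09110707020601]) (by decide +kernel)

theorem p_le : grp 100 p_O ≤ grp 100 HSM.E :=
  (p_le9).trans HSM.lb_le

theorem p_le13 : grp 100 p_V12 ≤ grp 100 p_O :=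
  grp_le_of_memB p_hn p_hk p_O_ok p_V12_ok (ws := [nat_lit 0xd0c01100c0f0c0f070202, nat_lit 0x6100c0607100706]) (by decide +kernel)

theorem p_le17 : grp 100 p_V16 ≤ grp 100 p_V12 :=
  grp_le_of_memB p_hn p_hk p_V12_ok p_V16_ok (ws := [nat_lit 0x404040101040101, nat_lit 0x40204020401030103]) (by decide +kernel)

theorem p_le21 : grp 100 p_V20 ≤ grp 100 p_V16 :=
  grp_le_of_memB p_hn p_hk p_V16_ok p_V20_ok (ws := [nat_lit 0x1040401040402040101, nat_lit 0x4020402040101010402]) (by decide +kernel)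

theorem p_le26 : grp 100 p_V25 ≤ grp 100 p_V20 :=
  grp_le_of_memB p_hn p_hk p_V20_ok p_V25_ok (ws := [nat_lit 0x104020301010401, nat_lit 1026, nat_lit 0x40202040204]) (by decide +kernel)

theorem p_le31 : grp 100 p_V30 ≤ grp 100 p_V25 :=
  grp_le_of_memB p_hn p_hk p_V25_ok p_V30_ok (ws := [nat_lit 0x503010604, nat_lit 0x40203060104, nat_lit 0x205030306020604]) (by decide +kernel)

theorem p_le37 : grp 100 p_V36 ≤ grp 100 p_V30 :=
  grp_le_of_memB p_hn p_hk p_V30_ok p_V36_ok (ws := [nat_lit 0x6060401050302040104, nat_lit 0x50306040106, nat_lit 0x204020406020504, nat_lit 0x405030603020602]) (by decide +kernel)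

theorem p_le40 : grp 100 p_V39 ≤ grp 100 p_V36 :=
  grp_le_of_memB p_hn p_hk p_V36_ok p_V39_ok (ws := [nat_lit 0x805070702, nat_lit 0x40407050702]) (by decide +kernel)

theorem p_le42 : grp 100 p_V41 ≤ grp 100 p_V39 :=
  grp_le_of_memB p_hn p_hk p_V39_ok p_V41_ok (ws := [nat_lit 66562, nat_lit 3]) (by decide +kernel)

theorem p_lb_le : grp 100 p_lb_E ≤ grp 100 p_O :=
  (grp_cons_le ((le_refl (grp 100 p_O)) (toPerm_mem_grp (E := p_O) (by simp [p_O]))) (grp_cons_le ((le_refl (grp 100 p_O)) (toPerm_mem_grp (E := p_O) (by simp [p_O]))) (grp_cons_le ((le_refl (grp 100 p_O)) (toPerm_mem_grp (E := p_O) (by simp [p_O]))) (grp_cons_le ((le_refl (grp 100 p_O)) (toPerm_mem_grp (E := p_O) (by simp [p_O]))) (grp_cons_le ((le_refl (grp 100 p_O)) (toPerm_mem_grp (E := p_O) (by simp [p_O]))) (grp_cons_le ((le_refl (grp 100 p_O)) (toPerm_mem_grp (E := p_O) (by simp [p_O]))) (grp_cons_le ((le_refl (grp 100 p_O)) (toPerm_mem_grp (E := p_O) (by simp [p_O]))) (grp_cons_le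 ((le_refl (grp 100 p_O)) (toPerm_mem_grp (E := p_O) (by simp [p_O]))) (grp_cons_le ((p_le13.trans (le_refl (grp 100 p_O))) (toPerm_mem_grp (E := p_V12) (by simp [p_V12]))) (grp_cons_le ((p_le13.trans (le_refl (grp 100 p_O))) (toPerm_mem_grp (E := p_V12) (by simp [p_V12]))) (grp_cons_le ((p_le17.trans (p_le13.trans (le_refl (grp 100 p_O)))) (toPerm_mem_grp (E := p_V16) (by simp [p_V16]))) (grp_cons_le ((p_le17.trans (p_le13.trans (le_refl (grp 100 p_O)))) (toPerm_mem_grp (E := p_V16) (by simp [p_V16]))) (grp_cons_le ((p_le21.trans (p_le17.trans (p_le13.trans (le_refl (grp 100 p_O))))) (toPerm_mem_grp (E := p_V20) (by simp [p_V20]))) (grp_cons_le ((p_le21.trans (p_le17.trans (p_le13.trans (le_refl (grp 100 p_O))))) (toPerm_mem_grp (E := p_V20) (by simp [p_V20]))) (grp_cons_le ((p_le26.trans (p_le21.trans (p_le17.trans (p_le13.trans (le_refl (grp 100 p_O)))))) (toPerm_mem_grp (E := p_V25) (by simp [p_V25]))) (grp_cons_le ((p_le26.trans (p_le21.trans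 (p_le17.trans (p_le13.trans (le_refl (grp 100 p_O)))))) (toPerm_mem_grp (E := p_V25) (by simp [p_V25]))) (grp_cons_le ((p_le26.trans (p_le21.trans (p_le17.trans (p_le13.trans (le_refl (grp 100 p_O)))))) (toPerm_mem_grp (E := p_V25) (by simp [p_V25]))) (grp_cons_le ((p_le31.trans (p_le26.trans (p_le21.trans (p_le17.trans (p_le13.trans (le_refl (grp 100 p_O))))))) (toPerm_mem_grp (E := p_V30) (by simp [p_V30]))) (grp_cons_le ((p_le31.trans (p_le26.trans (p_le21.trans (p_le17.trans (p_le13.trans (le_refl (grp 100 p_O))))))) (toPerm_mem_grp (E := p_V30) (by simp [p_V30]))) (grp_cons_le ((p_le31.trans (p_le26.trans (p_le21.trans (p_le17.trans (p_le13.trans (le_refl (grp 100 p_O))))))) (toPerm_mem_grp (E := p_V30) (by simp [p_V30]))) (grp_cons_le ((p_le37.trans (p_le31.trans (p_le26.trans (p_le21.trans (p_le17.trans (p_le13.trans (le_refl (grp 100 p_O)))))))) (toPerm_mem_grp (E := p_V36) (by simp [p_V36]))) (grp_cons_le ((p_le37.trans (p_le31.trans (p_le26.trans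 (p_le21.trans (p_le17.trans (p_le13.trans (le_refl (grp 100 p_O)))))))) (toPerm_mem_grp (E := p_V36) (by simp [p_V36]))) (grp_cons_le ((p_le37.trans (p_le31.trans (p_le26.trans (p_le21.trans (p_le17.trans (p_le13.trans (le_refl (grp 100 p_O)))))))) (toPerm_mem_grp (E := p_V36) (by simp [p_V36]))) (grp_cons_le ((p_le37.trans (p_le31.trans (p_le26.trans (p_le21.trans (p_le17.trans (p_le13.trans (le_refl (grp 100 p_O)))))))) (toPerm_mem_grp (E := p_V36) (by simp [p_V36]))) (grp_cons_le ((p_le40.trans (p_le37.trans (p_le31.trans (p_le26.trans (p_le21.trans (p_le17.trans (p_le13.trans (le_refl (grp 100 p_O))))))))) (toPerm_mem_grp (E := p_V39) (by simp [p_V39]))) (grp_cons_le ((p_le40.trans (p_le37.trans (p_le31.trans (p_le26.trans (p_le21.trans (p_le17.trans (p_le13.trans (le_refl (grp 100 p_O))))))))) (toPerm_mem_grp (E := p_V39) (by simp [p_V39]))) (grp_cons_le ((p_le42.trans (p_le40.trans (p_le37.trans (p_le31.trans (p_le26.trans (p_le21.trans (p_le17.trans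 (p_le13.trans (le_refl (grp 100 p_O)))))))))) (toPerm_mem_grp (E := p_V41) (by simp [p_V41]))) (grp_cons_le ((p_le42.trans (p_le40.trans (p_le37.trans (p_le31.trans (p_le26.trans (p_le21.trans (p_le17.trans (p_le13.trans (le_refl (grp 100 p_O)))))))))) (toPerm_mem_grp (E := p_V41) (by simp [p_V41]))) (grp_nil_le _)))))))))))))))))))))))))))))

noncomputable def p_lb_ch : Ch := (Ch.cons (nat_lit 0) [nat_lit 1, nat_lit 3, nat_lit 5, nat_lit 7, nat_lit 9, nat_lit 11, nat_lit 13, nat_lit 15] (Ch.cons (nat_lit 1) [nat_lit 17, nat_lit 19] (Ch.cons (nat_lit 2) [nat_lit 21, nat_lit 23] (Ch.cons (nat_lit 3) [nat_lit 25, nat_lit 27] (Ch.cons (nat_lit 29) [nat_lit 29, nat_lit 31, nat_lit 33] (Ch.cons (nat_lit 32) [nat_lit 35, nat_lit 37, nat_lit 39] (Ch.cons (nat_lit 5) [nat_lit 41, nat_lit 43, nat_lit 45, nat_lit 47] (Ch.cons (nat_lit 14) [nat_lit 49, nat_lit 51] (Ch.cons (nat_lit 4) [nat_lit 53, nat_lit 55] Ch.nil)))))))))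

theorem p_lb_chk : Ch.chk 100 7 (lab 100 7) p_lb_E p_lb_ch 44352000 = true :=
  by decide +kernel

theorem p_lb_ge : 44352000 ≤ Nat.card (grp 100 p_O) :=
  (Ch.le_card_grp p_hn p_lb_E_ok p_lb_chk).trans (Subgroup.card_le_of_le p_lb_le)

open Cfsg.Agent.H44 Cfsg.Agent.H70 Cfsg.Agent.H17.HSE

theorem p_eq : grp 100 p_O = Γ :=
  Subgroup.eq_of_le_of_card_ge p_le (HSM.card_grp.le.trans p_lb_ge)

/-- The codes of the thirteen letters. -/
def code : List ℕ := [0, 0, 1, 2, 3, 4, 5, 6, 7, 8, 9, 10, 12, 14]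

theorem model : ∃ γ : ℕ → Γ, gen γ 13 = ⊤ ∧ Sat γ GG.R := by
  have hs : Sat (gp 100 p_O code) GG.R :=
    sat_of_satB p_hn (det_lab p_hk _) p_O_ok le_rfl (by decide +kernel)
  refine ⟨fun x => ⟨gp 100 p_O code x, p_le (gp_mem _ _ _ _)⟩,
    Subgroup.map_injective Γ.subtype_injective ?_, fun r hr => Γ.subtype_injective ?_⟩
  · rw [map_gen, ← MonoidHom.range_eq_map, Subgroup.range_subtype]
    exact (gen_gp (by decide)).trans p_eq
  · rw [map_ev, map_one]; exact hs r hr

theorem bound {G : Type*} [Group G] {g : ℕ → G} (hg : Sat g GG.R) :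
    Finite (gen g 13) ∧ Nat.card (gen g 13) ≤ 4125 * (10752 * 1) :=
  (GG.idxLe hg (H := gen g 11) fun s hs => ev_mem fun x hx =>
    have := (by decide : ∀ s ∈ GG.S, ∀ x ∈ s, 1 ≤ x ∧ x ≤ 11) s hs x hx
    mem_gen g this.1 this.2).card_le (gen_le.2 fun x h1 h2 => mem_gen g h1 (by omega))
    ((TM0.idxLe (hg.mono (by decide)) (H := ⊥) (by simp [TM0.S])).card_le bot_le finite_card_bot)

theorem exists_hom {G : Type*} [Group G] {g : ℕ → G} (hg : Sat g GG.R) (h1 : g 1 ≠ 1) :
    ∃ φ : Γ →* G, Function.Injective φ ∧ φ.range = gen g 13 := by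
  obtain ⟨γ, h, hγ⟩ := model
  obtain ⟨φ, e, r⟩ := exists_hom_of_pair h (g := g)
    (by rw [HSM.card_grp]; exact bound (Sat.pair hg hγ))
  have := H48.simple_HS
  have : IsSimpleGroup Γ := HSM.equiv.symm.isSimpleGroup
  refine ⟨φ, ?_, r⟩
  rw [← MonoidHom.ker_eq_bot_iff]
  refine (φ.normal_ker.eq_bot_or_eq_top).resolve_right fun c => h1 ?_
  rw [← e 1 le_rfl (by norm_num), ← MonoidHom.mem_ker, c]
  trivial

/-- The last step: a finite group with generators as in the presentation is the Higman–Sims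
group. -/
theorem isoHS {G : Type*} [Group G] [Finite G] {g : ℕ → G} (hg : Sat g GG.R) {z : G}
    (hz : orderOf z = 2) (h1 : g 1 ≠ 1) (hC : Subgroup.centralizer {z} ≤ gen g 13)
    (hc : Nat.card (Subgroup.centralizer ({z} : Set G)) = 7680)
    (hprod : ∀ x : G, x * x = 1 → x ≠ 1 → x ≠ z → x * z = z * x → ∃ k : G, k * x * k⁻¹ = x * z) :
    Cfsg.Spor.IsoHS G := by
  obtain ⟨φ, hi, hr⟩ := exists_hom hg h1
  have := range_eq_top φ hi hz (hr ▸ hC) hc hprod
  exact ⟨(MulEquiv.ofBijective φ ⟨hi, MonoidHom.range_eq_top.1 this⟩).symm.trans HSM.equiv.symm⟩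

end Cfsg.Agent.H17.HSP
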