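import Mathlib
import Cfsg.Agent.H43.Cent
import Cfsg.Agent.H43.HSM

set_option autoImplicit false
set_option maxRecDepth 200000
set_option linter.style.longLine false

namespace Cfsg.Agent.H17.HST

open Cfsg.Agent.H43

theorem t_hn : NOk 100 := by decide

theorem t_hk : 100 ≤ 2 ^ 7 := by decide

noncomputable def t_g1 : Net := (Net.cons (nat_lit 1) (nat_lit 0x5115141454051504505044040) (Net.cons (nat_lit 2) (nat_lit 0x2332001231112333102030000) (Net.cons (nat_lit 4) (nat_lit 0xe090604010e040208010801) (Net.cons (nat_lit 8) (nat_lit 0xef00aa004800d000890004) (Net.cons (nat_lit 16) (nat_lit 0x10b20000041300000008) (Net.cons (nat_lit 32) (nat_lit 0x60000000008910c20) (Net.cons (nat_lit 64) (nat_lit 0xa489f1cbc) (Net.cons (nat_lit 32) (nat_lit 0xf000000001c01edb8) (Net.cons (nat_lit 16) (nat_lit 0xb82200000cc700000099) (Net.cons (nat_lit 8) (nat_lit 0xef00ea004900d200890004) (Net.cons (nat_lit 4) (nat_lit 0xe090704090e040208010805)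 (Net.cons (nat_lit 2) (nat_lit 0x2332001231112333102030000) (Net.cons (nat_lit 1) (nat_lit 0x5115141454055504505444040) Net.nil)))))))))))))

theorem t_g1_ok : Net.ok 100 t_g1 = true := by decide +kernel

noncomputable def t_g2 : Net := (Net.cons (nat_lit 1) (nat_lit 0x4050404104110155510004040) (Net.cons (nat_lit 2) (nat_lit 0x12103200331001001101100) (Net.cons (nat_lit 4) (nat_lit 0xa0d030103000c090800060a) (Net.cons (nat_lit 8) (nat_lit 0xd2006d001d0044008a000b) (Net.cons (nat_lit 16) (nat_lit 0x28830000a04700000005) (Net.cons (nat_lit 32) (nat_lit 0x3000000001980fe40) (Net.cons (nat_lit 64) (nat_lit 0xfbff4fff0) (Net.cons (nat_lit 32) (nat_lit 0xdbeda468) (Net.cons (nat_lit 16) (nat_lit 0xc8b200002c400000f3ac) (Net.cons (nat_lit 8) (nat_lit 0xc700fb002b008f00620019) (Net.cons (nat_lit 4) (nat_lit 0x402070803040003030f060d) (Net.cons (nat_lit 2) (nat_lit 0x2331310222300233322202002) (Net.cons (nat_lit 1) (nat_lit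 0x1014555400145140140044055) Net.nil)))))))))))))

theorem t_g2_ok : Net.ok 100 t_g2 = true := by decide +kernel

noncomputable def t_g3 : Net := (Net.cons (nat_lit 1) (nat_lit 0x5040540055015154514040540) (Net.cons (nat_lit 2) (nat_lit 0x2322230101202320222320130) (Net.cons (nat_lit 4) (nat_lit 0xe07020b0e04050106010004) (Net.cons (nat_lit 8) (nat_lit 0x9008f00b2008800140008) (Net.cons (nat_lit 16) (nat_lit 0x51340000372800000000) (Net.cons (nat_lit 32) (nat_lit 0x100000000011b8000) (Net.cons (nat_lit 64) (nat_lit 0x5313fc8c8) (Net.cons (nat_lit 32) (nat_lit 0x9000000009abc64d4) (Net.cons (nat_lit 16) (nat_lit 0x803b00002f260000b70c) (Net.cons (nat_lit 8) (nat_lit 0xe00cf00f0000a0015009f) (Net.cons (nat_lit 4) (nat_lit 0x60f0c0b0f0f0d010c010303) (Net.cons (nat_lit 2) (nat_lit 0x2102022003230331320313212) (Net.cons (nat_lit 1) (nat_lit 0x5540515455415104054114410) Net.nil)))))))))))))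

theorem t_g3_ok : Net.ok 100 t_g3 = true := by decide +kernel

noncomputable def t_g4 : Net := (Net.cons (nat_lit 1) (nat_lit 0x5454404004054115410441400) (Net.cons (nat_lit 2) (nat_lit 0x3012111222132100033131000) (Net.cons (nat_lit 4) (nat_lit 0x9020103000d070200000200) (Net.cons (nat_lit 8) (nat_lit 0x6100140063009900380000) (Net.cons (nat_lit 16) (nat_lit 0xf8ee0000854000000004) (Net.cons (nat_lit 32) (nat_lit 0xe000000005298d480) (Net.cons (nat_lit 64) (nat_lit 0x35abdf6cd) (Net.cons (nat_lit 32) (nat_lit 0xf0000000054ba0f40) (Net.cons (nat_lit 16) (nat_lit 0xe41a000059b900002bb6) (Net.cons (nat_lit 8) (nat_lit 0xaf00d8004300af00250067) (Net.cons (nat_lit 4) (nat_lit 0x50a00020102050f0b0a0203) (Net.cons (nat_lit 2) (nat_lit 0x3033231221022002212123321) (Net.cons (nat_lit 1) (nat_lit 0x5504500001110004155044150) Net.nil)))))))))))))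

theorem t_g4_ok : Net.ok 100 t_g4 = true := by decide +kernel

noncomputable def t_g5 : Net := (Net.cons (nat_lit 1) (nat_lit 0x5040444444400401004004440) (Net.cons (nat_lit 2) (nat_lit 0x2212222220010133011033200) (Net.cons (nat_lit 4) (nat_lit 0xb030a0200070f0c0d0a0008) (Net.cons (nat_lit 8) (nat_lit 0xa600ba0012009200480004) (Net.cons (nat_lit 16) (nat_lit 0x5d10000000ec00000008) (Net.cons (nat_lit 32) (nat_lit 0x62d01120) (Net.cons (nat_lit 64) (nat_lit 0xcf6f81bac) (Net.cons (nat_lit 32) (nat_lit 0x90000000062b3d629) (Net.cons (nat_lit 16) (nat_lit 0x3b9b0000d9e8000010ed) (Net.cons (nat_lit 8) (nat_lit 0xf8008100030009004d006b) (Net.cons (nat_lit 4) (nat_lit 0x1070b080d070d010d0a0e06) (Net.cons (nat_lit 2) (nat_lit 0x3323221031123323200012121) (Net.cons (nat_lit 1) (nat_lit 0x5154545404014150504045044) Net.nil)))))))))))))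

theorem t_g5_ok : Net.ok 100 t_g5 = true := by decide +kernel

noncomputable def t_g6 : Net := (Net.cons (nat_lit 1) (nat_lit 0x115144040440541111040500) (Net.cons (nat_lit 2) (nat_lit 0x203312013201321020010000) (Net.cons (nat_lit 4) (nat_lit 0x6060600010b0d0703070008) (Net.cons (nat_lit 8) (nat_lit 0x9e007900ca002800000008) (Net.cons (nat_lit 16) (nat_lit 0x94db0000250100000000) (Net.cons (nat_lit 32) (nat_lit 0x1000000001224e450) (Net.cons (nat_lit 64) (nat_lit 0x9167cf5d8) (Net.cons (nat_lit 32) (nat_lit 0xb000000007624e15d) (Net.cons (nat_lit 16) (nat_lit 0xe9ee0000298300009c30) (Net.cons (nat_lit 8) (nat_lit 0xef004e00ef006d0010001d) (Net.cons (nat_lit 4) (nat_lit 0x2060604010b0d0703070008) (Net.cons (nat_lit 2) (nat_lit 0x303312113301321120010000) (Net.cons (nat_lit 1) (nat_lit 0x115144040444541111040500) Net.nil)))))))))))))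

theorem t_g6_ok : Net.ok 100 t_g6 = true := by decide +kernel

noncomputable def t_g7 : Net := (Net.cons (nat_lit 1) (nat_lit 0x5544415001450515450440010) (Net.cons (nat_lit 2) (nat_lit 0x3200310223112102321000020) (Net.cons (nat_lit 4) (nat_lit 0xe0802050a040403010a0000) (Net.cons (nat_lit 8) (nat_lit 0x9700c8004a00e400120000) (Net.cons (nat_lit 16) (nat_lit 0x2ce000031a000000008) (Net.cons (nat_lit 32) (nat_lit 0x15544090) (Net.cons (nat_lit 64) (nat_lit 0xd1df6539d) (Net.cons (nat_lit 32) (nat_lit 0x800000000b554c0f8) (Net.cons (nat_lit 16) (nat_lit 0xae8c000039a200000018) (Net.cons (nat_lit 8) (nat_lit 0x9700c8004a00e400520000) (Net.cons (nat_lit 4) (nat_lit 0xe0d07050f040503010a0108) (Net.cons (nat_lit 2) (nat_lit 0x3000310203112102323010020) (Net.cons (nat_lit 1) (nat_lit 0x5544415001454515450440410) Net.nil)))))))))))))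

theorem t_g7_ok : Net.ok 100 t_g7 = true := by decide +kernel

noncomputable def t_g8 : Net := (Net.cons (nat_lit 1) (nat_lit 0x1454004010544141054041000) (Net.cons (nat_lit 2) (nat_lit 0x3132031131201022302030110) (Net.cons (nat_lit 4) (nat_lit 0x500020e0105030002080200) (Net.cons (nat_lit 8) (nat_lit 0xa600d0006f000100220008) (Net.cons (nat_lit 16) (nat_lit 0xc042000002c40000000c) (Net.cons (nat_lit 32) (nat_lit 0xa00000000c0588480) (Net.cons (nat_lit 64) (nat_lit 0x6c2dca4dc) (Net.cons (nat_lit 32) (nat_lit 0xe00000000c4db3285) (Net.cons (nat_lit 16) (nat_lit 0x496300004b25000088ad) (Net.cons (nat_lit 8) (nat_lit 0x62001200af00c100e20088) (Net.cons (nat_lit 4) (nat_lit 0x104020e0105030002080204) (Net.cons (nat_lit 2) (nat_lit 0x3132031131201022302030110) (Net.cons (nat_lit 1) (nat_lit 0x1454005010544101054041100) Net.nil)))))))))))))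

theorem t_g8_ok : Net.ok 100 t_g8 = true := by decide +kernel

noncomputable def t_g9 : Net := (Net.cons (nat_lit 1) (nat_lit 0x1545541415140410054400010) (Net.cons (nat_lit 2) (nat_lit 0x3012103230101020022000000) (Net.cons (nat_lit 4) (nat_lit 0x4020401050d0300060e0100) (Net.cons (nat_lit 8) (nat_lit 0x6100800001000000010008) (Net.cons (nat_lit 16) (nat_lit 0x2772000022400000000c) (Net.cons (nat_lit 32) (nat_lit 0xa0000000024a04040) (Net.cons (nat_lit 64) (nat_lit 0x664a14379) (Net.cons (nat_lit 32) (nat_lit 0xa0000000027e46040) (Net.cons (nat_lit 16) (nat_lit 0xaf7e000032580000888c) (Net.cons (nat_lit 8) (nat_lit 0x69008a0013001100250008) (Net.cons (nat_lit 4) (nat_lit 0x40205010d0d0b00060e0100) (Net.cons (nat_lit 2) (nat_lit 0x3112103230101020022000000) (Net.cons (nat_lit 1) (nat_lit 0x1545541415140410054400010) Net.nil)))))))))))))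

theorem t_g9_ok : Net.ok 100 t_g9 = true := by decide +kernel

noncomputable def ht_c1_K : List Net := [t_g2, t_g3, t_g4, t_g5, t_g6, t_g7, t_g8, t_g9]

theorem ht_c1_K_ok : okE 100 ht_c1_K = true := (okE_cons.2 ⟨t_g2_ok, (okE_cons.2 ⟨t_g3_ok, (okE_cons.2 ⟨t_g4_ok, (okE_cons.2 ⟨t_g5_ok, (okE_cons.2 ⟨t_g6_ok, (okE_cons.2 ⟨t_g7_ok, (okE_cons.2 ⟨t_g8_ok, (okE_cons.2 ⟨t_g9_ok, (okE_nil 100)⟩)⟩)⟩)⟩)⟩)⟩)⟩)⟩)

noncomputable def t_V11 : List Net := [HSM.g3, HSM.g4, HSM.g7, HSM.g8, HSM.g11, HSM.g12, HSM.g13, HSM.g16, HSM.g16]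

theorem t_V11_ok : okE 100 t_V11 = true := (okE_cons.2 ⟨HSM.g3_ok, (okE_cons.2 ⟨HSM.g4_ok, (okE_cons.2 ⟨HSM.g7_ok, (okE_cons.2 ⟨HSM.g8_ok, (okE_cons.2 ⟨HSM.g11_ok, (okE_cons.2 ⟨HSM.g12_ok, (okE_cons.2 ⟨HSM.g13_ok, (okE_cons.2 ⟨HSM.g16_ok, (okE_cons.2 ⟨HSM.g16_ok, (okE_nil 100)⟩)⟩)⟩)⟩)⟩)⟩)⟩)⟩)⟩)

noncomputable def t_g12 : Net := (Net.cons (nat_lit 1) (nat_lit 0x5051455001001105415110444) (Net.cons (nat_lit 2) (nat_lit 0x1031032112303202010003110) (Net.cons (nat_lit 4) (nat_lit 0x8050108060e0c0e06020209) (Net.cons (nat_lit 8) (nat_lit 0xab005a0090006a00000008) (Net.cons (nat_lit 16) (nat_lit 0x940000af0100000002) (Net.cons (nat_lit 32) (nat_lit 0x72c10560) (Net.cons (nat_lit 64) (nat_lit 0xefefb176c) (Net.cons (nat_lit 32) (nat_lit 0xf0000000091f50f89) (Net.cons (nat_lit 16) (nat_lit 0xfdf90000ad1c00004aa1) (Net.cons (nat_lit 8) (nat_lit 0xa100320097002c004e0001) (Net.cons (nat_lit 4) (nat_lit 0x2030a05020d0b0a01030e09)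 (Net.cons (nat_lit 2) (nat_lit 0x310011303312322301232230) (Net.cons (nat_lit 1) (nat_lit 0x4455040551015041454404114) Net.nil)))))))))))))

theorem t_g12_ok : Net.ok 100 t_g12 = true := by decide +kernel

noncomputable def t_g13 : Net := (Net.cons (nat_lit 1) (nat_lit 0x5405510511100405415044410) (Net.cons (nat_lit 2) (nat_lit 0x1230332101222333200313020) (Net.cons (nat_lit 4) (nat_lit 0x90a010a0a0701010b0a0d09) (Net.cons (nat_lit 8) (nat_lit 0xfc0023001600a600140004) (Net.cons (nat_lit 16) (nat_lit 0xb0800000815f00000003) (Net.cons (nat_lit 32) (nat_lit 0xc0000000001580280) (Net.cons (nat_lit 64) (nat_lit 0x2315dfaac) (Net.cons (nat_lit 32) (nat_lit 0xf00000000cd243b03) (Net.cons (nat_lit 16) (nat_lit 0x7aa90000c34c0000b065) (Net.cons (nat_lit 8) (nat_lit 0xd800230016000200a00080) (Net.cons (nat_lit 4) (nat_lit 0x302070c02070f030a0e050d) (Net.cons (nat_lit 2) (nat_lit 0x1030331110322303301013322) (Net.cons (nat_lit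 1) (nat_lit 0x515404510140054510154544) Net.nil)))))))))))))

theorem t_g13_ok : Net.ok 100 t_g13 = true := by decide +kernel

noncomputable def t_g14 : Net := (Net.cons (nat_lit 1) (nat_lit 0x5510414041140155114111540) (Net.cons (nat_lit 2) (nat_lit 0x2332320332312000123330200) (Net.cons (nat_lit 4) (nat_lit 0x50f01040c050a07010a0b0d) (Net.cons (nat_lit 8) (nat_lit 0x4800770093000200920002) (Net.cons (nat_lit 16) (nat_lit 0xa8430000ea5000000003) (Net.cons (nat_lit 32) (nat_lit 0x60230800) (Net.cons (nat_lit 64) (nat_lit 0xc613bd840) (Net.cons (nat_lit 32) (nat_lit 0x700000000255ee30a) (Net.cons (nat_lit 16) (nat_lit 0x845400000bed00009223) (Net.cons (nat_lit 8) (nat_lit 0x2f00470017000b009300e6) (Net.cons (nat_lit 4) (nat_lit 0xb0a0e0c00070e0d060c0305) (Net.cons (nat_lit 2) (nat_lit 0x311301211300010132201310) (Net.cons (nat_lit 1) (nat_lit 0x400410041010111014451554) Net.nil)))))))))))))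

theorem t_g14_ok : Net.ok 100 t_g14 = true := by decide +kernel

noncomputable def t_g15 : Net := (Net.cons (nat_lit 1) (nat_lit 0x114101501054441151404044) (Net.cons (nat_lit 2) (nat_lit 0x2231100111111002303002000) (Net.cons (nat_lit 4) (nat_lit 0x2030d03090a010c0b000c02) (Net.cons (nat_lit 8) (nat_lit 0xb300c7003a006f00570002) (Net.cons (nat_lit 16) (nat_lit 0xbc420000235000000004) (Net.cons (nat_lit 32) (nat_lit 0x400000000a2021d00) (Net.cons (nat_lit 64) (nat_lit 0x8f3225dfc) (Net.cons (nat_lit 32) (nat_lit 0xb0000000008a358dc) (Net.cons (nat_lit 16) (nat_lit 0x542a000028600000f394) (Net.cons (nat_lit 8) (nat_lit 0x31005a003b002300760010) (Net.cons (nat_lit 4) (nat_lit 0xe0d080e020308030602070a) (Net.cons (nat_lit 2) (nat_lit 0x3210321323231003200203112) (Net.cons (nat_lit 1) (nat_lit 0x5111115010004400511415414) Net.nil)))))))))))))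

theorem t_g15_ok : Net.ok 100 t_g15 = true := by decide +kernel

noncomputable def t_g16 : Net := (Net.cons (nat_lit 1) (nat_lit 0x4441405040514151110100000) (Net.cons (nat_lit 2) (nat_lit 0x2333200201201213110201100) (Net.cons (nat_lit 4) (nat_lit 0x60c010b07010f000c010000) (Net.cons (nat_lit 8) (nat_lit 0xe400820014001200070000) (Net.cons (nat_lit 16) (nat_lit 0x4c600002f1d00000004) (Net.cons (nat_lit 32) (nat_lit 0x1401210) (Net.cons (nat_lit 64) (nat_lit 0xc4bd8579c) (Net.cons (nat_lit 32) (nat_lit 0xe0000000015952a5e) (Net.cons (nat_lit 16) (nat_lit 0x245700007f6d000010c4) (Net.cons (nat_lit 8) (nat_lit 0xe400d20015000a00170040) (Net.cons (nat_lit 4) (nat_lit 0x60c010b07010f000c010a00) (Net.cons (nat_lit 2) (nat_lit 0x2333202221001213112203300) (Net.cons (nat_lit 1) (nat_lit 0x4441445040554151110100040) Net.nil)))))))))))))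

theorem t_g16_ok : Net.ok 100 t_g16 = true := by decide +kernel

noncomputable def t_g17 : Net := (Net.cons (nat_lit 1) (nat_lit 0x145050041454510000400000) (Net.cons (nat_lit 2) (nat_lit 0x3221302111202112033030100) (Net.cons (nat_lit 4) (nat_lit 0x20602000102010307040408) (Net.cons (nat_lit 8) (nat_lit 0x2200be00fa001300320000) (Net.cons (nat_lit 16) (nat_lit 0x23cd0000c24800000006) (Net.cons (nat_lit 32) (nat_lit 0x2482c340) (Net.cons (nat_lit 64) (nat_lit 0xefccaf7ee) (Net.cons (nat_lit 32) (nat_lit 0xf000000002632c3de) (Net.cons (nat_lit 16) (nat_lit 0x731f0000c28e00001086) (Net.cons (nat_lit 8) (nat_lit 0x6200fe00ba001300730040) (Net.cons (nat_lit 4) (nat_lit 0xa0a020009060d070f040408) (Net.cons (nat_lit 2) (nat_lit 0x3221302131202112033030100) (Net.cons (nat_lit 1) (nat_lit 0x145050041454510000400400) Net.nil)))))))))))))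

theorem t_g17_ok : Net.ok 100 t_g17 = true := by decide +kernel

noncomputable def t_g18 : Net := (Net.cons (nat_lit 1) (nat_lit 0x4541510504154000040510004) (Net.cons (nat_lit 2) (nat_lit 0x1033022203011112030100200) (Net.cons (nat_lit 4) (nat_lit 0x203020b03040608090a0000) (Net.cons (nat_lit 8) (nat_lit 0x840068000d004100210000) (Net.cons (nat_lit 16) (nat_lit 0x2460000010400000009) (Net.cons (nat_lit 32) (nat_lit 0x100000000d0180a40) (Net.cons (nat_lit 64) (nat_lit 0x8dfba5a79) (Net.cons (nat_lit 32) (nat_lit 0xd00000000608c7b18) (Net.cons (nat_lit 16) (nat_lit 0x525e000077bd00003019) (Net.cons (nat_lit 8) (nat_lit 0x440068008d008300a10040) (Net.cons (nat_lit 4) (nat_lit 0x203020b03040608090a0800) (Net.cons (nat_lit 2) (nat_lit 0x1233023201011312230100202) (Net.cons (nat_lit 1) (nat_lit 0x4545510504154000040510004) Net.nil)))))))))))))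

theorem t_g18_ok : Net.ok 100 t_g18 = true := by decide +kernel

noncomputable def t_g19 : Net := (Net.cons (nat_lit 1) (nat_lit 0x100051501454014501510100) (Net.cons (nat_lit 2) (nat_lit 0x3313303231001213101001200) (Net.cons (nat_lit 4) (nat_lit 0x9020a0000040a070a050004) (Net.cons (nat_lit 8) (nat_lit 0x1a00480009008200d30004) (Net.cons (nat_lit 16) (nat_lit 0xac30000e20800000000) (Net.cons (nat_lit 32) (nat_lit 0x69080200) (Net.cons (nat_lit 64) (nat_lit 0x46dece320) (Net.cons (nat_lit 32) (nat_lit 0xb000000008b096e42) (Net.cons (nat_lit 16) (nat_lit 0x7ae30000929800007020) (Net.cons (nat_lit 8) (nat_lit 0xbe004c001d009200d70024) (Net.cons (nat_lit 4) (nat_lit 0x9020a0100040a070a05000c) (Net.cons (nat_lit 2) (nat_lit 0x3313303231001213121001200) (Net.cons (nat_lit 1) (nat_lit 0x100051501454014501510100) Net.nil)))))))))))))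

theorem t_g19_ok : Net.ok 100 t_g19 = true := by decide +kernel

noncomputable def t_V20 : List Net := [t_g12, t_g13, t_g14, t_g15, t_g16, t_g17, t_g18, t_g19]

theorem t_V20_ok : okE 100 t_V20 = true := (okE_cons.2 ⟨t_g12_ok, (okE_cons.2 ⟨t_g13_ok, (okE_cons.2 ⟨t_g14_ok, (okE_cons.2 ⟨t_g15_ok, (okE_cons.2 ⟨t_g16_ok, (okE_cons.2 ⟨t_g17_ok, (okE_cons.2 ⟨t_g18_ok, (okE_cons.2 ⟨t_g19_ok, (okE_nil 100)⟩)⟩)⟩)⟩)⟩)⟩)⟩)⟩)

noncomputable def t_V22 : List Net := [t_g13, t_g14, t_g15, t_g16, t_g17, t_g18, t_g19]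

theorem t_V22_ok : okE 100 t_V22 = true := (okE_cons.2 ⟨t_g13_ok, (okE_cons.2 ⟨t_g14_ok, (okE_cons.2 ⟨t_g15_ok, (okE_cons.2 ⟨t_g16_ok, (okE_cons.2 ⟨t_g17_ok, (okE_cons.2 ⟨t_g18_ok, (okE_cons.2 ⟨t_g19_ok, (okE_nil 100)⟩)⟩)⟩)⟩)⟩)⟩)⟩)

noncomputable def t_V23 : List Net := [t_g14, t_g15, t_g16, t_g17, t_g18, t_g19]

theorem t_V23_ok : okE 100 t_V23 = true := (okE_cons.2 ⟨t_g14_ok, (okE_cons.2 ⟨t_g15_ok, (okE_cons.2 ⟨t_g16_ok, (okE_cons.2 ⟨t_g17_ok, (okE_cons.2 ⟨t_g18_ok, (okE_cons.2 ⟨t_g19_ok, (okE_nil 100)⟩)⟩)⟩)⟩)⟩)⟩)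

noncomputable def t_V24 : List Net := [t_g15, t_g16, t_g17, t_g18, t_g19]

theorem t_V24_ok : okE 100 t_V24 = true := (okE_cons.2 ⟨t_g15_ok, (okE_cons.2 ⟨t_g16_ok, (okE_cons.2 ⟨t_g17_ok, (okE_cons.2 ⟨t_g18_ok, (okE_cons.2 ⟨t_g19_ok, (okE_nil 100)⟩)⟩)⟩)⟩)⟩)

noncomputable def t_V25 : List Net := [t_g16, t_g17, t_g18, t_g19]

theorem t_V25_ok : okE 100 t_V25 = true := (okE_cons.2 ⟨t_g16_ok, (okE_cons.2 ⟨t_g17_ok, (okE_cons.2 ⟨t_g18_ok, (okE_cons.2 ⟨t_g19_ok, (okE_nil 100)⟩)⟩)⟩)⟩)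

noncomputable def t_V26 : List Net := [t_g18, t_g19]

theorem t_V26_ok : okE 100 t_V26 = true := (okE_cons.2 ⟨t_g18_ok, (okE_cons.2 ⟨t_g19_ok, (okE_nil 100)⟩)⟩)

noncomputable def t_V27 : List Net := []

theorem t_V27_ok : okE 100 t_V27 = true := (okE_nil 100)

noncomputable def ht_c1_cnt_EG : List Net := [HSM.g1, HSM.g2, HSM.g3, HSM.g4, HSM.g7, HSM.g8, HSM.g11, HSM.g12, HSM.g13, HSM.g16, t_g12, t_g13, t_g14, t_g15, t_g16, t_g17, t_g18, t_g19]

theorem ht_c1_cnt_EG_ok : okE 100 ht_c1_cnt_EG = true := (okE_cons.2 ⟨HSM.g1_ok, (okE_cons.2 ⟨HSM.g2_ok, (okE_cons.2 ⟨HSM.g3_ok, (okE_cons.2 ⟨HSM.g4_ok, (okE_cons.2 ⟨HSM.g7_ok, (okE_cons.2 ⟨HSM.g8_ok, (okE_cons.2 ⟨HSM.g11_ok, (okE_cons.2 ⟨HSM.g12_ok, (okE_cons.2 ⟨HSM.g13_ok, (okE_cons.2 ⟨HSM.g16_ok, (okE_cons.2 ⟨t_g12_ok, (okE_cons.2 ⟨t_g13_ok, (okE_cons.2 ⟨t_g14_ok, (okE_cons.2 ⟨t_g15_ok, (okE_cons.2 ⟨t_g16_ok, (okE_cons.2 ⟨t_g17_ok, (okE_cons.2 ⟨t_g18_ok, (okE_cons.2 ⟨t_g19_ok,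 (okE_nil 100)⟩)⟩)⟩)⟩)⟩)⟩)⟩)⟩)⟩)⟩)⟩)⟩)⟩)⟩)⟩)⟩)⟩)⟩)

noncomputable def t_g28 : Net := (Net.cons (nat_lit 1) (nat_lit 0x1104555400055140510101100) (Net.cons (nat_lit 2) (nat_lit 0x3310121002000132131122000) (Net.cons (nat_lit 4) (nat_lit 0xb0a0d0d020d030109030103) (Net.cons (nat_lit 8) (nat_lit 0xd2007b001e008f00c00000) (Net.cons (nat_lit 16) (nat_lit 0x1d5b000048060000000e) (Net.cons (nat_lit 32) (nat_lit 0x40000000029634120) (Net.cons (nat_lit 64) (nat_lit 0xf97b6524) (Net.cons (nat_lit 32) (nat_lit 0xf00000000bcb7897a) (Net.cons (nat_lit 16) (nat_lit 0xe93f0000c41c00008896) (Net.cons (nat_lit 8) (nat_lit 0xd800770020009500b30038) (Net.cons (nat_lit 4) (nat_lit 0xf0e0808010300030701060b) (Net.cons (nat_lit 2) (nat_lit 0x1113302323203230230220002) (Net.cons (nat_lit 1) (nat_lit 0x1154440405440400450514011) Net.nil)))))))))))))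

theorem t_g28_ok : Net.ok 100 t_g28 = true := by decide +kernel

noncomputable def t_g29 : Net := (Net.cons (nat_lit 1) (nat_lit 0x4154050055041551510510014) (Net.cons (nat_lit 2) (nat_lit 0x12122130123023112202200) (Net.cons (nat_lit 4) (nat_lit 0xf000e000c070d0d03090b00) (Net.cons (nat_lit 8) (nat_lit 0x9d00b3001800a3007a0008) (Net.cons (nat_lit 16) (nat_lit 0x4420000a9a200000003) (Net.cons (nat_lit 32) (nat_lit 0x1000000004152aed0) (Net.cons (nat_lit 64) (nat_lit 0x1c3d6fede) (Net.cons (nat_lit 32) (nat_lit 0xa0000000027dfe1b0) (Net.cons (nat_lit 16) (nat_lit 0x94480000d17b000031ef) (Net.cons (nat_lit 8) (nat_lit 0x5000a600960083006b00e7) (Net.cons (nat_lit 4) (nat_lit 0xc0908060a07010f060e090d) (Net.cons (nat_lit 2) (nat_lit 0x202122000022131230201132) (Net.cons (nat_lit 1) (nat_lit 0x4554555415015101544541044) Net.nil)))))))))))))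

theorem t_g29_ok : Net.ok 100 t_g29 = true := by decide +kernel

noncomputable def t_g30 : Net := (Net.cons (nat_lit 1) (nat_lit 0x5000414001514015154504544) (Net.cons (nat_lit 2) (nat_lit 0x1022103223303123011232100) (Net.cons (nat_lit 4) (nat_lit 0xc030a050c0f0a0408050604) (Net.cons (nat_lit 8) (nat_lit 0x18008800b200cc00020004) (Net.cons (nat_lit 16) (nat_lit 0x5898000000ce00000006) (Net.cons (nat_lit 32) (nat_lit 0x200000000100d5a80) (Net.cons (nat_lit 64) (nat_lit 0x8503dffde) (Net.cons (nat_lit 32) (nat_lit 0x5000000004f5fb924) (Net.cons (nat_lit 16) (nat_lit 0x34300000e3600007f44) (Net.cons (nat_lit 8) (nat_lit 0x2b00f5009e00ab00ee003f) (Net.cons (nat_lit 4) (nat_lit 0xb0f020e0d050e070604030a) (Net.cons (nat_lit 2) (nat_lit 0x2211000111303321321211203) (Net.cons (nat_lit 1) (nat_lit 0x1504151504055401101400110) Net.nil)))))))))))))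

theorem t_g30_ok : Net.ok 100 t_g30 = true := by decide +kernel

noncomputable def t_g31 : Net := (Net.cons (nat_lit 1) (nat_lit 0x4505444444150401511455040) (Net.cons (nat_lit 2) (nat_lit 0x2112213230121212121020320) (Net.cons (nat_lit 4) (nat_lit 0xf0508080f0006030f0d0d0c) (Net.cons (nat_lit 8) (nat_lit 0xce0076002f00df00190001) (Net.cons (nat_lit 16) (nat_lit 0x8ebf0000a27000000007) (Net.cons (nat_lit 32) (nat_lit 0xa000000004c3026c0) (Net.cons (nat_lit 64) (nat_lit 0x7e7aa6df) (Net.cons (nat_lit 32) (nat_lit 0xf00000000729cf447) (Net.cons (nat_lit 16) (nat_lit 0x37f0000de91000054ac) (Net.cons (nat_lit 8) (nat_lit 0x2100b400e700bf00810063) (Net.cons (nat_lit 4) (nat_lit 0x1040b090b020e050b050a0e) (Net.cons (nat_lit 2) (nat_lit 0x1033033101123200103201022) (Net.cons (nat_lit 1) (nat_lit 0x101550500551501451454404) Net.nil)))))))))))))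

theorem t_g31_ok : Net.ok 100 t_g31 = true := by decide +kernel

noncomputable def t_g32 : Net := (Net.cons (nat_lit 1) (nat_lit 0x1550415415000450441001104) (Net.cons (nat_lit 2) (nat_lit 0x3213001101012230012000300) (Net.cons (nat_lit 4) (nat_lit 0x30907030e030003070a0903) (Net.cons (nat_lit 8) (nat_lit 0x3500cd007200160000) (Net.cons (nat_lit 16) (nat_lit 0x210e000035cb00000007) (Net.cons (nat_lit 32) (nat_lit 0x9000000008a80db00) (Net.cons (nat_lit 64) (nat_lit 0xdba81df62) (Net.cons (nat_lit 32) (nat_lit 0xe00000000cf37ab68) (Net.cons (nat_lit 16) (nat_lit 0x96b00004c800000128f) (Net.cons (nat_lit 8) (nat_lit 0x8c003d00b5002600fb00a7) (Net.cons (nat_lit 4) (nat_lit 0xa0406060b0301090e020703) (Net.cons (nat_lit 2) (nat_lit 0x2230132231110320322320122) (Net.cons (nat_lit 1) (nat_lit 0x1515500451501441044450550) Net.nil)))))))))))))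

theorem t_g32_ok : Net.ok 100 t_g32 = true := by decide +kernel

noncomputable def t_g33 : Net := (Net.cons (nat_lit 1) (nat_lit 0x5410504100104015411140010) (Net.cons (nat_lit 2) (nat_lit 0x2212132312100011002300210) (Net.cons (nat_lit 4) (nat_lit 0xb00040807060200090e0604) (Net.cons (nat_lit 8) (nat_lit 0x94002d00b4000900140000) (Net.cons (nat_lit 16) (nat_lit 0x16d00000564a0000000c) (Net.cons (nat_lit 32) (nat_lit 0x800000000c8601680) (Net.cons (nat_lit 64) (nat_lit 0x7df621efa) (Net.cons (nat_lit 32) (nat_lit 0x800000000c03d7ec0) (Net.cons (nat_lit 16) (nat_lit 0x16b700005e0a0000084e) (Net.cons (nat_lit 8) (nat_lit 0xd6008500b4004c00940028) (Net.cons (nat_lit 4) (nat_lit 0xb020c01050602020d0e0606) (Net.cons (nat_lit 2) (nat_lit 0x3012112112301021102310012) (Net.cons (nat_lit 1) (nat_lit 0x5410504100104015411140010) Net.nil)))))))))))))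

theorem t_g33_ok : Net.ok 100 t_g33 = true := by decide +kernel

noncomputable def t_g34 : Net := (Net.cons (nat_lit 1) (nat_lit 0x1050015445445145000140040) (Net.cons (nat_lit 2) (nat_lit 0x201311131220113102222030) (Net.cons (nat_lit 4) (nat_lit 0xc0b080a01060500080c0c0c) (Net.cons (nat_lit 8) (nat_lit 0x8008e00a90023001a0000) (Net.cons (nat_lit 16) (nat_lit 0x6aed000010c40000000c) (Net.cons (nat_lit 32) (nat_lit 0x20000000091100cb0) (Net.cons (nat_lit 64) (nat_lit 0xdb1b3cef6) (Net.cons (nat_lit 32) (nat_lit 0xc00000000207ded96) (Net.cons (nat_lit 16) (nat_lit 0x5827000001af0000b94a) (Net.cons (nat_lit 8) (nat_lit 0xd8008a0019004f00b000ca) (Net.cons (nat_lit 4) (nat_lit 0xc0608020b0707000a030404) (Net.cons (nat_lit 2) (nat_lit 0x3011003301011012121110112) (Net.cons (nat_lit 1) (nat_lit 0x1115041145554151040041544) Net.nil)))))))))))))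

theorem t_g34_ok : Net.ok 100 t_g34 = true := by decide +kernel

noncomputable def ht_c2_K : List Net := [t_g29, t_g30, t_g31, t_g32, t_g33, t_g34]

theorem ht_c2_K_ok : okE 100 ht_c2_K = true := (okE_cons.2 ⟨t_g29_ok, (okE_cons.2 ⟨t_g30_ok, (okE_cons.2 ⟨t_g31_ok, (okE_cons.2 ⟨t_g32_ok, (okE_cons.2 ⟨t_g33_ok, (okE_cons.2 ⟨t_g34_ok, (okE_nil 100)⟩)⟩)⟩)⟩)⟩)⟩)

noncomputable def t_g36 : Net := (Net.cons (nat_lit 1) (nat_lit 0x515155415005445451105400) (Net.cons (nat_lit 2) (nat_lit 0x101330212012322200032310) (Net.cons (nat_lit 4) (nat_lit 0x70b080200010c0406020904) (Net.cons (nat_lit 8) (nat_lit 0xe3008800400016006d000a) (Net.cons (nat_lit 16) (nat_lit 0x591b000003e300000004) (Net.cons (nat_lit 32) (nat_lit 0x200000000c2b20d50) (Net.cons (nat_lit 64) (nat_lit 0xdf6fe1d76) (Net.cons (nat_lit 32) (nat_lit 0x70000000093476b5a) (Net.cons (nat_lit 16) (nat_lit 0xf2750000356200006c42) (Net.cons (nat_lit 8) (nat_lit 0x3100ee0066008600100094)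 (Net.cons (nat_lit 4) (nat_lit 0x7030e0300010607070b0400) (Net.cons (nat_lit 2) (nat_lit 0x3202331333132331300033230) (Net.cons (nat_lit 1) (nat_lit 0x5041110150115045454500540) Net.nil)))))))))))))

theorem t_g36_ok : Net.ok 100 t_g36 = true := by decide +kernel

noncomputable def t_g37 : Net := (Net.cons (nat_lit 1) (nat_lit 0x1441105545515150050511414) (Net.cons (nat_lit 2) (nat_lit 0x1131210013122232112111120) (Net.cons (nat_lit 4) (nat_lit 0x305000b08050f0b090501) (Net.cons (nat_lit 8) (nat_lit 0x22002e00fe009500b00009) (Net.cons (nat_lit 16) (nat_lit 0x208b000063a600000009) (Net.cons (nat_lit 32) (nat_lit 0x5000000004a17a110) (Net.cons (nat_lit 64) (nat_lit 0x8ff37ff9d) (Net.cons (nat_lit 32) (nat_lit 0x8000000005f91f23c) (Net.cons (nat_lit 16) (nat_lit 0xbd1f0000056b00005003) (Net.cons (nat_lit 8) (nat_lit 0xdb00f800b2001e0085000b) (Net.cons (nat_lit 4) (nat_lit 0x40b010c010c02040f090401) (Net.cons (nat_lit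 2) (nat_lit 0x223122213003103010130002) (Net.cons (nat_lit 1) (nat_lit 0x1445145440555410055501404) Net.nil)))))))))))))

theorem t_g37_ok : Net.ok 100 t_g37 = true := by decide +kernel

noncomputable def t_g38 : Net := (Net.cons (nat_lit 1) (nat_lit 0x1140514040114104005504000) (Net.cons (nat_lit 2) (nat_lit 0x2112010101331323220232230) (Net.cons (nat_lit 4) (nat_lit 0x300080202090d05030800) (Net.cons (nat_lit 8) (nat_lit 0x8f005300b7000c00940002) (Net.cons (nat_lit 16) (nat_lit 0x34a60000070c00000002) (Net.cons (nat_lit 32) (nat_lit 0x8000000000b23b810) (Net.cons (nat_lit 64) (nat_lit 0xe6b7bfdb4) (Net.cons (nat_lit 32) (nat_lit 0xb00000000953b61d6) (Net.cons (nat_lit 16) (nat_lit 0x4097000067820000aa72) (Net.cons (nat_lit 8) (nat_lit 0x5d006300c700b000ee0096) (Net.cons (nat_lit 4) (nat_lit 0xf040a000c020706070f020e) (Net.cons (nat_lit 2) (nat_lit 0x3110223200323303020002032) (Net.cons (nat_lit 1) (nat_lit 0x1504010441414544505551004)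 Net.nil)))))))))))))

theorem t_g38_ok : Net.ok 100 t_g38 = true := by decide +kernel

noncomputable def t_V39 : List Net := [t_g36, t_g37, t_g38]

theorem t_V39_ok : okE 100 t_V39 = true := (okE_cons.2 ⟨t_g36_ok, (okE_cons.2 ⟨t_g37_ok, (okE_cons.2 ⟨t_g38_ok, (okE_nil 100)⟩)⟩)⟩)

noncomputable def t_V41 : List Net := [t_g37, t_g38]

theorem t_V41_ok : okE 100 t_V41 = true := (okE_cons.2 ⟨t_g37_ok, (okE_cons.2 ⟨t_g38_ok, (okE_nil 100)⟩)⟩)

noncomputable def t_V42 : List Net := [t_g38]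

theorem t_V42_ok : okE 100 t_V42 = true := (okE_cons.2 ⟨t_g38_ok, (okE_nil 100)⟩)

noncomputable def t_V43 : List Net := []

theorem t_V43_ok : okE 100 t_V43 = true := (okE_nil 100)

noncomputable def ht_c2_cnt_EG : List Net := [HSM.g1, HSM.g2, HSM.g3, HSM.g4, HSM.g7, HSM.g8, HSM.g11, HSM.g12, HSM.g13, HSM.g16, t_g12, t_g13, t_g14, t_g15, t_g16, t_g17, t_g18, t_g19, t_g36, t_g37, t_g38]

theorem ht_c2_cnt_EG_ok : okE 100 ht_c2_cnt_EG = true := (okE_cons.2 ⟨HSM.g1_ok, (okE_cons.2 ⟨HSM.g2_ok, (okE_cons.2 ⟨HSM.g3_ok, (okE_cons.2 ⟨HSM.g4_ok, (okE_cons.2 ⟨HSM.g7_ok, (okE_cons.2 ⟨HSM.g8_ok, (okE_cons.2 ⟨HSM.g11_ok, (okE_cons.2 ⟨HSM.g12_ok, (okE_cons.2 ⟨HSM.g13_ok, (okE_cons.2 ⟨HSM.g16_ok, (okE_cons.2 ⟨t_g12_ok, (okE_cons.2 ⟨t_g13_ok, (okE_cons.2 ⟨t_g14_ok, (okE_cons.2 ⟨t_g15_ok, (okE_cons.2 ⟨t_g16_ok, (okE_cons.2 ⟨t_g17_ok, (okE_cons.2 ⟨t_g18_ok, (okE_cons.2 ⟨t_g19_ok, (okE_cons.2 ⟨t_g36_ok, (okE_cons.2 ⟨t_g37_ok, (okE_cons.2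 ⟨t_g38_ok, (okE_nil 100)⟩)⟩)⟩)⟩)⟩)⟩)⟩)⟩)⟩)⟩)⟩)⟩)⟩)⟩)⟩)⟩)⟩)⟩)⟩)⟩)⟩)

noncomputable def t_g44 : Net := (Net.cons (nat_lit 1) (nat_lit 0x4100544515010054100044100) (Net.cons (nat_lit 2) (nat_lit 0x300032311102230013210230) (Net.cons (nat_lit 4) (nat_lit 0x305050701040c0f04080608) (Net.cons (nat_lit 8) (nat_lit 0xa400b4002800a300a90003) (Net.cons (nat_lit 16) (nat_lit 0xe0100000e90700000001) (Net.cons (nat_lit 32) (nat_lit 0x300000000a12a1020) (Net.cons (nat_lit 64) (nat_lit 0x9a37ef3e2) (Net.cons (nat_lit 32) (nat_lit 0xc000000008ecb71bc) (Net.cons (nat_lit 16) (nat_lit 0xd14f0000754c0000a04f) (Net.cons (nat_lit 8) (nat_lit 0x86001400300033006100ca) (Net.cons (nat_lit 4) (nat_lit 0x1070c04030b060f0a030c06) (Net.cons (nat_lit 2) (nat_lit 0x2312032120330010111332121) (Net.cons (nat_lit 1) (nat_lit 0x505444144111050110554004) Net.nil)))))))))))))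

theorem t_g44_ok : Net.ok 100 t_g44 = true := by decide +kernel

noncomputable def t_g45 : Net := (Net.cons (nat_lit 1) (nat_lit 0x501440415540500141000404) (Net.cons (nat_lit 2) (nat_lit 0x2313330133312302222133200) (Net.cons (nat_lit 4) (nat_lit 0x10c090403040401060701) (Net.cons (nat_lit 8) (nat_lit 0x550099008f002e00890002) (Net.cons (nat_lit 16) (nat_lit 0x2c470000940400000007) (Net.cons (nat_lit 32) (nat_lit 0x400000000e4aa4880) (Net.cons (nat_lit 64) (nat_lit 0xfe7ea7e9b) (Net.cons (nat_lit 32) (nat_lit 0x300000000ac12d1f4) (Net.cons (nat_lit 16) (nat_lit 0xeaf40000da410000bde1) (Net.cons (nat_lit 8) (nat_lit 0xb300c800e3008700030041) (Net.cons (nat_lit 4) (nat_lit 0x308090e04000d0007000503) (Net.cons (nat_lit 2) (nat_lit 0x322122121203122021213030) (Net.cons (nat_lit 1) (nat_lit 0x5504145044455500554500554) Net.nil)))))))))))))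

theorem t_g45_ok : Net.ok 100 t_g45 = true := by decide +kernel

noncomputable def t_g46 : Net := (Net.cons (nat_lit 1) (nat_lit 0x144044041040010110504110) (Net.cons (nat_lit 2) (nat_lit 0x220013001121320202032020) (Net.cons (nat_lit 4) (nat_lit 0x20b020009080f0909060202) (Net.cons (nat_lit 8) (nat_lit 0xb5002800da008a00330003) (Net.cons (nat_lit 16) (nat_lit 0xacc300002b0d00000004) (Net.cons (nat_lit 32) (nat_lit 0x21a80870) (Net.cons (nat_lit 64) (nat_lit 0x53bbeec75) (Net.cons (nat_lit 32) (nat_lit 0x600000000a03a8e48) (Net.cons (nat_lit 16) (nat_lit 0x7cc70000ea07000081f5) (Net.cons (nat_lit 8) (nat_lit 0x8000e90052006e00ba006d) (Net.cons (nat_lit 4) (nat_lit 0x60d02050c00050d0006040e) (Net.cons (nat_lit 2) (nat_lit 0x1303013221102100320121130) (Net.cons (nat_lit 1) (nat_lit 0x5551140154010014000404411) Net.nil)))))))))))))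

theorem t_g46_ok : Net.ok 100 t_g46 = true := by decide +kernel

noncomputable def t_g47 : Net := (Net.cons (nat_lit 1) (nat_lit 0x5045445515545511441450450) (Net.cons (nat_lit 2) (nat_lit 0x33021203022120220123320) (Net.cons (nat_lit 4) (nat_lit 0x30c0109080f0606090d) (Net.cons (nat_lit 8) (nat_lit 0x75002f0085001300040004) (Net.cons (nat_lit 16) (nat_lit 0x2c210000d04800000009) (Net.cons (nat_lit 32) (nat_lit 0x1a670d80) (Net.cons (nat_lit 64) (nat_lit 0x3fe73dcf) (Net.cons (nat_lit 32) (nat_lit 0xd00000000e3400d2f) (Net.cons (nat_lit 16) (nat_lit 0x24630000f6b80000b0e2) (Net.cons (nat_lit 8) (nat_lit 0x52004c008b00e300a80029) (Net.cons (nat_lit 4) (nat_lit 0x601080a0a080c010b020b0d) (Net.cons (nat_lit 2) (nat_lit 0x31033221202301221003012) (Net.cons (nat_lit 1) (nat_lit 0x5001014501545515440444140) Net.nil)))))))))))))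

theorem t_g47_ok : Net.ok 100 t_g47 = true := by decide +kernel

noncomputable def t_g48 : Net := (Net.cons (nat_lit 1) (nat_lit 0x5515010055141140414401440) (Net.cons (nat_lit 2) (nat_lit 0x330333123330001101112020) (Net.cons (nat_lit 4) (nat_lit 0x10b08080e0c0c020709080a) (Net.cons (nat_lit 8) (nat_lit 0x3600ca0059000a00710002) (Net.cons (nat_lit 16) (nat_lit 0x17c10000004a00000000) (Net.cons (nat_lit 32) (nat_lit 0x40000000044100ac0) (Net.cons (nat_lit 64) (nat_lit 0xb645efbd6) (Net.cons (nat_lit 32) (nat_lit 0xf000000000f7b488d) (Net.cons (nat_lit 16) (nat_lit 0x388600006863000040df) (Net.cons (nat_lit 8) (nat_lit 0x85007500aa000300b3) (Net.cons (nat_lit 4) (nat_lit 0x70e040903090c0d04050b0e) (Net.cons (nat_lit 2) (nat_lit 0x230132122310003203332222) (Net.cons (nat_lit 1) (nat_lit 0x4504101015141504504451500) Net.nil)))))))))))))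

theorem t_g48_ok : Net.ok 100 t_g48 = true := by decide +kernel

noncomputable def ht_c3_K : List Net := [t_g45, t_g46, t_g47, t_g48]

theorem ht_c3_K_ok : okE 100 ht_c3_K = true := (okE_cons.2 ⟨t_g45_ok, (okE_cons.2 ⟨t_g46_ok, (okE_cons.2 ⟨t_g47_ok, (okE_cons.2 ⟨t_g48_ok, (okE_nil 100)⟩)⟩)⟩)⟩)

noncomputable def t_V50 : List Net := [HSM.g7, HSM.g8, HSM.g11, HSM.g12, HSM.g13, HSM.g16, HSM.g16]

theorem t_V50_ok : okE 100 t_V50 = true := (okE_cons.2 ⟨HSM.g7_ok, (okE_cons.2 ⟨HSM.g8_ok, (okE_cons.2 ⟨HSM.g11_ok, (okE_cons.2 ⟨HSM.g12_ok, (okE_cons.2 ⟨HSM.g13_ok, (okE_cons.2 ⟨HSM.g16_ok, (okE_cons.2 ⟨HSM.g16_ok, (okE_nil 100)⟩)⟩)⟩)⟩)⟩)⟩)⟩)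

noncomputable def t_g51 : Net := (Net.cons (nat_lit 1) (nat_lit 0x5104505111541415044400140) (Net.cons (nat_lit 2) (nat_lit 0x333303211310101100010000) (Net.cons (nat_lit 4) (nat_lit 0x50908010206040309010a0e) (Net.cons (nat_lit 8) (nat_lit 0x25002a000800a3008e0005) (Net.cons (nat_lit 16) (nat_lit 0x45400000209200000000) (Net.cons (nat_lit 32) (nat_lit 0x200000000840b4b00) (Net.cons (nat_lit 64) (nat_lit 0xda60b4f6b) (Net.cons (nat_lit 32) (nat_lit 0xc000000003cf8430d) (Net.cons (nat_lit 16) (nat_lit 0x8e4200006fd000008a4c) (Net.cons (nat_lit 8) (nat_lit 0xe600030070001600290025) (Net.cons (nat_lit 4) (nat_lit 0x703060a0a0c0b0909030c0c) (Net.cons (nat_lit 2) (nat_lit 0x1110121011212121000222210) (Net.cons (nat_lit 1) (nat_lit 0x4505500101140154550400540) Net.nil)))))))))))))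

theorem t_g51_ok : Net.ok 100 t_g51 = true := by decide +kernel

noncomputable def t_g52 : Net := (Net.cons (nat_lit 1) (nat_lit 0x1445144441414040054454144) (Net.cons (nat_lit 2) (nat_lit 0x1023120101302032021120000) (Net.cons (nat_lit 4) (nat_lit 0xc010f000d020a0000050100) (Net.cons (nat_lit 8) (nat_lit 0x2f00a1008e00b200360005) (Net.cons (nat_lit 16) (nat_lit 0x405900008ca000000009) (Net.cons (nat_lit 32) (nat_lit 0x200000000d4114160) (Net.cons (nat_lit 64) (nat_lit 0x5d417f1eb) (Net.cons (nat_lit 32) (nat_lit 0xc0000000048942359) (Net.cons (nat_lit 16) (nat_lit 0xc469000093110000aa0d) (Net.cons (nat_lit 8) (nat_lit 0xb80094009e0032009b0055) (Net.cons (nat_lit 4) (nat_lit 0x3070d050502030705060900) (Net.cons (nat_lit 2) (nat_lit 0x1302031200123121012103302) (Net.cons (nat_lit 1) (nat_lit 0x1050005544100005010141154) Net.nil)))))))))))))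

theorem t_g52_ok : Net.ok 100 t_g52 = true := by decide +kernel

noncomputable def t_g53 : Net := (Net.cons (nat_lit 1) (nat_lit 0x5455501511440441440110400) (Net.cons (nat_lit 2) (nat_lit 0x3002001011020030101021100) (Net.cons (nat_lit 4) (nat_lit 0xe050d04080c02060a080004) (Net.cons (nat_lit 8) (nat_lit 0x8100ce006200ba00130000) (Net.cons (nat_lit 16) (nat_lit 0x40db0000060800000001) (Net.cons (nat_lit 32) (nat_lit 0x42041480) (Net.cons (nat_lit 64) (nat_lit 0x7f65c1687) (Net.cons (nat_lit 32) (nat_lit 0x500000000ccaef035) (Net.cons (nat_lit 16) (nat_lit 0x4553000082e80000a483) (Net.cons (nat_lit 8) (nat_lit 0x2f00ce00e6009a00b300a0) (Net.cons (nat_lit 4) (nat_lit 0xc0f07040b0e0a0408020106) (Net.cons (nat_lit 2) (nat_lit 0x3200001013020032121221100) (Net.cons (nat_lit 1) (nat_lit 0x5455501511440441440110400) Net.nil)))))))))))))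

theorem t_g53_ok : Net.ok 100 t_g53 = true := by decide +kernel

noncomputable def t_g54 : Net := (Net.cons (nat_lit 1) (nat_lit 0x1511501401451015014404400) (Net.cons (nat_lit 2) (nat_lit 0x222003011120022103132000) (Net.cons (nat_lit 4) (nat_lit 0x30a07080c040004050801) (Net.cons (nat_lit 8) (nat_lit 0x1c0030008f000700a70003) (Net.cons (nat_lit 16) (nat_lit 0x8e0000b0800000000e) (Net.cons (nat_lit 32) (nat_lit 0x10000000002830800) (Net.cons (nat_lit 64) (nat_lit 0xa63d34a67) (Net.cons (nat_lit 32) (nat_lit 0xe00000000ddb0638e) (Net.cons (nat_lit 16) (nat_lit 0xa1900000f870000104c) (Net.cons (nat_lit 8) (nat_lit 0x4400320080006700da00c0) (Net.cons (nat_lit 4) (nat_lit 0xd000e030c0e02020a0e0e01) (Net.cons (nat_lit 2) (nat_lit 0x2002221111020022301010110) (Net.cons (nat_lit 1) (nat_lit 0x1515441405401411514011400) Net.nil)))))))))))))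

theorem t_g54_ok : Net.ok 100 t_g54 = true := by decide +kernel

noncomputable def t_V55 : List Net := [t_g51, t_g52, t_g53, t_g54]

theorem t_V55_ok : okE 100 t_V55 = true := (okE_cons.2 ⟨t_g51_ok, (okE_cons.2 ⟨t_g52_ok, (okE_cons.2 ⟨t_g53_ok, (okE_cons.2 ⟨t_g54_ok, (okE_nil 100)⟩)⟩)⟩)⟩)

noncomputable def t_V57 : List Net := [t_g52, t_g53, t_g54]

theorem t_V57_ok : okE 100 t_V57 = true := (okE_cons.2 ⟨t_g52_ok, (okE_cons.2 ⟨t_g53_ok, (okE_cons.2 ⟨t_g54_ok, (okE_nil 100)⟩)⟩)⟩)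

noncomputable def t_V58 : List Net := [t_g53, t_g54]

theorem t_V58_ok : okE 100 t_V58 = true := (okE_cons.2 ⟨t_g53_ok, (okE_cons.2 ⟨t_g54_ok, (okE_nil 100)⟩)⟩)

noncomputable def t_V59 : List Net := [t_g54]

theorem t_V59_ok : okE 100 t_V59 = true := (okE_cons.2 ⟨t_g54_ok, (okE_nil 100)⟩)

noncomputable def t_V60 : List Net := []

theorem t_V60_ok : okE 100 t_V60 = true := (okE_nil 100)

noncomputable def ht_c3_cnt_EG : List Net := [HSM.g1, HSM.g2, HSM.g3, HSM.g4, HSM.g7, HSM.g8, HSM.g11, HSM.g12, HSM.g13, HSM.g16, t_g53, t_g54, t_g52, t_g51]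

theorem ht_c3_cnt_EG_ok : okE 100 ht_c3_cnt_EG = true := (okE_cons.2 ⟨HSM.g1_ok, (okE_cons.2 ⟨HSM.g2_ok, (okE_cons.2 ⟨HSM.g3_ok, (okE_cons.2 ⟨HSM.g4_ok, (okE_cons.2 ⟨HSM.g7_ok, (okE_cons.2 ⟨HSM.g8_ok, (okE_cons.2 ⟨HSM.g11_ok, (okE_cons.2 ⟨HSM.g12_ok, (okE_cons.2 ⟨HSM.g13_ok, (okE_cons.2 ⟨HSM.g16_ok, (okE_cons.2 ⟨t_g53_ok, (okE_cons.2 ⟨t_g54_ok, (okE_cons.2 ⟨t_g52_ok, (okE_cons.2 ⟨t_g51_ok, (okE_nil 100)⟩)⟩)⟩)⟩)⟩)⟩)⟩)⟩)⟩)⟩)⟩)⟩)⟩)⟩)

noncomputable def t_g61 : Net := (Net.cons (nat_lit 1) (nat_lit 0x1010440504055450514145100) (Net.cons (nat_lit 2) (nat_lit 0x3302023003211323303332000) (Net.cons (nat_lit 4) (nat_lit 0x3020e03040a0e070b0e0900) (Net.cons (nat_lit 8) (nat_lit 0xb0000a00510028005b0000) (Net.cons (nat_lit 16) (nat_lit 0x80450000884100000003) (Net.cons (nat_lit 32) (nat_lit 0x7224a050) (Net.cons (nat_lit 64) (nat_lit 0x37a74b579) (Net.cons (nat_lit 32) (nat_lit 0xf00000000320559d7) (Net.cons (nat_lit 16)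 (nat_lit 0x7beb000031000000143d) (Net.cons (nat_lit 8) (nat_lit 0xcd00c80084000c00a500d0) (Net.cons (nat_lit 4) (nat_lit 0xd05060c0608080509020d02) (Net.cons (nat_lit 2) (nat_lit 0x3200003113120101021110221) (Net.cons (nat_lit 1) (nat_lit 0x1550115141404044554405141) Net.nil)))))))))))))

theorem t_g61_ok : Net.ok 100 t_g61 = true := by decide +kernel

noncomputable def t_g62 : Net := (Net.cons (nat_lit 1) (nat_lit 0x4044100415555101500414104) (Net.cons (nat_lit 2) (nat_lit 0x2121212111302111020311300) (Net.cons (nat_lit 4) (nat_lit 0xa0c0502080c040401090106) (Net.cons (nat_lit 8) (nat_lit 0xa000cc000b001100ab0000) (Net.cons (nat_lit 16) (nat_lit 0xd84e0000147c0000000a) (Net.cons (nat_lit 32) (nat_lit 0x500000000040951f0) (Net.cons (nat_lit 64) (nat_lit 0x6acd957f3) (Net.cons (nat_lit 32) (nat_lit 0xa0000000046fa25be) (Net.cons (nat_lit 16) (nat_lit 0xd22e000055240000bb59) (Net.cons (nat_lit 8) (nat_lit 0x8f00be00f7002d00930017)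 (Net.cons (nat_lit 4) (nat_lit 0xd0d0c080402050802010908) (Net.cons (nat_lit 2) (nat_lit 0x1033123102120031310332101) (Net.cons (nat_lit 1) (nat_lit 0x1504441414045544450455405) Net.nil)))))))))))))

theorem t_g62_ok : Net.ok 100 t_g62 = true := by decide +kernel

noncomputable def t_g63 : Net := (Net.cons (nat_lit 1) (nat_lit 0x500000154411015015110510) (Net.cons (nat_lit 2) (nat_lit 0x220122300132131323322000) (Net.cons (nat_lit 4) (nat_lit 0xa05060f010b02070d04080a) (Net.cons (nat_lit 8) (nat_lit 0x8000cc00f300c100850000) (Net.cons (nat_lit 16) (nat_lit 0x85a60000071b00000000) (Net.cons (nat_lit 32) (nat_lit 0x4000000009c60a040) (Net.cons (nat_lit 64) (nat_lit 0xf9ef6b94b) (Net.cons (nat_lit 32) (nat_lit 0x7000000001fa08412) (Net.cons (nat_lit 16) (nat_lit 0x5c9c00006b100000fe36) (Net.cons (nat_lit 8) (nat_lit 0x1600dc005b00bd0045009f) (Net.cons (nat_lit 4) (nat_lit 0x20d0a0e0a0e0e0b0f000f00) (Net.cons (nat_lit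 2) (nat_lit 0x2301010222313213102102033) (Net.cons (nat_lit 1) (nat_lit 0x150504145054104411415145) Net.nil)))))))))))))

theorem t_g63_ok : Net.ok 100 t_g63 = true := by decide +kernel

noncomputable def t_g64 : Net := (Net.cons (nat_lit 1) (nat_lit 0x4110014001414000401541100) (Net.cons (nat_lit 2) (nat_lit 0x233303313333220020023120) (Net.cons (nat_lit 4) (nat_lit 0x40609070c0002020e080905) (Net.cons (nat_lit 8) (nat_lit 0x150012007300ba00180002) (Net.cons (nat_lit 16) (nat_lit 0x66600000900200000005) (Net.cons (nat_lit 32) (nat_lit 0x8000000003341c020) (Net.cons (nat_lit 64) (nat_lit 0xffb43d4a4) (Net.cons (nat_lit 32) (nat_lit 0xf000000008514e4ea) (Net.cons (nat_lit 16) (nat_lit 0x33ca00006551000091f1) (Net.cons (nat_lit 8) (nat_lit 0xf00fc00260069001b00c0) (Net.cons (nat_lit 4) (nat_lit 0x50a0d0301000703090f0f07) (Net.cons (nat_lit 2) (nat_lit 0x1233103123023131132022331) (Net.cons (nat_lit 1) (nat_lit 0x5055405001150115401015004)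 Net.nil)))))))))))))

theorem t_g64_ok : Net.ok 100 t_g64 = true := by decide +kernel

noncomputable def t_g65 : Net := (Net.cons (nat_lit 1) (nat_lit 0x1501444400111405401010150) (Net.cons (nat_lit 2) (nat_lit 0x2033321212011313222133110) (Net.cons (nat_lit 4) (nat_lit 0x20c0c0f09030e0905000203) (Net.cons (nat_lit 8) (nat_lit 0x2a0071006500c4009c0002) (Net.cons (nat_lit 16) (nat_lit 0x162c00008c0500000000) (Net.cons (nat_lit 32) (nat_lit 0x9000000000a0d1080) (Net.cons (nat_lit 64) (nat_lit 0xa0e1d52b1) (Net.cons (nat_lit 32) (nat_lit 0x200000000df0d387c) (Net.cons (nat_lit 16) (nat_lit 0x4d400002d1900003448) (Net.cons (nat_lit 8) (nat_lit 0x8a00d5002500a300d00076) (Net.cons (nat_lit 4) (nat_lit 0x1080c0908020e0b0200010b) (Net.cons (nat_lit 2) (nat_lit 0x1123323113230230030210) (Net.cons (nat_lit 1) (nat_lit 0x1411004111115545041101445) Net.nil)))))))))))))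

theorem t_g65_ok : Net.ok 100 t_g65 = true := by decide +kernel

noncomputable def ht_c4_K : List Net := [t_g62, t_g63, t_g64, t_g65]

theorem ht_c4_K_ok : okE 100 ht_c4_K = true := (okE_cons.2 ⟨t_g62_ok, (okE_cons.2 ⟨t_g63_ok, (okE_cons.2 ⟨t_g64_ok, (okE_cons.2 ⟨t_g65_ok, (okE_nil 100)⟩)⟩)⟩)⟩)

noncomputable def t_g67 : Net := (Net.cons (nat_lit 1) (nat_lit 0x44505544005150000444410) (Net.cons (nat_lit 2) (nat_lit 0x12100011023002030302100) (Net.cons (nat_lit 4) (nat_lit 0xc0008050a0a050a010c0408) (Net.cons (nat_lit 8) (nat_lit 0x9007800aa0073006f0006) (Net.cons (nat_lit 16) (nat_lit 0x1f80000835600000005) (Net.cons (nat_lit 32) (nat_lit 0x4000000004940b810) (Net.cons (nat_lit 64) (nat_lit 0xa6bd2fc3d) (Net.cons (nat_lit 32) (nat_lit 0x70000000030422674) (Net.cons (nat_lit 16) (nat_lit 0x53c900004f2e0000e301) (Net.cons (nat_lit 8) (nat_lit 0xb900ef00e600ea00760076) (Net.cons (nat_lit 4) (nat_lit 0xa0404080f0d000802060c0e)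 (Net.cons (nat_lit 2) (nat_lit 0x202322111012120013112030) (Net.cons (nat_lit 1) (nat_lit 0x5144515054155514040051410) Net.nil)))))))))))))

theorem t_g67_ok : Net.ok 100 t_g67 = true := by decide +kernel

noncomputable def t_g68 : Net := (Net.cons (nat_lit 1) (nat_lit 0x1444004514114505405010000) (Net.cons (nat_lit 2) (nat_lit 0x2330110133322332010100100) (Net.cons (nat_lit 4) (nat_lit 0xd0f0d040104050401090400) (Net.cons (nat_lit 8) (nat_lit 0x240004003c00cc001d0000) (Net.cons (nat_lit 16) (nat_lit 0xb78900006c1800000007) (Net.cons (nat_lit 32) (nat_lit 0xb0000000084a51000) (Net.cons (nat_lit 64) (nat_lit 0xcaeb59107) (Net.cons (nat_lit 32) (nat_lit 0xb0000000085af6dd0) (Net.cons (nat_lit 16) (nat_lit 0xf7c900002c5800000027) (Net.cons (nat_lit 8) (nat_lit 0x660054007c00ac005d0040) (Net.cons (nat_lit 4) (nat_lit 0xc0f0f060104040503090500) (Net.cons (nat_lit 2) (nat_lit 0x2330110133322332010100100) (Net.cons (nat_lit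 1) (nat_lit 0x1444044514114505405010000) Net.nil)))))))))))))

theorem t_g68_ok : Net.ok 100 t_g68 = true := by decide +kernel

noncomputable def t_g69 : Net := (Net.cons (nat_lit 1) (nat_lit 0x4054014150010540544400444) (Net.cons (nat_lit 2) (nat_lit 0x333130133202232120133320) (Net.cons (nat_lit 4) (nat_lit 0x10e0d000c01090a0b080001) (Net.cons (nat_lit 8) (nat_lit 0xf70000002b0002004e0001) (Net.cons (nat_lit 16) (nat_lit 0x606000006c0700000004) (Net.cons (nat_lit 32) (nat_lit 0x2000000002b2c1000) (Net.cons (nat_lit 64) (nat_lit 0xe3bfed76d) (Net.cons (nat_lit 32) (nat_lit 0x30000000051248745) (Net.cons (nat_lit 16) (nat_lit 0x3bde00006a250000ce04) (Net.cons (nat_lit 8) (nat_lit 0xfc006000a9004300390009) (Net.cons (nat_lit 4) (nat_lit 0x20d0a0c0d01030e0e000001) (Net.cons (nat_lit 2) (nat_lit 0x3223013320102222101131212) (Net.cons (nat_lit 1) (nat_lit 0x4510045110510010515044404) Net.nil)))))))))))))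

theorem t_g69_ok : Net.ok 100 t_g69 = true := by decide +kernel

noncomputable def t_V70 : List Net := [t_g67, t_g68, t_g69]

theorem t_V70_ok : okE 100 t_V70 = true := (okE_cons.2 ⟨t_g67_ok, (okE_cons.2 ⟨t_g68_ok, (okE_cons.2 ⟨t_g69_ok, (okE_nil 100)⟩)⟩)⟩)

noncomputable def t_V72 : List Net := [t_g68, t_g69]

theorem t_V72_ok : okE 100 t_V72 = true := (okE_cons.2 ⟨t_g68_ok, (okE_cons.2 ⟨t_g69_ok, (okE_nil 100)⟩)⟩)

noncomputable def t_V73 : List Net := [t_g69]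

theorem t_V73_ok : okE 100 t_V73 = true := (okE_cons.2 ⟨t_g69_ok, (okE_nil 100)⟩)

noncomputable def t_V74 : List Net := []

theorem t_V74_ok : okE 100 t_V74 = true := (okE_nil 100)

noncomputable def ht_c4_cnt_EG : List Net := [HSM.g1, HSM.g2, HSM.g3, HSM.g4, HSM.g7, HSM.g8, HSM.g11, HSM.g12, HSM.g13, HSM.g16, t_g51, t_g52, t_g53, t_g54, t_g68, t_g69, t_g67]

theorem ht_c4_cnt_EG_ok : okE 100 ht_c4_cnt_EG = true := (okE_cons.2 ⟨HSM.g1_ok, (okE_cons.2 ⟨HSM.g2_ok, (okE_cons.2 ⟨HSM.g3_ok, (okE_cons.2 ⟨HSM.g4_ok, (okE_cons.2 ⟨HSM.g7_ok, (okE_cons.2 ⟨HSM.g8_ok, (okE_cons.2 ⟨HSM.g11_ok, (okE_cons.2 ⟨HSM.g12_ok, (okE_cons.2 ⟨HSM.g13_ok, (okE_cons.2 ⟨HSM.g16_ok, (okE_cons.2 ⟨t_g51_ok, (okE_cons.2 ⟨t_g52_ok, (okE_cons.2 ⟨t_g53_ok, (okE_cons.2 ⟨t_g54_ok, (okE_cons.2 ⟨t_g68_ok, (okE_cons.2 ⟨t_g69_ok, (okE_cons.2 ⟨t_g67_ok, (okE_nil 100)⟩)⟩)⟩)⟩)⟩)⟩)⟩)⟩)⟩)⟩)⟩)⟩)⟩)⟩)⟩)⟩)⟩)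

noncomputable def t_g75 : Net := (Net.cons (nat_lit 1) (nat_lit 0x5115010400114404505055500) (Net.cons (nat_lit 2) (nat_lit 0x3031001010102300020333000) (Net.cons (nat_lit 4) (nat_lit 0x205030b0806080a0f010708) (Net.cons (nat_lit 8) (nat_lit 0xde00a400380040004c0001) (Net.cons (nat_lit 16) (nat_lit 0x64090000000700000009) (Net.cons (nat_lit 32) (nat_lit 0x82380040) (Net.cons (nat_lit 64) (nat_lit 0xdce7ba6e1) (Net.cons (nat_lit 32) (nat_lit 0xf000000001776c041) (Net.cons (nat_lit 16) (nat_lit 0x7620000628400007d21) (Net.cons (nat_lit 8) (nat_lit 0x4300a100230000004000ac) (Net.cons (nat_lit 4) (nat_lit 0x40907010c00010a0e070404) (Net.cons (nat_lit 2) (nat_lit 0x203001103200102020333311) (Net.cons (nat_lit 1) (nat_lit 0x541140511114405514441414) Net.nil)))))))))))))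

theorem t_g75_ok : Net.ok 100 t_g75 = true := by decide +kernel

noncomputable def t_g76 : Net := (Net.cons (nat_lit 1) (nat_lit 0x550501515444515055055004) (Net.cons (nat_lit 2) (nat_lit 0x130012311013121231001120) (Net.cons (nat_lit 4) (nat_lit 0x50b05060a0a0a02090f0b) (Net.cons (nat_lit 8) (nat_lit 0x1000380014003d00400009) (Net.cons (nat_lit 16) (nat_lit 0x56d1000022c500000001) (Net.cons (nat_lit 32) (nat_lit 0x30e90200) (Net.cons (nat_lit 64) (nat_lit 0xe75ff6b91) (Net.cons (nat_lit 32) (nat_lit 0x1000000002ca4411d) (Net.cons (nat_lit 16) (nat_lit 0x20860000f4970000fdea) (Net.cons (nat_lit 8) (nat_lit 0x5700770058008f002900d5) (Net.cons (nat_lit 4) (nat_lit 0x504020d0d07030b010e0107) (Net.cons (nat_lit 2) (nat_lit 0x2110012120012013322111321) (Net.cons (nat_lit 1) (nat_lit 0x5114054054440410000551410) Net.nil)))))))))))))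

theorem t_g76_ok : Net.ok 100 t_g76 = true := by decide +kernel

noncomputable def t_g77 : Net := (Net.cons (nat_lit 1) (nat_lit 0x110110555511044511155140) (Net.cons (nat_lit 2) (nat_lit 0x2103100121020323000121210) (Net.cons (nat_lit 4) (nat_lit 0xa070d01060c000b02060400) (Net.cons (nat_lit 8) (nat_lit 0xc900450055003300650008) (Net.cons (nat_lit 16) (nat_lit 0x456b0000380500000007) (Net.cons (nat_lit 32) (nat_lit 0xb000000009514c140) (Net.cons (nat_lit 64) (nat_lit 0x19d37c56e) (Net.cons (nat_lit 32) (nat_lit 0x600000000e18d4e3f) (Net.cons (nat_lit 16) (nat_lit 0x956e00005e090000859e) (Net.cons (nat_lit 8) (nat_lit 0xa900cb00d4002c007900b6) (Net.cons (nat_lit 4) (nat_lit 0x200050c0d0906090709060a) (Net.cons (nat_lit 2) (nat_lit 0x1112202310231320100120023) (Net.cons (nat_lit 1) (nat_lit 0x500554154401405414015050) Net.nil)))))))))))))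

theorem t_g77_ok : Net.ok 100 t_g77 = true := by decide +kernel

noncomputable def t_g78 : Net := (Net.cons (nat_lit 1) (nat_lit 0x1055115040444451550101044) (Net.cons (nat_lit 2) (nat_lit 0x2300113231133020221102130) (Net.cons (nat_lit 4) (nat_lit 0x3040109050c090a01020204) (Net.cons (nat_lit 8) (nat_lit 0x7b004300fc007800a50005) (Net.cons (nat_lit 16) (nat_lit 0xe90e0000358600000006) (Net.cons (nat_lit 32) (nat_lit 0x30000000090044000) (Net.cons (nat_lit 64) (nat_lit 0xfe06d1fb) (Net.cons (nat_lit 32) (nat_lit 0xf0000000016c9eb53) (Net.cons (nat_lit 16) (nat_lit 0x71b700004cc90000930b) (Net.cons (nat_lit 8) (nat_lit 0xed008300b20053006e0049) (Net.cons (nat_lit 4) (nat_lit 0x90405060705070302050708) (Net.cons (nat_lit 2) (nat_lit 0x320332131123303332333100) (Net.cons (nat_lit 1) (nat_lit 0x4011515510514415141411150) Net.nil)))))))))))))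

theorem t_g78_ok : Net.ok 100 t_g78 = true := by decide +kernel

noncomputable def t_g79 : Net := (Net.cons (nat_lit 1) (nat_lit 0x1550140151005100005010500) (Net.cons (nat_lit 2) (nat_lit 0x3310200020300002211200) (Net.cons (nat_lit 4) (nat_lit 0x6020e0e00090b0b00000c08) (Net.cons (nat_lit 8) (nat_lit 0x2c0091008e00410004000c) (Net.cons (nat_lit 16) (nat_lit 0x328d0000034100000007) (Net.cons (nat_lit 32) (nat_lit 0x4c1201c0) (Net.cons (nat_lit 64) (nat_lit 0xb5e3235ce) (Net.cons (nat_lit 32) (nat_lit 0xd000000005d520be9) (Net.cons (nat_lit 16) (nat_lit 0xb78c0000a34100000c43) (Net.cons (nat_lit 8) (nat_lit 0x2900ac009f000000510088) (Net.cons (nat_lit 4) (nat_lit 0x6030e0e01090b0b04010c09) (Net.cons (nat_lit 2) (nat_lit 0x1003200310031201013311200) (Net.cons (nat_lit 1) (nat_lit 0x1550140151005000004010540) Net.nil)))))))))))))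

theorem t_g79_ok : Net.ok 100 t_g79 = true := by decide +kernel

noncomputable def t_g80 : Net := (Net.cons (nat_lit 1) (nat_lit 0x4404500145000040150545500) (Net.cons (nat_lit 2) (nat_lit 0x3020232321032002320013000) (Net.cons (nat_lit 4) (nat_lit 0xa060606070c00020a000001) (Net.cons (nat_lit 8) (nat_lit 0x8e00830029000200c40000) (Net.cons (nat_lit 16) (nat_lit 0x1c0000854000000004) (Net.cons (nat_lit 32) (nat_lit 0x1000000000ab055a0) (Net.cons (nat_lit 64) (nat_lit 0x6aff27faf) (Net.cons (nat_lit 32) (nat_lit 0x5000000000af49784) (Net.cons (nat_lit 16) (nat_lit 0x607d0000975000004046) (Net.cons (nat_lit 8) (nat_lit 0xce00d30039005a00ae0072) (Net.cons (nat_lit 4) (nat_lit 0x804040c050c000008030203) (Net.cons (nat_lit 2) (nat_lit 0x3020232321032002320013000) (Net.cons (nat_lit 1) (nat_lit 0x4404500145000040150545500) Net.nil)))))))))))))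

theorem t_g80_ok : Net.ok 100 t_g80 = true := by decide +kernel

noncomputable def ht_c5_K : List Net := [t_g76, t_g77, t_g78, t_g79, t_g80]

theorem ht_c5_K_ok : okE 100 ht_c5_K = true := (okE_cons.2 ⟨t_g76_ok, (okE_cons.2 ⟨t_g77_ok, (okE_cons.2 ⟨t_g78_ok, (okE_cons.2 ⟨t_g79_ok, (okE_cons.2 ⟨t_g80_ok, (okE_nil 100)⟩)⟩)⟩)⟩)⟩)

noncomputable def t_g82 : Net := (Net.cons (nat_lit 1) (nat_lit 0x1510405111010445141554000) (Net.cons (nat_lit 2) (nat_lit 0x3303320110202233030111000) (Net.cons (nat_lit 4) (nat_lit 0xc0909090b05040001070c05) (Net.cons (nat_lit 8) (nat_lit 0x47003a00d5008800b70000) (Net.cons (nat_lit 16) (nat_lit 0x267200006c1100000000) (Net.cons (nat_lit 32) (nat_lit 0x80000000073089100) (Net.cons (nat_lit 64) (nat_lit 0xff37afdc4) (Net.cons (nat_lit 32) (nat_lit 0x600000000c274eea5) (Net.cons (nat_lit 16) (nat_lit 0xba700000157e0000ad84) (Net.cons (nat_lit 8) (nat_lit 0x61009400600007005f0065) (Net.cons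 (nat_lit 4) (nat_lit 0x40d04070208000504080c05) (Net.cons (nat_lit 2) (nat_lit 0x213313131330312101320030) (Net.cons (nat_lit 1) (nat_lit 0x1444505105540414504004550) Net.nil)))))))))))))

theorem t_g82_ok : Net.ok 100 t_g82 = true := by decide +kernel

noncomputable def t_g83 : Net := (Net.cons (nat_lit 1) (nat_lit 0x5111155401144040141110) (Net.cons (nat_lit 2) (nat_lit 0x12111031132122033220200) (Net.cons (nat_lit 4) (nat_lit 0xa0e0c05010b0e01080c0000) (Net.cons (nat_lit 8) (nat_lit 0x5d008e00130082002d0000) (Net.cons (nat_lit 16) (nat_lit 0x96c2000038a90000000a) (Net.cons (nat_lit 32) (nat_lit 0x10000000047683180) (Net.cons (nat_lit 64) (nat_lit 0xfe769bdae) (Net.cons (nat_lit 32) (nat_lit 0x10000000082090f4a) (Net.cons (nat_lit 16) (nat_lit 0x30cc00005b010000e15a) (Net.cons (nat_lit 8) (nat_lit 0xde00b3001a005b000600a4) (Net.cons (nat_lit 4) (nat_lit 0xd0a020d0004020e010a04) (Net.cons (nat_lit 2) (nat_lit 0x2212111033110223332221000)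 (Net.cons (nat_lit 1) (nat_lit 0x4401455055440010051451150) Net.nil)))))))))))))

theorem t_g83_ok : Net.ok 100 t_g83 = true := by decide +kernel

noncomputable def t_g84 : Net := (Net.cons (nat_lit 1) (nat_lit 0x1005540101004010044101000) (Net.cons (nat_lit 2) (nat_lit 0x3133102302223012332100000) (Net.cons (nat_lit 4) (nat_lit 0xc0d010501040e09060000) (Net.cons (nat_lit 8) (nat_lit 0xc6000d004800a300220001) (Net.cons (nat_lit 16) (nat_lit 0x7104000019c000000006) (Net.cons (nat_lit 32) (nat_lit 0xf0000000000650400) (Net.cons (nat_lit 64) (nat_lit 0x8dd6da447) (Net.cons (nat_lit 32) (nat_lit 0xf0000000043b45e00) (Net.cons (nat_lit 16) (nat_lit 0x725500007ec500004266) (Net.cons (nat_lit 8) (nat_lit 0xc70068004d00a300630001) (Net.cons (nat_lit 4) (nat_lit 0xc09010d01020709060000) (Net.cons (nat_lit 2) (nat_lit 0x3133102303223003232110000) (Net.cons (nat_lit 1) (nat_lit 0x1405500101004011144101000) Net.nil)))))))))))))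

theorem t_g84_ok : Net.ok 100 t_g84 = true := by decide +kernel

noncomputable def t_g85 : Net := (Net.cons (nat_lit 1) (nat_lit 0x4100505000045511150400500) (Net.cons (nat_lit 2) (nat_lit 0x2032221031200300000000200) (Net.cons (nat_lit 4) (nat_lit 0x80000050a02040008000a00) (Net.cons (nat_lit 8) (nat_lit 0xb00b000360009009a0004) (Net.cons (nat_lit 16) (nat_lit 0x2c0e000002240000000a) (Net.cons (nat_lit 32) (nat_lit 0x614c8110) (Net.cons (nat_lit 64) (nat_lit 0xae14d8d1a) (Net.cons (nat_lit 32) (nat_lit 0x600000000e1cc0332) (Net.cons (nat_lit 16) (nat_lit 0xae2e00009e250000811e) (Net.cons (nat_lit 8) (nat_lit 0x5b00f500760009009a00a4) (Net.cons (nat_lit 4) (nat_lit 0x8000d010a02060108020a00) (Net.cons (nat_lit 2) (nat_lit 0x2032231131000302100100020) (Net.cons (nat_lit 1) (nat_lit 0x4100505000045511150400500) Net.nil)))))))))))))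

theorem t_g85_ok : Net.ok 100 t_g85 = true := by decide +kernel

noncomputable def t_V86 : List Net := [t_g82, t_g83, t_g84, t_g85]

theorem t_V86_ok : okE 100 t_V86 = true := (okE_cons.2 ⟨t_g82_ok, (okE_cons.2 ⟨t_g83_ok, (okE_cons.2 ⟨t_g84_ok, (okE_cons.2 ⟨t_g85_ok, (okE_nil 100)⟩)⟩)⟩)⟩)

noncomputable def t_V88 : List Net := [t_g83, t_g84, t_g85]

theorem t_V88_ok : okE 100 t_V88 = true := (okE_cons.2 ⟨t_g83_ok, (okE_cons.2 ⟨t_g84_ok, (okE_cons.2 ⟨t_g85_ok, (okE_nil 100)⟩)⟩)⟩)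

noncomputable def t_V89 : List Net := [t_g84, t_g85]

theorem t_V89_ok : okE 100 t_V89 = true := (okE_cons.2 ⟨t_g84_ok, (okE_cons.2 ⟨t_g85_ok, (okE_nil 100)⟩)⟩)

noncomputable def t_V90 : List Net := [t_g85]

theorem t_V90_ok : okE 100 t_V90 = true := (okE_cons.2 ⟨t_g85_ok, (okE_nil 100)⟩)

noncomputable def t_V91 : List Net := []

theorem t_V91_ok : okE 100 t_V91 = true := (okE_nil 100)

noncomputable def ht_c5_cnt_EG : List Net := [HSM.g1, HSM.g2, HSM.g3, HSM.g4, HSM.g7, HSM.g8, HSM.g11, HSM.g12, HSM.g13, HSM.g16, t_g83, t_g84, t_g85, t_g82]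

theorem ht_c5_cnt_EG_ok : okE 100 ht_c5_cnt_EG = true := (okE_cons.2 ⟨HSM.g1_ok, (okE_cons.2 ⟨HSM.g2_ok, (okE_cons.2 ⟨HSM.g3_ok, (okE_cons.2 ⟨HSM.g4_ok, (okE_cons.2 ⟨HSM.g7_ok, (okE_cons.2 ⟨HSM.g8_ok, (okE_cons.2 ⟨HSM.g11_ok, (okE_cons.2 ⟨HSM.g12_ok, (okE_cons.2 ⟨HSM.g13_ok, (okE_cons.2 ⟨HSM.g16_ok, (okE_cons.2 ⟨t_g83_ok, (okE_cons.2 ⟨t_g84_ok, (okE_cons.2 ⟨t_g85_ok, (okE_cons.2 ⟨t_g82_ok, (okE_nil 100)⟩)⟩)⟩)⟩)⟩)⟩)⟩)⟩)⟩)⟩)⟩)⟩)⟩)⟩)

noncomputable def t_g92 : Net := (Net.cons (nat_lit 1) (nat_lit 0x4540141015005405541011510) (Net.cons (nat_lit 2) (nat_lit 0x2203013311111111121302030) (Net.cons (nat_lit 4) (nat_lit 0x2020c010705060908030801) (Net.cons (nat_lit 8) (nat_lit 0x6008800fa00ca00e40008) (Net.cons (nat_lit 16) (nat_lit 0x2a2e0000cccd00000004) (Net.cons (nat_lit 32) (nat_lit 0x40000000000870040) (Net.cons (nat_lit 64) (nat_lit 0x23e8750fc) (Net.cons (nat_lit 32) (nat_lit 0xf00000000b3fc4e54) (Net.cons (nat_lit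 16) (nat_lit 0x57f90000c20400006413) (Net.cons (nat_lit 8) (nat_lit 0xc90098002300100003009a) (Net.cons (nat_lit 4) (nat_lit 0xb0d0a090a0c02000b040f0a) (Net.cons (nat_lit 2) (nat_lit 0x3213101230221220123201112) (Net.cons (nat_lit 1) (nat_lit 0x100540055555155051544154) Net.nil)))))))))))))

theorem t_g92_ok : Net.ok 100 t_g92 = true := by decide +kernel

noncomputable def t_g93 : Net := (Net.cons (nat_lit 1) (nat_lit 0x104004401055501401144150) (Net.cons (nat_lit 2) (nat_lit 0x1111232331130112231200000) (Net.cons (nat_lit 4) (nat_lit 0x9000e070a0d0203050a0400) (Net.cons (nat_lit 8) (nat_lit 0xb700460065000300440001) (Net.cons (nat_lit 16) (nat_lit 0x4809000022c800000000) (Net.cons (nat_lit 32) (nat_lit 0x4801640) (Net.cons (nat_lit 64) (nat_lit 0xbccfbbf5b) (Net.cons (nat_lit 32) (nat_lit 0x5000000000d0a3131) (Net.cons (nat_lit 16) (nat_lit 0x6788000020e5000044d3) (Net.cons (nat_lit 8) (nat_lit 0x7c00c600c50016000500d8)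 (Net.cons (nat_lit 4) (nat_lit 0xe0b030a00050d000e0f0e07) (Net.cons (nat_lit 2) (nat_lit 0x3332210131113112133223301) (Net.cons (nat_lit 1) (nat_lit 0x101040410405010144110554) Net.nil)))))))))))))

theorem t_g93_ok : Net.ok 100 t_g93 = true := by decide +kernel

noncomputable def t_g94 : Net := (Net.cons (nat_lit 1) (nat_lit 0x5105454414444415100111410) (Net.cons (nat_lit 2) (nat_lit 0x1321233212020131311231010) (Net.cons (nat_lit 4) (nat_lit 0x8030c0b0207040705090504) (Net.cons (nat_lit 8) (nat_lit 0xe50021005c00c20078000c) (Net.cons (nat_lit 16) (nat_lit 0xb8a50000510d00000004) (Net.cons (nat_lit 32) (nat_lit 0x44438120) (Net.cons (nat_lit 64) (nat_lit 0x674df8bb0) (Net.cons (nat_lit 32) (nat_lit 0x900000000a3c49728) (Net.cons (nat_lit 16) (nat_lit 0x47b30000b2ea00000c73) (Net.cons (nat_lit 8) (nat_lit 0xe300c00023002500f8000a) (Net.cons (nat_lit 4) (nat_lit 0x805020d0d070b0703010302) (Net.cons (nat_lit 2) (nat_lit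 0x1021200212323101011201313) (Net.cons (nat_lit 1) (nat_lit 0x4440001001111144451444105) Net.nil)))))))))))))

theorem t_g94_ok : Net.ok 100 t_g94 = true := by decide +kernel

noncomputable def t_g95 : Net := (Net.cons (nat_lit 1) (nat_lit 0x4154554551454410111000100) (Net.cons (nat_lit 2) (nat_lit 0x213211313023201230232100) (Net.cons (nat_lit 4) (nat_lit 0xc010205000c0c0f09010802) (Net.cons (nat_lit 8) (nat_lit 0x5800ca00d3004d0016000c) (Net.cons (nat_lit 16) (nat_lit 0xdc420000024d00000001) (Net.cons (nat_lit 32) (nat_lit 0x700000000d4002040) (Net.cons (nat_lit 64) (nat_lit 0xadcf92675) (Net.cons (nat_lit 32) (nat_lit 0x900000000fcee13b9) (Net.cons (nat_lit 16) (nat_lit 0xfb740000236c00000194) (Net.cons (nat_lit 8) (nat_lit 0x55008e001e000c005f00c5) (Net.cons (nat_lit 4) (nat_lit 0x50a040f0106080e0e0d040a) (Net.cons (nat_lit 2) (nat_lit 0x101102300233121002133101) (Net.cons (nat_lit 1) (nat_lit 0x4555141554104014410050141)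 Net.nil)))))))))))))

theorem t_g95_ok : Net.ok 100 t_g95 = true := by decide +kernel

noncomputable def t_g96 : Net := (Net.cons (nat_lit 1) (nat_lit 0x4554510510415104404005100) (Net.cons (nat_lit 2) (nat_lit 0x2332022212200201310123000) (Net.cons (nat_lit 4) (nat_lit 0x90606000808000c020a0a01) (Net.cons (nat_lit 8) (nat_lit 0x700760000008200800000) (Net.cons (nat_lit 16) (nat_lit 0x8ed90000860a00000009) (Net.cons (nat_lit 32) (nat_lit 0x40000000008d88620) (Net.cons (nat_lit 64) (nat_lit 0x31fdabe77) (Net.cons (nat_lit 32) (nat_lit 0xd00000000ea8884f9) (Net.cons (nat_lit 16) (nat_lit 0x1c0b0000845a0000125b) (Net.cons (nat_lit 8) (nat_lit 0xa700f60080008200800001) (Net.cons (nat_lit 4) (nat_lit 0xd0606000908000c020a0e01) (Net.cons (nat_lit 2) (nat_lit 0x2332022212200201310123000) (Net.cons (nat_lit 1) (nat_lit 0x4554510510415504404005100) Net.nil)))))))))))))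

theorem t_g96_ok : Net.ok 100 t_g96 = true := by decide +kernel

noncomputable def t_g97 : Net := (Net.cons (nat_lit 1) (nat_lit 0x540445515510014054044500) (Net.cons (nat_lit 2) (nat_lit 0x2132030300330020133000000) (Net.cons (nat_lit 4) (nat_lit 0x7020c00070c0108090e0804) (Net.cons (nat_lit 8) (nat_lit 0x40004f00820044009d0000) (Net.cons (nat_lit 16) (nat_lit 0x8dea0000556e00000000) (Net.cons (nat_lit 32) (nat_lit 0x21195660) (Net.cons (nat_lit 64) (nat_lit 0x679bfdf66) (Net.cons (nat_lit 32) (nat_lit 0x1000000006c9315a1) (Net.cons (nat_lit 16) (nat_lit 0x46800001c660000ad5a) (Net.cons (nat_lit 8) (nat_lit 0x8000c500ca004e00d5000a) (Net.cons (nat_lit 4) (nat_lit 0xf030c000f0d010c01020c04) (Net.cons (nat_lit 2) (nat_lit 0x2132030300330020133000000) (Net.cons (nat_lit 1) (nat_lit 0x540545415450014054004104) Net.nil)))))))))))))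

theorem t_g97_ok : Net.ok 100 t_g97 = true := by decide +kernel

noncomputable def ht_c6_K : List Net := [t_g93, t_g94, t_g92, t_g95, t_g96, t_g97]

theorem ht_c6_K_ok : okE 100 ht_c6_K = true := (okE_cons.2 ⟨t_g93_ok, (okE_cons.2 ⟨t_g94_ok, (okE_cons.2 ⟨t_g92_ok, (okE_cons.2 ⟨t_g95_ok, (okE_cons.2 ⟨t_g96_ok, (okE_cons.2 ⟨t_g97_ok, (okE_nil 100)⟩)⟩)⟩)⟩)⟩)⟩)

noncomputable def t_g99 : Net := (Net.cons (nat_lit 1) (nat_lit 0x105540110010515054500000) (Net.cons (nat_lit 2) (nat_lit 0x3033110020310213303002100) (Net.cons (nat_lit 4) (nat_lit 0x8070208070c04060b040a09) (Net.cons (nat_lit 8) (nat_lit 0x7200930094001a00080003) (Net.cons (nat_lit 16) (nat_lit 0x3460000f36600000008) (Net.cons (nat_lit 32) (nat_lit 0x90000000060228310) (Net.cons (nat_lit 64) (nat_lit 0xa6eb3e375) (Net.cons (nat_lit 32) (nat_lit 0x8c28ba56) (Net.cons (nat_lit 16) (nat_lit 0xa5ee0000dbd10000710b) (Net.cons (nat_lit 8) (nat_lit 0xdd00bb003600f4000f0023)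 (Net.cons (nat_lit 4) (nat_lit 0xa0c08060c03000c0c060a0d) (Net.cons (nat_lit 2) (nat_lit 0x3112211303130313212333120) (Net.cons (nat_lit 1) (nat_lit 0x5540115510014144501000) Net.nil)))))))))))))

theorem t_g99_ok : Net.ok 100 t_g99 = true := by decide +kernel

noncomputable def t_g100 : Net := (Net.cons (nat_lit 1) (nat_lit 0x140144001511450104454000) (Net.cons (nat_lit 2) (nat_lit 0x202100110130021301010000) (Net.cons (nat_lit 4) (nat_lit 0x600030b020d060001020000) (Net.cons (nat_lit 8) (nat_lit 0xc10029009000d400050000) (Net.cons (nat_lit 16) (nat_lit 0x9c3b00002ce800000006) (Net.cons (nat_lit 32) (nat_lit 0x6000000009b2e0600) (Net.cons (nat_lit 64) (nat_lit 0xfb3fcf06) (Net.cons (nat_lit 32) (nat_lit 0xe000000008fef2630) (Net.cons (nat_lit 16) (nat_lit 0x9c7b0000ace000001306) (Net.cons (nat_lit 8) (nat_lit 0xd1002c0090009100150000) (Net.cons (nat_lit 4) (nat_lit 0x6020a0a0204020c08070100) (Net.cons (nat_lit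 2) (nat_lit 0x202100110130021301030000) (Net.cons (nat_lit 1) (nat_lit 0x140144001511450104454000) Net.nil)))))))))))))

theorem t_g100_ok : Net.ok 100 t_g100 = true := by decide +kernel

noncomputable def t_g101 : Net := (Net.cons (nat_lit 1) (nat_lit 0x1015414441001100050101400) (Net.cons (nat_lit 2) (nat_lit 0x1033210013302000300000000) (Net.cons (nat_lit 4) (nat_lit 0xc080000020a0a00000800) (Net.cons (nat_lit 8) (nat_lit 0xc3003800c50027000c0009) (Net.cons (nat_lit 16) (nat_lit 0x9d2a0000022d00000008) (Net.cons (nat_lit 32) (nat_lit 0x20000000042208480) (Net.cons (nat_lit 64) (nat_lit 0xf5b2d86b9) (Net.cons (nat_lit 32) (nat_lit 0xb00000000c0228689) (Net.cons (nat_lit 16) (nat_lit 0xbf2a0000217d00007618) (Net.cons (nat_lit 8) (nat_lit 0xc3002c00c5002f001c0099) (Net.cons (nat_lit 4) (nat_lit 0xd080008020a0a00000800) (Net.cons (nat_lit 2) (nat_lit 0x1033210013302000300200000) (Net.cons (nat_lit 1) (nat_lit 0x1415414441001100050101400)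 Net.nil)))))))))))))

theorem t_g101_ok : Net.ok 100 t_g101 = true := by decide +kernel

noncomputable def t_g102 : Net := (Net.cons (nat_lit 1) (nat_lit 0x544414005540004114040000) (Net.cons (nat_lit 2) (nat_lit 0x1112022300002321000110000) (Net.cons (nat_lit 4) (nat_lit 0x304080406080d0000030408) (Net.cons (nat_lit 8) (nat_lit 0xde00710083005400000001) (Net.cons (nat_lit 16) (nat_lit 0xc099000081880000000a) (Net.cons (nat_lit 32) (nat_lit 0x700000000c20342a0) (Net.cons (nat_lit 64) (nat_lit 0x4cbcbcab3) (Net.cons (nat_lit 32) (nat_lit 0xf000000006b32b6e8) (Net.cons (nat_lit 16) (nat_lit 0x1f98000062890000aa0a) (Net.cons (nat_lit 8) (nat_lit 0xdf00700082005500050001) (Net.cons (nat_lit 4) (nat_lit 0x304080406080d0800030408) (Net.cons (nat_lit 2) (nat_lit 0x1312022303002321000110000) (Net.cons (nat_lit 1) (nat_lit 0x544014005140004114040400) Net.nil)))))))))))))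

theorem t_g102_ok : Net.ok 100 t_g102 = true := by decide +kernel

noncomputable def t_V103 : List Net := [t_g99, t_g100, t_g84, t_g101, t_g102]

theorem t_V103_ok : okE 100 t_V103 = true := (okE_cons.2 ⟨t_g99_ok, (okE_cons.2 ⟨t_g100_ok, (okE_cons.2 ⟨t_g84_ok, (okE_cons.2 ⟨t_g101_ok, (okE_cons.2 ⟨t_g102_ok, (okE_nil 100)⟩)⟩)⟩)⟩)⟩)

noncomputable def t_V105 : List Net := [t_g100, t_g84, t_g101, t_g102]

theorem t_V105_ok : okE 100 t_V105 = true := (okE_cons.2 ⟨t_g100_ok, (okE_cons.2 ⟨t_g84_ok, (okE_cons.2 ⟨t_g101_ok, (okE_cons.2 ⟨t_g102_ok, (okE_nil 100)⟩)⟩)⟩)⟩)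

noncomputable def t_V106 : List Net := [t_g101, t_g102]

theorem t_V106_ok : okE 100 t_V106 = true := (okE_cons.2 ⟨t_g101_ok, (okE_cons.2 ⟨t_g102_ok, (okE_nil 100)⟩)⟩)

noncomputable def t_V107 : List Net := []

theorem t_V107_ok : okE 100 t_V107 = true := (okE_nil 100)

noncomputable def ht_c6_cnt_EG : List Net := [HSM.g1, HSM.g2, HSM.g3, HSM.g4, HSM.g7, HSM.g8, HSM.g11, HSM.g12, HSM.g13, HSM.g16, t_g83, t_g84, t_g85, t_g82, t_g99, t_g100, t_g101, t_g102]

theorem ht_c6_cnt_EG_ok : okE 100 ht_c6_cnt_EG = true := (okE_cons.2 ⟨HSM.g1_ok, (okE_cons.2 ⟨HSM.g2_ok, (okE_cons.2 ⟨HSM.g3_ok, (okE_cons.2 ⟨HSM.g4_ok, (okE_cons.2 ⟨HSM.g7_ok, (okE_cons.2 ⟨HSM.g8_ok, (okE_cons.2 ⟨HSM.g11_ok, (okE_cons.2 ⟨HSM.g12_ok, (okE_cons.2 ⟨HSM.g13_ok, (okE_cons.2 ⟨HSM.g16_ok, (okE_cons.2 ⟨t_g83_ok, (okE_cons.2 ⟨t_g84_ok, (okE_cons.2 ⟨t_g85_ok, (okE_cons.2 ⟨t_g82_ok, (okE_cons.2 ⟨t_g99_ok, (okE_cons.2 ⟨t_g100_ok, (okE_cons.2 ⟨t_g101_ok,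 (okE_cons.2 ⟨t_g102_ok, (okE_nil 100)⟩)⟩)⟩)⟩)⟩)⟩)⟩)⟩)⟩)⟩)⟩)⟩)⟩)⟩)⟩)⟩)⟩)⟩)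

noncomputable def t_g108 : Net := (Net.cons (nat_lit 1) (nat_lit 0x5410101014150045440015400) (Net.cons (nat_lit 2) (nat_lit 0x223230030023221323101030) (Net.cons (nat_lit 4) (nat_lit 0xb070500080f0004080e0700) (Net.cons (nat_lit 8) (nat_lit 0x900010004400a600030002) (Net.cons (nat_lit 16) (nat_lit 0x361b0000a13a00000004) (Net.cons (nat_lit 32) (nat_lit 0x48a56040) (Net.cons (nat_lit 64) (nat_lit 0xf7aadfe70) (Net.cons (nat_lit 32) (nat_lit 0xa000000009e94212e) (Net.cons (nat_lit 16) (nat_lit 0x38e80000dde00000730d) (Net.cons (nat_lit 8) (nat_lit 0x6b00b1002500aa007500a2) (Net.cons (nat_lit 4) (nat_lit 0xc0d09060a02020e04050b03) (Net.cons (nat_lit 2) (nat_lit 0x1120310120213030201031222) (Net.cons (nat_lit 1) (nat_lit 0x4500501114511105015000015) Net.nil)))))))))))))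

theorem t_g108_ok : Net.ok 100 t_g108 = true := by decide +kernel

noncomputable def t_g109 : Net := (Net.cons (nat_lit 1) (nat_lit 0x1145545500104141111115044) (Net.cons (nat_lit 2) (nat_lit 0x3020010210010000030032210) (Net.cons (nat_lit 4) (nat_lit 0x408060b0d0b0001090108) (Net.cons (nat_lit 8) (nat_lit 0x9f00a6004a00ee00460000) (Net.cons (nat_lit 16) (nat_lit 0x408e0000220c00000007) (Net.cons (nat_lit 32) (nat_lit 0x60000000004c5c930) (Net.cons (nat_lit 64) (nat_lit 0xbd4e7fdfd) (Net.cons (nat_lit 32) (nat_lit 0xc0000000039894629) (Net.cons (nat_lit 16) (nat_lit 0xe6200000527a0000e9f4) (Net.cons (nat_lit 8) (nat_lit 0x56008d00c40022006700fe) (Net.cons (nat_lit 4) (nat_lit 0xe080f03060d0d0d000a090b) (Net.cons (nat_lit 2) (nat_lit 0x211103133330011031122302) (Net.cons (nat_lit 1) (nat_lit 0x5414501005055410411511141) Net.nil)))))))))))))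

theorem t_g109_ok : Net.ok 100 t_g109 = true := by decide +kernel

noncomputable def t_g110 : Net := (Net.cons (nat_lit 1) (nat_lit 0x1414145114444511510414444) (Net.cons (nat_lit 2) (nat_lit 0x2021230221011303001012010) (Net.cons (nat_lit 4) (nat_lit 0x40107090708020c02090506) (Net.cons (nat_lit 8) (nat_lit 0x600430041008100d2000a) (Net.cons (nat_lit 16) (nat_lit 0xd16b0000b0a30000000d) (Net.cons (nat_lit 32) (nat_lit 0x10000000048b62e00) (Net.cons (nat_lit 64) (nat_lit 0x87bfeee25) (Net.cons (nat_lit 32) (nat_lit 0x6000000006f46bb6b) (Net.cons (nat_lit 16) (nat_lit 0x1c340000c904000021f1) (Net.cons (nat_lit 8) (nat_lit 0xf300000071006e00e00022) (Net.cons (nat_lit 4) (nat_lit 0x50b0d0c090b0900030a0d00) (Net.cons (nat_lit 2) (nat_lit 0x2121322022102302221002232) (Net.cons (nat_lit 1) (nat_lit 0x1440041014004405000505110) Net.nil)))))))))))))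

theorem t_g110_ok : Net.ok 100 t_g110 = true := by decide +kernel

noncomputable def t_g111 : Net := (Net.cons (nat_lit 1) (nat_lit 0x500155145010504410110100) (Net.cons (nat_lit 2) (nat_lit 0x1330110122202330213103100) (Net.cons (nat_lit 4) (nat_lit 0x40c000a0e0d060a04000808) (Net.cons (nat_lit 8) (nat_lit 0x6500a200a000a000c6000c) (Net.cons (nat_lit 16) (nat_lit 0xe9360000c4a800000008) (Net.cons (nat_lit 32) (nat_lit 0xa03445c0) (Net.cons (nat_lit 64) (nat_lit 0x9adb545e0) (Net.cons (nat_lit 32) (nat_lit 0x600000000e2bce740) (Net.cons (nat_lit 16) (nat_lit 0xfbbe0000ce7a000002cc) (Net.cons (nat_lit 8) (nat_lit 0x6500a200a000a400f60048) (Net.cons (nat_lit 4) (nat_lit 0x40c080a0e0d060a08000d0c) (Net.cons (nat_lit 2) (nat_lit 0x1330110022203331213103100) (Net.cons (nat_lit 1) (nat_lit 0x500155145010504410110100) Net.nil)))))))))))))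

theorem t_g111_ok : Net.ok 100 t_g111 = true := by decide +kernel

noncomputable def ht_c7_K : List Net := [t_g109, t_g110, t_g111]

theorem ht_c7_K_ok : okE 100 ht_c7_K = true := (okE_cons.2 ⟨t_g109_ok, (okE_cons.2 ⟨t_g110_ok, (okE_cons.2 ⟨t_g111_ok, (okE_nil 100)⟩)⟩)⟩)

noncomputable def t_g113 : Net := (Net.cons (nat_lit 1) (nat_lit 0x1554055544005044005110104) (Net.cons (nat_lit 2) (nat_lit 0x3112121300122320011331000) (Net.cons (nat_lit 4) (nat_lit 0x50c0b080805000b00000600) (Net.cons (nat_lit 8) (nat_lit 0xb000ac006400b800900004) (Net.cons (nat_lit 16) (nat_lit 0x86010000fc1700000004) (Net.cons (nat_lit 32) (nat_lit 0x20000000010b30800) (Net.cons (nat_lit 64) (nat_lit 0xcbcbf5aee) (Net.cons (nat_lit 32) (nat_lit 0x400000000a69c5958) (Net.cons (nat_lit 16) (nat_lit 0xdca600006812000008b2) (Net.cons (nat_lit 8) (nat_lit 0xa700b00090004000d000c6) (Net.cons (nat_lit 4) (nat_lit 0x10c0f010c0c0b0301000100) (Net.cons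 (nat_lit 2) (nat_lit 0x13132323012032111101012) (Net.cons (nat_lit 1) (nat_lit 0x1510155404155550450414114) Net.nil)))))))))))))

theorem t_g113_ok : Net.ok 100 t_g113 = true := by decide +kernel

noncomputable def t_g114 : Net := (Net.cons (nat_lit 1) (nat_lit 0x1145104414555111115005550) (Net.cons (nat_lit 2) (nat_lit 0x1333001030020321333300120) (Net.cons (nat_lit 4) (nat_lit 0xc0800000206030000030902) (Net.cons (nat_lit 8) (nat_lit 0xab00480005005c00480008) (Net.cons (nat_lit 16) (nat_lit 0x6f4400009a3000000000) (Net.cons (nat_lit 32) (nat_lit 0x10000000021210080) (Net.cons (nat_lit 64) (nat_lit 0xf39fbc6e6) (Net.cons (nat_lit 32) (nat_lit 0xe000000000971928a) (Net.cons (nat_lit 16) (nat_lit 0x79020000c7100000a7e8) (Net.cons (nat_lit 8) (nat_lit 0x94001c0034000300660048) (Net.cons (nat_lit 4) (nat_lit 0xb08010a0a00070009050104) (Net.cons (nat_lit 2) (nat_lit 0x3230123203221123102003220) (Net.cons (nat_lit 1)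 (nat_lit 0x4001040440054451455541140) Net.nil)))))))))))))

theorem t_g114_ok : Net.ok 100 t_g114 = true := by decide +kernel

noncomputable def t_g115 : Net := (Net.cons (nat_lit 1) (nat_lit 0x455505141011450544540000) (Net.cons (nat_lit 2) (nat_lit 0x1001011021201011100010020) (Net.cons (nat_lit 4) (nat_lit 0x1080400080104040e000300) (Net.cons (nat_lit 8) (nat_lit 0x430044006000c000000001) (Net.cons (nat_lit 16) (nat_lit 0xb10a0000010c00000000) (Net.cons (nat_lit 32) (nat_lit 0x800000000c0030110) (Net.cons (nat_lit 64) (nat_lit 0xef9139916) (Net.cons (nat_lit 32) (nat_lit 0xd00000000c0cf31c4) (Net.cons (nat_lit 16) (nat_lit 0xbbda00001b6d00004a51) (Net.cons (nat_lit 8) (nat_lit 0x7200540061009400100011) (Net.cons (nat_lit 4) (nat_lit 0x80400090100010e040300) (Net.cons (nat_lit 2) (nat_lit 0x1001011021201011100010020) (Net.cons (nat_lit 1) (nat_lit 0x455505141011450544540000) Net.nil)))))))))))))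

theorem t_g115_ok : Net.ok 100 t_g115 = true := by decide +kernel

noncomputable def t_V116 : List Net := [t_g113, t_g114, t_g115]

theorem t_V116_ok : okE 100 t_V116 = true := (okE_cons.2 ⟨t_g113_ok, (okE_cons.2 ⟨t_g114_ok, (okE_cons.2 ⟨t_g115_ok, (okE_nil 100)⟩)⟩)⟩)

noncomputable def t_V118 : List Net := [t_g114, t_g115]

theorem t_V118_ok : okE 100 t_V118 = true := (okE_cons.2 ⟨t_g114_ok, (okE_cons.2 ⟨t_g115_ok, (okE_nil 100)⟩)⟩)

noncomputable def t_V119 : List Net := [t_g115]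

theorem t_V119_ok : okE 100 t_V119 = true := (okE_cons.2 ⟨t_g115_ok, (okE_nil 100)⟩)

noncomputable def t_V120 : List Net := []

theorem t_V120_ok : okE 100 t_V120 = true := (okE_nil 100)

noncomputable def ht_c7_cnt_EG : List Net := [HSM.g1, HSM.g2, HSM.g3, HSM.g4, HSM.g7, HSM.g8, HSM.g11, HSM.g12, HSM.g13, HSM.g16, t_g114, t_g115, t_g113, t_g51, t_g52, t_g53, t_g54]

theorem ht_c7_cnt_EG_ok : okE 100 ht_c7_cnt_EG = true := (okE_cons.2 ⟨HSM.g1_ok, (okE_cons.2 ⟨HSM.g2_ok, (okE_cons.2 ⟨HSM.g3_ok, (okE_cons.2 ⟨HSM.g4_ok, (okE_cons.2 ⟨HSM.g7_ok, (okE_cons.2 ⟨HSM.g8_ok, (okE_cons.2 ⟨HSM.g11_ok, (okE_cons.2 ⟨HSM.g12_ok, (okE_cons.2 ⟨HSM.g13_ok, (okE_cons.2 ⟨HSM.g16_ok, (okE_cons.2 ⟨t_g114_ok, (okE_cons.2 ⟨t_g115_ok, (okE_cons.2 ⟨t_g113_ok, (okE_cons.2 ⟨t_g51_ok, (okE_cons.2 ⟨t_g52_ok, (okE_cons.2 ⟨t_g53_ok, (okE_cons.2 ⟨t_g54_ok, (okE_nil 100)⟩)⟩)⟩)⟩)⟩)⟩)⟩)⟩)⟩)⟩)⟩)⟩)⟩)⟩)⟩)⟩)⟩)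

noncomputable def t_g121 : Net := (Net.cons (nat_lit 1) (nat_lit 0x4101401405501005054401000) (Net.cons (nat_lit 2) (nat_lit 0x3110030020001121111201200) (Net.cons (nat_lit 4) (nat_lit 0x90a020f0f040102020b0c08) (Net.cons (nat_lit 8) (nat_lit 0x9900030029000100990002) (Net.cons (nat_lit 16) (nat_lit 0x380000004b5000000001) (Net.cons (nat_lit 32) (nat_lit 0x8000000001b513420) (Net.cons (nat_lit 64) (nat_lit 0x6df5bb7ed) (Net.cons (nat_lit 32) (nat_lit 0x500000000c7a2114f) (Net.cons (nat_lit 16) (nat_lit 0x9079000090a70000833a) (Net.cons (nat_lit 8) (nat_lit 0xd200aa0055005300150052) (Net.cons (nat_lit 4) (nat_lit 0x70d07010c0b0e040d080c02) (Net.cons (nat_lit 2) (nat_lit 0x2212001113033012303222030) (Net.cons (nat_lit 1) (nat_lit 0x1511400510400144155001511) Net.nil)))))))))))))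

theorem t_g121_ok : Net.ok 100 t_g121 = true := by decide +kernel

noncomputable def t_g122 : Net := (Net.cons (nat_lit 1) (nat_lit 0x1541454011554141111110414) (Net.cons (nat_lit 2) (nat_lit 0x110120202332022021130010) (Net.cons (nat_lit 4) (nat_lit 0xe0e040500020b000d0f0a00) (Net.cons (nat_lit 8) (nat_lit 0x3500cc0016004b001f0003) (Net.cons (nat_lit 16) (nat_lit 0xa16e0000c9300000000c) (Net.cons (nat_lit 32) (nat_lit 0x900000000a85910a0) (Net.cons (nat_lit 64) (nat_lit 0x5fc7f9dec) (Net.cons (nat_lit 32) (nat_lit 0xe0000000084d65db2) (Net.cons (nat_lit 16) (nat_lit 0x63630000487000009d63) (Net.cons (nat_lit 8) (nat_lit 0x6200d100a0001c00890038) (Net.cons (nat_lit 4) (nat_lit 0x7020a09090e0d020f090c0c) (Net.cons (nat_lit 2) (nat_lit 0x2102331032221123010021331) (Net.cons (nat_lit 1) (nat_lit 0x5005005151015544010505004) Net.nil)))))))))))))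

theorem t_g122_ok : Net.ok 100 t_g122 = true := by decide +kernel

noncomputable def t_g123 : Net := (Net.cons (nat_lit 1) (nat_lit 0x1441005111401000405404440) (Net.cons (nat_lit 2) (nat_lit 0x231110131232322021120300) (Net.cons (nat_lit 4) (nat_lit 0x90e05090e06010e000d0a00) (Net.cons (nat_lit 8) (nat_lit 0x8500bb0023000c007d0009) (Net.cons (nat_lit 16) (nat_lit 0xbc7d000024c200000000) (Net.cons (nat_lit 32) (nat_lit 0xc0000000098ea4410) (Net.cons (nat_lit 64) (nat_lit 0x5d8ef749a) (Net.cons (nat_lit 32) (nat_lit 0x500000000716280da) (Net.cons (nat_lit 16) (nat_lit 0x6abc0000085200003e41) (Net.cons (nat_lit 8) (nat_lit 0x4600910059004900690031) (Net.cons (nat_lit 4) (nat_lit 0x6020903060208050b040d0a) (Net.cons (nat_lit 2) (nat_lit 0x130112102021230131131230) (Net.cons (nat_lit 1) (nat_lit 0x1454011054440505045404150) Net.nil)))))))))))))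

theorem t_g123_ok : Net.ok 100 t_g123 = true := by decide +kernel

noncomputable def ht_c8_K : List Net := [t_g122, t_g123]

theorem ht_c8_K_ok : okE 100 ht_c8_K = true := (okE_cons.2 ⟨t_g122_ok, (okE_cons.2 ⟨t_g123_ok, (okE_nil 100)⟩)⟩)

noncomputable def t_V125 : List Net := [HSM.g11, HSM.g12, HSM.g13, HSM.g16, HSM.g16]

theorem t_V125_ok : okE 100 t_V125 = true := (okE_cons.2 ⟨HSM.g11_ok, (okE_cons.2 ⟨HSM.g12_ok, (okE_cons.2 ⟨HSM.g13_ok, (okE_cons.2 ⟨HSM.g16_ok, (okE_cons.2 ⟨HSM.g16_ok, (okE_nil 100)⟩)⟩)⟩)⟩)⟩)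

noncomputable def t_V126 : List Net := [HSM.g16, HSM.g16]

theorem t_V126_ok : okE 100 t_V126 = true := (okE_cons.2 ⟨HSM.g16_ok, (okE_cons.2 ⟨HSM.g16_ok, (okE_nil 100)⟩)⟩)

noncomputable def t_V127 : List Net := []

theorem t_V127_ok : okE 100 t_V127 = true := (okE_nil 100)

noncomputable def ht_c8_cnt_EG : List Net := [HSM.g1, HSM.g2, HSM.g3, HSM.g4, HSM.g7, HSM.g8, HSM.g11, HSM.g12, HSM.g13, HSM.g16]

theorem ht_c8_cnt_EG_ok : okE 100 ht_c8_cnt_EG = true := (okE_cons.2 ⟨HSM.g1_ok, (okE_cons.2 ⟨HSM.g2_ok, (okE_cons.2 ⟨HSM.g3_ok, (okE_cons.2 ⟨HSM.g4_ok, (okE_cons.2 ⟨HSM.g7_ok, (okE_cons.2 ⟨HSM.g8_ok, (okE_cons.2 ⟨HSM.g11_ok, (okE_cons.2 ⟨HSM.g12_ok, (okE_cons.2 ⟨HSM.g13_ok, (okE_cons.2 ⟨HSM.g16_ok, (okE_nil 100)⟩)⟩)⟩)⟩)⟩)⟩)⟩)⟩)⟩)⟩)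

noncomputable def t_g128 : Net := (Net.cons (nat_lit 1) (nat_lit 0x1055514110554011140140040) (Net.cons (nat_lit 2) (nat_lit 0x1231011030030023020320320) (Net.cons (nat_lit 4) (nat_lit 0x503080a01080c0009020200) (Net.cons (nat_lit 8) (nat_lit 0x9e00ca008400b200300008) (Net.cons (nat_lit 16) (nat_lit 0xa4030000c40400000004) (Net.cons (nat_lit 32) (nat_lit 0x200000000800e4d20) (Net.cons (nat_lit 64) (nat_lit 0xef5afffb5) (Net.cons (nat_lit 32) (nat_lit 0xb00000000cd9e60fb) (Net.cons (nat_lit 16) (nat_lit 0xf2c600000c130000fb90) (Net.cons (nat_lit 8) (nat_lit 0x8f003d005c001600d7004f) (Net.cons (nat_lit 4) (nat_lit 0x3060b05050c02060a03000a) (Net.cons (nat_lit 2) (nat_lit 0x232133203131020001230032) (Net.cons (nat_lit 1) (nat_lit 0x1504414050140054100445010) Net.nil)))))))))))))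

theorem t_g128_ok : Net.ok 100 t_g128 = true := by decide +kernel

noncomputable def t_g129 : Net := (Net.cons (nat_lit 1) (nat_lit 0x1004400141454501414051500) (Net.cons (nat_lit 2) (nat_lit 0x3101022000301012203302200) (Net.cons (nat_lit 4) (nat_lit 0xd070e080c0102050a0e0200) (Net.cons (nat_lit 8) (nat_lit 0x62003a004800a000d10008) (Net.cons (nat_lit 16) (nat_lit 0xf7c000084bf00000009) (Net.cons (nat_lit 32) (nat_lit 0x40000000021e47800) (Net.cons (nat_lit 64) (nat_lit 0x97fe479d4) (Net.cons (nat_lit 32) (nat_lit 0xd00000000e42d0bf6) (Net.cons (nat_lit 16) (nat_lit 0x742c0000962b00006ab1) (Net.cons (nat_lit 8) (nat_lit 0x1900520016008a006f0070) (Net.cons (nat_lit 4) (nat_lit 0x90d07050e080f05010c0800) (Net.cons (nat_lit 2) (nat_lit 0x2013222001011213203221210) (Net.cons (nat_lit 1) (nat_lit 0x1414004515450540411500441) Net.nil)))))))))))))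

theorem t_g129_ok : Net.ok 100 t_g129 = true := by decide +kernel

noncomputable def ht_c9_K : List Net := [t_g129, t_g128]

theorem ht_c9_K_ok : okE 100 ht_c9_K = true := (okE_cons.2 ⟨t_g129_ok, (okE_cons.2 ⟨t_g128_ok, (okE_nil 100)⟩)⟩)

noncomputable def ht_c9_cnt_EG : List Net := [HSM.g1, HSM.g2, HSM.g3, HSM.g4, HSM.g7, HSM.g8, HSM.g11, HSM.g12, HSM.g13, HSM.g16, t_g114, t_g115, t_g113, t_g51, t_g52, t_g53, t_g54]

theorem ht_c9_cnt_EG_ok : okE 100 ht_c9_cnt_EG = true := (okE_cons.2 ⟨HSM.g1_ok, (okE_cons.2 ⟨HSM.g2_ok, (okE_cons.2 ⟨HSM.g3_ok, (okE_cons.2 ⟨HSM.g4_ok, (okE_cons.2 ⟨HSM.g7_ok, (okE_cons.2 ⟨HSM.g8_ok, (okE_cons.2 ⟨HSM.g11_ok, (okE_cons.2 ⟨HSM.g12_ok, (okE_cons.2 ⟨HSM.g13_ok, (okE_cons.2 ⟨HSM.g16_ok, (okE_cons.2 ⟨t_g114_ok, (okE_cons.2 ⟨t_g115_ok, (okE_cons.2 ⟨t_g113_ok, (okE_cons.2 ⟨t_g51_ok, (okE_cons.2 ⟨t_g52_ok, (okE_cons.2 ⟨t_g53_ok, (okE_cons.2 ⟨t_g54_ok, (okE_nil 100)⟩)⟩)⟩)⟩)⟩)⟩)⟩)⟩)⟩)⟩)⟩)⟩)⟩)⟩)⟩)⟩)⟩)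

noncomputable def t_g131 : Net := (Net.cons (nat_lit 1) (nat_lit 0x1145115540140515400115040) (Net.cons (nat_lit 2) (nat_lit 0x3200201001202213113100200) (Net.cons (nat_lit 4) (nat_lit 0xf060a01070b0f0e0a040802) (Net.cons (nat_lit 8) (nat_lit 0x9900d3005c00650058000c) (Net.cons (nat_lit 16) (nat_lit 0x27450000ca0400000000) (Net.cons (nat_lit 32) (nat_lit 0x65b43a00) (Net.cons (nat_lit 64) (nat_lit 0x57dfcbabb) (Net.cons (nat_lit 32) (nat_lit 0xb000000000dd7a94e) (Net.cons (nat_lit 16) (nat_lit 0x6a970000e0b30000bb8b) (Net.cons (nat_lit 8) (nat_lit 0x6d008c00720028002600d2) (Net.cons (nat_lit 4) (nat_lit 0x302070e0d0f05080d0f0708) (Net.cons (nat_lit 2) (nat_lit 0x3211002311212313113231020) (Net.cons (nat_lit 1) (nat_lit 0x1100444005041100044054501) Net.nil)))))))))))))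

theorem t_g131_ok : Net.ok 100 t_g131 = true := by decide +kernel

noncomputable def t_g132 : Net := (Net.cons (nat_lit 1) (nat_lit 0x1441004045515514144414400) (Net.cons (nat_lit 2) (nat_lit 0x213123231302112102300300) (Net.cons (nat_lit 4) (nat_lit 0xd0f030b030e000a0204060e) (Net.cons (nat_lit 8) (nat_lit 0xb000700d10095005b0005) (Net.cons (nat_lit 16) (nat_lit 0x406800006b4100000007) (Net.cons (nat_lit 32) (nat_lit 0x40000000073bc1c40) (Net.cons (nat_lit 64) (nat_lit 0xbf3bfbd4f) (Net.cons (nat_lit 32) (nat_lit 0x3000000005067d579) (Net.cons (nat_lit 16) (nat_lit 0x4f17000062df0000b3b1) (Net.cons (nat_lit 8) (nat_lit 0x7700ba006d00f700e5000a) (Net.cons (nat_lit 4) (nat_lit 0xc0b050f0a0a0c04020e0706) (Net.cons (nat_lit 2) (nat_lit 0x2010311112100213012102232) (Net.cons (nat_lit 1) (nat_lit 0x1515511010555004001555544) Net.nil)))))))))))))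

theorem t_g132_ok : Net.ok 100 t_g132 = true := by decide +kernel

noncomputable def t_g133 : Net := (Net.cons (nat_lit 1) (nat_lit 0x4004510015014150144545000) (Net.cons (nat_lit 2) (nat_lit 0x133010123311203230301300) (Net.cons (nat_lit 4) (nat_lit 0x40d01000f0300060c030b04) (Net.cons (nat_lit 8) (nat_lit 0x8600e300bb002200180001) (Net.cons (nat_lit 16) (nat_lit 0xa43c0000830c0000000f) (Net.cons (nat_lit 32) (nat_lit 0x8000000004008a380) (Net.cons (nat_lit 64) (nat_lit 0x775cffbb9) (Net.cons (nat_lit 32) (nat_lit 0xd000000000c2d7c9e) (Net.cons (nat_lit 16) (nat_lit 0xa4ba0000855d000090c1) (Net.cons (nat_lit 8) (nat_lit 0xd600a7009700c400140092) (Net.cons (nat_lit 4) (nat_lit 0x20d07040f0704090f060204) (Net.cons (nat_lit 2) (nat_lit 0x231003102331301330201211) (Net.cons (nat_lit 1) (nat_lit 0x4004104045455010140415144) Net.nil)))))))))))))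

theorem t_g133_ok : Net.ok 100 t_g133 = true := by decide +kernel

noncomputable def t_g134 : Net := (Net.cons (nat_lit 1) (nat_lit 0x54400114000551000040000) (Net.cons (nat_lit 2) (nat_lit 0x2223323001202112000120020) (Net.cons (nat_lit 4) (nat_lit 0x501040808000c0509000800) (Net.cons (nat_lit 8) (nat_lit 0xd600c300080045001a0003) (Net.cons (nat_lit 16) (nat_lit 0x10b80000003000000000) (Net.cons (nat_lit 32) (nat_lit 0x30000000008c91c40) (Net.cons (nat_lit 64) (nat_lit 0x428df7ee3) (Net.cons (nat_lit 32) (nat_lit 0x3000000009d2ddd98) (Net.cons (nat_lit 16) (nat_lit 0xb318000080b00000a880) (Net.cons (nat_lit 8) (nat_lit 0xd6008300280085009a0043) (Net.cons (nat_lit 4) (nat_lit 0x107040a08040c0509040802) (Net.cons (nat_lit 2) (nat_lit 0x2223323001202112000120020) (Net.cons (nat_lit 1) (nat_lit 0x54400114000551040040000) Net.nil)))))))))))))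

theorem t_g134_ok : Net.ok 100 t_g134 = true := by decide +kernel

noncomputable def ht_c10_K : List Net := [t_g131, t_g132, t_g133, t_g134]

theorem ht_c10_K_ok : okE 100 ht_c10_K = true := (okE_cons.2 ⟨t_g131_ok, (okE_cons.2 ⟨t_g132_ok, (okE_cons.2 ⟨t_g133_ok, (okE_cons.2 ⟨t_g134_ok, (okE_nil 100)⟩)⟩)⟩)⟩)

noncomputable def ht_c10_cnt_EG : List Net := [HSM.g1, HSM.g2, HSM.g3, HSM.g4, HSM.g7, HSM.g8, HSM.g11, HSM.g12, HSM.g13, HSM.g16, t_g83, t_g84, t_g85, t_g82, t_g99, t_g100, t_g101, t_g102]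

theorem ht_c10_cnt_EG_ok : okE 100 ht_c10_cnt_EG = true := (okE_cons.2 ⟨HSM.g1_ok, (okE_cons.2 ⟨HSM.g2_ok, (okE_cons.2 ⟨HSM.g3_ok, (okE_cons.2 ⟨HSM.g4_ok, (okE_cons.2 ⟨HSM.g7_ok, (okE_cons.2 ⟨HSM.g8_ok, (okE_cons.2 ⟨HSM.g11_ok, (okE_cons.2 ⟨HSM.g12_ok, (okE_cons.2 ⟨HSM.g13_ok, (okE_cons.2 ⟨HSM.g16_ok, (okE_cons.2 ⟨t_g83_ok, (okE_cons.2 ⟨t_g84_ok, (okE_cons.2 ⟨t_g85_ok, (okE_cons.2 ⟨t_g82_ok, (okE_cons.2 ⟨t_g99_ok, (okE_cons.2 ⟨t_g100_ok, (okE_cons.2 ⟨t_g101_ok, (okE_cons.2 ⟨t_g102_ok, (okE_nil 100)⟩)⟩)⟩)⟩)⟩)⟩)⟩)⟩)⟩)⟩)⟩)⟩)⟩)⟩)⟩)⟩)⟩)⟩)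

noncomputable def t_g136 : Net := (Net.cons (nat_lit 1) (nat_lit 0x4140511414144410154050510) (Net.cons (nat_lit 2) (nat_lit 0x2111121112320200212300210) (Net.cons (nat_lit 4) (nat_lit 0x404020b04040e0e0f0b0702) (Net.cons (nat_lit 8) (nat_lit 0x8200e000350007008f000d) (Net.cons (nat_lit 16) (nat_lit 0x75b3000081f50000000c) (Net.cons (nat_lit 32) (nat_lit 0x41c08a00) (Net.cons (nat_lit 64) (nat_lit 0x773db8ee2) (Net.cons (nat_lit 32) (nat_lit 0x900000000244710f0) (Net.cons (nat_lit 16) (nat_lit 0xe3a000005442000087d6) (Net.cons (nat_lit 8) (nat_lit 0x110050001500b7001000fe) (Net.cons (nat_lit 4) (nat_lit 0xd0a0d0a03050c0b0d09000b) (Net.cons (nat_lit 2) (nat_lit 0x2121210310312101232211020) (Net.cons (nat_lit 1) (nat_lit 0x5050514454441510511004405) Net.nil)))))))))))))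

theorem t_g136_ok : Net.ok 100 t_g136 = true := by decide +kernel

noncomputable def t_g137 : Net := (Net.cons (nat_lit 1) (nat_lit 0x4540014144450554541505010) (Net.cons (nat_lit 2) (nat_lit 0x1312100123110200003011310) (Net.cons (nat_lit 4) (nat_lit 0x504040d0509030906020f04) (Net.cons (nat_lit 8) (nat_lit 0x46001f00e10062008c0004) (Net.cons (nat_lit 16) (nat_lit 0x5e700000407900000000) (Net.cons (nat_lit 32) (nat_lit 0x200000000629280e0) (Net.cons (nat_lit 64) (nat_lit 0x16ff6b8ef) (Net.cons (nat_lit 32) (nat_lit 0xc00000000b8ec8584) (Net.cons (nat_lit 16) (nat_lit 0xdb1600008615000079d3) (Net.cons (nat_lit 8) (nat_lit 0x1e00cf00ee0047000f00b4) (Net.cons (nat_lit 4) (nat_lit 0xc0e0c0407020b040a090f07) (Net.cons (nat_lit 2) (nat_lit 0x1231003313313010301330332) (Net.cons (nat_lit 1) (nat_lit 0x414500454405440401104501) Net.nil)))))))))))))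

theorem t_g137_ok : Net.ok 100 t_g137 = true := by decide +kernel

noncomputable def t_g138 : Net := (Net.cons (nat_lit 1) (nat_lit 0x1155115544004544110414000) (Net.cons (nat_lit 2) (nat_lit 0x1133321133011322100221000) (Net.cons (nat_lit 4) (nat_lit 0x206090205070207080e020c) (Net.cons (nat_lit 8) (nat_lit 0xc0071005000b1008c0009) (Net.cons (nat_lit 16) (nat_lit 0x69020000842800000005) (Net.cons (nat_lit 32) (nat_lit 0x30000000089001320) (Net.cons (nat_lit 64) (nat_lit 0x9adafd3a6) (Net.cons (nat_lit 32) (nat_lit 0x4000000008cbe13fa) (Net.cons (nat_lit 16) (nat_lit 0x5b600004fb100006306) (Net.cons (nat_lit 8) (nat_lit 0x680030002a008000b0001d) (Net.cons (nat_lit 4) (nat_lit 0x605010007090d070b070e08) (Net.cons (nat_lit 2) (nat_lit 0x2111201222123332233001233) (Net.cons (nat_lit 1) (nat_lit 0x5444401101051055515144104) Net.nil)))))))))))))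

theorem t_g138_ok : Net.ok 100 t_g138 = true := by decide +kernel

noncomputable def ht_c11_K : List Net := [t_g137, t_g136, t_g138]

theorem ht_c11_K_ok : okE 100 ht_c11_K = true := (okE_cons.2 ⟨t_g137_ok, (okE_cons.2 ⟨t_g136_ok, (okE_cons.2 ⟨t_g138_ok, (okE_nil 100)⟩)⟩)⟩)

noncomputable def ht_c11_cnt_EG : List Net := [HSM.g1, HSM.g2, HSM.g3, HSM.g4, HSM.g7, HSM.g8, HSM.g11, HSM.g12, HSM.g13, HSM.g16, t_g51, t_g52, t_g53, t_g54, t_g68, t_g69, t_g67]

theorem ht_c11_cnt_EG_ok : okE 100 ht_c11_cnt_EG = true := (okE_cons.2 ⟨HSM.g1_ok, (okE_cons.2 ⟨HSM.g2_ok, (okE_cons.2 ⟨HSM.g3_ok, (okE_cons.2 ⟨HSM.g4_ok, (okE_cons.2 ⟨HSM.g7_ok, (okE_cons.2 ⟨HSM.g8_ok, (okE_cons.2 ⟨HSM.g11_ok, (okE_cons.2 ⟨HSM.g12_ok, (okE_cons.2 ⟨HSM.g13_ok, (okE_cons.2 ⟨HSM.g16_ok, (okE_cons.2 ⟨t_g51_ok, (okE_cons.2 ⟨t_g52_ok, (okE_cons.2 ⟨t_g53_ok, (okE_cons.2 ⟨t_g54_ok, (okE_cons.2 ⟨t_g68_ok, (okE_cons.2 ⟨t_g69_ok, (okE_cons.2 ⟨t_g67_ok, (okE_nil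 100)⟩)⟩)⟩)⟩)⟩)⟩)⟩)⟩)⟩)⟩)⟩)⟩)⟩)⟩)⟩)⟩)⟩)

noncomputable def t_g140 : Net := (Net.cons (nat_lit 1) (nat_lit 0x1440140501015044501051150) (Net.cons (nat_lit 2) (nat_lit 0x3101303012003002110000020) (Net.cons (nat_lit 4) (nat_lit 0x4040e0d04010001040c0e04) (Net.cons (nat_lit 8) (nat_lit 0x470054006c001d0004000c) (Net.cons (nat_lit 16) (nat_lit 0x89830000500500000000) (Net.cons (nat_lit 32) (nat_lit 0xb0000000099044000) (Net.cons (nat_lit 64) (nat_lit 0xff7e578f) (Net.cons (nat_lit 32) (nat_lit 0xc00000000b66be9ea) (Net.cons (nat_lit 16) (nat_lit 0x5dba00001eff00005a34) (Net.cons (nat_lit 8) (nat_lit 0x100fc00a5000f00d6002b) (Net.cons (nat_lit 4) (nat_lit 0x40b0f0d030700000b070d0b) (Net.cons (nat_lit 2) (nat_lit 0x3101231100230202102020321) (Net.cons (nat_lit 1) (nat_lit 0x145050410455500105151114) Net.nil)))))))))))))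

theorem t_g140_ok : Net.ok 100 t_g140 = true := by decide +kernel

noncomputable def ht_c12_K : List Net := [t_g140]

theorem ht_c12_K_ok : okE 100 ht_c12_K = true := (okE_cons.2 ⟨t_g140_ok, (okE_nil 100)⟩)

noncomputable def t_g142 : Net := (Net.cons (nat_lit 1) (nat_lit 0x1004451500455151410014054) (Net.cons (nat_lit 2) (nat_lit 0x2301333130121032232330100) (Net.cons (nat_lit 4) (nat_lit 0x9010a080104080603000002) (Net.cons (nat_lit 8) (nat_lit 0x7d0009003e0064009e0008) (Net.cons (nat_lit 16) (nat_lit 0x25f40000816700000000) (Net.cons (nat_lit 32) (nat_lit 0x50000000088a01950) (Net.cons (nat_lit 64) (nat_lit 0xfeeb15958) (Net.cons (nat_lit 32) (nat_lit 0x10000000019e31df2) (Net.cons (nat_lit 16) (nat_lit 0xa9d00000e4040000fc20) (Net.cons (nat_lit 8) (nat_lit 0x45003d000a008b00dc001a) (Net.cons (nat_lit 4) (nat_lit 0x70e0e0501090e0d040b020e) (Net.cons (nat_lit 2) (nat_lit 0x2023032020031120233031100) (Net.cons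 (nat_lit 1) (nat_lit 0x5011455504545101115144044) Net.nil)))))))))))))

theorem t_g142_ok : Net.ok 100 t_g142 = true := by decide +kernel

noncomputable def t_g143 : Net := (Net.cons (nat_lit 1) (nat_lit 0x5505441004001045455444514) (Net.cons (nat_lit 2) (nat_lit 0x2301001330020302032122100) (Net.cons (nat_lit 4) (nat_lit 0x3040e06000304020009000a) (Net.cons (nat_lit 8) (nat_lit 0xc300c4005c0089008c0005) (Net.cons (nat_lit 16) (nat_lit 0x13080000c80c00000009) (Net.cons (nat_lit 32) (nat_lit 0x300000000518008c0) (Net.cons (nat_lit 64) (nat_lit 0x85f8388d7) (Net.cons (nat_lit 32) (nat_lit 0xf00000000deca4eb5) (Net.cons (nat_lit 16) (nat_lit 0x743900000a800000525a) (Net.cons (nat_lit 8) (nat_lit 0x270015008e0065009f0007) (Net.cons (nat_lit 4) (nat_lit 0x70b030f0d0a0d0a0605030e) (Net.cons (nat_lit 2) (nat_lit 0x23323130331213021112010) (Net.cons (nat_lit 1) (nat_lit 0x144444554101055411055504) Net.nil)))))))))))))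

theorem t_g143_ok : Net.ok 100 t_g143 = true := by decide +kernel

noncomputable def t_V144 : List Net := [t_g142, t_g143]

theorem t_V144_ok : okE 100 t_V144 = true := (okE_cons.2 ⟨t_g142_ok, (okE_cons.2 ⟨t_g143_ok, (okE_nil 100)⟩)⟩)

noncomputable def t_V146 : List Net := []

theorem t_V146_ok : okE 100 t_V146 = true := (okE_nil 100)

noncomputable def ht_c12_cnt_EG : List Net := [HSM.g1, HSM.g2, HSM.g3, HSM.g4, HSM.g7, HSM.g8, HSM.g11, HSM.g12, HSM.g13, HSM.g16, t_g12, t_g13, t_g14, t_g15, t_g16, t_g17, t_g18, t_g19, t_g142, t_g143]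

theorem ht_c12_cnt_EG_ok : okE 100 ht_c12_cnt_EG = true := (okE_cons.2 ⟨HSM.g1_ok, (okE_cons.2 ⟨HSM.g2_ok, (okE_cons.2 ⟨HSM.g3_ok, (okE_cons.2 ⟨HSM.g4_ok, (okE_cons.2 ⟨HSM.g7_ok, (okE_cons.2 ⟨HSM.g8_ok, (okE_cons.2 ⟨HSM.g11_ok, (okE_cons.2 ⟨HSM.g12_ok, (okE_cons.2 ⟨HSM.g13_ok, (okE_cons.2 ⟨HSM.g16_ok, (okE_cons.2 ⟨t_g12_ok, (okE_cons.2 ⟨t_g13_ok, (okE_cons.2 ⟨t_g14_ok, (okE_cons.2 ⟨t_g15_ok, (okE_cons.2 ⟨t_g16_ok, (okE_cons.2 ⟨t_g17_ok, (okE_cons.2 ⟨t_g18_ok, (okE_cons.2 ⟨t_g19_ok, (okE_cons.2 ⟨t_g142_ok, (okE_cons.2 ⟨t_g143_ok, (okE_nil 100)⟩)⟩)⟩)⟩)⟩)⟩)⟩)⟩)⟩)⟩)⟩)⟩)⟩)⟩)⟩)⟩)⟩)⟩)⟩)⟩)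

noncomputable def t_g147 : Net := (Net.cons (nat_lit 1) (nat_lit 0x1151545040511051055014540) (Net.cons (nat_lit 2) (nat_lit 0x1113033010030000300031010) (Net.cons (nat_lit 4) (nat_lit 0xf06050c080b00010e060804) (Net.cons (nat_lit 8) (nat_lit 0x7a00110052008200220000) (Net.cons (nat_lit 16) (nat_lit 0x91410000202500000000) (Net.cons (nat_lit 32) (nat_lit 0x100000000800b0a70) (Net.cons (nat_lit 64) (nat_lit 0x6fb3f9ef3) (Net.cons (nat_lit 32) (nat_lit 0x400000000d5226897) (Net.cons (nat_lit 16) (nat_lit 0x92350000224900000ce5) (Net.cons (nat_lit 8) (nat_lit 0x95003b002c00920060009d) (Net.cons (nat_lit 4) (nat_lit 0x1020a01020b0f01050a0c05) (Net.cons (nat_lit 2) (nat_lit 0x21010301212030003203210) (Net.cons (nat_lit 1) (nat_lit 0x4515554041554545400545541) Net.nil)))))))))))))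

theorem t_g147_ok : Net.ok 100 t_g147 = true := by decide +kernel

noncomputable def t_g148 : Net := (Net.cons (nat_lit 1) (nat_lit 0x5410450444115151014505410) (Net.cons (nat_lit 2) (nat_lit 0x2232200021123011112100020) (Net.cons (nat_lit 4) (nat_lit 0xa0901040600010e05000504) (Net.cons (nat_lit 8) (nat_lit 0x8000f008d00220041000a) (Net.cons (nat_lit 16) (nat_lit 0x180000002d9500000000) (Net.cons (nat_lit 32) (nat_lit 0x40000000000858640) (Net.cons (nat_lit 64) (nat_lit 0xc30879ff0) (Net.cons (nat_lit 32) (nat_lit 0xb00000000c70b7e37) (Net.cons (nat_lit 16) (nat_lit 0xf1000000824b000032c0) (Net.cons (nat_lit 8) (nat_lit 0x10003700fa000c00f8009b) (Net.cons (nat_lit 4) (nat_lit 0x401020a08040406090b0805) (Net.cons (nat_lit 2) (nat_lit 0x3212213323230311132011223) (Net.cons (nat_lit 1) (nat_lit 0x144105111440404141050145) Net.nil)))))))))))))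

theorem t_g148_ok : Net.ok 100 t_g148 = true := by decide +kernel

noncomputable def t_g149 : Net := (Net.cons (nat_lit 1) (nat_lit 0x5141014510445141041511400) (Net.cons (nat_lit 2) (nat_lit 0x23021301202200120201000) (Net.cons (nat_lit 4) (nat_lit 0x10800010e03080202010106) (Net.cons (nat_lit 8) (nat_lit 0x8000670067003400940000) (Net.cons (nat_lit 16) (nat_lit 0x48e0000206700000000) (Net.cons (nat_lit 32) (nat_lit 0x50000000068051400) (Net.cons (nat_lit 64) (nat_lit 0x369477494) (Net.cons (nat_lit 32) (nat_lit 0x80000000048843464) (Net.cons (nat_lit 16) (nat_lit 0x26af000001660000be48) (Net.cons (nat_lit 8) (nat_lit 0x9000670067003c00940001) (Net.cons (nat_lit 4) (nat_lit 0x10c09010a09080308010102) (Net.cons (nat_lit 2) (nat_lit 0x1023321301320200102301200) (Net.cons (nat_lit 1) (nat_lit 0x5141014510445541041511400) Net.nil)))))))))))))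

theorem t_g149_ok : Net.ok 100 t_g149 = true := by decide +kernel

noncomputable def ht_c13_K : List Net := [t_g147, t_g148, t_g92, t_g149]

theorem ht_c13_K_ok : okE 100 ht_c13_K = true := (okE_cons.2 ⟨t_g147_ok, (okE_cons.2 ⟨t_g148_ok, (okE_cons.2 ⟨t_g92_ok, (okE_cons.2 ⟨t_g149_ok, (okE_nil 100)⟩)⟩)⟩)⟩)

noncomputable def t_g151 : Net := (Net.cons (nat_lit 1) (nat_lit 0x4400415415111504011551400) (Net.cons (nat_lit 2) (nat_lit 0x3023330302200212020001000) (Net.cons (nat_lit 4) (nat_lit 0x800090d050a020707030100) (Net.cons (nat_lit 8) (nat_lit 0xc200df0087005b0042000a) (Net.cons (nat_lit 16) (nat_lit 0x91190000613200000001) (Net.cons (nat_lit 32) (nat_lit 0x30000000080337d40) (Net.cons (nat_lit 64) (nat_lit 0xedbf7d57) (Net.cons (nat_lit 32) (nat_lit 0x800000000e613b94c) (Net.cons (nat_lit 16) (nat_lit 0xb13d000061b5000025a7) (Net.cons (nat_lit 8) (nat_lit 0xd009b009700ad002b000e) (Net.cons (nat_lit 4) (nat_lit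 0x9050f0901080b0800060900) (Net.cons (nat_lit 2) (nat_lit 0x3110120023201013021023220) (Net.cons (nat_lit 1) (nat_lit 0x4141151010011401155504010) Net.nil)))))))))))))

theorem t_g151_ok : Net.ok 100 t_g151 = true := by decide +kernel

noncomputable def t_g152 : Net := (Net.cons (nat_lit 1) (nat_lit 0x5555405441110041144045400) (Net.cons (nat_lit 2) (nat_lit 0x3033200333330100320331000) (Net.cons (nat_lit 4) (nat_lit 0xe0001020805010a00070c01) (Net.cons (nat_lit 8) (nat_lit 0x14001b0024006200430005) (Net.cons (nat_lit 16) (nat_lit 0x22250000028d00000000) (Net.cons (nat_lit 32) (nat_lit 0x80000000029111060) (Net.cons (nat_lit 64) (nat_lit 0xd2f7b3164) (Net.cons (nat_lit 32) (nat_lit 0xe00000000a8951364) (Net.cons (nat_lit 16) (nat_lit 0x43850000e72f00006921) (Net.cons (nat_lit 8) (nat_lit 0x34003b008400c200f300a5) (Net.cons (nat_lit 4) (nat_lit 0xe0001020805010a00070c01) (Net.cons (nat_lit 2) (nat_lit 0x3033200333330102320331000)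 (Net.cons (nat_lit 1) (nat_lit 0x5555405441110041144045400) Net.nil)))))))))))))

theorem t_g152_ok : Net.ok 100 t_g152 = true := by decide +kernel

noncomputable def t_V153 : List Net := [t_g151, t_g100, t_g152]

theorem t_V153_ok : okE 100 t_V153 = true := (okE_cons.2 ⟨t_g151_ok, (okE_cons.2 ⟨t_g100_ok, (okE_cons.2 ⟨t_g152_ok, (okE_nil 100)⟩)⟩)⟩)

noncomputable def t_V155 : List Net := [t_g100, t_g152]

theorem t_V155_ok : okE 100 t_V155 = true := (okE_cons.2 ⟨t_g100_ok, (okE_cons.2 ⟨t_g152_ok, (okE_nil 100)⟩)⟩)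

noncomputable def t_V156 : List Net := [t_g152]

theorem t_V156_ok : okE 100 t_V156 = true := (okE_cons.2 ⟨t_g152_ok, (okE_nil 100)⟩)

noncomputable def t_V157 : List Net := []

theorem t_V157_ok : okE 100 t_V157 = true := (okE_nil 100)

noncomputable def ht_c13_cnt_EG : List Net := [HSM.g1, HSM.g2, HSM.g3, HSM.g4, HSM.g7, HSM.g8, HSM.g11, HSM.g12, HSM.g13, HSM.g16, t_g151, t_g100, t_g152, t_g99, t_g84, t_g101, t_g102, t_g83, t_g85, t_g82]

theorem ht_c13_cnt_EG_ok : okE 100 ht_c13_cnt_EG = true := (okE_cons.2 ⟨HSM.g1_ok, (okE_cons.2 ⟨HSM.g2_ok, (okE_cons.2 ⟨HSM.g3_ok, (okE_cons.2 ⟨HSM.g4_ok, (okE_cons.2 ⟨HSM.g7_ok, (okE_cons.2 ⟨HSM.g8_ok, (okE_cons.2 ⟨HSM.g11_ok, (okE_cons.2 ⟨HSM.g12_ok, (okE_cons.2 ⟨HSM.g13_ok, (okE_cons.2 ⟨HSM.g16_ok, (okE_cons.2 ⟨t_g151_ok, (okE_cons.2 ⟨t_g100_ok, (okE_cons.2 ⟨t_g152_ok, (okE_cons.2 ⟨t_g99_ok, (okE_cons.2 ⟨t_g84_ok, (okE_cons.2 ⟨t_g101_ok, (okE_cons.2 ⟨t_g102_ok, (okE_cons.2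 ⟨t_g83_ok, (okE_cons.2 ⟨t_g85_ok, (okE_cons.2 ⟨t_g82_ok, (okE_nil 100)⟩)⟩)⟩)⟩)⟩)⟩)⟩)⟩)⟩)⟩)⟩)⟩)⟩)⟩)⟩)⟩)⟩)⟩)⟩)⟩)

noncomputable def t_g158 : Net := (Net.cons (nat_lit 1) (nat_lit 0x4515045400000155415041100) (Net.cons (nat_lit 2) (nat_lit 0x2322113002123012131203100) (Net.cons (nat_lit 4) (nat_lit 0xd08070e080b07000200010c) (Net.cons (nat_lit 8) (nat_lit 0x8200820062005c00a60000) (Net.cons (nat_lit 16) (nat_lit 0x72e00000002100000002) (Net.cons (nat_lit 32) (nat_lit 0x8000000000e002450) (Net.cons (nat_lit 64) (nat_lit 0x31e8d677c) (Net.cons (nat_lit 32) (nat_lit 0xf000000005daa179d) (Net.cons (nat_lit 16) (nat_lit 0x210c0000bfee00004bf2) (Net.cons (nat_lit 8) (nat_lit 0x4300cb00060016008600b2) (Net.cons (nat_lit 4) (nat_lit 0xf03040e0108010e0c0a02) (Net.cons (nat_lit 2) (nat_lit 0x3030232220021130023311022) (Net.cons (nat_lit 1) (nat_lit 0x541005510115054405111504) Net.nil)))))))))))))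

theorem t_g158_ok : Net.ok 100 t_g158 = true := by decide +kernel

noncomputable def t_g159 : Net := (Net.cons (nat_lit 1) (nat_lit 0x405410140445000111145004) (Net.cons (nat_lit 2) (nat_lit 0x2032230300333323023100010) (Net.cons (nat_lit 4) (nat_lit 0xd05080305050f090801060f) (Net.cons (nat_lit 8) (nat_lit 0x2a00980009008400000005) (Net.cons (nat_lit 16) (nat_lit 0x50110000cf020000000b) (Net.cons (nat_lit 32) (nat_lit 0x50000000047850890) (Net.cons (nat_lit 64) (nat_lit 0xa6fbd5fd5) (Net.cons (nat_lit 32) (nat_lit 0xd00000000818f6afc) (Net.cons (nat_lit 16) (nat_lit 0xe1590000370d0000b713) (Net.cons (nat_lit 8) (nat_lit 0x1d0003004a00cc00180061) (Net.cons (nat_lit 4) (nat_lit 0x707060a0b010e0b0701010d) (Net.cons (nat_lit 2) (nat_lit 0x1033032323311101103100311) (Net.cons (nat_lit 1) (nat_lit 0x4150515015510444540555410) Net.nil)))))))))))))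

theorem t_g159_ok : Net.ok 100 t_g159 = true := by decide +kernel

noncomputable def ht_c14_K : List Net := [t_g159, t_g158, t_g79]

theorem ht_c14_K_ok : okE 100 ht_c14_K = true := (okE_cons.2 ⟨t_g159_ok, (okE_cons.2 ⟨t_g158_ok, (okE_cons.2 ⟨t_g79_ok, (okE_nil 100)⟩)⟩)⟩)

noncomputable def t_V161 : List Net := []

theorem t_V161_ok : okE 100 t_V161 = true := (okE_nil 100)

noncomputable def ht_c14_cnt_EG : List Net := [HSM.g1, HSM.g2, HSM.g3, HSM.g4, HSM.g7, HSM.g8, HSM.g11, HSM.g12, HSM.g13, HSM.g16, t_g83, t_g84, t_g85, t_g82, t_g99, t_g100, t_g101, t_g102]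

theorem ht_c14_cnt_EG_ok : okE 100 ht_c14_cnt_EG = true := (okE_cons.2 ⟨HSM.g1_ok, (okE_cons.2 ⟨HSM.g2_ok, (okE_cons.2 ⟨HSM.g3_ok, (okE_cons.2 ⟨HSM.g4_ok, (okE_cons.2 ⟨HSM.g7_ok, (okE_cons.2 ⟨HSM.g8_ok, (okE_cons.2 ⟨HSM.g11_ok, (okE_cons.2 ⟨HSM.g12_ok, (okE_cons.2 ⟨HSM.g13_ok, (okE_cons.2 ⟨HSM.g16_ok, (okE_cons.2 ⟨t_g83_ok, (okE_cons.2 ⟨t_g84_ok, (okE_cons.2 ⟨t_g85_ok, (okE_cons.2 ⟨t_g82_ok, (okE_cons.2 ⟨t_g99_ok, (okE_cons.2 ⟨t_g100_ok, (okE_cons.2 ⟨t_g101_ok, (okE_cons.2 ⟨t_g102_ok, (okE_nil 100)⟩)⟩)⟩)⟩)⟩)⟩)⟩)⟩)⟩)⟩)⟩)⟩)⟩)⟩)⟩)⟩)⟩)⟩)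

noncomputable def t_g163 : Net := (Net.cons (nat_lit 1) (nat_lit 0x5501014110045004414051050) (Net.cons (nat_lit 2) (nat_lit 0x1230313233222222101030110) (Net.cons (nat_lit 4) (nat_lit 0xd0b010b00010f0104030006) (Net.cons (nat_lit 8) (nat_lit 0x1100a80039000b00900000) (Net.cons (nat_lit 16) (nat_lit 0xc89d000027200000000d) (Net.cons (nat_lit 32) (nat_lit 0x1e316880) (Net.cons (nat_lit 64) (nat_lit 0xc7ebdfee9) (Net.cons (nat_lit 32) (nat_lit 0xf0000000037a24a09) (Net.cons (nat_lit 16) (nat_lit 0x13ec00006bf2000091af) (Net.cons (nat_lit 8) (nat_lit 0x110096008f00d50000007b) (Net.cons (nat_lit 4) (nat_lit 0xe0401060f0d0204020f0a0c) (Net.cons (nat_lit 2) (nat_lit 0x3110221012331111312333313) (Net.cons (nat_lit 1) (nat_lit 0x4514155455154514155144150) Net.nil)))))))))))))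

theorem t_g163_ok : Net.ok 100 t_g163 = true := by decide +kernel

noncomputable def t_g164 : Net := (Net.cons (nat_lit 1) (nat_lit 0x50555014101441504041154) (Net.cons (nat_lit 2) (nat_lit 0x323032023221032100132210) (Net.cons (nat_lit 4) (nat_lit 0xc0e05040a0c06030b050300) (Net.cons (nat_lit 8) (nat_lit 0x8800c1008300c200980008) (Net.cons (nat_lit 16) (nat_lit 0x89380000220500000001) (Net.cons (nat_lit 32) (nat_lit 0xd0000000052a9ec00) (Net.cons (nat_lit 64) (nat_lit 0x6f6aded9b) (Net.cons (nat_lit 32) (nat_lit 0xd000000001dcc9400) (Net.cons (nat_lit 16) (nat_lit 0xd5850000785c00003d06) (Net.cons (nat_lit 8) (nat_lit 0x9100ea009400d800f000e5) (Net.cons (nat_lit 4) (nat_lit 0xf0a0a0202060c060e030a0a) (Net.cons (nat_lit 2) (nat_lit 0x202110123003213031201020) (Net.cons (nat_lit 1) (nat_lit 0x5550501155540555104145150) Net.nil)))))))))))))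

theorem t_g164_ok : Net.ok 100 t_g164 = true := by decide +kernel

noncomputable def t_g165 : Net := (Net.cons (nat_lit 1) (nat_lit 0x1455050001150104054440100) (Net.cons (nat_lit 2) (nat_lit 0x3123101330320220300030000) (Net.cons (nat_lit 4) (nat_lit 0x80c0c040408010800050c03) (Net.cons (nat_lit 8) (nat_lit 0xa400c60040002800190002) (Net.cons (nat_lit 16) (nat_lit 0x86c400006c0900000000) (Net.cons (nat_lit 32) (nat_lit 0x10000000020804c00) (Net.cons (nat_lit 64) (nat_lit 0xa24c2ee03) (Net.cons (nat_lit 32) (nat_lit 0x7000000008a732da2) (Net.cons (nat_lit 16) (nat_lit 0x374c00006489000072c0) (Net.cons (nat_lit 8) (nat_lit 0x6600060080002800db00ca) (Net.cons (nat_lit 4) (nat_lit 0x80c0e070e080902020d0c03) (Net.cons (nat_lit 2) (nat_lit 0x3123321330122220120130020) (Net.cons (nat_lit 1) (nat_lit 0x1455050001150104054440100) Net.nil)))))))))))))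

theorem t_g165_ok : Net.ok 100 t_g165 = true := by decide +kernel

noncomputable def ht_c15_K : List Net := [t_g163, t_g28, t_g164, t_g165]

theorem ht_c15_K_ok : okE 100 ht_c15_K = true := (okE_cons.2 ⟨t_g163_ok, (okE_cons.2 ⟨t_g28_ok, (okE_cons.2 ⟨t_g164_ok, (okE_cons.2 ⟨t_g165_ok, (okE_nil 100)⟩)⟩)⟩)⟩)

noncomputable def t_V167 : List Net := []

theorem t_V167_ok : okE 100 t_V167 = true := (okE_nil 100)

noncomputable def ht_c15_cnt_EG : List Net := [HSM.g1, HSM.g2, HSM.g3, HSM.g4, HSM.g7, HSM.g8, HSM.g11, HSM.g12, HSM.g13, HSM.g16, t_g151, t_g100, t_g152, t_g99, t_g84, t_g101, t_g102, t_g83, t_g85, t_g82]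

theorem ht_c15_cnt_EG_ok : okE 100 ht_c15_cnt_EG = true := (okE_cons.2 ⟨HSM.g1_ok, (okE_cons.2 ⟨HSM.g2_ok, (okE_cons.2 ⟨HSM.g3_ok, (okE_cons.2 ⟨HSM.g4_ok, (okE_cons.2 ⟨HSM.g7_ok, (okE_cons.2 ⟨HSM.g8_ok, (okE_cons.2 ⟨HSM.g11_ok, (okE_cons.2 ⟨HSM.g12_ok, (okE_cons.2 ⟨HSM.g13_ok, (okE_cons.2 ⟨HSM.g16_ok, (okE_cons.2 ⟨t_g151_ok, (okE_cons.2 ⟨t_g100_ok, (okE_cons.2 ⟨t_g152_ok, (okE_cons.2 ⟨t_g99_ok, (okE_cons.2 ⟨t_g84_ok, (okE_cons.2 ⟨t_g101_ok, (okE_cons.2 ⟨t_g102_ok, (okE_cons.2 ⟨t_g83_ok, (okE_cons.2 ⟨t_g85_ok, (okE_cons.2 ⟨t_g82_ok, (okE_nil 100)⟩)⟩)⟩)⟩)⟩)⟩)⟩)⟩)⟩)⟩)⟩)⟩)⟩)⟩)⟩)⟩)⟩)⟩)⟩)⟩)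

noncomputable def t_g169 : Net := (Net.cons (nat_lit 1) (nat_lit 0x414045104154444041410050) (Net.cons (nat_lit 2) (nat_lit 0x2002320323300323203130020) (Net.cons (nat_lit 4) (nat_lit 0x701070f0f030c0104070401) (Net.cons (nat_lit 8) (nat_lit 0x2d00a100bd00f500000005) (Net.cons (nat_lit 16) (nat_lit 0xd000000843100000000) (Net.cons (nat_lit 32) (nat_lit 0x80000000002042c50) (Net.cons (nat_lit 64) (nat_lit 0xa9a746fd6) (Net.cons (nat_lit 32) (nat_lit 0xd00000000514d98b8) (Net.cons (nat_lit 16) (nat_lit 0x51a30000cdfd0000925b) (Net.cons (nat_lit 8) (nat_lit 0x3500db006a00ad00a50011) (Net.cons (nat_lit 4) (nat_lit 0xf0e0b05020e0b050a080f06) (Net.cons (nat_lit 2) (nat_lit 0x1332020233033010110203) (Net.cons (nat_lit 1) (nat_lit 0x140045551541505510100500) Net.nil)))))))))))))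

theorem t_g169_ok : Net.ok 100 t_g169 = true := by decide +kernel

noncomputable def t_g170 : Net := (Net.cons (nat_lit 1) (nat_lit 0x551015014505510401404400) (Net.cons (nat_lit 2) (nat_lit 0x2311000320200330220230120) (Net.cons (nat_lit 4) (nat_lit 0xe080c0c000302070c03070e) (Net.cons (nat_lit 8) (nat_lit 0x2500a9008f0025000a000a) (Net.cons (nat_lit 16) (nat_lit 0x5803000001f200000009) (Net.cons (nat_lit 32) (nat_lit 0x60000000008710200) (Net.cons (nat_lit 64) (nat_lit 0x34b7d32a5) (Net.cons (nat_lit 32) (nat_lit 0xd000000006a8bd106) (Net.cons (nat_lit 16) (nat_lit 0xd15a0000092700003006) (Net.cons (nat_lit 8) (nat_lit 0xc400d5008f00d80018004a) (Net.cons (nat_lit 4) (nat_lit 0xc0c0e0b00040a060c0a0b03) (Net.cons (nat_lit 2) (nat_lit 0x3111231223133210013331112) (Net.cons (nat_lit 1) (nat_lit 0x1055015444504410000505004) Net.nil)))))))))))))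

theorem t_g170_ok : Net.ok 100 t_g170 = true := by decide +kernel

noncomputable def ht_c16_K : List Net := [t_g169, t_g170, t_g1]

theorem ht_c16_K_ok : okE 100 ht_c16_K = true := (okE_cons.2 ⟨t_g169_ok, (okE_cons.2 ⟨t_g170_ok, (okE_cons.2 ⟨t_g1_ok, (okE_nil 100)⟩)⟩)⟩)

noncomputable def t_g172 : Net := (Net.cons (nat_lit 1) (nat_lit 0x415014400051054500101000) (Net.cons (nat_lit 2) (nat_lit 0x10121013010020122300100) (Net.cons (nat_lit 4) (nat_lit 0x30e0e0a0b0d0200030400) (Net.cons (nat_lit 8) (nat_lit 0x8a00dd00a0001200210000) (Net.cons (nat_lit 16) (nat_lit 0x1a1f0000f20400000000) (Net.cons (nat_lit 32) (nat_lit 0x100000000522a8110) (Net.cons (nat_lit 64) (nat_lit 0x372abd992) (Net.cons (nat_lit 32) (nat_lit 0x500000000da3aa314) (Net.cons (nat_lit 16) (nat_lit 0x1e5f0000f68400000140) (Net.cons (nat_lit 8) (nat_lit 0x8a00dd00e0002300250000) (Net.cons (nat_lit 4) (nat_lit 0x20e0f0b0b0c0702090400) (Net.cons (nat_lit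 2) (nat_lit 0x210131013010020122120100) (Net.cons (nat_lit 1) (nat_lit 0x415014400051054500101000) Net.nil)))))))))))))

theorem t_g172_ok : Net.ok 100 t_g172 = true := by decide +kernel

noncomputable def t_g173 : Net := (Net.cons (nat_lit 1) (nat_lit 0x14400415400054150040000) (Net.cons (nat_lit 2) (nat_lit 0x1101132031100012000000) (Net.cons (nat_lit 4) (nat_lit 0x60304080506010100050000) (Net.cons (nat_lit 8) (nat_lit 0xad008d0042004700210004) (Net.cons (nat_lit 16) (nat_lit 0x3c030000194100000009) (Net.cons (nat_lit 32) (nat_lit 0x26111990) (Net.cons (nat_lit 64) (nat_lit 0xbf753ff99) (Net.cons (nat_lit 32) (nat_lit 0xc000000001b81ae7c) (Net.cons (nat_lit 16) (nat_lit 0xcb1300006ed10000e589) (Net.cons (nat_lit 8) (nat_lit 0xbd001d005200d700b10004) (Net.cons (nat_lit 4) (nat_lit 0x60304080f06010000050100) (Net.cons (nat_lit 2) (nat_lit 0x1301130231100012000000) (Net.cons (nat_lit 1) (nat_lit 0x114400415400054050040100)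 Net.nil)))))))))))))

theorem t_g173_ok : Net.ok 100 t_g173 = true := by decide +kernel

noncomputable def t_g174 : Net := (Net.cons (nat_lit 1) (nat_lit 0x1405441400401055440101000) (Net.cons (nat_lit 2) (nat_lit 0x3002210022300132223010300) (Net.cons (nat_lit 4) (nat_lit 0x90d04010402080000000c00) (Net.cons (nat_lit 8) (nat_lit 0x1900240031001400200000) (Net.cons (nat_lit 16) (nat_lit 0x30b70000500000000000) (Net.cons (nat_lit 32) (nat_lit 0x19284e40) (Net.cons (nat_lit 64) (nat_lit 0x2597afec0) (Net.cons (nat_lit 32) (nat_lit 0xd000000003d2c4f44) (Net.cons (nat_lit 16) (nat_lit 0x38b70000d81500000224) (Net.cons (nat_lit 8) (nat_lit 0x5b00240033003400610040) (Net.cons (nat_lit 4) (nat_lit 0x90d04050402080c08080c00) (Net.cons (nat_lit 2) (nat_lit 0x3002210022300132223010300) (Net.cons (nat_lit 1) (nat_lit 0x1405445400501055440101000) Net.nil)))))))))))))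

theorem t_g174_ok : Net.ok 100 t_g174 = true := by decide +kernel

noncomputable def t_V175 : List Net := [t_g172, t_g173, t_g174]

theorem t_V175_ok : okE 100 t_V175 = true := (okE_cons.2 ⟨t_g172_ok, (okE_cons.2 ⟨t_g173_ok, (okE_cons.2 ⟨t_g174_ok, (okE_nil 100)⟩)⟩)⟩)

noncomputable def t_V177 : List Net := [t_g173, t_g174]

theorem t_V177_ok : okE 100 t_V177 = true := (okE_cons.2 ⟨t_g173_ok, (okE_cons.2 ⟨t_g174_ok, (okE_nil 100)⟩)⟩)

noncomputable def t_V178 : List Net := [t_g174]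

theorem t_V178_ok : okE 100 t_V178 = true := (okE_cons.2 ⟨t_g174_ok, (okE_nil 100)⟩)

noncomputable def t_V179 : List Net := []

theorem t_V179_ok : okE 100 t_V179 = true := (okE_nil 100)

noncomputable def ht_c16_cnt_EG : List Net := [HSM.g1, HSM.g2, HSM.g3, HSM.g4, HSM.g7, HSM.g8, HSM.g11, HSM.g12, HSM.g13, HSM.g16, t_g173, t_g174, t_g172]

theorem ht_c16_cnt_EG_ok : okE 100 ht_c16_cnt_EG = true := (okE_cons.2 ⟨HSM.g1_ok, (okE_cons.2 ⟨HSM.g2_ok, (okE_cons.2 ⟨HSM.g3_ok, (okE_cons.2 ⟨HSM.g4_ok, (okE_cons.2 ⟨HSM.g7_ok, (okE_cons.2 ⟨HSM.g8_ok, (okE_cons.2 ⟨HSM.g11_ok, (okE_cons.2 ⟨HSM.g12_ok, (okE_cons.2 ⟨HSM.g13_ok, (okE_cons.2 ⟨HSM.g16_ok, (okE_cons.2 ⟨t_g173_ok, (okE_cons.2 ⟨t_g174_ok, (okE_cons.2 ⟨t_g172_ok, (okE_nil 100)⟩)⟩)⟩)⟩)⟩)⟩)⟩)⟩)⟩)⟩)⟩)⟩)⟩)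

noncomputable def t_g180 : Net := (Net.cons (nat_lit 1) (nat_lit 0x5055040145505440554555504) (Net.cons (nat_lit 2) (nat_lit 0x2310103220221133330021110) (Net.cons (nat_lit 4) (nat_lit 0x602080905000a010400000c) (Net.cons (nat_lit 8) (nat_lit 0xa000ea0019007b004c000d) (Net.cons (nat_lit 16) (nat_lit 0x309300001a2900000005) (Net.cons (nat_lit 32) (nat_lit 0x31190940) (Net.cons (nat_lit 64) (nat_lit 0xb3d1fedd8) (Net.cons (nat_lit 32) (nat_lit 0x600000000105e7aa4) (Net.cons (nat_lit 16) (nat_lit 0xa2d20000703a00003624) (Net.cons (nat_lit 8) (nat_lit 0x40009d00a9008f000f004f) (Net.cons (nat_lit 4) (nat_lit 0xd050a05090e0f070c0c0d0b) (Net.cons (nat_lit 2) (nat_lit 0x3003203111011003030133003) (Net.cons (nat_lit 1) (nat_lit 0x5415455554500141044554445) Net.nil)))))))))))))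

theorem t_g180_ok : Net.ok 100 t_g180 = true := by decide +kernel

noncomputable def t_g181 : Net := (Net.cons (nat_lit 1) (nat_lit 0x1500404004545505000100414) (Net.cons (nat_lit 2) (nat_lit 0x1013003013002320011002000) (Net.cons (nat_lit 4) (nat_lit 0x5050006050f010b04070000) (Net.cons (nat_lit 8) (nat_lit 0x8100cc001800810085000b) (Net.cons (nat_lit 16) (nat_lit 0xc1020000c2820000000c) (Net.cons (nat_lit 32) (nat_lit 0x80000000010393c70) (Net.cons (nat_lit 64) (nat_lit 0x3b2bd7d7e) (Net.cons (nat_lit 32) (nat_lit 0x60000000091527bbe) (Net.cons (nat_lit 16) (nat_lit 0x49c000016dd00003a0e) (Net.cons (nat_lit 8) (nat_lit 0x22004700ed00b700fa00af) (Net.cons (nat_lit 4) (nat_lit 0x50b0b0f060e0f0f05060c01) (Net.cons (nat_lit 2) (nat_lit 0x3231303220231012033322303) (Net.cons (nat_lit 1) (nat_lit 0x1114500100545541541145044) Net.nil)))))))))))))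

theorem t_g181_ok : Net.ok 100 t_g181 = true := by decide +kernel

noncomputable def ht_c17_K : List Net := [t_g180, t_g181]

theorem ht_c17_K_ok : okE 100 ht_c17_K = true := (okE_cons.2 ⟨t_g180_ok, (okE_cons.2 ⟨t_g181_ok, (okE_nil 100)⟩)⟩)

noncomputable def ht_c17_cnt_EG : List Net := [HSM.g1, HSM.g2, HSM.g3, HSM.g4, HSM.g7, HSM.g8, HSM.g11, HSM.g12, HSM.g13, HSM.g16]

theorem ht_c17_cnt_EG_ok : okE 100 ht_c17_cnt_EG = true := (okE_cons.2 ⟨HSM.g1_ok, (okE_cons.2 ⟨HSM.g2_ok, (okE_cons.2 ⟨HSM.g3_ok, (okE_cons.2 ⟨HSM.g4_ok, (okE_cons.2 ⟨HSM.g7_ok, (okE_cons.2 ⟨HSM.g8_ok, (okE_cons.2 ⟨HSM.g11_ok, (okE_cons.2 ⟨HSM.g12_ok, (okE_cons.2 ⟨HSM.g13_ok, (okE_cons.2 ⟨HSM.g16_ok, (okE_nil 100)⟩)⟩)⟩)⟩)⟩)⟩)⟩)⟩)⟩)⟩)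

noncomputable def t_g183 : Net := (Net.cons (nat_lit 1) (nat_lit 0x5050415141511104005540400) (Net.cons (nat_lit 2) (nat_lit 0x1020232310002202033333010) (Net.cons (nat_lit 4) (nat_lit 0xe06000f0403080d0308) (Net.cons (nat_lit 8) (nat_lit 0x80007200cb00a800250002) (Net.cons (nat_lit 16) (nat_lit 0xa2690000a0c200000002) (Net.cons (nat_lit 32) (nat_lit 0xd000000005042a430) (Net.cons (nat_lit 64) (nat_lit 0x65252adfb) (Net.cons (nat_lit 32) (nat_lit 0x4000000001af11d15) (Net.cons (nat_lit 16) (nat_lit 0x8bae00005d640000be00) (Net.cons (nat_lit 8) (nat_lit 0x58002200cf004a00490014) (Net.cons (nat_lit 4) (nat_lit 0xe07070b0f0a050f060d0500) (Net.cons (nat_lit 2) (nat_lit 0x2321213110030220031112230) (Net.cons (nat_lit 1) (nat_lit 0x1440054050541505511101440) Net.nil)))))))))))))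

theorem t_g183_ok : Net.ok 100 t_g183 = true := by decide +kernel

noncomputable def ht_c18_K : List Net := [t_g183]

theorem ht_c18_K_ok : okE 100 ht_c18_K = true := (okE_cons.2 ⟨t_g183_ok, (okE_nil 100)⟩)

noncomputable def ht_c18_cnt_EG : List Net := [HSM.g1, HSM.g2, HSM.g3, HSM.g4, HSM.g7, HSM.g8, HSM.g11, HSM.g12, HSM.g13, HSM.g16, t_g142, t_g143, t_g13, t_g14, t_g15, t_g16, t_g17, t_g18, t_g19, t_g12]

theorem ht_c18_cnt_EG_ok : okE 100 ht_c18_cnt_EG = true := (okE_cons.2 ⟨HSM.g1_ok, (okE_cons.2 ⟨HSM.g2_ok, (okE_cons.2 ⟨HSM.g3_ok, (okE_cons.2 ⟨HSM.g4_ok, (okE_cons.2 ⟨HSM.g7_ok, (okE_cons.2 ⟨HSM.g8_ok, (okE_cons.2 ⟨HSM.g11_ok, (okE_cons.2 ⟨HSM.g12_ok, (okE_cons.2 ⟨HSM.g13_ok, (okE_cons.2 ⟨HSM.g16_ok, (okE_cons.2 ⟨t_g142_ok, (okE_cons.2 ⟨t_g143_ok, (okE_cons.2 ⟨t_g13_ok, (okE_cons.2 ⟨t_g14_ok, (okE_cons.2 ⟨t_g15_ok, (okE_cons.2 ⟨t_g16_ok, (okE_cons.2 ⟨t_g17_ok, (okE_cons.2 ⟨t_g18_ok, (okE_cons.2 ⟨t_g19_ok,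 (okE_cons.2 ⟨t_g12_ok, (okE_nil 100)⟩)⟩)⟩)⟩)⟩)⟩)⟩)⟩)⟩)⟩)⟩)⟩)⟩)⟩)⟩)⟩)⟩)⟩)⟩)⟩)

noncomputable def t_g185 : Net := (Net.cons (nat_lit 1) (nat_lit 0x5044044101501454450101404) (Net.cons (nat_lit 2) (nat_lit 0x2201031101112012112212010) (Net.cons (nat_lit 4) (nat_lit 0x50e0c07040104000d0d000e) (Net.cons (nat_lit 8) (nat_lit 0xec001e00c600080044000a) (Net.cons (nat_lit 16) (nat_lit 0x1e85000001a500000007) (Net.cons (nat_lit 32) (nat_lit 0xa00000000605c15d0) (Net.cons (nat_lit 64) (nat_lit 0x76bdf77dc) (Net.cons (nat_lit 32) (nat_lit 0x90000000066d5716b) (Net.cons (nat_lit 16) (nat_lit 0x33eb0000b9d700009976) (Net.cons (nat_lit 8) (nat_lit 0x61000f009b004d007400ea) (Net.cons (nat_lit 4) (nat_lit 0x8060e080f0906070001010c) (Net.cons (nat_lit 2) (nat_lit 0x3312111313000130133332131) (Net.cons (nat_lit 1) (nat_lit 0x1441505151105500541151514) Net.nil)))))))))))))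

theorem t_g185_ok : Net.ok 100 t_g185 = true := by decide +kernel

noncomputable def ht_c19_K : List Net := [t_g185]

theorem ht_c19_K_ok : okE 100 ht_c19_K = true := (okE_cons.2 ⟨t_g185_ok, (okE_nil 100)⟩)

noncomputable def ht_c19_cnt_EG : List Net := [HSM.g1, HSM.g2, HSM.g3, HSM.g4, HSM.g7, HSM.g8, HSM.g11, HSM.g12, HSM.g13, HSM.g16, t_g142, t_g143, t_g13, t_g14, t_g15, t_g16, t_g17, t_g18, t_g19, t_g12]

theorem ht_c19_cnt_EG_ok : okE 100 ht_c19_cnt_EG = true := (okE_cons.2 ⟨HSM.g1_ok, (okE_cons.2 ⟨HSM.g2_ok, (okE_cons.2 ⟨HSM.g3_ok, (okE_cons.2 ⟨HSM.g4_ok, (okE_cons.2 ⟨HSM.g7_ok, (okE_cons.2 ⟨HSM.g8_ok, (okE_cons.2 ⟨HSM.g11_ok, (okE_cons.2 ⟨HSM.g12_ok, (okE_cons.2 ⟨HSM.g13_ok, (okE_cons.2 ⟨HSM.g16_ok, (okE_cons.2 ⟨t_g142_ok, (okE_cons.2 ⟨t_g143_ok, (okE_cons.2 ⟨t_g13_ok, (okE_cons.2 ⟨t_g14_ok, (okE_cons.2 ⟨t_g15_ok, (okE_cons.2 ⟨t_g16_ok, (okE_cons.2 ⟨t_g17_ok, (okE_cons.2 ⟨t_g18_ok, (okE_cons.2 ⟨t_g19_ok,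 (okE_cons.2 ⟨t_g12_ok, (okE_nil 100)⟩)⟩)⟩)⟩)⟩)⟩)⟩)⟩)⟩)⟩)⟩)⟩)⟩)⟩)⟩)⟩)⟩)⟩)⟩)⟩)

noncomputable def t_g187 : Net := (Net.cons (nat_lit 1) (nat_lit 0x1051505150545040000555010) (Net.cons (nat_lit 2) (nat_lit 0x2232133123201210230120020) (Net.cons (nat_lit 4) (nat_lit 0xa0001090600010a09080004) (Net.cons (nat_lit 8) (nat_lit 0xfd000b0043009200bc000a) (Net.cons (nat_lit 16) (nat_lit 0xf20e0000803800000001) (Net.cons (nat_lit 32) (nat_lit 0x100000000100c4630) (Net.cons (nat_lit 64) (nat_lit 0x635bcdebb) (Net.cons (nat_lit 32) (nat_lit 0xd000000001bf98185) (Net.cons (nat_lit 16) (nat_lit 0x6f940000fa9400001b06) (Net.cons (nat_lit 8) (nat_lit 0xa800530040007900b100b9) (Net.cons (nat_lit 4) (nat_lit 0xd070d030f000e050703030e) (Net.cons (nat_lit 2) (nat_lit 0x1101101210301233003023030) (Net.cons (nat_lit 1) (nat_lit 0x4014145101410010551051555) Net.nil)))))))))))))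

theorem t_g187_ok : Net.ok 100 t_g187 = true := by decide +kernel

noncomputable def t_g188 : Net := (Net.cons (nat_lit 1) (nat_lit 0x1440011545054550500104400) (Net.cons (nat_lit 2) (nat_lit 0x1032213033013233030100210) (Net.cons (nat_lit 4) (nat_lit 0xb0f030f0e0e0d0f0e0b0700) (Net.cons (nat_lit 8) (nat_lit 0x70000400820032009c0002) (Net.cons (nat_lit 16) (nat_lit 0x40580000204a00000000) (Net.cons (nat_lit 32) (nat_lit 0x5000000007b401800) (Net.cons (nat_lit 64) (nat_lit 0xb7b53b866) (Net.cons (nat_lit 32) (nat_lit 0x8000000001674230f) (Net.cons (nat_lit 16) (nat_lit 0xb25400000bec000076e4) (Net.cons (nat_lit 8) (nat_lit 0x800091008d000500f100bd) (Net.cons (nat_lit 4) (nat_lit 0x2030b0b0f00070e0f0f0802) (Net.cons (nat_lit 2) (nat_lit 0x232232302201202001001312) (Net.cons (nat_lit 1) (nat_lit 0x1444445004410514515055544) Net.nil)))))))))))))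

theorem t_g188_ok : Net.ok 100 t_g188 = true := by decide +kernel

noncomputable def ht_c20_K : List Net := [t_g187, t_g188]

theorem ht_c20_K_ok : okE 100 ht_c20_K = true := (okE_cons.2 ⟨t_g187_ok, (okE_cons.2 ⟨t_g188_ok, (okE_nil 100)⟩)⟩)

noncomputable def ht_c20_cnt_EG : List Net := [HSM.g1, HSM.g2, HSM.g3, HSM.g4, HSM.g7, HSM.g8, HSM.g11, HSM.g12, HSM.g13, HSM.g16, t_g51, t_g52, t_g53, t_g54, t_g68, t_g69, t_g67]

theorem ht_c20_cnt_EG_ok : okE 100 ht_c20_cnt_EG = true := (okE_cons.2 ⟨HSM.g1_ok, (okE_cons.2 ⟨HSM.g2_ok, (okE_cons.2 ⟨HSM.g3_ok, (okE_cons.2 ⟨HSM.g4_ok, (okE_cons.2 ⟨HSM.g7_ok, (okE_cons.2 ⟨HSM.g8_ok, (okE_cons.2 ⟨HSM.g11_ok, (okE_cons.2 ⟨HSM.g12_ok, (okE_cons.2 ⟨HSM.g13_ok, (okE_cons.2 ⟨HSM.g16_ok, (okE_cons.2 ⟨t_g51_ok, (okE_cons.2 ⟨t_g52_ok, (okE_cons.2 ⟨t_g53_ok, (okE_cons.2 ⟨t_g54_ok, (okE_cons.2 ⟨t_g68_ok, (okE_cons.2 ⟨t_g69_ok, (okE_cons.2 ⟨t_g67_ok, (okE_nil 100)⟩)⟩)⟩)⟩)⟩)⟩)⟩)⟩)⟩)⟩)⟩)⟩)⟩)⟩)⟩)⟩)⟩)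

noncomputable def t_g190 : Net := (Net.cons (nat_lit 1) (nat_lit 0x445154154144514054504140) (Net.cons (nat_lit 2) (nat_lit 0x3222323202301003131323100) (Net.cons (nat_lit 4) (nat_lit 0x5090e07070c090e0e090507) (Net.cons (nat_lit 8) (nat_lit 0xe4006f00100040005f0000) (Net.cons (nat_lit 16) (nat_lit 0xb0530000610300000001) (Net.cons (nat_lit 32) (nat_lit 0xc000000008a007890) (Net.cons (nat_lit 64) (nat_lit 0x6bfa37cd8) (Net.cons (nat_lit 32) (nat_lit 0x30000000080d1332a) (Net.cons (nat_lit 16) (nat_lit 0xbca300005c5f00005929) (Net.cons (nat_lit 8) (nat_lit 0xa9005c005e00ea000c00d8) (Net.cons (nat_lit 4) (nat_lit 0x208060e020d040f020d0905) (Net.cons (nat_lit 2) (nat_lit 0x1023113112101100110310102) (Net.cons (nat_lit 1) (nat_lit 0x45504044051555154504414) Net.nil)))))))))))))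

theorem t_g190_ok : Net.ok 100 t_g190 = true := by decide +kernel

noncomputable def ht_c21_K : List Net := [t_g190, t_g44]

theorem ht_c21_K_ok : okE 100 ht_c21_K = true := (okE_cons.2 ⟨t_g190_ok, (okE_cons.2 ⟨t_g44_ok, (okE_nil 100)⟩)⟩)

noncomputable def ht_c21_cnt_EG : List Net := [HSM.g1, HSM.g2, HSM.g3, HSM.g4, HSM.g7, HSM.g8, HSM.g11, HSM.g12, HSM.g13, HSM.g16]

theorem ht_c21_cnt_EG_ok : okE 100 ht_c21_cnt_EG = true := (okE_cons.2 ⟨HSM.g1_ok, (okE_cons.2 ⟨HSM.g2_ok, (okE_cons.2 ⟨HSM.g3_ok, (okE_cons.2 ⟨HSM.g4_ok, (okE_cons.2 ⟨HSM.g7_ok, (okE_cons.2 ⟨HSM.g8_ok, (okE_cons.2 ⟨HSM.g11_ok, (okE_cons.2 ⟨HSM.g12_ok, (okE_cons.2 ⟨HSM.g13_ok, (okE_cons.2 ⟨HSM.g16_ok, (okE_nil 100)⟩)⟩)⟩)⟩)⟩)⟩)⟩)⟩)⟩)⟩)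

noncomputable def t_g192 : Net := (Net.cons (nat_lit 1) (nat_lit 0x1154045400151005401141104) (Net.cons (nat_lit 2) (nat_lit 0x3013221013132331311223000) (Net.cons (nat_lit 4) (nat_lit 0x7030d010c0c03040609060b) (Net.cons (nat_lit 8) (nat_lit 0x400018007400ea00ad0005) (Net.cons (nat_lit 16) (nat_lit 0xa279000063000000000d) (Net.cons (nat_lit 32) (nat_lit 0x10000000068008390) (Net.cons (nat_lit 64) (nat_lit 0x86f6dc3d5) (Net.cons (nat_lit 32) (nat_lit 0x7000000002d532f8b) (Net.cons (nat_lit 16) (nat_lit 0x40e00000b02e00001995) (Net.cons (nat_lit 8) (nat_lit 0xde006100760022002f0031) (Net.cons (nat_lit 4) (nat_lit 0xc01030a0703020f010e0e08) (Net.cons (nat_lit 2) (nat_lit 0x3322112311103123221030011) (Net.cons (nat_lit 1) (nat_lit 0x1411510550551454141455015) Net.nil)))))))))))))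

theorem t_g192_ok : Net.ok 100 t_g192 = true := by decide +kernel

noncomputable def ht_c22_K : List Net := [t_g192, t_g1]

theorem ht_c22_K_ok : okE 100 ht_c22_K = true := (okE_cons.2 ⟨t_g192_ok, (okE_cons.2 ⟨t_g1_ok, (okE_nil 100)⟩)⟩)

noncomputable def t_g194 : Net := (Net.cons (nat_lit 1) (nat_lit 0x1410540545411505115114400) (Net.cons (nat_lit 2) (nat_lit 0x12331330022303123312210) (Net.cons (nat_lit 4) (nat_lit 0xd0b050208010e04050c0802) (Net.cons (nat_lit 8) (nat_lit 0xb500540041001800230000) (Net.cons (nat_lit 16) (nat_lit 0x87180000290000000008) (Net.cons (nat_lit 32) (nat_lit 0x700000000c1ca6840) (Net.cons (nat_lit 64) (nat_lit 0xbedde6b74) (Net.cons (nat_lit 32) (nat_lit 0xd0000000031fd884c) (Net.cons (nat_lit 16) (nat_lit 0xcc2d0000fba00000152c) (Net.cons (nat_lit 8) (nat_lit 0xfe0005007100f4004b0092) (Net.cons (nat_lit 4) (nat_lit 0x20d0a010401060b00090000) (Net.cons (nat_lit 2) (nat_lit 0x1300133302030310320111330)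 (Net.cons (nat_lit 1) (nat_lit 0x411404544054541000510500) Net.nil)))))))))))))

theorem t_g194_ok : Net.ok 100 t_g194 = true := by decide +kernel

noncomputable def t_g195 : Net := (Net.cons (nat_lit 1) (nat_lit 0x1155540555444011540000000) (Net.cons (nat_lit 2) (nat_lit 0x3003133232000330203020300) (Net.cons (nat_lit 4) (nat_lit 0x9000d0409010f010a000404) (Net.cons (nat_lit 8) (nat_lit 0xcc00f00055006000200000) (Net.cons (nat_lit 16) (nat_lit 0x4030000201700000000) (Net.cons (nat_lit 32) (nat_lit 0x80000000061a14400) (Net.cons (nat_lit 64) (nat_lit 0xf63a575c6) (Net.cons (nat_lit 32) (nat_lit 0xc0000000095f7ae64) (Net.cons (nat_lit 16) (nat_lit 0x2c030000d4070000a242) (Net.cons (nat_lit 8) (nat_lit 0xda00b000050036007e0042) (Net.cons (nat_lit 4) (nat_lit 0x9040f0409050f010a040404) (Net.cons (nat_lit 2) (nat_lit 0x3003133232000330203020300) (Net.cons (nat_lit 1) (nat_lit 0x1155540555444011544000000) Net.nil)))))))))))))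

theorem t_g195_ok : Net.ok 100 t_g195 = true := by decide +kernel

noncomputable def t_g196 : Net := (Net.cons (nat_lit 1) (nat_lit 0x1000405414514155410001040) (Net.cons (nat_lit 2) (nat_lit 0x3313130132230103200002200) (Net.cons (nat_lit 4) (nat_lit 0x40d040308010c0406060d00) (Net.cons (nat_lit 8) (nat_lit 0x800090003000c00220000) (Net.cons (nat_lit 16) (nat_lit 0x6c200000286800000002) (Net.cons (nat_lit 32) (nat_lit 0xc5e28890) (Net.cons (nat_lit 64) (nat_lit 0xfede29db6) (Net.cons (nat_lit 32) (nat_lit 0xcbd6e6f0) (Net.cons (nat_lit 16) (nat_lit 0xe2810000a6c800002e02) (Net.cons (nat_lit 8) (nat_lit 0x8800290023008c004200a0) (Net.cons (nat_lit 4) (nat_lit 0x40d040308010c0407060d00) (Net.cons (nat_lit 2) (nat_lit 0x3313130132230103200002200) (Net.cons (nat_lit 1) (nat_lit 0x1400405414514155410001040) Net.nil)))))))))))))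

theorem t_g196_ok : Net.ok 100 t_g196 = true := by decide +kernel

noncomputable def t_V197 : List Net := [t_g194, t_g195, t_g196]

theorem t_V197_ok : okE 100 t_V197 = true := (okE_cons.2 ⟨t_g194_ok, (okE_cons.2 ⟨t_g195_ok, (okE_cons.2 ⟨t_g196_ok, (okE_nil 100)⟩)⟩)⟩)

noncomputable def t_V199 : List Net := [t_g195, t_g196]

theorem t_V199_ok : okE 100 t_V199 = true := (okE_cons.2 ⟨t_g195_ok, (okE_cons.2 ⟨t_g196_ok, (okE_nil 100)⟩)⟩)

noncomputable def t_V200 : List Net := [t_g196]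

theorem t_V200_ok : okE 100 t_V200 = true := (okE_cons.2 ⟨t_g196_ok, (okE_nil 100)⟩)

noncomputable def t_V201 : List Net := []

theorem t_V201_ok : okE 100 t_V201 = true := (okE_nil 100)

noncomputable def ht_c22_cnt_EG : List Net := [HSM.g1, HSM.g2, HSM.g3, HSM.g4, HSM.g7, HSM.g8, HSM.g11, HSM.g12, HSM.g13, HSM.g16, t_g195, t_g196, t_g194]

theorem ht_c22_cnt_EG_ok : okE 100 ht_c22_cnt_EG = true := (okE_cons.2 ⟨HSM.g1_ok, (okE_cons.2 ⟨HSM.g2_ok, (okE_cons.2 ⟨HSM.g3_ok, (okE_cons.2 ⟨HSM.g4_ok, (okE_cons.2 ⟨HSM.g7_ok, (okE_cons.2 ⟨HSM.g8_ok, (okE_cons.2 ⟨HSM.g11_ok, (okE_cons.2 ⟨HSM.g12_ok, (okE_cons.2 ⟨HSM.g13_ok, (okE_cons.2 ⟨HSM.g16_ok, (okE_cons.2 ⟨t_g195_ok, (okE_cons.2 ⟨t_g196_ok, (okE_cons.2 ⟨t_g194_ok, (okE_nil 100)⟩)⟩)⟩)⟩)⟩)⟩)⟩)⟩)⟩)⟩)⟩)⟩)⟩)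

noncomputable def t_g202 : Net := (Net.cons (nat_lit 1) (nat_lit 0x1501041145005550154041050) (Net.cons (nat_lit 2) (nat_lit 0x1232200121030310322130000) (Net.cons (nat_lit 4) (nat_lit 0x10c0a0508070109050a0300) (Net.cons (nat_lit 8) (nat_lit 0x4400050045002a00870002) (Net.cons (nat_lit 16) (nat_lit 0x1fa80000800c00000007) (Net.cons (nat_lit 32) (nat_lit 0x700000000806319b0) (Net.cons (nat_lit 64) (nat_lit 0x4e2efbdb3) (Net.cons (nat_lit 32) (nat_lit 0xa00000000b7e48509) (Net.cons (nat_lit 16) (nat_lit 0xa0b90000db7000007448) (Net.cons (nat_lit 8) (nat_lit 0x34000f00d00014002a0049) (Net.cons (nat_lit 4) (nat_lit 0x40c080f0c050b0b0605010c) (Net.cons (nat_lit 2) (nat_lit 0x3110031012321111122012023) (Net.cons (nat_lit 1) (nat_lit 0x5544041011410415041400445) Net.nil)))))))))))))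

theorem t_g202_ok : Net.ok 100 t_g202 = true := by decide +kernel

noncomputable def ht_c23_K : List Net := [t_g202, t_g1]

theorem ht_c23_K_ok : okE 100 ht_c23_K = true := (okE_cons.2 ⟨t_g202_ok, (okE_cons.2 ⟨t_g1_ok, (okE_nil 100)⟩)⟩)

noncomputable def ht_c23_cnt_EG : List Net := [HSM.g1, HSM.g2, HSM.g3, HSM.g4, HSM.g7, HSM.g8, HSM.g11, HSM.g12, HSM.g13, HSM.g16, t_g195, t_g196, t_g194]

theorem ht_c23_cnt_EG_ok : okE 100 ht_c23_cnt_EG = true := (okE_cons.2 ⟨HSM.g1_ok, (okE_cons.2 ⟨HSM.g2_ok, (okE_cons.2 ⟨HSM.g3_ok, (okE_cons.2 ⟨HSM.g4_ok, (okE_cons.2 ⟨HSM.g7_ok, (okE_cons.2 ⟨HSM.g8_ok, (okE_cons.2 ⟨HSM.g11_ok, (okE_cons.2 ⟨HSM.g12_ok, (okE_cons.2 ⟨HSM.g13_ok, (okE_cons.2 ⟨HSM.g16_ok, (okE_cons.2 ⟨t_g195_ok, (okE_cons.2 ⟨t_g196_ok, (okE_cons.2 ⟨t_g194_ok, (okE_nil 100)⟩)⟩)⟩)⟩)⟩)⟩)⟩)⟩)⟩)⟩)⟩)⟩)⟩)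

noncomputable def ht_nc15_13_cnt_EG : List Net := [HSM.g1, HSM.g2, HSM.g3, HSM.g4, HSM.g7, HSM.g8, HSM.g11, HSM.g12, HSM.g13, HSM.g16, t_g83, t_g84, t_g85, t_g82, t_g151, t_g100, t_g152, t_g99, t_g101, t_g102]

theorem ht_nc15_13_cnt_EG_ok : okE 100 ht_nc15_13_cnt_EG = true := (okE_cons.2 ⟨HSM.g1_ok, (okE_cons.2 ⟨HSM.g2_ok, (okE_cons.2 ⟨HSM.g3_ok, (okE_cons.2 ⟨HSM.g4_ok, (okE_cons.2 ⟨HSM.g7_ok, (okE_cons.2 ⟨HSM.g8_ok, (okE_cons.2 ⟨HSM.g11_ok, (okE_cons.2 ⟨HSM.g12_ok, (okE_cons.2 ⟨HSM.g13_ok, (okE_cons.2 ⟨HSM.g16_ok, (okE_cons.2 ⟨t_g83_ok, (okE_cons.2 ⟨t_g84_ok, (okE_cons.2 ⟨t_g85_ok, (okE_cons.2 ⟨t_g82_ok, (okE_cons.2 ⟨t_g151_ok, (okE_cons.2 ⟨t_g100_ok, (okE_cons.2 ⟨t_g152_ok, (okE_cons.2 ⟨t_g99_ok, (okE_cons.2 ⟨t_g101_ok, (okE_cons.2 ⟨t_g102_ok, (okE_nil 100)⟩)⟩)⟩)⟩)⟩)⟩)⟩)⟩)⟩)⟩)⟩)⟩)⟩)⟩)⟩)⟩)⟩)⟩)⟩)⟩)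

noncomputable def ht_nc19_18_cnt_EG : List Net := [HSM.g1, HSM.g2, HSM.g3, HSM.g4, HSM.g7, HSM.g8, HSM.g11, HSM.g12, HSM.g13, HSM.g16, t_g142, t_g143, t_g13, t_g14, t_g15, t_g16, t_g17, t_g18, t_g19, t_g12]

theorem ht_nc19_18_cnt_EG_ok : okE 100 ht_nc19_18_cnt_EG = true := (okE_cons.2 ⟨HSM.g1_ok, (okE_cons.2 ⟨HSM.g2_ok, (okE_cons.2 ⟨HSM.g3_ok, (okE_cons.2 ⟨HSM.g4_ok, (okE_cons.2 ⟨HSM.g7_ok, (okE_cons.2 ⟨HSM.g8_ok, (okE_cons.2 ⟨HSM.g11_ok, (okE_cons.2 ⟨HSM.g12_ok, (okE_cons.2 ⟨HSM.g13_ok, (okE_cons.2 ⟨HSM.g16_ok, (okE_cons.2 ⟨t_g142_ok, (okE_cons.2 ⟨t_g143_ok, (okE_cons.2 ⟨t_g13_ok, (okE_cons.2 ⟨t_g14_ok, (okE_cons.2 ⟨t_g15_ok, (okE_cons.2 ⟨t_g16_ok, (okE_cons.2 ⟨t_g17_ok, (okE_cons.2 ⟨t_g18_ok, (okE_cons.2 ⟨t_g19_ok, (okE_cons.2 ⟨t_g12_ok, (okE_nil 100)⟩)⟩)⟩)⟩)⟩)⟩)⟩)⟩)⟩)⟩)⟩)⟩)⟩)⟩)⟩)⟩)⟩)⟩)⟩)⟩)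

noncomputable def ht_nc23_22_cnt_EG : List Net := [HSM.g1, HSM.g2, HSM.g3, HSM.g4, HSM.g7, HSM.g8, HSM.g11, HSM.g12, HSM.g13, HSM.g16, t_g195, t_g196, t_g194]

theorem ht_nc23_22_cnt_EG_ok : okE 100 ht_nc23_22_cnt_EG = true := (okE_cons.2 ⟨HSM.g1_ok, (okE_cons.2 ⟨HSM.g2_ok, (okE_cons.2 ⟨HSM.g3_ok, (okE_cons.2 ⟨HSM.g4_ok, (okE_cons.2 ⟨HSM.g7_ok, (okE_cons.2 ⟨HSM.g8_ok, (okE_cons.2 ⟨HSM.g11_ok, (okE_cons.2 ⟨HSM.g12_ok, (okE_cons.2 ⟨HSM.g13_ok, (okE_cons.2 ⟨HSM.g16_ok, (okE_cons.2 ⟨t_g195_ok, (okE_cons.2 ⟨t_g196_ok, (okE_cons.2 ⟨t_g194_ok, (okE_nil 100)⟩)⟩)⟩)⟩)⟩)⟩)⟩)⟩)⟩)⟩)⟩)⟩)⟩)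

theorem T_s0 : Stab 100 (grp 100 HSM.E) [] HSM.lb_E 44352000 :=
  Stab.root' HSM.lb_E_ok HSM.eq_lb HSM.card_grp

theorem t_le10 : grp 100 ht_c1_K ≤ grp 100 HSM.lb_E :=
  grp_le_of_memB t_hn t_hk HSM.lb_E_ok ht_c1_K_ok (ws := [nat_lit 0x140d0d0a13050e09010910, nat_lit 0xd0f110a0c0c060c010303, nat_lit 0x140d120c0e050d0413, nat_lit 0xd0d1109090f0806030b, nat_lit 0x14100b140b060a0113, nat_lit 0x140f12090f0f050510020a, nat_lit 0x10110b0d0606060113, nat_lit 0xe0f140c0c050514020a]) (by decide +kernel)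

theorem ht_c1_le : grp 100 ht_c1_K ≤ (grp 100 HSM.E) :=
  (t_le10.trans T_s0.le)

theorem ht_c1_mem : Net.toPerm 100 t_g1 ∈ (grp 100 HSM.E) :=
  ht_c1_le (mem_grp_of_memB t_hn t_hk ht_c1_K_ok t_g1_ok (w := (nat_lit 986377)) (by decide +kernel))

theorem ht_c1_sym : Sym 100 (grp 100 HSM.E) [t_g1] ht_c1_K 0 :=
  Sym.of_lab t_hn t_hk (okE_cons.2 ⟨t_g1_ok, okE_nil _⟩) ht_c1_K_ok ht_c1_le (kT := 0) (by decide +kernel)

theorem T_s1 : Stab 100 (grp 100 HSM.E) [nat_lit 0] t_V11 443520 :=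
  Stab.step (k := 7) (L := (lab 100 7)) t_hn T_s0 t_V11_ok (grp_mono (List.subset_append_right [HSM.g1, HSM.g2] _)) (c := (Ch.cons (nat_lit 3) [nat_lit 1, nat_lit 3] (Ch.cons (nat_lit 4) [nat_lit 5, nat_lit 7] (Ch.cons (nat_lit 6) [nat_lit 9, nat_lit 11, nat_lit 13] (Ch.cons (nat_lit 2) [nat_lit 15, nat_lit 17] Ch.nil))))) (by decide +kernel)

theorem t_le21 : grp 100 t_V20 ≤ grp 100 t_V11 :=
  grp_le_of_memB t_hn t_hk t_V11_ok t_V20_ok (ws := [nat_lit 0x90b0805010604, nat_lit 0xf090d050a0c01010a, nat_lit 0xf0a0b1008040d, nat_lit 0xf090b050e, nat_lit 0xe0a0608080210, nat_lit 0x100e050510010104, nat_lit 0x1009050f07, nat_lit 0x10090b0d050a0c0105]) (by decide +kernel)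

theorem T_s2 : Stab 100 (grp 100 HSM.E) [nat_lit 48, nat_lit 0] t_V20 20160 :=
  Stab.step (k := 7) (L := (lab 100 7)) t_hn T_s1 t_V20_ok t_le21 (c := (Ch.cons (nat_lit 28) [nat_lit 1] (Ch.cons (nat_lit 90) [nat_lit 3] (Ch.cons (nat_lit 49) [nat_lit 5] (Ch.cons (nat_lit 67) [nat_lit 7] (Ch.cons (nat_lit 58) [nat_lit 9, nat_lit 11] (Ch.cons (nat_lit 16) [nat_lit 13, nat_lit 15] Ch.nil))))))) (by decide +kernel)

theorem T_s3 : Stab 100 (grp 100 HSM.E) [nat_lit 28, nat_lit 48, nat_lit 0] t_V22 960 :=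
  Stab.step (k := 7) (L := (lab 100 7)) t_hn T_s2 t_V22_ok (grp_mono (List.subset_append_right [t_g12] _)) (c := (Ch.cons (nat_lit 90) [nat_lit 1] (Ch.cons (nat_lit 49) [nat_lit 3] (Ch.cons (nat_lit 67) [nat_lit 5] (Ch.cons (nat_lit 58) [nat_lit 7, nat_lit 9] (Ch.cons (nat_lit 16) [nat_lit 11, nat_lit 13] Ch.nil)))))) (by decide +kernel)

theorem T_s4 : Stab 100 (grp 100 HSM.E) [nat_lit 90, nat_lit 28, nat_lit 48, nat_lit 0] t_V23 192 :=
  Stab.step (k := 7) (L := (lab 100 7)) t_hn T_s3 t_V23_ok (grp_mono (List.subset_append_right [t_g13] _)) (c := (Ch.cons (nat_lit 49) [nat_lit 1] (Ch.cons (nat_lit 67) [nat_lit 3] (Ch.cons (nat_lit 58) [nat_lit 5, nat_lit 7] (Ch.cons (nat_lit 16) [nat_lit 9, nat_lit 11] Ch.nil))))) (by decide +kernel)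

theorem T_s5 : Stab 100 (grp 100 HSM.E) [nat_lit 49, nat_lit 90, nat_lit 28, nat_lit 48, nat_lit 0] t_V24 48 :=
  Stab.step (k := 7) (L := (lab 100 7)) t_hn T_s4 t_V24_ok (grp_mono (List.subset_append_right [t_g14] _)) (c := (Ch.cons (nat_lit 67) [nat_lit 1] (Ch.cons (nat_lit 58) [nat_lit 3, nat_lit 5] (Ch.cons (nat_lit 16) [nat_lit 7, nat_lit 9] Ch.nil)))) (by decide +kernel)

theorem T_s6 : Stab 100 (grp 100 HSM.E) [nat_lit 67, nat_lit 49, nat_lit 90, nat_lit 28, nat_lit 48, nat_lit 0] t_V25 16 :=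
  Stab.step (k := 7) (L := (lab 100 7)) t_hn T_s5 t_V25_ok (grp_mono (List.subset_append_right [t_g15] _)) (c := (Ch.cons (nat_lit 58) [nat_lit 1, nat_lit 3] (Ch.cons (nat_lit 16) [nat_lit 5, nat_lit 7] Ch.nil))) (by decide +kernel)

theorem T_s7 : Stab 100 (grp 100 HSM.E) [nat_lit 58, nat_lit 67, nat_lit 49, nat_lit 90, nat_lit 28, nat_lit 48, nat_lit 0] t_V26 4 :=
  Stab.step (k := 7) (L := (lab 100 7)) t_hn T_s6 t_V26_ok (grp_mono (List.subset_append_right [t_g16, t_g17] _)) (c := (Ch.cons (nat_lit 16) [nat_lit 1, nat_lit 3] Ch.nil)) (by decide +kernel)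

theorem T_s8 : Stab 100 (grp 100 HSM.E) [nat_lit 16, nat_lit 58, nat_lit 67, nat_lit 49, nat_lit 90, nat_lit 28, nat_lit 48, nat_lit 0] t_V27 1 :=
  Stab.step (k := 7) (L := (lab 100 7)) t_hn T_s7 t_V27_ok (grp_mono (List.subset_append_right [t_g18, t_g19] _)) (c := Ch.nil) (by decide +kernel)

theorem HSM.g1_T : Net.toPerm 100 HSM.g1 ∈ (grp 100 HSM.E) :=
  T_s0.le (toPerm_mem_grp (E := HSM.lb_E) (List.Mem.head _))

theorem HSM.g2_T : Net.toPerm 100 HSM.g2 ∈ (grp 100 HSM.E) :=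
  T_s0.le (toPerm_mem_grp (E := HSM.lb_E) (List.Mem.tail _ (List.Mem.head _)))

theorem HSM.g3_T : Net.toPerm 100 HSM.g3 ∈ (grp 100 HSM.E) :=
  T_s0.le (toPerm_mem_grp (E := HSM.lb_E) (List.Mem.tail _ (List.Mem.tail _ (List.Mem.head _))))

theorem HSM.g4_T : Net.toPerm 100 HSM.g4 ∈ (grp 100 HSM.E) :=
  T_s0.le (toPerm_mem_grp (E := HSM.lb_E) (List.Mem.tail _ (List.Mem.tail _ (List.Mem.tail _ (List.Mem.head _)))))

theorem HSM.g7_T : Net.toPerm 100 HSM.g7 ∈ (grp 100 HSM.E) :=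
  T_s0.le (toPerm_mem_grp (E := HSM.lb_E) (List.Mem.tail _ (List.Mem.tail _ (List.Mem.tail _ (List.Mem.tail _ (List.Mem.head _))))))

theorem HSM.g8_T : Net.toPerm 100 HSM.g8 ∈ (grp 100 HSM.E) :=
  T_s0.le (toPerm_mem_grp (E := HSM.lb_E) (List.Mem.tail _ (List.Mem.tail _ (List.Mem.tail _ (List.Mem.tail _ (List.Mem.tail _ (List.Mem.head _)))))))

theorem HSM.g11_T : Net.toPerm 100 HSM.g11 ∈ (grp 100 HSM.E) :=
  T_s0.le (toPerm_mem_grp (E := HSM.lb_E) (List.Mem.tail _ (List.Mem.tail _ (List.Mem.tail _ (List.Mem.tail _ (List.Mem.tail _ (List.Mem.tail _ (List.Mem.head _))))))))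

theorem HSM.g12_T : Net.toPerm 100 HSM.g12 ∈ (grp 100 HSM.E) :=
  T_s0.le (toPerm_mem_grp (E := HSM.lb_E) (List.Mem.tail _ (List.Mem.tail _ (List.Mem.tail _ (List.Mem.tail _ (List.Mem.tail _ (List.Mem.tail _ (List.Mem.tail _ (List.Mem.head _)))))))))

theorem HSM.g13_T : Net.toPerm 100 HSM.g13 ∈ (grp 100 HSM.E) :=
  T_s0.le (toPerm_mem_grp (E := HSM.lb_E) (List.Mem.tail _ (List.Mem.tail _ (List.Mem.tail _ (List.Mem.tail _ (List.Mem.tail _ (List.Mem.tail _ (List.Mem.tail _ (List.Mem.tail _ (List.Mem.head _))))))))))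

theorem HSM.g16_T : Net.toPerm 100 HSM.g16 ∈ (grp 100 HSM.E) :=
  T_s0.le (toPerm_mem_grp (E := HSM.lb_E) (List.Mem.tail _ (List.Mem.tail _ (List.Mem.tail _ (List.Mem.tail _ (List.Mem.tail _ (List.Mem.tail _ (List.Mem.tail _ (List.Mem.tail _ (List.Mem.tail _ (List.Mem.head _)))))))))))

theorem t_g12_T : Net.toPerm 100 t_g12 ∈ (grp 100 HSM.E) :=
  T_s2.le (toPerm_mem_grp (E := t_V20) (List.Mem.head _))

theorem t_g13_T : Net.toPerm 100 t_g13 ∈ (grp 100 HSM.E) :=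
  T_s2.le (toPerm_mem_grp (E := t_V20) (List.Mem.tail _ (List.Mem.head _)))

theorem t_g14_T : Net.toPerm 100 t_g14 ∈ (grp 100 HSM.E) :=
  T_s2.le (toPerm_mem_grp (E := t_V20) (List.Mem.tail _ (List.Mem.tail _ (List.Mem.head _))))

theorem t_g15_T : Net.toPerm 100 t_g15 ∈ (grp 100 HSM.E) :=
  T_s2.le (toPerm_mem_grp (E := t_V20) (List.Mem.tail _ (List.Mem.tail _ (List.Mem.tail _ (List.Mem.head _)))))

theorem t_g16_T : Net.toPerm 100 t_g16 ∈ (grp 100 HSM.E) :=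
  T_s2.le (toPerm_mem_grp (E := t_V20) (List.Mem.tail _ (List.Mem.tail _ (List.Mem.tail _ (List.Mem.tail _ (List.Mem.head _))))))

theorem t_g17_T : Net.toPerm 100 t_g17 ∈ (grp 100 HSM.E) :=
  T_s2.le (toPerm_mem_grp (E := t_V20) (List.Mem.tail _ (List.Mem.tail _ (List.Mem.tail _ (List.Mem.tail _ (List.Mem.tail _ (List.Mem.head _)))))))

theorem t_g18_T : Net.toPerm 100 t_g18 ∈ (grp 100 HSM.E) :=
  T_s2.le (toPerm_mem_grp (E := t_V20) (List.Mem.tail _ (List.Mem.tail _ (List.Mem.tail _ (List.Mem.tail _ (List.Mem.tail _ (List.Mem.tail _ (List.Mem.head _))))))))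

theorem t_g19_T : Net.toPerm 100 t_g19 ∈ (grp 100 HSM.E) :=
  T_s2.le (toPerm_mem_grp (E := t_V20) (List.Mem.tail _ (List.Mem.tail _ (List.Mem.tail _ (List.Mem.tail _ (List.Mem.tail _ (List.Mem.tail _ (List.Mem.tail _ (List.Mem.head _)))))))))

noncomputable def T_s8_O : ℕ := (nat_lit 0x3333266666ccccd99999333321f07c1f03e0f83e0f83e0f83ee63398c67319ce63398c673184db24d926c93649b64db26d9200000000000000000000000010000000000001000000000000000000000000000001000000000400000000000000000000000000000000002000000000000000000008000000000000000000000000004000000000000000000000000000000000010000)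

theorem T_s8_F : Frame 100 (grp 100 HSM.E) 8 12 T_s8_O 1 1 :=
  IsBase.frame T_s8.isBase (by decide +kernel)

noncomputable def T_s7_O : ℕ := (nat_lit 0x100000000000000000000000000000000000100000000000000000000000000020000000000000000000000000008000000000000000000000000400200004000000000000000000000000002400000000000000000000000020004000000000000000000000002010000000000000000000080000400000000000000000000010008000000000000000000400000080000000000000004000000000001000000001000000000000000080000020000000000000000000100000002000000000000000000100000000000000000000000088000c020000200000000000000000000201088000000000000080200000000000000a00000000000000100040080008000000000018000000000004200000000000008010004000010000001010000000000001000800000400040000000000200040000001000000020000004000400000082000000000000000024000000080000010000000400200000000050000000000000082000400000000008200000000100000000000000002400001004008000080000000100000000200000000000000000000000001000000000000100000000000000000000000000000100000000040000000000000000000000000000000000200000000000000000000800000000000000000000000000400000000000000)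

theorem T_s7_F : Frame 100 (grp 100 HSM.E) 7 39 T_s7_O 0 1 :=
  Stab.frame t_hn T_s7 (by decide +kernel)

noncomputable def T_s6_O : ℕ := (nat_lit 0x1000000000000000000000000000200000000c0200002000000000000000000000260004000000000000000000000402010080000000080200000000000000a0000000101000000000000100080000040004000000000020004000000001000000010008000080000000080000010000000400200002000004000000000001010000000010000400000000000c0000000050000000000000082000800008000000010000000020000020000800004000000001020000400000000000000000880000000000000800200000006010018090304048044b040000000000000000000000000000100000000000010000000000000000000000000000010000000004000000000000000000000000000000000020000000000000000000080000000000000000)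

theorem T_s6_F : Frame 100 (grp 100 HSM.E) 6 24 T_s6_O 0 1 :=
  Stab.frame t_hn T_s6 (by decide +kernel)

noncomputable def T_s3_O : ℕ := (nat_lit 0x40000080002000100200000010018090304048044b04000004820020108882240000341401211000660014809200981006000000000000000000000000100000000000010000000000000000000000000000010000000)

theorem T_s3_F : Frame 100 (grp 100 HSM.E) 3 7 T_s3_O 0 1 :=
  Stab.frame t_hn T_s3 (by decide +kernel)

noncomputable def T_s1_O : ℕ := (nat_lit 0x12110006600158092109810060000000000000000000000001)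

theorem T_s1_F : Frame 100 (grp 100 HSM.E) 1 2 T_s1_O 0 1 :=
  Stab.frame t_hn T_s1 (by decide +kernel)

noncomputable def ht_c1_cnt_L : List ℕ := [1, 2, T_s1_O, 0, 0, 3, 7, T_s3_O, 0, 0, 6, 24, T_s6_O, 0, 0, 7, 39, T_s7_O, 0, 0, 8, 12, T_s8_O, 1, 0]

theorem ht_c1_cnt_P : Prob 100 7 (grp 100 HSM.E) ht_c1_cnt_EG [t_g1] [t_g1] ht_c1_K ht_c1_cnt_L 0 0 :=
  Sym.prob t_hn t_hk ht_c1_sym ht_c1_cnt_EG_ok (grp_cons_le HSM.g1_T (grp_cons_le HSM.g2_T (grp_cons_le HSM.g3_T (grp_cons_le HSM.g4_T (grp_cons_le HSM.g7_T (grp_cons_le HSM.g8_T (grp_cons_le HSM.g11_T (grp_cons_le HSM.g12_T (grp_cons_le HSM.g13_T (grp_cons_le HSM.g16_T (grp_cons_le t_g12_T (grp_cons_le t_g13_T (grp_cons_le t_g14_T (grp_cons_le t_g15_T (grp_cons_le t_g16_T (grp_cons_le t_g17_T (grp_cons_le t_g18_T (grp_cons_le t_g19_T (grp_nil_le _))))))))))))))))))) (Frames.cons T_s1_F (Frames.cons T_s3_F (Frames.cons T_s6_F (Frames.cons T_s7_F (Frames.cons T_s8_F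 Frames.nil))))) (okE_cons.2 ⟨t_g1_ok, okE_nil _⟩) _

noncomputable def ht_c1_cnt_t : BT := (BT.fix (nat_lit 1) (BT.br (nat_lit 0) (nat_lit 98) [nat_lit 1, nat_lit 5] (BT.kid (nat_lit 98) (nat_lit 384) (BT.frm (nat_lit 0) (nat_lit 67593) (nat_lit 67593) [nat_lit 0] (BT.pln (nat_lit 0) (nat_lit 1) (BT.and (nat_lit 3) (nat_lit 0) (BT.br (nat_lit 0) (nat_lit 20) [nat_lit 3, nat_lit 5] (BT.kid (nat_lit 20) (nat_lit 64) (BT.dif (nat_lit 1) (nat_lit 0) (BT.br (nat_lit 0) (nat_lit 21) [nat_lit 5, nat_lit 7] (BT.dead (nat_lit 71) (BT.frm (nat_lit 1) (nat_lit 0x151c1708010809) (nat_lit 0x152308010809) [nat_lit 0, nat_lit 2, nat_lit 6] (BT.pln (nat_lit 0) (nat_lit 4) (BT.and (nat_lit 0) (nat_lit 9) (BT.cnt (nat_lit 0))))) (BT.kid (nat_lit 21) (nat_lit 16) (BT.frm (nat_lit 1) (nat_lit 0x151c1708010809) (nat_lit 0x151c1708010809) [nat_lit 0, nat_lit 2, nat_lit 6] (BT.pln (nat_lit 0) (nat_lit 6) (BT.dif (nat_lit 0) (nat_lit 9)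 (BT.br (nat_lit 0) (nat_lit 10) [nat_lit 9, nat_lit 11] (BT.kid (nat_lit 10) (nat_lit 4) (BT.dif (nat_lit 14) (nat_lit 8) (BT.dif (nat_lit 0) (nat_lit 12) (BT.img (nat_lit 1) (nat_lit 2) (BT.and (nat_lit 14) (nat_lit 5) (BT.frm (nat_lit 2) (nat_lit 0x19171b151c1708010809) (nat_lit 0x19171b151c1708010809) [nat_lit 1, nat_lit 4, nat_lit 0, nat_lit 8, nat_lit 10, nat_lit 14] (BT.pln (nat_lit 0) (nat_lit 12) (BT.and (nat_lit 4) (nat_lit 0) (BT.br (nat_lit 0) (nat_lit 8) [nat_lit 13] (BT.kid (nat_lit 8) (nat_lit 2) (BT.pln (nat_lit 11) (nat_lit 4) (BT.dif (nat_lit 0) (nat_lit 20) (BT.frm (nat_lit 3) (nat_lit 0x1f19171b151c1708010809) (nat_lit 0x1f19171b151c1708010809) [nat_lit 2, nat_lit 7, nat_lit 10, nat_lit 6, nat_lit 14, nat_lit 16, nat_lit 20] (BT.pln (nat_lit 0) (nat_lit 8) (BT.and (nat_lit 2) (nat_lit 0) (BT.br (nat_lit 0) (nat_lit 76) [nat_lit 15] (BT.kid (nat_lit 76) (nat_lit 1) (BT.one (nat_lit 4) (nat_lit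 0x231f19171b151c1708010809) (nat_lit 0x231f19171b151c1708010809) [nat_lit 0, nat_lit 6, nat_lit 11, nat_lit 14, nat_lit 10, nat_lit 18, nat_lit 20, nat_lit 24]) BT.nil))))))) BT.nil))))))))) BT.nil))))) BT.nil)))) BT.nil))))) BT.nil)))

theorem ht_c1_cnt : Cnt 100 (grp 100 HSM.E) [t_g1] [t_g1] 0 0 0 0 7680 :=
  BT.sound ht_c1_cnt_P Known.nil (t := ht_c1_cnt_t) (d := 0) (by decide +kernel)

theorem ht_c1_ge : 7680 ≤ Nat.card (grp 100 ht_c1_K) :=
  Ch.le_card_grp (k := 7) (L := (lab 100 7)) t_hn ht_c1_K_ok (c := (Ch.cons (nat_lit 98) [nat_lit 1] (Ch.cons (nat_lit 20) [nat_lit 3] (Ch.cons (nat_lit 21) [nat_lit 5, nat_lit 7] (Ch.cons (nat_lit 10) [nat_lit 9, nat_lit 11] (Ch.cons (nat_lit 8) [nat_lit 13] (Ch.cons (nat_lit 76) [nat_lit 15] Ch.nil))))))) (by decide +kernel)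

theorem ht_c1_eq : (grp 100 HSM.E) ⊓ Subgroup.centralizer {Net.toPerm 100 t_g1} = grp 100 ht_c1_K :=
  cent_eq ht_c1_sym ht_c1_cnt ht_c1_ge

theorem ht_c1_card : Nat.card ↥((grp 100 HSM.E) ⊓ Subgroup.centralizer {Net.toPerm 100 t_g1}) = 7680 :=
  card_cent ht_c1_sym ht_c1_cnt ht_c1_ge

theorem ht_c1_ord : orderOf (Net.toPerm 100 t_g1) = 2 :=
  orderOf_net t_hn t_hk t_g1_ok (by decide) (ps := [2]) (by set_option linter.unusedSimpArgs false in simp [Nat.primeFactorsList_ofNat]) (by decide +kernel)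

theorem t_le35 : grp 100 ht_c2_K ≤ grp 100 HSM.lb_E :=
  grp_le_of_memB t_hn t_hk HSM.lb_E_ok ht_c2_K_ok (ws := [nat_lit 0x130e1111090f050e030b, nat_lit 0xe10090e09050e010d06, nat_lit 0xd100910050e, nat_lit 0x1310110b08, nat_lit 0x120c0e050e09, nat_lit 0xe0a0d0811]) (by decide +kernel)

theorem ht_c2_le : grp 100 ht_c2_K ≤ (grp 100 HSM.E) :=
  (t_le35.trans T_s0.le)

theorem ht_c2_mem : Net.toPerm 100 t_g28 ∈ (grp 100 HSM.E) :=
  ht_c2_le (mem_grp_of_memB t_hn t_hk ht_c2_K_ok t_g28_ok (w := (nat_lit 0x9050303)) (by decide +kernel))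

theorem ht_c2_sym : Sym 100 (grp 100 HSM.E) [t_g28] ht_c2_K 0 :=
  Sym.of_lab t_hn t_hk (okE_cons.2 ⟨t_g28_ok, okE_nil _⟩) ht_c2_K_ok ht_c2_le (kT := 0) (by decide +kernel)

theorem t_le40 : grp 100 t_V39 ≤ grp 100 t_V22 :=
  grp_le_of_memB t_hn t_hk t_V22_ok t_V39_ok (ws := [nat_lit 0x6030502, nat_lit 0xb0d090305, nat_lit 459012]) (by decide +kernel)

theorem T_s9 : Stab 100 (grp 100 HSM.E) [nat_lit 30, nat_lit 28, nat_lit 48, nat_lit 0] t_V39 60 :=
  Stab.step (k := 7) (L := (lab 100 7)) t_hn T_s3 t_V39_ok t_le40 (c := (Ch.cons (nat_lit 21) [nat_lit 1] (Ch.cons (nat_lit 65) [nat_lit 3] (Ch.cons (nat_lit 87) [nat_lit 5] Ch.nil)))) (by decide +kernel)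

theorem T_s10 : Stab 100 (grp 100 HSM.E) [nat_lit 21, nat_lit 30, nat_lit 28, nat_lit 48, nat_lit 0] t_V41 12 :=
  Stab.step (k := 7) (L := (lab 100 7)) t_hn T_s9 t_V41_ok (grp_mono (List.subset_append_right [t_g36] _)) (c := (Ch.cons (nat_lit 65) [nat_lit 1] (Ch.cons (nat_lit 87) [nat_lit 3] Ch.nil))) (by decide +kernel)

theorem T_s11 : Stab 100 (grp 100 HSM.E) [nat_lit 65, nat_lit 21, nat_lit 30, nat_lit 28, nat_lit 48, nat_lit 0] t_V42 3 :=
  Stab.step (k := 7) (L := (lab 100 7)) t_hn T_s10 t_V42_ok (grp_mono (List.subset_append_right [t_g37] _)) (c := (Ch.cons (nat_lit 87) [nat_lit 1] Ch.nil)) (by decide +kernel)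

theorem T_s12 : Stab 100 (grp 100 HSM.E) [nat_lit 87, nat_lit 65, nat_lit 21, nat_lit 30, nat_lit 28, nat_lit 48, nat_lit 0] t_V43 1 :=
  Stab.step (k := 7) (L := (lab 100 7)) t_hn T_s11 t_V43_ok (grp_mono (List.subset_append_right [t_g38] _)) (c := Ch.nil) (by decide +kernel)

theorem t_g36_T : Net.toPerm 100 t_g36 ∈ (grp 100 HSM.E) :=
  T_s9.le (toPerm_mem_grp (E := t_V39) (List.Mem.head _))

theorem t_g37_T : Net.toPerm 100 t_g37 ∈ (grp 100 HSM.E) :=
  T_s9.le (toPerm_mem_grp (E := t_V39) (List.Mem.tail _ (List.Mem.head _)))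

theorem t_g38_T : Net.toPerm 100 t_g38 ∈ (grp 100 HSM.E) :=
  T_s9.le (toPerm_mem_grp (E := t_V39) (List.Mem.tail _ (List.Mem.tail _ (List.Mem.head _))))

noncomputable def T_s12_O : ℕ := (nat_lit 0x3333266666ccccd99999333321f07c1f03e0f83e0f83e0f83ee63398c67319ce63398c673184db24d926c93649b64db26d920000000000000000000000001000000000000100000000000000000000000000000100000000000000000000000040000000000000000000000000020000000000000200000000000000000008000000000000000000000)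

theorem T_s12_F : Frame 100 (grp 100 HSM.E) 7 11 T_s12_O 1 1 :=
  IsBase.frame T_s12.isBase (by decide +kernel)

noncomputable def T_s11_O : ℕ := (nat_lit 0x100000000000000000000000000000000800000000000000000000000000080000000000000000000000000000002000000000820000008000000000000002800000000200000000000000000020000012000000000000000000002400040000000000000001000400000800000000000010000000100008000000000000000600000000100000000000000002000000024000000000004000000000200010000000080200000000000000800000000000000800000000408000000000000000800010000400000000000001000400000020000000000100000000400001000000001000000000000100080000000000040004000000004000000000080002000000000040000000000000000020000001400000000000040000400000020000000000000000008200001000000040000000000000000880040000010000000000000004000000010000000002000000200000000001000800000000010000080080000000000000000800400000000000000000020040000080000000000080000001000040000000000000000000280200000000000000000080004000000000000000000000000100000000000010000000000000000000000000000010000000000000000000000004000000000000000000000000002000000000000020000000000000000)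

theorem T_s11_F : Frame 100 (grp 100 HSM.E) 6 39 T_s11_O 0 1 :=
  Stab.frame t_hn T_s11 (by decide +kernel)

noncomputable def T_s10_O : ℕ := (nat_lit 0x10000000000000000000000000100000001000080000000000001000000000000100080000000400000800020001000000000000000020000008200001000000040000000000002000880004000000000800000000200400082002000800024000000000000000001000820000001410000080080080001000040000800000860000000010800000010000018090204040040b040000c020015000400002080400600280420000432004000000202800000000000000000000000010000000000001000000000000000000000000000001000000000000000000000000400000000000000000000000000200000)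

theorem T_s10_F : Frame 100 (grp 100 HSM.E) 5 19 T_s10_O 0 1 :=
  Stab.frame t_hn T_s10 (by decide +kernel)

noncomputable def ht_c2_cnt_L : List ℕ := [1, 2, T_s1_O, 0, 0, 3, 7, T_s3_O, 0, 0, 5, 19, T_s10_O, 0, 0, 6, 39, T_s11_O, 0, 0, 7, 11, T_s12_O, 1, 0]

theorem ht_c2_cnt_P : Prob 100 7 (grp 100 HSM.E) ht_c2_cnt_EG [t_g28] [t_g28] ht_c2_K ht_c2_cnt_L 0 0 :=
  Sym.prob t_hn t_hk ht_c2_sym ht_c2_cnt_EG_ok (grp_cons_le HSM.g1_T (grp_cons_le HSM.g2_T (grp_cons_le HSM.g3_T (grp_cons_le HSM.g4_T (grp_cons_le HSM.g7_T (grp_cons_le HSM.g8_T (grp_cons_le HSM.g11_T (grp_cons_le HSM.g12_T (grp_cons_le HSM.g13_T (grp_cons_le HSM.g16_T (grp_cons_le t_g12_T (grp_cons_le t_g13_T (grp_cons_le t_g14_T (grp_cons_le t_g15_T (grp_cons_le t_g16_T (grp_cons_le t_g17_T (grp_cons_le t_g18_T (grp_cons_le t_g19_T (grp_cons_le t_g36_T (grp_cons_le t_g37_T (grp_cons_le t_g38_T (grp_nil_le _)))))))))))))))))))))) (Frames.cons T_s1_F (Frames.cons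 T_s3_F (Frames.cons T_s10_F (Frames.cons T_s11_F (Frames.cons T_s12_F Frames.nil))))) (okE_cons.2 ⟨t_g28_ok, okE_nil _⟩) _

noncomputable def ht_c2_cnt_t : BT := (BT.br (nat_lit 2) (nat_lit 0) [nat_lit 1, nat_lit 3, nat_lit 5] (BT.dead (nat_lit 2) (BT.frm (nat_lit 0) (nat_lit 0) (nat_lit 198145) [nat_lit 0] (BT.pln (nat_lit 0) (nat_lit 1) (BT.img (nat_lit 1) (nat_lit 2) (BT.and (nat_lit 1) (nat_lit 0) (BT.cnt (nat_lit 0)))))) (BT.kid (nat_lit 0) (nat_lit 72) (BT.frm (nat_lit 0) (nat_lit 0) (nat_lit 0) [nat_lit 0] (BT.pln (nat_lit 0) (nat_lit 1) (BT.img (nat_lit 1) (nat_lit 2) (BT.dif (nat_lit 1) (nat_lit 0) (BT.br (nat_lit 0) (nat_lit 28) [nat_lit 5, nat_lit 7] (BT.dead (nat_lit 47) (BT.frm (nat_lit 1) (nat_lit 0x15230b07) (nat_lit 0x161b0b07) [nat_lit 0, nat_lit 2, nat_lit 5] (BT.pln (nat_lit 0) (nat_lit 5) (BT.img (nat_lit 1) (nat_lit 2) (BT.and (nat_lit 1) (nat_lit 0) (BT.cnt (nat_lit 0)))))) (BT.kid (nat_lit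 28) (nat_lit 6) (BT.frm (nat_lit 1) (nat_lit 0x15230b07) (nat_lit 0x15230b07) [nat_lit 0, nat_lit 2, nat_lit 5] (BT.pln (nat_lit 0) (nat_lit 6) (BT.br (nat_lit 0) (nat_lit 59) [nat_lit 9, nat_lit 11] (BT.dead (nat_lit 45) (BT.img (nat_lit 1) (nat_lit 3) (BT.frm (nat_lit 2) (nat_lit 0x2525171a15230b07) (nat_lit 0x26171a15230b07) [nat_lit 1, nat_lit 0, nat_lit 4, nat_lit 6, nat_lit 9] (BT.pln (nat_lit 0) (nat_lit 14) (BT.img (nat_lit 1) (nat_lit 3) (BT.and (nat_lit 1) (nat_lit 0) (BT.cnt (nat_lit 0))))))) (BT.kid (nat_lit 59) (nat_lit 3) (BT.img (nat_lit 1) (nat_lit 0) (BT.img (nat_lit 1) (nat_lit 4) (BT.frm (nat_lit 3) (nat_lit 0x272525171a15230b07) (nat_lit 0x272525171a15230b07) [nat_lit 1, nat_lit 2, nat_lit 0, nat_lit 5, nat_lit 7, nat_lit 10] (BT.pln (nat_lit 0) (nat_lit 10) (BT.br (nat_lit 0) (nat_lit 99) [nat_lit 11] (BT.kid (nat_lit 99) (nat_lit 1) (BT.one (nat_lit 4) (nat_lit 0x272525171a15230b07) (nat_lit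 0x272525171a15230b07) [nat_lit 0, nat_lit 4, nat_lit 5, nat_lit 3, nat_lit 8, nat_lit 10, nat_lit 13]) BT.nil)))))) BT.nil))))) BT.nil))))))) BT.nil)))

theorem ht_c2_cnt : Cnt 100 (grp 100 HSM.E) [t_g28] [t_g28] 0 0 0 0 2880 :=
  BT.sound ht_c2_cnt_P Known.nil (t := ht_c2_cnt_t) (d := 0) (by decide +kernel)

theorem ht_c2_ge : 2880 ≤ Nat.card (grp 100 ht_c2_K) :=
  Ch.le_card_grp (k := 7) (L := (lab 100 7)) t_hn ht_c2_K_ok (c := (Ch.cons (nat_lit 0) [nat_lit 1, nat_lit 3] (Ch.cons (nat_lit 28) [nat_lit 5, nat_lit 7] (Ch.cons (nat_lit 59) [nat_lit 9] (Ch.cons (nat_lit 99) [nat_lit 11] Ch.nil))))) (by decide +kernel)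

theorem ht_c2_eq : (grp 100 HSM.E) ⊓ Subgroup.centralizer {Net.toPerm 100 t_g28} = grp 100 ht_c2_K :=
  cent_eq ht_c2_sym ht_c2_cnt ht_c2_ge

theorem ht_c2_card : Nat.card ↥((grp 100 HSM.E) ⊓ Subgroup.centralizer {Net.toPerm 100 t_g28}) = 2880 :=
  card_cent ht_c2_sym ht_c2_cnt ht_c2_ge

theorem ht_c2_ord : orderOf (Net.toPerm 100 t_g28) = 2 :=
  orderOf_net t_hn t_hk t_g28_ok (by decide) (ps := [2]) (by set_option linter.unusedSimpArgs false in simp [Nat.primeFactorsList_ofNat]) (by decide +kernel)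

theorem t_le49 : grp 100 ht_c3_K ≤ grp 100 HSM.lb_E :=
  grp_le_of_memB t_hn t_hk HSM.lb_E_ok ht_c3_K_ok (ws := [nat_lit 0x140e0f0a130508010b04, nat_lit 0x130d090e09060d010406, nat_lit 0xd0a0b0705, nat_lit 0xd0d0f0913050a080210]) (by decide +kernel)

theorem ht_c3_le : grp 100 ht_c3_K ≤ (grp 100 HSM.E) :=
  (t_le49.trans T_s0.le)

theorem ht_c3_mem : Net.toPerm 100 t_g44 ∈ (grp 100 HSM.E) :=
  ht_c3_le (mem_grp_of_memB t_hn t_hk ht_c3_K_ok t_g44_ok (w := (nat_lit 2053)) (by decide +kernel))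

theorem ht_c3_sym : Sym 100 (grp 100 HSM.E) [t_g44] ht_c3_K 0 :=
  Sym.of_lab t_hn t_hk (okE_cons.2 ⟨t_g44_ok, okE_nil _⟩) ht_c3_K_ok ht_c3_le (kT := 0) (by decide +kernel)

theorem T_s13 : Stab 100 (grp 100 HSM.E) [nat_lit 3, nat_lit 0] t_V50 5760 :=
  Stab.step (k := 7) (L := (lab 100 7)) t_hn T_s1 t_V50_ok (grp_mono (List.subset_append_right [HSM.g3, HSM.g4] _)) (c := (Ch.cons (nat_lit 4) [nat_lit 1, nat_lit 3] (Ch.cons (nat_lit 6) [nat_lit 5, nat_lit 7, nat_lit 9] (Ch.cons (nat_lit 2) [nat_lit 11, nat_lit 13] Ch.nil)))) (by decide +kernel)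

theorem t_le56 : grp 100 t_V55 ≤ grp 100 t_V50 :=
  grp_le_of_memB t_hn t_hk t_V50_ok t_V55_ok (ws := [nat_lit 0xb0a010903, nat_lit 0xc060b020309, nat_lit 0x50507020c02, nat_lit 0x5050106]) (by decide +kernel)

theorem T_s14 : Stab 100 (grp 100 HSM.E) [nat_lit 83, nat_lit 3, nat_lit 0] t_V55 360 :=
  Stab.step (k := 7) (L := (lab 100 7)) t_hn T_s13 t_V55_ok t_le56 (c := (Ch.cons (nat_lit 66) [nat_lit 1] (Ch.cons (nat_lit 2) [nat_lit 3] (Ch.cons (nat_lit 50) [nat_lit 5] (Ch.cons (nat_lit 13) [nat_lit 7] Ch.nil))))) (by decide +kernel)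

theorem T_s15 : Stab 100 (grp 100 HSM.E) [nat_lit 66, nat_lit 83, nat_lit 3, nat_lit 0] t_V57 36 :=
  Stab.step (k := 7) (L := (lab 100 7)) t_hn T_s14 t_V57_ok (grp_mono (List.subset_append_right [t_g51] _)) (c := (Ch.cons (nat_lit 2) [nat_lit 1] (Ch.cons (nat_lit 50) [nat_lit 3] (Ch.cons (nat_lit 13) [nat_lit 5] Ch.nil)))) (by decide +kernel)

theorem T_s16 : Stab 100 (grp 100 HSM.E) [nat_lit 2, nat_lit 66, nat_lit 83, nat_lit 3, nat_lit 0] t_V58 6 :=
  Stab.step (k := 7) (L := (lab 100 7)) t_hn T_s15 t_V58_ok (grp_mono (List.subset_append_right [t_g52] _)) (c := (Ch.cons (nat_lit 50) [nat_lit 1] (Ch.cons (nat_lit 13) [nat_lit 3] Ch.nil))) (by decide +kernel)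

theorem T_s17 : Stab 100 (grp 100 HSM.E) [nat_lit 50, nat_lit 2, nat_lit 66, nat_lit 83, nat_lit 3, nat_lit 0] t_V59 3 :=
  Stab.step (k := 7) (L := (lab 100 7)) t_hn T_s16 t_V59_ok (grp_mono (List.subset_append_right [t_g53] _)) (c := (Ch.cons (nat_lit 13) [nat_lit 1] Ch.nil)) (by decide +kernel)

theorem T_s18 : Stab 100 (grp 100 HSM.E) [nat_lit 13, nat_lit 50, nat_lit 2, nat_lit 66, nat_lit 83, nat_lit 3, nat_lit 0] t_V60 1 :=
  Stab.step (k := 7) (L := (lab 100 7)) t_hn T_s17 t_V60_ok (grp_mono (List.subset_append_right [t_g54] _)) (c := Ch.nil) (by decide +kernel)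

theorem t_g53_T : Net.toPerm 100 t_g53 ∈ (grp 100 HSM.E) :=
  T_s16.le (toPerm_mem_grp (E := t_V58) (List.Mem.head _))

theorem t_g54_T : Net.toPerm 100 t_g54 ∈ (grp 100 HSM.E) :=
  T_s16.le (toPerm_mem_grp (E := t_V58) (List.Mem.tail _ (List.Mem.head _)))

theorem t_g52_T : Net.toPerm 100 t_g52 ∈ (grp 100 HSM.E) :=
  T_s15.le (toPerm_mem_grp (E := t_V57) (List.Mem.head _))

theorem t_g51_T : Net.toPerm 100 t_g51 ∈ (grp 100 HSM.E) :=
  T_s14.le (toPerm_mem_grp (E := t_V55) (List.Mem.head _))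

noncomputable def T_s18_O : ℕ := (nat_lit 0x3333266666ccccd99999333321f07c1f03e0f83e0f83e0f83ee63398c67319ce63398c673184db24d926c93649b64db26d920000000000000000000000001000000000000000000000000800008000000000000000000000000000040000000000000000000000000000000000000000400000000000040000000000000000000000000000000002000)

theorem T_s18_F : Frame 100 (grp 100 HSM.E) 7 11 T_s18_O 1 1 :=
  IsBase.frame T_s18.isBase (by decide +kernel)

noncomputable def T_s17_O : ℕ := (nat_lit 0x400000000000000000000000000800000000000000000000000020000000000000000000000000000000200000000008000008008000000000000000000420000200000000000000000004000000008400000000000010004000000010000000000020200000000000800000000400000001000000004000000000000000080200000200000000000000200001000010000000000000000000202000800000080000000000000000840000000400000000000010002000000000800000008000000100000002000000000100000008000000000000000008400000400000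018000000000000000020000000000000000008080000800000002010000000000000040000000000000200000010002000000400000000400000000100000000082000000000000008000000000000400010000000200000000000000000002001010000000000000000000400004800000000000100020000000020000041000000000000000001000000000000400000000000480200000010000000000000004000000090000000000000000200000000000100040000000010000000000000000000000000100000000000000000000000080000800000000000000000000000000004000000000000000000000000000000000000000040000000000004000000000000)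

theorem T_s17_F : Frame 100 (grp 100 HSM.E) 6 39 T_s17_O 0 1 :=
  Stab.frame t_hn T_s17 (by decide +kernel)

noncomputable def T_s13_O : ℕ := (nat_lit 0x10100000200040000000000060201000640011809210981000804281000004202048c05480000000000000000000000000010000000000000000000000008)

theorem T_s13_F : Frame 100 (grp 100 HSM.E) 2 5 T_s13_O 0 1 :=
  Stab.frame t_hn T_s13 (by decide +kernel)

noncomputable def ht_c3_cnt_L : List ℕ := [1, 2, T_s1_O, 0, 0, 2, 5, T_s13_O, 0, 0, 6, 39, T_s17_O, 0, 0, 7, 11, T_s18_O, 1, 0]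

theorem ht_c3_cnt_P : Prob 100 7 (grp 100 HSM.E) ht_c3_cnt_EG [t_g44] [t_g44] ht_c3_K ht_c3_cnt_L 0 0 :=
  Sym.prob t_hn t_hk ht_c3_sym ht_c3_cnt_EG_ok (grp_cons_le HSM.g1_T (grp_cons_le HSM.g2_T (grp_cons_le HSM.g3_T (grp_cons_le HSM.g4_T (grp_cons_le HSM.g7_T (grp_cons_le HSM.g8_T (grp_cons_le HSM.g11_T (grp_cons_le HSM.g12_T (grp_cons_le HSM.g13_T (grp_cons_le HSM.g16_T (grp_cons_le t_g53_T (grp_cons_le t_g54_T (grp_cons_le t_g52_T (grp_cons_le t_g51_T (grp_nil_le _))))))))))))))) (Frames.cons T_s1_F (Frames.cons T_s13_F (Frames.cons T_s17_F (Frames.cons T_s18_F Frames.nil)))) (okE_cons.2 ⟨t_g44_ok, okE_nil _⟩) _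

noncomputable def ht_c3_cnt_t : BT := (BT.fix (nat_lit 1) (BT.br (nat_lit 0) (nat_lit 92) [nat_lit 1, nat_lit 3] (BT.kid (nat_lit 92) (nat_lit 36) (BT.frm (nat_lit 0) (nat_lit 264) (nat_lit 264) [nat_lit 0] (BT.pln (nat_lit 0) (nat_lit 1) (BT.dif (nat_lit 3) (nat_lit 0) (BT.dif (nat_lit 0) (nat_lit 3) (BT.br (nat_lit 0) (nat_lit 12) [nat_lit 3, nat_lit 5] (BT.dead (nat_lit 30) (BT.frm (nat_lit 1) (nat_lit 0x5140108) (nat_lit 0x606060108) [nat_lit 0, nat_lit 5] (BT.pln (nat_lit 0) (nat_lit 2) (BT.and (nat_lit 0) (nat_lit 8) (BT.cnt (nat_lit 0))))) (BT.kid (nat_lit 12) (nat_lit 9) (BT.frm (nat_lit 1) (nat_lit 0x5140108) (nat_lit 0x5140108) [nat_lit 0, nat_lit 5] (BT.pln (nat_lit 0) (nat_lit 3) (BT.dif (nat_lit 5) (nat_lit 0) (BT.dif (nat_lit 0) (nat_lit 9) (BT.br (nat_lit 0) (nat_lit 51) [nat_lit 5] (BT.kid (nat_lit 51) (nat_lit 3) (BT.dif (nat_lit 14) (nat_lit 8) (BT.img (nat_lit 1) (nat_lit 1) (BT.and (nat_lit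 13) (nat_lit 5) (BT.pln (nat_lit 7) (nat_lit 2) (BT.and (nat_lit 15) (nat_lit 0) (BT.frm (nat_lit 2) (nat_lit 0x1919151c1a0a0e05140108) (nat_lit 0x1919151c1a0a0e05140108) [nat_lit 3, nat_lit 5, nat_lit 2, nat_lit 0, nat_lit 10, nat_lit 15] (BT.pln (nat_lit 0) (nat_lit 14) (BT.and (nat_lit 6) (nat_lit 0) (BT.br (nat_lit 0) (nat_lit 55) [nat_lit 7] (BT.kid (nat_lit 55) (nat_lit 1) (BT.one (nat_lit 3) (nat_lit 0x181919151c1a0a0e05140108) (nat_lit 0x181919151c1a0a0e05140108) [nat_lit 0, nat_lit 7, nat_lit 9, nat_lit 6, nat_lit 4, nat_lit 14, nat_lit 19]) BT.nil)))))))))) BT.nil)))))) BT.nil))))))) BT.nil)))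

theorem ht_c3_cnt : Cnt 100 (grp 100 HSM.E) [t_g44] [t_g44] 0 0 0 0 360 :=
  BT.sound ht_c3_cnt_P Known.nil (t := ht_c3_cnt_t) (d := 0) (by decide +kernel)

theorem ht_c3_ge : 360 ≤ Nat.card (grp 100 ht_c3_K) :=
  Ch.le_card_grp (k := 7) (L := (lab 100 7)) t_hn ht_c3_K_ok (c := (Ch.cons (nat_lit 92) [nat_lit 1] (Ch.cons (nat_lit 12) [nat_lit 3] (Ch.cons (nat_lit 51) [nat_lit 5] (Ch.cons (nat_lit 55) [nat_lit 7] Ch.nil))))) (by decide +kernel)

theorem ht_c3_eq : (grp 100 HSM.E) ⊓ Subgroup.centralizer {Net.toPerm 100 t_g44} = grp 100 ht_c3_K :=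
  cent_eq ht_c3_sym ht_c3_cnt ht_c3_ge

theorem ht_c3_card : Nat.card ↥((grp 100 HSM.E) ⊓ Subgroup.centralizer {Net.toPerm 100 t_g44}) = 360 :=
  card_cent ht_c3_sym ht_c3_cnt ht_c3_ge

theorem ht_c3_ord : orderOf (Net.toPerm 100 t_g44) = 3 :=
  orderOf_net t_hn t_hk t_g44_ok (by decide) (ps := [3]) (by set_option linter.unusedSimpArgs false in simp [Nat.primeFactorsList_ofNat]) (by decide +kernel)

theorem t_le66 : grp 100 ht_c4_K ≤ grp 100 HSM.lb_E :=
  grp_le_of_memB t_hn t_hk HSM.lb_E_ok ht_c4_K_ok (ws := [nat_lit 0x130d0d100a0a130811020c02, nat_lit 0x140e110c09050512020e03, nat_lit 0x140d110d0b14050b0d0401, nat_lit 0x14120c1207060306]) (by decide +kernel)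

theorem ht_c4_le : grp 100 ht_c4_K ≤ (grp 100 HSM.E) :=
  (t_le66.trans T_s0.le)

theorem ht_c4_mem : Net.toPerm 100 t_g61 ∈ (grp 100 HSM.E) :=
  ht_c4_le (mem_grp_of_memB t_hn t_hk ht_c4_K_ok t_g61_ok (w := (nat_lit 0x7030306010801)) (by decide +kernel))

theorem ht_c4_sym : Sym 100 (grp 100 HSM.E) [t_g61] ht_c4_K 0 :=
  Sym.of_lab t_hn t_hk (okE_cons.2 ⟨t_g61_ok, okE_nil _⟩) ht_c4_K_ok ht_c4_le (kT := 0) (by decide +kernel)

theorem t_le71 : grp 100 t_V70 ≤ grp 100 t_V55 :=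
  grp_le_of_memB t_hn t_hk t_V55_ok t_V70_ok (ws := [nat_lit 0x5030204, nat_lit 0x705040104, nat_lit 0x703030207]) (by decide +kernel)

theorem T_s19 : Stab 100 (grp 100 HSM.E) [nat_lit 34, nat_lit 83, nat_lit 3, nat_lit 0] t_V70 24 :=
  Stab.step (k := 7) (L := (lab 100 7)) t_hn T_s14 t_V70_ok t_le71 (c := (Ch.cons (nat_lit 84) [nat_lit 1] (Ch.cons (nat_lit 52) [nat_lit 3] (Ch.cons (nat_lit 42) [nat_lit 5] Ch.nil)))) (by decide +kernel)

theorem T_s20 : Stab 100 (grp 100 HSM.E) [nat_lit 84, nat_lit 34, nat_lit 83, nat_lit 3, nat_lit 0] t_V72 12 :=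
  Stab.step (k := 7) (L := (lab 100 7)) t_hn T_s19 t_V72_ok (grp_mono (List.subset_append_right [t_g67] _)) (c := (Ch.cons (nat_lit 52) [nat_lit 1] (Ch.cons (nat_lit 42) [nat_lit 3] Ch.nil))) (by decide +kernel)

theorem T_s21 : Stab 100 (grp 100 HSM.E) [nat_lit 52, nat_lit 84, nat_lit 34, nat_lit 83, nat_lit 3, nat_lit 0] t_V73 3 :=
  Stab.step (k := 7) (L := (lab 100 7)) t_hn T_s20 t_V73_ok (grp_mono (List.subset_append_right [t_g68] _)) (c := (Ch.cons (nat_lit 42) [nat_lit 1] Ch.nil)) (by decide +kernel)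

theorem T_s22 : Stab 100 (grp 100 HSM.E) [nat_lit 42, nat_lit 52, nat_lit 84, nat_lit 34, nat_lit 83, nat_lit 3, nat_lit 0] t_V74 1 :=
  Stab.step (k := 7) (L := (lab 100 7)) t_hn T_s21 t_V74_ok (grp_mono (List.subset_append_right [t_g69] _)) (c := Ch.nil) (by decide +kernel)

theorem t_g68_T : Net.toPerm 100 t_g68 ∈ (grp 100 HSM.E) :=
  T_s20.le (toPerm_mem_grp (E := t_V72) (List.Mem.head _))

theorem t_g69_T : Net.toPerm 100 t_g69 ∈ (grp 100 HSM.E) :=
  T_s20.le (toPerm_mem_grp (E := t_V72) (List.Mem.tail _ (List.Mem.head _)))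

theorem t_g67_T : Net.toPerm 100 t_g67 ∈ (grp 100 HSM.E) :=
  T_s19.le (toPerm_mem_grp (E := t_V70) (List.Mem.head _))

noncomputable def T_s22_O : ℕ := (nat_lit 0x3333266666ccccd99999333321f07c1f03e0f83e0f83e0f83ee63398c67319ce63398c673184db24d926c93649b64db26d920000000000000000000000001000000000000000000000000800008000000000000000000000000000000000000400000000000100000000000000000000000000000000100000000000000000000000000040000000000)

theorem T_s22_F : Frame 100 (grp 100 HSM.E) 7 11 T_s22_O 1 1 :=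
  IsBase.frame T_s22.isBase (by decide +kernel)

noncomputable def T_s21_O : ℕ := (nat_lit 0x4000000000000000000000000020000000000000000000000001000000000000000000000000000100000000000082000008000000000000000000000000680000000000000000040800002000000000000010000000200040000000000000100000800000400000000000000002000000804000000000060000000000000020000000000000040000000100800000000000000010200000010000000000020100000000000800000000000000081000000040000000008000000800000002000000000001000000000800020000000200000400000000000800000000000000400001000040000000000800000000000012000000000000200000000200100000000000000000000801008000000400000000000000080400000000000000000020004004000000000100000000000000a00000000000400008000000010008000000000000000000010800040400000000000000000040000000000100000000000202000000002000100000000000100000000400000020000000004008000000000000000000000a00020000000000004000000010000000000000000000000000100000000000000000000000080000800000000000000000000000000000000000040000000000010000000000000000000000000000000010000000000000)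

theorem T_s21_F : Frame 100 (grp 100 HSM.E) 6 39 T_s21_O 0 1 :=
  Stab.frame t_hn T_s21 (by decide +kernel)

noncomputable def T_s19_O : ℕ := (nat_lit 0x1000000000001000000000000820000080000000000000000000000100000000000202000200000400010000000800000000000004000180000000100000005080000200800020000000000000200000008210180000004201000000000008804000010100000200040000000000068000000000042020004014800048400200c10001002040050060000041830002021400000400000000000000000000000001000000000000000000000000800008000000000000000000000000000000000000400000000)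

theorem T_s19_F : Frame 100 (grp 100 HSM.E) 4 16 T_s19_O 0 1 :=
  Stab.frame t_hn T_s19 (by decide +kernel)

noncomputable def ht_c4_cnt_L : List ℕ := [1, 2, T_s1_O, 0, 0, 2, 5, T_s13_O, 0, 0, 4, 16, T_s19_O, 0, 0, 6, 39, T_s21_O, 0, 0, 7, 11, T_s22_O, 1, 0]

theorem ht_c4_cnt_P : Prob 100 7 (grp 100 HSM.E) ht_c4_cnt_EG [t_g61] [t_g61] ht_c4_K ht_c4_cnt_L 0 0 :=
  Sym.prob t_hn t_hk ht_c4_sym ht_c4_cnt_EG_ok (grp_cons_le HSM.g1_T (grp_cons_le HSM.g2_T (grp_cons_le HSM.g3_T (grp_cons_le HSM.g4_T (grp_cons_le HSM.g7_T (grp_cons_le HSM.g8_T (grp_cons_le HSM.g11_T (grp_cons_le HSM.g12_T (grp_cons_le HSM.g13_T (grp_cons_le HSM.g16_T (grp_cons_le t_g51_T (grp_cons_le t_g52_T (grp_cons_le t_g53_T (grp_cons_le t_g54_T (grp_cons_le t_g68_T (grp_cons_le t_g69_T (grp_cons_le t_g67_T (grp_nil_le _)))))))))))))))))) (Frames.cons T_s1_F (Frames.cons T_s13_F (Frames.cons T_s19_F (Frames.cons T_s21_F (Frames.cons T_s22_F Frames.nil)))))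 (okE_cons.2 ⟨t_g61_ok, okE_nil _⟩) _

noncomputable def ht_c4_cnt_t : BT := (BT.fix (nat_lit 257) (BT.br (nat_lit 0) (nat_lit 98) [nat_lit 1, nat_lit 3] (BT.kid (nat_lit 98) (nat_lit 192) (BT.img (nat_lit 1) (nat_lit 0) (BT.frm (nat_lit 1) (nat_lit 0x5050906010809) (nat_lit 0x5050906010809) [nat_lit 0, nat_lit 1] (BT.pln (nat_lit 0) (nat_lit 2) (BT.br (nat_lit 0) (nat_lit 95) [nat_lit 3, nat_lit 5] (BT.kid (nat_lit 95) (nat_lit 12) (BT.frm (nat_lit 0) (nat_lit 67593) (nat_lit 67593) [nat_lit 4] (BT.pln (nat_lit 0) (nat_lit 1) (BT.dif (nat_lit 0) (nat_lit 7) (BT.img (nat_lit 1) (nat_lit 3) (BT.img (nat_lit 1) (nat_lit 0) (BT.frm (nat_lit 2) (nat_lit 0x151b1405050906010809) (nat_lit 0x151b1405050906010809) [nat_lit 0, nat_lit 5, nat_lit 8, nat_lit 9] (BT.pln (nat_lit 0) (nat_lit 12) (BT.and (nat_lit 4) (nat_lit 0) (BT.br (nat_lit 0) (nat_lit 18) [nat_lit 5, nat_lit 7] (BT.kid (nat_lit 18) (nat_lit 3) (BT.frm (nat_lit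 3) (nat_lit 0x1d21151b1405050906010809) (nat_lit 0x1d21151b1405050906010809) [nat_lit 0, nat_lit 5, nat_lit 4, nat_lit 9, nat_lit 12, nat_lit 13] (BT.pln (nat_lit 0) (nat_lit 29) (BT.br (nat_lit 0) (nat_lit 35) [nat_lit 7] (BT.kid (nat_lit 35) (nat_lit 1) (BT.one (nat_lit 4) (nat_lit 0x1f1d21151b1405050906010809) (nat_lit 0x1f1d21151b1405050906010809) [nat_lit 0, nat_lit 3, nat_lit 8, nat_lit 7, nat_lit 12, nat_lit 15, nat_lit 16]) BT.nil)))) BT.nil)))))))))) BT.nil))))) BT.nil)))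

theorem ht_c4_cnt : Cnt 100 (grp 100 HSM.E) [t_g61] [t_g61] 0 0 0 0 3840 :=
  BT.sound ht_c4_cnt_P Known.nil (t := ht_c4_cnt_t) (d := 0) (by decide +kernel)

theorem ht_c4_ge : 3840 ≤ Nat.card (grp 100 ht_c4_K) :=
  Ch.le_card_grp (k := 7) (L := (lab 100 7)) t_hn ht_c4_K_ok (c := (Ch.cons (nat_lit 98) [nat_lit 1] (Ch.cons (nat_lit 95) [nat_lit 3] (Ch.cons (nat_lit 18) [nat_lit 5] (Ch.cons (nat_lit 35) [nat_lit 7] Ch.nil))))) (by decide +kernel)

theorem ht_c4_eq : (grp 100 HSM.E) ⊓ Subgroup.centralizer {Net.toPerm 100 t_g61} = grp 100 ht_c4_K :=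
  cent_eq ht_c4_sym ht_c4_cnt ht_c4_ge

theorem ht_c4_card : Nat.card ↥((grp 100 HSM.E) ⊓ Subgroup.centralizer {Net.toPerm 100 t_g61}) = 3840 :=
  card_cent ht_c4_sym ht_c4_cnt ht_c4_ge

theorem ht_c4_ord : orderOf (Net.toPerm 100 t_g61) = 4 :=
  orderOf_net t_hn t_hk t_g61_ok (by decide) (ps := [2]) (by set_option linter.unusedSimpArgs false in simp [Nat.primeFactorsList_ofNat]) (by decide +kernel)

theorem t_le81 : grp 100 ht_c5_K ≤ grp 100 HSM.lb_E :=
  grp_le_of_memB t_hn t_hk HSM.lb_E_ok ht_c5_K_ok (ws := [nat_lit 0xe120b14060d0314, nat_lit 0xd0d1009100505010a02, nat_lit 0x130e110a0d050804, nat_lit 0xd0d100a13050a0301, nat_lit 0x130e120911050713010303]) (by decide +kernel)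

theorem ht_c5_le : grp 100 ht_c5_K ≤ (grp 100 HSM.E) :=
  (t_le81.trans T_s0.le)

theorem ht_c5_mem : Net.toPerm 100 t_g75 ∈ (grp 100 HSM.E) :=
  ht_c5_le (mem_grp_of_memB t_hn t_hk ht_c5_K_ok t_g75_ok (w := (nat_lit 0x3010301)) (by decide +kernel))

theorem ht_c5_sym : Sym 100 (grp 100 HSM.E) [t_g75] ht_c5_K 0 :=
  Sym.of_lab t_hn t_hk (okE_cons.2 ⟨t_g75_ok, okE_nil _⟩) ht_c5_K_ok ht_c5_le (kT := 0) (by decide +kernel)

theorem t_le87 : grp 100 t_V86 ≤ grp 100 t_V50 :=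
  grp_le_of_memB t_hn t_hk t_V50_ok t_V86_ok (ws := [nat_lit 0x8090101, nat_lit 0x50a0202, nat_lit 723461, nat_lit 0xc0a07020c]) (by decide +kernel)

theorem T_s23 : Stab 100 (grp 100 HSM.E) [nat_lit 1, nat_lit 3, nat_lit 0] t_V86 960 :=
  Stab.step (k := 7) (L := (lab 100 7)) t_hn T_s13 t_V86_ok t_le87 (c := (Ch.cons (nat_lit 96) [nat_lit 1] (Ch.cons (nat_lit 67) [nat_lit 3] (Ch.cons (nat_lit 66) [nat_lit 5] (Ch.cons (nat_lit 77) [nat_lit 7] Ch.nil))))) (by decide +kernel)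

theorem T_s24 : Stab 100 (grp 100 HSM.E) [nat_lit 96, nat_lit 1, nat_lit 3, nat_lit 0] t_V88 192 :=
  Stab.step (k := 7) (L := (lab 100 7)) t_hn T_s23 t_V88_ok (grp_mono (List.subset_append_right [t_g82] _)) (c := (Ch.cons (nat_lit 67) [nat_lit 1] (Ch.cons (nat_lit 66) [nat_lit 3] (Ch.cons (nat_lit 77) [nat_lit 5] Ch.nil)))) (by decide +kernel)

theorem T_s25 : Stab 100 (grp 100 HSM.E) [nat_lit 67, nat_lit 96, nat_lit 1, nat_lit 3, nat_lit 0] t_V89 8 :=
  Stab.step (k := 7) (L := (lab 100 7)) t_hn T_s24 t_V89_ok (grp_mono (List.subset_append_right [t_g83] _)) (c := (Ch.cons (nat_lit 66) [nat_lit 1] (Ch.cons (nat_lit 77) [nat_lit 3] Ch.nil))) (by decide +kernel)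

theorem T_s26 : Stab 100 (grp 100 HSM.E) [nat_lit 66, nat_lit 67, nat_lit 96, nat_lit 1, nat_lit 3, nat_lit 0] t_V90 2 :=
  Stab.step (k := 7) (L := (lab 100 7)) t_hn T_s25 t_V90_ok (grp_mono (List.subset_append_right [t_g84] _)) (c := (Ch.cons (nat_lit 77) [nat_lit 1] Ch.nil)) (by decide +kernel)

theorem T_s27 : Stab 100 (grp 100 HSM.E) [nat_lit 77, nat_lit 66, nat_lit 67, nat_lit 96, nat_lit 1, nat_lit 3, nat_lit 0] t_V91 1 :=
  Stab.step (k := 7) (L := (lab 100 7)) t_hn T_s26 t_V91_ok (grp_mono (List.subset_append_right [t_g85] _)) (c := Ch.nil) (by decide +kernel)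

theorem t_g83_T : Net.toPerm 100 t_g83 ∈ (grp 100 HSM.E) :=
  T_s24.le (toPerm_mem_grp (E := t_V88) (List.Mem.head _))

theorem t_g84_T : Net.toPerm 100 t_g84 ∈ (grp 100 HSM.E) :=
  T_s24.le (toPerm_mem_grp (E := t_V88) (List.Mem.tail _ (List.Mem.head _)))

theorem t_g85_T : Net.toPerm 100 t_g85 ∈ (grp 100 HSM.E) :=
  T_s24.le (toPerm_mem_grp (E := t_V88) (List.Mem.tail _ (List.Mem.tail _ (List.Mem.head _))))

theorem t_g82_T : Net.toPerm 100 t_g82 ∈ (grp 100 HSM.E) :=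
  T_s23.le (toPerm_mem_grp (E := t_V86) (List.Mem.head _))

noncomputable def T_s27_O : ℕ := (nat_lit 0x3333266666ccccd99999333321f07c1f03e0f83e0f83e0f83ee63398c67319ce63398c673184db24d926c93649b64db26d920000000000000000000000001000000000000000000000000800000000000000000000000021000000000000000000000000000000008000000000000000000000000400000000000000000000020000000000000000000)

theorem T_s27_F : Frame 100 (grp 100 HSM.E) 7 11 T_s27_O 1 1 :=
  IsBase.frame T_s27.isBase (by decide +kernel)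

noncomputable def T_s26_O : ℕ := (nat_lit 0x100000000000000000000000000200000000000000000000000000000040000000000000000000000002000000000000000000000000040000000000000000000000000000400000000000000000000000004000000000000000000000000008000000000000000000000000100000000000000000000000004000000000000000000000000008000000000000000000000000040000000000000000000000001000000000000000000000000004002010000000000000000000008000800000000000000000000000808000000000000000000000000240000000000000000000000401000000000000000000000004010000000000000000000000020100000000000000000004000001000000000000000000020000010000000000000004000000000800000000000000000000020004000000000000000000020000100000000000000000000000108000000000000000000000008200000000000002000000000010000000000020000000000000800000000000000000000002020000000000000000000000041000000000000000080000000020000000000000000000000009000000000000000000800000080000000000000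1000000000040000000000000004000000002000000000080000000000000100000000080000000000000004000000000000000000400000080000004000000000000000002000000000000080000000000040000000000000000000000009000000000000000000000000220000004000000000000000001000000001000000000000000080000000000000020000000002000000000000000000000004080000000000000000000010002000000000000800000000000100000000000000000000000048000000000002000000000000200000000000000000020000010000000000000000000000000100000000000000000000000080000000000000000000000002100000000000000000000000000000000800000000000000000000000040000000000000000)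

theorem T_s26_F : Frame 100 (grp 100 HSM.E) 6 59 T_s26_O 0 1 :=
  Stab.frame t_hn T_s26 (by decide +kernel)

noncomputable def T_s25_O : ℕ := (nat_lit 0x40000000000000000000000200040000000000000000000004000040000000000000000000200000400000000000000000080000008000000000000000000000000000000480010000000000000000000004000100000000000000000000040080040100000000100000000000000024000100001000000080008000000000000840000002000000000000080000220000000200000004000000800400000002000001200000000020000201000000000000000081000002000000000010002000001000000248000086100004000000000000400010809200900000000818a0100000020000080000040010000002020400050800400040100080000000300030000000000000000000000000010000000000000000000000008000000000000000000000000210000000000000000000000000000000080000000000000000)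

theorem T_s25_F : Frame 100 (grp 100 HSM.E) 5 26 T_s25_O 0 1 :=
  Stab.frame t_hn T_s25 (by decide +kernel)

noncomputable def T_s23_O : ℕ := (nat_lit 0x10100000200040000000000040201000640011809210981000804281000004202048c05480041a0441104800140123000350000000000000000000000000100000000000000000000000080000000000000000000000002)

theorem T_s23_F : Frame 100 (grp 100 HSM.E) 3 7 T_s23_O 0 1 :=
  Stab.frame t_hn T_s23 (by decide +kernel)

noncomputable def ht_c5_cnt_L : List ℕ := [1, 2, T_s1_O, 0, 0, 3, 7, T_s23_O, 0, 0, 5, 26, T_s25_O, 0, 0, 6, 59, T_s26_O, 0, 0, 7, 11, T_s27_O, 1, 0]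

theorem ht_c5_cnt_P : Prob 100 7 (grp 100 HSM.E) ht_c5_cnt_EG [t_g75] [t_g75] ht_c5_K ht_c5_cnt_L 0 0 :=
  Sym.prob t_hn t_hk ht_c5_sym ht_c5_cnt_EG_ok (grp_cons_le HSM.g1_T (grp_cons_le HSM.g2_T (grp_cons_le HSM.g3_T (grp_cons_le HSM.g4_T (grp_cons_le HSM.g7_T (grp_cons_le HSM.g8_T (grp_cons_le HSM.g11_T (grp_cons_le HSM.g12_T (grp_cons_le HSM.g13_T (grp_cons_le HSM.g16_T (grp_cons_le t_g83_T (grp_cons_le t_g84_T (grp_cons_le t_g85_T (grp_cons_le t_g82_T (grp_nil_le _))))))))))))))) (Frames.cons T_s1_F (Frames.cons T_s23_F (Frames.cons T_s25_F (Frames.cons T_s26_F (Frames.cons T_s27_F Frames.nil))))) (okE_cons.2 ⟨t_g75_ok, okE_nil _⟩) _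

noncomputable def ht_c5_cnt_t : BT := (BT.fix (nat_lit 257) (BT.fix (nat_lit 1) (BT.dif (nat_lit 1) (nat_lit 0) (BT.br (nat_lit 0) (nat_lit 92) [nat_lit 1, nat_lit 3] (BT.dead (nat_lit 84) (BT.frm (nat_lit 0) (nat_lit 264) (nat_lit 66819) [nat_lit 0] (BT.pln (nat_lit 0) (nat_lit 1) (BT.and (nat_lit 0) (nat_lit 4) (BT.cnt (nat_lit 0))))) (BT.kid (nat_lit 92) (nat_lit 32) (BT.frm (nat_lit 0) (nat_lit 264) (nat_lit 264) [nat_lit 0] (BT.pln (nat_lit 0) (nat_lit 1) (BT.and (nat_lit 3) (nat_lit 0) (BT.br (nat_lit 0) (nat_lit 63) [nat_lit 3] (BT.kid (nat_lit 63) (nat_lit 16) (BT.dif (nat_lit 5) (nat_lit 2) (BT.dif (nat_lit 0) (nat_lit 5) (BT.img (nat_lit 1) (nat_lit 6) (BT.dif (nat_lit 1) (nat_lit 0) (BT.frm (nat_lit 1) (nat_lit 0xc08110108) (nat_lit 0xc08110108) [nat_lit 4, nat_lit 1, nat_lit 8] (BT.pln (nat_lit 0) (nat_lit 3) (BT.dif (nat_lit 2) (nat_lit 0) (BT.br (nat_lit 0) (nat_lit 9) [nat_lit 5] (BT.kid (nat_lit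 9) (nat_lit 4) (BT.dif (nat_lit 10) (nat_lit 15) (BT.and (nat_lit 11) (nat_lit 16) (BT.dif (nat_lit 0) (nat_lit 16) (BT.dif (nat_lit 0) (nat_lit 11) (BT.frm (nat_lit 2) (nat_lit 0x151917161b1b0c08110108) (nat_lit 0x151917161b1b0c08110108) [nat_lit 4, nat_lit 0, nat_lit 12, nat_lit 9, nat_lit 16] (BT.pln (nat_lit 0) (nat_lit 16) (BT.and (nat_lit 5) (nat_lit 0) (BT.br (nat_lit 0) (nat_lit 51) [nat_lit 7] (BT.dead (nat_lit 35) (BT.frm (nat_lit 3) (nat_lit 0x17151917161b1b0c08110108) (nat_lit 0x171917151917161b1b0c08110108) [nat_lit 0, nat_lit 8, nat_lit 4, nat_lit 16, nat_lit 13, nat_lit 20] (BT.pln (nat_lit 0) (nat_lit 47) (BT.img (nat_lit 1) (nat_lit 2) (BT.and (nat_lit 1) (nat_lit 0) (BT.cnt (nat_lit 0)))))) (BT.kid (nat_lit 51) (nat_lit 2) (BT.dif (nat_lit 26) (nat_lit 18) (BT.dif (nat_lit 0) (nat_lit 11) (BT.pln (nat_lit 13) (nat_lit 4) (BT.dif (nat_lit 1) (nat_lit 0) (BT.dif (nat_lit 0) (nat_lit 27) (BT.frm (nat_lit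 3) (nat_lit 0x17151917161b1b0c08110108) (nat_lit 0x17151917161b1b0c08110108) [nat_lit 5, nat_lit 13, nat_lit 9, nat_lit 21, nat_lit 18, nat_lit 25] (BT.pln (nat_lit 0) (nat_lit 41) (BT.and (nat_lit 2) (nat_lit 0) (BT.br (nat_lit 0) (nat_lit 65) [nat_lit 9] (BT.kid (nat_lit 65) (nat_lit 1) (BT.one (nat_lit 4) (nat_lit 0x1917151917161b1b0c08110108) (nat_lit 0x1917151917161b1b0c08110108) [nat_lit 0, nat_lit 9, nat_lit 17, nat_lit 13, nat_lit 25, nat_lit 22, nat_lit 29]) BT.nil)))))))))) BT.nil)))))))))) BT.nil))))))))) BT.nil))))) BT.nil))))))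

theorem ht_c5_cnt : Cnt 100 (grp 100 HSM.E) [t_g75] [t_g75] 0 0 0 0 256 :=
  BT.sound ht_c5_cnt_P Known.nil (t := ht_c5_cnt_t) (d := 0) (by decide +kernel)

theorem ht_c5_ge : 256 ≤ Nat.card (grp 100 ht_c5_K) :=
  Ch.le_card_grp (k := 7) (L := (lab 100 7)) t_hn ht_c5_K_ok (c := (Ch.cons (nat_lit 92) [nat_lit 1] (Ch.cons (nat_lit 63) [nat_lit 3] (Ch.cons (nat_lit 9) [nat_lit 5] (Ch.cons (nat_lit 51) [nat_lit 7] (Ch.cons (nat_lit 65) [nat_lit 9] Ch.nil)))))) (by decide +kernel)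

theorem ht_c5_eq : (grp 100 HSM.E) ⊓ Subgroup.centralizer {Net.toPerm 100 t_g75} = grp 100 ht_c5_K :=
  cent_eq ht_c5_sym ht_c5_cnt ht_c5_ge

theorem ht_c5_card : Nat.card ↥((grp 100 HSM.E) ⊓ Subgroup.centralizer {Net.toPerm 100 t_g75}) = 256 :=
  card_cent ht_c5_sym ht_c5_cnt ht_c5_ge

theorem ht_c5_ord : orderOf (Net.toPerm 100 t_g75) = 4 :=
  orderOf_net t_hn t_hk t_g75_ok (by decide) (ps := [2]) (by set_option linter.unusedSimpArgs false in simp [Nat.primeFactorsList_ofNat]) (by decide +kernel)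

theorem t_le98 : grp 100 ht_c6_K ≤ grp 100 HSM.lb_E :=
  grp_le_of_memB t_hn t_hk HSM.lb_E_ok ht_c6_K_ok (ws := [nat_lit 0x130e110a14060f010a02, nat_lit 0xe0f140a0a0f05070a021004, nat_lit 0x130e1309130b050a0804, nat_lit 0xd10110911070501060a, nat_lit 0xe090e10050d060111, nat_lit 0xe0f14090f11050a0411]) (by decide +kernel)

theorem ht_c6_le : grp 100 ht_c6_K ≤ (grp 100 HSM.E) :=
  (t_le98.trans T_s0.le)

theorem ht_c6_mem : Net.toPerm 100 t_g92 ∈ (grp 100 HSM.E) :=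
  ht_c6_le (toPerm_mem_grp (E := ht_c6_K) (List.Mem.tail _ (List.Mem.tail _ (List.Mem.head _))))

theorem ht_c6_sym : Sym 100 (grp 100 HSM.E) [t_g92] ht_c6_K 0 :=
  Sym.of_lab t_hn t_hk (okE_cons.2 ⟨t_g92_ok, okE_nil _⟩) ht_c6_K_ok ht_c6_le (kT := 0) (by decide +kernel)

theorem t_le104 : grp 100 t_V103 ≤ grp 100 t_V88 :=
  grp_le_of_memB t_hn t_hk t_V88_ok t_V103_ok (ws := [nat_lit 0x50302030503, nat_lit 0x5030503, nat_lit 3, nat_lit 0x10305030502, nat_lit 66306]) (by decide +kernel)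

theorem T_s28 : Stab 100 (grp 100 HSM.E) [nat_lit 65, nat_lit 96, nat_lit 1, nat_lit 3, nat_lit 0] t_V103 48 :=
  Stab.step (k := 7) (L := (lab 100 7)) t_hn T_s24 t_V103_ok t_le104 (c := (Ch.cons (nat_lit 50) [nat_lit 1] (Ch.cons (nat_lit 71) [nat_lit 3, nat_lit 5] (Ch.cons (nat_lit 80) [nat_lit 7, nat_lit 9] Ch.nil)))) (by decide +kernel)

theorem T_s29 : Stab 100 (grp 100 HSM.E) [nat_lit 50, nat_lit 65, nat_lit 96, nat_lit 1, nat_lit 3, nat_lit 0] t_V105 16 :=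
  Stab.step (k := 7) (L := (lab 100 7)) t_hn T_s28 t_V105_ok (grp_mono (List.subset_append_right [t_g99] _)) (c := (Ch.cons (nat_lit 71) [nat_lit 1, nat_lit 3] (Ch.cons (nat_lit 80) [nat_lit 5, nat_lit 7] Ch.nil))) (by decide +kernel)

theorem T_s30 : Stab 100 (grp 100 HSM.E) [nat_lit 71, nat_lit 50, nat_lit 65, nat_lit 96, nat_lit 1, nat_lit 3, nat_lit 0] t_V106 4 :=
  Stab.step (k := 7) (L := (lab 100 7)) t_hn T_s29 t_V106_ok (grp_mono (List.subset_append_right [t_g100, t_g84] _)) (c := (Ch.cons (nat_lit 80) [nat_lit 1, nat_lit 3] Ch.nil)) (by decide +kernel)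

theorem T_s31 : Stab 100 (grp 100 HSM.E) [nat_lit 80, nat_lit 71, nat_lit 50, nat_lit 65, nat_lit 96, nat_lit 1, nat_lit 3, nat_lit 0] t_V107 1 :=
  Stab.step (k := 7) (L := (lab 100 7)) t_hn T_s30 t_V107_ok (grp_mono (List.subset_append_right [t_g101, t_g102] _)) (c := Ch.nil) (by decide +kernel)

theorem t_g99_T : Net.toPerm 100 t_g99 ∈ (grp 100 HSM.E) :=
  T_s28.le (toPerm_mem_grp (E := t_V103) (List.Mem.head _))

theorem t_g100_T : Net.toPerm 100 t_g100 ∈ (grp 100 HSM.E) :=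
  T_s28.le (toPerm_mem_grp (E := t_V103) (List.Mem.tail _ (List.Mem.head _)))

theorem t_g101_T : Net.toPerm 100 t_g101 ∈ (grp 100 HSM.E) :=
  T_s28.le (toPerm_mem_grp (E := t_V103) (List.Mem.tail _ (List.Mem.tail _ (List.Mem.tail _ (List.Mem.head _)))))

theorem t_g102_T : Net.toPerm 100 t_g102 ∈ (grp 100 HSM.E) :=
  T_s28.le (toPerm_mem_grp (E := t_V103) (List.Mem.tail _ (List.Mem.tail _ (List.Mem.tail _ (List.Mem.tail _ (List.Mem.head _))))))

noncomputable def T_s31_O : ℕ := (nat_lit 0x3333266666ccccd99999333321f07c1f03e0f83e0f83e0f83ee63398c67319ce63398c673184db24d926c93649b64db26d9200000000000000000000000010000000000000000000000008000000000000000000000000210000000000000000000000000000000020000000000000000000000000000400000000000000000008000000000000000000000100000000000000000000)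

theorem T_s31_F : Frame 100 (grp 100 HSM.E) 8 12 T_s31_O 1 1 :=
  IsBase.frame T_s31.isBase (by decide +kernel)

noncomputable def T_s29_O : ℕ := (nat_lit 0x10000000000000000000000000000000000000000000000400081080100000000000000000c000000012000000000000000000020800000210000000000000000000a000004800000000002004000000000012000000000000040000084000004000000000200000020080000020000000008200000000200000800020000000001000000002020000000400000800000002000200400000100000000000100010000000000804000000000004800100000004000040000000040000400000008000004000002000800001000001000000000100201000640011809210981000000000000000000000000000100000000000000000000000080000000000000000000000002100000000000000000000000000000000200000000000000000000000000004000000000000)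

theorem T_s29_F : Frame 100 (grp 100 HSM.E) 6 24 T_s29_O 0 1 :=
  Stab.frame t_hn T_s29 (by decide +kernel)

noncomputable def T_s28_O : ℕ := (nat_lit 0x1000000000400000000000440000010000000000010001000100000004000040000000040000400000008000004000002000000a280a0002168000080002c00200001320080000222000000810c09040840000040048000a0440100800100122000210020100064001180921098100000000000000000000000000010000000000000000000000008000000000000000000000000210000000000000000000000000000000020000000000000000)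

theorem T_s28_F : Frame 100 (grp 100 HSM.E) 5 14 T_s28_O 0 1 :=
  Stab.frame t_hn T_s28 (by decide +kernel)

noncomputable def ht_c6_cnt_L : List ℕ := [1, 2, T_s1_O, 0, 0, 5, 14, T_s28_O, 0, 0, 6, 24, T_s29_O, 0, 0, 8, 12, T_s31_O, 1, 0]

theorem ht_c6_cnt_P : Prob 100 7 (grp 100 HSM.E) ht_c6_cnt_EG [t_g92] [t_g92] ht_c6_K ht_c6_cnt_L 0 0 :=
  Sym.prob t_hn t_hk ht_c6_sym ht_c6_cnt_EG_ok (grp_cons_le HSM.g1_T (grp_cons_le HSM.g2_T (grp_cons_le HSM.g3_T (grp_cons_le HSM.g4_T (grp_cons_le HSM.g7_T (grp_cons_le HSM.g8_T (grp_cons_le HSM.g11_T (grp_cons_le HSM.g12_T (grp_cons_le HSM.g13_T (grp_cons_le HSM.g16_T (grp_cons_le t_g83_T (grp_cons_le t_g84_T (grp_cons_le t_g85_T (grp_cons_le t_g82_T (grp_cons_le t_g99_T (grp_cons_le t_g100_T (grp_cons_le t_g101_T (grp_cons_le t_g102_T (grp_nil_le _))))))))))))))))))) (Frames.cons T_s1_F (Frames.cons T_s28_F (Frames.cons T_s29_F (Frames.cons T_s31_F Frames.nil)))) (okE_cons.2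 ⟨t_g92_ok, okE_nil _⟩) _

noncomputable def ht_c6_cnt_t : BT := (BT.fix (nat_lit 1) (BT.br (nat_lit 0) (nat_lit 78) [nat_lit 1, nat_lit 3] (BT.kid (nat_lit 78) (nat_lit 16) (BT.frm (nat_lit 0) (nat_lit 266) (nat_lit 266) [nat_lit 0] (BT.pln (nat_lit 0) (nat_lit 1) (BT.fix (nat_lit 257) (BT.and (nat_lit 1) (nat_lit 0) (BT.dif (nat_lit 0) (nat_lit 5) (BT.br (nat_lit 0) (nat_lit 49) [nat_lit 5, nat_lit 7] (BT.kid (nat_lit 49) (nat_lit 4) (BT.and (nat_lit 3) (nat_lit 4) (BT.dif (nat_lit 0) (nat_lit 8) (BT.dif (nat_lit 0) (nat_lit 2) (BT.img (nat_lit 1) (nat_lit 3) (BT.dif (nat_lit 1) (nat_lit 0) (BT.br (nat_lit 0) (nat_lit 45) [] (BT.dead (nat_lit 66) (BT.dif (nat_lit 13) (nat_lit 12) (BT.dif (nat_lit 0) (nat_lit 11) (BT.frm (nat_lit 1) (nat_lit 0x160b0f0508010a) (nat_lit 0xb0f0508010a) [nat_lit 2, nat_lit 4, nat_lit 8, nat_lit 0, nat_lit 14] (BT.pln (nat_lit 0) (nat_lit 6) (BT.and (nat_lit 0) (nat_lit 13) (BT.cnt (nat_lit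 0))))))) (BT.kid (nat_lit 45) (nat_lit 4) (BT.dif (nat_lit 16) (nat_lit 10) (BT.dif (nat_lit 0) (nat_lit 10) (BT.dif (nat_lit 10) (nat_lit 8) (BT.dif (nat_lit 0) (nat_lit 3) (BT.dif (nat_lit 0) (nat_lit 17) (BT.dif (nat_lit 0) (nat_lit 7) (BT.dif (nat_lit 19) (nat_lit 18) (BT.dif (nat_lit 0) (nat_lit 17) (BT.frm (nat_lit 2) (nat_lit 0x1d160b0f0508010a) (nat_lit 0x1d160b0f0508010a) [nat_lit 2, nat_lit 8, nat_lit 10, nat_lit 14, nat_lit 0, nat_lit 20] (BT.pln (nat_lit 0) (nat_lit 19) (BT.and (nat_lit 8) (nat_lit 0) (BT.br (nat_lit 0) (nat_lit 74) [nat_lit 9, nat_lit 11] (BT.kid (nat_lit 74) (nat_lit 1) (BT.img (nat_lit 1) (nat_lit 0) (BT.one (nat_lit 3) (nat_lit 0x1d160b0f0508010a) (nat_lit 0x1d160b0f0508010a) [nat_lit 0, nat_lit 1, nat_lit 7, nat_lit 13, nat_lit 15, nat_lit 19, nat_lit 5, nat_lit 25])) BT.nil))))))))))))) BT.nil)))))))) BT.nil))))))) BT.nil)))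

theorem ht_c6_cnt : Cnt 100 (grp 100 HSM.E) [t_g92] [t_g92] 0 0 0 0 64 :=
  BT.sound ht_c6_cnt_P Known.nil (t := ht_c6_cnt_t) (d := 0) (by decide +kernel)

theorem ht_c6_ge : 64 ≤ Nat.card (grp 100 ht_c6_K) :=
  Ch.le_card_grp (k := 7) (L := (lab 100 7)) t_hn ht_c6_K_ok (c := (Ch.cons (nat_lit 78) [nat_lit 1, nat_lit 3] (Ch.cons (nat_lit 49) [nat_lit 5, nat_lit 7] (Ch.cons (nat_lit 74) [nat_lit 9, nat_lit 11] Ch.nil)))) (by decide +kernel)

theorem ht_c6_eq : (grp 100 HSM.E) ⊓ Subgroup.centralizer {Net.toPerm 100 t_g92} = grp 100 ht_c6_K :=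
  cent_eq ht_c6_sym ht_c6_cnt ht_c6_ge

theorem ht_c6_card : Nat.card ↥((grp 100 HSM.E) ⊓ Subgroup.centralizer {Net.toPerm 100 t_g92}) = 64 :=
  card_cent ht_c6_sym ht_c6_cnt ht_c6_ge

theorem ht_c6_ord : orderOf (Net.toPerm 100 t_g92) = 4 :=
  orderOf_net t_hn t_hk t_g92_ok (by decide) (ps := [2]) (by set_option linter.unusedSimpArgs false in simp [Nat.primeFactorsList_ofNat]) (by decide +kernel)

theorem t_le112 : grp 100 ht_c7_K ≤ grp 100 HSM.lb_E :=
  grp_le_of_memB t_hn t_hk HSM.lb_E_ok ht_c7_K_ok (ws := [nat_lit 0x1209110a0711040a, nat_lit 0x14120d0914070d, nat_lit 0xd0f0a0c0c070d]) (by decide +kernel)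

theorem ht_c7_le : grp 100 ht_c7_K ≤ (grp 100 HSM.E) :=
  (t_le112.trans T_s0.le)

theorem ht_c7_mem : Net.toPerm 100 t_g108 ∈ (grp 100 HSM.E) :=
  ht_c7_le (mem_grp_of_memB t_hn t_hk ht_c7_K_ok t_g108_ok (w := (nat_lit 0x40101040101)) (by decide +kernel))

theorem ht_c7_sym : Sym 100 (grp 100 HSM.E) [t_g108] ht_c7_K 0 :=
  Sym.of_lab t_hn t_hk (okE_cons.2 ⟨t_g108_ok, okE_nil _⟩) ht_c7_K_ok ht_c7_le (kT := 0) (by decide +kernel)

theorem t_le117 : grp 100 t_V116 ≤ grp 100 t_V55 :=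
  grp_le_of_memB t_hn t_hk t_V55_ok t_V116_ok (ws := [nat_lit 0x503030104, nat_lit 0x7050303050207, nat_lit 0x8050303050104]) (by decide +kernel)

theorem T_s32 : Stab 100 (grp 100 HSM.E) [nat_lit 50, nat_lit 83, nat_lit 3, nat_lit 0] t_V116 60 :=
  Stab.step (k := 7) (L := (lab 100 7)) t_hn T_s14 t_V116_ok t_le117 (c := (Ch.cons (nat_lit 52) [nat_lit 1] (Ch.cons (nat_lit 65) [nat_lit 3] (Ch.cons (nat_lit 2) [nat_lit 5] Ch.nil)))) (by decide +kernel)

theorem T_s33 : Stab 100 (grp 100 HSM.E) [nat_lit 52, nat_lit 50, nat_lit 83, nat_lit 3, nat_lit 0] t_V118 10 :=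
  Stab.step (k := 7) (L := (lab 100 7)) t_hn T_s32 t_V118_ok (grp_mono (List.subset_append_right [t_g113] _)) (c := (Ch.cons (nat_lit 65) [nat_lit 1] (Ch.cons (nat_lit 2) [nat_lit 3] Ch.nil))) (by decide +kernel)

theorem T_s34 : Stab 100 (grp 100 HSM.E) [nat_lit 65, nat_lit 52, nat_lit 50, nat_lit 83, nat_lit 3, nat_lit 0] t_V119 2 :=
  Stab.step (k := 7) (L := (lab 100 7)) t_hn T_s33 t_V119_ok (grp_mono (List.subset_append_right [t_g114] _)) (c := (Ch.cons (nat_lit 2) [nat_lit 1] Ch.nil)) (by decide +kernel)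

theorem T_s35 : Stab 100 (grp 100 HSM.E) [nat_lit 2, nat_lit 65, nat_lit 52, nat_lit 50, nat_lit 83, nat_lit 3, nat_lit 0] t_V120 1 :=
  Stab.step (k := 7) (L := (lab 100 7)) t_hn T_s34 t_V120_ok (grp_mono (List.subset_append_right [t_g115] _)) (c := Ch.nil) (by decide +kernel)

theorem t_g114_T : Net.toPerm 100 t_g114 ∈ (grp 100 HSM.E) :=
  T_s33.le (toPerm_mem_grp (E := t_V118) (List.Mem.head _))

theorem t_g115_T : Net.toPerm 100 t_g115 ∈ (grp 100 HSM.E) :=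
  T_s33.le (toPerm_mem_grp (E := t_V118) (List.Mem.tail _ (List.Mem.head _)))

theorem t_g113_T : Net.toPerm 100 t_g113 ∈ (grp 100 HSM.E) :=
  T_s32.le (toPerm_mem_grp (E := t_V116) (List.Mem.head _))

noncomputable def T_s35_O : ℕ := (nat_lit 0x3333266666ccccd99999333321f07c1f03e0f83e0f83e0f83ee63398c67319ce63398c673184db24d926c93649b64db26d920000000000000000000000001000000000000000000000000800008000000000000000000000000000000004000000000000000000000001000000000000000000000200000000000000000000000000000000000000004)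

theorem T_s35_F : Frame 100 (grp 100 HSM.E) 7 11 T_s35_O 1 1 :=
  IsBase.frame T_s35.isBase (by decide +kernel)

noncomputable def T_s34_O : ℕ := (nat_lit 0x8000000000000000000000000008000000000000000000000000000004000000000000000000000000100000000000000000000000008000000000000000000000000004000000000000000000000000000080000000000000000000000000800000000000000000000000000800000000000000000000000004000000000000000000000000010000000000000000000000000200000000000000000000000000400000000000000000000000008002010000000000000000000000800002000000000000000000000010100000000000000000000004008000000000000000004000000010000000000000000000008000020000000000000000200000001000000000000000002000000040000000000000000020000002000000000000000040000000080000000000000000010000002000000000000000000004000100000000000000000000080000400000000000000000000800010000000000010000000000000400000000000000000010000020000000000000000004000000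8000000000000000000000800200000000200000000000000010000000000000040000000000400000000000000200000000010000000000002000000000000200000000000080000000000010000000000000000000001000800000000000000008000000040000000000400000000000002000000000000000000000400040000000000000000002000001000004000000000000000000080000000000000000000008004000000000000000000002000200000000000000000000000810000040000000000000000000800000000000000020000000020000080000000000000000001000000000002000000000000040000000000000040000000002000000000000001000000000101000000000000000000000004000000000000000000000000100000000000000000000000080000800000000000000000000000000000000400000000000000000000000100000000000000000000020000000000000000)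

theorem T_s34_F : Frame 100 (grp 100 HSM.E) 6 59 T_s34_O 0 1 :=
  Stab.frame t_hn T_s34 (by decide +kernel)

noncomputable def ht_c7_cnt_L : List ℕ := [1, 2, T_s1_O, 0, 0, 2, 5, T_s13_O, 0, 0, 6, 59, T_s34_O, 0, 0, 7, 11, T_s35_O, 1, 0]

theorem ht_c7_cnt_P : Prob 100 7 (grp 100 HSM.E) ht_c7_cnt_EG [t_g108] [t_g108] ht_c7_K ht_c7_cnt_L 0 0 :=
  Sym.prob t_hn t_hk ht_c7_sym ht_c7_cnt_EG_ok (grp_cons_le HSM.g1_T (grp_cons_le HSM.g2_T (grp_cons_le HSM.g3_T (grp_cons_le HSM.g4_T (grp_cons_le HSM.g7_T (grp_cons_le HSM.g8_T (grp_cons_le HSM.g11_T (grp_cons_le HSM.g12_T (grp_cons_le HSM.g13_T (grp_cons_le HSM.g16_T (grp_cons_le t_g114_T (grp_cons_le t_g115_T (grp_cons_le t_g113_T (grp_cons_le t_g51_T (grp_cons_le t_g52_T (grp_cons_le t_g53_T (grp_cons_le t_g54_T (grp_nil_le _)))))))))))))))))) (Frames.cons T_s1_F (Frames.cons T_s13_F (Frames.cons T_s34_F (Frames.cons T_s35_F Frames.nil)))) (okE_cons.2 ⟨t_g108_ok, okE_nil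 _⟩) _

noncomputable def ht_c7_cnt_t : BT := (BT.br (nat_lit 2) (nat_lit 0) [nat_lit 1, nat_lit 3] (BT.dead (nat_lit 1) (BT.frm (nat_lit 0) (nat_lit 0) (nat_lit 132356) [nat_lit 0] (BT.pln (nat_lit 0) (nat_lit 1) (BT.img (nat_lit 1) (nat_lit 2) (BT.and (nat_lit 1) (nat_lit 0) (BT.cnt (nat_lit 0)))))) (BT.kid (nat_lit 0) (nat_lit 10) (BT.frm (nat_lit 0) (nat_lit 0) (nat_lit 0) [nat_lit 0] (BT.pln (nat_lit 0) (nat_lit 1) (BT.img (nat_lit 1) (nat_lit 2) (BT.frm (nat_lit 1) (nat_lit 332296) (nat_lit 332296) [nat_lit 0, nat_lit 3] (BT.pln (nat_lit 0) (nat_lit 3) (BT.dif (nat_lit 3) (nat_lit 0) (BT.img (nat_lit 1) (nat_lit 3) (BT.img (nat_lit 1) (nat_lit 0) (BT.dif (nat_lit 2) (nat_lit 0) (BT.br (nat_lit 0) (nat_lit 47) [nat_lit 3] (BT.kid (nat_lit 47) (nat_lit 2) (BT.dif (nat_lit 4) (nat_lit 0) (BT.dif (nat_lit 0) (nat_lit 3) (BT.img (nat_lit 1) (nat_lit 4) (BT.frm (nat_lit 2) (nat_lit 0x1619191b1d0e051208) (nat_lit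 0x1619191b1d0e051208) [nat_lit 3, nat_lit 6, nat_lit 5, nat_lit 0, nat_lit 10, nat_lit 13] (BT.pln (nat_lit 0) (nat_lit 6) (BT.and (nat_lit 3) (nat_lit 0) (BT.br (nat_lit 0) (nat_lit 70) [nat_lit 5] (BT.kid (nat_lit 70) (nat_lit 1) (BT.one (nat_lit 3) (nat_lit 0x171619191b1d0e051208) (nat_lit 0x171619191b1d0e051208) [nat_lit 0, nat_lit 7, nat_lit 10, nat_lit 9, nat_lit 4, nat_lit 14, nat_lit 17]) BT.nil)))))))) BT.nil))))))))))) BT.nil)))

theorem ht_c7_cnt : Cnt 100 (grp 100 HSM.E) [t_g108] [t_g108] 0 0 0 0 500 :=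
  BT.sound ht_c7_cnt_P Known.nil (t := ht_c7_cnt_t) (d := 0) (by decide +kernel)

theorem ht_c7_ge : 500 ≤ Nat.card (grp 100 ht_c7_K) :=
  Ch.le_card_grp (k := 7) (L := (lab 100 7)) t_hn ht_c7_K_ok (c := (Ch.cons (nat_lit 0) [nat_lit 1] (Ch.cons (nat_lit 47) [nat_lit 3] (Ch.cons (nat_lit 70) [nat_lit 5] Ch.nil)))) (by decide +kernel)

theorem ht_c7_eq : (grp 100 HSM.E) ⊓ Subgroup.centralizer {Net.toPerm 100 t_g108} = grp 100 ht_c7_K :=
  cent_eq ht_c7_sym ht_c7_cnt ht_c7_ge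

theorem ht_c7_card : Nat.card ↥((grp 100 HSM.E) ⊓ Subgroup.centralizer {Net.toPerm 100 t_g108}) = 500 :=
  card_cent ht_c7_sym ht_c7_cnt ht_c7_ge

theorem ht_c7_ord : orderOf (Net.toPerm 100 t_g108) = 5 :=
  orderOf_net t_hn t_hk t_g108_ok (by decide) (ps := [5]) (by set_option linter.unusedSimpArgs false in simp [Nat.primeFactorsList_ofNat]) (by decide +kernel)

theorem t_le124 : grp 100 ht_c8_K ≤ grp 100 HSM.lb_E :=
  grp_le_of_memB t_hn t_hk HSM.lb_E_ok ht_c8_K_ok (ws := [nat_lit 0xe0f09110a070303, nat_lit 0xd0d110c0e050512]) (by decide +kernel)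

theorem ht_c8_le : grp 100 ht_c8_K ≤ (grp 100 HSM.E) :=
  (t_le124.trans T_s0.le)

theorem ht_c8_mem : Net.toPerm 100 t_g121 ∈ (grp 100 HSM.E) :=
  ht_c8_le (mem_grp_of_memB t_hn t_hk ht_c8_K_ok t_g121_ok (w := (nat_lit 0x30101030101)) (by decide +kernel))

theorem ht_c8_sym : Sym 100 (grp 100 HSM.E) [t_g121] ht_c8_K 0 :=
  Sym.of_lab t_hn t_hk (okE_cons.2 ⟨t_g121_ok, okE_nil _⟩) ht_c8_K_ok ht_c8_le (kT := 0) (by decide +kernel)

theorem T_s36 : Stab 100 (grp 100 HSM.E) [nat_lit 4, nat_lit 3, nat_lit 0] t_V125 96 :=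
  Stab.step (k := 7) (L := (lab 100 7)) t_hn T_s13 t_V125_ok (grp_mono (List.subset_append_right [HSM.g7, HSM.g8] _)) (c := (Ch.cons (nat_lit 6) [nat_lit 1, nat_lit 3, nat_lit 5] (Ch.cons (nat_lit 2) [nat_lit 7, nat_lit 9] Ch.nil))) (by decide +kernel)

theorem T_s37 : Stab 100 (grp 100 HSM.E) [nat_lit 6, nat_lit 4, nat_lit 3, nat_lit 0] t_V126 3 :=
  Stab.step (k := 7) (L := (lab 100 7)) t_hn T_s36 t_V126_ok (grp_mono (List.subset_append_right [HSM.g11, HSM.g12, HSM.g13] _)) (c := (Ch.cons (nat_lit 2) [nat_lit 1, nat_lit 3] Ch.nil)) (by decide +kernel)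

theorem T_s38 : Stab 100 (grp 100 HSM.E) [nat_lit 2, nat_lit 6, nat_lit 4, nat_lit 3, nat_lit 0] t_V127 1 :=
  Stab.step (k := 7) (L := (lab 100 7)) t_hn T_s37 t_V127_ok (grp_mono (List.subset_append_right [HSM.g16, HSM.g16] _)) (c := Ch.nil) (by decide +kernel)

noncomputable def T_s38_O : ℕ := (nat_lit 0x3333266666ccccd99999333321f07c1f03e0f83e0f83e0f83ee63398c67319ce63398c673184db24d926c93649b64db26d9200000000000000000000000010000000000000000000000008000000000000000000000001000000000000000000000000400000000000000000000000004)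

theorem T_s38_F : Frame 100 (grp 100 HSM.E) 5 9 T_s38_O 1 1 :=
  IsBase.frame T_s38.isBase (by decide +kernel)

noncomputable def T_s37_O : ℕ := (nat_lit 0x1000000000000000000000000001000000000000000000000000000000001000000000000000000000000040000000000000000000000000000000008000000000000000000000000000020000100808000000000000000000002001200000000000000000042000010000000000000004000040000800000000000000000000600040000000000000000000000002a0000000000000008000010000010000000000001000000040000400000000000200000400000008000000000000000800000020400000000000000000800080020000000000008000000000010800000000000000000001100020000000004000000000000800400000008000800000000000008000000000000100000000010200000000010000000008000008000000000000200000001000100000000000000000200008004000000020000000000004000100000040010000000000000004000200000000000000000020200000000000400000000100010000000000000000020004000800000008000000000000040040000000000000000000210002000020400000000000000000100000000000000040000000808008000000000000000000200200000000000000000000000001000000000000000000000000800000000000000000000000100000000000000000000000040)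

theorem T_s37_F : Frame 100 (grp 100 HSM.E) 4 39 T_s37_O 0 1 :=
  Stab.frame t_hn T_s37 (by decide +kernel)

noncomputable def ht_c8_cnt_L : List ℕ := [1, 2, T_s1_O, 0, 0, 4, 39, T_s37_O, 0, 0, 5, 9, T_s38_O, 1, 0]

theorem ht_c8_cnt_P : Prob 100 7 (grp 100 HSM.E) ht_c8_cnt_EG [t_g121] [t_g121] ht_c8_K ht_c8_cnt_L 0 0 :=
  Sym.prob t_hn t_hk ht_c8_sym ht_c8_cnt_EG_ok (grp_cons_le HSM.g1_T (grp_cons_le HSM.g2_T (grp_cons_le HSM.g3_T (grp_cons_le HSM.g4_T (grp_cons_le HSM.g7_T (grp_cons_le HSM.g8_T (grp_cons_le HSM.g11_T (grp_cons_le HSM.g12_T (grp_cons_le HSM.g13_T (grp_cons_le HSM.g16_T (grp_nil_le _))))))))))) (Frames.cons T_s1_F (Frames.cons T_s37_F (Frames.cons T_s38_F Frames.nil))) (okE_cons.2 ⟨t_g121_ok, okE_nil _⟩) _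

noncomputable def ht_c8_cnt_t : BT := (BT.br (nat_lit 2) (nat_lit 0) [nat_lit 1, nat_lit 3] (BT.kid (nat_lit 0) (nat_lit 3) (BT.frm (nat_lit 0) (nat_lit 0) (nat_lit 0) [nat_lit 0] (BT.pln (nat_lit 0) (nat_lit 1) (BT.img (nat_lit 1) (nat_lit 0) (BT.and (nat_lit 1) (nat_lit 0) (BT.img (nat_lit 1) (nat_lit 0) (BT.dif (nat_lit 1) (nat_lit 0) (BT.img (nat_lit 1) (nat_lit 6) (BT.img (nat_lit 1) (nat_lit 0) (BT.img (nat_lit 1) (nat_lit 0) (BT.frm (nat_lit 1) (nat_lit 0xe11110910050511) (nat_lit 0xe11110910050511) [nat_lit 0, nat_lit 1, nat_lit 2, nat_lit 9] (BT.pln (nat_lit 0) (nat_lit 38) (BT.dif (nat_lit 5) (nat_lit 0) (BT.br (nat_lit 0) (nat_lit 52) [nat_lit 3] (BT.kid (nat_lit 52) (nat_lit 1) (BT.one (nat_lit 2) (nat_lit 0x130e11110910050511) (nat_lit 0x130e11110910050511) [nat_lit 0, nat_lit 4, nat_lit 5, nat_lit 6, nat_lit 13]) BT.nil)))))))))))))) BT.nil))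

theorem ht_c8_cnt : Cnt 100 (grp 100 HSM.E) [t_g121] [t_g121] 0 0 0 0 300 :=
  BT.sound ht_c8_cnt_P Known.nil (t := ht_c8_cnt_t) (d := 0) (by decide +kernel)

theorem ht_c8_ge : 300 ≤ Nat.card (grp 100 ht_c8_K) :=
  Ch.le_card_grp (k := 7) (L := (lab 100 7)) t_hn ht_c8_K_ok (c := (Ch.cons (nat_lit 0) [nat_lit 1] (Ch.cons (nat_lit 52) [nat_lit 3] Ch.nil))) (by decide +kernel)

theorem ht_c8_eq : (grp 100 HSM.E) ⊓ Subgroup.centralizer {Net.toPerm 100 t_g121} = grp 100 ht_c8_K :=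
  cent_eq ht_c8_sym ht_c8_cnt ht_c8_ge

theorem ht_c8_card : Nat.card ↥((grp 100 HSM.E) ⊓ Subgroup.centralizer {Net.toPerm 100 t_g121}) = 300 :=
  card_cent ht_c8_sym ht_c8_cnt ht_c8_ge

theorem ht_c8_ord : orderOf (Net.toPerm 100 t_g121) = 5 :=
  orderOf_net t_hn t_hk t_g121_ok (by decide) (ps := [5]) (by set_option linter.unusedSimpArgs false in simp [Nat.primeFactorsList_ofNat]) (by decide +kernel)

theorem t_le130 : grp 100 ht_c9_K ≤ grp 100 HSM.lb_E :=
  grp_le_of_memB t_hn t_hk HSM.lb_E_ok ht_c9_K_ok (ws := [nat_lit 0x13120f0a0f05050a010d, nat_lit 0xd0f120a100613020e]) (by decide +kernel)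

theorem ht_c9_le : grp 100 ht_c9_K ≤ (grp 100 HSM.E) :=
  (t_le130.trans T_s0.le)

theorem ht_c9_mem : Net.toPerm 100 t_g128 ∈ (grp 100 HSM.E) :=
  ht_c9_le (toPerm_mem_grp (E := ht_c9_K) (List.Mem.tail _ (List.Mem.head _)))

theorem ht_c9_sym : Sym 100 (grp 100 HSM.E) [t_g128] ht_c9_K 0 :=
  Sym.of_lab t_hn t_hk (okE_cons.2 ⟨t_g128_ok, okE_nil _⟩) ht_c9_K_ok ht_c9_le (kT := 0) (by decide +kernel)

noncomputable def ht_c9_cnt_L : List ℕ := [1, 2, T_s1_O, 0, 0, 2, 5, T_s13_O, 0, 0, 6, 59, T_s34_O, 0, 0, 7, 11, T_s35_O, 1, 0]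

theorem ht_c9_cnt_P : Prob 100 7 (grp 100 HSM.E) ht_c9_cnt_EG [t_g128] [t_g128] ht_c9_K ht_c9_cnt_L 0 0 :=
  Sym.prob t_hn t_hk ht_c9_sym ht_c9_cnt_EG_ok (grp_cons_le HSM.g1_T (grp_cons_le HSM.g2_T (grp_cons_le HSM.g3_T (grp_cons_le HSM.g4_T (grp_cons_le HSM.g7_T (grp_cons_le HSM.g8_T (grp_cons_le HSM.g11_T (grp_cons_le HSM.g12_T (grp_cons_le HSM.g13_T (grp_cons_le HSM.g16_T (grp_cons_le t_g114_T (grp_cons_le t_g115_T (grp_cons_le t_g113_T (grp_cons_le t_g51_T (grp_cons_le t_g52_T (grp_cons_le t_g53_T (grp_cons_le t_g54_T (grp_nil_le _)))))))))))))))))) (Frames.cons T_s1_F (Frames.cons T_s13_F (Frames.cons T_s34_F (Frames.cons T_s35_F Frames.nil)))) (okE_cons.2 ⟨t_g128_ok, okE_nil _⟩) _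

noncomputable def ht_c9_cnt_t : BT := (BT.fix (nat_lit 1) (BT.br (nat_lit 0) (nat_lit 96) [nat_lit 1] (BT.kid (nat_lit 96) (nat_lit 5) (BT.dif (nat_lit 1) (nat_lit 0) (BT.frm (nat_lit 0) (nat_lit 134659) (nat_lit 134659) [nat_lit 1] (BT.pln (nat_lit 0) (nat_lit 1) (BT.dif (nat_lit 2) (nat_lit 0) (BT.br (nat_lit 0) (nat_lit 54) [] (BT.dead (nat_lit 82) (BT.frm (nat_lit 1) (nat_lit 0x50b0a020e03) (nat_lit 0x806020e03) [nat_lit 0, nat_lit 5] (BT.pln (nat_lit 0) (nat_lit 3) (BT.dif (nat_lit 4) (nat_lit 0) (BT.dif (nat_lit 0) (nat_lit 9) (BT.br (nat_lit 0) (nat_lit 57) [nat_lit 3] (BT.dead (nat_lit 81) (BT.and (nat_lit 11) (nat_lit 3) (BT.pln (nat_lit 5) (nat_lit 4) (BT.and (nat_lit 13) (nat_lit 0) (BT.pln (nat_lit 7) (nat_lit 2) (BT.and (nat_lit 15) (nat_lit 0) (BT.frm (nat_lit 2) (nat_lit 0x151519151b1e0a0a050b0a020e03) (nat_lit 0x16191b1d09100806020e03) [nat_lit 5, nat_lit 4, nat_lit 2, nat_lit 0, nat_lit 10, nat_lit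 15] (BT.pln (nat_lit 0) (nat_lit 6) (BT.img (nat_lit 1) (nat_lit 7) (BT.and (nat_lit 1) (nat_lit 0) (BT.cnt (nat_lit 0))))))))))) BT.nil)))))) (BT.kid (nat_lit 54) (nat_lit 5) (BT.frm (nat_lit 1) (nat_lit 0x50b0a020e03) (nat_lit 0x50b0a020e03) [nat_lit 0, nat_lit 5] (BT.pln (nat_lit 0) (nat_lit 3) (BT.dif (nat_lit 4) (nat_lit 0) (BT.dif (nat_lit 0) (nat_lit 9) (BT.br (nat_lit 0) (nat_lit 57) [nat_lit 3] (BT.kid (nat_lit 57) (nat_lit 1) (BT.img (nat_lit 1) (nat_lit 0) (BT.and (nat_lit 12) (nat_lit 4) (BT.pln (nat_lit 6) (nat_lit 4) (BT.and (nat_lit 14) (nat_lit 0) (BT.pln (nat_lit 8) (nat_lit 2) (BT.and (nat_lit 16) (nat_lit 0) (BT.one (nat_lit 3) (nat_lit 0x17151519151b1e0a0a050b0a020e03) (nat_lit 0x17151519151b1e0a0a050b0a020e03) [nat_lit 5, nat_lit 6, nat_lit 4, nat_lit 2, nat_lit 0, nat_lit 11, nat_lit 16]))))))) BT.nil)))))) BT.nil))))))) BT.nil)))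

theorem ht_c9_cnt : Cnt 100 (grp 100 HSM.E) [t_g128] [t_g128] 0 0 0 0 25 :=
  BT.sound ht_c9_cnt_P Known.nil (t := ht_c9_cnt_t) (d := 0) (by decide +kernel)

theorem ht_c9_ge : 25 ≤ Nat.card (grp 100 ht_c9_K) :=
  Ch.le_card_grp (k := 7) (L := (lab 100 7)) t_hn ht_c9_K_ok (c := (Ch.cons (nat_lit 96) [nat_lit 1] (Ch.cons (nat_lit 57) [nat_lit 3] Ch.nil))) (by decide +kernel)

theorem ht_c9_eq : (grp 100 HSM.E) ⊓ Subgroup.centralizer {Net.toPerm 100 t_g128} = grp 100 ht_c9_K :=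
  cent_eq ht_c9_sym ht_c9_cnt ht_c9_ge

theorem ht_c9_card : Nat.card ↥((grp 100 HSM.E) ⊓ Subgroup.centralizer {Net.toPerm 100 t_g128}) = 25 :=
  card_cent ht_c9_sym ht_c9_cnt ht_c9_ge

theorem ht_c9_ord : orderOf (Net.toPerm 100 t_g128) = 5 :=
  orderOf_net t_hn t_hk t_g128_ok (by decide) (ps := [5]) (by set_option linter.unusedSimpArgs false in simp [Nat.primeFactorsList_ofNat]) (by decide +kernel)

theorem t_le135 : grp 100 ht_c10_K ≤ grp 100 HSM.lb_E :=
  grp_le_of_memB t_hn t_hk HSM.lb_E_ok ht_c10_K_ok (ws := [nat_lit 0x131011090e0705010809, nat_lit 0x140b14050a07010106, nat_lit 0x13120a0b05050a010302, nat_lit 0x140d09090806020c]) (by decide +kernel)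

theorem ht_c10_le : grp 100 ht_c10_K ≤ (grp 100 HSM.E) :=
  (t_le135.trans T_s0.le)

theorem ht_c10_mem : Net.toPerm 100 t_g131 ∈ (grp 100 HSM.E) :=
  ht_c10_le (toPerm_mem_grp (E := ht_c10_K) (List.Mem.head _))

theorem ht_c10_sym : Sym 100 (grp 100 HSM.E) [t_g131] ht_c10_K 0 :=
  Sym.of_lab t_hn t_hk (okE_cons.2 ⟨t_g131_ok, okE_nil _⟩) ht_c10_K_ok ht_c10_le (kT := 0) (by decide +kernel)

noncomputable def T_s30_O : ℕ := (nat_lit 0x10000000000000000000000000002000000000000000000000000000000002000000000000000000000000010000000000000000000000000000000000401000000040000000000000000000004000008000000000000000020000000008000000000000200000000000001000000000000000000080000040000000000004000000000002000000000000010000000000010000000000000000000400000400000000000000002000000002000040000000000000000000001000000000000000040000000040000400000000000000000002000081080100000000000000000c00000001200000000000000000000000a000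0048000000000001000400001000200000000000201000000002000400000002000002000000000009000000000000040010001000080000804000000000000000801000000000820000000020000080000000000000002000480004000200000000010000000020200000000000000008080100010000000800000040000000040800000040000080000000200020000000000804000000000004800000000000000000000000001000000000000000000000000800000000000000000000000021000000000000000000000000000000002000000000000000000000000000040000000000000000000800000000000000000)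

theorem T_s30_F : Frame 100 (grp 100 HSM.E) 7 39 T_s30_O 0 1 :=
  Stab.frame t_hn T_s30 (by decide +kernel)

noncomputable def ht_c10_cnt_L : List ℕ := [1, 2, T_s1_O, 0, 0, 2, 5, T_s13_O, 0, 0, 3, 7, T_s23_O, 0, 0, 5, 14, T_s28_O, 0, 0, 6, 24, T_s29_O, 0, 0, 7, 39, T_s30_O, 0, 0, 8, 12, T_s31_O, 1, 0]

theorem ht_c10_cnt_P : Prob 100 7 (grp 100 HSM.E) ht_c10_cnt_EG [t_g131] [t_g131] ht_c10_K ht_c10_cnt_L 0 0 :=
  Sym.prob t_hn t_hk ht_c10_sym ht_c10_cnt_EG_ok (grp_cons_le HSM.g1_T (grp_cons_le HSM.g2_T (grp_cons_le HSM.g3_T (grp_cons_le HSM.g4_T (grp_cons_le HSM.g7_T (grp_cons_le HSM.g8_T (grp_cons_le HSM.g11_T (grp_cons_le HSM.g12_T (grp_cons_le HSM.g13_T (grp_cons_le HSM.g16_T (grp_cons_le t_g83_T (grp_cons_le t_g84_T (grp_cons_le t_g85_T (grp_cons_le t_g82_T (grp_cons_le t_g99_T (grp_cons_le t_g100_T (grp_cons_le t_g101_T (grp_cons_le t_g102_T (grp_nil_le _))))))))))))))))))) (Frames.cons T_s1_F (Frames.cons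 T_s13_F (Frames.cons T_s23_F (Frames.cons T_s28_F (Frames.cons T_s29_F (Frames.cons T_s30_F (Frames.cons T_s31_F Frames.nil))))))) (okE_cons.2 ⟨t_g131_ok, okE_nil _⟩) _

noncomputable def ht_c10_cnt_t : BT := (BT.fix (nat_lit 257) (BT.br (nat_lit 0) (nat_lit 89) [nat_lit 3, nat_lit 7] (BT.dead (nat_lit 84) (BT.frm (nat_lit 0) (nat_lit 2) (nat_lit 66819) [nat_lit 0] (BT.pln (nat_lit 0) (nat_lit 1) (BT.img (nat_lit 1) (nat_lit 2) (BT.and (nat_lit 1) (nat_lit 0) (BT.cnt (nat_lit 0)))))) (BT.kid (nat_lit 89) (nat_lit 6) (BT.img (nat_lit 1) (nat_lit 0) (BT.frm (nat_lit 1) (nat_lit 1538) (nat_lit 1538) [nat_lit 0, nat_lit 1] (BT.pln (nat_lit 0) (nat_lit 4) (BT.br (nat_lit 0) (nat_lit 97) [nat_lit 5] (BT.dead (nat_lit 2) (BT.img (nat_lit 1) (nat_lit 0) (BT.img (nat_lit 1) (nat_lit 0) (BT.img (nat_lit 1) (nat_lit 0) (BT.frm (nat_lit 4) (nat_lit 0x1d1b0b0f0602) (nat_lit 0x1d190b090602) [nat_lit 0, nat_lit 1, nat_lit 2, nat_lit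 3, nat_lit 6, nat_lit 7] (BT.pln (nat_lit 0) (nat_lit 7) (BT.frm (nat_lit 2) (nat_lit 0xb0f0602) (nat_lit 0xb090602) [nat_lit 5, nat_lit 8, nat_lit 9] (BT.pln (nat_lit 0) (nat_lit 3) (BT.img (nat_lit 1) (nat_lit 0) (BT.and (nat_lit 1) (nat_lit 0) (BT.img (nat_lit 1) (nat_lit 0) (BT.img (nat_lit 1) (nat_lit 0) (BT.img (nat_lit 1) (nat_lit 0) (BT.img (nat_lit 1) (nat_lit 0) (BT.img (nat_lit 1) (nat_lit 0) (BT.and (nat_lit 9) (nat_lit 0) (BT.cnt (nat_lit 0))))))))))))))))) (BT.kid (nat_lit 97) (nat_lit 2) (BT.frm (nat_lit 2) (nat_lit 0xb0f0602) (nat_lit 0xb0f0602) [nat_lit 0, nat_lit 3, nat_lit 4] (BT.pln (nat_lit 0) (nat_lit 3) (BT.img (nat_lit 1) (nat_lit 0) (BT.and (nat_lit 1) (nat_lit 0) (BT.img (nat_lit 1) (nat_lit 0) (BT.img (nat_lit 1) (nat_lit 0) (BT.img (nat_lit 1) (nat_lit 0) (BT.br (nat_lit 0) (nat_lit 23) [nat_lit 7] (BT.dead (nat_lit 55) (BT.img (nat_lit 1) (nat_lit 8) (BT.img (nat_lit 1) (nat_lit 0) (BT.img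 (nat_lit 1) (nat_lit 0) (BT.frm (nat_lit 5) (nat_lit 0x1d1b0b0f0602) (nat_lit 0x171d1b0b0f0602) [nat_lit 3, nat_lit 0, nat_lit 1, nat_lit 2, nat_lit 11, nat_lit 14, nat_lit 15] (BT.pln (nat_lit 0) (nat_lit 9) (BT.and (nat_lit 0) (nat_lit 18) (BT.cnt (nat_lit 0)))))))) (BT.kid (nat_lit 23) (nat_lit 1) (BT.img (nat_lit 1) (nat_lit 8) (BT.img (nat_lit 1) (nat_lit 0) (BT.img (nat_lit 1) (nat_lit 0) (BT.frm (nat_lit 4) (nat_lit 0x1d1b0b0f0602) (nat_lit 0x1d1b0b0f0602) [nat_lit 0, nat_lit 1, nat_lit 2, nat_lit 11, nat_lit 14, nat_lit 15] (BT.pln (nat_lit 0) (nat_lit 21) (BT.frm (nat_lit 3) (nat_lit 0x1b0b0f0602) (nat_lit 0x1b0b0f0602) [nat_lit 3, nat_lit 4, nat_lit 13, nat_lit 16, nat_lit 17] (BT.pln (nat_lit 0) (nat_lit 12) (BT.frm (nat_lit 5) (nat_lit 0x1d1b0b0f0602) (nat_lit 0x1d1b0b0f0602) [nat_lit 7, nat_lit 4, nat_lit 5, nat_lit 6, nat_lit 15, nat_lit 18, nat_lit 19] (BT.pln (nat_lit 0) (nat_lit 24) (BT.and (nat_lit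 2) (nat_lit 0) (BT.pln (nat_lit 2) (nat_lit 25) (BT.img (nat_lit 1) (nat_lit 0) (BT.and (nat_lit 2) (nat_lit 0) (BT.img (nat_lit 1) (nat_lit 0) (BT.and (nat_lit 19) (nat_lit 0) (BT.img (nat_lit 1) (nat_lit 0) (BT.and (nat_lit 11) (nat_lit 0) (BT.one (nat_lit 6) (nat_lit 0x21231d1b0b0f0602) (nat_lit 0x21231d1b0b0f0602) [nat_lit 0, nat_lit 17, nat_lit 14, nat_lit 15, nat_lit 16, nat_lit 25, nat_lit 28, nat_lit 29])))))))))))))))))) BT.nil)))))))))) BT.nil)))))) BT.nil))))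

theorem ht_c10_cnt : Cnt 100 (grp 100 HSM.E) [t_g131] [t_g131] 0 0 0 0 36 :=
  BT.sound ht_c10_cnt_P Known.nil (t := ht_c10_cnt_t) (d := 0) (by decide +kernel)

theorem ht_c10_ge : 36 ≤ Nat.card (grp 100 ht_c10_K) :=
  Ch.le_card_grp (k := 7) (L := (lab 100 7)) t_hn ht_c10_K_ok (c := (Ch.cons (nat_lit 89) [nat_lit 1, nat_lit 3] (Ch.cons (nat_lit 97) [nat_lit 5] (Ch.cons (nat_lit 23) [nat_lit 7] Ch.nil)))) (by decide +kernel)

theorem ht_c10_eq : (grp 100 HSM.E) ⊓ Subgroup.centralizer {Net.toPerm 100 t_g131} = grp 100 ht_c10_K :=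
  cent_eq ht_c10_sym ht_c10_cnt ht_c10_ge

theorem ht_c10_card : Nat.card ↥((grp 100 HSM.E) ⊓ Subgroup.centralizer {Net.toPerm 100 t_g131}) = 36 :=
  card_cent ht_c10_sym ht_c10_cnt ht_c10_ge

theorem ht_c10_ord : orderOf (Net.toPerm 100 t_g131) = 6 :=
  orderOf_net t_hn t_hk t_g131_ok (by decide) (ps := [2, 3]) (by set_option linter.unusedSimpArgs false in simp [Nat.primeFactorsList_ofNat]) (by decide +kernel)

theorem t_le139 : grp 100 ht_c11_K ≤ grp 100 HSM.lb_E :=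
  grp_le_of_memB t_hn t_hk HSM.lb_E_ok ht_c11_K_ok (ws := [nat_lit 0x13120e0a0a0f080105, nat_lit 0x130e0c0906060310, nat_lit 0x140e130a0b0505090310]) (by decide +kernel)

theorem ht_c11_le : grp 100 ht_c11_K ≤ (grp 100 HSM.E) :=
  (t_le139.trans T_s0.le)

theorem ht_c11_mem : Net.toPerm 100 t_g136 ∈ (grp 100 HSM.E) :=
  ht_c11_le (toPerm_mem_grp (E := ht_c11_K) (List.Mem.tail _ (List.Mem.head _)))

theorem ht_c11_sym : Sym 100 (grp 100 HSM.E) [t_g136] ht_c11_K 0 :=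
  Sym.of_lab t_hn t_hk (okE_cons.2 ⟨t_g136_ok, okE_nil _⟩) ht_c11_K_ok ht_c11_le (kT := 0) (by decide +kernel)

noncomputable def T_s14_O : ℕ := (nat_lit 0x20100040001000100080000010100000200040000000000060000000240001808210181000804201000004202048c0548006000004193000202140020240000000000000000000000000100000000000000000000000080000800000000000000000000)

theorem T_s14_F : Frame 100 (grp 100 HSM.E) 3 8 T_s14_O 0 1 :=
  Stab.frame t_hn T_s14 (by decide +kernel)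

noncomputable def ht_c11_cnt_L : List ℕ := [1, 2, T_s1_O, 0, 0, 2, 5, T_s13_O, 0, 0, 3, 8, T_s14_O, 0, 0, 4, 16, T_s19_O, 0, 0, 6, 39, T_s21_O, 0, 0, 7, 11, T_s22_O, 1, 0]

theorem ht_c11_cnt_P : Prob 100 7 (grp 100 HSM.E) ht_c11_cnt_EG [t_g136] [t_g136] ht_c11_K ht_c11_cnt_L 0 0 :=
  Sym.prob t_hn t_hk ht_c11_sym ht_c11_cnt_EG_ok (grp_cons_le HSM.g1_T (grp_cons_le HSM.g2_T (grp_cons_le HSM.g3_T (grp_cons_le HSM.g4_T (grp_cons_le HSM.g7_T (grp_cons_le HSM.g8_T (grp_cons_le HSM.g11_T (grp_cons_le HSM.g12_T (grp_cons_le HSM.g13_T (grp_cons_le HSM.g16_T (grp_cons_le t_g51_T (grp_cons_le t_g52_T (grp_cons_le t_g53_T (grp_cons_le t_g54_T (grp_cons_le t_g68_T (grp_cons_le t_g69_T (grp_cons_le t_g67_T (grp_nil_le _)))))))))))))))))) (Frames.cons T_s1_F (Frames.cons T_s13_F (Frames.cons T_s14_F (Frames.cons T_s19_F (Frames.cons T_s21_F (Frames.cons T_s22_F Frames.nil)))))) (okE_cons.2 ⟨t_g136_ok, okE_nil _⟩) _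

noncomputable def ht_c11_cnt_t : BT := (BT.fix (nat_lit 1) (BT.br (nat_lit 0) (nat_lit 65) [nat_lit 1] (BT.kid (nat_lit 65) (nat_lit 12) (BT.dif (nat_lit 1) (nat_lit 0) (BT.frm (nat_lit 1) (nat_lit 0x50e020c02) (nat_lit 0x50e020c02) [nat_lit 0, nat_lit 1] (BT.pln (nat_lit 0) (nat_lit 2) (BT.fix (nat_lit 257) (BT.dif (nat_lit 1) (nat_lit 0) (BT.br (nat_lit 0) (nat_lit 14) [nat_lit 3, nat_lit 5] (BT.kid (nat_lit 14) (nat_lit 1) (BT.frm (nat_lit 0) (nat_lit 134146) (nat_lit 134146) [nat_lit 6] (BT.pln (nat_lit 0) (nat_lit 1) (BT.dif (nat_lit 12) (nat_lit 0) (BT.fix (nat_lit 65793) (BT.dif (nat_lit 1) (nat_lit 0) (BT.dif (nat_lit 0) (nat_lit 8) (BT.frm (nat_lit 2) (nat_lit 0x90f050e020c02) (nat_lit 0x90f050e020c02) [nat_lit 6, nat_lit 11, nat_lit 12] (BT.pln (nat_lit 0) (nat_lit 3) (BT.dif (nat_lit 2) (nat_lit 0) (BT.img (nat_lit 1) (nat_lit 9) (BT.frm (nat_lit 3) (nat_lit 0x18090f050e020c02) (nat_lit 0x18090f050e020c02)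 [nat_lit 0, nat_lit 10, nat_lit 15, nat_lit 16] (BT.pln (nat_lit 0) (nat_lit 5) (BT.dif (nat_lit 3) (nat_lit 0) (BT.pln (nat_lit 2) (nat_lit 10) (BT.dif (nat_lit 1) (nat_lit 0) (BT.pln (nat_lit 4) (nat_lit 14) (BT.dif (nat_lit 1) (nat_lit 0) (BT.pln (nat_lit 10) (nat_lit 7) (BT.and (nat_lit 20) (nat_lit 0) (BT.pln (nat_lit 8) (nat_lit 15) (BT.and (nat_lit 18) (nat_lit 0) (BT.and (nat_lit 19) (nat_lit 3) (BT.dif (nat_lit 0) (nat_lit 24) (BT.pln (nat_lit 16) (nat_lit 5) (BT.and (nat_lit 22) (nat_lit 0) (BT.dif (nat_lit 0) (nat_lit 27) (BT.img (nat_lit 1) (nat_lit 3) (BT.dif (nat_lit 1) (nat_lit 0) (BT.and (nat_lit 2) (nat_lit 1) (BT.img (nat_lit 1) (nat_lit 0) (BT.dif (nat_lit 2) (nat_lit 0) (BT.img (nat_lit 1) (nat_lit 0) (BT.and (nat_lit 9) (nat_lit 0) (BT.img (nat_lit 1) (nat_lit 0) (BT.and (nat_lit 13) (nat_lit 0) (BT.frm (nat_lit 4) (nat_lit 0x1d18090f050e020c02) (nat_lit 0x1d18090f050e020c02) [nat_lit 16, nat_lit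 0, nat_lit 25, nat_lit 35, nat_lit 40, nat_lit 41] (BT.pln (nat_lit 0) (nat_lit 29) (BT.and (nat_lit 20) (nat_lit 0) (BT.pln (nat_lit 2) (nat_lit 6) (BT.and (nat_lit 22) (nat_lit 0) (BT.dif (nat_lit 32) (nat_lit 36) (BT.img (nat_lit 1) (nat_lit 0) (BT.and (nat_lit 39) (nat_lit 0) (BT.dif (nat_lit 0) (nat_lit 35) (BT.and (nat_lit 36) (nat_lit 2) (BT.img (nat_lit 1) (nat_lit 0) (BT.dif (nat_lit 2) (nat_lit 0) (BT.img (nat_lit 1) (nat_lit 0) (BT.and (nat_lit 7) (nat_lit 0) (BT.img (nat_lit 1) (nat_lit 0) (BT.and (nat_lit 6) (nat_lit 0) (BT.img (nat_lit 1) (nat_lit 0) (BT.and (nat_lit 12) (nat_lit 0) (BT.img (nat_lit 1) (nat_lit 0) (BT.and (nat_lit 16) (nat_lit 0) (BT.one (nat_lit 5) (nat_lit 0x201d18090f050e020c02) (nat_lit 0x201d18090f050e020c02) [nat_lit 0, nat_lit 36, nat_lit 20, nat_lit 45, nat_lit 55, nat_lit 60, nat_lit 61])))))))))))))))))))))))))))))))))))))))))))))))))))))))) BT.nil))))))) BT.nil)))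

theorem ht_c11_cnt : Cnt 100 (grp 100 HSM.E) [t_g136] [t_g136] 0 0 0 0 24 :=
  BT.sound ht_c11_cnt_P Known.nil (t := ht_c11_cnt_t) (d := 0) (by decide +kernel)

theorem ht_c11_ge : 24 ≤ Nat.card (grp 100 ht_c11_K) :=
  Ch.le_card_grp (k := 7) (L := (lab 100 7)) t_hn ht_c11_K_ok (c := (Ch.cons (nat_lit 65) [nat_lit 1] (Ch.cons (nat_lit 14) [nat_lit 3, nat_lit 5] Ch.nil))) (by decide +kernel)

theorem ht_c11_eq : (grp 100 HSM.E) ⊓ Subgroup.centralizer {Net.toPerm 100 t_g136} = grp 100 ht_c11_K :=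
  cent_eq ht_c11_sym ht_c11_cnt ht_c11_ge

theorem ht_c11_card : Nat.card ↥((grp 100 HSM.E) ⊓ Subgroup.centralizer {Net.toPerm 100 t_g136}) = 24 :=
  card_cent ht_c11_sym ht_c11_cnt ht_c11_ge

theorem ht_c11_ord : orderOf (Net.toPerm 100 t_g136) = 6 :=
  orderOf_net t_hn t_hk t_g136_ok (by decide) (ps := [2, 3]) (by set_option linter.unusedSimpArgs false in simp [Nat.primeFactorsList_ofNat]) (by decide +kernel)

theorem t_le141 : grp 100 ht_c12_K ≤ grp 100 HSM.lb_E :=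
  grp_le_of_memB t_hn t_hk HSM.lb_E_ok ht_c12_K_ok (ws := [nat_lit 0xd0d0a0c0c08060110]) (by decide +kernel)

theorem ht_c12_le : grp 100 ht_c12_K ≤ (grp 100 HSM.E) :=
  (t_le141.trans T_s0.le)

theorem ht_c12_mem : Net.toPerm 100 t_g140 ∈ (grp 100 HSM.E) :=
  ht_c12_le (toPerm_mem_grp (E := ht_c12_K) (List.Mem.head _))

theorem ht_c12_sym : Sym 100 (grp 100 HSM.E) [t_g140] ht_c12_K 0 :=
  Sym.of_lab t_hn t_hk (okE_cons.2 ⟨t_g140_ok, okE_nil _⟩) ht_c12_K_ok ht_c12_le (kT := 0) (by decide +kernel)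

theorem t_le145 : grp 100 t_V144 ≤ grp 100 t_V22 :=
  grp_le_of_memB t_hn t_hk t_V22_ok t_V144_ok (ws := [nat_lit 0xd040104, nat_lit 0xb0d03050104]) (by decide +kernel)

theorem T_s39 : Stab 100 (grp 100 HSM.E) [nat_lit 10, nat_lit 28, nat_lit 48, nat_lit 0] t_V144 24 :=
  Stab.step (k := 7) (L := (lab 100 7)) t_hn T_s3 t_V144_ok t_le145 (c := (Ch.cons (nat_lit 13) [nat_lit 1, nat_lit 3] Ch.nil)) (by decide +kernel)

theorem T_s40 : Stab 100 (grp 100 HSM.E) [nat_lit 13, nat_lit 10, nat_lit 28, nat_lit 48, nat_lit 0] t_V146 1 :=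
  Stab.step (k := 7) (L := (lab 100 7)) t_hn T_s39 t_V146_ok (grp_mono (List.subset_append_right [t_g142, t_g143] _)) (c := Ch.nil) (by decide +kernel)

theorem t_g142_T : Net.toPerm 100 t_g142 ∈ (grp 100 HSM.E) :=
  T_s39.le (toPerm_mem_grp (E := t_V144) (List.Mem.head _))

theorem t_g143_T : Net.toPerm 100 t_g143 ∈ (grp 100 HSM.E) :=
  T_s39.le (toPerm_mem_grp (E := t_V144) (List.Mem.tail _ (List.Mem.head _)))

noncomputable def T_s40_O : ℕ := (nat_lit 0x3333266666ccccd99999333321f07c1f03e0f83e0f83e0f83ee63398c67319ce63398c673184db24d926c93649b64db26d9200000000000000000000000010000000000001000000000000000000000000000001000000000000000000000000000004000000000000000000000002000)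

theorem T_s40_F : Frame 100 (grp 100 HSM.E) 5 9 T_s40_O 1 1 :=
  IsBase.frame T_s40.isBase (by decide +kernel)

noncomputable def T_s2_O : ℕ := (nat_lit 0x14018098304248054b240000121100066001480921098100600000000000000000000000010000000000001000000000000)

theorem T_s2_F : Frame 100 (grp 100 HSM.E) 2 4 T_s2_O 0 1 :=
  Stab.frame t_hn T_s2 (by decide +kernel)

noncomputable def ht_c12_cnt_L : List ℕ := [1, 2, T_s1_O, 0, 0, 2, 4, T_s2_O, 0, 0, 3, 7, T_s3_O, 0, 0, 5, 9, T_s40_O, 1, 0]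

theorem ht_c12_cnt_P : Prob 100 7 (grp 100 HSM.E) ht_c12_cnt_EG [t_g140] [t_g140] ht_c12_K ht_c12_cnt_L 0 0 :=
  Sym.prob t_hn t_hk ht_c12_sym ht_c12_cnt_EG_ok (grp_cons_le HSM.g1_T (grp_cons_le HSM.g2_T (grp_cons_le HSM.g3_T (grp_cons_le HSM.g4_T (grp_cons_le HSM.g7_T (grp_cons_le HSM.g8_T (grp_cons_le HSM.g11_T (grp_cons_le HSM.g12_T (grp_cons_le HSM.g13_T (grp_cons_le HSM.g16_T (grp_cons_le t_g12_T (grp_cons_le t_g13_T (grp_cons_le t_g14_T (grp_cons_le t_g15_T (grp_cons_le t_g16_T (grp_cons_le t_g17_T (grp_cons_le t_g18_T (grp_cons_le t_g19_T (grp_cons_le t_g142_T (grp_cons_le t_g143_T (grp_nil_le _))))))))))))))))))))) (Frames.cons T_s1_F (Frames.cons T_s2_F (Frames.cons T_s3_F (Frames.cons T_s40_F Frames.nil)))) (okE_cons.2 ⟨t_g140_ok, okE_nil _⟩) _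

noncomputable def ht_c12_cnt_t : BT := (BT.fix (nat_lit 1) (BT.br (nat_lit 0) (nat_lit 90) [] (BT.dead (nat_lit 72) (BT.frm (nat_lit 0) (nat_lit 68098) (nat_lit 265) [nat_lit 0] (BT.pln (nat_lit 0) (nat_lit 1) (BT.dif (nat_lit 0) (nat_lit 3) (BT.br (nat_lit 0) (nat_lit 12) [nat_lit 1] (BT.dead (nat_lit 65) (BT.dif (nat_lit 5) (nat_lit 4) (BT.frm (nat_lit 2) (nat_lit 0x151b1d050d010a02) (nat_lit 0x15151906080109) [nat_lit 1, nat_lit 0, nat_lit 5] (BT.pln (nat_lit 0) (nat_lit 6) (BT.frm (nat_lit 1) (nat_lit 0x50d010a02) (nat_lit 0x6080109) [nat_lit 2, nat_lit 7] (BT.pln (nat_lit 0) (nat_lit 3) (BT.img (nat_lit 1) (nat_lit 2) (BT.and (nat_lit 1) (nat_lit 0) (BT.pln (nat_lit 5) (nat_lit 5) (BT.and (nat_lit 1) (nat_lit 0) (BT.img (nat_lit 1) (nat_lit 0) (BT.and (nat_lit 5) (nat_lit 0) (BT.and (nat_lit 0) (nat_lit 3) (BT.img (nat_lit 1) (nat_lit 0) (BT.and (nat_lit 8) (nat_lit 0) (BT.img (nat_lit 1) (nat_lit 0) (BT.and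 (nat_lit 12) (nat_lit 0) (BT.img (nat_lit 1) (nat_lit 0) (BT.and (nat_lit 0) (nat_lit 9) (BT.cnt (nat_lit 0)))))))))))))))))))) (BT.dead (nat_lit 26) (BT.dif (nat_lit 5) (nat_lit 4) (BT.frm (nat_lit 2) (nat_lit 0x151b1d050d010a02) (nat_lit 0x151506080109) [nat_lit 1, nat_lit 0, nat_lit 5] (BT.pln (nat_lit 0) (nat_lit 6) (BT.frm (nat_lit 1) (nat_lit 0x50d010a02) (nat_lit 0x6080109) [nat_lit 2, nat_lit 7] (BT.pln (nat_lit 0) (nat_lit 3) (BT.img (nat_lit 1) (nat_lit 2) (BT.and (nat_lit 1) (nat_lit 0) (BT.pln (nat_lit 5) (nat_lit 5) (BT.and (nat_lit 1) (nat_lit 0) (BT.img (nat_lit 1) (nat_lit 0) (BT.and (nat_lit 5) (nat_lit 0) (BT.and (nat_lit 0) (nat_lit 3) (BT.img (nat_lit 1) (nat_lit 0) (BT.and (nat_lit 8) (nat_lit 0) (BT.img (nat_lit 1) (nat_lit 0) (BT.and (nat_lit 12) (nat_lit 0) (BT.img (nat_lit 1) (nat_lit 0) (BT.and (nat_lit 0) (nat_lit 9) (BT.cnt (nat_lit 0)))))))))))))))))))) (BT.dead (nat_lit 95) (BT.dif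 (nat_lit 5) (nat_lit 4) (BT.frm (nat_lit 2) (nat_lit 0x151b1d050d010a02) (nat_lit 0x161d06080109) [nat_lit 1, nat_lit 0, nat_lit 5] (BT.pln (nat_lit 0) (nat_lit 6) (BT.frm (nat_lit 1) (nat_lit 0x50d010a02) (nat_lit 0x6080109) [nat_lit 2, nat_lit 7] (BT.pln (nat_lit 0) (nat_lit 3) (BT.img (nat_lit 1) (nat_lit 2) (BT.and (nat_lit 1) (nat_lit 0) (BT.pln (nat_lit 5) (nat_lit 5) (BT.and (nat_lit 1) (nat_lit 0) (BT.img (nat_lit 1) (nat_lit 0) (BT.and (nat_lit 5) (nat_lit 0) (BT.and (nat_lit 0) (nat_lit 3) (BT.img (nat_lit 1) (nat_lit 0) (BT.and (nat_lit 8) (nat_lit 0) (BT.img (nat_lit 1) (nat_lit 0) (BT.and (nat_lit 12) (nat_lit 0) (BT.img (nat_lit 1) (nat_lit 0) (BT.and (nat_lit 0) (nat_lit 9) (BT.cnt (nat_lit 0)))))))))))))))))))) BT.nil))))))) (BT.kid (nat_lit 90) (nat_lit 7) (BT.frm (nat_lit 0) (nat_lit 68098) (nat_lit 68098) [nat_lit 0] (BT.pln (nat_lit 0) (nat_lit 1) (BT.dif (nat_lit 0) (nat_lit 3) (BT.br (nat_lit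 0) (nat_lit 12) [nat_lit 1] (BT.dead (nat_lit 3) (BT.dif (nat_lit 8) (nat_lit 2) (BT.dif (nat_lit 6) (nat_lit 5) (BT.frm (nat_lit 2) (nat_lit 0x151b1d050d010a02) (nat_lit 0x1619050d010a02) [nat_lit 2, nat_lit 0, nat_lit 6] (BT.pln (nat_lit 0) (nat_lit 4) (BT.img (nat_lit 1) (nat_lit 0) (BT.and (nat_lit 1) (nat_lit 0) (BT.img (nat_lit 1) (nat_lit 0) (BT.and (nat_lit 2) (nat_lit 0) (BT.dif (nat_lit 0) (nat_lit 4) (BT.img (nat_lit 1) (nat_lit 0) (BT.and (nat_lit 6) (nat_lit 0) (BT.img (nat_lit 1) (nat_lit 0) (BT.and (nat_lit 7) (nat_lit 0) (BT.img (nat_lit 1) (nat_lit 0) (BT.and (nat_lit 13) (nat_lit 0) (BT.img (nat_lit 1) (nat_lit 0) (BT.and (nat_lit 15) (nat_lit 0) (BT.and (nat_lit 13) (nat_lit 10) (BT.img (nat_lit 1) (nat_lit 0) (BT.and (nat_lit 14) (nat_lit 0) (BT.frm (nat_lit 3) (nat_lit 0x252725191f151b1d050d010a02) (nat_lit 0x2628261619050d010a02) [nat_lit 3, nat_lit 0, nat_lit 20, nat_lit 18, nat_lit 24] (BT.pln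 (nat_lit 0) (nat_lit 5) (BT.img (nat_lit 1) (nat_lit 22) (BT.and (nat_lit 1) (nat_lit 0) (BT.cnt (nat_lit 0)))))))))))))))))))))))))) (BT.dead (nat_lit 42) (BT.dif (nat_lit 8) (nat_lit 2) (BT.dif (nat_lit 6) (nat_lit 5) (BT.frm (nat_lit 2) (nat_lit 0x151b1d050d010a02) (nat_lit 0x151b050d010a02) [nat_lit 2, nat_lit 0, nat_lit 6] (BT.pln (nat_lit 0) (nat_lit 4) (BT.img (nat_lit 1) (nat_lit 0) (BT.and (nat_lit 1) (nat_lit 0) (BT.img (nat_lit 1) (nat_lit 0) (BT.and (nat_lit 2) (nat_lit 0) (BT.dif (nat_lit 0) (nat_lit 4) (BT.img (nat_lit 1) (nat_lit 0) (BT.and (nat_lit 9) (nat_lit 0) (BT.dif (nat_lit 0) (nat_lit 7) (BT.img (nat_lit 1) (nat_lit 0) (BT.and (nat_lit 0) (nat_lit 9) (BT.cnt (nat_lit 0)))))))))))))))) (BT.kid (nat_lit 12) (nat_lit 1) (BT.dif (nat_lit 8) (nat_lit 2) (BT.dif (nat_lit 6) (nat_lit 5) (BT.frm (nat_lit 2) (nat_lit 0x151b1d050d010a02) (nat_lit 0x151b1d050d010a02) [nat_lit 2, nat_lit 0, nat_lit 6]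 (BT.pln (nat_lit 0) (nat_lit 4) (BT.img (nat_lit 1) (nat_lit 0) (BT.and (nat_lit 1) (nat_lit 0) (BT.img (nat_lit 1) (nat_lit 0) (BT.and (nat_lit 2) (nat_lit 0) (BT.dif (nat_lit 0) (nat_lit 4) (BT.img (nat_lit 1) (nat_lit 0) (BT.and (nat_lit 6) (nat_lit 0) (BT.img (nat_lit 1) (nat_lit 0) (BT.and (nat_lit 7) (nat_lit 0) (BT.img (nat_lit 1) (nat_lit 0) (BT.and (nat_lit 13) (nat_lit 0) (BT.img (nat_lit 1) (nat_lit 0) (BT.and (nat_lit 15) (nat_lit 0) (BT.and (nat_lit 13) (nat_lit 10) (BT.img (nat_lit 1) (nat_lit 0) (BT.and (nat_lit 14) (nat_lit 0) (BT.one (nat_lit 3) (nat_lit 0x252725191f151b1d050d010a02) (nat_lit 0x252725191f151b1d050d010a02) [nat_lit 3, nat_lit 0, nat_lit 20, nat_lit 18, nat_lit 24]))))))))))))))))))))) BT.nil))))))) BT.nil))))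

theorem ht_c12_cnt : Cnt 100 (grp 100 HSM.E) [t_g140] [t_g140] 0 0 0 0 7 :=
  BT.sound ht_c12_cnt_P Known.nil (t := ht_c12_cnt_t) (d := 0) (by decide +kernel)

theorem ht_c12_ge : 7 ≤ Nat.card (grp 100 ht_c12_K) :=
  Ch.le_card_grp (k := 7) (L := (lab 100 7)) t_hn ht_c12_K_ok (c := (Ch.cons (nat_lit 12) [nat_lit 1] Ch.nil)) (by decide +kernel)

theorem ht_c12_eq : (grp 100 HSM.E) ⊓ Subgroup.centralizer {Net.toPerm 100 t_g140} = grp 100 ht_c12_K :=
  cent_eq ht_c12_sym ht_c12_cnt ht_c12_ge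

theorem ht_c12_card : Nat.card ↥((grp 100 HSM.E) ⊓ Subgroup.centralizer {Net.toPerm 100 t_g140}) = 7 :=
  card_cent ht_c12_sym ht_c12_cnt ht_c12_ge

theorem ht_c12_ord : orderOf (Net.toPerm 100 t_g140) = 7 :=
  orderOf_net t_hn t_hk t_g140_ok (by decide) (ps := [7]) (by set_option linter.unusedSimpArgs false in simp [Nat.primeFactorsList_ofNat]) (by decide +kernel)

theorem t_le150 : grp 100 ht_c13_K ≤ grp 100 HSM.lb_E :=
  grp_le_of_memB t_hn t_hk HSM.lb_E_ok ht_c13_K_ok (ws := [nat_lit 0xd10090f0f05070a01010306, nat_lit 0xd0a0c060f011002, nat_lit 0x130e1309130b050a0804, nat_lit 0xd0d11090c05050a010d06]) (by decide +kernel)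

theorem ht_c13_le : grp 100 ht_c13_K ≤ (grp 100 HSM.E) :=
  (t_le150.trans T_s0.le)

theorem ht_c13_mem : Net.toPerm 100 t_g147 ∈ (grp 100 HSM.E) :=
  ht_c13_le (toPerm_mem_grp (E := ht_c13_K) (List.Mem.head _))

theorem ht_c13_sym : Sym 100 (grp 100 HSM.E) [t_g147] ht_c13_K 0 :=
  Sym.of_lab t_hn t_hk (okE_cons.2 ⟨t_g147_ok, okE_nil _⟩) ht_c13_K_ok ht_c13_le (kT := 0) (by decide +kernel)

theorem t_le154 : grp 100 t_V153 ≤ grp 100 t_V103 :=
  grp_le_of_memB t_hn t_hk t_V103_ok t_V153_ok (ws := [nat_lit 591105, nat_lit 3, nat_lit 1795]) (by decide +kernel)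

theorem T_s41 : Stab 100 (grp 100 HSM.E) [nat_lit 6, nat_lit 65, nat_lit 96, nat_lit 1, nat_lit 3, nat_lit 0] t_V153 12 :=
  Stab.step (k := 7) (L := (lab 100 7)) t_hn T_s28 t_V153_ok t_le154 (c := (Ch.cons (nat_lit 88) [nat_lit 1] (Ch.cons (nat_lit 73) [nat_lit 3] (Ch.cons (nat_lit 58) [nat_lit 5] Ch.nil)))) (by decide +kernel)

theorem T_s42 : Stab 100 (grp 100 HSM.E) [nat_lit 88, nat_lit 6, nat_lit 65, nat_lit 96, nat_lit 1, nat_lit 3, nat_lit 0] t_V155 4 :=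
  Stab.step (k := 7) (L := (lab 100 7)) t_hn T_s41 t_V155_ok (grp_mono (List.subset_append_right [t_g151] _)) (c := (Ch.cons (nat_lit 73) [nat_lit 1] (Ch.cons (nat_lit 58) [nat_lit 3] Ch.nil))) (by decide +kernel)

theorem T_s43 : Stab 100 (grp 100 HSM.E) [nat_lit 73, nat_lit 88, nat_lit 6, nat_lit 65, nat_lit 96, nat_lit 1, nat_lit 3, nat_lit 0] t_V156 2 :=
  Stab.step (k := 7) (L := (lab 100 7)) t_hn T_s42 t_V156_ok (grp_mono (List.subset_append_right [t_g100] _)) (c := (Ch.cons (nat_lit 58) [nat_lit 1] Ch.nil)) (by decide +kernel)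

theorem T_s44 : Stab 100 (grp 100 HSM.E) [nat_lit 58, nat_lit 73, nat_lit 88, nat_lit 6, nat_lit 65, nat_lit 96, nat_lit 1, nat_lit 3, nat_lit 0] t_V157 1 :=
  Stab.step (k := 7) (L := (lab 100 7)) t_hn T_s43 t_V157_ok (grp_mono (List.subset_append_right [t_g152] _)) (c := Ch.nil) (by decide +kernel)

theorem t_g151_T : Net.toPerm 100 t_g151 ∈ (grp 100 HSM.E) :=
  T_s41.le (toPerm_mem_grp (E := t_V153) (List.Mem.head _))

theorem t_g152_T : Net.toPerm 100 t_g152 ∈ (grp 100 HSM.E) :=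
  T_s41.le (toPerm_mem_grp (E := t_V153) (List.Mem.tail _ (List.Mem.tail _ (List.Mem.head _))))

noncomputable def T_s44_O : ℕ := (nat_lit 0x3333266666ccccd99999333321f07c1f03e0f83e0f83e0f83ee63398c67319ce63398c673184db24d926c93649b64db26d92000000000000000000000000100000000000000000000000080000000000000000000000002100000000000000000000000000000000200000000000000000000000000000000000000040001000000000000000000000000000020000000000000000000000000000400000000000000)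

theorem T_s44_F : Frame 100 (grp 100 HSM.E) 9 13 T_s44_O 1 1 :=
  IsBase.frame T_s44.isBase (by decide +kernel)

noncomputable def T_s43_O : ℕ := (nat_lit 0x1000000000000000000000000008000000000000000000000000010000000000000000000000000800000000000000000000000008000000000000000000000000001000000000000000000000000040000000000000000000000000004000000000000000000000000004000000000000000000000000020000000000000000000000000000008000000000000000000000000000400200400000000000000000004000001000000000000000000000100020000000000000000004000000010000000000000000000000080400000000000000080000000020000000000000000040000000800000000000008000000000040000000000000000000400000800000000000002000000000010000000000000000000000010800000000000000002000000020000000000000000001000001000000000000000000000020080000000000000000000000202000000000000000008000000100000000000000000002000004000000000000000000000000900000000000000000080000008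000000000000010000000000400000000000200000000000008000000000000000000000001200000000000800000000000008000000000040000000000000200000000000004000000000008000000000000000000400000400000000000000010000000020000000000000000000002001000000000000000000000010080000004000000000000000004000000002000000000000000200000000000000000000004004000200000000000000000000200000000000400000000000010000000000000000000000010800000000000080000000000020000000000000000000010001000000000000000000000000480000000000000000004000002000000000000000000000000010000000000000000000000008000000000000000000000000210000000000000000000000000000000020000000000000000000000000000000000000004000100000000000000000000000000002000000000000000000)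

theorem T_s43_F : Frame 100 (grp 100 HSM.E) 8 59 T_s43_O 0 1 :=
  Stab.frame t_hn T_s43 (by decide +kernel)

noncomputable def T_s42_O : ℕ := (nat_lit 0x10000000000000000000000000000000040000000000000000000000000004000000000000000000000000004000000000000000000000000000000000040008100000000000000000000000000801000000000000000000000000804000000000000000000004000008000000000000000002000000020000000000000000008000000100000000000000000002000004000000000000000200000000200000000000000000080000008000000000000000000000400000400000000008000000000000000800000000000000000000000004800c00000001200000000000000020100020000100000000000000000000000108090000000000000010000002020400000000002004000000000012000000080008000000400000080000000000000400000000200900000000020000002008000002000000020000000000000840040002000000000100000000202000000000004000000001008100000400000000000000000508000000400000800000002000200400000100000000000100010000040000000800000400000200000000000000000000000001000000000000000000000000800000000000000000000000021000000000000000000000000000000002000000000000000000000000000000000000000400010000000000000000000000)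

theorem T_s42_F : Frame 100 (grp 100 HSM.E) 7 39 T_s42_O 0 1 :=
  Stab.frame t_hn T_s42 (by decide +kernel)

noncomputable def ht_c13_cnt_L : List ℕ := [1, 2, T_s1_O, 0, 0, 7, 39, T_s42_O, 0, 0, 8, 59, T_s43_O, 0, 0, 9, 13, T_s44_O, 1, 0]

theorem ht_c13_cnt_P : Prob 100 7 (grp 100 HSM.E) ht_c13_cnt_EG [t_g147] [t_g147] ht_c13_K ht_c13_cnt_L 0 0 :=
  Sym.prob t_hn t_hk ht_c13_sym ht_c13_cnt_EG_ok (grp_cons_le HSM.g1_T (grp_cons_le HSM.g2_T (grp_cons_le HSM.g3_T (grp_cons_le HSM.g4_T (grp_cons_le HSM.g7_T (grp_cons_le HSM.g8_T (grp_cons_le HSM.g11_T (grp_cons_le HSM.g12_T (grp_cons_le HSM.g13_T (grp_cons_le HSM.g16_T (grp_cons_le t_g151_T (grp_cons_le t_g100_T (grp_cons_le t_g152_T (grp_cons_le t_g99_T (grp_cons_le t_g84_T (grp_cons_le t_g101_T (grp_cons_le t_g102_T (grp_cons_le t_g83_T (grp_cons_le t_g85_T (grp_cons_le t_g82_T (grp_nil_le _))))))))))))))))))))) (Frames.cons T_s1_F (Frames.cons T_s42_F (Frames.cons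 T_s43_F (Frames.cons T_s44_F Frames.nil)))) (okE_cons.2 ⟨t_g147_ok, okE_nil _⟩) _

noncomputable def ht_c13_cnt_t : BT := (BT.fix (nat_lit 257) (BT.br (nat_lit 0) (nat_lit 78) [nat_lit 1, nat_lit 3] (BT.kid (nat_lit 78) (nat_lit 4) (BT.frm (nat_lit 0) (nat_lit 266) (nat_lit 266) [nat_lit 0] (BT.pln (nat_lit 0) (nat_lit 1) (BT.fix (nat_lit 0x1010101) (BT.and (nat_lit 1) (nat_lit 0) (BT.dif (nat_lit 0) (nat_lit 5) (BT.br (nat_lit 0) (nat_lit 49) [nat_lit 5] (BT.dead (nat_lit 66) (BT.dif (nat_lit 10) (nat_lit 4) (BT.dif (nat_lit 0) (nat_lit 4) (BT.img (nat_lit 1) (nat_lit 2) (BT.img (nat_lit 1) (nat_lit 0) (BT.dif (nat_lit 11) (nat_lit 10) (BT.img (nat_lit 1) (nat_lit 11) (BT.dif (nat_lit 1) (nat_lit 0) (BT.and (nat_lit 0) (nat_lit 11) (BT.dif (nat_lit 3) (nat_lit 12) (BT.frm (nat_lit 1) (nat_lit 0x1627270c0508010a) (nat_lit 0x161c2427270c0508010a) [nat_lit 5, nat_lit 6, nat_lit 9, nat_lit 1, nat_lit 3, nat_lit 0,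 nat_lit 15] (BT.pln (nat_lit 0) (nat_lit 26) (BT.and (nat_lit 9) (nat_lit 0) (BT.br (nat_lit 0) (nat_lit 11) [nat_lit 7] (BT.dead (nat_lit 40) (BT.frm (nat_lit 2) (nat_lit 0x171627270c0508010a) (nat_lit 0x17161c2427270c0508010a) [nat_lit 0, nat_lit 9, nat_lit 10, nat_lit 13, nat_lit 5, nat_lit 7, nat_lit 4, nat_lit 19] (BT.pln (nat_lit 0) (nat_lit 48) (BT.img (nat_lit 1) (nat_lit 2) (BT.img (nat_lit 1) (nat_lit 0) (BT.and (nat_lit 2) (nat_lit 0) (BT.cnt (nat_lit 0))))))) BT.nil)))))))))))))) (BT.kid (nat_lit 49) (nat_lit 2) (BT.dif (nat_lit 10) (nat_lit 4) (BT.dif (nat_lit 0) (nat_lit 4) (BT.img (nat_lit 1) (nat_lit 2) (BT.img (nat_lit 1) (nat_lit 0) (BT.dif (nat_lit 11) (nat_lit 10) (BT.img (nat_lit 1) (nat_lit 11) (BT.dif (nat_lit 1) (nat_lit 0) (BT.and (nat_lit 0) (nat_lit 11) (BT.dif (nat_lit 3) (nat_lit 12) (BT.frm (nat_lit 1) (nat_lit 0x1627270c0508010a) (nat_lit 0x1627270c0508010a) [nat_lit 5, nat_lit 6,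 nat_lit 9, nat_lit 1, nat_lit 3, nat_lit 0, nat_lit 15] (BT.pln (nat_lit 0) (nat_lit 26) (BT.and (nat_lit 9) (nat_lit 0) (BT.br (nat_lit 0) (nat_lit 11) [nat_lit 7] (BT.kid (nat_lit 11) (nat_lit 1) (BT.img (nat_lit 1) (nat_lit 0) (BT.one (nat_lit 3) (nat_lit 0x171627270c0508010a) (nat_lit 0x171627270c0508010a) [nat_lit 0, nat_lit 1, nat_lit 10, nat_lit 11, nat_lit 14, nat_lit 6, nat_lit 8, nat_lit 5, nat_lit 20])) BT.nil)))))))))))))) BT.nil)))))))) BT.nil)))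

theorem ht_c13_cnt : Cnt 100 (grp 100 HSM.E) [t_g147] [t_g147] 0 0 0 0 16 :=
  BT.sound ht_c13_cnt_P Known.nil (t := ht_c13_cnt_t) (d := 0) (by decide +kernel)

theorem ht_c13_ge : 16 ≤ Nat.card (grp 100 ht_c13_K) :=
  Ch.le_card_grp (k := 7) (L := (lab 100 7)) t_hn ht_c13_K_ok (c := (Ch.cons (nat_lit 78) [nat_lit 1, nat_lit 3] (Ch.cons (nat_lit 49) [nat_lit 5] (Ch.cons (nat_lit 11) [nat_lit 7] Ch.nil)))) (by decide +kernel)

theorem ht_c13_eq : (grp 100 HSM.E) ⊓ Subgroup.centralizer {Net.toPerm 100 t_g147} = grp 100 ht_c13_K :=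
  cent_eq ht_c13_sym ht_c13_cnt ht_c13_ge

theorem ht_c13_card : Nat.card ↥((grp 100 HSM.E) ⊓ Subgroup.centralizer {Net.toPerm 100 t_g147}) = 16 :=
  card_cent ht_c13_sym ht_c13_cnt ht_c13_ge

theorem ht_c13_ord : orderOf (Net.toPerm 100 t_g147) = 8 :=
  orderOf_net t_hn t_hk t_g147_ok (by decide) (ps := [2]) (by set_option linter.unusedSimpArgs false in simp [Nat.primeFactorsList_ofNat]) (by decide +kernel)

theorem t_le160 : grp 100 ht_c14_K ≤ grp 100 HSM.lb_E :=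
  grp_le_of_memB t_hn t_hk HSM.lb_E_ok ht_c14_K_ok (ws := [nat_lit 0x140d0d1009091305050a08040a, nat_lit 0x140d0d110c0c06010103, nat_lit 0xd0d100a13050a0301]) (by decide +kernel)

theorem ht_c14_le : grp 100 ht_c14_K ≤ (grp 100 HSM.E) :=
  (t_le160.trans T_s0.le)

theorem ht_c14_mem : Net.toPerm 100 t_g158 ∈ (grp 100 HSM.E) :=
  ht_c14_le (toPerm_mem_grp (E := ht_c14_K) (List.Mem.tail _ (List.Mem.head _)))

theorem ht_c14_sym : Sym 100 (grp 100 HSM.E) [t_g158] ht_c14_K 0 :=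
  Sym.of_lab t_hn t_hk (okE_cons.2 ⟨t_g158_ok, okE_nil _⟩) ht_c14_K_ok ht_c14_le (kT := 0) (by decide +kernel)

theorem t_le162 : grp 100 t_V161 ≤ grp 100 t_V106 :=
  grp_le_of_memB t_hn t_hk t_V106_ok t_V161_ok (ws := []) (by decide +kernel)

theorem T_s45 : Stab 100 (grp 100 HSM.E) [nat_lit 97, nat_lit 71, nat_lit 50, nat_lit 65, nat_lit 96, nat_lit 1, nat_lit 3, nat_lit 0] t_V161 1 :=
  Stab.step (k := 7) (L := (lab 100 7)) t_hn T_s30 t_V161_ok t_le162 (c := Ch.nil) (by decide +kernel)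

noncomputable def T_s45_O : ℕ := (nat_lit 0x3333266666ccccd99999333321f07c1f03e0f83e0f83e0f83ee63398c67319ce63398c673184db24d926c93649b64db26d9200000000000000000000000010000000000000000000000008000000000000000000000000210000000000000000000000000000000020000000000000000000000000000400000000000000000008000000000000000002000000000000000000000000)

theorem T_s45_F : Frame 100 (grp 100 HSM.E) 8 12 T_s45_O 1 1 :=
  IsBase.frame T_s45.isBase (by decide +kernel)

noncomputable def ht_c14_cnt_L : List ℕ := [1, 2, T_s1_O, 0, 0, 5, 14, T_s28_O, 0, 0, 6, 24, T_s29_O, 0, 0, 7, 39, T_s30_O, 0, 0, 8, 12, T_s45_O, 1, 0]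

theorem ht_c14_cnt_P : Prob 100 7 (grp 100 HSM.E) ht_c14_cnt_EG [t_g158] [t_g158] ht_c14_K ht_c14_cnt_L 0 0 :=
  Sym.prob t_hn t_hk ht_c14_sym ht_c14_cnt_EG_ok (grp_cons_le HSM.g1_T (grp_cons_le HSM.g2_T (grp_cons_le HSM.g3_T (grp_cons_le HSM.g4_T (grp_cons_le HSM.g7_T (grp_cons_le HSM.g8_T (grp_cons_le HSM.g11_T (grp_cons_le HSM.g12_T (grp_cons_le HSM.g13_T (grp_cons_le HSM.g16_T (grp_cons_le t_g83_T (grp_cons_le t_g84_T (grp_cons_le t_g85_T (grp_cons_le t_g82_T (grp_cons_le t_g99_T (grp_cons_le t_g100_T (grp_cons_le t_g101_T (grp_cons_le t_g102_T (grp_nil_le _))))))))))))))))))) (Frames.cons T_s1_F (Frames.cons T_s28_F (Frames.cons T_s29_F (Frames.cons T_s30_F (Frames.cons T_s45_F Frames.nil))))) (okE_cons.2 ⟨t_g158_ok, okE_nil _⟩) _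

noncomputable def ht_c14_cnt_t : BT := (BT.fix (nat_lit 1) (BT.br (nat_lit 0) (nat_lit 74) [nat_lit 1] (BT.kid (nat_lit 74) (nat_lit 8) (BT.frm (nat_lit 0) (nat_lit 261) (nat_lit 261) [nat_lit 0] (BT.pln (nat_lit 0) (nat_lit 1) (BT.fix (nat_lit 0x1010101) (BT.and (nat_lit 1) (nat_lit 0) (BT.fix (nat_lit 257) (BT.dif (nat_lit 1) (nat_lit 0) (BT.br (nat_lit 0) (nat_lit 47) [nat_lit 3] (BT.kid (nat_lit 47) (nat_lit 2) (BT.dif (nat_lit 11) (nat_lit 5) (BT.dif (nat_lit 0) (nat_lit 5) (BT.img (nat_lit 1) (nat_lit 2) (BT.img (nat_lit 1) (nat_lit 0) (BT.dif (nat_lit 12) (nat_lit 11) (BT.frm (nat_lit 1) (nat_lit 0x161b1b0b0512080105) (nat_lit 0x161b1b0b0512080105) [nat_lit 1, nat_lit 2, nat_lit 5, nat_lit 0, nat_lit 12] (BT.pln (nat_lit 0) (nat_lit 9) (BT.and (nat_lit 5) (nat_lit 0) (BT.dif (nat_lit 11) (nat_lit 8) (BT.dif (nat_lit 0) (nat_lit 11) (BT.dif (nat_lit 0) (nat_lit 7) (BT.dif (nat_lit 0) (nat_lit 7) (BT.frm (nat_lit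 2) (nat_lit 0x1d161b1b0b0512080105) (nat_lit 0x1d161b1b0b0512080105) [nat_lit 0, nat_lit 8, nat_lit 9, nat_lit 12, nat_lit 7, nat_lit 19] (BT.pln (nat_lit 0) (nat_lit 14) (BT.dif (nat_lit 6) (nat_lit 0) (BT.br (nat_lit 0) (nat_lit 64) [nat_lit 5] (BT.dead (nat_lit 77) (BT.frm (nat_lit 3) (nat_lit 0x1f1d161b1b0b0512080105) (nat_lit 0x1d161b1b0b0512080105) [nat_lit 0, nat_lit 4, nat_lit 12, nat_lit 13, nat_lit 16, nat_lit 11, nat_lit 23] (BT.pln (nat_lit 0) (nat_lit 26) (BT.img (nat_lit 1) (nat_lit 2) (BT.img (nat_lit 1) (nat_lit 0) (BT.img (nat_lit 1) (nat_lit 0) (BT.and (nat_lit 3) (nat_lit 0) (BT.cnt (nat_lit 0)))))))) (BT.kid (nat_lit 64) (nat_lit 1) (BT.img (nat_lit 1) (nat_lit 0) (BT.img (nat_lit 1) (nat_lit 0) (BT.one (nat_lit 4) (nat_lit 0x211f1d161b1b0b0512080105) (nat_lit 0x211f1d161b1b0b0512080105) [nat_lit 0, nat_lit 2, nat_lit 6, nat_lit 14, nat_lit 15, nat_lit 18, nat_lit 13, nat_lit 25]))) BT.nil))))))))))))))))))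 BT.nil)))))))) BT.nil)))

theorem ht_c14_cnt : Cnt 100 (grp 100 HSM.E) [t_g158] [t_g158] 0 0 0 0 16 :=
  BT.sound ht_c14_cnt_P Known.nil (t := ht_c14_cnt_t) (d := 0) (by decide +kernel)

theorem ht_c14_ge : 16 ≤ Nat.card (grp 100 ht_c14_K) :=
  Ch.le_card_grp (k := 7) (L := (lab 100 7)) t_hn ht_c14_K_ok (c := (Ch.cons (nat_lit 74) [nat_lit 1] (Ch.cons (nat_lit 47) [nat_lit 3] (Ch.cons (nat_lit 64) [nat_lit 5] Ch.nil)))) (by decide +kernel)

theorem ht_c14_eq : (grp 100 HSM.E) ⊓ Subgroup.centralizer {Net.toPerm 100 t_g158} = grp 100 ht_c14_K :=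
  cent_eq ht_c14_sym ht_c14_cnt ht_c14_ge

theorem ht_c14_card : Nat.card ↥((grp 100 HSM.E) ⊓ Subgroup.centralizer {Net.toPerm 100 t_g158}) = 16 :=
  card_cent ht_c14_sym ht_c14_cnt ht_c14_ge

theorem ht_c14_ord : orderOf (Net.toPerm 100 t_g158) = 8 :=
  orderOf_net t_hn t_hk t_g158_ok (by decide) (ps := [2]) (by set_option linter.unusedSimpArgs false in simp [Nat.primeFactorsList_ofNat]) (by decide +kernel)

theorem t_le166 : grp 100 ht_c15_K ≤ grp 100 HSM.lb_E :=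
  grp_le_of_memB t_hn t_hk HSM.lb_E_ok ht_c15_K_ok (ws := [nat_lit 0xd0f110b110505090210, nat_lit 0x140e100c0e060e010a04, nat_lit 0xe120c12060d010a04, nat_lit 0x120c130811]) (by decide +kernel)

theorem ht_c15_le : grp 100 ht_c15_K ≤ (grp 100 HSM.E) :=
  (t_le166.trans T_s0.le)

theorem ht_c15_mem : Net.toPerm 100 t_g163 ∈ (grp 100 HSM.E) :=
  ht_c15_le (toPerm_mem_grp (E := ht_c15_K) (List.Mem.head _))

theorem ht_c15_sym : Sym 100 (grp 100 HSM.E) [t_g163] ht_c15_K 0 :=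
  Sym.of_lab t_hn t_hk (okE_cons.2 ⟨t_g163_ok, okE_nil _⟩) ht_c15_K_ok ht_c15_le (kT := 0) (by decide +kernel)

theorem t_le168 : grp 100 t_V167 ≤ grp 100 t_V156 :=
  grp_le_of_memB t_hn t_hk t_V156_ok t_V167_ok (ws := []) (by decide +kernel)

theorem T_s46 : Stab 100 (grp 100 HSM.E) [nat_lit 51, nat_lit 73, nat_lit 88, nat_lit 6, nat_lit 65, nat_lit 96, nat_lit 1, nat_lit 3, nat_lit 0] t_V167 1 :=
  Stab.step (k := 7) (L := (lab 100 7)) t_hn T_s43 t_V167_ok t_le168 (c := Ch.nil) (by decide +kernel)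

noncomputable def T_s46_O : ℕ := (nat_lit 0x3333266666ccccd99999333321f07c1f03e0f83e0f83e0f83ee63398c67319ce63398c673184db24d926c93649b64db26d92000000000000000000000000100000000000000000000000080000000000000000000000002100000000000000000000000000000000200000000000000000000000000000000000000040001000000000000000000000000000020000000000000000000000000000008000000000000)

theorem T_s46_F : Frame 100 (grp 100 HSM.E) 9 13 T_s46_O 1 1 :=
  IsBase.frame T_s46.isBase (by decide +kernel)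

noncomputable def ht_c15_cnt_L : List ℕ := [1, 2, T_s1_O, 0, 0, 7, 39, T_s42_O, 0, 0, 8, 59, T_s43_O, 0, 0, 9, 13, T_s46_O, 1, 0]

theorem ht_c15_cnt_P : Prob 100 7 (grp 100 HSM.E) ht_c15_cnt_EG [t_g163] [t_g163] ht_c15_K ht_c15_cnt_L 0 0 :=
  Sym.prob t_hn t_hk ht_c15_sym ht_c15_cnt_EG_ok (grp_cons_le HSM.g1_T (grp_cons_le HSM.g2_T (grp_cons_le HSM.g3_T (grp_cons_le HSM.g4_T (grp_cons_le HSM.g7_T (grp_cons_le HSM.g8_T (grp_cons_le HSM.g11_T (grp_cons_le HSM.g12_T (grp_cons_le HSM.g13_T (grp_cons_le HSM.g16_T (grp_cons_le t_g151_T (grp_cons_le t_g100_T (grp_cons_le t_g152_T (grp_cons_le t_g99_T (grp_cons_le t_g84_T (grp_cons_le t_g101_T (grp_cons_le t_g102_T (grp_cons_le t_g83_T (grp_cons_le t_g85_T (grp_cons_le t_g82_T (grp_nil_le _))))))))))))))))))))) (Frames.cons T_s1_F (Frames.cons T_s42_F (Frames.cons T_s43_F (Frames.cons T_s46_F Frames.nil)))) (okE_cons.2 ⟨t_g163_ok, okE_nil _⟩) _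

noncomputable def ht_c15_cnt_t : BT := (BT.fix (nat_lit 257) (BT.br (nat_lit 0) (nat_lit 87) [nat_lit 1, nat_lit 3] (BT.kid (nat_lit 87) (nat_lit 4) (BT.frm (nat_lit 0) (nat_lit 274) (nat_lit 274) [nat_lit 0] (BT.pln (nat_lit 0) (nat_lit 1) (BT.fix (nat_lit 0x1010101) (BT.and (nat_lit 1) (nat_lit 0) (BT.dif (nat_lit 0) (nat_lit 5) (BT.br (nat_lit 0) (nat_lit 82) [nat_lit 5] (BT.dead (nat_lit 39) (BT.dif (nat_lit 10) (nat_lit 4) (BT.dif (nat_lit 0) (nat_lit 4) (BT.img (nat_lit 1) (nat_lit 2) (BT.img (nat_lit 1) (nat_lit 0) (BT.dif (nat_lit 11) (nat_lit 10) (BT.img (nat_lit 1) (nat_lit 11) (BT.dif (nat_lit 1) (nat_lit 0) (BT.and (nat_lit 0) (nat_lit 11) (BT.dif (nat_lit 3) (nat_lit 12) (BT.frm (nat_lit 1) (nat_lit 0x152123280b0f050e0112) (nat_lit 0x280b0f050e0112) [nat_lit 5, nat_lit 6, nat_lit 9, nat_lit 1, nat_lit 3, nat_lit 0, nat_lit 15] (BT.pln (nat_lit 0) (nat_lit 26) (BT.and (nat_lit 9) (nat_lit 0) (BT.br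 (nat_lit 0) (nat_lit 74) [nat_lit 7] (BT.dead (nat_lit 51) (BT.frm (nat_lit 2) (nat_lit 0x152123280b0f050e0112) (nat_lit 0x17280b0f050e0112) [nat_lit 0, nat_lit 9, nat_lit 10, nat_lit 13, nat_lit 5, nat_lit 7, nat_lit 4, nat_lit 19] (BT.pln (nat_lit 0) (nat_lit 48) (BT.img (nat_lit 1) (nat_lit 2) (BT.img (nat_lit 1) (nat_lit 0) (BT.and (nat_lit 2) (nat_lit 0) (BT.cnt (nat_lit 0))))))) BT.nil)))))))))))))) (BT.kid (nat_lit 82) (nat_lit 2) (BT.dif (nat_lit 10) (nat_lit 4) (BT.dif (nat_lit 0) (nat_lit 4) (BT.img (nat_lit 1) (nat_lit 2) (BT.img (nat_lit 1) (nat_lit 0) (BT.dif (nat_lit 11) (nat_lit 10) (BT.img (nat_lit 1) (nat_lit 11) (BT.dif (nat_lit 1) (nat_lit 0) (BT.and (nat_lit 0) (nat_lit 11) (BT.dif (nat_lit 3) (nat_lit 12) (BT.frm (nat_lit 1) (nat_lit 0x152123280b0f050e0112) (nat_lit 0x152123280b0f050e0112) [nat_lit 5, nat_lit 6, nat_lit 9, nat_lit 1, nat_lit 3, nat_lit 0, nat_lit 15] (BT.pln (nat_lit 0) (nat_lit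 26) (BT.and (nat_lit 9) (nat_lit 0) (BT.br (nat_lit 0) (nat_lit 74) [nat_lit 7] (BT.kid (nat_lit 74) (nat_lit 1) (BT.img (nat_lit 1) (nat_lit 0) (BT.one (nat_lit 3) (nat_lit 0x19152123280b0f050e0112) (nat_lit 0x19152123280b0f050e0112) [nat_lit 0, nat_lit 1, nat_lit 10, nat_lit 11, nat_lit 14, nat_lit 6, nat_lit 8, nat_lit 5, nat_lit 20])) BT.nil)))))))))))))) BT.nil)))))))) BT.nil)))

theorem ht_c15_cnt : Cnt 100 (grp 100 HSM.E) [t_g163] [t_g163] 0 0 0 0 16 :=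
  BT.sound ht_c15_cnt_P Known.nil (t := ht_c15_cnt_t) (d := 0) (by decide +kernel)

theorem ht_c15_ge : 16 ≤ Nat.card (grp 100 ht_c15_K) :=
  Ch.le_card_grp (k := 7) (L := (lab 100 7)) t_hn ht_c15_K_ok (c := (Ch.cons (nat_lit 87) [nat_lit 1, nat_lit 3] (Ch.cons (nat_lit 82) [nat_lit 5] (Ch.cons (nat_lit 74) [nat_lit 7] Ch.nil)))) (by decide +kernel)

theorem ht_c15_eq : (grp 100 HSM.E) ⊓ Subgroup.centralizer {Net.toPerm 100 t_g163} = grp 100 ht_c15_K :=
  cent_eq ht_c15_sym ht_c15_cnt ht_c15_ge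

theorem ht_c15_card : Nat.card ↥((grp 100 HSM.E) ⊓ Subgroup.centralizer {Net.toPerm 100 t_g163}) = 16 :=
  card_cent ht_c15_sym ht_c15_cnt ht_c15_ge

theorem ht_c15_ord : orderOf (Net.toPerm 100 t_g163) = 8 :=
  orderOf_net t_hn t_hk t_g163_ok (by decide) (ps := [2]) (by set_option linter.unusedSimpArgs false in simp [Nat.primeFactorsList_ofNat]) (by decide +kernel)

theorem t_le171 : grp 100 ht_c16_K ≤ grp 100 HSM.lb_E :=
  grp_le_of_memB t_hn t_hk HSM.lb_E_ok ht_c16_K_ok (ws := [nat_lit 0xd100a0c0c0505140313, nat_lit 0x130f120b140b06060a0205, nat_lit 0x13120d0c120809020a]) (by decide +kernel)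

theorem ht_c16_le : grp 100 ht_c16_K ≤ (grp 100 HSM.E) :=
  (t_le171.trans T_s0.le)

theorem ht_c16_mem : Net.toPerm 100 t_g169 ∈ (grp 100 HSM.E) :=
  ht_c16_le (toPerm_mem_grp (E := ht_c16_K) (List.Mem.head _))

theorem ht_c16_sym : Sym 100 (grp 100 HSM.E) [t_g169] ht_c16_K 0 :=
  Sym.of_lab t_hn t_hk (okE_cons.2 ⟨t_g169_ok, okE_nil _⟩) ht_c16_K_ok ht_c16_le (kT := 0) (by decide +kernel)

theorem t_le176 : grp 100 t_V175 ≤ grp 100 t_V125 :=
  grp_le_of_memB t_hn t_hk t_V125_ok t_V175_ok (ws := [nat_lit 0x7010103, nat_lit 0x7020308, nat_lit 460291]) (by decide +kernel)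

theorem T_s47 : Stab 100 (grp 100 HSM.E) [nat_lit 28, nat_lit 4, nat_lit 3, nat_lit 0] t_V175 8 :=
  Stab.step (k := 7) (L := (lab 100 7)) t_hn T_s36 t_V175_ok t_le176 (c := (Ch.cons (nat_lit 88) [nat_lit 1] (Ch.cons (nat_lit 14) [nat_lit 3] (Ch.cons (nat_lit 42) [nat_lit 5] Ch.nil)))) (by decide +kernel)

theorem T_s48 : Stab 100 (grp 100 HSM.E) [nat_lit 88, nat_lit 28, nat_lit 4, nat_lit 3, nat_lit 0] t_V177 4 :=
  Stab.step (k := 7) (L := (lab 100 7)) t_hn T_s47 t_V177_ok (grp_mono (List.subset_append_right [t_g172] _)) (c := (Ch.cons (nat_lit 14) [nat_lit 1] (Ch.cons (nat_lit 42) [nat_lit 3] Ch.nil))) (by decide +kernel)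

theorem T_s49 : Stab 100 (grp 100 HSM.E) [nat_lit 14, nat_lit 88, nat_lit 28, nat_lit 4, nat_lit 3, nat_lit 0] t_V178 2 :=
  Stab.step (k := 7) (L := (lab 100 7)) t_hn T_s48 t_V178_ok (grp_mono (List.subset_append_right [t_g173] _)) (c := (Ch.cons (nat_lit 42) [nat_lit 1] Ch.nil)) (by decide +kernel)

theorem T_s50 : Stab 100 (grp 100 HSM.E) [nat_lit 42, nat_lit 14, nat_lit 88, nat_lit 28, nat_lit 4, nat_lit 3, nat_lit 0] t_V179 1 :=
  Stab.step (k := 7) (L := (lab 100 7)) t_hn T_s49 t_V179_ok (grp_mono (List.subset_append_right [t_g174] _)) (c := Ch.nil) (by decide +kernel)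

theorem t_g173_T : Net.toPerm 100 t_g173 ∈ (grp 100 HSM.E) :=
  T_s48.le (toPerm_mem_grp (E := t_V177) (List.Mem.head _))

theorem t_g174_T : Net.toPerm 100 t_g174 ∈ (grp 100 HSM.E) :=
  T_s48.le (toPerm_mem_grp (E := t_V177) (List.Mem.tail _ (List.Mem.head _)))

theorem t_g172_T : Net.toPerm 100 t_g172 ∈ (grp 100 HSM.E) :=
  T_s47.le (toPerm_mem_grp (E := t_V175) (List.Mem.head _))

noncomputable def T_s50_O : ℕ := (nat_lit 0x3333266666ccccd99999333321f07c1f03e0f83e0f83e0f83ee63398c67319ce63398c673184db24d926c93649b64db26d920000000000000000000000001000000000000000000000000800000000000000000000000100000000000000000010000000001000000000000000000000000000000000000000000040000000000000000040000000000)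

theorem T_s50_F : Frame 100 (grp 100 HSM.E) 7 11 T_s50_O 1 1 :=
  IsBase.frame T_s50.isBase (by decide +kernel)

noncomputable def T_s49_O : ℕ := (nat_lit 0x8000000000000000000000000400000000000000000000000004000000000000000000000000001000000000000000000000000020000000000000000000000000400000000000000000000000020000000000000000000000001000000000000000000000000000080000000000000000000000004000000000000000000000000100000000000000000000000000100000000000000000000000000000000800000000000000000000000000024100000000000000000000000200800000000000000000000000204000000000000000000001000000020000000000000000000002000800000000000000000000040002000000000000000000008000100000000000000000000000042000000000000004000000000080000000000000002000000002000000000000000100000000080000000000000000000010004000000000000000001000000040000000000000000000200001000000000000000000400000080000000000000000000000204000000000000008000000000200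00000000000000800000000800000000800000000000000040000000000000000000000012000000000000000000800000100000000000080000000000008000000000000000000000000220000000000000004000000001000000080000000000000000040000000000000100000000002000000000000000001000000100000000000000000000000088000000000000000000000040400000000000080000000000020000000000000000002000001000000001000000000000000020000200000000000000000001000000000000000000000800080000000000000000800000004000000040000000000000000200000020000000000000000008000000000000000000000001400000000000000000040000020000000000000000000000000100000000000000000000000080000000000000000000000010000000000000000001000000000100000000000000000000000000000000000000000004000)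

theorem T_s49_F : Frame 100 (grp 100 HSM.E) 6 59 T_s49_O 0 1 :=
  Stab.frame t_hn T_s49 (by decide +kernel)

noncomputable def ht_c16_cnt_L : List ℕ := [1, 2, T_s1_O, 0, 0, 6, 59, T_s49_O, 0, 0, 7, 11, T_s50_O, 1, 0]

theorem ht_c16_cnt_P : Prob 100 7 (grp 100 HSM.E) ht_c16_cnt_EG [t_g169] [t_g169] ht_c16_K ht_c16_cnt_L 0 0 :=
  Sym.prob t_hn t_hk ht_c16_sym ht_c16_cnt_EG_ok (grp_cons_le HSM.g1_T (grp_cons_le HSM.g2_T (grp_cons_le HSM.g3_T (grp_cons_le HSM.g4_T (grp_cons_le HSM.g7_T (grp_cons_le HSM.g8_T (grp_cons_le HSM.g11_T (grp_cons_le HSM.g12_T (grp_cons_le HSM.g13_T (grp_cons_le HSM.g16_T (grp_cons_le t_g173_T (grp_cons_le t_g174_T (grp_cons_le t_g172_T (grp_nil_le _)))))))))))))) (Frames.cons T_s1_F (Frames.cons T_s49_F (Frames.cons T_s50_F Frames.nil))) (okE_cons.2 ⟨t_g169_ok, okE_nil _⟩) _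

noncomputable def ht_c16_cnt_t : BT := (BT.fix (nat_lit 0x101010101) (BT.br (nat_lit 0) (nat_lit 98) [nat_lit 3] (BT.dead (nat_lit 89) (BT.frm (nat_lit 0) (nat_lit 67593) (nat_lit 2) [nat_lit 0] (BT.pln (nat_lit 0) (nat_lit 1) (BT.img (nat_lit 1) (nat_lit 2) (BT.and (nat_lit 1) (nat_lit 0) (BT.cnt (nat_lit 0)))))) (BT.kid (nat_lit 98) (nat_lit 2) (BT.dif (nat_lit 4) (nat_lit 1) (BT.img (nat_lit 1) (nat_lit 1) (BT.img (nat_lit 1) (nat_lit 0) (BT.img (nat_lit 1) (nat_lit 0) (BT.img (nat_lit 1) (nat_lit 0) (BT.frm (nat_lit 0) (nat_lit 67593) (nat_lit 67593) [nat_lit 5] (BT.pln (nat_lit 0) (nat_lit 1) (BT.dif (nat_lit 8) (nat_lit 0) (BT.and (nat_lit 1) (nat_lit 9) (BT.dif (nat_lit 0) (nat_lit 7) (BT.dif (nat_lit 0) (nat_lit 5) (BT.img (nat_lit 1) (nat_lit 0) (BT.and (nat_lit 13) (nat_lit 0) (BT.img (nat_lit 1) (nat_lit 0) (BT.and (nat_lit 5) (nat_lit 0) (BT.img (nat_lit 1) (nat_lit 0) (BT.and (nat_lit 8) (nat_lit 0)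 (BT.frm (nat_lit 1) (nat_lit 0x15110a050d010809) (nat_lit 0x15110a050d010809) [nat_lit 13, nat_lit 15, nat_lit 12, nat_lit 0, nat_lit 14, nat_lit 17] (BT.pln (nat_lit 0) (nat_lit 32) (BT.and (nat_lit 18) (nat_lit 0) (BT.br (nat_lit 0) (nat_lit 0) [nat_lit 5] (BT.kid (nat_lit 0) (nat_lit 1) (BT.one (nat_lit 2) (nat_lit 0x15110a050d010809) (nat_lit 0x15110a050d010809) [nat_lit 0, nat_lit 17, nat_lit 19, nat_lit 16, nat_lit 4, nat_lit 18, nat_lit 21]) BT.nil)))))))))))))))))))))) BT.nil))))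

theorem ht_c16_cnt : Cnt 100 (grp 100 HSM.E) [t_g169] [t_g169] 0 0 0 0 20 :=
  BT.sound ht_c16_cnt_P Known.nil (t := ht_c16_cnt_t) (d := 0) (by decide +kernel)

theorem ht_c16_ge : 20 ≤ Nat.card (grp 100 ht_c16_K) :=
  Ch.le_card_grp (k := 7) (L := (lab 100 7)) t_hn ht_c16_K_ok (c := (Ch.cons (nat_lit 98) [nat_lit 1, nat_lit 3] (Ch.cons (nat_lit 0) [nat_lit 5] Ch.nil))) (by decide +kernel)

theorem ht_c16_eq : (grp 100 HSM.E) ⊓ Subgroup.centralizer {Net.toPerm 100 t_g169} = grp 100 ht_c16_K :=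
  cent_eq ht_c16_sym ht_c16_cnt ht_c16_ge

theorem ht_c16_card : Nat.card ↥((grp 100 HSM.E) ⊓ Subgroup.centralizer {Net.toPerm 100 t_g169}) = 20 :=
  card_cent ht_c16_sym ht_c16_cnt ht_c16_ge

theorem ht_c16_ord : orderOf (Net.toPerm 100 t_g169) = 10 :=
  orderOf_net t_hn t_hk t_g169_ok (by decide) (ps := [2, 5]) (by set_option linter.unusedSimpArgs false in simp [Nat.primeFactorsList_ofNat]) (by decide +kernel)

theorem t_le182 : grp 100 ht_c17_K ≤ grp 100 HSM.lb_E :=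
  grp_le_of_memB t_hn t_hk HSM.lb_E_ok ht_c17_K_ok (ws := [nat_lit 0x120e0909140507010d, nat_lit 0xd0d090e050d08011101]) (by decide +kernel)

theorem ht_c17_le : grp 100 ht_c17_K ≤ (grp 100 HSM.E) :=
  (t_le182.trans T_s0.le)

theorem ht_c17_mem : Net.toPerm 100 t_g180 ∈ (grp 100 HSM.E) :=
  ht_c17_le (toPerm_mem_grp (E := ht_c17_K) (List.Mem.head _))

theorem ht_c17_sym : Sym 100 (grp 100 HSM.E) [t_g180] ht_c17_K 0 :=
  Sym.of_lab t_hn t_hk (okE_cons.2 ⟨t_g180_ok, okE_nil _⟩) ht_c17_K_ok ht_c17_le (kT := 0) (by decide +kernel)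

noncomputable def ht_c17_cnt_L : List ℕ := [1, 2, T_s1_O, 0, 0, 4, 39, T_s37_O, 0, 0, 5, 9, T_s38_O, 1, 0]

theorem ht_c17_cnt_P : Prob 100 7 (grp 100 HSM.E) ht_c17_cnt_EG [t_g180] [t_g180] ht_c17_K ht_c17_cnt_L 0 0 :=
  Sym.prob t_hn t_hk ht_c17_sym ht_c17_cnt_EG_ok (grp_cons_le HSM.g1_T (grp_cons_le HSM.g2_T (grp_cons_le HSM.g3_T (grp_cons_le HSM.g4_T (grp_cons_le HSM.g7_T (grp_cons_le HSM.g8_T (grp_cons_le HSM.g11_T (grp_cons_le HSM.g12_T (grp_cons_le HSM.g13_T (grp_cons_le HSM.g16_T (grp_nil_le _))))))))))) (Frames.cons T_s1_F (Frames.cons T_s37_F (Frames.cons T_s38_F Frames.nil))) (okE_cons.2 ⟨t_g180_ok, okE_nil _⟩) _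

noncomputable def ht_c17_cnt_t : BT := (BT.br (nat_lit 2) (nat_lit 0) [nat_lit 1, nat_lit 3] (BT.dead (nat_lit 12) (BT.img (nat_lit 1) (nat_lit 0) (BT.img (nat_lit 1) (nat_lit 0) (BT.img (nat_lit 1) (nat_lit 0) (BT.img (nat_lit 1) (nat_lit 0) (BT.frm (nat_lit 1) (nat_lit 0x120a130606) (nat_lit 0xd0d0a120908080d020803) [nat_lit 0, nat_lit 2, nat_lit 3, nat_lit 4] (BT.pln (nat_lit 0) (nat_lit 4) (BT.frm (nat_lit 0) (nat_lit 0) (nat_lit 133123) [nat_lit 6] (BT.pln (nat_lit 0) (nat_lit 1) (BT.dif (nat_lit 11) (nat_lit 0) (BT.img (nat_lit 1) (nat_lit 5) (BT.dif (nat_lit 2) (nat_lit 0) (BT.img (nat_lit 1) (nat_lit 0) (BT.and (nat_lit 3) (nat_lit 0) (BT.and (nat_lit 5) (nat_lit 1) (BT.img (nat_lit 1) (nat_lit 0) (BT.dif (nat_lit 2) (nat_lit 0) (BT.dif (nat_lit 5) (nat_lit 4) (BT.and (nat_lit 8) (nat_lit 2) (BT.img (nat_lit 1) (nat_lit 0) (BT.dif (nat_lit 2) (nat_lit 0) (BT.and (nat_lit 11) (nat_lit 1) (BT.img (nat_lit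 1) (nat_lit 0) (BT.and (nat_lit 13) (nat_lit 0) (BT.img (nat_lit 1) (nat_lit 0) (BT.and (nat_lit 15) (nat_lit 0) (BT.img (nat_lit 1) (nat_lit 0) (BT.and (nat_lit 17) (nat_lit 0) (BT.img (nat_lit 1) (nat_lit 0) (BT.dif (nat_lit 8) (nat_lit 0) (BT.dif (nat_lit 20) (nat_lit 29) (BT.dif (nat_lit 0) (nat_lit 29) (BT.dif (nat_lit 0) (nat_lit 29) (BT.dif (nat_lit 0) (nat_lit 20) (BT.dif (nat_lit 0) (nat_lit 30) (BT.dif (nat_lit 0) (nat_lit 30) (BT.img (nat_lit 1) (nat_lit 25) (BT.dif (nat_lit 1) (nat_lit 0) (BT.img (nat_lit 1) (nat_lit 1) (BT.dif (nat_lit 1) (nat_lit 0) (BT.img (nat_lit 1) (nat_lit 1) (BT.dif (nat_lit 1) (nat_lit 0) (BT.img (nat_lit 1) (nat_lit 1) (BT.dif (nat_lit 1) (nat_lit 0) (BT.and (nat_lit 35) (nat_lit 24) (BT.and (nat_lit 31) (nat_lit 29) (BT.and (nat_lit 37) (nat_lit 17) (BT.img (nat_lit 1) (nat_lit 0) (BT.and (nat_lit 33) (nat_lit 0) (BT.img (nat_lit 1) (nat_lit 0) (BT.and (nat_lit 4) (nat_lit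 0) (BT.img (nat_lit 1) (nat_lit 0) (BT.dif (nat_lit 7) (nat_lit 0) (BT.img (nat_lit 1) (nat_lit 0) (BT.dif (nat_lit 37) (nat_lit 0) (BT.and (nat_lit 41) (nat_lit 1) (BT.img (nat_lit 1) (nat_lit 0) (BT.and (nat_lit 25) (nat_lit 0) (BT.img (nat_lit 1) (nat_lit 0) (BT.and (nat_lit 27) (nat_lit 0) (BT.img (nat_lit 1) (nat_lit 0) (BT.and (nat_lit 43) (nat_lit 0) (BT.img (nat_lit 1) (nat_lit 0) (BT.dif (nat_lit 8) (nat_lit 0) (BT.img (nat_lit 1) (nat_lit 0) (BT.and (nat_lit 21) (nat_lit 0) (BT.and (nat_lit 48) (nat_lit 1) (BT.img (nat_lit 1) (nat_lit 0) (BT.and (nat_lit 51) (nat_lit 0) (BT.img (nat_lit 1) (nat_lit 0) (BT.dif (nat_lit 4) (nat_lit 0) (BT.img (nat_lit 1) (nat_lit 0) (BT.and (nat_lit 42) (nat_lit 0) (BT.img (nat_lit 1) (nat_lit 0) (BT.and (nat_lit 57) (nat_lit 0) (BT.img (nat_lit 1) (nat_lit 0) (BT.and (nat_lit 69) (nat_lit 0) (BT.cnt (nat_lit 0))))))))))))))))))))))))))))))))))))))))))))))))))))))))))))))))))))))))))))))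 (BT.dead (nat_lit 2) (BT.frm (nat_lit 0) (nat_lit 0) (nat_lit 198145) [nat_lit 0] (BT.pln (nat_lit 0) (nat_lit 1) (BT.img (nat_lit 1) (nat_lit 2) (BT.img (nat_lit 1) (nat_lit 0) (BT.img (nat_lit 1) (nat_lit 0) (BT.and (nat_lit 3) (nat_lit 0) (BT.cnt (nat_lit 0)))))))) (BT.dead (nat_lit 6) (BT.frm (nat_lit 0) (nat_lit 0) (nat_lit 67089) [nat_lit 0] (BT.pln (nat_lit 0) (nat_lit 1) (BT.img (nat_lit 1) (nat_lit 2) (BT.and (nat_lit 1) (nat_lit 0) (BT.cnt (nat_lit 0)))))) (BT.dead (nat_lit 1) (BT.frm (nat_lit 0) (nat_lit 0) (nat_lit 132356) [nat_lit 0] (BT.pln (nat_lit 0) (nat_lit 1) (BT.img (nat_lit 1) (nat_lit 2) (BT.and (nat_lit 1) (nat_lit 0) (BT.cnt (nat_lit 0)))))) (BT.kid (nat_lit 0) (nat_lit 1) (BT.frm (nat_lit 0) (nat_lit 0) (nat_lit 0) [nat_lit 0] (BT.pln (nat_lit 0) (nat_lit 1) (BT.img (nat_lit 1) (nat_lit 2) (BT.img (nat_lit 1) (nat_lit 0) (BT.img (nat_lit 1) (nat_lit 0) (BT.img (nat_lit 1) (nat_lit 0) (BT.img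 (nat_lit 1) (nat_lit 0) (BT.dif (nat_lit 5) (nat_lit 0) (BT.img (nat_lit 1) (nat_lit 0) (BT.and (nat_lit 7) (nat_lit 0) (BT.dif (nat_lit 13) (nat_lit 8) (BT.img (nat_lit 1) (nat_lit 1) (BT.and (nat_lit 1) (nat_lit 0) (BT.img (nat_lit 1) (nat_lit 0) (BT.and (nat_lit 3) (nat_lit 0) (BT.img (nat_lit 1) (nat_lit 0) (BT.and (nat_lit 5) (nat_lit 0) (BT.img (nat_lit 1) (nat_lit 0) (BT.and (nat_lit 7) (nat_lit 0) (BT.img (nat_lit 1) (nat_lit 0) (BT.and (nat_lit 9) (nat_lit 0) (BT.img (nat_lit 1) (nat_lit 0) (BT.and (nat_lit 20) (nat_lit 0) (BT.img (nat_lit 1) (nat_lit 0) (BT.and (nat_lit 14) (nat_lit 0) (BT.one (nat_lit 2) (nat_lit 0x120a130606) (nat_lit 0x120a130606) [nat_lit 0, nat_lit 19, nat_lit 21, nat_lit 22, nat_lit 25])))))))))))))))))))))))))) BT.nil))))))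

theorem ht_c17_cnt : Cnt 100 (grp 100 HSM.E) [t_g180] [t_g180] 0 0 0 0 20 :=
  BT.sound ht_c17_cnt_P Known.nil (t := ht_c17_cnt_t) (d := 0) (by decide +kernel)

theorem ht_c17_ge : 20 ≤ Nat.card (grp 100 ht_c17_K) :=
  Ch.le_card_grp (k := 7) (L := (lab 100 7)) t_hn ht_c17_K_ok (c := (Ch.cons (nat_lit 0) [nat_lit 1, nat_lit 3] Ch.nil)) (by decide +kernel)

theorem ht_c17_eq : (grp 100 HSM.E) ⊓ Subgroup.centralizer {Net.toPerm 100 t_g180} = grp 100 ht_c17_K :=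
  cent_eq ht_c17_sym ht_c17_cnt ht_c17_ge

theorem ht_c17_card : Nat.card ↥((grp 100 HSM.E) ⊓ Subgroup.centralizer {Net.toPerm 100 t_g180}) = 20 :=
  card_cent ht_c17_sym ht_c17_cnt ht_c17_ge

theorem ht_c17_ord : orderOf (Net.toPerm 100 t_g180) = 10 :=
  orderOf_net t_hn t_hk t_g180_ok (by decide) (ps := [2, 5]) (by set_option linter.unusedSimpArgs false in simp [Nat.primeFactorsList_ofNat]) (by decide +kernel)

theorem t_le184 : grp 100 ht_c18_K ≤ grp 100 HSM.lb_E :=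
  grp_le_of_memB t_hn t_hk HSM.lb_E_ok ht_c18_K_ok (ws := [nat_lit 0x14120e0b120611020601]) (by decide +kernel)

theorem ht_c18_le : grp 100 ht_c18_K ≤ (grp 100 HSM.E) :=
  (t_le184.trans T_s0.le)

theorem ht_c18_mem : Net.toPerm 100 t_g183 ∈ (grp 100 HSM.E) :=
  ht_c18_le (toPerm_mem_grp (E := ht_c18_K) (List.Mem.head _))

theorem ht_c18_sym : Sym 100 (grp 100 HSM.E) [t_g183] ht_c18_K 0 :=
  Sym.of_lab t_hn t_hk (okE_cons.2 ⟨t_g183_ok, okE_nil _⟩) ht_c18_K_ok ht_c18_le (kT := 0) (by decide +kernel)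

noncomputable def ht_c18_cnt_L : List ℕ := [1, 2, T_s1_O, 0, 0, 2, 4, T_s2_O, 0, 0, 5, 9, T_s40_O, 1, 0]

theorem ht_c18_cnt_P : Prob 100 7 (grp 100 HSM.E) ht_c18_cnt_EG [t_g183] [t_g183] ht_c18_K ht_c18_cnt_L 0 0 :=
  Sym.prob t_hn t_hk ht_c18_sym ht_c18_cnt_EG_ok (grp_cons_le HSM.g1_T (grp_cons_le HSM.g2_T (grp_cons_le HSM.g3_T (grp_cons_le HSM.g4_T (grp_cons_le HSM.g7_T (grp_cons_le HSM.g8_T (grp_cons_le HSM.g11_T (grp_cons_le HSM.g12_T (grp_cons_le HSM.g13_T (grp_cons_le HSM.g16_T (grp_cons_le t_g142_T (grp_cons_le t_g143_T (grp_cons_le t_g13_T (grp_cons_le t_g14_T (grp_cons_le t_g15_T (grp_cons_le t_g16_T (grp_cons_le t_g17_T (grp_cons_le t_g18_T (grp_cons_le t_g19_T (grp_cons_le t_g12_T (grp_nil_le _))))))))))))))))))))) (Frames.cons T_s1_F (Frames.cons T_s2_F (Frames.cons T_s40_F Frames.nil))) (okE_cons.2 ⟨t_g183_ok, okE_nil _⟩) _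

noncomputable def ht_c18_cnt_t : BT := (BT.fix (nat_lit 1) (BT.frm (nat_lit 0) (nat_lit 261) (nat_lit 261) [nat_lit 0] (BT.pln (nat_lit 0) (nat_lit 1) (BT.br (nat_lit 0) (nat_lit 95) [nat_lit 1] (BT.dead (nat_lit 90) (BT.frm (nat_lit 1) (nat_lit 721157) (nat_lit 0xa0d0105) [nat_lit 0, nat_lit 3] (BT.pln (nat_lit 0) (nat_lit 3) (BT.img (nat_lit 1) (nat_lit 0) (BT.and (nat_lit 1) (nat_lit 0) (BT.img (nat_lit 1) (nat_lit 0) (BT.and (nat_lit 3) (nat_lit 0) (BT.img (nat_lit 1) (nat_lit 0) (BT.and (nat_lit 4) (nat_lit 0) (BT.img (nat_lit 1) (nat_lit 0) (BT.and (nat_lit 0) (nat_lit 7) (BT.cnt (nat_lit 0)))))))))))) (BT.kid (nat_lit 95) (nat_lit 1) (BT.frm (nat_lit 1) (nat_lit 721157) (nat_lit 721157) [nat_lit 0, nat_lit 3] (BT.pln (nat_lit 0) (nat_lit 3) (BT.img (nat_lit 1) (nat_lit 0) (BT.and (nat_lit 1) (nat_lit 0) (BT.img (nat_lit 1) (nat_lit 0) (BT.and (nat_lit 3) (nat_lit 0) (BT.img (nat_lit 1) (nat_lit 0) (BT.and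 (nat_lit 4) (nat_lit 0) (BT.img (nat_lit 1) (nat_lit 0) (BT.and (nat_lit 7) (nat_lit 0) (BT.img (nat_lit 1) (nat_lit 0) (BT.and (nat_lit 8) (nat_lit 0) (BT.img (nat_lit 1) (nat_lit 0) (BT.img (nat_lit 1) (nat_lit 0) (BT.and (nat_lit 12) (nat_lit 0) (BT.img (nat_lit 1) (nat_lit 0) (BT.and (nat_lit 13) (nat_lit 0) (BT.img (nat_lit 1) (nat_lit 0) (BT.img (nat_lit 1) (nat_lit 18) (BT.one (nat_lit 2) (nat_lit 0x1515171517191e1c281c0b0105) (nat_lit 0x1515171517191e1c281c0b0105) [nat_lit 1, nat_lit 6, nat_lit 0, nat_lit 19, nat_lit 22])))))))))))))))))))) BT.nil))))))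

theorem ht_c18_cnt : Cnt 100 (grp 100 HSM.E) [t_g183] [t_g183] 0 0 0 0 11 :=
  BT.sound ht_c18_cnt_P Known.nil (t := ht_c18_cnt_t) (d := 0) (by decide +kernel)

theorem ht_c18_ge : 11 ≤ Nat.card (grp 100 ht_c18_K) :=
  Ch.le_card_grp (k := 7) (L := (lab 100 7)) t_hn ht_c18_K_ok (c := (Ch.cons (nat_lit 95) [nat_lit 1] Ch.nil)) (by decide +kernel)

theorem ht_c18_eq : (grp 100 HSM.E) ⊓ Subgroup.centralizer {Net.toPerm 100 t_g183} = grp 100 ht_c18_K :=
  cent_eq ht_c18_sym ht_c18_cnt ht_c18_ge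

theorem ht_c18_card : Nat.card ↥((grp 100 HSM.E) ⊓ Subgroup.centralizer {Net.toPerm 100 t_g183}) = 11 :=
  card_cent ht_c18_sym ht_c18_cnt ht_c18_ge

theorem ht_c18_ord : orderOf (Net.toPerm 100 t_g183) = 11 :=
  orderOf_net t_hn t_hk t_g183_ok (by decide) (ps := [11]) (by set_option linter.unusedSimpArgs false in simp [Nat.primeFactorsList_ofNat]) (by decide +kernel)

theorem t_le186 : grp 100 ht_c19_K ≤ grp 100 HSM.lb_E :=
  grp_le_of_memB t_hn t_hk HSM.lb_E_ok ht_c19_K_ok (ws := [nat_lit 0xd0d0f09110b050b010e]) (by decide +kernel)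

theorem ht_c19_le : grp 100 ht_c19_K ≤ (grp 100 HSM.E) :=
  (t_le186.trans T_s0.le)

theorem ht_c19_mem : Net.toPerm 100 t_g185 ∈ (grp 100 HSM.E) :=
  ht_c19_le (toPerm_mem_grp (E := ht_c19_K) (List.Mem.head _))

theorem ht_c19_sym : Sym 100 (grp 100 HSM.E) [t_g185] ht_c19_K 0 :=
  Sym.of_lab t_hn t_hk (okE_cons.2 ⟨t_g185_ok, okE_nil _⟩) ht_c19_K_ok ht_c19_le (kT := 0) (by decide +kernel)

noncomputable def ht_c19_cnt_L : List ℕ := [1, 2, T_s1_O, 0, 0, 2, 4, T_s2_O, 0, 0, 5, 9, T_s40_O, 1, 0]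

theorem ht_c19_cnt_P : Prob 100 7 (grp 100 HSM.E) ht_c19_cnt_EG [t_g185] [t_g185] ht_c19_K ht_c19_cnt_L 0 0 :=
  Sym.prob t_hn t_hk ht_c19_sym ht_c19_cnt_EG_ok (grp_cons_le HSM.g1_T (grp_cons_le HSM.g2_T (grp_cons_le HSM.g3_T (grp_cons_le HSM.g4_T (grp_cons_le HSM.g7_T (grp_cons_le HSM.g8_T (grp_cons_le HSM.g11_T (grp_cons_le HSM.g12_T (grp_cons_le HSM.g13_T (grp_cons_le HSM.g16_T (grp_cons_le t_g142_T (grp_cons_le t_g143_T (grp_cons_le t_g13_T (grp_cons_le t_g14_T (grp_cons_le t_g15_T (grp_cons_le t_g16_T (grp_cons_le t_g17_T (grp_cons_le t_g18_T (grp_cons_le t_g19_T (grp_cons_le t_g12_T (grp_nil_le _))))))))))))))))))))) (Frames.cons T_s1_F (Frames.cons T_s2_F (Frames.cons T_s40_F Frames.nil))) (okE_cons.2 ⟨t_g185_ok, okE_nil _⟩) _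

noncomputable def ht_c19_cnt_t : BT := (BT.fix (nat_lit 1) (BT.frm (nat_lit 0) (nat_lit 261) (nat_lit 261) [nat_lit 0] (BT.pln (nat_lit 0) (nat_lit 1) (BT.br (nat_lit 0) (nat_lit 95) [nat_lit 1] (BT.dead (nat_lit 90) (BT.frm (nat_lit 1) (nat_lit 721157) (nat_lit 0xa0d0105) [nat_lit 0, nat_lit 3] (BT.pln (nat_lit 0) (nat_lit 3) (BT.img (nat_lit 1) (nat_lit 0) (BT.and (nat_lit 1) (nat_lit 0) (BT.img (nat_lit 1) (nat_lit 0) (BT.and (nat_lit 3) (nat_lit 0) (BT.img (nat_lit 1) (nat_lit 0) (BT.and (nat_lit 4) (nat_lit 0) (BT.img (nat_lit 1) (nat_lit 0) (BT.and (nat_lit 0) (nat_lit 7) (BT.cnt (nat_lit 0)))))))))))) (BT.kid (nat_lit 95) (nat_lit 1) (BT.frm (nat_lit 1) (nat_lit 721157) (nat_lit 721157) [nat_lit 0, nat_lit 3] (BT.pln (nat_lit 0) (nat_lit 3) (BT.img (nat_lit 1) (nat_lit 0) (BT.and (nat_lit 1) (nat_lit 0) (BT.img (nat_lit 1) (nat_lit 0) (BT.and (nat_lit 3) (nat_lit 0) (BT.img (nat_lit 1) (nat_lit 0) (BT.and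 (nat_lit 4) (nat_lit 0) (BT.img (nat_lit 1) (nat_lit 0) (BT.img (nat_lit 1) (nat_lit 0) (BT.img (nat_lit 1) (nat_lit 10) (BT.one (nat_lit 2) (nat_lit 0x161d281b0b0105) (nat_lit 0x161d281b0b0105) [nat_lit 1, nat_lit 2, nat_lit 0, nat_lit 11, nat_lit 14])))))))))))) BT.nil))))))

theorem ht_c19_cnt : Cnt 100 (grp 100 HSM.E) [t_g185] [t_g185] 0 0 0 0 11 :=
  BT.sound ht_c19_cnt_P Known.nil (t := ht_c19_cnt_t) (d := 0) (by decide +kernel)

theorem ht_c19_ge : 11 ≤ Nat.card (grp 100 ht_c19_K) :=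
  Ch.le_card_grp (k := 7) (L := (lab 100 7)) t_hn ht_c19_K_ok (c := (Ch.cons (nat_lit 95) [nat_lit 1] Ch.nil)) (by decide +kernel)

theorem ht_c19_eq : (grp 100 HSM.E) ⊓ Subgroup.centralizer {Net.toPerm 100 t_g185} = grp 100 ht_c19_K :=
  cent_eq ht_c19_sym ht_c19_cnt ht_c19_ge

theorem ht_c19_card : Nat.card ↥((grp 100 HSM.E) ⊓ Subgroup.centralizer {Net.toPerm 100 t_g185}) = 11 :=
  card_cent ht_c19_sym ht_c19_cnt ht_c19_ge

theorem ht_c19_ord : orderOf (Net.toPerm 100 t_g185) = 11 :=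
  orderOf_net t_hn t_hk t_g185_ok (by decide) (ps := [11]) (by set_option linter.unusedSimpArgs false in simp [Nat.primeFactorsList_ofNat]) (by decide +kernel)

theorem t_le189 : grp 100 ht_c20_K ≤ grp 100 HSM.lb_E :=
  grp_le_of_memB t_hn t_hk HSM.lb_E_ok ht_c20_K_ok (ws := [nat_lit 0xd0d0b0d050713010a04, nat_lit 0x130a0d050b070101]) (by decide +kernel)

theorem ht_c20_le : grp 100 ht_c20_K ≤ (grp 100 HSM.E) :=
  (t_le189.trans T_s0.le)

theorem ht_c20_mem : Net.toPerm 100 t_g187 ∈ (grp 100 HSM.E) :=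
  ht_c20_le (toPerm_mem_grp (E := ht_c20_K) (List.Mem.head _))

theorem ht_c20_sym : Sym 100 (grp 100 HSM.E) [t_g187] ht_c20_K 0 :=
  Sym.of_lab t_hn t_hk (okE_cons.2 ⟨t_g187_ok, okE_nil _⟩) ht_c20_K_ok ht_c20_le (kT := 0) (by decide +kernel)

noncomputable def ht_c20_cnt_L : List ℕ := [1, 2, T_s1_O, 0, 0, 2, 5, T_s13_O, 0, 0, 3, 8, T_s14_O, 0, 0, 4, 16, T_s19_O, 0, 0, 6, 39, T_s21_O, 0, 0, 7, 11, T_s22_O, 1, 0]

theorem ht_c20_cnt_P : Prob 100 7 (grp 100 HSM.E) ht_c20_cnt_EG [t_g187] [t_g187] ht_c20_K ht_c20_cnt_L 0 0 :=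
  Sym.prob t_hn t_hk ht_c20_sym ht_c20_cnt_EG_ok (grp_cons_le HSM.g1_T (grp_cons_le HSM.g2_T (grp_cons_le HSM.g3_T (grp_cons_le HSM.g4_T (grp_cons_le HSM.g7_T (grp_cons_le HSM.g8_T (grp_cons_le HSM.g11_T (grp_cons_le HSM.g12_T (grp_cons_le HSM.g13_T (grp_cons_le HSM.g16_T (grp_cons_le t_g51_T (grp_cons_le t_g52_T (grp_cons_le t_g53_T (grp_cons_le t_g54_T (grp_cons_le t_g68_T (grp_cons_le t_g69_T (grp_cons_le t_g67_T (grp_nil_le _)))))))))))))))))) (Frames.cons T_s1_F (Frames.cons T_s13_F (Frames.cons T_s14_F (Frames.cons T_s19_F (Frames.cons T_s21_F (Frames.cons T_s22_F Frames.nil)))))) (okE_cons.2 ⟨t_g187_ok, okE_nil _⟩) _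

noncomputable def ht_c20_cnt_t : BT := (BT.fix (nat_lit 257) (BT.br (nat_lit 0) (nat_lit 88) [nat_lit 1] (BT.kid (nat_lit 88) (nat_lit 6) (BT.dif (nat_lit 1) (nat_lit 0) (BT.frm (nat_lit 1) (nat_lit 0x50e08010b04) (nat_lit 0x50e08010b04) [nat_lit 0, nat_lit 1] (BT.pln (nat_lit 0) (nat_lit 2) (BT.fix (nat_lit 0x1010101) (BT.dif (nat_lit 1) (nat_lit 0) (BT.br (nat_lit 0) (nat_lit 42) [nat_lit 3] (BT.dead (nat_lit 92) (BT.img (nat_lit 1) (nat_lit 0) (BT.img (nat_lit 1) (nat_lit 0) (BT.img (nat_lit 1) (nat_lit 0) (BT.frm (nat_lit 0) (nat_lit 68356) (nat_lit 68356) [nat_lit 9] (BT.pln (nat_lit 0) (nat_lit 1) (BT.frm (nat_lit 3) (nat_lit 0x160a0a050e08010b04) (nat_lit 0x1b13050e08010b04) [nat_lit 3, nat_lit 5, nat_lit 10, nat_lit 11] (BT.pln (nat_lit 0) (nat_lit 15) (BT.and (nat_lit 2) (nat_lit 0) (BT.dif (nat_lit 11) (nat_lit 8) (BT.dif (nat_lit 0) (nat_lit 11) (BT.dif (nat_lit 0) (nat_lit 8) (BT.img (nat_lit 1) (nat_lit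 8) (BT.dif (nat_lit 1) (nat_lit 0) (BT.frm (nat_lit 2) (nat_lit 0xa0a050e08010b04) (nat_lit 0x13050e08010b04) [nat_lit 13, nat_lit 18, nat_lit 19] (BT.pln (nat_lit 0) (nat_lit 7) (BT.and (nat_lit 10) (nat_lit 0) (BT.dif (nat_lit 0) (nat_lit 13) (BT.pln (nat_lit 3) (nat_lit 5) (BT.and (nat_lit 13) (nat_lit 0) (BT.dif (nat_lit 0) (nat_lit 18) (BT.dif (nat_lit 0) (nat_lit 22) (BT.img (nat_lit 1) (nat_lit 9) (BT.dif (nat_lit 1) (nat_lit 0) (BT.img (nat_lit 1) (nat_lit 1) (BT.img (nat_lit 1) (nat_lit 0) (BT.dif (nat_lit 2) (nat_lit 0) (BT.img (nat_lit 1) (nat_lit 1) (BT.img (nat_lit 1) (nat_lit 0) (BT.img (nat_lit 1) (nat_lit 0) (BT.img (nat_lit 1) (nat_lit 0) (BT.dif (nat_lit 4) (nat_lit 0) (BT.img (nat_lit 1) (nat_lit 0) (BT.and (nat_lit 21) (nat_lit 0) (BT.img (nat_lit 1) (nat_lit 0) (BT.and (nat_lit 17) (nat_lit 0) (BT.img (nat_lit 1) (nat_lit 0) (BT.and (nat_lit 23) (nat_lit 0) (BT.img (nat_lit 1) (nat_lit 0) (BT.and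 (nat_lit 30) (nat_lit 0) (BT.frm (nat_lit 4) (nat_lit 0x21160a0a050e08010b04) (nat_lit 0x1d1b13050e08010b04) [nat_lit 36, nat_lit 0, nat_lit 37, nat_lit 39, nat_lit 44, nat_lit 45] (BT.pln (nat_lit 0) (nat_lit 6) (BT.fix (nat_lit 0x10101010101) (BT.pln (nat_lit 36) (nat_lit 10) (BT.and (nat_lit 1) (nat_lit 0) (BT.dif (nat_lit 2) (nat_lit 39) (BT.dif (nat_lit 0) (nat_lit 51) (BT.pln (nat_lit 32) (nat_lit 3) (BT.and (nat_lit 5) (nat_lit 0) (BT.img (nat_lit 1) (nat_lit 0) (BT.and (nat_lit 3) (nat_lit 0) (BT.dif (nat_lit 0) (nat_lit 3) (BT.img (nat_lit 1) (nat_lit 0) (BT.and (nat_lit 6) (nat_lit 0) (BT.img (nat_lit 1) (nat_lit 0) (BT.dif (nat_lit 10) (nat_lit 0) (BT.img (nat_lit 1) (nat_lit 0) (BT.and (nat_lit 15) (nat_lit 0) (BT.cnt (nat_lit 0))))))))))))))))))))))))))))))))))))))))))))))))))))))))))) (BT.kid (nat_lit 42) (nat_lit 1) (BT.frm (nat_lit 0) (nat_lit 68356) (nat_lit 68356) [nat_lit 6] (BT.pln (nat_lit 0)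 (nat_lit 1) (BT.dif (nat_lit 12) (nat_lit 0) (BT.frm (nat_lit 2) (nat_lit 0xa0a050e08010b04) (nat_lit 0xa0a050e08010b04) [nat_lit 3, nat_lit 8, nat_lit 9] (BT.pln (nat_lit 0) (nat_lit 3) (BT.fix (nat_lit 0x10101010101) (BT.dif (nat_lit 1) (nat_lit 0) (BT.img (nat_lit 1) (nat_lit 0) (BT.and (nat_lit 5) (nat_lit 0) (BT.dif (nat_lit 0) (nat_lit 4) (BT.img (nat_lit 1) (nat_lit 10) (BT.img (nat_lit 1) (nat_lit 0) (BT.frm (nat_lit 3) (nat_lit 0x160a0a050e08010b04) (nat_lit 0x160a0a050e08010b04) [nat_lit 0, nat_lit 12, nat_lit 17, nat_lit 18] (BT.pln (nat_lit 0) (nat_lit 5) (BT.dif (nat_lit 4) (nat_lit 0) (BT.pln (nat_lit 2) (nat_lit 14) (BT.dif (nat_lit 1) (nat_lit 0) (BT.img (nat_lit 1) (nat_lit 5) (BT.pln (nat_lit 5) (nat_lit 15) (BT.and (nat_lit 17) (nat_lit 0) (BT.dif (nat_lit 23) (nat_lit 20) (BT.dif (nat_lit 0) (nat_lit 23) (BT.dif (nat_lit 0) (nat_lit 10) (BT.img (nat_lit 1) (nat_lit 5) (BT.dif (nat_lit 1) (nat_lit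 0) (BT.pln (nat_lit 21) (nat_lit 7) (BT.and (nat_lit 24) (nat_lit 0) (BT.dif (nat_lit 0) (nat_lit 9) (BT.pln (nat_lit 24) (nat_lit 5) (BT.and (nat_lit 27) (nat_lit 0) (BT.dif (nat_lit 0) (nat_lit 19) (BT.dif (nat_lit 0) (nat_lit 33) (BT.img (nat_lit 1) (nat_lit 8) (BT.dif (nat_lit 1) (nat_lit 0) (BT.img (nat_lit 1) (nat_lit 1) (BT.img (nat_lit 1) (nat_lit 0) (BT.dif (nat_lit 2) (nat_lit 0) (BT.img (nat_lit 1) (nat_lit 1) (BT.img (nat_lit 1) (nat_lit 0) (BT.img (nat_lit 1) (nat_lit 0) (BT.img (nat_lit 1) (nat_lit 0) (BT.dif (nat_lit 4) (nat_lit 0) (BT.img (nat_lit 1) (nat_lit 0) (BT.and (nat_lit 20) (nat_lit 0) (BT.img (nat_lit 1) (nat_lit 0) (BT.and (nat_lit 17) (nat_lit 0) (BT.img (nat_lit 1) (nat_lit 0) (BT.and (nat_lit 22) (nat_lit 0) (BT.img (nat_lit 1) (nat_lit 0) (BT.and (nat_lit 29) (nat_lit 0) (BT.frm (nat_lit 4) (nat_lit 0x21160a0a050e08010b04) (nat_lit 0x21160a0a050e08010b04) [nat_lit 32, nat_lit 0, nat_lit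 38, nat_lit 50, nat_lit 55, nat_lit 56] (BT.pln (nat_lit 0) (nat_lit 29) (BT.and (nat_lit 35) (nat_lit 0) (BT.one (nat_lit 5) (nat_lit 0x2021160a0a050e08010b04) (nat_lit 0x2021160a0a050e08010b04) [nat_lit 0, nat_lit 35, nat_lit 3, nat_lit 41, nat_lit 53, nat_lit 58, nat_lit 59])))))))))))))))))))))))))))))))))))))))))))))))))))))) BT.nil)))))))) BT.nil)))

theorem ht_c20_cnt : Cnt 100 (grp 100 HSM.E) [t_g187] [t_g187] 0 0 0 0 12 :=
  BT.sound ht_c20_cnt_P Known.nil (t := ht_c20_cnt_t) (d := 0) (by decide +kernel)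

theorem ht_c20_ge : 12 ≤ Nat.card (grp 100 ht_c20_K) :=
  Ch.le_card_grp (k := 7) (L := (lab 100 7)) t_hn ht_c20_K_ok (c := (Ch.cons (nat_lit 88) [nat_lit 1] (Ch.cons (nat_lit 42) [nat_lit 3] Ch.nil))) (by decide +kernel)

theorem ht_c20_eq : (grp 100 HSM.E) ⊓ Subgroup.centralizer {Net.toPerm 100 t_g187} = grp 100 ht_c20_K :=
  cent_eq ht_c20_sym ht_c20_cnt ht_c20_ge

theorem ht_c20_card : Nat.card ↥((grp 100 HSM.E) ⊓ Subgroup.centralizer {Net.toPerm 100 t_g187}) = 12 :=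
  card_cent ht_c20_sym ht_c20_cnt ht_c20_ge

theorem ht_c20_ord : orderOf (Net.toPerm 100 t_g187) = 12 :=
  orderOf_net t_hn t_hk t_g187_ok (by decide) (ps := [2, 3]) (by set_option linter.unusedSimpArgs false in simp [Nat.primeFactorsList_ofNat]) (by decide +kernel)

theorem t_le191 : grp 100 ht_c21_K ≤ grp 100 HSM.lb_E :=
  grp_le_of_memB t_hn t_hk HSM.lb_E_ok ht_c21_K_ok (ws := [nat_lit 0xa0a13070501030b, nat_lit 0xe0f14090e0c060a01060a]) (by decide +kernel)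

theorem ht_c21_le : grp 100 ht_c21_K ≤ (grp 100 HSM.E) :=
  (t_le191.trans T_s0.le)

theorem ht_c21_mem : Net.toPerm 100 t_g190 ∈ (grp 100 HSM.E) :=
  ht_c21_le (toPerm_mem_grp (E := ht_c21_K) (List.Mem.head _))

theorem ht_c21_sym : Sym 100 (grp 100 HSM.E) [t_g190] ht_c21_K 0 :=
  Sym.of_lab t_hn t_hk (okE_cons.2 ⟨t_g190_ok, okE_nil _⟩) ht_c21_K_ok ht_c21_le (kT := 0) (by decide +kernel)

noncomputable def ht_c21_cnt_L : List ℕ := [1, 2, T_s1_O, 0, 0, 5, 9, T_s38_O, 1, 0]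

theorem ht_c21_cnt_P : Prob 100 7 (grp 100 HSM.E) ht_c21_cnt_EG [t_g190] [t_g190] ht_c21_K ht_c21_cnt_L 0 0 :=
  Sym.prob t_hn t_hk ht_c21_sym ht_c21_cnt_EG_ok (grp_cons_le HSM.g1_T (grp_cons_le HSM.g2_T (grp_cons_le HSM.g3_T (grp_cons_le HSM.g4_T (grp_cons_le HSM.g7_T (grp_cons_le HSM.g8_T (grp_cons_le HSM.g11_T (grp_cons_le HSM.g12_T (grp_cons_le HSM.g13_T (grp_cons_le HSM.g16_T (grp_nil_le _))))))))))) (Frames.cons T_s1_F (Frames.cons T_s38_F Frames.nil)) (okE_cons.2 ⟨t_g190_ok, okE_nil _⟩) _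

noncomputable def ht_c21_cnt_t : BT := (BT.fix (nat_lit 0x101010101) (BT.br (nat_lit 0) (nat_lit 92) [nat_lit 1] (BT.dead (nat_lit 75) (BT.frm (nat_lit 0) (nat_lit 264) (nat_lit 270) [nat_lit 0] (BT.pln (nat_lit 0) (nat_lit 1) (BT.dif (nat_lit 0) (nat_lit 3) (BT.img (nat_lit 1) (nat_lit 0) (BT.and (nat_lit 2) (nat_lit 0) (BT.br (nat_lit 0) (nat_lit 51) [nat_lit 4] (BT.dead (nat_lit 42) (BT.img (nat_lit 1) (nat_lit 6) (BT.img (nat_lit 1) (nat_lit 0) (BT.img (nat_lit 1) (nat_lit 0) (BT.frm (nat_lit 1) (nat_lit 0x1310110a0a0f05140108) (nat_lit 0x130d1009100508010e) [nat_lit 3, nat_lit 0, nat_lit 1, nat_lit 2, nat_lit 9] (BT.pln (nat_lit 0) (nat_lit 5) (BT.img (nat_lit 1) (nat_lit 5) (BT.and (nat_lit 1) (nat_lit 0) (BT.cnt (nat_lit 0))))))))) BT.nil))))))) (BT.kid (nat_lit 92) (nat_lit 3) (BT.frm (nat_lit 0) (nat_lit 264) (nat_lit 264) [nat_lit 0] (BT.pln (nat_lit 0) (nat_lit 1) (BT.dif (nat_lit 0) (nat_lit 3) (BT.img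 (nat_lit 1) (nat_lit 0) (BT.and (nat_lit 2) (nat_lit 0) (BT.br (nat_lit 0) (nat_lit 51) [nat_lit 3] (BT.kid (nat_lit 51) (nat_lit 1) (BT.img (nat_lit 1) (nat_lit 6) (BT.img (nat_lit 1) (nat_lit 0) (BT.img (nat_lit 1) (nat_lit 0) (BT.one (nat_lit 1) (nat_lit 0x1310110a0a0f05140108) (nat_lit 0x1310110a0a0f05140108) [nat_lit 3, nat_lit 0, nat_lit 1, nat_lit 2, nat_lit 9])))) BT.nil))))))) BT.nil))))

theorem ht_c21_cnt : Cnt 100 (grp 100 HSM.E) [t_g190] [t_g190] 0 0 0 0 15 :=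
  BT.sound ht_c21_cnt_P Known.nil (t := ht_c21_cnt_t) (d := 0) (by decide +kernel)

theorem ht_c21_ge : 15 ≤ Nat.card (grp 100 ht_c21_K) :=
  Ch.le_card_grp (k := 7) (L := (lab 100 7)) t_hn ht_c21_K_ok (c := (Ch.cons (nat_lit 92) [nat_lit 1] (Ch.cons (nat_lit 51) [nat_lit 3] Ch.nil))) (by decide +kernel)

theorem ht_c21_eq : (grp 100 HSM.E) ⊓ Subgroup.centralizer {Net.toPerm 100 t_g190} = grp 100 ht_c21_K :=
  cent_eq ht_c21_sym ht_c21_cnt ht_c21_ge

theorem ht_c21_card : Nat.card ↥((grp 100 HSM.E) ⊓ Subgroup.centralizer {Net.toPerm 100 t_g190}) = 15 :=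
  card_cent ht_c21_sym ht_c21_cnt ht_c21_ge

theorem ht_c21_ord : orderOf (Net.toPerm 100 t_g190) = 15 :=
  orderOf_net t_hn t_hk t_g190_ok (by decide) (ps := [3, 5]) (by set_option linter.unusedSimpArgs false in simp [Nat.primeFactorsList_ofNat]) (by decide +kernel)

theorem t_le193 : grp 100 ht_c22_K ≤ grp 100 HSM.lb_E :=
  grp_le_of_memB t_hn t_hk HSM.lb_E_ok ht_c22_K_ok (ws := [nat_lit 0xd0d110913090609010601, nat_lit 0x13120d0c120809020a]) (by decide +kernel)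

theorem ht_c22_le : grp 100 ht_c22_K ≤ (grp 100 HSM.E) :=
  (t_le193.trans T_s0.le)

theorem ht_c22_mem : Net.toPerm 100 t_g192 ∈ (grp 100 HSM.E) :=
  ht_c22_le (toPerm_mem_grp (E := ht_c22_K) (List.Mem.head _))

theorem ht_c22_sym : Sym 100 (grp 100 HSM.E) [t_g192] ht_c22_K 0 :=
  Sym.of_lab t_hn t_hk (okE_cons.2 ⟨t_g192_ok, okE_nil _⟩) ht_c22_K_ok ht_c22_le (kT := 0) (by decide +kernel)

theorem t_le198 : grp 100 t_V197 ≤ grp 100 t_V125 :=
  grp_le_of_memB t_hn t_hk t_V125_ok t_V197_ok (ws := [nat_lit 0x7010405, nat_lit 66821, nat_lit 524550]) (by decide +kernel)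

theorem T_s51 : Stab 100 (grp 100 HSM.E) [nat_lit 83, nat_lit 4, nat_lit 3, nat_lit 0] t_V197 8 :=
  Stab.step (k := 7) (L := (lab 100 7)) t_hn T_s36 t_V197_ok t_le198 (c := (Ch.cons (nat_lit 23) [nat_lit 1] (Ch.cons (nat_lit 1) [nat_lit 3] (Ch.cons (nat_lit 5) [nat_lit 5] Ch.nil)))) (by decide +kernel)

theorem T_s52 : Stab 100 (grp 100 HSM.E) [nat_lit 23, nat_lit 83, nat_lit 4, nat_lit 3, nat_lit 0] t_V199 4 :=
  Stab.step (k := 7) (L := (lab 100 7)) t_hn T_s51 t_V199_ok (grp_mono (List.subset_append_right [t_g194] _)) (c := (Ch.cons (nat_lit 1) [nat_lit 1] (Ch.cons (nat_lit 5) [nat_lit 3] Ch.nil))) (by decide +kernel)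

theorem T_s53 : Stab 100 (grp 100 HSM.E) [nat_lit 1, nat_lit 23, nat_lit 83, nat_lit 4, nat_lit 3, nat_lit 0] t_V200 2 :=
  Stab.step (k := 7) (L := (lab 100 7)) t_hn T_s52 t_V200_ok (grp_mono (List.subset_append_right [t_g195] _)) (c := (Ch.cons (nat_lit 5) [nat_lit 1] Ch.nil)) (by decide +kernel)

theorem T_s54 : Stab 100 (grp 100 HSM.E) [nat_lit 5, nat_lit 1, nat_lit 23, nat_lit 83, nat_lit 4, nat_lit 3, nat_lit 0] t_V201 1 :=
  Stab.step (k := 7) (L := (lab 100 7)) t_hn T_s53 t_V201_ok (grp_mono (List.subset_append_right [t_g196] _)) (c := Ch.nil) (by decide +kernel)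

theorem t_g195_T : Net.toPerm 100 t_g195 ∈ (grp 100 HSM.E) :=
  T_s52.le (toPerm_mem_grp (E := t_V199) (List.Mem.head _))

theorem t_g196_T : Net.toPerm 100 t_g196 ∈ (grp 100 HSM.E) :=
  T_s52.le (toPerm_mem_grp (E := t_V199) (List.Mem.tail _ (List.Mem.head _)))

theorem t_g194_T : Net.toPerm 100 t_g194 ∈ (grp 100 HSM.E) :=
  T_s51.le (toPerm_mem_grp (E := t_V197) (List.Mem.head _))

noncomputable def T_s54_O : ℕ := (nat_lit 0x3333266666ccccd99999333321f07c1f03e0f83e0f83e0f83ee63398c67319ce63398c673184db24d926c93649b64db26d920000000000000000000000001000000000000000000000000800000000000000000000000100000800000000000000000000000000000000000000080000000000000000000000000000020000000000000000000000020)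

theorem T_s54_F : Frame 100 (grp 100 HSM.E) 7 11 T_s54_O 1 1 :=
  IsBase.frame T_s54.isBase (by decide +kernel)

noncomputable def T_s53_O : ℕ := (nat_lit 0x8000000000000000000000000100000000000000000000000001000000000000000000000000000400000000000000000000000001000000000000000000000000001000000000000000000000000020000000000000000000000000008000000000000000000000000400000000000000000000000010000000000000000000000000200000000000000000000000000080000000000000000000000000008000000000000000000000000100000c00000000000000000000000000400200000000000000000000200010000000000000000000000008008000000000000000000000001200000000000000001000000008000000000000000000200000400000000000000000002000010000000000000000400000000400000000000000000000400010000000000000100000000000400000000000020000000000002000000000000000400000000040000000000000000004000000800000000000080000000000040000000000200000000000001000000000000010000000000080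00000008000000000000000400000000400000000000000010000000000000000000000020400000000000000200000000010000000000200000000000000800000000000000040000000020000000000000000000000021000000000000000000800000040000000000000000000100002000000000000000001000000100000000000000000000000404000000000000800000000000200000000000000080000000008000000001000000000000000400000000008000000000000020000000000000000000200001000000000000000200000000080000000000000000800000004000000040000000000000000100000000000002000000000008000000000000000000000002400000080000000000000000020000000000000000000000000100000000000000000000000080000000000000000000000010000080000000000000000000000000000000000000008000000000000000000000000000002)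

theorem T_s53_F : Frame 100 (grp 100 HSM.E) 6 59 T_s53_O 0 1 :=
  Stab.frame t_hn T_s53 (by decide +kernel)

noncomputable def ht_c22_cnt_L : List ℕ := [1, 2, T_s1_O, 0, 0, 6, 59, T_s53_O, 0, 0, 7, 11, T_s54_O, 1, 0]

theorem ht_c22_cnt_P : Prob 100 7 (grp 100 HSM.E) ht_c22_cnt_EG [t_g192] [t_g192] ht_c22_K ht_c22_cnt_L 0 0 :=
  Sym.prob t_hn t_hk ht_c22_sym ht_c22_cnt_EG_ok (grp_cons_le HSM.g1_T (grp_cons_le HSM.g2_T (grp_cons_le HSM.g3_T (grp_cons_le HSM.g4_T (grp_cons_le HSM.g7_T (grp_cons_le HSM.g8_T (grp_cons_le HSM.g11_T (grp_cons_le HSM.g12_T (grp_cons_le HSM.g13_T (grp_cons_le HSM.g16_T (grp_cons_le t_g195_T (grp_cons_le t_g196_T (grp_cons_le t_g194_T (grp_nil_le _)))))))))))))) (Frames.cons T_s1_F (Frames.cons T_s53_F (Frames.cons T_s54_F Frames.nil))) (okE_cons.2 ⟨t_g192_ok, okE_nil _⟩) _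

noncomputable def ht_c22_cnt_t : BT := (BT.fix (nat_lit 0x1010101010101010101) (BT.br (nat_lit 0) (nat_lit 98) [nat_lit 1] (BT.dead (nat_lit 89) (BT.frm (nat_lit 0) (nat_lit 67593) (nat_lit 2) [nat_lit 0] (BT.pln (nat_lit 0) (nat_lit 1) (BT.img (nat_lit 1) (nat_lit 2) (BT.and (nat_lit 1) (nat_lit 0) (BT.cnt (nat_lit 0)))))) (BT.kid (nat_lit 98) (nat_lit 2) (BT.img (nat_lit 1) (nat_lit 0) (BT.img (nat_lit 1) (nat_lit 0) (BT.img (nat_lit 1) (nat_lit 0) (BT.img (nat_lit 1) (nat_lit 0) (BT.img (nat_lit 1) (nat_lit 0) (BT.frm (nat_lit 1) (nat_lit 0x190d0d0b110706010809) (nat_lit 0x190d0d0b110706010809) [nat_lit 2, nat_lit 3, nat_lit 1, nat_lit 0, nat_lit 4, nat_lit 5] (BT.pln (nat_lit 0) (nat_lit 6) (BT.br (nat_lit 0) (nat_lit 97) [nat_lit 3] (BT.kid (nat_lit 97) (nat_lit 1) (BT.one (nat_lit 2) (nat_lit 0x190d0d0b110706010809) (nat_lit 0x190d0d0b110706010809) [nat_lit 0, nat_lit 5, nat_lit 6, nat_lit 4, nat_lit 3, nat_lit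 7, nat_lit 8]) BT.nil))))))))) BT.nil))))

theorem ht_c22_cnt : Cnt 100 (grp 100 HSM.E) [t_g192] [t_g192] 0 0 0 0 20 :=
  BT.sound ht_c22_cnt_P Known.nil (t := ht_c22_cnt_t) (d := 0) (by decide +kernel)

theorem ht_c22_ge : 20 ≤ Nat.card (grp 100 ht_c22_K) :=
  Ch.le_card_grp (k := 7) (L := (lab 100 7)) t_hn ht_c22_K_ok (c := (Ch.cons (nat_lit 98) [nat_lit 1] (Ch.cons (nat_lit 97) [nat_lit 3] Ch.nil))) (by decide +kernel)

theorem ht_c22_eq : (grp 100 HSM.E) ⊓ Subgroup.centralizer {Net.toPerm 100 t_g192} = grp 100 ht_c22_K :=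
  cent_eq ht_c22_sym ht_c22_cnt ht_c22_ge

theorem ht_c22_card : Nat.card ↥((grp 100 HSM.E) ⊓ Subgroup.centralizer {Net.toPerm 100 t_g192}) = 20 :=
  card_cent ht_c22_sym ht_c22_cnt ht_c22_ge

theorem ht_c22_ord : orderOf (Net.toPerm 100 t_g192) = 20 :=
  orderOf_net t_hn t_hk t_g192_ok (by decide) (ps := [2, 5]) (by set_option linter.unusedSimpArgs false in simp [Nat.primeFactorsList_ofNat]) (by decide +kernel)

theorem t_le203 : grp 100 ht_c23_K ≤ grp 100 HSM.lb_E :=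
  grp_le_of_memB t_hn t_hk HSM.lb_E_ok ht_c23_K_ok (ws := [nat_lit 0x13100a1401030c, nat_lit 0x13120d0c120809020a]) (by decide +kernel)

theorem ht_c23_le : grp 100 ht_c23_K ≤ (grp 100 HSM.E) :=
  (t_le203.trans T_s0.le)

theorem ht_c23_mem : Net.toPerm 100 t_g202 ∈ (grp 100 HSM.E) :=
  ht_c23_le (toPerm_mem_grp (E := ht_c23_K) (List.Mem.head _))

theorem ht_c23_sym : Sym 100 (grp 100 HSM.E) [t_g202] ht_c23_K 0 :=
  Sym.of_lab t_hn t_hk (okE_cons.2 ⟨t_g202_ok, okE_nil _⟩) ht_c23_K_ok ht_c23_le (kT := 0) (by decide +kernel)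

noncomputable def ht_c23_cnt_L : List ℕ := [1, 2, T_s1_O, 0, 0, 6, 59, T_s53_O, 0, 0, 7, 11, T_s54_O, 1, 0]

theorem ht_c23_cnt_P : Prob 100 7 (grp 100 HSM.E) ht_c23_cnt_EG [t_g202] [t_g202] ht_c23_K ht_c23_cnt_L 0 0 :=
  Sym.prob t_hn t_hk ht_c23_sym ht_c23_cnt_EG_ok (grp_cons_le HSM.g1_T (grp_cons_le HSM.g2_T (grp_cons_le HSM.g3_T (grp_cons_le HSM.g4_T (grp_cons_le HSM.g7_T (grp_cons_le HSM.g8_T (grp_cons_le HSM.g11_T (grp_cons_le HSM.g12_T (grp_cons_le HSM.g13_T (grp_cons_le HSM.g16_T (grp_cons_le t_g195_T (grp_cons_le t_g196_T (grp_cons_le t_g194_T (grp_nil_le _)))))))))))))) (Frames.cons T_s1_F (Frames.cons T_s53_F (Frames.cons T_s54_F Frames.nil))) (okE_cons.2 ⟨t_g202_ok, okE_nil _⟩) _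

noncomputable def ht_c23_cnt_t : BT := (BT.fix (nat_lit 0x1010101010101010101) (BT.br (nat_lit 0) (nat_lit 98) [nat_lit 1] (BT.dead (nat_lit 89) (BT.frm (nat_lit 0) (nat_lit 67593) (nat_lit 2) [nat_lit 0] (BT.pln (nat_lit 0) (nat_lit 1) (BT.img (nat_lit 1) (nat_lit 2) (BT.and (nat_lit 1) (nat_lit 0) (BT.cnt (nat_lit 0)))))) (BT.kid (nat_lit 98) (nat_lit 2) (BT.img (nat_lit 1) (nat_lit 0) (BT.img (nat_lit 1) (nat_lit 0) (BT.img (nat_lit 1) (nat_lit 0) (BT.img (nat_lit 1) (nat_lit 0) (BT.img (nat_lit 1) (nat_lit 0) (BT.frm (nat_lit 1) (nat_lit 0x190d0d0b110706010809) (nat_lit 0x190d0d0b110706010809) [nat_lit 2, nat_lit 3, nat_lit 1, nat_lit 0, nat_lit 4, nat_lit 5] (BT.pln (nat_lit 0) (nat_lit 6) (BT.br (nat_lit 0) (nat_lit 97) [nat_lit 3] (BT.kid (nat_lit 97) (nat_lit 1) (BT.one (nat_lit 2) (nat_lit 0x190d0d0b110706010809) (nat_lit 0x190d0d0b110706010809) [nat_lit 0, nat_lit 5, nat_lit 6, nat_lit 4, nat_lit 3, nat_lit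 7, nat_lit 8]) BT.nil))))))))) BT.nil))))

theorem ht_c23_cnt : Cnt 100 (grp 100 HSM.E) [t_g202] [t_g202] 0 0 0 0 20 :=
  BT.sound ht_c23_cnt_P Known.nil (t := ht_c23_cnt_t) (d := 0) (by decide +kernel)

theorem ht_c23_ge : 20 ≤ Nat.card (grp 100 ht_c23_K) :=
  Ch.le_card_grp (k := 7) (L := (lab 100 7)) t_hn ht_c23_K_ok (c := (Ch.cons (nat_lit 98) [nat_lit 1] (Ch.cons (nat_lit 97) [nat_lit 3] Ch.nil))) (by decide +kernel)

theorem ht_c23_eq : (grp 100 HSM.E) ⊓ Subgroup.centralizer {Net.toPerm 100 t_g202} = grp 100 ht_c23_K :=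
  cent_eq ht_c23_sym ht_c23_cnt ht_c23_ge

theorem ht_c23_card : Nat.card ↥((grp 100 HSM.E) ⊓ Subgroup.centralizer {Net.toPerm 100 t_g202}) = 20 :=
  card_cent ht_c23_sym ht_c23_cnt ht_c23_ge

theorem ht_c23_ord : orderOf (Net.toPerm 100 t_g202) = 20 :=
  orderOf_net t_hn t_hk t_g202_ok (by decide) (ps := [2, 5]) (by set_option linter.unusedSimpArgs false in simp [Nat.primeFactorsList_ofNat]) (by decide +kernel)

noncomputable def ht_xs : List Net := [Net.nil, t_g1, t_g28, t_g44, t_g61, t_g75, t_g92, t_g108, t_g121, t_g128, t_g131, t_g136, t_g140, t_g147, t_g158, t_g163, t_g169, t_g180, t_g183, t_g185, t_g187, t_g190, t_g192, t_g202]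

noncomputable def ht_cs : List ℕ := [44352000, 7680, 2880, 360, 3840, 256, 64, 500, 300, 25, 36, 24, 7, 16, 16, 16, 20, 20, 11, 11, 12, 15, 20, 20]

noncomputable def ht_os : List ℕ := [1, 2, 2, 3, 4, 4, 4, 5, 5, 5, 6, 6, 7, 8, 8, 8, 10, 10, 11, 11, 12, 15, 20, 20]

theorem ht_reps : Reps 100 (grp 100 HSM.E) ht_xs ht_cs ht_os :=
  (Reps.cons rfl (one_mem _) (card_cent_nil HSM.card_grp) orderOf_one (Reps.cons t_g1_ok ht_c1_mem ht_c1_card ht_c1_ord (Reps.cons t_g28_ok ht_c2_mem ht_c2_card ht_c2_ord (Reps.cons t_g44_ok ht_c3_mem ht_c3_card ht_c3_ord (Reps.cons t_g61_ok ht_c4_mem ht_c4_card ht_c4_ord (Reps.cons t_g75_ok ht_c5_mem ht_c5_card ht_c5_ord (Reps.cons t_g92_ok ht_c6_mem ht_c6_card ht_c6_ord (Reps.cons t_g108_ok ht_c7_mem ht_c7_card ht_c7_ord (Reps.cons t_g121_ok ht_c8_mem ht_c8_card ht_c8_ord (Reps.cons t_g128_ok ht_c9_mem ht_c9_card ht_c9_ord (Reps.cons t_g131_ok ht_c10_mem ht_c10_card ht_c10_ord (Reps.cons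 t_g136_ok ht_c11_mem ht_c11_card ht_c11_ord (Reps.cons t_g140_ok ht_c12_mem ht_c12_card ht_c12_ord (Reps.cons t_g147_ok ht_c13_mem ht_c13_card ht_c13_ord (Reps.cons t_g158_ok ht_c14_mem ht_c14_card ht_c14_ord (Reps.cons t_g163_ok ht_c15_mem ht_c15_card ht_c15_ord (Reps.cons t_g169_ok ht_c16_mem ht_c16_card ht_c16_ord (Reps.cons t_g180_ok ht_c17_mem ht_c17_card ht_c17_ord (Reps.cons t_g183_ok ht_c18_mem ht_c18_card ht_c18_ord (Reps.cons t_g185_ok ht_c19_mem ht_c19_card ht_c19_ord (Reps.cons t_g187_ok ht_c20_mem ht_c20_card ht_c20_ord (Reps.cons t_g190_ok ht_c21_mem ht_c21_card ht_c21_ord (Reps.cons t_g192_ok ht_c22_mem ht_c22_card ht_c22_ord (Reps.cons t_g202_ok ht_c23_mem ht_c23_card ht_c23_ord Reps.nil))))))))))))))))))))))))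

noncomputable def ht_nc15_13_cnt_L : List ℕ := [1, 2, T_s1_O, 0, 0, 2, 5, T_s13_O, 0, 0, 5, 14, T_s28_O, 0, 0, 7, 39, T_s42_O, 0, 0]

theorem ht_nc15_13_cnt_P : Prob 100 7 (grp 100 HSM.E) ht_nc15_13_cnt_EG [t_g163] [t_g147] ht_c13_K ht_nc15_13_cnt_L 0 0 :=
  Sym.prob t_hn t_hk ht_c13_sym ht_nc15_13_cnt_EG_ok (grp_cons_le HSM.g1_T (grp_cons_le HSM.g2_T (grp_cons_le HSM.g3_T (grp_cons_le HSM.g4_T (grp_cons_le HSM.g7_T (grp_cons_le HSM.g8_T (grp_cons_le HSM.g11_T (grp_cons_le HSM.g12_T (grp_cons_le HSM.g13_T (grp_cons_le HSM.g16_T (grp_cons_le t_g83_T (grp_cons_le t_g84_T (grp_cons_le t_g85_T (grp_cons_le t_g82_T (grp_cons_le t_g151_T (grp_cons_le t_g100_T (grp_cons_le t_g152_T (grp_cons_le t_g99_T (grp_cons_le t_g101_T (grp_cons_le t_g102_T (grp_nil_le _))))))))))))))))))))) (Frames.cons T_s1_F (Frames.cons T_s13_F (Frames.cons T_s28_F (Frames.cons T_s42_F Frames.nil)))) (okE_cons.2 ⟨t_g163_ok, okE_nil _⟩) _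

noncomputable def ht_nc15_13_cnt_t : BT := (BT.fix (nat_lit 257) (BT.br (nat_lit 0) (nat_lit 87) [nat_lit 1, nat_lit 3] (BT.dead (nat_lit 78) (BT.frm (nat_lit 0) (nat_lit 274) (nat_lit 266) [nat_lit 0] (BT.pln (nat_lit 0) (nat_lit 1) (BT.fix (nat_lit 0x1010101) (BT.and (nat_lit 1) (nat_lit 0) (BT.dif (nat_lit 0) (nat_lit 5) (BT.br (nat_lit 0) (nat_lit 82) [nat_lit 5] (BT.dead (nat_lit 66) (BT.img (nat_lit 1) (nat_lit 0) (BT.img (nat_lit 1) (nat_lit 0) (BT.dif (nat_lit 9) (nat_lit 8) (BT.img (nat_lit 1) (nat_lit 9) (BT.dif (nat_lit 1) (nat_lit 0) (BT.and (nat_lit 0) (nat_lit 9) (BT.dif (nat_lit 3) (nat_lit 10) (BT.frm (nat_lit 3) (nat_lit 0x1d27151c0b0f050e0112) (nat_lit 0x1e24161b1b0c0508010a) [nat_lit 5, nat_lit 6, nat_lit 7, nat_lit 1, nat_lit 3, nat_lit 0, nat_lit 13] (BT.pln (nat_lit 0) (nat_lit 10) (BT.frm (nat_lit 1) (nat_lit 0x50e0112) (nat_lit 0x508010a) [nat_lit 2, nat_lit 15] (BT.pln (nat_lit 0) (nat_lit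 2) (BT.img (nat_lit 1) (nat_lit 0) (BT.frm (nat_lit 2) (nat_lit 0x151c0b0f050e0112) (nat_lit 0x161b1b0c0508010a) [nat_lit 12, nat_lit 6, nat_lit 8, nat_lit 5, nat_lit 18] (BT.pln (nat_lit 0) (nat_lit 10) (BT.img (nat_lit 1) (nat_lit 0) (BT.and (nat_lit 4) (nat_lit 0) (BT.img (nat_lit 1) (nat_lit 0) (BT.and (nat_lit 5) (nat_lit 0) (BT.img (nat_lit 1) (nat_lit 0) (BT.and (nat_lit 10) (nat_lit 0) (BT.cnt (nat_lit 0)))))))))))))))))))))) (BT.dead (nat_lit 49) (BT.img (nat_lit 1) (nat_lit 0) (BT.img (nat_lit 1) (nat_lit 0) (BT.dif (nat_lit 9) (nat_lit 8) (BT.img (nat_lit 1) (nat_lit 9) (BT.dif (nat_lit 1) (nat_lit 0) (BT.and (nat_lit 0) (nat_lit 9) (BT.dif (nat_lit 3) (nat_lit 10) (BT.frm (nat_lit 3) (nat_lit 0x1d27151c0b0f050e0112) (nat_lit 0x1e1b1b0c0508010a) [nat_lit 5, nat_lit 6, nat_lit 7, nat_lit 1, nat_lit 3, nat_lit 0, nat_lit 13] (BT.pln (nat_lit 0) (nat_lit 10) (BT.frm (nat_lit 1) (nat_lit 0x50e0112) (nat_lit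 0x508010a) [nat_lit 2, nat_lit 15] (BT.pln (nat_lit 0) (nat_lit 2) (BT.img (nat_lit 1) (nat_lit 0) (BT.frm (nat_lit 2) (nat_lit 0x151c0b0f050e0112) (nat_lit 0x1b1b0c0508010a) [nat_lit 12, nat_lit 6, nat_lit 8, nat_lit 5, nat_lit 18] (BT.pln (nat_lit 0) (nat_lit 10) (BT.img (nat_lit 1) (nat_lit 0) (BT.and (nat_lit 4) (nat_lit 0) (BT.img (nat_lit 1) (nat_lit 0) (BT.and (nat_lit 5) (nat_lit 0) (BT.img (nat_lit 1) (nat_lit 0) (BT.and (nat_lit 10) (nat_lit 0) (BT.cnt (nat_lit 0)))))))))))))))))))))) BT.nil)))))))) BT.nil)))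

theorem ht_nc15_13_cnt : Cnt 100 (grp 100 HSM.E) [t_g163] [t_g147] 0 0 0 0 0 :=
  BT.sound ht_nc15_13_cnt_P Known.nil (t := ht_nc15_13_cnt_t) (d := 0) (by decide +kernel)

theorem ht_nc15_13 : ¬ CjIn (grp 100 HSM.E) (Net.toPerm 100 t_g163) (Net.toPerm 100 t_g147) :=
  not_cjIn ht_nc15_13_cnt

noncomputable def ht_nc19_18_cnt_L : List ℕ := [1, 2, T_s1_O, 0, 0, 2, 4, T_s2_O, 0, 0, 5, 9, T_s40_O, 1, 0]

theorem ht_nc19_18_cnt_P : Prob 100 7 (grp 100 HSM.E) ht_nc19_18_cnt_EG [t_g185] [t_g183] ht_c18_K ht_nc19_18_cnt_L 0 0 :=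
  Sym.prob t_hn t_hk ht_c18_sym ht_nc19_18_cnt_EG_ok (grp_cons_le HSM.g1_T (grp_cons_le HSM.g2_T (grp_cons_le HSM.g3_T (grp_cons_le HSM.g4_T (grp_cons_le HSM.g7_T (grp_cons_le HSM.g8_T (grp_cons_le HSM.g11_T (grp_cons_le HSM.g12_T (grp_cons_le HSM.g13_T (grp_cons_le HSM.g16_T (grp_cons_le t_g142_T (grp_cons_le t_g143_T (grp_cons_le t_g13_T (grp_cons_le t_g14_T (grp_cons_le t_g15_T (grp_cons_le t_g16_T (grp_cons_le t_g17_T (grp_cons_le t_g18_T (grp_cons_le t_g19_T (grp_cons_le t_g12_T (grp_nil_le _))))))))))))))))))))) (Frames.cons T_s1_F (Frames.cons T_s2_F (Frames.cons T_s40_F Frames.nil))) (okE_cons.2 ⟨t_g185_ok, okE_nil _⟩) _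

noncomputable def ht_nc19_18_cnt_t : BT := (BT.fix (nat_lit 1) (BT.frm (nat_lit 0) (nat_lit 261) (nat_lit 261) [nat_lit 0] (BT.pln (nat_lit 0) (nat_lit 1) (BT.br (nat_lit 0) (nat_lit 95) [nat_lit 1] (BT.dead (nat_lit 90) (BT.frm (nat_lit 1) (nat_lit 721157) (nat_lit 0xa0d0105) [nat_lit 0, nat_lit 3] (BT.pln (nat_lit 0) (nat_lit 3) (BT.img (nat_lit 1) (nat_lit 0) (BT.and (nat_lit 1) (nat_lit 0) (BT.img (nat_lit 1) (nat_lit 0) (BT.and (nat_lit 3) (nat_lit 0) (BT.img (nat_lit 1) (nat_lit 0) (BT.and (nat_lit 4) (nat_lit 0) (BT.img (nat_lit 1) (nat_lit 0) (BT.img (nat_lit 1) (nat_lit 0) (BT.img (nat_lit 1) (nat_lit 10) (BT.frm (nat_lit 2) (nat_lit 0x161d281b0b0105) (nat_lit 0x171b0a0d0105) [nat_lit 1, nat_lit 2, nat_lit 0, nat_lit 11, nat_lit 14] (BT.pln (nat_lit 0) (nat_lit 5) (BT.img (nat_lit 1) (nat_lit 2) (BT.and (nat_lit 1) (nat_lit 0) (BT.cnt (nat_lit 0))))))))))))))))) (BT.dead (nat_lit 95) (BT.frm (nat_lit 1)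 (nat_lit 721157) (nat_lit 721157) [nat_lit 0, nat_lit 3] (BT.pln (nat_lit 0) (nat_lit 3) (BT.img (nat_lit 1) (nat_lit 0) (BT.and (nat_lit 1) (nat_lit 0) (BT.img (nat_lit 1) (nat_lit 0) (BT.and (nat_lit 3) (nat_lit 0) (BT.img (nat_lit 1) (nat_lit 0) (BT.and (nat_lit 4) (nat_lit 0) (BT.img (nat_lit 1) (nat_lit 0) (BT.and (nat_lit 0) (nat_lit 7) (BT.cnt (nat_lit 0)))))))))))) BT.nil))))))

theorem ht_nc19_18_cnt : Cnt 100 (grp 100 HSM.E) [t_g185] [t_g183] 0 0 0 0 0 :=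
  BT.sound ht_nc19_18_cnt_P Known.nil (t := ht_nc19_18_cnt_t) (d := 0) (by decide +kernel)

theorem ht_nc19_18 : ¬ CjIn (grp 100 HSM.E) (Net.toPerm 100 t_g185) (Net.toPerm 100 t_g183) :=
  not_cjIn ht_nc19_18_cnt

noncomputable def ht_nc23_22_cnt_L : List ℕ := [1, 2, T_s1_O, 0, 0, 6, 59, T_s53_O, 0, 0, 7, 11, T_s54_O, 1, 0]

theorem ht_nc23_22_cnt_P : Prob 100 7 (grp 100 HSM.E) ht_nc23_22_cnt_EG [t_g202] [t_g192] ht_c22_K ht_nc23_22_cnt_L 0 0 :=
  Sym.prob t_hn t_hk ht_c22_sym ht_nc23_22_cnt_EG_ok (grp_cons_le HSM.g1_T (grp_cons_le HSM.g2_T (grp_cons_le HSM.g3_T (grp_cons_le HSM.g4_T (grp_cons_le HSM.g7_T (grp_cons_le HSM.g8_T (grp_cons_le HSM.g11_T (grp_cons_le HSM.g12_T (grp_cons_le HSM.g13_T (grp_cons_le HSM.g16_T (grp_cons_le t_g195_T (grp_cons_le t_g196_T (grp_cons_le t_g194_T (grp_nil_le _)))))))))))))) (Frames.cons T_s1_F (Frames.cons T_s53_F (Frames.cons T_s54_F Frames.nil))) (okE_cons.2 ⟨t_g202_ok, okE_nil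 _⟩) _

noncomputable def ht_nc23_22_cnt_t : BT := (BT.fix (nat_lit 0x1010101010101010101) (BT.br (nat_lit 0) (nat_lit 98) [nat_lit 1] (BT.dead (nat_lit 98) (BT.img (nat_lit 1) (nat_lit 0) (BT.img (nat_lit 1) (nat_lit 0) (BT.img (nat_lit 1) (nat_lit 0) (BT.img (nat_lit 1) (nat_lit 0) (BT.img (nat_lit 1) (nat_lit 0) (BT.frm (nat_lit 1) (nat_lit 0x190d0d0b110706010809) (nat_lit 0x190d0d0b110706010809) [nat_lit 2, nat_lit 3, nat_lit 1, nat_lit 0, nat_lit 4, nat_lit 5] (BT.pln (nat_lit 0) (nat_lit 6) (BT.br (nat_lit 0) (nat_lit 97) [nat_lit 3] (BT.dead (nat_lit 97) (BT.frm (nat_lit 2) (nat_lit 0x190d0d0b110706010809) (nat_lit 0x190d0d0b110706010809) [nat_lit 0, nat_lit 5, nat_lit 6, nat_lit 4, nat_lit 3, nat_lit 7, nat_lit 8] (BT.pln (nat_lit 0) (nat_lit 7) (BT.img (nat_lit 1) (nat_lit 2) (BT.and (nat_lit 1) (nat_lit 0) (BT.cnt (nat_lit 0)))))) BT.nil))))))))) (BT.dead (nat_lit 89) (BT.frm (nat_lit 0) (nat_lit 67593)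 (nat_lit 2) [nat_lit 0] (BT.pln (nat_lit 0) (nat_lit 1) (BT.img (nat_lit 1) (nat_lit 2) (BT.and (nat_lit 1) (nat_lit 0) (BT.cnt (nat_lit 0)))))) BT.nil))))

theorem ht_nc23_22_cnt : Cnt 100 (grp 100 HSM.E) [t_g202] [t_g192] 0 0 0 0 0 :=
  BT.sound ht_nc23_22_cnt_P Known.nil (t := ht_nc23_22_cnt_t) (d := 0) (by decide +kernel)

theorem ht_nc23_22 : ¬ CjIn (grp 100 HSM.E) (Net.toPerm 100 t_g202) (Net.toPerm 100 t_g192) :=
  not_cjIn ht_nc23_22_cnt

theorem ht_exc : Exc 100 (grp 100 HSM.E) ht_xs [23022, 19018, 15013] :=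
  (Exc.cons 23 22 (by decide) ht_nc23_22 (Exc.cons 19 18 (by decide) ht_nc19_18 (Exc.cons 15 13 (by decide) ht_nc15_13 Exc.nil)))

theorem ht : Table 100 (grp 100 HSM.E) ht_xs ht_cs ht_os :=
  Reps.table (D := 6) t_hn t_hk ht_reps ht_exc HSM.card_grp (by decide +kernel)

end Cfsg.Agent.H17.HST
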