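import Mathlib
import Cfsg.Agent.H17.KnDef2

/-!
# Change of coordinates outside a subgroup
-/

set_option autoImplicit false

namespace Cfsg.Agent.H17.Kn

open Equiv Subgroup Cfsg.Agent.H11.A16 Cfsg.Agent.H63 Cfsg.Agent.H8.GD
open Cfsg.Agent.H89.Rec (Syl)

universe u

variable {G : Type u} [Group G] {J J' : N2 → G} {φ : G → Perm Ω} {X Y : Subgroup N2}

theorem R.congr {g : G} {u v : N2} (h : R J g u v) (hu : J' u = J u) (hv : J' v = J v) :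
    R J' g u v := by unfold R at *; rw [hu, hv, h]

theorem Ex.congr {g : G} {m : N2} (h : Ex J g m X) (e : ∀ u ∈ X, J' u = J u)
    (hm : ∀ u ∈ X, m * u * m⁻¹ ∈ X) : Ex J' g m X :=
  fun u hu => (h u hu).congr (e u hu) (e _ (hm u hu))

theorem Ey.congr {g : G} {m : Perm Ω} (h : Ey J g m X Y) (e : ∀ u ∈ X, J' u = J u)
    (e' : ∀ u ∈ Y, J' u = J u) : Ey J' g m X Y :=
  fun u hu v hv a => (h u hu v hv a).congr (e u hu) (e' v hv)

theorem Ex.mono {g : G} {m : N2} (h : Ex J g m Y) (hX : X ≤ Y) : Ex J g m X :=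
  fun u hu => h u (hX hu)

theorem Ex.mul {g g' : G} {m m' : N2} (h : Ex J g m X) (h' : Ex J g' m' X)
    (hm : ∀ u ∈ X, m' * u * m'⁻¹ ∈ X) : Ex J (g * g') (m * m') X := fun u hu => by
  have := (h' u hu).trans (h _ (hm u hu))
  rwa [show m * (m' * u * m'⁻¹) * m⁻¹ = m * m' * u * (m * m')⁻¹ by group] at this

theorem Ex.inv {g : G} {m : N2} (h : Ex J g m X) (hm : ∀ u ∈ X, m⁻¹ * u * m⁻¹⁻¹ ∈ X) :
    Ex J g⁻¹ m⁻¹ X := fun u hu => by
  have := (h _ (hm u hu)).symm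
  rwa [show m * (m⁻¹ * u * m⁻¹⁻¹) * m⁻¹ = u by group] at this

theorem Em.ex (h : Em J Y) (hX : X ≤ Y) {t : N2} (ht : t ∈ Y) : Ex J (J t) t X :=
  fun _ hu => h.self ht (hX hu)

theorem R.mul (h : Em J Y) {g : G} {u v u' v' : N2} (a : R J g u v) (b : R J g u' v') (hu : u ∈ Y)
    (hv : v ∈ Y) (hu' : u' ∈ Y) (hv' : v' ∈ Y) : R J g (u * u') (v * v') := by
  unfold R at *
  rw [h.mul _ hu _ hu', h.mul _ hv _ hv', ← a, ← b]; group

theorem R.uniq (h : Em J Y) {g : G} {u v v' : N2} (a : R J g u v) (b : R J g u v') (hv : v ∈ Y)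
    (hv' : v' ∈ Y) : v = v' := h.inj _ hv _ hv' (Eq.trans (Eq.symm a) b)

theorem NA_congr (e : ∀ u ∈ T0, J' u = J u) : NA J' = NA J := by
  rw [NA, im_congr fun u hu => e u (AA_le_T0 hu)]

theorem Q3.congr (m : Mod2) (h : Q3 J φ) (e : ∀ u ∈ T0, J' u = J u) : Q3 J' φ := by
  have q : ∀ u ∈ QQ, J' u = J u := fun u hu => e u (m.le.2.1 hu)
  have n : ∀ k ∈ QE, ∀ u ∈ QQ, k * u * k⁻¹ ∈ QQ := fun k hk => ((m.nrm k).2.2.2.2.1 hk).1
  refine ⟨h.toKi.congr e, fun g hg => ?_, fun a ha => ?_⟩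
  · obtain ⟨k, hk, b⟩ := h.nq g (im_congr q ▸ hg)
    exact ⟨k, hk, b.congr q (n k hk)⟩
  · obtain ⟨g, b⟩ := h.ee a ha
    exact ⟨g, b.congr q (n a (m.le.2.2.2.2.2.2.1 (m.le.2.2.2.2.2.1 ha)).1)⟩

theorem Eu.congr (m : Mod2) (h : Eu J φ) (e : ∀ u ∈ T0, J' u = J u) (e' : ∀ u ∈ AE, J' u = J u) :
    Eu J' φ := by
  have q : ∀ u ∈ EE, J' u = J u := fun u hu => e' u (m.le.2.2.2.2.2.1 hu)
  have z : z2 ∈ EE := by decide
  refine ⟨⟨h.toQ3.congr m e, h.emE.congr e', fun t ht => ?_, fun k hk => ?_⟩,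
    fun t ht a ha => ?_, fun u hu a ha => ?_⟩
  · rw [e t ht, im_congr q]; exact h.nE t ht
  · rw [NA_congr e, im_congr q]; exact h.rk k hk
  · rw [e t ht]
    exact (h.act t ht a ha).imp (fun b => b.congr (q a ha) (q _ ((m.nrm t).2.1 a ha)))
      fun b => b.congr (q a ha) (q _ (mul_mem ((m.nrm t).2.1 a ha) z))
  · rw [e u hu.1, q a ha.1]; exact h.cm u hu a ha

theorem Sd.congr (m : Mod2) (h : Sd J φ) (e : ∀ u ∈ T1, J' u = J u) : Sd J' φ := by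
  have e0 : ∀ u ∈ T0, J' u = J u := fun u hu => e u (m.le.2.2.2.2.2.2.2.1 hu)
  have e1 : ∀ u ∈ AE, J' u = J u := fun u hu => e u (m.le.2.2.2.2.2.2.1 hu)
  refine ⟨h.toEu.congr m e0 e1, h.em1.congr e, fun k hk => ?_⟩
  obtain ⟨g, a, b, c⟩ := h.exK k hk
  exact ⟨g, NA_congr e0 ▸ a, b,
    c.congr e1 ((m.nrm k).2.2.2.2.1 (m.le.2.2.2.2.2.2.2.2.2.1 hk)).2⟩

theorem St.congr (m : Mod2) {s : G} (h : St J φ s) (e : ∀ u ∈ SE, J' u = J u) : St J' φ s := by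
  obtain ⟨-, -, -, -, -, -, -, l1, l2, -, -, -, l3, -, -, -, -, -, -, -, -, -, l4, -⟩ := m.le
  have e1 : ∀ u ∈ T1, J' u = J u := fun u hu => e u (l2 hu)
  have e0 : ∀ u ∈ T0, J' u = J u := fun u hu => e1 u (l1 hu)
  have e2 : ∀ u ∈ YY, J' u = J u := fun u hu => e u (l4 hu)
  refine ⟨h.toSd.congr m e1, h.emS.congr e, NA_congr e0 ▸ h.sN, h.sφ, h.sY.congr e2 e2, ?_⟩
  rw [im_congr fun u hu => e u (l3 hu), im_congr fun u (hu : u ∈ U1) => e0 u hu.1]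
  exact h.sylF

theorem Mo.one {H : Subgroup G} {ρ : G → N2} (h : Mo J X H ρ) : ρ 1 = 1 := by
  have := h.mul 1 (one_mem _) 1 (one_mem _)
  rwa [mul_one, left_eq_mul] at this

theorem Mo.inv {H : Subgroup G} {ρ : G → N2} (h : Mo J X H ρ) {g : G} (hg : g ∈ H) :
    ρ g⁻¹ = (ρ g)⁻¹ :=
  eq_inv_of_mul_eq_one_left (by rw [← h.mul _ (inv_mem hg) _ hg, inv_mul_cancel, h.one])

theorem Mo.down {H : Subgroup G} {ρ : G → N2} (h : Mo J S2 H ρ) {g : G} (hg : g ∈ H) {u v : N2}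
    (hu : u ∈ S2) (hv : v ∈ S2) (e : R J g u v) : ρ g * u * (ρ g)⁻¹ = v := by
  rw [← h.res v hv, ← e, h.mul _ (mul_mem hg (h.le u hu)) _ (inv_mem hg), h.mul _ hg _ (h.le u hu),
    h.res u hu, h.inv hg]

theorem Mo.lf (hG : Gen G) (m1 : Mod1) (he : Em J S2) {H : Subgroup G} {ρ : G → N2}
    (h : Mo J S2 H ρ) : Lf J H ρ := fun m X hX hm => by
  obtain ⟨g, hg, rfl⟩ := h.sur m
  have h2 := he.two m1.two
  have hl : im J S2 ≤ H := im_le h.le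
  obtain ⟨k, hk, k1, k2⟩ := hG.lift H ρ h.mul h.ker (cj g (im J X)) (im J S2)
    (by rintro _ ⟨a, ha, rfl⟩; exact mul_mem (mul_mem hg (hl (im_mono hX ha))) (inv_mem hg)) hl
    ((h2.to_le (im_mono hX)).map _) h2 (by
      rintro _ ⟨a, ha, rfl⟩
      obtain ⟨u, hu, rfl⟩ := (he.mono hX).mem.1 ha
      refine ⟨_, mem_im (hm u hu), ?_⟩
      change ρ (g * J u * g⁻¹) = _
      rw [h.mul _ (mul_mem hg (h.le u (hX hu))) _ (inv_mem hg), h.mul _ hg _ (h.le u (hX hu)),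
        h.res u (hX hu), h.inv hg, h.res _ (hm u hu)])
  have e : ρ (k * g) = ρ g := by rw [h.mul _ hk _ hg, k1, one_mul]
  refine ⟨k * g, mul_mem hk hg, e, fun u hu => ?_⟩
  obtain ⟨v, hv, a⟩ := he.mem.1 (k2 _ ⟨_, mem_im hu, rfl⟩)
  have b : R J (k * g) u v := by
    rw [R, a]; change _ = k * (g * J u * g⁻¹) * k⁻¹; group
  rwa [← h.down (mul_mem hk hg) (hX hu) hv b, e] at b

end Cfsg.Agent.H17.Kn
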