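import Cfsg.Agent.H17.KnAsm
import Cfsg.Agent.H45.KnGen
import Cfsg.Agent.H61.KnMod1
import Cfsg.Agent.H52.KnMod2
import Cfsg.Agent.H95.KnM3
import Cfsg.Agent.H36.KnAff
import Cfsg.Agent.H69.KnKit
import Cfsg.Agent.H30.KnSet
import Cfsg.Agent.H62.KnRq
import Cfsg.Agent.H67.KnR3
import Cfsg.Agent.H94.KnR4l
import Cfsg.Agent.H44.KnR4a
import Cfsg.Agent.H44.KnQch
import Cfsg.Agent.H86.KnTri
import Cfsg.Agent.H66.KnAuq
import Cfsg.Agent.H60.KnC1e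
import Cfsg.Agent.H67.KnBr
import Cfsg.Agent.H70.KnC2a
import Cfsg.Agent.H47.KnC2e
import Cfsg.Agent.H28.KnEea
import Cfsg.Agent.H5.KnEeb
import Cfsg.Agent.H81.KnLam
import Cfsg.Agent.H24.KnLa2
import Cfsg.Agent.H9.KnHv
import Cfsg.Agent.H92.KnFfb
import Cfsg.Agent.H72.KnFfc
import Cfsg.Agent.H88.KnStd
import Cfsg.Agent.H30.KnSy1
import Cfsg.Agent.H33.KnAu1
import Cfsg.Agent.H71.KnPb1
import Cfsg.Agent.H7.KnPb2
import Cfsg.Agent.H13.KnA16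
import Cfsg.Agent.H73.KnPp1
import Cfsg.Agent.H64.KnFb
import Cfsg.Agent.H52.KnSg
import Cfsg.Agent.H36.KnTx
import Cfsg.Agent.H59.KnTx1
import Cfsg.Agent.H15.KnSy2
import Cfsg.Agent.H43.KnAu2
import Cfsg.Agent.H21.KnM1a
import Cfsg.Agent.H20.KnM1b
import Cfsg.Agent.H32.KnCl1
import Cfsg.Agent.H98.KnE256
import Cfsg.Agent.H34.KnCl2
import Cfsg.Agent.H49.KnN9a
import Cfsg.Agent.H62.KnCena
import Cfsg.Agent.H79.KnCenb
import Cfsg.Agent.H19.KnBal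
import Cfsg.Agent.H29.KnW1a
import Cfsg.Agent.H8.KnW1b
import Cfsg.Agent.H65.KnIx
import Cfsg.Agent.H75.KnBw
import Cfsg.Agent.H89.KnW3
import Cfsg.Agent.H10.KnHo
import Cfsg.Agent.H37.KnK18
import Cfsg.Agent.H2.KnK19
import Cfsg.Agent.H76.KnC2b
import Cfsg.Agent.H91.KnCl3
import Cfsg.Agent.H80.KnPP2
import Cfsg.Agent.H40.KnG7b
import Cfsg.Agent.H4.KnAut
import Cfsg.Agent.H14.KnG7
import Cfsg.Agent.H31.KnN9b
import Cfsg.Agent.H3.KnC2c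
import Cfsg.Agent.H68.KnTrf
import Cfsg.Agent.H39.KnFfa
import Cfsg.Agent.H56.KnE16
import Cfsg.Agent.H16.KnC2d
import Cfsg.Agent.H38.KnTwk

/-! # Groups with a 2-local subgroup of type `E16 : GL(4, 2)`: all pieces together -/

set_option autoImplicit false

namespace Cfsg.Agent.H17.Kn

universe u

theorem base : Base.{u} :=
  have m1 := H61.KnMod1.mod1
  have m2 := H52.KnMod2.mod2 m1
  have m3 := M3a.mod3 m1 m2
  have af := H36.KnAff.af m1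
  ⟨H45.KnGen.gen, m1, m2, m3, af, H69.KnKit.kit H45.KnGen.gen m1 m2 m3 af⟩

theorem partsR : PartsR.{u} :=
  ⟨H30.KnSet.set base, H62.KnRq.rq base, H62.KnRq.r2 base, H67.KnR3.r3 base, H94.KnR4l.r4l,
    H44.KnR4a.r4a⟩

theorem partsA : PartsA.{u} :=
  have hB : Base.{u} := base
  have qch := H44.KnQch.qch hB
  ⟨qch, H86.KnT.tri hB H68.KnTrf.trf (H66.KnAuq.auq hB), H60.KnC1e.c1e hB (H67.KnBr.br hB),
    H70.KnC2a.c2a hB (H4.KnAut.aut hB), H76.KnC2b.c2b hB qch, H76.KnC2b.c2s hB, H3.KnC2c.c2c hB,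
    H16.KnC2d.c2d hB (H47.KnC2e.c2e hB (H56.KnE16.e16 hB))⟩

theorem partsB : PartsB.{u} :=
  have hB : Base.{u} := base
  have pb2 : Pb2Stmt.{u} := H7.KnPb2.pb2 hB
  have pb1 : Pb1Stmt.{u} := H71.KnPb1.pb1 hB pb2
  have th : ThStmt.{u} := H64.KnFb.th hB
  have fb : FbStmt.{u} := H64.KnFb.fb hB
  have hv : HvStmt.{u} := H9.KnHv.hv hB
  have ffa : FfaStmt.{u} := H39.KnFfa.ffa hB hv
  have pp2 : Pp2Stmt.{u} := H80.KnPP2.pp2 hB fb th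
  ⟨H28.KnEea.eea hB, H5.KnEeb.eeb hB, H81.KnLam.lam hB (H24.KnL.la2 hB), ffa,
    H92.KnFfb.ffb hB hv ffa, H72.KnFfc.ffc hB, H38.KnTwk.twk hB pb1, H88.KnStd.std hB pb1,
    H30.KnSy1.sy1 hB (H33.KnAu1.au1 hB) pb1, H13.KnA16.a16 hB th, H73.KnPp1.pp1 hB pb2, pp2,
    H52.KnSg.sg hB, H36.KnTx.tx hB (H59.KnTx1.tx1 hB th),
    H15.KnSy2.sy2 hB (H43.KnAu2.au2 hB) fb⟩

theorem partsC : PartsC.{u} :=
  have hB : Base.{u} := base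
  have cl2 : Cl2Stmt.{u} := H34.KnC.cl2
  have cl3 : Cl3Stmt.{u} := H91.KnCl3.cl3 hB cl2
  have n9b : N9bStmt.{u} := H31.KnN9b.n9b hB
  have g7 : G7Stmt.{u} := H14.KnG7.g7 hB H40.KnG7b.g7b
  ⟨H21.KnM1a.m1a hB, H20.KnM1b.m1b hB, H32.KnCl1.cl1 hB (H98.KnE256.e256 hB), cl2, cl3,
    H49.KnN9a.n9a hB cl2, n9b, H62.KnCena.cena hB, H79.KnCenb.cenb hB, H19.KnBal.bal hB,
    H29.KnW1a.w1a hB, H8.KnW1b.w1b hB, H65.KnIx.ix hB H75.KnB.bw,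
    H89.KnW3.w3 hB g7 (H10.KnHo.ho hB), H37.KnK18.k18 hB, H2Kn.k19 hB (H37.KnK18.k19b hB)⟩

end Cfsg.Agent.H17.Kn
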