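import Mathlib
import Cfsg.Agent.H17.KnCongr
import Cfsg.Agent.H3.Cores
import Cfsg.Agent.H67.Conj

/-!
# Groups with a 2-local subgroup of type `E16 : GL(4, 2)`: the assembly
-/

set_option autoImplicit false

namespace Cfsg.Agent.H17.Kn

open Equiv Subgroup Cfsg.Agent.H11.A16 Cfsg.Agent.H63 Cfsg.Agent.H8.GD
open Cfsg.Agent.H89.Rec (Syl)

universe u

/-- The pieces for the cases I and II. -/
structure PartsA : Prop where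
  qch : QchStmt
  tri : TriStmt.{u}
  c1e : C1eStmt.{u}
  c2a : C2aStmt.{u}
  c2b : C2bStmt.{u}
  c2s : C2sStmt.{u}
  c2c : C2cStmt.{u}
  c2d : C2dStmt.{u}

/-- The pieces for the climb. -/
structure PartsB : Prop where
  eea : EeaStmt.{u}
  eeb : EebStmt.{u}
  lam : LamStmt.{u}
  ffa : FfaStmt.{u}
  ffb : FfbStmt.{u}
  ffc : FfcStmt.{u}
  twk : TwkStmt.{u}
  std : StdStmt.{u}
  sy1 : Sy1Stmt.{u}
  a16 : A16Stmt.{u}
  pp1 : Pp1Stmt.{u}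
  pp2 : Pp2Stmt.{u}
  sg : SgStmt.{u}
  tx : TxStmt.{u}
  sy2 : Sy2Stmt.{u}

/-- The pieces for the end. -/
structure PartsC : Prop where
  m1a : M1aStmt.{u}
  m1b : M1bStmt.{u}
  cl1 : Cl1Stmt.{u}
  cl2 : Cl2Stmt.{u}
  cl3 : Cl3Stmt.{u}
  n9a : N9aStmt.{u}
  n9b : N9bStmt.{u}
  cena : CenaStmt.{u}
  cenb : CenbStmt.{u}
  bal : BalStmt.{u}
  w1a : W1aStmt.{u}
  w1b : W1bStmt.{u}
  ix : IxStmt.{u}
  w3 : W3Stmt.{u}
  k18 : K18Stmt.{u}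
  k19 : K19Stmt.{u}

/-- The pieces for the reduction. -/
structure PartsR : Prop where
  set : SetStmt.{u}
  rq : RqStmt.{u}
  r2 : R2Stmt.{u}
  r3 : R3Stmt.{u}
  r4l : R4lStmt.{u}
  r4a : R4aStmt.{u}

variable {G : Type u} [Group G] [Finite G] {J : N2 → G} {φ : G → Perm Ω}

theorem caseI (hB : Base.{u}) (hq : QchStmt) (h : Ki J φ) (hn : ∀ g ∈ N[im J QQ], g ∈ NA J) :
    Syl (im J T0) ⊤ := by
  by_contra c
  have k := hB.kit J φ h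
  obtain ⟨S, s1, s2, -, n, n1, n2, n3⟩ := (hB.gen (G := G)).up _ ⊤ k.syl.grp le_top c
  obtain ⟨α, a1, a2⟩ := h.em.au n3
  refine n2 (k.nT2 S s1 s2 n n1 (hn n ?_))
  have q := hB.m2.le.2.1
  refine H67.mem_normalizer_of_cj_le ?_
  rintro _ ⟨a, ha, rfl⟩
  obtain ⟨u, hu, rfl⟩ := (h.em.mono q).mem.1 ha
  change n * J u * n⁻¹ ∈ _
  rw [a2 u (q hu)]
  exact mem_im (hq α a1 u hu)

theorem of_core {s n : G} {ρ : G → N2} (hB : Base.{u}) (hk : K18Stmt.{u}) (h : Fe J φ s ρ n)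
    (hO : Oc C1[J z2] = ⊥) : ConA G 18 := by
  let r : C1[J z2] →* N2 := MonoidHom.mk' (fun g => ρ g) fun a b => h.mo.mul _ a.2 _ b.2
  have hr : Function.Bijective r := ⟨(injective_iff_map_eq_one r).2 fun g hg =>
    Subtype.ext (hO.le ((h.kerO g g.2).1 hg)), fun m =>
      let ⟨g, a, b⟩ := h.mo.sur m; ⟨⟨g, a⟩, b⟩⟩
  let e := MulEquiv.ofBijective r hr
  have z : z2 ∈ S2 := by decide
  have hz : e.symm z2 = ⟨J z2, h.mo.le _ z⟩ := e.symm_apply_eq.2 (h.mo.res _ z).symm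
  refine hk ((C1[J z2]).subtype.comp e.symm.toMonoidHom)
    ((subtype_injective _).comp e.symm.injective) ((hB.kit J φ h.toKi).ind h.simple) ?_
  rw [MonoidHom.range_comp, MonoidHom.range_eq_top.2 e.symm.surjective, ← MonoidHom.range_eq_map,
    range_subtype]
  change C1[(e.symm z2).1] = _
  rw [hz]

theorem endC (hB : Base.{u}) (p : PartsC.{u}) {s : G} (h : S2t J φ s) (hs : IsSimpleGroup G)
    (hS : Syl (im J S2) ⊤) : ConA G 18 ∨ ConA G 19 := by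
  have hG := hB.gen (G := G)
  obtain ⟨H, ρ0, a1, a2⟩ := p.m1a J φ s h
  obtain ⟨ρ, a3⟩ := p.m1b J φ s H ρ0 h a1 a2
  have h3 : S3 J φ s H ρ := ⟨h, hS, a3, a2, a3.lf hG hB.m1 h.em2⟩
  have wp := p.cl1 J φ s H ρ h3
  obtain ⟨ε, hc⟩ := p.cl3 J φ s H ρ h3 hs wp
  obtain ⟨n0, hn0⟩ := p.n9a J φ s H ρ ε h3 wp hc
  obtain ⟨rfl, n, n1, n2⟩ := p.n9b J φ s H ρ ε n0 h3 hc hn0
  obtain ⟨ρ', b1, b2⟩ := p.cenb J φ s H ρ h3 hc (p.cena J φ s H ρ h3 hc)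
  have hH : H ≤ C1[J z2] := fun g hg => by
    obtain ⟨m, hm⟩ := (a2 g).1 hg
    have := hm z2 (by decide)
    rw [(hB.m2.ab.2.2.2.2.2.2 m).eq, mul_inv_cancel_right] at this
    exact mem_centralizer_singleton_iff.2 (mul_inv_eq_iff_eq_mul.1 this)
  have fe : Fe J φ s ρ' n := ⟨h, hs, hS, b1, b2, b1.lf hG hB.m1 h.em2, hc,
    fun L hL ht => (p.cl2 J φ s H ρ h3).1 L (hH.trans hL) ht, n1.1, n1.2, n2⟩
  have bl := p.bal J φ s ρ' n fe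
  obtain ⟨W, w1, w2⟩ := p.w1a J φ s ρ' n fe bl
  have wd := p.w1b J φ s ρ' n W fe w1 w2
  have ix := p.ix J φ s ρ' n W fe bl wd
  have hO : Oc C1[J z2] ≤ W := wd.full z2 (by decide) (by decide)
  rcases p.w3 J φ s ρ' n W fe bl wd ix with c | c | ⟨c, d⟩
  · exact .inr c
  · exact .inl (of_core hB p.k18 fe (eq_bot_iff.2 (c ▸ hO)))
  · rcases (Nat.dvd_prime Nat.prime_three).1 (c ▸ card_dvd_of_le hO) with e | e
    · exact .inl (of_core hB p.k18 fe (card_eq_one.1 e))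
    · exact .inr (p.k19 J φ s ρ' n W fe wd ix c d (eq_of_le_of_card_ge hO (by omega)))

theorem caseIII (hB : Base.{u}) (p : PartsB.{u}) (q : PartsC.{u}) (h : Q3 J φ)
    (hs : IsSimpleGroup G) : ∃ n, 16 ≤ n ∧ n ≤ 19 ∧ ConA G n := by
  obtain ⟨E, hE⟩ := p.eea J φ h
  obtain ⟨J1, h1⟩ := p.eeb J φ E hE
  obtain ⟨J2, h2⟩ := p.lam J1 φ h1
  have hu : Eu J2 φ := h2.elim Sd.toEu Tw.toEu
  obtain ⟨F, f1, f2⟩ := p.ffb J2 φ hu
  obtain ⟨f, s, f3⟩ := p.ffa J2 φ hu F f1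
  have f4 := p.ffc J2 φ hu F f s f3 f2
  obtain ⟨J3, h3⟩ := p.std J2 φ (h2.resolve_right fun t => p.twk J2 φ t F f s f3 f4) F f s f3 f4
  by_cases c : Syl (im J3 EE) C[im J3 EE]
  · rcases p.a16 J3 φ s h3 hs (p.sy1 J3 φ s h3 c) with a | a
    exacts [⟨16, by omega, by omega, a⟩, ⟨17, by omega, by omega, a⟩]
  obtain ⟨y, h4⟩ := p.pp1 J3 φ s h3 c
  obtain ⟨J4, h5⟩ := p.pp2 J3 φ s y h4
  obtain ⟨J5, h6⟩ := p.tx J4 φ s h5 (p.sg J4 φ s h5)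
  rcases endC hB q h6 hs (p.sy2 J5 φ s h6.toS2a) with a | a
  exacts [⟨18, by omega, by omega, a⟩, ⟨19, by omega, by omega, a⟩]

theorem simple_case (hB : Base.{u}) (o : PartsA.{u}) (p : PartsB.{u}) (q : PartsC.{u})
    (h : Ki J φ) (hs : IsSimpleGroup G) : ConL G ∨ ∃ n, 16 ≤ n ∧ n ≤ 19 ∧ ConA G n := by
  rcases o.tri J φ h with a | a | a
  · exact .inl (o.c1e J φ h hs (caseI hB o.qch h a))
  · obtain ⟨t, ht⟩ := o.c2a J φ a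
    have b := o.c2b J φ t ht
    have c := o.c2s J φ t ht b
    exact (o.c2d J φ t ht b c (o.c2c J φ t ht b c) hs).elim
  · exact .inr (caseIII hB p q a hs)

theorem core_free (hB : Base.{u}) (o : PartsA.{u}) (p : PartsB.{u}) (q : PartsC.{u})
    (r : PartsR.{u}) (h : Ki J φ) (hO : Cfsg.oddCore G = ⊥) :
    Con1 G ∨ Nonempty (G ≃* GL (Fin 5) (ZMod 2)) ∨ Nonempty (G ≃* MulAut (GL (Fin 5) (ZMod 2))) ∨
      Cfsg.Spor.IsoM24 G ∨ (∃ n : ℕ, 16 ≤ n ∧ n ≤ 19 ∧ Nonempty (G ≃* alternatingGroup (Fin n))) ∨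
      ∃ n : ℕ, (n = 16 ∨ n = 17) ∧ Nonempty (G ≃* Perm (Fin n)) := by
  by_cases c : Cfsg.pCore 2 G = ⊥
  swap
  · exact .inl (r.r2 J φ h hO c)
  obtain ⟨X, x1, x2, x3, x4, J', φ', h'⟩ := r.r3 J φ h hO c
  rcases simple_case hB o p q h' x2 with a | ⟨n, n1, n2, a⟩
  · rcases r.r4l X x1 x3 a with (b | b) | b
    exacts [.inr (.inl b), .inr (.inr (.inr (.inl b))), .inr (.inr (.inl b))]
  · rcases r.r4a X _ n x1 x3 x4 (hB.kit J φ h).cenA n1 n2 a with b | b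
    exacts [.inr (.inr (.inr (.inr (.inl ⟨n, n1, n2, b⟩)))), .inr (.inr (.inr (.inr (.inr ⟨n, b⟩))))]

theorem main (hB : Base.{u}) (o : PartsA.{u}) (p : PartsB.{u}) (q : PartsC.{u}) (r : PartsR.{u})
    (A : Subgroup G) (hA : Cfsg.IsElementaryAbelian 2 A) (hA16 : Nat.card A = 16)
    (hSyl : ¬ 2 ∣ A.relIndex C[A])
    (hN : ∃ E K : Subgroup (N[A] ⧸ Cfsg.oddCore N[A]), E.Normal ∧ Cfsg.IsElementaryAbelian 2 E ∧
      Nat.card E = 16 ∧ Subgroup.centralizer (E : Set (N[A] ⧸ Cfsg.oddCore N[A])) = E ∧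
      E ⊓ K = ⊥ ∧ E ⊔ K = ⊤ ∧ Nonempty (K ≃* GL (Fin 4) (ZMod 2))) :
    Con1 (G ⧸ Cfsg.oddCore G) ∨ Nonempty (G ⧸ Cfsg.oddCore G ≃* GL (Fin 5) (ZMod 2)) ∨
      Nonempty (G ⧸ Cfsg.oddCore G ≃* MulAut (GL (Fin 5) (ZMod 2))) ∨
      Cfsg.Spor.IsoM24 (G ⧸ Cfsg.oddCore G) ∨
      (∃ n : ℕ, 16 ≤ n ∧ n ≤ 19 ∧ Nonempty (G ⧸ Cfsg.oddCore G ≃* alternatingGroup (Fin n))) ∨
      ∃ n : ℕ, (n = 16 ∨ n = 17) ∧ Nonempty (G ⧸ Cfsg.oddCore G ≃* Perm (Fin n)) := by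
  obtain ⟨J, φ, h⟩ := r.set A hA hA16 hSyl hN
  obtain ⟨J', φ', h'⟩ := r.rq J φ h
  exact core_free hB o p q r h' (H3.pPrimeCore_quotient_pPrimeCore 2 G)

end Cfsg.Agent.H17.Kn
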