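import Mathlib
import Cfsg.Agent.H11.U5A
import Cfsg.Agent.H17.KnDefs

/-!
# The bridge to the unitriangular group of degree five
-/

set_option autoImplicit false

namespace Cfsg.Agent.H17.Kn

/-- Piece BR. -/
def BrStmt : Prop := ∃ κ : H11.U5.S ≃* T0, ∀ i j : Fin 5, i < j → (κ (H11.U5.y i.1 j.1)).1 = xe i j

end Cfsg.Agent.H17.Kn
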