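import Cfsg.Agent.H42.PcDefs

/-! Counting the `2`-elements of a coset. -/

set_option autoImplicit false

namespace Cfsg.Agent.H17.PcCnt

open Subgroup Cfsg.Agent.H42.Pc

universe u

variable {G : Type u} [Group G]

theorem uq {y y' g g' : G} (h : Two y) (h' : Two y') (c : Commute g y) (c' : Commute g' y')
    (o : Odd (orderOf g)) (o' : Odd (orderOf g')) (e : y * g = y' * g') : g = g' := by
  obtain ⟨k, h⟩ := h
  obtain ⟨k', h'⟩ := h'
  have a : g ^ 2 ^ (k + k') = g' ^ 2 ^ (k + k') := by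
    have := congrArg (· ^ 2 ^ (k + k')) e
    simp only [c.symm.mul_pow, c'.symm.mul_pow] at this
    rwa [pow_add, pow_mul y, h, one_pow, one_mul, mul_comm (2 ^ k), pow_mul y', h', one_pow, one_mul,
      ← pow_add, add_comm k'] at this
  have cp : Nat.Coprime (2 ^ (k + k')) (orderOf g * orderOf g') :=
    Nat.Coprime.pow_left _ (Nat.coprime_two_left.2 (o.mul o'))
  obtain ⟨m, hm⟩ := Nat.exists_mul_mod_eq_of_coprime 1 cp (Nat.mul_ne_zero o.pos.ne' o'.pos.ne')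
  have hm' : 2 ^ (k + k') * m ≡ 1 [MOD orderOf g * orderOf g'] := hm.2
  have b1 : g ^ (2 ^ (k + k') * m) = g ^ 1 := pow_eq_pow_iff_modEq.2 (hm'.of_mul_right _)
  have b2 : g' ^ (2 ^ (k + k') * m) = g' ^ 1 := pow_eq_pow_iff_modEq.2 (hm'.of_mul_left _)
  rw [pow_one, pow_mul] at b1 b2
  rw [← b1, a, b2]

theorem ex [Finite G] (g : G) : ∃ a b : ℤ, Two (g ^ a) ∧ Odd (orderOf (g ^ b)) ∧ a + b = 1 := by
  obtain ⟨k, m, hm, e⟩ := Nat.exists_eq_two_pow_mul_odd (orderOf_pos g).ne'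
  obtain ⟨u, v, h⟩ := Nat.isCoprime_iff_coprime.2 (Nat.Coprime.pow_left k (Nat.coprime_two_left.2 hm))
  have z : g ^ (((2 ^ k * m : ℕ)) : ℤ) = 1 := by rw [zpow_natCast, ← e, pow_orderOf_eq_one]
  refine ⟨v * m, u * (2 ^ k : ℕ), ⟨k, ?_⟩, hm.of_dvd_nat (orderOf_dvd_of_pow_eq_one ?_),
    by rw [add_comm, h]⟩
  · rw [← zpow_natCast, ← zpow_mul, show v * m * ((2 ^ k : ℕ) : ℤ) = ((2 ^ k * m : ℕ) : ℤ) * v by
      push_cast; ring, zpow_mul, z, one_zpow]
  · rw [← zpow_natCast, ← zpow_mul, show u * ((2 ^ k : ℕ) : ℤ) * m = ((2 ^ k * m : ℕ) : ℤ) * u by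
      push_cast; ring, zpow_mul, z, one_zpow]

theorem cnt : CntStmt.{u} := by
  intro G _ _ S _ y l hy hl
  classical
  let Y := {y' : G // y⁻¹ * y' ∈ S ∧ Two y'}
  haveI : Fintype Y := Fintype.ofFinite _
  let f : (Σ a : Y, {g : G // g ∈ S ∧ Commute g a.1 ∧ Odd (orderOf g)}) → S := fun p =>
    ⟨y⁻¹ * p.1.1 * p.2.1, mul_mem p.1.2.1 p.2.2.1⟩
  have hf : Function.Bijective f := by
    constructor
    · rintro ⟨⟨a, a1, a2⟩, g, g1, g2, g3⟩ ⟨⟨b, b1, b2⟩, h, h1, h2, h3⟩ e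
      have e' : a * g = b * h := by
        have := congrArg Subtype.val e
        simpa [f, mul_assoc] using this
      obtain rfl := uq a2 b2 g2 h2 g3 h3 e'
      obtain rfl := mul_right_cancel e'
      rfl
    · rintro ⟨s, hs⟩
      obtain ⟨a, b, h1, h2, h3⟩ := ex (y * s)
      have q : ((y * s : G) : G ⧸ S) ^ 2 = 1 := by
        rw [QuotientGroup.mk_mul, (QuotientGroup.eq_one_iff s).2 hs, mul_one, pow_two,
          ← QuotientGroup.mk_mul, QuotientGroup.eq_one_iff]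
        exact hy
      have m : (y * s) ^ b ∈ S := by
        rw [← QuotientGroup.eq_one_iff]
        have d1 : orderOf (((y * s) ^ b : G) : G ⧸ S) ∣ 2 := orderOf_dvd_of_pow_eq_one (by
          rw [QuotientGroup.mk_zpow, ← zpow_natCast, ← zpow_mul, mul_comm, zpow_mul, zpow_natCast, q,
            one_zpow])
        have d2 := orderOf_map_dvd (QuotientGroup.mk' S) ((y * s) ^ b)
        exact orderOf_eq_one_iff.1 (Nat.eq_one_of_dvd_coprimes (Nat.coprime_two_left.2 h2) d1 d2)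
      have e : y⁻¹ * (y * s) ^ a * (y * s) ^ b = s := by
        rw [mul_assoc, ← zpow_add, h3, zpow_one, inv_mul_cancel_left]
      refine ⟨⟨⟨(y * s) ^ a, ?_, h1⟩, (y * s) ^ b, m, Commute.zpow_zpow_self _ _ _, h2⟩,
        Subtype.ext e⟩
      rw [eq_mul_inv_of_mul_eq e]
      exact mul_mem hs (inv_mem m)
  rw [← Nat.card_eq_of_bijective f hf, Nat.card_sigma, Finset.sum_congr rfl
    fun a _ => hl a.1 a.2.1 a.2.2, Finset.sum_const, Finset.card_univ, smul_eq_mul,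
    Nat.card_eq_fintype_card]

end Cfsg.Agent.H17.PcCnt
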