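import Cfsg.Agent.H17.YaF
import Cfsg.Agent.H89.Sy
import Cfsg.Prelude.Def_Classical

/-!
# Simple groups with the Sylow 2-subgroup of the alternating group of degree twelve: interfaces
-/

set_option autoImplicit false
set_option maxRecDepth 100000
set_option exponentiation.threshold 10000

namespace Cfsg.Agent.H17.Tw

open Equiv Subgroup Cfsg.Agent.H89.TG Cfsg.Agent.H89.Rec Cfsg.Agent.H17.Ya

universe u v

/-! ### The model -/

theorem av_mod (i : ℕ) : av (i % 64) = av i :=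
  El.ext' (by rw [av_val, av_val, avc, avc, ent, ent]; exact congrArg _ (Nat.mod_mod _ _))

theorem av_T' (i : ℕ) : av i ∈ T := av_mod i ▸ av_T _ (Nat.mod_lt _ (by decide))

/-- The elements of the elementary abelian group of order 64 inside the Sylow subgroup. -/
noncomputable def tv (i : ℕ) : T := ⟨av i, av_T' i⟩

theorem tv_val (i : ℕ) : (tv i : El) = av i := rfl

theorem tv_mul {a b : ℕ} (ha : a < 64) (hb : b < 64) : tv a * tv b = tv (a ^^^ b) :=
  Subtype.ext (av_mul a ha b hb)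

theorem tv_sq {a : ℕ} (ha : a < 64) : tv a * tv a = 1 := Subtype.ext (av_sq ha)

theorem tv_comm {a b : ℕ} (ha : a < 64) (hb : b < 64) : Commute (tv a) (tv b) :=
  Subtype.ext (av_comm ha hb).eq

theorem tv_inj {a b : ℕ} (ha : a < 64) (hb : b < 64) (h : tv a = tv b) : a = b :=
  av_inj a ha b hb (congrArg Subtype.val h)

theorem tv0 : tv 0 = 1 := Subtype.ext av0

theorem tc' (u : T) : Commute u (tv 21) := Subtype.ext (by
  rw [coe_mul, coe_mul, tv_val, av21]; exact (zc _).eq)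

/-- The sign changes. -/
noncomputable def E0 : Subgroup El := hp.ker

instance : E0.Normal := hp.normal_ker

/-- The elementary abelian group of order 64. -/
def A0 : Subgroup El where
  carrier := {h | ∃ i < 64, h = av i}
  one_mem' := ⟨0, by decide, av0.symm⟩
  mul_mem' := by
    rintro _ _ ⟨a, ha, rfl⟩ ⟨b, hb, rfl⟩
    exact ⟨_, xor_lt ha hb, av_mul a ha b hb⟩
  inv_mem' := by
    rintro _ ⟨a, ha, rfl⟩
    exact ⟨a, ha, inv_eq_of_mul_eq_one_right (av_sq ha)⟩

/-- The test for the sign changes. -/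
noncomputable def eB (c : ℕ) : Bool := forceB c fun c =>
  allF (fun i => Nat.beq (Nat.div (ap c (Nat.mul 2 i)) 2) i) 6

theorem mem_E {h : El} : h ∈ E0 ↔ eB h.val = true := by
  rw [eB, forceB_eq, ← allF_iff]
  constructor
  · intro H i hi
    have := congrArg (fun σ : Perm (Fin 6) => (σ ⟨i, hi⟩).val) (show hp h = 1 from H)
    exact neq_iff.1 ((congrArg (· / 2) (ap_val h ⟨2 * i, by omega⟩)).trans this)
  · exact fun H => hp_eq fun i => neq_iff.2 (H i i.2)

theorem av_idx : ∀ a < 64, idx (av a).val = a := by kd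

theorem mem_A {h : El} : h ∈ A0 ↔ av (idx h.val) = h :=
  ⟨by rintro ⟨a, ha, rfl⟩; rw [av_idx a ha], fun e => ⟨_, idx_lt _, e.symm⟩⟩

attribute [irreducible] eB

/-- Translate a statement into codes. -/
scoped macro "tsimp" : tactic =>
  `(tactic| ((try simp only [mem_E, mem_A, tv_val, mem_inf]); wsimp))

/-- Decide a closed statement. -/
scoped macro "kdt" : tactic => `(tactic| (tsimp; decide +kernel))

/-- Decide a statement about all elements. -/
scoped macro "wdt" : tactic => `(tactic| (tsimp; exact of_allW (by decide +kernel)))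

theorem E_le_T : E0 ≤ T := by
  have : ∀ h : El, h ∈ E0 → h ∈ T := by wdt
  exact this

theorem A_le_T : A0 ≤ T := by rintro _ ⟨a, ha, rfl⟩; exact av_T a ha

/-- The sign changes inside the Sylow subgroup. -/
noncomputable def ET : Subgroup T := E0.subgroupOf T

/-- The elementary abelian group of order 64 inside the Sylow subgroup. -/
noncomputable def AT : Subgroup T := A0.subgroupOf T

theorem mem_ET {u : T} : u ∈ ET ↔ (u : El) ∈ E0 := Iff.rfl
theorem mem_AT {u : T} : u ∈ AT ↔ (u : El) ∈ A0 := Iff.rfl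

theorem mem_AT' {u : T} : u ∈ AT ↔ ∃ i < 64, u = tv i :=
  exists_congr fun _ => and_congr_right fun _ => ⟨fun e => Subtype.ext e, fun e => congrArg Subtype.val e⟩

theorem tv_mem {a : ℕ} (ha : a < 64) : tv a ∈ AT := ⟨a, ha, rfl⟩

/-- The elements of even determinant. -/
noncomputable def T0 : Subgroup T := ((Perm.sign.comp hp).comp T.subtype).ker

instance : T0.Normal := MonoidHom.normal_ker _

/-- The action on the sign changes. -/
noncomputable def cj : El →* MulAut E0 := MulAut.conjNormal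

/-- The indices of the six reflections and of the central involution. -/
def cN : Fin 7 → ℕ := ![2, 3, 8, 12, 32, 48, 21]

theorem cN_lt : ∀ i, cN i < 64 := by decide

/-- The six reflections and the central involution. -/
noncomputable def cv (i : Fin 7) : T := tv (cN i)

/-- An elementary abelian subgroup. -/
def EA {X : Type*} [Group X] (F : Subgroup X) : Prop := ∀ x ∈ F, x * x = 1

/-! ### Frames -/

section Frames

variable {G : Type u} [Group G]

/-- The element normalises the group of order 64. -/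
def NmA (j : T →* G) (g : G) : Prop := ∀ a < 64, ∃ b < 64, Cj j g (tv a) (tv b)

/-- The element normalises the sign changes. -/
def NmE (j : T →* G) (g : G) : Prop := ∀ u ∈ ET, ∃ v ∈ ET, Cj j g u v

/-- The conjugates of the central involution. -/
def PatT (j : T →* G) (m : ℕ) : Prop := ∀ a < 64, (InD j (tv 21) (tv a) ↔ bt m a = true)

/-- The automiser of the sign changes is the symmetric group. -/
structure KS6 (j : T →* G) : Prop where
  all : ∀ m : El, ∃ g, ∀ u v : T, u ∈ ET → m * u * m⁻¹ = v → Cj j g u v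
  only : ∀ g, NmE j g → ∃ m : El, ∀ u v : T, u ∈ ET → m * u * m⁻¹ = v → Cj j g u v

/-- The automiser of the sign changes has order 48. -/
structure CaseI (j : T →* G) : Prop where
  pres : ∀ g, NmE j g → ∀ u v : T, u ∈ ET → Cj j g u v → (u ∈ AT ↔ v ∈ AT)
  cyc : ∃ g, NmE j g ∧ Cj j g (tv 1) (tv 4) ∧ Cj j g (tv 4) (tv 16) ∧ Cj j g (tv 16) (tv 1)

/-- The fusion of the Weyl group is realised. -/
structure MF (j : T →* G) : Prop where
  fr : Fr j
  rho : ∃ (N : Subgroup G) (ρ : N →* El), (∀ g, g ∈ N ↔ NmE j g) ∧ Function.Surjective ρ ∧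
    Odd (Nat.card ρ.ker) ∧ ∀ (u : T) (h : j u ∈ N), ρ ⟨j u, h⟩ = u
  mf : ∀ m : El, ∃ g, NmE j g ∧ ∀ u v : T, m * u * m⁻¹ = v → Cj j g u v

/-- The stabiliser of the central involution preserves the sign changes. -/
def PE (j : T →* G) : Prop := ∀ g, NmA j g → Commute g (j (tv 21)) →
  ∀ a < 64, ∀ b < 64, Cj j g (tv a) (tv b) → (tv a ∈ ET ↔ tv b ∈ ET)

/-- All even permutations of the six reflections are induced. -/
def A6 (j : T →* G) : Prop := ∀ π : Perm (Fin 7), π 6 = 6 → Perm.sign π = 1 →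
  ∃ g, ∀ i, Cj j g (cv i) (cv (π i))

/-- The action on the seven points. -/
structure S7 (j : T →* G) : Prop where
  perm : ∀ g, NmA j g → ∃ π : Perm (Fin 7), ∀ i, Cj j g (cv i) (cv (π i))
  nm : ∀ g (π : Perm (Fin 7)), (∀ i, Cj j g (cv i) (cv (π i))) → NmA j g
  tr : ∀ i, ∃ g, NmA j g ∧ Cj j g (cv i) (tv 21)
  all : ∀ u, InD j (tv 21) u → ∃ i, u = cv i

/-- The centraliser of the central involution. -/
abbrev CT (j : T →* G) : Subgroup G := centralizer {j (tv 21)}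

/-- The quotient of the centraliser by its core. -/
structure Qt {X : Type v} [Group X] (j : T →* G) (π : CT j →* X) (k : T →* X) : Prop where
  surj : Function.Surjective π
  odd : Odd (Nat.card π.ker)
  core : oc (⊤ : Subgroup X) = ⊥
  comp : ∀ (u : T) (h : j u ∈ CT j), π ⟨j u, h⟩ = k u

/-- Local facts in the quotient. -/
structure Loc (k : T →* G) : Prop where
  hb : ∀ i l : Fin 7, i ≠ 6 → l ≠ 6 → i ≠ l → oc (centralizer {k (cv i), k (cv l)}) = ⊥
  hc : ∀ i l n : Fin 7, i ≠ 6 → l ≠ 6 → n ≠ 6 → i ≠ l → i ≠ n → l ≠ n → ∀ y, Odd (orderOf y) →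
    Commute y (k (cv i * cv l)) → Commute y (k (cv l * cv n)) → Commute y (k (cv l))
  gen : ∀ K : Subgroup G, centralizer {k (cv 4), k (cv 5)} ≤ K → (∀ g, NmA k g → g ∈ K) → K = ⊤

/-- Local facts in the group. -/
structure LocG (j : T →* G) : Prop where
  hb : ∀ i l : Fin 7, i ≠ 6 → l ≠ 6 → i ≠ l →
    oc (centralizer {j (tv 21), j (cv i), j (cv l)}) ≤ oc (CT j)
  hc : ∀ i l n : Fin 7, i ≠ 6 → l ≠ 6 → n ≠ 6 → i ≠ l → i ≠ n → l ≠ n → ∀ y ∈ CT j,
    Odd (orderOf y) → Commute y (j (cv i * cv l)) → Commute y (j (cv l * cv n)) →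
    y * j (cv l) * y⁻¹ * j (cv l) ∈ oc (CT j)
  gen : ∀ K : Subgroup G, oc (CT j) ≤ K → centralizer {j (tv 21), j (cv 4), j (cv 5)} ≤ K →
    (∀ g ∈ CT j, NmA j g → g ∈ K) → CT j ≤ K

/-- The completion of the signalizer functor. -/
def HasW (j : T →* G) : Prop := ∃ W : Subgroup G, Odd (Nat.card W) ∧ oc (CT j) ≤ W ∧
  centralizer {j (tv 21), j (cv 4), j (cv 5)} ≤ normalizer (W : Set G) ∧
  ∀ g, NmA j g → g ∈ normalizer (W : Set G)

/-- Seven commuting involutions with balance data. -/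
structure Sev (c : Fin 7 → G) : Prop where
  sq : ∀ i, c i * c i = 1
  comm : ∀ i l, Commute (c i) (c l)
  prod : c 0 * c 1 * c 2 * c 3 * c 4 * c 5 * c 6 = 1
  card : Nat.card (closure (Set.range c)) = 64
  hi : ∀ i l n, i ≠ l → i ≠ n → l ≠ n → ∀ g ∈ centralizer {c i * c l, c l * c n},
    g * c l * g⁻¹ * c l ∈ oc (centralizer {c i * c l, c l * c n})
  hb : ∀ i l n, i ≠ l → i ≠ n → l ≠ n → oc (centralizer {c i, c l, c n}) ≤ oc (centralizer {c i})
  hc : ∀ p i l n, p ≠ i → p ≠ l → p ≠ n → i ≠ l → i ≠ n → l ≠ n → ∀ y ∈ centralizer {c p},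
    Odd (orderOf y) → Commute y (c i * c l) → Commute y (c l * c n) →
    y * c l * y⁻¹ * c l ∈ oc (centralizer {c p})

/-- The hypotheses on the centraliser in the orthogonal case. -/
structure XO (k : T →* G) : Prop where
  fr : Fr k
  core : oc (⊤ : Subgroup G) = ⊥
  cen : ∀ x, Commute x (k (tv 21))
  mf : ∀ m : El, ∃ g, ∀ u v : T, m * u * m⁻¹ = v → Cj k g u v
  nc : ∀ g (i : Fin 7) (u : T), i ≠ 6 → Cj k g (cv i) u → ∃ l, l ≠ 6 ∧ u = cv l
  a6 : A6 k

end Frames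

/-! ### Fusion -/

/-- The frame. -/
def SylStmt : Prop := ∀ (G : Type u) [Group G] [Finite G] (S : Sylow 2 G)
  (P : Sylow 2 (alternatingGroup (Fin 12))),
  Nonempty ((S : Subgroup G) ≃* (P : Subgroup (alternatingGroup (Fin 12)))) → ∃ j : T →* G, Fr j

/-- Weak closure of the sign changes. -/
def WCEStmt : Prop := ∀ (G : Type u) [Group G] [Finite G] (j : T →* G), Fr j →
  ∀ g, (∀ u ∈ ET, ∃ v, Cj j g u v) → NmE j g

/-- Elementary abelian subgroups outside the group of order 64. -/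
def MXStmt : Prop := ∀ X : Subgroup T, EA X → ¬ X ≤ AT →
  Nat.card X < Nat.card ↥(AT ⊓ normalizer (X : Set T)) ∨ X ≤ ET ∨
    (ET ≤ normalizer (X : Set T) ∧ ¬ X ≤ AT ⊔ ET) ∨ (Nat.card X ≤ 16 ∧ tv 5 ∉ X)

/-- Pairs of elementary abelian subgroups of order 32. -/
def MPStmt : Prop := ∀ X Y : Subgroup T, EA X → EA Y → Nat.card X = 32 → Nat.card Y = 32 →
  ¬ X ≤ AT → ¬ Y ≤ AT → X ≠ ET → Y ≠ ET → Nat.card ↥(X ⊓ Y) = 16 →
  ∀ x ∈ X, ∀ y ∈ Y, x * y * (x * y) = 1 ∨ x * y * (x * y) = tv 5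

/-- Existence of such pairs. -/
def MZStmt : Prop := (∀ x : T, (∀ a ∈ AT ⊓ ET, Commute x a) ↔ x ∈ AT ⊔ ET) ∧
  ∀ y : T, y * y = 1 → y ∉ AT → y ∉ ET → ((y : El) * x13 ∈ A0 ∨ y ∉ AT ⊔ ET) →
  ∃ X Y : Subgroup T, EA X ∧ EA Y ∧ Nat.card X = 32 ∧ Nat.card Y = 32 ∧ ¬ X ≤ AT ∧ ¬ Y ≤ AT ∧
    Nat.card ↥(X ⊓ Y) = 16 ∧ (∀ x ∈ X, Commute x y) ∧ (∀ x ∈ Y, Commute x y) ∧
    ∃ x ∈ X, ∃ x' ∈ Y, x * x' * (x * x') = tv 5

/-- Subgroups of the automorphism group of the sign changes. -/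
def K1Stmt : Prop := ∀ Δ : Subgroup (MulAut E0), Syl (T.map cj) Δ →
  (∃ β ∈ Δ, ∃ u : E0, Commute (u : El) g5 ∧ ¬ Commute (β u : El) g5) →
  ((∀ β ∈ Δ, ∀ u : E0, (u : El) ∈ A0 → (β u : El) ∈ A0) ∧ ∃ β ∈ Δ, ∀ u : E0,
    ((u : El) = av 1 → (β u : El) = av 4) ∧ ((u : El) = av 4 → (β u : El) = av 16) ∧
      ((u : El) = av 16 → (β u : El) = av 1)) ∨
  ∃ φ ∈ normalizer ((T.map cj : Subgroup (MulAut E0)) : Set (MulAut E0)),
    ∀ β, β ∈ Δ ↔ φ⁻¹ * β * φ ∈ cj.range

/-- Extension of automorphisms. -/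
def K2Stmt : Prop := ∀ φ ∈ normalizer ((T.map cj : Subgroup (MulAut E0)) : Set (MulAut E0)),
  ∃ α : T ≃* T, ∀ u : E0, (α ⟨u, E_le_T u.2⟩ : El) = φ u

/-- The automiser of the sign changes (uses `WCEStmt`, `K1Stmt`, `K2Stmt`). -/
def KStmt : Prop := ∀ (G : Type u) [Group G] [Finite G] (j : T →* G), Fr j →
  (∀ K : Subgroup G, ¬ Idx2 K ⊤) → CaseI j ∨ ∃ j' : T →* G, Fr j' ∧ KS6 j'

/-- The small case is impossible (uses `WCEStmt`, `MXStmt`, `MPStmt`, `MZStmt`). -/
def SCStmt : Prop := ∀ (G : Type u) [Group G] [Finite G] [IsSimpleGroup G] (j : T →* G), Fr j →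
  ¬ CaseI j

/-- Splitting. -/
def PhiStmt : Prop := ∀ (G : Type u) [Group G] [Finite G] (j : T →* G), Fr j → KS6 j →
  ∃ j' : T →* G, MF j'

/-- Control of fusion in the group of order 64. -/
def BurnStmt : Prop := ∀ (G : Type u) [Group G] [Finite G] (j : T →* G), Fr j →
  (∀ g, (∀ a < 64, ∃ v, Cj j g (tv a) v) → NmA j g) ∧ (∀ g, NmA j g → NmA j g⁻¹) ∧
  (∀ g g', NmA j g → NmA j g' → NmA j (g * g')) ∧
  (∀ g, NmA j g ↔ g ∈ normalizer ((AT.map j : Subgroup G) : Set G)) ∧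
  (∀ K : Subgroup G, j.range ≤ K → ∀ g ∈ K, ∀ a < 64, ∀ b < 64, Cj j g (tv a) (tv b) →
    ∃ n ∈ K, NmA j n ∧ Cj j n (tv a) (tv b)) ∧
  ∀ s : T, ¬ InD j (tv 21) (s * s)

/-- The pattern (uses `BurnStmt`). -/
def PatStmt : Prop := ∀ (G : Type u) [Group G] [Finite G] [IsSimpleGroup G] (j : T →* G), MF j →
  ∃ j' : T →* G, MF j' ∧ (PatT j' mS ∨ PatT j' mA)

/-- The seven points (uses `BurnStmt`). -/
def S7Stmt : Prop := ∀ (G : Type u) [Group G] [Finite G] (j : T →* G), MF j → PatT j mS → S7 j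

/-- The dichotomy (uses `BurnStmt`). -/
def DichStmt : Prop := ∀ (G : Type u) [Group G] [Finite G] (j : T →* G), MF j → S7 j →
  PE j ∨ A6 j

/-- The alternating pattern (uses `BurnStmt`). -/
def PatAStmt : Prop := ∀ (G : Type u) [Group G] [Finite G] (j : T →* G), MF j → PatT j mA →
  PE j ∧ (∀ g, NmA j g → ∃ σ : Perm (Fin 3), ∀ i : Fin 3, ∀ a < 4, ∃ b < 4,
    Cj j g (tv (4 ^ i.val * a)) (tv (4 ^ (σ i).val * b))) ∧
  ∃ g, NmA j g ∧ Cj j g (tv 1) (tv 2) ∧ Cj j g (tv 2) (tv 3) ∧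
    ∀ a < 16, Cj j g (tv (4 * a)) (tv (4 * a))

/-! ### The centraliser and its core -/

/-- The centraliser in the constrained case (uses `BurnStmt`, `WCEStmt`). -/
def HMStmt : Prop := ∀ (G : Type u) [Group G] [Finite G] (j : T →* G), MF j → PE j →
  ∃ π : CT j →* El, Qt j π T.subtype

/-- The quotient in the orthogonal case. -/
def DownStmt : Prop := ∀ (G : Type u) [Group G] [Finite G] (j : T →* G), MF j → S7 j → A6 j →
  ∃ (X : Type u) (_ : Group X) (_ : Finite X) (π : CT j →* X) (k : T →* X), Qt j π k ∧ XO k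

/-- Local facts in the Weyl group. -/
def LocMStmt : Prop := Loc T.subtype ∧ ∀ Y : Subgroup El, Odd (Nat.card Y) →
  (∀ a < 64, av a ∈ normalizer (Y : Set El)) → Y = ⊥

/-- Lifting the local facts. -/
def UpStmt : Prop := ∀ (G : Type u) [Group G] [Finite G] (X : Type v) [Group X] [Finite X]
  (j : T →* G) (π : CT j →* X) (k : T →* X), Fr j → Qt j π k → Loc k → LocG j

/-- The signalizer engine. -/
def SigStmt : Prop := ∀ (G : Type u) [Group G] [Finite G] (A : Subgroup G) (𝓓 : Set (Subgroup G)),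
  EA A → (∀ D ∈ 𝓓, D ≤ A) →
  (∀ U ≤ A, Nat.card A ≤ 4 * Nat.card U → ∃ D ∈ 𝓓, D ≤ U) →
  (∀ D ∈ 𝓓, ∀ D' ∈ 𝓓, oc (centralizer (D : Set G)) ⊓ centralizer (D' : Set G) ≤
    oc (centralizer (D' : Set G))) →
  Odd (Nat.card ↥(⨆ D ∈ 𝓓, oc (centralizer (D : Set G)))) ∧
  ∀ B ≤ A, (∀ U ≤ B, Nat.card B ≤ 2 * Nat.card U → ∃ D ∈ 𝓓, D ≤ U) → centralizer (B : Set G) ≤
    normalizer ((⨆ D ∈ 𝓓, oc (centralizer (D : Set G)) : Subgroup G) : Set G)

/-- Balance for seven points (uses `SigStmt`). -/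
def BalStmt : Prop := ∀ (G : Type u) [Group G] [Finite G] (c : Fin 7 → G), Sev c →
  ∃ W : Subgroup G, Odd (Nat.card W) ∧ oc (centralizer {c 6}) ≤ W ∧
    centralizer {c 6, c 4, c 5} ≤ normalizer (W : Set G) ∧
    ∀ g (π : Perm (Fin 7)), (∀ i, g * c i * g⁻¹ = c (π i)) → g ∈ normalizer (W : Set G)

/-- The balance data. -/
def SevStmt : Prop := ∀ (G : Type u) [Group G] [Finite G] (j : T →* G), Fr j → S7 j → LocG j →
  Sev fun i => j (cv i)

/-- Cores of involution centralisers in three groups. -/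
def OInvStmt : Prop := ∀ (X : Type u) [Group X] [Finite X],
  (Nonempty (X ≃* alternatingGroup (Fin 8)) ∨ Nonempty (X ≃* alternatingGroup (Fin 9)) ∨
    ∃ (F : Type) (_ : Field F) (_ : Fintype F), Fintype.card F = 3 ∧ Nonempty (X ≃* Cfsg.PSp 2 F)) →
  ∀ (S : Sylow 2 X) (z : X), z ∈ (S : Subgroup X) → (∀ s ∈ (S : Subgroup X), s * z = z * s) →
    orderOf z = 2 → oc (centralizer {z}) = ⊥

/-- The centraliser of the third four group (uses `PatAStmt`, `OInvStmt`). -/
def V3Stmt : Prop := ∀ (G : Type u) [Group G] [Finite G] (j : T →* G) (π : CT j →* El), MF j →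
  PatT j mA → Qt j π T.subtype →
  oc (CT j) ⊓ centralizer {j (cv 4), j (cv 5)} ≤ oc (centralizer {j (cv 4), j (cv 5)})

/-- The signalizer functor for the alternating pattern (uses `SigStmt`, `BurnStmt`, `PatAStmt`,
`LocMStmt`). -/
def SigAStmt : Prop := ∀ (G : Type u) [Group G] [Finite G] (j : T →* G) (π : CT j →* El), MF j →
  PatT j mA → Qt j π T.subtype →
  oc (CT j) ⊓ centralizer {j (cv 4), j (cv 5)} ≤ oc (centralizer {j (cv 4), j (cv 5)}) → HasW j

/-- Holt's theorem (uses `BurnStmt`). -/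
def HoltStmt : Prop := ∀ (G : Type u) [Group G] [Finite G] [IsSimpleGroup G] (j : T →* G), MF j →
  ∀ P : Subgroup G, CT j ≤ P →
  (∀ a < 64, InD j (tv 21) (tv a) → ∃ g ∈ P, Cj j g (tv a) (tv 21)) →
  P = ⊤ ∨ Nonempty (G ≃* alternatingGroup (Fin 12)) ∨ Nonempty (G ≃* alternatingGroup (Fin 13))

end Cfsg.Agent.H17.Tw
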