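import Cfsg.Agent.H17.TwA

/-!
# The frame, control of fusion, the pattern
-/

set_option autoImplicit false
set_option maxRecDepth 100000
set_option exponentiation.threshold 10000

namespace Cfsg.Agent.H17.Tw

open Equiv Subgroup Cfsg.Agent.H89.TG Cfsg.Agent.H89.Rec Cfsg.Agent.H17.Ya

universe u

theorem rho_T : ∀ q < 8, rho q ∈ T := by kd

theorem rho_A : ∀ q < 8, ∀ q' < 8, rho q * (rho q')⁻¹ ∈ A0 → q = q' := by kdt

theorem card_T : Nat.card T = 512 := by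
  let f : Fin 64 × Fin 8 → T := fun x => tv x.1 * ⟨rho x.2, rho_T _ x.2.2⟩
  have hf : Function.Bijective f := by
    refine ⟨fun x y e => ?_, fun u => ?_⟩
    · have e' : av x.1 * rho x.2 = av y.1 * rho y.2 := congrArg Subtype.val e
      have h2 : x.2 = y.2 := Fin.ext (rho_A _ x.2.2 _ y.2.2 (by
        rw [show rho x.2 * (rho y.2)⁻¹ = (av x.1)⁻¹ * av y.1 by
          rw [eq_inv_mul_iff_mul_eq, ← mul_assoc, e', mul_inv_cancel_right]]
        exact A0.mul_mem (A0.inv_mem ⟨_, x.1.2, rfl⟩) ⟨_, y.1.2, rfl⟩))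
      rw [h2] at e'
      exact Prod.ext (Fin.ext (av_inj _ x.1.2 _ y.1.2 (mul_right_cancel e'))) h2
    · obtain ⟨q, hq, e⟩ := decT u u.2
      exact ⟨(⟨_, idx_lt _⟩, ⟨q, hq⟩), Subtype.ext e⟩
  simpa using (Nat.card_eq_of_bijective f hf).symm

theorem card_AT : Nat.card AT = 64 := by
  let f : Fin 64 → AT := fun x => ⟨tv x, tv_mem x.2⟩
  have hf : Function.Bijective f := ⟨fun x y e => Fin.ext (tv_inj x.2 y.2 (congrArg Subtype.val e)),
    fun u => let ⟨i, hi, e⟩ := mem_AT'.1 u.2; ⟨⟨i, hi⟩, Subtype.ext e.symm⟩⟩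
  simpa using (Nat.card_eq_of_bijective f hf).symm

theorem fr_T : Fr T.subtype := ⟨T.subtype_injective, by rw [range_subtype]; exact sylT⟩

theorem syl : SylStmt.{u} := fun G _ _ S P ⟨e⟩ => by
  let ι : T →* alternatingGroup (Fin 12) :=
    ((pm.comp T.subtype).codRestrict _ fun u => sign_pm u)
  have hi : Function.Injective ι := fun a b h =>
    Subtype.ext (pm_inj (congrArg (fun x : alternatingGroup (Fin 12) => x.1) h))
  have hc : Nat.card (alternatingGroup (Fin 12)) = 2 ^ 9 * 467775 := by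
    have := two_mul_nat_card_alternatingGroup (α := Fin 12)
    rw [Nat.card_perm, Nat.card_fin] at this
    norm_num [Nat.factorial] at this ⊢
    omega
  exact Fr.of_equiv ⟨hi, Syl.of_card (n := 9) (m := 467775) le_top (by
    rw [← Nat.card_congr (MonoidHom.ofInjective hi).toEquiv, card_T]; rfl)
    (by rw [card_top, hc]) (by decide)⟩ P S e

variable {G : Type u} [Group G] {j : T →* G}

theorem NmA.mul {n n' : G} (h : NmA j n) (h' : NmA j n') : NmA j (n' * n) := fun c hc =>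
  let ⟨d, hd, e⟩ := h c hc
  let ⟨d', hd', e'⟩ := h' d hd
  ⟨d', hd', e.trans e'⟩

theorem NmA.sigma (hi : Function.Injective j) {n : G} (hn : NmA j n) : ∃ σ : ℕ → ℕ,
    (∀ c < 64, σ c < 64) ∧ (∀ c < 64, Cj j n (tv c) (tv (σ c))) ∧
    (∀ c < 64, ∀ d < 64, σ c = σ d → c = d) ∧
    ∀ c < 64, ∀ e < 64, σ (Nat.xor c e) = Nat.xor (σ c) (σ e) := by
  choose! σ h1 h2 using hn
  refine ⟨σ, h1, h2, fun c hc d hd e => tv_inj hc hd
    (((h2 c hc).eq_iff hi (h2 d hd)).2 (congrArg tv e)), fun c hc e he => ?_⟩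
  have := (h2 c hc).mul (h2 e he)
  rw [tv_mul hc he, tv_mul (h1 c hc) (h1 e he)] at this
  exact tv_inj (h1 _ (xor_lt hc he)) (xor_lt (h1 c hc) (h1 e he))
    ((h2 _ (xor_lt hc he)).uniq hi this)

theorem NmA.inv (hi : Function.Injective j) {n : G} (hn : NmA j n) : NmA j n⁻¹ := fun d hd => by
  obtain ⟨σ, h1, h2, h3, -⟩ := hn.sigma hi
  obtain ⟨c, hc, rfl⟩ := surj64 h1 h3 (show d ∈ (Finset.range 64 : Set ℕ) by simpa using hd)
  exact ⟨c, by simpa using hc, (h2 c (by simpa using hc)).symm⟩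

theorem nmA_of (hi : Function.Injective j) {n : G} (hn : ∀ c < 64, ∃ r, Cj j n (tv c) r) :
    NmA j n := by
  choose! f h2 using hn
  intro c hc
  obtain ⟨a, ha, e⟩ := wc (fun c => f c) (fun c _ => (f c).2)
    (fun c hc d hd => ((h2 c hc).comm hi (h2 d hd) (tv_comm hc hd)).map T.subtype)
    (fun c hc d hd e => tv_inj hc hd (((h2 c hc).eq_iff hi (h2 d hd)).2 (Subtype.ext e))) c hc
  exact ⟨a, ha, (show f c = tv a from Subtype.ext e) ▸ h2 c hc⟩

theorem nmA_self (u : T) : NmA j (j u) := by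
  have k : ∀ h : El, h ∈ T → ∀ a < 64, h * av a * h⁻¹ ∈ A0 := by wdt
  intro a ha
  obtain ⟨b, hb, e⟩ := k u u.2 a ha
  exact ⟨b, hb, Cj.self' (Subtype.ext e)⟩

variable [Finite G]

theorem burn' (h : Fr j) {K : Subgroup G} (hK : j.range ≤ K) {g : G} (hg : g ∈ K) {a b : ℕ}
    (ha : a < 64) (hb : b < 64) (e : Cj j g (tv a) (tv b)) :
    ∃ n ∈ K, NmA j n ∧ Cj j n (tv a) (tv b) := by
  obtain ⟨k1, m1, k2, m2, y, e1, e2, h1, h2⟩ := h.ext2 hK hg e
  exact ⟨_, K.mul_mem (K.inv_mem m1) m2, (nmA_of h.inj fun c hc => h2 _ (tv_comm hc ha)).mul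
    ((nmA_of h.inj fun c hc => h1 _ (tv_comm hc hb)).inv h.inj), e2.trans e1.symm⟩

theorem not_sq (h : Fr j) (s : T) : ¬ InD j (tv 21) (s * s) := fun ⟨g, e⟩ => by
  obtain ⟨g', -, e1, e2⟩ := h.ext le_top tc' (mem_top g) e
  obtain ⟨v, hv⟩ := e2 s (by simp)
  exact nsq v ((congrArg Subtype.val ((hv.mul hv).uniq h.inj e1)).trans av21)

theorem nmA_iff {g : G} :
    NmA j g ↔ g ∈ normalizer ((AT.map j : Subgroup G) : Set G) := by
  refine ⟨fun h => mem_normalizer_of_cj fun u hu => ?_, fun h a ha => ?_⟩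
  · obtain ⟨a, ha, rfl⟩ := mem_AT'.1 hu
    obtain ⟨b, hb, e⟩ := h a ha
    exact ⟨_, tv_mem hb, e⟩
  · obtain ⟨u, hu, e⟩ := nrm_conj h (mem_map_of_mem j (tv_mem ha))
    obtain ⟨b, hb, rfl⟩ := mem_AT'.1 hu
    exact ⟨b, hb, e.symm⟩

theorem burn : BurnStmt.{u} := fun _ _ _ _ h =>
  ⟨fun _ => nmA_of h.inj, fun _ a => a.inv h.inj, fun _ _ a b => b.mul a, fun _ => nmA_iff,
    fun _ hK _ hg _ ha _ hb => burn' h hK hg ha hb, not_sq h⟩

theorem f_eq (h : Fr j) {d : ℕ → Bool} (hd : ∀ a < 64, (InD j (tv 21) (tv a) ↔ d a = true)) {g : G}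
    {a b : ℕ} (ha : a < 64) (hb : b < 64) (e : Cj j g (tv a) (tv b)) :
    f1 d b = f1 d a ∧ f2 d b = f2 d a := by
  obtain ⟨n, -, hn, e'⟩ := burn' h le_top (mem_top g) ha hb e
  obtain ⟨σ, h1, h2, h3, h4⟩ := hn.sigma h.inj
  rw [tv_inj hb (h1 a ha) (e'.uniq h.inj (h2 a ha))]
  exact f_inv h1 h3 h4 (fun c hc => by
    rw [Bool.eq_iff_iff, ← hd c hc, ← hd _ (h1 c hc)]
    exact ⟨(h2 c hc).inD, (h2 c hc).inD'⟩) ha

omit [Finite G] in
theorem MF.cj (h : MF j) {m : El} {u v : T} (e : m * u * m⁻¹ = v) : ∃ g, Cj j g u v :=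
  let ⟨g, _, hg⟩ := h.mf m; ⟨g, hg u v e⟩

omit [Finite G] in
/-- Every involution of the Sylow subgroup is conjugate into `A` inside the centraliser. -/
theorem MF.exists_tv (h : MF j) {u : T} (hu : u * u = 1) : ∃ g ∈ CT j, NmE j g ∧ ∃ a < 64,
    Cj j g u (tv a) ∧ ∃ m : El, m * u * m⁻¹ = av a := by
  obtain ⟨m, a, ha, e⟩ := exists_av (w := u) (congrArg Subtype.val hu)
  obtain ⟨g, h1, h2⟩ := h.mf m
  exact ⟨g, mem_centralizer_singleton_iff.2 (h2 (tv 21) (tv 21) (by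
    rw [tv_val, av21, (zc m).eq, mul_inv_cancel_right])).commute, h1, a, ha, h2 u _ e, m, e⟩

omit [Finite G] in
theorem inD_sq (hi : Function.Injective j) {u : T} (h : InD j (tv 21) u) : u * u = 1 :=
  let ⟨_, e⟩ := h
  (e.mul e).symm.eq_one hi (tv_sq (by decide))

theorem MF.pat (h : MF j) :
    PatT j 0x200000 ∨ PatT j mS ∨ PatT j mS' ∨ PatT j mA ∨ PatT j mA' := by
  classical
  obtain ⟨d, hd⟩ : ∃ d : ℕ → Bool, ∀ a, (InD j (tv 21) (tv a) ↔ d a = true) :=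
    ⟨fun a => decide (InD j (tv 21) (tv a)), fun a => by simp⟩
  have k1 : ∀ a < 64, d a = d (rp (cls a)) := fun a ha => by
    rw [Bool.eq_iff_iff, ← hd, ← hd]
    obtain ⟨g, this⟩ := h.cj (u := tv a) (v := tv _) (orb a ha).1
    exact ⟨this.inD', this.inD⟩
  have n : ∀ a (y : T), av a = y * y → d a = false := fun a y e =>
    Bool.eq_false_iff.2 fun e' => not_sq h.fr y ((show tv a = y * y from Subtype.ext e) ▸ (hd a).2 e')
  have k2 : ∀ a < 64, d a = bt (mk7 (d 2) (d 6) (d 10) (d 22) (d 26) (d 42) (d 43)) a :=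
    fun a ha => by
      rw [mk7_spec _ _ _ _ _ _ _ a ha, k1 a ha]
      have := (orb a ha).2
      generalize cls a = i at this
      interval_cases i
      exacts [n 0 1 (by simp [av0]), (hd 21).1 (InD.self j _),
        n 16 ⟨g5 * x34 * x35 * x34, by kd⟩ (by kd), n 5 ⟨av 10 * x13, by kd⟩ (by kd),
        rfl, rfl, rfl, rfl, rfl, rfl, rfl]
  have t := mk7_test (d 2) (d 6) (d 10) (d 22) (d 26) (d 42) (d 43)
  generalize mk7 (d 2) (d 6) (d 10) (d 22) (d 26) (d 42) (d 43) = M at t k2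
  have hM : PatT j M := fun a ha => k2 a ha ▸ hd a
  have k3 : ∀ i < 11, bt M (rp i) = true → f1 (bt M) (rp i) = f1 (bt M) 21 ∧
      f2 (bt M) (rp i) = f2 (bt M) 21 := fun i hj e => by
    have l := (by decide +kernel : ∀ j < 11, rp j < 64) i hj
    obtain ⟨g, hg⟩ := (hM _ l).2 e
    exact f_eq h.fr hM (by decide) l hg.symm
  rw [forceB_eq, ← bimp_iff, ← bimp_iff] at t
  have := t (allF_iff.1 fun j hj => bimp_iff.1 fun e => neq_iff.1 (k3 j hj e).1)
    (allF_iff.1 fun j hj => bimp_iff.1 fun e => neq_iff.1 (k3 j hj e).2)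
  simp only [← bor_iff, ← neq_iff] at this
  rcases this with rfl | rfl | rfl | rfl | rfl
  exacts [.inl hM, .inr (.inl hM), .inr (.inr (.inl hM)), .inr (.inr (.inr (.inl hM))),
    .inr (.inr (.inr (.inr hM)))]

theorem tw_cases (w : El) : tw' w = w ∨ tw' w = w * z0 := by
  change w * (if _ then _ else _) = w ∨ w * (if _ then _ else _) = _
  split_ifs <;> simp

theorem tw_E {w : El} (h : w ∈ E0) : tw' w = w := by
  change w * (if _ then _ else _) = w
  rw [show hp w = 1 from h]; simp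

theorem z0_E : z0 ∈ E0 := by kdt

theorem tw_mem {K : Subgroup El} (hK : z0 ∈ K) {w : El} : tw' w ∈ K ↔ w ∈ K := by
  rcases tw_cases w with e | e <;> rw [e]
  exact K.mul_mem_cancel_right hK

/-- The twist as an automorphism. -/
noncomputable def twE : El ≃* El := MulEquiv.ofBijective tw' tw_bij

/-- The twist on the Sylow subgroup. -/
noncomputable def twT : T →* T :=
  (tw'.comp T.subtype).codRestrict _ fun u => (tw_mem (E_le_T z0_E)).2 u.2

theorem twT_val (u : T) : (twT u : El) = tw' u := rfl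

theorem twT_bij : Function.Bijective twT :=
  Finite.injective_iff_bijective.1 fun _ _ e => Subtype.ext (tw_bij.1 (congrArg Subtype.val e))

theorem twT_E {u : T} (h : u ∈ ET) : twT u = u := Subtype.ext (tw_E h)

theorem twT_tv {a : ℕ} (ha : a < 64) : twT (tv a) = tv (th a) := Subtype.ext (tw_av ha)

omit [Finite G] in
theorem nmE_tw {g : G} : NmE (j.comp twT) g ↔ NmE j g :=
  forall₂_congr fun u hu => exists_congr fun v => and_congr_right fun hv => by
    rw [Cj.comp, twT_E hu, twT_E hv]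

theorem MF.tw (h : MF j) : MF (j.comp twT) := by
  obtain ⟨N, ρ, h1, h2, h3, h4⟩ := h.rho
  refine ⟨h.fr.comp twT_bij, ⟨N, twE.symm.toMonoidHom.comp ρ, fun g => by rw [nmE_tw, h1],
    twE.symm.surjective.comp h2, ?_, fun u hu => ?_⟩, fun m => ?_⟩
  · rwa [← MonoidHom.comap_ker, (MonoidHom.ker_eq_bot_iff _).2 twE.symm.injective,
      MonoidHom.comap_bot]
  · exact (congrArg twE.symm (h4 (twT u) hu)).trans (twE.symm_apply_apply _)
  · obtain ⟨g, a, b⟩ := h.mf (tw' m)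
    exact ⟨g, nmE_tw.2 a, fun u v e => Cj.comp.2 (b _ _ (by
      rw [twT_val, twT_val, ← e, map_mul, map_mul, map_inv]))⟩

omit [Finite G] in
theorem PatT.tw {m m' : ℕ} (hp : PatT j m') (e : ∀ a < 64, bt m' (th a) = bt m a) :
    PatT (j.comp twT) m := fun a ha => by
  rw [← e a ha, ← hp _ (Nat.lt_succ_of_le (aw_spec a ha).2.2.1), ← twT_tv ha]
  exact exists_congr fun g => by rw [Cj.comp, twT_E (u := tv 21) (by rw [mem_ET]; kdt)]

theorem tv_ne {a : ℕ} (ha : a < 64) (h : a ≠ 0) : tv a ≠ 1 := fun e =>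
  h (tv_inj ha (by decide) (e.trans tv0.symm))

theorem not_isConj (h : Fr j) : ¬ IsConj (j (tv 5)) (j (tv 21)) := fun e => by
  obtain ⟨g, hg⟩ := isConj_iff.1 e
  refine not_sq h ⟨av 10 * x13, by kd⟩ ⟨g, ?_⟩
  rwa [show (⟨av 10 * x13, by kd⟩ * ⟨av 10 * x13, by kd⟩ : T) = tv 5 from
    Subtype.ext (by simp only [coe_mul]; kdt)]

theorem pat : PatStmt.{u} := fun G _ _ _ j h => by
  rcases h.pat with a | a | a | a | a
  · obtain ⟨y, h1, h2⟩ := Fr.exists_inD (h.fr.ord2 (tv_sq (a := 5) (by decide))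
      (tv_ne (by decide) (by decide))) (h.fr.ord2 (tv_sq (a := 21) (by decide))
      (tv_ne (by decide) (by decide))) (not_isConj h.fr) h.fr (tv_sq (a := 21) (by decide))
      (tv_ne (by decide) (by decide))
    obtain ⟨g, -, -, b, hb, e, m, e'⟩ := h.exists_tv (inD_sq h.fr.inj h2)
    have := (by decide +kernel : ∀ a < 64, bt 0x200000 a = true → a = 21) b hb
      ((a b hb).1 (e.inD' h2))
    rw [this, av21] at e'
    exact absurd (Subtype.ext ((eq_z e').trans av21.symm)) h1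
  exacts [⟨j, h, .inl a⟩, ⟨_, h.tw, .inl (a.tw (by decide +kernel))⟩, ⟨j, h, .inr a⟩,
    ⟨_, h.tw, .inr (a.tw (by decide +kernel))⟩]

theorem cN_inj : ∀ a b, cN a = cN b → a = b := by decide

theorem cv_inj {a b : Fin 7} (e : cv a = cv b) : a = b := cN_inj _ _ (tv_inj (cN_lt _) (cN_lt _) e)

theorem mS_iff : ∀ a < 64, (bt mS a = true ↔ ∃ i, a = cN i) := by decide +kernel

theorem closure_cv : closure (Set.range cv) = AT := by
  refine le_antisymm ((closure_le _).2 ?_) fun u hu => ?_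
  · rintro _ ⟨i, rfl⟩
    exact tv_mem (cN_lt i)
  obtain ⟨a, ha, rfl⟩ := mem_AT'.1 hu
  have m : ∀ i, tv (cN i) ∈ closure (Set.range cv) := fun i => subset_closure ⟨i, rfl⟩
  have k : ∀ a < 64, ∀ b < 64, tv a ∈ closure (Set.range cv) → tv b ∈ closure (Set.range cv) →
      tv (a ^^^ b) ∈ closure (Set.range cv) := fun a ha b hb h h' =>
    tv_mul ha hb ▸ mul_mem h h'
  have m0 : tv 0 ∈ closure (Set.range cv) := tv0 ▸ one_mem _
  have b1 : ∀ a < 4, tv a ∈ closure (Set.range cv) := fun a ha => by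
    interval_cases a
    exacts [m0, k 2 (by decide) 3 (by decide) (m 0) (m 1), m 0, m 1]
  have b2 : ∀ a < 4, tv (4 * a) ∈ closure (Set.range cv) := fun a ha => by
    interval_cases a
    exacts [m0, k 8 (by decide) 12 (by decide) (m 2) (m 3), m 2, m 3]
  have b3 : ∀ a < 4, tv (16 * a) ∈ closure (Set.range cv) := fun a ha => by
    interval_cases a
    exacts [m0, k 32 (by decide) 48 (by decide) (m 4) (m 5), m 4, m 5]
  rw [(by decide : ∀ a < 64, a = (a % 4 ^^^ 4 * (a / 4 % 4)) ^^^ 16 * (a / 16)) a ha]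
  exact k _ (xor_lt (by omega) (by omega)) _ (by omega)
    (k _ (by omega) _ (by omega) (b1 _ (by omega)) (b2 _ (by omega))) (b3 _ (by omega))

omit [Finite G] in
theorem nmA_of_cv {g : G} (h : ∀ i, ∃ v ∈ AT, Cj j g (cv i) v) : NmA j g := fun a ha => by
  have : ∀ u ∈ closure (Set.range cv), ∃ v ∈ AT, Cj j g u v := fun u hu => by
    induction hu using closure_induction with
    | mem x hx => obtain ⟨i, rfl⟩ := hx; exact h i
    | one => exact ⟨1, one_mem _, Cj.one g⟩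
    | mul x y _ _ a b =>
      obtain ⟨v, hv, e⟩ := a
      obtain ⟨v', hv', e'⟩ := b
      exact ⟨_, mul_mem hv hv', e.mul e'⟩
    | inv x _ a => obtain ⟨v, hv, e⟩ := a; exact ⟨_, inv_mem hv, e.inv⟩
  obtain ⟨v, hv, e⟩ := this _ (closure_cv.ge (tv_mem ha))
  obtain ⟨b, hb, rfl⟩ := mem_AT'.1 hv
  exact ⟨b, hb, e⟩

theorem refl_T0 : ∀ m : El, m * g1 * m⁻¹ ∈ T → m * g1 * m⁻¹ ∈ A0 := by wdt

theorem refl_cl : ∀ a < 64, bt mS a = true → av a = z0 ∨ ∃ i < 24, av a = nh i * g1 * (nh i)⁻¹ := by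
  kd

theorem refl_T (m : El) (a : ℕ) (ha : a < 64) (h : bt mS a = true) (h' : m⁻¹ * av a * m ∈ T) :
    m⁻¹ * av a * m ∈ A0 := by
  rcases refl_cl a ha h with e | ⟨i, -, e⟩
  · rw [e, (zc _).eq, inv_mul_cancel_right]
    exact ⟨21, by decide, av21.symm⟩
  · have e' : m⁻¹ * av a * m = m⁻¹ * nh i * g1 * (m⁻¹ * nh i)⁻¹ := by rw [e]; group
    rw [e'] at h' ⊢
    exact refl_T0 _ h'

theorem s7 : S7Stmt.{u} := fun G _ _ j h hp => by
  have hD : ∀ i, InD j (tv 21) (cv i) := fun i =>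
    (hp _ (cN_lt i)).2 ((mS_iff _ (cN_lt i)).2 ⟨i, rfl⟩)
  refine ⟨fun g hg => ?_, fun g π e => nmA_of_cv fun i => ⟨_, tv_mem (cN_lt _), e i⟩,
    fun i => ?_, fun u hu => ?_⟩
  · have : ∀ i, ∃ l, Cj j g (cv i) (cv l) := fun i => by
      obtain ⟨b, hb, e⟩ := hg _ (cN_lt i)
      obtain ⟨l, rfl⟩ := (mS_iff b hb).1 ((hp b hb).1 (e.inD' (hD i)))
      exact ⟨l, e⟩
    choose f hf using this
    exact ⟨ofBijective f (Finite.injective_iff_bijective.1 fun a b e =>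
      cv_inj (((hf a).eq_iff h.fr.inj (hf b)).2 (congrArg cv e))), hf⟩
  · obtain ⟨g, e⟩ := hD i
    obtain ⟨n, -, a, b⟩ := burn' h.fr le_top (mem_top g) (cN_lt i) (by decide) e
    exact ⟨n, a, b⟩
  · obtain ⟨g, -, -, b, hb, e, m, e'⟩ := h.exists_tv (inD_sq h.fr.inj hu)
    have e2 : m⁻¹ * av b * m = u := by rw [← e']; group
    obtain ⟨a, ha, rfl⟩ := mem_AT'.1 (show u ∈ AT from
      mem_AT.2 (e2 ▸ refl_T m b hb ((hp b hb).1 (e.inD' hu)) (e2 ▸ u.2)))
    obtain ⟨i, rfl⟩ := (mS_iff a ha).1 ((hp a ha).1 hu)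
    exact ⟨i, rfl⟩

theorem odd_inv (Y : Subgroup El) (hY : Odd (Nat.card Y))
    (hn : ∀ a < 64, av a ∈ normalizer (Y : Set El)) : Y = ⊥ := eq_bot_iff.2 fun y hy => by
  have od : ∀ o ∈ Y, ∀ k : ℕ, o ^ 2 ^ k = 1 → o = 1 := fun o ho k e =>
    eq_one_of_odd_of_pow (odd_orderOf_of_mem hY ho) e
  have k : ∀ c < 64, (av c * y * (av c)⁻¹ * y⁻¹) ^ 2 = 1 → av c * y * (av c)⁻¹ * y⁻¹ = 1 :=
    fun c hc e => od _ (Y.mul_mem (nrm_conj (hn c hc) hy) (Y.inv_mem hy)) 1 (by rw [pow_one, e])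
  exact od y hy 3 (odd2 y (k 1 (by decide) (odd1 y).1) (k 4 (by decide) (odd1 y).2.1)
    (k 16 (by decide) (odd1 y).2.2))

theorem oc_El : oc (⊤ : Subgroup El) = ⊥ :=
  odd_inv _ (oc_odd _) fun _ _ => oc_nrm (le_normalizer trivial)

end Cfsg.Agent.H17.Tw
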