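import Cfsg.Agent.H17.TwC

/-!
# Local facts in the Weyl group
-/

set_option autoImplicit false
set_option maxRecDepth 100000
set_option exponentiation.threshold 10000

namespace Cfsg.Agent.H17.Tw

open Equiv Subgroup Cfsg.Agent.H89.TG Cfsg.Agent.H89.Rec Cfsg.Agent.H17.Ya

/-- The indices of the reflections, coded. -/
noncomputable def cN' (i : ℕ) : ℕ := fld 8 255 (nat_lit 0x1530200c080302) i

theorem cN'_eq : ∀ i : Fin 7, cN i = cN' i := by decide +kernel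

theorem hc0 : ∀ w : El, ∀ i < 6, i ≠ 0 → Commute w (av (Nat.xor (cN' i) 2)) →
    ∀ n < 6, i ≠ n → 0 ≠ n → Commute w (av (Nat.xor 2 (cN' n))) → Commute (w * w) g1 := by wd

theorem hc1 : ∀ l < 6, ∃ s < 24, nh s * av (cN' l) * (nh s)⁻¹ = g1 ∧ ∀ i < 6, i ≠ l →
    ∀ n < 6, i ≠ n → l ≠ n → ∃ i' < 6, ∃ n' < 6, i' ≠ 0 ∧ i' ≠ n' ∧ 0 ≠ n' ∧
      nh s * av (Nat.xor (cN' i) (cN' l)) * (nh s)⁻¹ = av (Nat.xor (cN' i') 2) ∧
      nh s * av (Nat.xor (cN' l) (cN' n)) * (nh s)⁻¹ = av (Nat.xor 2 (cN' n')) := by kd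

theorem hc_El (w : El) (l : ℕ) (hl : l < 6) (i : ℕ) (hi : i < 6) (a : i ≠ l)
    (h1 : Commute w (av (Nat.xor (cN' i) (cN' l)))) (n : ℕ) (hn : n < 6) (b : i ≠ n) (c : l ≠ n)
    (h2 : Commute w (av (Nat.xor (cN' l) (cN' n)))) : Commute (w * w) (av (cN' l)) := by
  obtain ⟨s, -, e, k⟩ := hc1 l hl
  obtain ⟨i', p1, n', p2, p3, p4, p5, e1, e2⟩ := k i hi a n hn b c
  have := hc0 (nh s * w * (nh s)⁻¹) i' p1 p3 (e1 ▸ commute_conj h1 _) n' p2 p4 p5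
    (e2 ▸ commute_conj h2 _)
  rw [conj_mul, ← e] at this
  exact commute_of_conj this

theorem nh_A : ∀ i < 24, ∀ a < 64, nh i * av a * (nh i)⁻¹ ∈ A0 := by kdt

theorem nmA_nh {i : ℕ} (hi : i < 24) : NmA T.subtype (nh i) := fun a ha =>
  let ⟨b, hb, e⟩ := nh_A i hi a ha; ⟨b, hb, e⟩

theorem locM : LocMStmt := by
  refine ⟨⟨fun i l _ _ _ => odd_inv _ (oc_odd _) fun a ha => oc_nrm (le_normalizer ?_),
    fun i l n a b c d e f y hy h1 h2 => ?_, fun K h1 h2 => eq_top_iff.2 fun w _ => ?_⟩, odd_inv⟩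
  · rintro _ (rfl | rfl) <;> exact (av_comm (cN_lt _) ha).eq
  · have k : ∀ i : Fin 7, i ≠ 6 → i.val < 6 := by decide
    have x : ∀ i l : Fin 7, T.subtype (cv i * cv l) = av (Nat.xor (cN' i) (cN' l)) := fun i l => by
      rw [← cN'_eq, ← cN'_eq]; exact av_mul _ (cN_lt i) _ (cN_lt l)
    have := hc_El y l (k l b) i (k i a) (fun x => d (Fin.ext x)) (x i l ▸ h1) n (k n c)
      (fun x => e (Fin.ext x)) (fun x => f (Fin.ext x)) (x l n ▸ h2)
    rw [← cN'_eq] at this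
    obtain ⟨r, hr⟩ := hy
    have e1 : y = (y * y) ^ (r + 1) := by
      rw [← sq, ← pow_mul, show 2 * (r + 1) = orderOf y + 1 by omega, pow_succ, pow_orderOf_eq_one,
        one_mul]
    exact e1 ▸ this.pow_left _
  · have m : ∀ x : El, Commute (av 32) x ∧ Commute (av 48) x → x ∈ K := fun x e => h1 (by
      rintro _ (rfl | rfl)
      exacts [e.1.eq, e.2.eq])
    have m2 := m g2 (by kd)
    obtain ⟨i, hi, e⟩ : ∃ i < 24, ∃ a < 64, g4 = nh i * (av a * g2 * av a) * (nh i)⁻¹ := by kd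
    obtain ⟨a, ha, e⟩ := e
    have ma : av a ∈ K := h2 _ (nmA_self (j := T.subtype) (tv a))
    exact mem6 (m _ (by kd)) m2 (m _ (by kd))
      (e ▸ conj_mem (h2 _ (nmA_nh hi)) (mul_mem (mul_mem ma m2) ma)) (m _ (by kd)) (m _ (by kd)) w

end Cfsg.Agent.H17.Tw
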